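import Cfsg.Agent.Lib.Helper28.S1692.Seeds75

set_option autoImplicit false
set_option maxRecDepth 100000
set_option linter.all false

namespace Cfsg.Agent.Helper28.S1692

open Cfsg.Agent.Helper28
open Cfsg.Spor.ON (Gen)

noncomputable section

namespace K76
abbrev LD1_c0 := D1.c0
abbrev LD1_c1 := D1.c1
abbrev LD1_c2 := D1.c2
abbrev LD1_c3 := D1.c3
abbrev LD1_c4 := D1.c4
abbrev LD1_c5 := D1.c5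
abbrev LD1_c6 := D1.c6
abbrev LD1_c7 := D1.c7
abbrev LD1_c8 := D1.c8
abbrev LD1_c9 := D1.c9
abbrev LD1_c10 := D1.c10
abbrev LD1_c11 := D1.c11
abbrev LD1_c12 := D1.c12
abbrev LD1_c13 := D1.c13
abbrev LD1_c14 := D1.c14
abbrev LD1_c15 := D1.c15
abbrev LD1_c16 := D1.c16
abbrev LD1_c17 := D1.c17
abbrev LD1_c18 := D1.c18
abbrev LD1_c19 := D1.c19
abbrev LD1_c20 := D1.c20
abbrev LD1_c21 := D1.c21
abbrev LD1_c22 := D1.c22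
abbrev LD1_c23 := D1.c23
abbrev LD1_c24 := D1.c24
abbrev LD1_c25 := D1.c25
abbrev LD1_c26 := D1.c26
abbrev LD1_c27 := D1.c27
abbrev LD1_c28 := D1.c28
abbrev LD1_c29 := D1.c29
abbrev LD1_c30 := D1.c30
abbrev LD1_c31 := D1.c31
abbrev LD1_c32 := D1.c32
abbrev LD2_c0 := D2.c0
abbrev LD2_c1 := D2.c1
abbrev LD2_c2 := D2.c2
abbrev LD2_c3 := D2.c3
abbrev LD2_c4 := D2.c4
abbrev LD2_c5 := D2.c5
abbrev LD2_c6 := D2.c6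
abbrev LD2_c7 := D2.c7
abbrev LD2_c8 := D2.c8
abbrev LD2_c9 := D2.c9
abbrev LD2_c10 := D2.c10
abbrev LD2_c11 := D2.c11
abbrev LD2_c12 := D2.c12
abbrev LD2_c13 := D2.c13
abbrev LD2_c14 := D2.c14
abbrev LD2_c15 := D2.c15
abbrev LD2_c16 := D2.c16
abbrev LD2_c17 := D2.c17
abbrev LD2_c18 := D2.c18
abbrev LD2_c19 := D2.c19
abbrev LD2_c20 := D2.c20
abbrev LD2_c21 := D2.c21
abbrev LD2_c22 := D2.c22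
abbrev LD2_c23 := D2.c23
abbrev LD2_c24 := D2.c24
abbrev LD2_c25 := D2.c25
abbrev LD2_c26 := D2.c26
abbrev LD2_c27 := D2.c27
abbrev LD2_c28 := D2.c28
abbrev LD2_c29 := D2.c29
abbrev LD2_c30 := D2.c30
abbrev LD2_c31 := D2.c31
abbrev LD2_c32 := D2.c32
abbrev LD2_c33 := D2.c33
abbrev LD2_c34 := D2.c34
abbrev LD2_c35 := D2.c35
abbrev LD2_c36 := D2.c36
abbrev LD2_c37 := D2.c37
abbrev LD2_c38 := D2.c38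
abbrev LD2_c39 := D2.c39
abbrev LD2_c40 := D2.c40
abbrev LD2_c41 := D2.c41
abbrev LD2_c42 := D2.c42
abbrev LD2_c43 := D2.c43
abbrev LD2_c44 := D2.c44
abbrev LD2_c45 := D2.c45
abbrev LD2_c46 := D2.c46
abbrev LD2_c47 := D2.c47
abbrev LD2_c48 := D2.c48
abbrev LD2_c49 := D2.c49
abbrev LD2_c50 := D2.c50
abbrev LD2_c51 := D2.c51
abbrev LD2_c52 := D2.c52
abbrev LD2_c53 := D2.c53
abbrev LD2_c54 := D2.c54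
abbrev LD2_c55 := D2.c55
abbrev LD2_c56 := D2.c56
abbrev LD2_c57 := D2.c57
abbrev LD2_c58 := D2.c58
abbrev LD2_c59 := D2.c59
abbrev LD3_c0 := D3.c0
abbrev LD3_c1 := D3.c1
abbrev LD3_c2 := D3.c2
abbrev LD3_c3 := D3.c3
abbrev LD3_c4 := D3.c4
abbrev LD3_c5 := D3.c5
abbrev LD3_c6 := D3.c6
abbrev LD3_c7 := D3.c7
abbrev LD3_c8 := D3.c8
abbrev LD3_c9 := D3.c9
abbrev LD3_c10 := D3.c10
abbrev LD3_c11 := D3.c11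
abbrev LD3_c12 := D3.c12
abbrev LD3_c13 := D3.c13
abbrev LD3_c14 := D3.c14
abbrev LD3_c15 := D3.c15
abbrev LD3_c16 := D3.c16
abbrev LD3_c17 := D3.c17
abbrev LD3_c18 := D3.c18
abbrev LD3_c19 := D3.c19
abbrev LD3_c20 := D3.c20
abbrev LD3_c21 := D3.c21
abbrev LD3_c22 := D3.c22
abbrev LD3_c23 := D3.c23
abbrev LD3_c24 := D3.c24
abbrev LD3_c25 := D3.c25
abbrev LD3_c26 := D3.c26
abbrev LD3_c27 := D3.c27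
abbrev LD3_c28 := D3.c28
abbrev LD3_c29 := D3.c29
abbrev LD3_c30 := D3.c30
abbrev LD3_c31 := D3.c31
abbrev LD3_c32 := D3.c32
abbrev LD3_c33 := D3.c33
abbrev LD3_c34 := D3.c34
abbrev LD3_c35 := D3.c35
abbrev LD3_c36 := D3.c36
abbrev LD3_c37 := D3.c37
abbrev LD3_c38 := D3.c38
abbrev LD3_c39 := D3.c39
abbrev LD3_c40 := D3.c40
abbrev LD3_c41 := D3.c41
abbrev LD3_c42 := D3.c42
abbrev LD3_c43 := D3.c43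
abbrev LD3_c44 := D3.c44
abbrev LD3_c45 := D3.c45
abbrev LD3_c46 := D3.c46
abbrev LD3_c47 := D3.c47
abbrev LD3_c48 := D3.c48
abbrev LD3_c49 := D3.c49
abbrev LD3_c50 := D3.c50
abbrev LD3_c51 := D3.c51
abbrev LD3_c52 := D3.c52
abbrev LD3_c53 := D3.c53
abbrev LD3_c54 := D3.c54
abbrev LD3_c55 := D3.c55
abbrev LD3_c56 := D3.c56
abbrev LD3_c57 := D3.c57
abbrev LD3_c58 := D3.c58
abbrev LD3_c59 := D3.c59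
abbrev LD3_c60 := D3.c60
abbrev LD3_c61 := D3.c61
abbrev LG_g := Gen.g
abbrev Lsl_gt : Gen × Bool := sl_gt
alias Lfl_gt := fl_gt
alias Lpr_gt := pr_gt
abbrev Lsl_gf : Gen × Bool := sl_gf
alias Lfl_gf := fl_gf
alias Lpr_gf := pr_gf
alias Lre_g := re_g
alias Leoe_g := eoe_g
abbrev LG_a := Gen.a
abbrev Lsl_at : Gen × Bool := sl_at
alias Lfl_at := fl_at
alias Lpr_at := pr_at
abbrev Lsl_af : Gen × Bool := sl_af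
alias Lfl_af := fl_af
alias Lpr_af := pr_af
alias Lre_a := re_a
alias Leoe_a := eoe_a
abbrev LG_b := Gen.b
abbrev Lsl_bt : Gen × Bool := sl_bt
alias Lfl_bt := fl_bt
alias Lpr_bt := pr_bt
abbrev Lsl_bf : Gen × Bool := sl_bf
alias Lfl_bf := fl_bf
alias Lpr_bf := pr_bf
alias Lre_b := re_b
alias Leoe_b := eoe_b
abbrev LG_c := Gen.c
abbrev Lsl_ct : Gen × Bool := sl_ct
alias Lfl_ct := fl_ct
alias Lpr_ct := pr_ct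
abbrev Lsl_cf : Gen × Bool := sl_cf
alias Lfl_cf := fl_cf
alias Lpr_cf := pr_cf
alias Lre_c := re_c
alias Leoe_c := eoe_c
abbrev LG_d := Gen.d
abbrev Lsl_dt : Gen × Bool := sl_dt
alias Lfl_dt := fl_dt
alias Lpr_dt := pr_dt
abbrev Lsl_df : Gen × Bool := sl_df
alias Lfl_df := fl_df
alias Lpr_df := pr_df
alias Lre_d := re_d
alias Leoe_d := eoe_d
abbrev LG_e := Gen.e
abbrev Lsl_et : Gen × Bool := sl_et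
alias Lfl_et := fl_et
alias Lpr_et := pr_et
abbrev Lsl_ef : Gen × Bool := sl_ef
alias Lfl_ef := fl_ef
alias Lpr_ef := pr_ef
alias Lre_e := re_e
alias Leoe_e := eoe_e
abbrev LG_f := Gen.f
abbrev Lsl_ft : Gen × Bool := sl_ft
alias Lfl_ft := fl_ft
alias Lpr_ft := pr_ft
abbrev Lsl_ff : Gen × Bool := sl_ff
alias Lfl_ff := fl_ff
alias Lpr_ff := pr_ff
alias Lre_f := re_f
alias Leoe_f := eoe_f
abbrev LK := Pt.mk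
abbrev LQ : Type := Qt rels S
abbrev LP (p : Pt) : LQ := P p
abbrev Led (l : Gen × Bool) (c : LQ) : LQ := ed l c
abbrev LEOK (x : Gen) (p : Pt) : Prop := EntryOK rels S fwd inv o plet idx x p
alias Lpe := pe
alias Lpn := pn
alias Lgr := gr
alias Lpq := pq
alias Lpqs := pqs
alias Llr := lr
alias Leop := eop
alias Lefun := efun
alias Lecon := econ
theorem Lrfl {α : Sort _} {a : α} : a = a := rfl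
alias Lrot0 := rot0
alias Lrot1 := rot1
alias Lrot2 := rot2
alias Lrot3 := rot3
alias Lrot4 := rot4
alias Lrot5 := rot5
alias Lrot6 := rot6
alias Lrot7 := rot7
alias Lrot8 := rot8
alias Lrot9 := rot9
alias Lrot10 := rot10
alias Lrot11 := rot11
alias Lrot12 := rot12
alias Lrot14 := rot14
alias Lrot15 := rot15
alias Lrot17 := rot17
alias Lrot18 := rot18
alias Lrot19 := rot19
alias Lrot20 := rot20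
alias Lrot21 := rot21
alias Lrot22 := rot22
alias Lrot23 := rot23
alias Lrot24 := rot24
alias Lrot25 := rot25
alias Lrot26 := rot26
alias Lrot27 := rot27
alias Lrot28 := rot28
alias Lrot29 := rot29
alias Lrot30 := rot30
alias Lrot31 := rot31
alias Lrot33 := rot33
alias Lrot34 := rot34
alias Lrot35 := rot35
alias Lrot36 := rot36
alias Lrot37 := rot37
alias Lrot38 := rot38
alias Lrot39 := rot39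
alias Lrot40 := rot40
alias Lrot42 := rot42
alias Lrot44 := rot44
alias Lrot45 := rot45
alias Lrot46 := rot46
alias Lrot47 := rot47
alias Lrot48 := rot48
alias Lrot49 := rot49
alias Lrot50 := rot50
alias Lrot51 := rot51
alias Lrot52 := rot52
alias Lrot54 := rot54
alias Lrot56 := rot56
alias Lrot57 := rot57
alias Lrot59 := rot59
alias Lrot60 := rot60
alias Lrot61 := rot61
alias Lrot62 := rot62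
alias Lrot63 := rot63
alias Lrot64 := rot64
alias Lrot65 := rot65
alias Lrot66 := rot66
alias Lrot67 := rot67
alias Lrot68 := rot68
alias Lrot69 := rot69
alias Lrot70 := rot70
alias Lrot71 := rot71
alias Lrot72 := rot72
alias Lrot73 := rot73
alias Lrot74 := rot74
alias Lrot75 := rot75
alias Lrot76 := rot76
alias Lrot77 := rot77
alias Lrot78 := rot78
alias Lrot79 := rot79
alias Lrot80 := rot80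
alias Lrot81 := rot81
alias Lrot82 := rot82
alias Lrot83 := rot83
alias Lrot84 := rot84
alias Lrot85 := rot85
alias Lrot86 := rot86
alias Lrot87 := rot87
alias Lrot88 := rot88
alias Lrot90 := rot90
alias Lrot91 := rot91
alias Lrot92 := rot92
alias Lrot93 := rot93
alias Lrot94 := rot94
alias Lrot95 := rot95
alias Lrot96 := rot96
alias Lrot97 := rot97
alias Lrot99 := rot99
alias Lrot100 := rot100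
alias Lrot101 := rot101
alias Lrot102 := rot102
alias Lrot103 := rot103
alias Lrot104 := rot104
alias Lrot105 := rot105
alias Lrot107 := rot107
alias Lrot108 := rot108
alias Lrot109 := rot109
alias Lrot110 := rot110
alias Lrot111 := rot111
alias Lrot112 := rot112
alias Lrot113 := rot113
alias Lrot114 := rot114
alias Lrot117 := rot117
alias Lrot118 := rot118
alias Lrot119 := rot119
alias Lrot120 := rot120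
alias Lrot121 := rot121
alias Lrot122 := rot122
alias Lrot123 := rot123
alias Lrot124 := rot124
alias Lrot125 := rot125
alias Lrot126 := rot126
alias Lrot127 := rot127
alias Lrot128 := rot128
alias Lrot129 := rot129
alias Lrot130 := rot130
alias Lrot131 := rot131
alias Lrot132 := rot132
alias Lrot134 := rot134
alias Lrot135 := rot135
alias Lrot136 := rot136
alias Lrot137 := rot137
alias Lrot138 := rot138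
alias Lrot139 := rot139
alias Lrot141 := rot141
alias Lrot143 := rot143
alias Lrot144 := rot144
alias Lrot145 := rot145
alias Lrot147 := rot147
alias Lrot148 := rot148
alias Lrot150 := rot150
alias Lrot151 := rot151
alias Lrot152 := rot152
alias Lrot153 := rot153
alias Lrot154 := rot154
alias Lrot155 := rot155
alias Lrot156 := rot156
alias Lrot158 := rot158
alias Lrot160 := rot160
alias Lrot162 := rot162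
alias Lrot163 := rot163
alias Lrot164 := rot164
alias Lrot165 := rot165
alias Lrot166 := rot166
alias Lrot167 := rot167
alias Lrot168 := rot168
alias Lrot169 := rot169
alias Lrot170 := rot170
alias Lrot172 := rot172
alias Lrot174 := rot174
alias Lrot175 := rot175
alias Lrot177 := rot177
alias Lrot178 := rot178
alias Lrot179 := rot179
alias Lrot181 := rot181
alias Lrot182 := rot182
alias Lrot183 := rot183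
alias Lrot186 := rot186
alias Lrot187 := rot187

section
variable (IH : IHT)
include IH

def v42810 : LQ := Led Lsl_bt (LP (LK LD1_c10 LD2_c17 LD3_c11))
theorem f936041 : Led Lsl_bt (LP (LK LD1_c10 LD2_c17 LD3_c11)) = v42810 :=
  Lrfl
theorem f427620 : Led Lsl_et (LP (LK LD1_c18 LD2_c42 LD3_c4)) = (LP (LK LD1_c10 LD2_c17 LD3_c11)) :=
  Lre_e IH (LK LD1_c18 LD2_c42 LD3_c4) (LK LD1_c10 LD2_c17 LD3_c11) Lrfl Lrfl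
theorem f881078 : Led Lsl_ct (LP (LK LD1_c9 LD2_c48 LD3_c6)) = K67.v35911 :=
  Lgr Lrot40 (Lpe (K56.f752103 IH) (Lpe (K67.f876819 IH) (Lpr_ff (K67.f881077 IH) (Lpn K67.v35911))))
theorem f138942 : Led Lsl_bt (LP (LK LD1_c17 LD2_c57 LD3_c54)) = (LP (LK LD1_c9 LD2_c48 LD3_c6)) :=
  Lre_b IH (LK LD1_c17 LD2_c57 LD3_c54) (LK LD1_c9 LD2_c48 LD3_c6) Lrfl Lrfl
theorem f427602 : Led Lsl_et (LP (LK LD1_c10 LD2_c17 LD3_c11)) = (LP (LK LD1_c18 LD2_c42 LD3_c4)) :=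
  Lre_e IH (LK LD1_c10 LD2_c17 LD3_c11) (LK LD1_c18 LD2_c42 LD3_c4) Lrfl Lrfl
theorem f138941 : Led Lsl_et (LP (LK LD1_c17 LD2_c57 LD3_c54)) = (LP (LK LD1_c9 LD2_c47 LD3_c36)) :=
  Lre_e IH (LK LD1_c17 LD2_c57 LD3_c54) (LK LD1_c9 LD2_c47 LD3_c36) Lrfl Lrfl
theorem f427603 : Led Lsl_ct (LP (LK LD1_c18 LD2_c42 LD3_c4)) = (LP (LK LD1_c17 LD2_c57 LD3_c54)) :=
  Lgr Lrot15 (Lpe (f427602 IH) (Lpr_cf (K36.f427597 IH) (Lpe (f138941 IH) (Lpn (LP (LK LD1_c17 LD2_c57 LD3_c54))))))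
theorem f881098 : Led Lsl_bf (LP (LK LD1_c18 LD2_c42 LD3_c4)) = K75.v35912 :=
  Lgr Lrot90 (Lpr_ct (f427603 IH) (Lpr_bt (f138942 IH) (Lpr_ct (f881078 IH) (Lpe (K67.f881076 IH) (Lpr_ct (K75.f881097 IH) (Lpn K75.v35912))))))
theorem f936045 : Led Lsl_ef K75.v35912 = v42810 :=
  Lgr Lrot29 (Lpe (f881098 IH) (Lpr_et (f427620 IH) (Lpr_bt (f936041 IH) (Lpn v42810))))
theorem f560033 : Led Lsl_gf (LP (LK LD1_c10 LD2_c17 LD3_c42)) = (LP (LK LD1_c18 LD2_c42 LD3_c3)) :=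
  Lgr Lrot143 (Lpr_dt (K36.f198581 IH) (Lpe (K38.f186534 IH) (Lpe (K38.f308145 IH) (Lpqs (K40.f542406 IH) (Lpe (K40.f538320 IH) (Lpe (K72.f175920 IH) (Lpr_gf (K42.f552443 IH) (Lpe (K42.f546422 IH) (Lpr_gt (K42.f560027 IH) (Lpr_dt (K36.f427601 IH) (Lpn (LP (LK LD1_c18 LD2_c42 LD3_c3)))))))))))))
theorem f265371 : Led Lsl_dt (LP (LK LD1_c5 LD2_c22 LD3_c4)) = (LP (LK LD1_c10 LD2_c34 LD3_c36)) :=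
  Lre_d IH (LK LD1_c5 LD2_c22 LD3_c4) (LK LD1_c10 LD2_c34 LD3_c36) Lrfl Lrfl
theorem f265372 : Led Lsl_ct (LP (LK LD1_c10 LD2_c34 LD3_c36)) = (LP (LK LD1_c19 LD2_c9 LD3_c39)) :=
  Lre_c IH (LK LD1_c10 LD2_c34 LD3_c36) (LK LD1_c19 LD2_c9 LD3_c39) Lrfl Lrfl
theorem f560037 : Led Lsl_bt (LP (LK LD1_c19 LD2_c9 LD3_c39)) = (LP (LK LD1_c18 LD2_c42 LD3_c3)) :=
  Lgr Lrot178 (Lpe (f265372 IH) (Lpe (f265371 IH) (Lpe (K73.f198934 IH) (Lpe (K73.f198933 IH) (Lpe (K12.f46470 IH) (Lpe (K11.f46469 IH) (Lpe (K10.f8482 IH) (Lpe (K15.f265365 IH) (Lpe (K10.f164134 IH) (Lpe (K12.f36223 IH) (Lpe (K12.f204911 IH) (Lpr_bf (K12.f204895 IH) (Lpe (K9.f177767 IH) (Lpe (K11.f166187 IH) (Lpr_gf (K11.f198577 IH) (Lpe (K19.f186560 IH) (Lpe (K36.f186561 IH) (Lpe (K36.f198581 IH) (Lpr_gf (f560033 IH) (Lpn (LP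 (LK LD1_c18 LD2_c42 LD3_c3))))))))))))))))))))))
theorem f936044 : Led Lsl_df (LP (LK LD1_c19 LD2_c9 LD3_c39)) = v42810 :=
  Lgr Lrot12 (Lpr_bt (f560037 IH) (Lpr_dt (K36.f427609 IH) (Lpr_bt (f936041 IH) (Lpn v42810))))
def v48690 : LQ := Led Lsl_dt (LP (LK LD1_c11 LD2_c33 LD3_c49))
theorem f966855 : Led Lsl_dt (LP (LK LD1_c11 LD2_c33 LD3_c49)) = v48690 :=
  Lrfl
theorem f966858 : Led Lsl_ff (LP (LK LD1_c11 LD2_c35 LD3_c33)) = v48690 :=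
  Lgr Lrot19 (Lpr_dt (K38.f545662 IH) (Lpr_ft (K38.f545672 IH) (Lpr_dt (f966855 IH) (Lpn v48690))))
theorem f572192 : Led Lsl_at (LP (LK LD1_c20 LD2_c31 LD3_c10)) = (LP (LK LD1_c11 LD2_c35 LD3_c33)) :=
  Lgr Lrot51 (Lpe (K45.f553836 IH) (Lpr_af (K42.f572189 IH) (Lpe (K38.f545662 IH) (Lpn (LP (LK LD1_c11 LD2_c35 LD3_c33))))))
theorem f572196 : Led Lsl_af (LP (LK LD1_c20 LD2_c31 LD3_c10)) = (LP (LK LD1_c11 LD2_c35 LD3_c33)) :=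
  Lgr Lrot0 (Lpr_at (f572192 IH) (Lpn (LP (LK LD1_c11 LD2_c35 LD3_c33))))
theorem f538441 : Led Lsl_dt (LP (LK LD1_c11 LD2_c35 LD3_c37)) = (LP (LK LD1_c5 LD2_c55 LD3_c4)) :=
  Lre_d IH (LK LD1_c11 LD2_c35 LD3_c37) (LK LD1_c5 LD2_c55 LD3_c4) Lrfl Lrfl
theorem f572198 : Led Lsl_ff (LP (LK LD1_c20 LD2_c31 LD3_c10)) = (LP (LK LD1_c11 LD2_c35 LD3_c37)) :=
  Lgr Lrot103 (Lpr_at (f572192 IH) (Lpr_cf (K38.f545663 IH) (Lpe (K38.f538470 IH) (Lpe (K35.f538468 IH) (Lpe (K35.f81075 IH) (Lpe (K8.f80999 IH) (Lpr_df (K35.f538435 IH) (Lpe (K38.f538440 IH) (Lpe (f538441 IH) (Lpn (LP (LK LD1_c11 LD2_c35 LD3_c37))))))))))))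
theorem f572202 : Led Lsl_ft (LP (LK LD1_c20 LD2_c31 LD3_c10)) = (LP (LK LD1_c11 LD2_c35 LD3_c37)) :=
  Lgr Lrot48 (Lpr_ff (f572198 IH) (Lpn (LP (LK LD1_c11 LD2_c35 LD3_c37))))
theorem f966860 : Led Lsl_at (LP (LK LD1_c11 LD2_c35 LD3_c37)) = v48690 :=
  Lgr Lrot66 (Lpe (f572202 IH) (Lpr_af (f572196 IH) (Lpr_ff (f966858 IH) (Lpn v48690))))
theorem f966862 : Led Lsl_gt (LP (LK LD1_c15 LD2_c26 LD3_c38)) = v48690 :=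
  Lgr Lrot46 (Lpe (K45.f572440 IH) (Lpr_ft (f572202 IH) (Lpr_at (f966860 IH) (Lpn v48690))))
theorem f572444 : Led Lsl_dt (LP (LK LD1_c8 LD2_c12 LD3_c31)) = (LP (LK LD1_c15 LD2_c26 LD3_c38)) :=
  Lre_d IH (LK LD1_c8 LD2_c12 LD3_c31) (LK LD1_c15 LD2_c26 LD3_c38) Lrfl Lrfl
theorem f575665 : Led Lsl_et (LP (LK LD1_c11 LD2_c35 LD3_c26)) = (LP (LK LD1_c5 LD2_c54 LD3_c61)) :=
  Lre_e IH (LK LD1_c11 LD2_c35 LD3_c26) (LK LD1_c5 LD2_c54 LD3_c61) Lrfl Lrfl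
theorem f575664 : Led Lsl_dt (LP (LK LD1_c11 LD2_c35 LD3_c26)) = (LP (LK LD1_c20 LD2_c33 LD3_c33)) :=
  Lre_d IH (LK LD1_c11 LD2_c35 LD3_c26) (LK LD1_c20 LD2_c33 LD3_c33) Lrfl Lrfl
theorem f966870 : Led Lsl_gt (LP (LK LD1_c19 LD2_c9 LD3_c39)) = (LP (LK LD1_c20 LD2_c33 LD3_c33)) :=
  Lgr Lrot112 (Lpr_df (f936044 IH) (Lpe (f936045 IH) (Lpr_gf (K75.f966869 IH) (Lpe (K75.f966863 IH) (Lpr_dt (f966855 IH) (Lpe (f966862 IH) (Lpe (f572444 IH) (Lpr_gf (K45.f570486 IH) (Lpe (f575665 IH) (Lpr_dt (f575664 IH) (Lpn (LP (LK LD1_c20 LD2_c33 LD3_c33)))))))))))))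
theorem f966871 : Led Lsl_gt (LP (LK LD1_c19 LD2_c9 LD3_c39)) = (LP (LK LD1_c20 LD2_c33 LD3_c33)) :=
  Leop (Lpe (f966870 IH) (Lpn (LP (LK LD1_c19 LD2_c9 LD3_c39))))
theorem seed_2930 : LEOK LG_g (LK LD1_c19 LD2_c9 LD3_c39) :=
  Leoe_g (LK LD1_c19 LD2_c9 LD3_c39) (f966871 IH)
def v48692 : LQ := Led Lsl_at (LP (LK LD1_c11 LD2_c33 LD3_c51))
theorem f966874 : Led Lsl_at (LP (LK LD1_c11 LD2_c33 LD3_c51)) = v48692 :=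
  Lrfl
theorem f420921 : Led Lsl_ft (LP (LK LD1_c20 LD2_c31 LD3_c14)) = (LP (LK LD1_c11 LD2_c34 LD3_c45)) :=
  Lre_f IH (LK LD1_c20 LD2_c31 LD3_c14) (LK LD1_c11 LD2_c34 LD3_c45) Lrfl Lrfl
theorem f420960 : Led Lsl_ct (LP (LK LD1_c11 LD2_c33 LD3_c52)) = (LP (LK LD1_c20 LD2_c31 LD3_c14)) :=
  Lre_c IH (LK LD1_c11 LD2_c33 LD3_c52) (LK LD1_c20 LD2_c31 LD3_c14) Lrfl Lrfl
theorem f575534 : Led Lsl_ft (LP (LK LD1_c15 LD2_c26 LD3_c54)) = (LP (LK LD1_c11 LD2_c33 LD3_c52)) :=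
  Lgr Lrot4 (Lpr_cf (K45.f575529 IH) (Lpe (f420921 IH) (Lpe (f420960 IH) (Lpn (LP (LK LD1_c11 LD2_c33 LD3_c52))))))
theorem f575687 : Led Lsl_ff (LP (LK LD1_c15 LD2_c26 LD3_c54)) = (LP (LK LD1_c11 LD2_c33 LD3_c52)) :=
  Lgr Lrot3 (Lpr_ft (f575534 IH) (Lpn (LP (LK LD1_c11 LD2_c33 LD3_c52))))
theorem f420961 : Led Lsl_bt (LP (LK LD1_c20 LD2_c31 LD3_c13)) = (LP (LK LD1_c11 LD2_c33 LD3_c52)) :=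
  Lre_b IH (LK LD1_c20 LD2_c31 LD3_c13) (LK LD1_c11 LD2_c33 LD3_c52) Lrfl Lrfl
theorem f575690 : Led Lsl_ft (LP (LK LD1_c25 LD2_c18 LD3_c35)) = (LP (LK LD1_c20 LD2_c31 LD3_c13)) :=
  Lgr Lrot75 (Lpe (K45.f566958 IH) (Lpr_ff (f575687 IH) (Lpe (f420961 IH) (Lpn (LP (LK LD1_c20 LD2_c31 LD3_c13))))))
theorem f575513 : Led Lsl_dt (LP (LK LD1_c15 LD2_c26 LD3_c53)) = (LP (LK LD1_c25 LD2_c18 LD3_c35)) :=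
  Lre_d IH (LK LD1_c15 LD2_c26 LD3_c53) (LK LD1_c25 LD2_c18 LD3_c35) Lrfl Lrfl
theorem f169730 : Led Lsl_dt (LP (LK LD1_c20 LD2_c31 LD3_c13)) = (LP (LK LD1_c11 LD2_c33 LD3_c51)) :=
  Lre_d IH (LK LD1_c20 LD2_c31 LD3_c13) (LK LD1_c11 LD2_c33 LD3_c51) Lrfl Lrfl
theorem f575692 : Led Lsl_ff (LP (LK LD1_c15 LD2_c26 LD3_c53)) = (LP (LK LD1_c11 LD2_c33 LD3_c51)) :=
  Lgr Lrot19 (Lpr_dt (f575513 IH) (Lpr_ft (f575690 IH) (Lpr_dt (f169730 IH) (Lpn (LP (LK LD1_c11 LD2_c33 LD3_c51))))))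
theorem f575694 : Led Lsl_ft (LP (LK LD1_c15 LD2_c26 LD3_c53)) = (LP (LK LD1_c11 LD2_c33 LD3_c51)) :=
  Lgr Lrot48 (Lpr_ff (f575692 IH) (Lpn (LP (LK LD1_c11 LD2_c33 LD3_c51))))
theorem f442727 : Led Lsl_ft (LP (LK LD1_c5 LD2_c55 LD3_c8)) = (LP (LK LD1_c11 LD2_c35 LD3_c51)) :=
  Lre_f IH (LK LD1_c5 LD2_c55 LD3_c8) (LK LD1_c11 LD2_c35 LD3_c51) Lrfl Lrfl
theorem f575536 : Led Lsl_af (LP (LK LD1_c15 LD2_c26 LD3_c54)) = (LP (LK LD1_c11 LD2_c35 LD3_c51)) :=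
  Lgr Lrot109 (Lpr_cf (K45.f575529 IH) (Lpe (K45.f538478 IH) (Lpe (K35.f420930 IH) (Lpe (K39.f202072 IH) (Lpe (K35.f166165 IH) (Lpe (K38.f186708 IH) (Lpe (K38.f166173 IH) (Lpe (K38.f166174 IH) (Lpr_ft (f442727 IH) (Lpn (LP (LK LD1_c11 LD2_c35 LD3_c51))))))))))))
theorem f71718 : Led Lsl_at (LP (LK LD1_c18 LD2_c57 LD3_c26)) = (LP (LK LD1_c10 LD2_c27 LD3_c34)) :=
  Lre_a IH (LK LD1_c18 LD2_c57 LD3_c26) (LK LD1_c10 LD2_c27 LD3_c34) Lrfl Lrfl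
theorem f71714 : Led Lsl_bt (LP (LK LD1_c28 LD2_c25 LD3_c8)) = (LP (LK LD1_c18 LD2_c57 LD3_c26)) :=
  Lre_b IH (LK LD1_c28 LD2_c25 LD3_c8) (LK LD1_c18 LD2_c57 LD3_c26) Lrfl Lrfl
theorem f575667 : Led Lsl_at (LP (LK LD1_c25 LD2_c18 LD3_c35)) = (LP (LK LD1_c28 LD2_c25 LD3_c8)) :=
  Lgr Lrot67 (Lpe (K45.f566958 IH) (Lpr_af (f575536 IH) (Lpr_bf (K2.f71703 IH) (Lpe (f71718 IH) (Lpe (f71714 IH) (Lpn (LP (LK LD1_c28 LD2_c25 LD3_c8))))))))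
theorem f32715 : Led Lsl_dt (LP (LK LD1_c28 LD2_c25 LD3_c8)) = (LP (LK LD1_c18 LD2_c57 LD3_c25)) :=
  Lre_d IH (LK LD1_c28 LD2_c25 LD3_c8) (LK LD1_c18 LD2_c57 LD3_c25) Lrfl Lrfl
theorem f575683 : Led Lsl_af (LP (LK LD1_c15 LD2_c26 LD3_c53)) = (LP (LK LD1_c18 LD2_c57 LD3_c25)) :=
  Lgr Lrot117 (Lpr_dt (f575513 IH) (Lpr_at (f575667 IH) (Lpr_dt (f32715 IH) (Lpn (LP (LK LD1_c18 LD2_c57 LD3_c25))))))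
theorem f966877 : Led Lsl_ff (LP (LK LD1_c18 LD2_c57 LD3_c25)) = v48692 :=
  Lgr Lrot30 (Lpe (f575683 IH) (Lpr_ft (f575694 IH) (Lpr_at (f966874 IH) (Lpn v48692))))
theorem f966879 : Led Lsl_ft (LP (LK LD1_c18 LD2_c57 LD3_c25)) = v48692 :=
  Lgr Lrot48 (Lpr_ff (f966877 IH) (Lpn v48692))
theorem f966875 : Led Lsl_af (LP (LK LD1_c11 LD2_c33 LD3_c51)) = v48692 :=
  Lgr Lrot0 (Lpr_at (f966874 IH) (Lpn v48692))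
theorem f442691 : Led Lsl_gt (LP (LK LD1_c20 LD2_c31 LD3_c12)) = (LP (LK LD1_c11 LD2_c33 LD3_c51)) :=
  Lre_g IH (LK LD1_c20 LD2_c31 LD3_c12) (LK LD1_c11 LD2_c33 LD3_c51) Lrfl Lrfl
theorem f966880 : Led Lsl_gt (LP (LK LD1_c18 LD2_c57 LD3_c25)) = (LP (LK LD1_c20 LD2_c31 LD3_c12)) :=
  Lgr Lrot5 (Lpr_ft (f966879 IH) (Lpe (f966875 IH) (Lpe (f442691 IH) (Lpn (LP (LK LD1_c20 LD2_c31 LD3_c12))))))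
theorem f966881 : Led Lsl_gt (LP (LK LD1_c18 LD2_c57 LD3_c25)) = (LP (LK LD1_c20 LD2_c31 LD3_c12)) :=
  Leop (Lpe (f966880 IH) (Lpn (LP (LK LD1_c18 LD2_c57 LD3_c25))))
theorem seed_2931 : LEOK LG_g (LK LD1_c18 LD2_c57 LD3_c25) :=
  Leoe_g (LK LD1_c18 LD2_c57 LD3_c25) (f966881 IH)
def v48736 : LQ := Led Lsl_at (LP (LK LD1_c11 LD2_c34 LD3_c23))
theorem f967067 : Led Lsl_at (LP (LK LD1_c11 LD2_c34 LD3_c23)) = v48736 :=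
  Lrfl
theorem f442652 : Led Lsl_dt (LP (LK LD1_c5 LD2_c54 LD3_c16)) = (LP (LK LD1_c11 LD2_c34 LD3_c23)) :=
  Lre_d IH (LK LD1_c5 LD2_c54 LD3_c16) (LK LD1_c11 LD2_c34 LD3_c23) Lrfl Lrfl
def v16170 : LQ := Led Lsl_at (LP (LK LD1_c5 LD2_c54 LD3_c16))
theorem f746825 : Led Lsl_at (LP (LK LD1_c5 LD2_c54 LD3_c16)) = v16170 :=
  Lrfl
theorem f746826 : Led Lsl_af (LP (LK LD1_c5 LD2_c54 LD3_c16)) = v16170 :=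
  Lgr Lrot0 (Lpr_at (f746825 IH) (Lpn v16170))
theorem f967069 : Led Lsl_df v16170 = v48736 :=
  Lgr Lrot18 (Lpe (f746826 IH) (Lpr_dt (f442652 IH) (Lpr_at (f967067 IH) (Lpn v48736))))
theorem f99400 : Led Lsl_gt (LP (LK LD1_c2 LD2_c53 LD3_c32)) = (LP (LK LD1_c5 LD2_c54 LD3_c16)) :=
  Lre_g IH (LK LD1_c2 LD2_c53 LD3_c32) (LK LD1_c5 LD2_c54 LD3_c16) Lrfl Lrfl
theorem f746830 : Led Lsl_ft (LP (LK LD1_c5 LD2_c54 LD3_c17)) = v16170 :=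
  Lgr Lrot2 (Lpr_gt (K65.f99398 IH) (Lpr_gt (f99400 IH) (Lpr_af (f746826 IH) (Lpn v16170))))
theorem f746832 : Led Lsl_ff (LP (LK LD1_c5 LD2_c54 LD3_c17)) = v16170 :=
  Lgr Lrot3 (Lpr_ft (f746830 IH) (Lpn v16170))
theorem f967071 : Led Lsl_ft (LP (LK LD1_c11 LD2_c34 LD3_c27)) = v48736 :=
  Lgr Lrot54 (Lpe (K65.f70998 IH) (Lpr_ff (f746832 IH) (Lpr_df (f967069 IH) (Lpn v48736))))
theorem f967068 : Led Lsl_af (LP (LK LD1_c11 LD2_c34 LD3_c23)) = v48736 :=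
  Lgr Lrot0 (Lpr_at (f967067 IH) (Lpn v48736))
theorem f587445 : Led Lsl_gt (LP (LK LD1_c20 LD2_c32 LD3_c1)) = (LP (LK LD1_c11 LD2_c34 LD3_c23)) :=
  Lre_g IH (LK LD1_c20 LD2_c32 LD3_c1) (LK LD1_c11 LD2_c34 LD3_c23) Lrfl Lrfl
theorem f967073 : Led Lsl_gt (LP (LK LD1_c11 LD2_c34 LD3_c27)) = (LP (LK LD1_c20 LD2_c32 LD3_c1)) :=
  Lgr Lrot5 (Lpr_ft (f967071 IH) (Lpe (f967068 IH) (Lpe (f587445 IH) (Lpn (LP (LK LD1_c20 LD2_c32 LD3_c1))))))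
theorem f967074 : Led Lsl_gt (LP (LK LD1_c11 LD2_c34 LD3_c27)) = (LP (LK LD1_c20 LD2_c32 LD3_c1)) :=
  Leop (Lpe (f967073 IH) (Lpn (LP (LK LD1_c11 LD2_c34 LD3_c27))))
theorem seed_2932 : LEOK LG_g (LK LD1_c11 LD2_c34 LD3_c27) :=
  Leoe_g (LK LD1_c11 LD2_c34 LD3_c27) (f967074 IH)
theorem f449939 : Led Lsl_bt (LP (LK LD1_c20 LD2_c1 LD3_c59)) = (LP (LK LD1_c11 LD2_c8 LD3_c25)) :=
  Lre_b IH (LK LD1_c20 LD2_c1 LD3_c59) (LK LD1_c11 LD2_c8 LD3_c25) Lrfl Lrfl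
theorem f449915 : Led Lsl_af (LP (LK LD1_c8 LD2_c48 LD3_c43)) = (LP (LK LD1_c11 LD2_c8 LD3_c25)) :=
  Lgr Lrot0 (Lpr_at (K36.f449736 IH) (Lpn (LP (LK LD1_c11 LD2_c8 LD3_c25))))
theorem f606565 : Led Lsl_bf (LP (LK LD1_c13 LD2_c30 LD3_c20)) = (LP (LK LD1_c8 LD2_c48 LD3_c43)) :=
  Lgr Lrot81 (Lpr_at (K62.f162552 IH) (Lpr_bt (K61.f606535 IH) (Lpr_at (K61.f606561 IH) (Lpr_bt (f449939 IH) (Lpe (f449915 IH) (Lpn (LP (LK LD1_c8 LD2_c48 LD3_c43))))))))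
theorem f38069 : Led Lsl_bt (LP (LK LD1_c8 LD2_c48 LD3_c42)) = (LP (LK LD1_c4 LD2_c25 LD3_c35)) :=
  Lre_b IH (LK LD1_c8 LD2_c48 LD3_c42) (LK LD1_c4 LD2_c25 LD3_c35) Lrfl Lrfl
theorem f606631 : Led Lsl_et (LP (LK LD1_c13 LD2_c30 LD3_c20)) = (LP (LK LD1_c8 LD2_c48 LD3_c42)) :=
  Lgr Lrot74 (Lpr_bf (f606565 IH) (Lpe (K36.f38050 IH) (Lpe (f38069 IH) (Lpn (LP (LK LD1_c8 LD2_c48 LD3_c42))))))
theorem f467017 : Led Lsl_dt (LP (LK LD1_c13 LD2_c39 LD3_c43)) = (LP (LK LD1_c7 LD2_c13 LD3_c2)) :=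
  Lre_d IH (LK LD1_c13 LD2_c39 LD3_c43) (LK LD1_c7 LD2_c13 LD3_c2) Lrfl Lrfl
theorem f606637 : Led Lsl_et (LP (LK LD1_c13 LD2_c39 LD3_c43)) = (LP (LK LD1_c20 LD2_c31 LD3_c23)) :=
  Lgr Lrot122 (Lpr_dt (f467017 IH) (Lpe (K33.f486365 IH) (Lpe (K62.f162548 IH) (Lpr_et (f606631 IH) (Lpe (K42.f571275 IH) (Lpr_dt (K41.f411341 IH) (Lpr_gt (K39.f556727 IH) (Lpe (K6.f81856 IH) (Lpr_et (K6.f81863 IH) (Lpr_gt (K69.f81939 IH) (Lpn (LP (LK LD1_c20 LD2_c31 LD3_c23)))))))))))))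
theorem f606641 : Led Lsl_ef (LP (LK LD1_c13 LD2_c39 LD3_c43)) = (LP (LK LD1_c20 LD2_c31 LD3_c23)) :=
  Lgr Lrot88 (Lpr_et (f606637 IH) (Lpn (LP (LK LD1_c20 LD2_c31 LD3_c23))))
theorem f528447 : Led Lsl_bt (LP (LK LD1_c13 LD2_c39 LD3_c43)) = (LP (LK LD1_c7 LD2_c13 LD3_c3)) :=
  Lre_b IH (LK LD1_c13 LD2_c39 LD3_c43) (LK LD1_c7 LD2_c13 LD3_c3) Lrfl Lrfl
theorem f606643 : Led Lsl_bt (LP (LK LD1_c13 LD2_c39 LD3_c45)) = (LP (LK LD1_c20 LD2_c31 LD3_c23)) :=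
  Lgr Lrot119 (Lpe (K47.f98454 IH) (Lpe (f528447 IH) (Lpr_ef (f606641 IH) (Lpn (LP (LK LD1_c20 LD2_c31 LD3_c23))))))
theorem f16542 : Led Lsl_bt (LP (LK LD1_c16 LD2_c33 LD3_c45)) = (LP (LK LD1_c8 LD2_c51 LD3_c33)) :=
  Lre_b IH (LK LD1_c16 LD2_c33 LD3_c45) (LK LD1_c8 LD2_c51 LD3_c33) Lrfl Lrfl
theorem f606645 : Led Lsl_af (LP (LK LD1_c16 LD2_c33 LD3_c45)) = (LP (LK LD1_c20 LD2_c31 LD3_c23)) :=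
  Lgr Lrot36 (Lpr_bt (f16542 IH) (Lpr_at (K55.f561054 IH) (Lpe (K71.f561040 IH) (Lpr_at (K53.f528504 IH) (Lpr_bt (f606643 IH) (Lpn (LP (LK LD1_c20 LD2_c31 LD3_c23))))))))
theorem f742927 : Led Lsl_ft (LP (LK LD1_c20 LD2_c28 LD3_c49)) = (LP (LK LD1_c20 LD2_c31 LD3_c23)) :=
  Lgr Lrot101 (Lpr_af (K65.f742919 IH) (Lpe (K65.f617248 IH) (Lpr_af (f606645 IH) (Lpn (LP (LK LD1_c20 LD2_c31 LD3_c23))))))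
theorem f742937 : Led Lsl_ff (LP (LK LD1_c20 LD2_c28 LD3_c49)) = (LP (LK LD1_c20 LD2_c31 LD3_c23)) :=
  Lgr Lrot3 (Lpr_ft (f742927 IH) (Lpn (LP (LK LD1_c20 LD2_c31 LD3_c23))))
theorem f901186 : Led Lsl_ff (LP (LK LD1_c29 LD2_c29 LD3_c16)) = (LP (LK LD1_c20 LD2_c31 LD3_c39)) :=
  Lgr Lrot19 (Lpr_dt (K69.f901178 IH) (Lpe (f742937 IH) (Lpe (K65.f621304 IH) (Lpn (LP (LK LD1_c20 LD2_c31 LD3_c39))))))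
theorem f742913 : Led Lsl_af (LP (LK LD1_c20 LD2_c31 LD3_c39)) = (LP (LK LD1_c17 LD2_c9 LD3_c17)) :=
  Lgr Lrot0 (Lpr_at (K65.f742911 IH) (Lpn (LP (LK LD1_c17 LD2_c9 LD3_c17))))
theorem f742898 : Led Lsl_ff (LP (LK LD1_c11 LD2_c34 LD3_c8)) = (LP (LK LD1_c9 LD2_c14 LD3_c52)) :=
  Lgr Lrot3 (Lpr_ft (K55.f742892 IH) (Lpn (LP (LK LD1_c9 LD2_c14 LD3_c52))))
theorem f743247 : Led Lsl_ft (LP (LK LD1_c20 LD2_c32 LD3_c8)) = (LP (LK LD1_c17 LD2_c9 LD3_c17)) :=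
  Lgr Lrot86 (Lpr_ef (K65.f743243 IH) (Lpe (K63.f743049 IH) (Lpe (K63.f742889 IH) (Lpr_ff (f742898 IH) (Lpe (K65.f56413 IH) (Lpn (LP (LK LD1_c17 LD2_c9 LD3_c17))))))))
theorem f901190 : Led Lsl_at (LP (LK LD1_c29 LD2_c29 LD3_c16)) = (LP (LK LD1_c20 LD2_c32 LD3_c8)) :=
  Lgr Lrot66 (Lpr_ff (f901186 IH) (Lpr_af (f742913 IH) (Lpe (f743247 IH) (Lpn (LP (LK LD1_c20 LD2_c32 LD3_c8))))))
theorem f901194 : Led Lsl_gf (LP (LK LD1_c11 LD2_c34 LD3_c28)) = (LP (LK LD1_c20 LD2_c31 LD3_c39)) :=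
  Lgr Lrot47 (Lpr_gt (K65.f601707 IH) (Lpe (f901190 IH) (Lpr_ff (f901186 IH) (Lpn (LP (LK LD1_c20 LD2_c31 LD3_c39))))))
theorem f498811 : Led Lsl_gt (LP (LK LD1_c29 LD2_c29 LD3_c42)) = (LP (LK LD1_c20 LD2_c31 LD3_c38)) :=
  Lre_g IH (LK LD1_c29 LD2_c29 LD3_c42) (LK LD1_c20 LD2_c31 LD3_c38) Lrfl Lrfl
theorem f697602 : Led Lsl_dt (LP (LK LD1_c8 LD2_c51 LD3_c0)) = (LP (LK LD1_c16 LD2_c32 LD3_c39)) :=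
  Lre_d IH (LK LD1_c8 LD2_c51 LD3_c0) (LK LD1_c16 LD2_c32 LD3_c39) Lrfl Lrfl
theorem f743277 : Led Lsl_ff (LP (LK LD1_c20 LD2_c31 LD3_c30)) = (LP (LK LD1_c16 LD2_c32 LD3_c39)) :=
  Lgr Lrot19 (Lpr_dt (K65.f601681 IH) (Lpr_ft (K65.f743275 IH) (Lpr_dt (f697602 IH) (Lpn (LP (LK LD1_c16 LD2_c32 LD3_c39))))))
theorem f696751 : Led Lsl_at (LP (LK LD1_c8 LD2_c51 LD3_c2)) = (LP (LK LD1_c16 LD2_c32 LD3_c39)) :=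
  Lre_a IH (LK LD1_c8 LD2_c51 LD3_c2) (LK LD1_c16 LD2_c32 LD3_c39) Lrfl Lrfl
theorem f201754 : Led Lsl_bt (LP (LK LD1_c16 LD2_c8 LD3_c37)) = (LP (LK LD1_c26 LD2_c5 LD3_c24)) :=
  Lre_b IH (LK LD1_c16 LD2_c8 LD3_c37) (LK LD1_c26 LD2_c5 LD3_c24) Lrfl Lrfl
theorem f696983 : Led Lsl_ff (LP (LK LD1_c19 LD2_c59 LD3_c41)) = (LP (LK LD1_c26 LD2_c5 LD3_c24)) :=
  Lgr Lrot25 (Lpr_bt (K69.f236524 IH) (Lpr_ft (K57.f696979 IH) (Lpr_bt (f201754 IH) (Lpn (LP (LK LD1_c26 LD2_c5 LD3_c24))))))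
theorem f236538 : Led Lsl_bt (LP (LK LD1_c15 LD2_c0 LD3_c34)) = (LP (LK LD1_c24 LD2_c47 LD3_c53)) :=
  Lre_b IH (LK LD1_c15 LD2_c0 LD3_c34) (LK LD1_c24 LD2_c47 LD3_c53) Lrfl Lrfl
theorem f236539 : Led Lsl_bt (LP (LK LD1_c29 LD2_c14 LD3_c30)) = (LP (LK LD1_c19 LD2_c59 LD3_c43)) :=
  Lre_b IH (LK LD1_c29 LD2_c14 LD3_c30) (LK LD1_c19 LD2_c59 LD3_c43) Lrfl Lrfl
theorem f236540 : Led Lsl_et (LP (LK LD1_c24 LD2_c47 LD3_c53)) = (LP (LK LD1_c29 LD2_c14 LD3_c30)) :=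
  Lgr Lrot74 (Lpe (f236538 IH) (Lpr_ef (K37.f236536 IH) (Lpe (f236539 IH) (Lpn (LP (LK LD1_c29 LD2_c14 LD3_c30))))))
theorem f236547 : Led Lsl_ef (LP (LK LD1_c15 LD2_c0 LD3_c31)) = (LP (LK LD1_c19 LD2_c59 LD3_c41)) :=
  Lgr Lrot73 (Lpr_dt (K69.f70324 IH) (Lpr_et (K65.f236545 IH) (Lpr_dt (K69.f236544 IH) (Lpr_et (f236540 IH) (Lpr_dt (K69.f236546 IH) (Lpn (LP (LK LD1_c19 LD2_c59 LD3_c41))))))))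
theorem f69618 : Led Lsl_bt (LP (LK LD1_c16 LD2_c33 LD3_c10)) = (LP (LK LD1_c26 LD2_c29 LD3_c33)) :=
  Lre_b IH (LK LD1_c16 LD2_c33 LD3_c10) (LK LD1_c26 LD2_c29 LD3_c33) Lrfl Lrfl
theorem f180203 : Led Lsl_bt (LP (LK LD1_c26 LD2_c5 LD3_c24)) = (LP (LK LD1_c16 LD2_c8 LD3_c37)) :=
  Lre_b IH (LK LD1_c26 LD2_c5 LD3_c24) (LK LD1_c16 LD2_c8 LD3_c37) Lrfl Lrfl
theorem f696973 : Led Lsl_et (LP (LK LD1_c26 LD2_c29 LD3_c33)) = (LP (LK LD1_c26 LD2_c5 LD3_c24)) :=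
  Lgr Lrot74 (Lpe (f69618 IH) (Lpr_ef (K57.f696971 IH) (Lpe (f180203 IH) (Lpn (LP (LK LD1_c26 LD2_c5 LD3_c24))))))
theorem f69638 : Led Lsl_ft (LP (LK LD1_c16 LD2_c32 LD3_c48)) = (LP (LK LD1_c26 LD2_c29 LD3_c33)) :=
  Lre_f IH (LK LD1_c16 LD2_c32 LD3_c48) (LK LD1_c26 LD2_c29 LD3_c33) Lrfl Lrfl
theorem f69658 : Led Lsl_et (LP (LK LD1_c8 LD2_c51 LD3_c2)) = (LP (LK LD1_c16 LD2_c32 LD3_c48)) :=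
  Lre_e IH (LK LD1_c8 LD2_c51 LD3_c2) (LK LD1_c16 LD2_c32 LD3_c48) Lrfl Lrfl
theorem f697450 : Led Lsl_ft (LP (LK LD1_c15 LD2_c0 LD3_c31)) = (LP (LK LD1_c8 LD2_c51 LD3_c2)) :=
  Lgr Lrot86 (Lpr_ef (f236547 IH) (Lpr_ff (f696983 IH) (Lpe (f696973 IH) (Lpe (f69638 IH) (Lpe (f69658 IH) (Lpn (LP (LK LD1_c8 LD2_c51 LD3_c2))))))))
theorem f743300 : Led Lsl_at (LP (LK LD1_c20 LD2_c31 LD3_c30)) = (LP (LK LD1_c15 LD2_c0 LD3_c31)) :=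
  Lgr Lrot66 (Lpr_ff (f743277 IH) (Lpe (f696751 IH) (Lpe (f697450 IH) (Lpn (LP (LK LD1_c15 LD2_c0 LD3_c31))))))
theorem f743318 : Led Lsl_af (LP (LK LD1_c26 LD2_c49 LD3_c47)) = (LP (LK LD1_c19 LD2_c59 LD3_c41)) :=
  Lgr Lrot50 (Lpe (K65.f601690 IH) (Lpr_at (f743300 IH) (Lpr_et (K69.f236525 IH) (Lpn (LP (LK LD1_c19 LD2_c59 LD3_c41))))))
theorem f601684 : Led Lsl_dt (LP (LK LD1_c11 LD2_c34 LD3_c2)) = (LP (LK LD1_c20 LD2_c31 LD3_c30)) :=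
  Lre_d IH (LK LD1_c11 LD2_c34 LD3_c2) (LK LD1_c20 LD2_c31 LD3_c30) Lrfl Lrfl
theorem f601686 : Led Lsl_dt (LP (LK LD1_c20 LD2_c32 LD3_c0)) = (LP (LK LD1_c20 LD2_c31 LD3_c31)) :=
  Lre_d IH (LK LD1_c20 LD2_c32 LD3_c0) (LK LD1_c20 LD2_c31 LD3_c31) Lrfl Lrfl
theorem f601688 : Led Lsl_df (LP (LK LD1_c29 LD2_c29 LD3_c53)) = (LP (LK LD1_c26 LD2_c49 LD3_c47)) :=
  Lgr Lrot70 (Lpr_et (K65.f601687 IH) (Lpr_dt (f601686 IH) (Lpr_et (K65.f601685 IH) (Lpr_dt (f601684 IH) (Lpr_et (K65.f601682 IH) (Lpn (LP (LK LD1_c26 LD2_c49 LD3_c47))))))))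
theorem f743322 : Led Lsl_at (LP (LK LD1_c29 LD2_c29 LD3_c53)) = (LP (LK LD1_c29 LD2_c14 LD3_c30)) :=
  Lgr Lrot51 (Lpr_df (f601688 IH) (Lpr_af (f743318 IH) (Lpe (K69.f236546 IH) (Lpn (LP (LK LD1_c29 LD2_c14 LD3_c30))))))
theorem f743343 : Led Lsl_af (LP (LK LD1_c20 LD2_c32 LD3_c0)) = (LP (LK LD1_c24 LD2_c47 LD3_c53)) :=
  Lgr Lrot50 (Lpr_et (K65.f601694 IH) (Lpr_at (f743322 IH) (Lpe (K69.f236534 IH) (Lpn (LP (LK LD1_c24 LD2_c47 LD3_c53))))))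
theorem f601700 : Led Lsl_gt (LP (LK LD1_c11 LD2_c34 LD3_c23)) = (LP (LK LD1_c20 LD2_c32 LD3_c0)) :=
  Lre_g IH (LK LD1_c11 LD2_c34 LD3_c23) (LK LD1_c20 LD2_c32 LD3_c0) Lrfl Lrfl
theorem f743347 : Led Lsl_ft (LP (LK LD1_c20 LD2_c32 LD3_c1)) = (LP (LK LD1_c24 LD2_c47 LD3_c53)) :=
  Lgr Lrot2 (Lpr_gt (f587445 IH) (Lpr_gt (f601700 IH) (Lpr_af (f743343 IH) (Lpn (LP (LK LD1_c24 LD2_c47 LD3_c53))))))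
theorem f70330 : Led Lsl_dt (LP (LK LD1_c24 LD2_c47 LD3_c53)) = (LP (LK LD1_c15 LD2_c0 LD3_c32)) :=
  Lre_d IH (LK LD1_c24 LD2_c47 LD3_c53) (LK LD1_c15 LD2_c0 LD3_c32) Lrfl Lrfl
theorem f742397 : Led Lsl_ff (LP (LK LD1_c21 LD2_c13 LD3_c59)) = (LP (LK LD1_c15 LD2_c0 LD3_c32)) :=
  Lgr Lrot3 (Lpr_ft (K65.f742393 IH) (Lpn (LP (LK LD1_c15 LD2_c0 LD3_c32))))
theorem f743351 : Led Lsl_df (LP (LK LD1_c20 LD2_c32 LD3_c1)) = (LP (LK LD1_c21 LD2_c13 LD3_c59)) :=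
  Lgr Lrot78 (Lpr_ft (f743347 IH) (Lpr_dt (f70330 IH) (Lpe (f742397 IH) (Lpn (LP (LK LD1_c21 LD2_c13 LD3_c59))))))
theorem f742391 : Led Lsl_et (LP (LK LD1_c21 LD2_c13 LD3_c59)) = (LP (LK LD1_c16 LD2_c32 LD3_c51)) :=
  Lgr Lrot87 (Lpr_ef (K65.f742387 IH) (Lpn (LP (LK LD1_c16 LD2_c32 LD3_c51))))
theorem f697138 : Led Lsl_gt (LP (LK LD1_c16 LD2_c32 LD3_c51)) = (LP (LK LD1_c26 LD2_c29 LD3_c22)) :=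
  Lre_g IH (LK LD1_c16 LD2_c32 LD3_c51) (LK LD1_c26 LD2_c29 LD3_c22) Lrfl Lrfl
theorem f967076 : Led Lsl_df (LP (LK LD1_c29 LD2_c29 LD3_c42)) = (LP (LK LD1_c26 LD2_c29 LD3_c22)) :=
  Lgr Lrot135 (Lpr_gt (f498811 IH) (Lpe (K63.f138238 IH) (Lpr_et (K65.f621306 IH) (Lpe (f901194 IH) (Lpe (K65.f601706 IH) (Lpr_dt (K65.f70998 IH) (Lpr_gt (f967073 IH) (Lpr_df (f743351 IH) (Lpr_et (f742391 IH) (Lpr_gt (f697138 IH) (Lpn (LP (LK LD1_c26 LD2_c29 LD3_c22)))))))))))))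
theorem f967078 : Led Lsl_dt (LP (LK LD1_c29 LD2_c29 LD3_c42)) = (LP (LK LD1_c26 LD2_c29 LD3_c22)) :=
  Lgr Lrot42 (Lpr_df (f967076 IH) (Lpn (LP (LK LD1_c26 LD2_c29 LD3_c22))))
theorem f743085 : Led Lsl_gt (LP (LK LD1_c20 LD2_c31 LD3_c41)) = (LP (LK LD1_c29 LD2_c29 LD3_c42)) :=
  Lgr Lrot5 (Lpr_ft (K73.f743081 IH) (Lpe (K73.f742984 IH) (Lpe (f498811 IH) (Lpn (LP (LK LD1_c29 LD2_c29 LD3_c42))))))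
theorem f836458 : Led Lsl_dt (LP (LK LD1_c13 LD2_c51 LD3_c2)) = K65.v26898 :=
  Lgr Lrot42 (Lpr_df (K65.f836455 IH) (Lpn K65.v26898))
theorem f836459 : Led Lsl_et (LP (LK LD1_c13 LD2_c51 LD3_c2)) = (LP (LK LD1_c23 LD2_c20 LD3_c18)) :=
  Lre_e IH (LK LD1_c13 LD2_c51 LD3_c2) (LK LD1_c23 LD2_c20 LD3_c18) Lrfl Lrfl
theorem f697611 : Led Lsl_gt (LP (LK LD1_c26 LD2_c29 LD3_c22)) = (LP (LK LD1_c16 LD2_c32 LD3_c40)) :=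
  Lre_g IH (LK LD1_c26 LD2_c29 LD3_c22) (LK LD1_c16 LD2_c32 LD3_c40) Lrfl Lrfl
theorem f69642 : Led Lsl_at (LP (LK LD1_c16 LD2_c32 LD3_c40)) = (LP (LK LD1_c8 LD2_c51 LD3_c3)) :=
  Lre_a IH (LK LD1_c16 LD2_c32 LD3_c40) (LK LD1_c8 LD2_c51 LD3_c3) Lrfl Lrfl
theorem f742407 : Led Lsl_dt (LP (LK LD1_c21 LD2_c13 LD3_c34)) = (LP (LK LD1_c16 LD2_c32 LD3_c40)) :=
  Lgr Lrot44 (Lpr_af (K65.f742399 IH) (Lpe (K65.f69636 IH) (Lpe (f69642 IH) (Lpn (LP (LK LD1_c16 LD2_c32 LD3_c40))))))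
theorem f967080 : Led Lsl_gf (LP (LK LD1_c23 LD2_c20 LD3_c18)) = (LP (LK LD1_c29 LD2_c54 LD3_c39)) :=
  Lgr Lrot141 (Lpe (f836459 IH) (Lpr_dt (f836458 IH) (Lpe (K65.f836445 IH) (Lpe (K65.f815097 IH) (Lpe (K65.f743023 IH) (Lpr_gt (f743085 IH) (Lpr_dt (f967078 IH) (Lpr_gt (f697611 IH) (Lpe (f742407 IH) (Lpr_et (K65.f742409 IH) (Lpn (LP (LK LD1_c29 LD2_c54 LD3_c39)))))))))))))
theorem f967081 : Led Lsl_gt (LP (LK LD1_c29 LD2_c54 LD3_c39)) = (LP (LK LD1_c23 LD2_c20 LD3_c18)) :=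
  Leop (Lpr_gf (f967080 IH) (Lpn (LP (LK LD1_c29 LD2_c54 LD3_c39))))
theorem seed_2933 : LEOK LG_g (LK LD1_c29 LD2_c54 LD3_c39) :=
  Leoe_g (LK LD1_c29 LD2_c54 LD3_c39) (f967081 IH)
def v48770 : LQ := Led Lsl_bt (LP (LK LD1_c11 LD2_c34 LD3_c56))
theorem f967216 : Led Lsl_bt (LP (LK LD1_c11 LD2_c34 LD3_c56)) = v48770 :=
  Lrfl
theorem f61521 : Led Lsl_ct (LP (LK LD1_c11 LD2_c24 LD3_c28)) = (LP (LK LD1_c5 LD2_c47 LD3_c6)) :=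
  Lre_c IH (LK LD1_c11 LD2_c24 LD3_c28) (LK LD1_c5 LD2_c47 LD3_c6) Lrfl Lrfl
def v47977 : LQ := Led Lsl_bt (LP (LK LD1_c11 LD2_c24 LD3_c28))
theorem f961039 : Led Lsl_bt (LP (LK LD1_c11 LD2_c24 LD3_c28)) = v47977 :=
  Lrfl
theorem f961040 : Led Lsl_bf (LP (LK LD1_c11 LD2_c24 LD3_c28)) = v47977 :=
  Lgr Lrot24 (Lpr_bt (f961039 IH) (Lpn v47977))
theorem f967218 : Led Lsl_cf v47977 = v48770 :=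
  Lgr Lrot97 (Lpe (f961040 IH) (Lpr_ct (f61521 IH) (Lpr_bt (K65.f741595 IH) (Lpe (K57.f757843 IH) (Lpr_bt (f967216 IH) (Lpn v48770))))))
theorem f74415 : Led Lsl_gt (LP (LK LD1_c11 LD2_c24 LD3_c19)) = (LP (LK LD1_c20 LD2_c22 LD3_c0)) :=
  Lre_g IH (LK LD1_c11 LD2_c24 LD3_c19) (LK LD1_c20 LD2_c22 LD3_c0) Lrfl Lrfl
def v40879 : LQ := Led Lsl_et (LP (LK LD1_c9 LD2_c48 LD3_c26))
theorem f920912 : Led Lsl_et (LP (LK LD1_c9 LD2_c48 LD3_c26)) = v40879 :=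
  Lrfl
theorem f920915 : Led Lsl_ef (LP (LK LD1_c9 LD2_c48 LD3_c26)) = v40879 :=
  Lgr Lrot88 (Lpr_et (f920912 IH) (Lpn v40879))
theorem f90154 : Led Lsl_bt (LP (LK LD1_c3 LD2_c23 LD3_c23)) = (LP (LK LD1_c6 LD2_c50 LD3_c4)) :=
  Lre_b IH (LK LD1_c3 LD2_c23 LD3_c23) (LK LD1_c6 LD2_c50 LD3_c4) Lrfl Lrfl
theorem f209720 : Led Lsl_bf (LP (LK LD1_c6 LD2_c55 LD3_c61)) = (LP (LK LD1_c9 LD2_c48 LD3_c26)) :=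
  Lgr Lrot90 (Lpr_ct (K5.f90172 IH) (Lpr_bt (K4.f90171 IH) (Lpr_ct (K2.f90147 IH) (Lpr_bt (f90154 IH) (Lpr_ct (K37.f209716 IH) (Lpn (LP (LK LD1_c9 LD2_c48 LD3_c26))))))))
theorem f97789 : Led Lsl_et (LP (LK LD1_c6 LD2_c55 LD3_c61)) = (LP (LK LD1_c13 LD2_c9 LD3_c60)) :=
  Lre_e IH (LK LD1_c6 LD2_c55 LD3_c61) (LK LD1_c13 LD2_c9 LD3_c60) Lrfl Lrfl
theorem f920916 : Led Lsl_bt (LP (LK LD1_c13 LD2_c9 LD3_c60)) = v40879 :=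
  Lgr Lrot119 (Lpe (f97789 IH) (Lpr_bf (f209720 IH) (Lpr_ef (f920915 IH) (Lpn v40879))))
theorem f961041 : Led Lsl_gf v40879 = v47977 :=
  Lgr Lrot124 (Lpe (f920916 IH) (Lpr_ct (K5.f90155 IH) (Lpr_gt (K62.f90162 IH) (Lpe (K62.f709123 IH) (Lpr_bt (K62.f61629 IH) (Lpr_gt (f74415 IH) (Lpr_ct (K2.f74411 IH) (Lpr_gt (K71.f74430 IH) (Lpe (f61521 IH) (Lpr_bt (f961039 IH) (Lpn v47977)))))))))))
def v20043 : LQ := Led Lsl_et (LP (LK LD1_c6 LD2_c50 LD3_c4))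
theorem f784533 : Led Lsl_et (LP (LK LD1_c6 LD2_c50 LD3_c4)) = v20043 :=
  Lrfl
theorem f920917 : Led Lsl_ct v20043 = v40879 :=
  Lgr Lrot15 (Lpe (f784533 IH) (Lpr_cf (K37.f209722 IH) (Lpr_ef (f920915 IH) (Lpn v40879))))
theorem f784534 : Led Lsl_bf (LP (LK LD1_c6 LD2_c50 LD3_c6)) = v20043 :=
  Lgr Lrot96 (Lpr_et (K60.f90149 IH) (Lpr_bt (f90154 IH) (Lpr_et (f784533 IH) (Lpn v20043))))
theorem f90161 : Led Lsl_gt (LP (LK LD1_c6 LD2_c50 LD3_c6)) = (LP (LK LD1_c13 LD2_c1 LD3_c21)) :=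
  Lre_g IH (LK LD1_c6 LD2_c50 LD3_c6) (LK LD1_c13 LD2_c1 LD3_c21) Lrfl Lrfl
theorem f967217 : Led Lsl_bf (LP (LK LD1_c11 LD2_c34 LD3_c56)) = v48770 :=
  Lgr Lrot24 (Lpr_bt (f967216 IH) (Lpn v48770))
theorem f784669 : Led Lsl_bf K57.v17227 = K63.v20071 :=
  Lgr Lrot61 (Lpe (K57.f757812 IH) (Lpr_bt (K63.f83779 IH) (Lpr_ft (K63.f784668 IH) (Lpn K63.v20071))))
theorem f91116 : Led Lsl_ft (LP (LK LD1_c6 LD2_c54 LD3_c56)) = (LP (LK LD1_c3 LD2_c26 LD3_c32)) :=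
  Lre_f IH (LK LD1_c6 LD2_c54 LD3_c56) (LK LD1_c3 LD2_c26 LD3_c32) Lrfl Lrfl
theorem f784670 : Led Lsl_cf (LP (LK LD1_c6 LD2_c54 LD3_c56)) = K63.v20071 :=
  Lgr Lrot108 (Lpr_ft (f91116 IH) (Lpr_ct (K4.f91109 IH) (Lpr_ft (K63.f784668 IH) (Lpn K63.v20071))))
theorem f125927 : Led Lsl_at (LP (LK LD1_c7 LD2_c53 LD3_c22)) = (LP (LK LD1_c6 LD2_c54 LD3_c56)) :=
  Lgr Lrot100 (Lpr_af (K8.f125925 IH) (Lpn (LP (LK LD1_c6 LD2_c54 LD3_c56))))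
theorem f125935 : Led Lsl_gt (LP (LK LD1_c3 LD2_c55 LD3_c49)) = (LP (LK LD1_c7 LD2_c53 LD3_c19)) :=
  Lre_g IH (LK LD1_c3 LD2_c55 LD3_c49) (LK LD1_c7 LD2_c53 LD3_c19) Lrfl Lrfl
theorem f125936 : Led Lsl_gt (LP (LK LD1_c7 LD2_c53 LD3_c19)) = (LP (LK LD1_c6 LD2_c54 LD3_c56)) :=
  Lgr Lrot46 (Lpe (f125935 IH) (Lpr_ft (K8.f125851 IH) (Lpr_at (f125927 IH) (Lpn (LP (LK LD1_c6 LD2_c54 LD3_c56))))))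
def v23488 : LQ := Led Lsl_ct (LP (LK LD1_c7 LD2_c53 LD3_c19))
theorem f817426 : Led Lsl_ct (LP (LK LD1_c7 LD2_c53 LD3_c19)) = v23488 :=
  Lrfl
theorem f817427 : Led Lsl_cf (LP (LK LD1_c7 LD2_c53 LD3_c19)) = v23488 :=
  Lgr Lrot11 (Lpr_ct (f817426 IH) (Lpn v23488))
theorem f967220 : (LP (LK LD1_c13 LD2_c1 LD3_c21)) = v23488 :=
  (Llr Lrot82 (Lpe (f90161 IH) (Lpr_bf (f784534 IH) (Lpr_ct (f920917 IH) (Lpr_gf (f961041 IH) (Lpr_cf (f967218 IH) (Lpe (f967217 IH) (Lpr_gf (K57.f757842 IH) (Lpr_bf (f784669 IH) (Lpe (f784670 IH) (Lpe (f125936 IH) (Lpr_cf (f817427 IH) (Lpn v23488))))))))))))).symm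
theorem f967221 : Led Lsl_ct (LP (LK LD1_c13 LD2_c1 LD3_c21)) = (LP (LK LD1_c7 LD2_c53 LD3_c19)) :=
  Leop (Lpr_cf (f817427 IH) (Lpq (f967220 IH) (Lpn (LP (LK LD1_c13 LD2_c1 LD3_c21)))))
theorem seed_2934 : LEOK LG_c (LK LD1_c13 LD2_c1 LD3_c21) :=
  Leoe_c (LK LD1_c13 LD2_c1 LD3_c21) (f967221 IH)
def v48776 : LQ := Led Lsl_gf (LP (LK LD1_c11 LD2_c34 LD3_c59))
theorem f967264 : Led Lsl_gf (LP (LK LD1_c11 LD2_c34 LD3_c59)) = v48776 :=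
  Lrfl
theorem f137384 : Led Lsl_ct (LP (LK LD1_c11 LD2_c34 LD3_c59)) = (LP (LK LD1_c5 LD2_c54 LD3_c38)) :=
  Lre_c IH (LK LD1_c11 LD2_c34 LD3_c59) (LK LD1_c5 LD2_c54 LD3_c38) Lrfl Lrfl
theorem f615438 : Led Lsl_df (LP (LK LD1_c11 LD2_c6 LD3_c60)) = (LP (LK LD1_c11 LD2_c31 LD3_c10)) :=
  Lgr Lrot38 (Lpr_dt (K53.f615434 IH) (Lpn (LP (LK LD1_c11 LD2_c31 LD3_c10))))
def v46428 : LQ := Led Lsl_gf (LP (LK LD1_c11 LD2_c6 LD3_c47))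
theorem f953548 : Led Lsl_gf (LP (LK LD1_c11 LD2_c6 LD3_c47)) = v46428 :=
  Lrfl
theorem f319486 : Led Lsl_ft (LP (LK LD1_c11 LD2_c6 LD3_c60)) = (LP (LK LD1_c5 LD2_c37 LD3_c46)) :=
  Lre_f IH (LK LD1_c11 LD2_c6 LD3_c60) (LK LD1_c5 LD2_c37 LD3_c46) Lrfl Lrfl
theorem f953549 : Led Lsl_gt (LP (LK LD1_c11 LD2_c6 LD3_c60)) = v46428 :=
  Lgr Lrot5 (Lpr_ft (f319486 IH) (Lpr_at (K41.f319503 IH) (Lpr_gf (f953548 IH) (Lpn v46428))))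
theorem f967265 : Led Lsl_ct v46428 = v48776 :=
  Lgr Lrot152 (Lpe (f953549 IH) (Lpr_df (f615438 IH) (Lpr_gt (K57.f757847 IH) (Lpe (K57.f757843 IH) (Lpr_gt (K57.f137464 IH) (Lpr_ct (K57.f137346 IH) (Lpe (K40.f137349 IH) (Lpe (f137384 IH) (Lpr_gf (f967264 IH) (Lpn v48776))))))))))
theorem f383422 : Led Lsl_gt (LP (LK LD1_c11 LD2_c6 LD3_c47)) = (LP (LK LD1_c20 LD2_c0 LD3_c6)) :=
  Lre_g IH (LK LD1_c11 LD2_c6 LD3_c47) (LK LD1_c20 LD2_c0 LD3_c6) Lrfl Lrfl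
theorem f913625 : Led Lsl_at (LP (LK LD1_c11 LD2_c6 LD3_c58)) = (LP (LK LD1_c20 LD2_c0 LD3_c6)) :=
  Lgr Lrot100 (Lpr_af (K70.f913623 IH) (Lpn (LP (LK LD1_c20 LD2_c0 LD3_c6))))
theorem f953550 : Led Lsl_ff (LP (LK LD1_c11 LD2_c6 LD3_c58)) = v46428 :=
  Lgr Lrot52 (Lpr_at (f913625 IH) (Lpe (f383422 IH) (Lpr_gf (f953548 IH) (Lpn v46428))))
theorem f953553 : Led Lsl_ft (LP (LK LD1_c11 LD2_c6 LD3_c58)) = v46428 :=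
  Lgr Lrot48 (Lpr_ff (f953550 IH) (Lpn v46428))
theorem f615466 : Led Lsl_ct (LP (LK LD1_c20 LD2_c0 LD3_c17)) = (LP (LK LD1_c11 LD2_c6 LD3_c58)) :=
  Lre_c IH (LK LD1_c20 LD2_c0 LD3_c17) (LK LD1_c11 LD2_c6 LD3_c58) Lrfl Lrfl
theorem f967268 : Led Lsl_ff (LP (LK LD1_c20 LD2_c0 LD3_c17)) = v48776 :=
  Lgr Lrot23 (Lpr_ct (f615466 IH) (Lpr_ft (f953553 IH) (Lpr_ct (f967265 IH) (Lpn v48776))))
theorem f438246 : Led Lsl_gt (LP (LK LD1_c11 LD2_c34 LD3_c59)) = (LP (LK LD1_c20 LD2_c32 LD3_c59)) :=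
  Lre_g IH (LK LD1_c11 LD2_c34 LD3_c59) (LK LD1_c20 LD2_c32 LD3_c59) Lrfl Lrfl
theorem f967270 : Led Lsl_at (LP (LK LD1_c20 LD2_c0 LD3_c17)) = (LP (LK LD1_c20 LD2_c32 LD3_c59)) :=
  Lgr Lrot26 (Lpr_ff (f967268 IH) (Lpe (f967264 IH) (Lpr_gt (f438246 IH) (Lpn (LP (LK LD1_c20 LD2_c32 LD3_c59))))))
theorem f967271 : Led Lsl_at (LP (LK LD1_c20 LD2_c0 LD3_c17)) = (LP (LK LD1_c20 LD2_c32 LD3_c59)) :=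
  Leop (Lpe (f967270 IH) (Lpn (LP (LK LD1_c20 LD2_c0 LD3_c17))))
theorem seed_2935 : LEOK LG_a (LK LD1_c20 LD2_c0 LD3_c17) :=
  Leoe_a (LK LD1_c20 LD2_c0 LD3_c17) (f967271 IH)
def v48794 : LQ := Led Lsl_gt (LP (LK LD1_c11 LD2_c35 LD3_c9))
theorem f967353 : Led Lsl_gt (LP (LK LD1_c11 LD2_c35 LD3_c9)) = v48794 :=
  Lrfl
theorem f386775 : Led Lsl_dt (LP (LK LD1_c5 LD2_c54 LD3_c49)) = (LP (LK LD1_c2 LD2_c53 LD3_c45)) :=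
  Lre_d IH (LK LD1_c5 LD2_c54 LD3_c49) (LK LD1_c2 LD2_c53 LD3_c45) Lrfl Lrfl
def v48045 : LQ := Led Lsl_dt (LP (LK LD1_c11 LD2_c25 LD3_c34))
theorem f962773 : Led Lsl_dt (LP (LK LD1_c11 LD2_c25 LD3_c34)) = v48045 :=
  Lrfl
theorem f962775 : Led Lsl_df (LP (LK LD1_c11 LD2_c25 LD3_c34)) = v48045 :=
  Lgr Lrot38 (Lpr_dt (f962773 IH) (Lpn v48045))
theorem f967355 : Led Lsl_et v48045 = v48794 :=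
  Lgr Lrot122 (Lpe (f962775 IH) (Lpr_gt (K56.f132399 IH) (Lpe (K5.f132366 IH) (Lpr_et (K5.f132360 IH) (Lpe (K40.f557522 IH) (Lpr_dt (K38.f386773 IH) (Lpr_gt (K36.f386769 IH) (Lpe (f386775 IH) (Lpr_et (K74.f386776 IH) (Lpr_gt (f967353 IH) (Lpn v48794)))))))))))
theorem f967358 : Led Lsl_ef v48045 = v48794 :=
  Lgr Lrot88 (Lpr_et (f967355 IH) (Lpn v48794))
theorem f962774 : Led Lsl_af (LP (LK LD1_c11 LD2_c58 LD3_c61)) = v48045 :=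
  Lgr Lrot117 (Lpr_dt (K56.f76067 IH) (Lpr_at (K56.f752882 IH) (Lpqs (K56.f753031 IH) (Lpr_dt (f962773 IH) (Lpn v48045)))))
theorem f427498 : Led Lsl_et (LP (LK LD1_c5 LD2_c7 LD3_c37)) = (LP (LK LD1_c10 LD2_c5 LD3_c32)) :=
  Lre_e IH (LK LD1_c5 LD2_c7 LD3_c37) (LK LD1_c10 LD2_c5 LD3_c32) Lrfl Lrfl
theorem f427499 : Led Lsl_gt (LP (LK LD1_c10 LD2_c5 LD3_c32)) = (LP (LK LD1_c18 LD2_c24 LD3_c11)) :=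
  Lre_g IH (LK LD1_c10 LD2_c5 LD3_c32) (LK LD1_c18 LD2_c24 LD3_c11) Lrfl Lrfl
theorem f741763 : Led Lsl_et (LP (LK LD1_c11 LD2_c58 LD3_c61)) = (LP (LK LD1_c18 LD2_c24 LD3_c11)) :=
  Lgr Lrot122 (Lpr_dt (K56.f76067 IH) (Lpr_gt (K56.f741755 IH) (Lpe (K38.f132414 IH) (Lpr_et (K38.f132417 IH) (Lpr_gt (K40.f548510 IH) (Lpr_dt (K40.f386852 IH) (Lpr_gt (K38.f427491 IH) (Lpe (K42.f3288 IH) (Lpr_et (f427498 IH) (Lpr_gt (f427499 IH) (Lpn (LP (LK LD1_c18 LD2_c24 LD3_c11)))))))))))))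
theorem f967359 : Led Lsl_at (LP (LK LD1_c18 LD2_c24 LD3_c11)) = v48794 :=
  Lgr Lrot80 (Lpe (f741763 IH) (Lpr_af (f962774 IH) (Lpr_ef (f967358 IH) (Lpn v48794))))
theorem f427490 : Led Lsl_gt (LP (LK LD1_c20 LD2_c33 LD3_c4)) = (LP (LK LD1_c11 LD2_c35 LD3_c9)) :=
  Lre_g IH (LK LD1_c20 LD2_c33 LD3_c4) (LK LD1_c11 LD2_c35 LD3_c9) Lrfl Lrfl
theorem f967361 : Led Lsl_ff (LP (LK LD1_c18 LD2_c24 LD3_c11)) = (LP (LK LD1_c20 LD2_c33 LD3_c4)) :=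
  Lgr Lrot52 (Lpr_at (f967359 IH) (Lpe (f967353 IH) (Lpe (f427490 IH) (Lpn (LP (LK LD1_c20 LD2_c33 LD3_c4))))))
theorem f967362 : Led Lsl_ft (LP (LK LD1_c20 LD2_c33 LD3_c4)) = (LP (LK LD1_c18 LD2_c24 LD3_c11)) :=
  Leop (Lpr_ff (f967361 IH) (Lpn (LP (LK LD1_c20 LD2_c33 LD3_c4))))
theorem seed_2936 : LEOK LG_f (LK LD1_c20 LD2_c33 LD3_c4) :=
  Leoe_f (LK LD1_c20 LD2_c33 LD3_c4) (f967362 IH)
theorem f741765 : Led Lsl_bt (LP (LK LD1_c6 LD2_c8 LD3_c49)) = (LP (LK LD1_c11 LD2_c58 LD3_c61)) :=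
  Lre_b IH (LK LD1_c6 LD2_c8 LD3_c49) (LK LD1_c11 LD2_c58 LD3_c61) Lrfl Lrfl
theorem f741766 : Led Lsl_bf (LP (LK LD1_c11 LD2_c59 LD3_c5)) = (LP (LK LD1_c18 LD2_c24 LD3_c11)) :=
  Lgr Lrot96 (Lpr_et (K72.f76044 IH) (Lpr_bt (f741765 IH) (Lpr_et (f741763 IH) (Lpn (LP (LK LD1_c18 LD2_c24 LD3_c11))))))
theorem f618625 : Led Lsl_ef (LP (LK LD1_c11 LD2_c40 LD3_c59)) = (LP (LK LD1_c18 LD2_c22 LD3_c39)) :=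
  Lgr Lrot88 (Lpr_et (K73.f618623 IH) (Lpn (LP (LK LD1_c18 LD2_c22 LD3_c39))))
theorem f752861 : Led Lsl_af (LP (LK LD1_c6 LD2_c8 LD3_c45)) = K56.v16925 :=
  Lgr Lrot0 (Lpr_at (K56.f752860 IH) (Lpn K56.v16925))
theorem f752871 : Led Lsl_af (LP (LK LD1_c6 LD2_c8 LD3_c49)) = K70.v16928 :=
  Lgr Lrot45 (Lpr_ft (K56.f752864 IH) (Lpe (f752861 IH) (Lpr_ft (K70.f752870 IH) (Lpn K70.v16928))))
theorem f753605 : Led Lsl_af (LP (LK LD1_c18 LD2_c22 LD3_c39)) = (LP (LK LD1_c11 LD2_c59 LD3_c5)) :=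
  Lgr Lrot50 (Lpe (f618625 IH) (Lpq (K70.f752927 IH) (Lpe (f752871 IH) (Lpr_et (K69.f76054 IH) (Lpn (LP (LK LD1_c11 LD2_c59 LD3_c5)))))))
theorem f753609 : Led Lsl_ft (LP (LK LD1_c18 LD2_c22 LD3_c40)) = (LP (LK LD1_c11 LD2_c59 LD3_c5)) :=
  Lgr Lrot2 (Lpr_gt (K69.f176981 IH) (Lpr_gt (K73.f176982 IH) (Lpr_af (f753605 IH) (Lpn (LP (LK LD1_c11 LD2_c59 LD3_c5))))))
theorem f753611 : Led Lsl_ff (LP (LK LD1_c18 LD2_c22 LD3_c40)) = (LP (LK LD1_c11 LD2_c59 LD3_c5)) :=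
  Lgr Lrot3 (Lpr_ft (f753609 IH) (Lpn (LP (LK LD1_c11 LD2_c59 LD3_c5))))
theorem f967363 : Led Lsl_bt (LP (LK LD1_c18 LD2_c22 LD3_c40)) = (LP (LK LD1_c20 LD2_c33 LD3_c4)) :=
  Lgr Lrot35 (Lpr_ff (f753611 IH) (Lpr_bf (f741766 IH) (Lpr_ff (f967361 IH) (Lpn (LP (LK LD1_c20 LD2_c33 LD3_c4))))))
theorem f699256 : Led Lsl_ct (LP (LK LD1_c10 LD2_c4 LD3_c52)) = (LP (LK LD1_c11 LD2_c40 LD3_c24)) :=
  Lgr Lrot40 (Lpe (K73.f387268 IH) (Lpe (K50.f165675 IH) (Lpr_ff (K53.f699250 IH) (Lpn (LP (LK LD1_c11 LD2_c40 LD3_c24))))))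
theorem f301767 : Led Lsl_bt (LP (LK LD1_c10 LD2_c4 LD3_c52)) = (LP (LK LD1_c5 LD2_c7 LD3_c11)) :=
  Lre_b IH (LK LD1_c10 LD2_c4 LD3_c52) (LK LD1_c5 LD2_c7 LD3_c11) Lrfl Lrfl
theorem f301776 : Led Lsl_ct (LP (LK LD1_c10 LD2_c18 LD3_c12)) = (LP (LK LD1_c18 LD2_c43 LD3_c16)) :=
  Lre_c IH (LK LD1_c10 LD2_c18 LD3_c12) (LK LD1_c18 LD2_c43 LD3_c16) Lrfl Lrfl
theorem f570367 : Led Lsl_et (LP (LK LD1_c20 LD2_c2 LD3_c0)) = (LP (LK LD1_c11 LD2_c8 LD3_c27)) :=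
  Lre_e IH (LK LD1_c20 LD2_c2 LD3_c0) (LK LD1_c11 LD2_c8 LD3_c27) Lrfl Lrfl
theorem f570368 : Led Lsl_ct (LP (LK LD1_c11 LD2_c35 LD3_c9)) = (LP (LK LD1_c20 LD2_c2 LD3_c0)) :=
  Lgr Lrot15 (Lpe (K74.f386776 IH) (Lpr_cf (K42.f570350 IH) (Lpe (f570367 IH) (Lpn (LP (LK LD1_c20 LD2_c2 LD3_c0))))))
theorem f967377 : Led Lsl_gf (LP (LK LD1_c18 LD2_c43 LD3_c16)) = (LP (LK LD1_c20 LD2_c2 LD3_c0)) :=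
  Lgr Lrot129 (Lpe (f301776 IH) (Lpr_bt (K56.f301774 IH) (Lpr_gt (K53.f301772 IH) (Lpe (f301767 IH) (Lpr_ct (f699256 IH) (Lpr_gt (K69.f618448 IH) (Lpr_cf (K69.f899650 IH) (Lpr_bt (f967363 IH) (Lpr_gt (f427490 IH) (Lpr_ct (f570368 IH) (Lpn (LP (LK LD1_c20 LD2_c2 LD3_c0)))))))))))))
def v14232 : LQ := Led Lsl_ft (LP (LK LD1_c5 LD2_c3 LD3_c56))
theorem f721117 : Led Lsl_ft (LP (LK LD1_c5 LD2_c3 LD3_c56)) = v14232 :=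
  Lrfl
theorem f721120 : Led Lsl_ff (LP (LK LD1_c5 LD2_c3 LD3_c56)) = v14232 :=
  Lgr Lrot3 (Lpr_ft (f721117 IH) (Lpn v14232))
theorem f721121 : Led Lsl_ct (LP (LK LD1_c5 LD2_c7 LD3_c11)) = v14232 :=
  Lgr Lrot40 (Lpe (K53.f165688 IH) (Lpe (K18.f165676 IH) (Lpr_ff (f721120 IH) (Lpn v14232))))
def v14465 : LQ := Led Lsl_gf (LP (LK LD1_c5 LD2_c11 LD3_c2))
theorem f722666 : Led Lsl_gf (LP (LK LD1_c5 LD2_c11 LD3_c2)) = v14465 :=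
  Lrfl
theorem f301756 : Led Lsl_af (LP (LK LD1_c5 LD2_c11 LD3_c2)) = (LP (LK LD1_c5 LD2_c3 LD3_c56)) :=
  Lgr Lrot0 (Lpr_at (K18.f301754 IH) (Lpn (LP (LK LD1_c5 LD2_c3 LD3_c56))))
theorem f722667 : Led Lsl_gt v14232 = v14465 :=
  Lgr Lrot5 (Lpe (f721120 IH) (Lpe (f301756 IH) (Lpr_gf (f722666 IH) (Lpn v14465))))
def v14341 : LQ := Led Lsl_ct (LP (LK LD1_c5 LD2_c6 LD3_c55))
theorem f722035 : Led Lsl_ct (LP (LK LD1_c5 LD2_c6 LD3_c55)) = v14341 :=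
  Lrfl
theorem f722036 : Led Lsl_cf (LP (LK LD1_c5 LD2_c6 LD3_c55)) = v14341 :=
  Lgr Lrot11 (Lpr_ct (f722035 IH) (Lpn v14341))
theorem f901864 : Led Lsl_ff v14341 = K73.v24166 :=
  Lgr Lrot23 (Lpe (f722036 IH) (Lpqs (K73.f901858 IH) (Lpe (K73.f723738 IH) (Lpr_ct (K73.f822747 IH) (Lpn K73.v24166)))))
theorem f901876 : Led Lsl_ft v14341 = K73.v24166 :=
  Lgr Lrot48 (Lpr_ff (f901864 IH) (Lpn K73.v24166))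
theorem f822748 : Led Lsl_cf K73.v4593 = K73.v24166 :=
  Lgr Lrot11 (Lpr_ct (K73.f822747 IH) (Lpn K73.v24166))
def v14560 : LQ := Led Lsl_ft (LP (LK LD1_c5 LD2_c13 LD3_c35))
theorem f723744 : Led Lsl_ft (LP (LK LD1_c5 LD2_c13 LD3_c35)) = v14560 :=
  Lrfl
theorem f723746 : Led Lsl_ff (LP (LK LD1_c5 LD2_c13 LD3_c35)) = v14560 :=
  Lgr Lrot3 (Lpr_ft (f723744 IH) (Lpn v14560))
theorem f723747 : Led Lsl_at K73.v4593 = v14560 :=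
  Lgr Lrot66 (Lpr_ff (K73.f723738 IH) (Lpe (K73.f723734 IH) (Lpr_ff (f723746 IH) (Lpn v14560))))
theorem f901861 : K75.v4572 = v14560 :=
  Lefun (Lecon (Lfl_ff (K75.f722034 IH)) (K73.f901857 IH)) (f723744 IH)
def v24131 : LQ := Led Lsl_ct K75.v4572
theorem f822542 : Led Lsl_ct K75.v4572 = v24131 :=
  Lrfl
theorem f901879 : Led Lsl_af K73.v24166 = v24131 :=
  Lgr Lrot68 (Lpe (f822748 IH) (Lpr_at (f723747 IH) (Lpq (f901861 IH) (Lpr_ct (f822542 IH) (Lpn v24131)))))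
theorem f901880 : Led Lsl_at K73.v24166 = v24131 :=
  Lgr Lrot100 (Lpr_af (f901879 IH) (Lpn v24131))
theorem f936115 : Led Lsl_cf (LP (LK LD1_c17 LD2_c58 LD3_c15)) = (LP (LK LD1_c17 LD2_c58 LD3_c16)) :=
  Lgr Lrot11 (Lpr_ct (K73.f936111 IH) (Lpn (LP (LK LD1_c17 LD2_c58 LD3_c16))))
theorem f427790 : Led Lsl_bt (LP (LK LD1_c9 LD2_c7 LD3_c20)) = (LP (LK LD1_c5 LD2_c57 LD3_c45)) :=
  Lgr Lrot127 (Lpr_bf (K40.f427788 IH) (Lpn (LP (LK LD1_c5 LD2_c57 LD3_c45))))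
theorem f900201 : Led Lsl_bt (LP (LK LD1_c11 LD2_c40 LD3_c24)) = K73.v38236 :=
  Lgr Lrot119 (Lpe (K36.f426218 IH) (Lpe (f427790 IH) (Lpr_ef (K73.f900198 IH) (Lpn K73.v38236))))
theorem f753291 : Led Lsl_ef (LP (LK LD1_c10 LD2_c4 LD3_c35)) = (LP (LK LD1_c9 LD2_c15 LD3_c35)) :=
  Lgr Lrot88 (Lpr_et (K73.f753287 IH) (Lpn (LP (LK LD1_c9 LD2_c15 LD3_c35))))
theorem f900199 : Led Lsl_gf (LP (LK LD1_c10 LD2_c4 LD3_c35)) = K73.v38236 :=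
  Lgr Lrot141 (Lpr_ef (f753291 IH) (Lpr_dt (K59.f100110 IH) (Lpr_gt (K56.f79978 IH) (Lpe (K59.f100086 IH) (Lpr_et (K36.f542350 IH) (Lpr_gt (K59.f542342 IH) (Lpr_dt (K69.f34986 IH) (Lpr_gt (K37.f34990 IH) (Lpe (K40.f34957 IH) (Lpr_et (K73.f900194 IH) (Lpn K73.v38236)))))))))))
theorem f387280 : Led Lsl_gf (LP (LK LD1_c17 LD2_c58 LD3_c16)) = (LP (LK LD1_c10 LD2_c4 LD3_c52)) :=
  Lgr Lrot47 (Lpr_gt (K73.f387161 IH) (Lpr_af (K71.f387258 IH) (Lpe (K71.f387279 IH) (Lpn (LP (LK LD1_c10 LD2_c4 LD3_c52))))))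
def v14464 : LQ := Led Lsl_gt (LP (LK LD1_c5 LD2_c11 LD3_c2))
theorem f722665 : Led Lsl_gt (LP (LK LD1_c5 LD2_c11 LD3_c2)) = v14464 :=
  Lrfl
theorem f722675 : Led Lsl_af v14232 = K73.v14467 :=
  Lgr Lrot45 (Lpe (f721120 IH) (Lpe (f301756 IH) (Lpr_ft (K73.f722674 IH) (Lpn K73.v14467))))
theorem f722679 : Led Lsl_gt v14464 = v14232 :=
  Lgr Lrot46 (Lpe (f722665 IH) (Lpr_ft (K73.f722674 IH) (Lpe (f722675 IH) (Lpn v14232))))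
theorem f936117 : v14341 = v14464 :=
  (Llr Lrot64 (Lpe (f722035 IH) (Lpr_bt (K73.f722032 IH) (Lpr_gf (f900199 IH) (Lpe (f900201 IH) (Lpe (K73.f699246 IH) (Lpe (K71.f920779 IH) (Lpr_cf (f936115 IH) (Lpr_gf (f387280 IH) (Lpe (K73.f301771 IH) (Lpr_ct (f721121 IH) (Lpe (f722679 IH) (Lpn v14464))))))))))))).symm
theorem f936118 : v24131 = v14465 :=
  (Llr Lrot26 (Lpe (f901880 IH) (Lpe (f901876 IH) (Lpqs (f936117 IH) (Lpr_gt (f722679 IH) (Lpr_gt (f722667 IH) (Lpn v14465))))))).symm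
theorem f566995 : Led Lsl_bt (LP (LK LD1_c11 LD2_c35 LD3_c9)) = (LP (LK LD1_c5 LD2_c54 LD3_c55)) :=
  Lre_b IH (LK LD1_c11 LD2_c35 LD3_c9) (LK LD1_c5 LD2_c54 LD3_c55) Lrfl Lrfl
def v16200 : LQ := Led Lsl_gf (LP (LK LD1_c5 LD2_c54 LD3_c55))
theorem f747004 : Led Lsl_gf (LP (LK LD1_c5 LD2_c54 LD3_c55)) = v16200 :=
  Lrfl
theorem f967379 : K75.v24130 = v16200 :=
  (Llr Lrot22 (Lpe (K75.f822540 IH) (Lpr_ct (f822542 IH) (Lpqs (f936118 IH) (Lpe (f722667 IH) (Lpe (f721121 IH) (Lpe (K53.f301772 IH) (Lpe (K56.f301774 IH) (Lpr_ct (f301776 IH) (Lpr_gf (f967377 IH) (Lpe (f570368 IH) (Lpr_bt (f566995 IH) (Lpr_gf (f747004 IH) (Lpn v16200)))))))))))))).symm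
theorem f202287 : Led Lsl_gt (LP (LK LD1_c5 LD2_c54 LD3_c55)) = (LP (LK LD1_c11 LD2_c35 LD3_c17)) :=
  Lre_g IH (LK LD1_c5 LD2_c54 LD3_c55) (LK LD1_c11 LD2_c35 LD3_c17) Lrfl Lrfl
theorem f967380 : K75.v42828 = (LP (LK LD1_c11 LD2_c35 LD3_c17)) :=
  (Llr Lrot26 (Lpe (K75.f936185 IH) (Lpr_ff (K75.f901881 IH) (Lpqs (f967379 IH) (Lpe (f747004 IH) (Lpr_gt (f202287 IH) (Lpn (LP (LK LD1_c11 LD2_c35 LD3_c17))))))))).symm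
theorem f967381 : Led Lsl_at (LP (LK LD1_c11 LD2_c35 LD3_c17)) = (LP (LK LD1_c10 LD2_c17 LD3_c26)) :=
  Leop (Lpr_af (K75.f936186 IH) (Lpqs (f967380 IH) (Lpn (LP (LK LD1_c11 LD2_c35 LD3_c17)))))
theorem seed_2937 : LEOK LG_a (LK LD1_c11 LD2_c35 LD3_c17) :=
  Leoe_a (LK LD1_c11 LD2_c35 LD3_c17) (f967381 IH)
def v48814 : LQ := Led Lsl_bt (LP (LK LD1_c11 LD2_c35 LD3_c30))
theorem f967493 : Led Lsl_bt (LP (LK LD1_c11 LD2_c35 LD3_c30)) = v48814 :=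
  Lrfl
theorem f545709 : Led Lsl_bt (LP (LK LD1_c5 LD2_c14 LD3_c11)) = (LP (LK LD1_c8 LD2_c12 LD3_c35)) :=
  Lgr Lrot127 (Lpr_bf (K38.f545701 IH) (Lpn (LP (LK LD1_c8 LD2_c12 LD3_c35))))
theorem f501344 : Led Lsl_bt (LP (LK LD1_c11 LD2_c58 LD3_c7)) = (LP (LK LD1_c6 LD2_c8 LD3_c2)) :=
  Lre_b IH (LK LD1_c11 LD2_c58 LD3_c7) (LK LD1_c6 LD2_c8 LD3_c2) Lrfl Lrfl
theorem f967495 : Led Lsl_cf (LP (LK LD1_c11 LD2_c58 LD3_c7)) = v48814 :=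
  Lgr Lrot97 (Lpr_bt (f501344 IH) (Lpr_ct (K56.f614309 IH) (Lpr_bt (f545709 IH) (Lpe (K38.f545690 IH) (Lpr_bt (f967493 IH) (Lpn v48814))))))
theorem f614326 : Led Lsl_gt (LP (LK LD1_c21 LD2_c3 LD3_c10)) = (LP (LK LD1_c11 LD2_c58 LD3_c7)) :=
  Lre_g IH (LK LD1_c21 LD2_c3 LD3_c10) (LK LD1_c11 LD2_c58 LD3_c7) Lrfl Lrfl
theorem f967494 : Led Lsl_bf (LP (LK LD1_c11 LD2_c35 LD3_c30)) = v48814 :=
  Lgr Lrot24 (Lpr_bt (f967493 IH) (Lpn v48814))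
theorem f442715 : Led Lsl_bt (LP (LK LD1_c2 LD2_c53 LD3_c54)) = (LP (LK LD1_c5 LD2_c55 LD3_c7)) :=
  Lre_b IH (LK LD1_c2 LD2_c53 LD3_c54) (LK LD1_c5 LD2_c55 LD3_c7) Lrfl Lrfl
theorem f442722 : Led Lsl_bt (LP (LK LD1_c20 LD2_c33 LD3_c53)) = (LP (LK LD1_c11 LD2_c35 LD3_c43)) :=
  Lre_b IH (LK LD1_c20 LD2_c33 LD3_c53) (LK LD1_c11 LD2_c35 LD3_c43) Lrfl Lrfl
theorem f967499 : Led Lsl_cf (LP (LK LD1_c21 LD2_c3 LD3_c10)) = (LP (LK LD1_c20 LD2_c33 LD3_c53)) :=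
  Lgr Lrot160 (Lpr_gt (f614326 IH) (Lpr_cf (f967495 IH) (Lpe (f967494 IH) (Lpr_gt (K38.f545685 IH) (Lpr_ct (K38.f538440 IH) (Lpr_gt (K38.f186787 IH) (Lpe (K38.f166173 IH) (Lpr_bt (f442715 IH) (Lpr_gt (K73.f180592 IH) (Lpe (f442722 IH) (Lpn (LP (LK LD1_c20 LD2_c33 LD3_c53)))))))))))))
theorem f967500 : Led Lsl_ct (LP (LK LD1_c20 LD2_c33 LD3_c53)) = (LP (LK LD1_c21 LD2_c3 LD3_c10)) :=
  Leop (Lpr_cf (f967499 IH) (Lpn (LP (LK LD1_c20 LD2_c33 LD3_c53))))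
theorem seed_2938 : LEOK LG_c (LK LD1_c20 LD2_c33 LD3_c53) :=
  Leoe_c (LK LD1_c20 LD2_c33 LD3_c53) (f967500 IH)
def v48821 : LQ := Led Lsl_et (LP (LK LD1_c11 LD2_c35 LD3_c35))
theorem f967536 : Led Lsl_et (LP (LK LD1_c11 LD2_c35 LD3_c35)) = v48821 :=
  Lrfl
theorem f967538 : Led Lsl_ef (LP (LK LD1_c11 LD2_c35 LD3_c35)) = v48821 :=
  Lgr Lrot88 (Lpr_et (f967536 IH) (Lpn v48821))
theorem f935446 : Led Lsl_gf (LP (LK LD1_c18 LD2_c21 LD3_c31)) = K74.v42720 :=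
  Lgr Lrot47 (Lpr_gt (K74.f180519 IH) (Lpe (K74.f180530 IH) (Lpr_ff (K74.f935442 IH) (Lpn K74.v42720))))
def v41979 : LQ := Led Lsl_et (LP (LK LD1_c10 LD2_c4 LD3_c37))
theorem f930591 : Led Lsl_et (LP (LK LD1_c10 LD2_c4 LD3_c37)) = v41979 :=
  Lrfl
def v24755 : LQ := Led Lsl_bt K49.v4951
theorem f825444 : Led Lsl_bt K49.v4951 = v24755 :=
  Lrfl
theorem f822758 : Led Lsl_bf K46.v4594 = K64.v24169 :=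
  Lgr Lrot24 (Lpr_bt (K64.f822757 IH) (Lpn K64.v24169))
theorem f825447 : Led Lsl_ef K64.v24169 = v24755 :=
  Lgr Lrot29 (Lpe (f822758 IH) (Lpr_et (K56.f646034 IH) (Lpr_bt (f825444 IH) (Lpn v24755))))
def v4229 : LQ := Led Lsl_et (LP (LK LD1_c2 LD2_c16 LD3_c34))
def v23847 : LQ := Led Lsl_dt v4229
theorem f820859 : Led Lsl_dt v4229 = v23847 :=
  Lrfl
theorem f632072 : Led Lsl_et (LP (LK LD1_c2 LD2_c16 LD3_c34)) = v4229 :=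
  Lrfl
theorem f632075 : Led Lsl_ef (LP (LK LD1_c2 LD2_c16 LD3_c34)) = v4229 :=
  Lgr Lrot88 (Lpr_et (f632072 IH) (Lpn v4229))
theorem f632076 : Led Lsl_bt K46.v1280 = v4229 :=
  Lgr Lrot119 (Lpe (K46.f494516 IH) (Lpe (K56.f415623 IH) (Lpr_ef (f632075 IH) (Lpn v4229))))
theorem f820860 : Led Lsl_bf K49.v5116 = v23847 :=
  Lgr Lrot93 (Lpe (K49.f646014 IH) (Lpqs (K46.f645297 IH) (Lpr_bt (f632076 IH) (Lpr_dt (f820859 IH) (Lpn v23847)))))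
theorem f825448 : Led Lsl_ff v23847 = v24755 :=
  Lgr Lrot25 (Lpe (f820860 IH) (Lpe (K49.f646020 IH) (Lpr_bt (f825444 IH) (Lpn v24755))))
theorem f825450 : Led Lsl_ft v23847 = v24755 :=
  Lgr Lrot48 (Lpr_ff (f825448 IH) (Lpn v24755))
def v38664 : LQ := Led Lsl_dt (LP (LK LD1_c9 LD2_c14 LD3_c5))
theorem f903637 : Led Lsl_dt (LP (LK LD1_c9 LD2_c14 LD3_c5)) = v38664 :=
  Lrfl
theorem f632064 : Led Lsl_dt (LP (LK LD1_c2 LD2_c16 LD3_c34)) = (LP (LK LD1_c4 LD2_c39 LD3_c10)) :=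
  Lre_d IH (LK LD1_c2 LD2_c16 LD3_c34) (LK LD1_c4 LD2_c39 LD3_c10) Lrfl Lrfl
theorem f820861 : Led Lsl_df v4229 = v23847 :=
  Lgr Lrot38 (Lpr_dt (f820859 IH) (Lpn v23847))
theorem f903640 : Led Lsl_ef v23847 = v38664 :=
  Lgr Lrot73 (Lpe (f820861 IH) (Lpe (f632075 IH) (Lpr_dt (f632064 IH) (Lpr_et (K72.f632067 IH) (Lpr_dt (f903637 IH) (Lpn v38664))))))
theorem f930595 : Led Lsl_ff v38664 = v41979 :=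
  Lgr Lrot72 (Lpe (f903640 IH) (Lpr_ft (f825450 IH) (Lpe (f825447 IH) (Lpe (K72.f822760 IH) (Lpr_et (f930591 IH) (Lpn v41979))))))
theorem f930598 : Led Lsl_ft v38664 = v41979 :=
  Lgr Lrot48 (Lpr_ff (f930595 IH) (Lpn v41979))
theorem f930599 : Led Lsl_df (LP (LK LD1_c11 LD2_c6 LD3_c25)) = v41979 :=
  Lgr Lrot78 (Lpr_ft (K74.f645823 IH) (Lpr_dt (f903637 IH) (Lpr_ft (f930598 IH) (Lpn v41979))))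
theorem f930594 : Led Lsl_ef (LP (LK LD1_c10 LD2_c4 LD3_c37)) = v41979 :=
  Lgr Lrot88 (Lpr_et (f930591 IH) (Lpn v41979))
theorem f570466 : Led Lsl_ft (LP (LK LD1_c5 LD2_c54 LD3_c55)) = (LP (LK LD1_c11 LD2_c35 LD3_c19)) :=
  Lre_f IH (LK LD1_c5 LD2_c54 LD3_c55) (LK LD1_c11 LD2_c35 LD3_c19) Lrfl Lrfl
theorem f930560 : Led Lsl_et (LP (LK LD1_c11 LD2_c35 LD3_c19)) = K72.v41976 :=
  Lgr Lrot69 (Lpe (f570466 IH) (Lpe (K41.f500466 IH) (Lpr_ff (K42.f570462 IH) (Lpe (K64.f421483 IH) (Lpr_ff (K72.f930557 IH) (Lpn K72.v41976))))))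
theorem f567002 : Led Lsl_dt (LP (LK LD1_c11 LD2_c35 LD3_c19)) = (LP (LK LD1_c20 LD2_c33 LD3_c22)) :=
  Lre_d IH (LK LD1_c11 LD2_c35 LD3_c19) (LK LD1_c20 LD2_c33 LD3_c22) Lrfl Lrfl
theorem f567003 : Led Lsl_at (LP (LK LD1_c11 LD2_c35 LD3_c18)) = (LP (LK LD1_c6 LD2_c16 LD3_c37)) :=
  Lgr Lrot100 (Lpr_af (K41.f566999 IH) (Lpn (LP (LK LD1_c6 LD2_c16 LD3_c37))))
theorem f567024 : Led Lsl_ft (LP (LK LD1_c20 LD2_c33 LD3_c22)) = (LP (LK LD1_c11 LD2_c35 LD3_c18)) :=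
  Lre_f IH (LK LD1_c20 LD2_c33 LD3_c22) (LK LD1_c11 LD2_c35 LD3_c18) Lrfl Lrfl
theorem f543904 : Led Lsl_gt (LP (LK LD1_c12 LD2_c10 LD3_c16)) = (LP (LK LD1_c6 LD2_c16 LD3_c37)) :=
  Lre_g IH (LK LD1_c12 LD2_c10 LD3_c16) (LK LD1_c6 LD2_c16 LD3_c37) Lrfl Lrfl
theorem f615775 : Led Lsl_gt (LP (LK LD1_c20 LD2_c33 LD3_c22)) = (LP (LK LD1_c12 LD2_c10 LD3_c16)) :=
  Lgr Lrot5 (Lpr_ft (f567024 IH) (Lpr_at (f567003 IH) (Lpe (f543904 IH) (Lpn (LP (LK LD1_c12 LD2_c10 LD3_c16))))))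
theorem f967540 : Led Lsl_df (LP (LK LD1_c12 LD2_c10 LD3_c16)) = v48821 :=
  Lgr Lrot168 (Lpe (f615775 IH) (Lpe (f567002 IH) (Lpr_et (f930560 IH) (Lpe (K72.f930555 IH) (Lpr_ef (f930594 IH) (Lpe (f930599 IH) (Lpe (K74.f740661 IH) (Lpe (K74.f953351 IH) (Lpr_gf (f935446 IH) (Lpqs (K74.f953374 IH) (Lpr_ef (f967538 IH) (Lpn v48821))))))))))))
theorem f967542 : Led Lsl_dt (LP (LK LD1_c12 LD2_c10 LD3_c16)) = v48821 :=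
  Lgr Lrot42 (Lpr_df (f967540 IH) (Lpn v48821))
def v42722 : LQ := Led Lsl_et (LP (LK LD1_c10 LD2_c15 LD3_c28))
theorem f935455 : Led Lsl_et (LP (LK LD1_c10 LD2_c15 LD3_c28)) = v42722 :=
  Lrfl
theorem f935457 : Led Lsl_ef (LP (LK LD1_c10 LD2_c15 LD3_c28)) = v42722 :=
  Lgr Lrot88 (Lpr_et (f935455 IH) (Lpn v42722))
theorem f967537 : Led Lsl_af v42722 = v48821 :=
  Lgr Lrot50 (Lpe (f935457 IH) (Lpr_at (K74.f935439 IH) (Lpqs (K74.f953374 IH) (Lpr_et (f967536 IH) (Lpn v48821)))))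
def v48806 : LQ := Led Lsl_gf (LP (LK LD1_c11 LD2_c35 LD3_c18))
theorem f967441 : Led Lsl_gf (LP (LK LD1_c11 LD2_c35 LD3_c18)) = v48806 :=
  Lrfl
theorem f553864 : Led Lsl_dt (LP (LK LD1_c5 LD2_c54 LD3_c55)) = (LP (LK LD1_c11 LD2_c35 LD3_c18)) :=
  Lre_d IH (LK LD1_c5 LD2_c54 LD3_c55) (LK LD1_c11 LD2_c35 LD3_c18) Lrfl Lrfl
theorem f553863 : Led Lsl_et (LP (LK LD1_c5 LD2_c54 LD3_c55)) = (LP (LK LD1_c2 LD2_c53 LD3_c47)) :=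
  Lre_e IH (LK LD1_c5 LD2_c54 LD3_c55) (LK LD1_c2 LD2_c53 LD3_c47) Lrfl Lrfl
theorem f967443 : Led Lsl_dt v42722 = v48806 :=
  Lgr Lrot136 (Lpe (f935457 IH) (Lpr_gf (K74.f935438 IH) (Lpq (K74.f956472 IH) (Lpr_ef (K42.f561599 IH) (Lpr_dt (K42.f553837 IH) (Lpe (K39.f553815 IH) (Lpe (K39.f553872 IH) (Lpe (K39.f137411 IH) (Lpe (f553863 IH) (Lpr_dt (f553864 IH) (Lpr_gf (f967441 IH) (Lpn v48806))))))))))))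
theorem f967543 : Led Lsl_af (LP (LK LD1_c12 LD2_c10 LD3_c16)) = v48806 :=
  Lgr Lrot117 (Lpr_dt (f967542 IH) (Lpe (f967537 IH) (Lpr_dt (f967443 IH) (Lpn v48806))))
theorem f967445 : Led Lsl_df v42722 = v48806 :=
  Lgr Lrot38 (Lpr_dt (f967443 IH) (Lpn v48806))
theorem f935456 : Led Lsl_bf (LP (LK LD1_c10 LD2_c15 LD3_c30)) = v42722 :=
  Lgr Lrot96 (Lpr_et (K50.f387391 IH) (Lpr_bt (K74.f723076 IH) (Lpr_et (f935455 IH) (Lpn v42722))))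
theorem f967446 : Led Lsl_bt K50.v13203 = v48806 :=
  Lgr Lrot95 (Lpe (K50.f701653 IH) (Lpr_bf (f935456 IH) (Lpr_df (f967445 IH) (Lpn v48806))))
theorem f824311 : Led Lsl_af K50.v13203 = K64.v5305 :=
  Lgr Lrot0 (Lpr_at (K64.f824310 IH) (Lpn K64.v5305))
theorem f827268 : Led Lsl_bf K64.v5305 = K74.v25151 :=
  Lgr Lrot24 (Lpr_bt (K74.f827267 IH) (Lpn K74.v25151))
theorem f307989 : Led Lsl_at (LP (LK LD1_c2 LD2_c33 LD3_c41)) = (LP (LK LD1_c2 LD2_c30 LD3_c45)) :=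
  Lgr Lrot100 (Lpr_af (K38.f307987 IH) (Lpn (LP (LK LD1_c2 LD2_c30 LD3_c45))))
theorem f185796 : Led Lsl_ft (LP (LK LD1_c5 LD2_c13 LD3_c36)) = (LP (LK LD1_c2 LD2_c33 LD3_c41)) :=
  Lre_f IH (LK LD1_c5 LD2_c13 LD3_c36) (LK LD1_c2 LD2_c33 LD3_c41) Lrfl Lrfl
theorem f636194 : Led Lsl_gt (LP (LK LD1_c5 LD2_c13 LD3_c36)) = K75.v4572 :=
  Lgr Lrot5 (Lpr_ft (f185796 IH) (Lpr_at (f307989 IH) (Lpr_gf (K75.f636193 IH) (Lpn K75.v4572))))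
theorem f646975 : Led Lsl_dt (LP (LK LD1_c5 LD2_c13 LD3_c36)) = K50.v5306 :=
  Lgr Lrot60 (Lpe (K40.f185791 IH) (Lpe (K36.f185782 IH) (Lpr_ff (K50.f646974 IH) (Lpn K50.v5306))))
def v24612 : LQ := Led Lsl_gf K74.v4857
theorem f824776 : Led Lsl_gf K74.v4857 = v24612 :=
  Lrfl
theorem f936119 : Led Lsl_ct K50.v13203 = v24612 :=
  Lgr Lrot152 (Lpe (K50.f701652 IH) (Lpe (f646975 IH) (Lpr_gt (f636194 IH) (Lpr_ct (f822542 IH) (Lpqs (f936118 IH) (Lpe (f722666 IH) (Lpe (K73.f181079 IH) (Lpr_df (K36.f61308 IH) (Lpr_cf (K74.f640602 IH) (Lpr_gf (f824776 IH) (Lpn v24612)))))))))))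
def v25149 : LQ := Led Lsl_ct K64.v5304
theorem f827259 : Led Lsl_ct K64.v5304 = v25149 :=
  Lrfl
theorem f827260 : Led Lsl_cf K64.v5304 = v25149 :=
  Lgr Lrot11 (Lpr_ct (f827259 IH) (Lpn v25149))
theorem f936122 : Led Lsl_ff v25149 = v24612 :=
  Lgr Lrot23 (Lpe (f827260 IH) (Lpe (K64.f824312 IH) (Lpr_ct (f936119 IH) (Lpn v24612))))
def v24611 : LQ := Led Lsl_gt K74.v4857
theorem f824775 : Led Lsl_gt K74.v4857 = v24611 :=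
  Lrfl
theorem f936124 : Led Lsl_at v25149 = v24611 :=
  Lgr Lrot26 (Lpr_ff (f936122 IH) (Lpe (f824776 IH) (Lpr_gt (f824775 IH) (Lpn v24611))))
def v13202 : LQ := Led Lsl_gt (LP (LK LD1_c4 LD2_c41 LD3_c34))
theorem f701650 : Led Lsl_gt (LP (LK LD1_c4 LD2_c41 LD3_c34)) = v13202 :=
  Lrfl
theorem f824318 : Led Lsl_af v13202 = K64.v5304 :=
  Lgr Lrot31 (Lpe (f701650 IH) (Lpr_gf (K50.f701651 IH) (Lpr_ft (K71.f824315 IH) (Lpn K64.v5304))))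
theorem f824319 : Led Lsl_at v13202 = K64.v5304 :=
  Lgr Lrot100 (Lpr_af (f824318 IH) (Lpn K64.v5304))
theorem f936126 : Led Lsl_cf v13202 = v24611 :=
  Lgr Lrot1 (Lpr_at (f824319 IH) (Lpr_ct (f827259 IH) (Lpr_at (f936124 IH) (Lpn v24611))))
theorem f936127 : Led Lsl_ct v13202 = v24611 :=
  Lgr Lrot59 (Lpr_cf (f936126 IH) (Lpn v24611))
theorem f640603 : Led Lsl_ef (LP (LK LD1_c2 LD2_c50 LD3_c50)) = K74.v4857 :=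
  Lgr Lrot88 (Lpr_et (K74.f640601 IH) (Lpn K74.v4857))
theorem f640604 : Led Lsl_ct (LP (LK LD1_c2 LD2_c50 LD3_c51)) = K74.v4857 :=
  Lgr Lrot15 (Lpe (K36.f61307 IH) (Lpe (K40.f61312 IH) (Lpr_ef (f640603 IH) (Lpn K74.v4857))))
theorem f699429 : Led Lsl_at K74.v4859 = K73.v12900 :=
  Lgr Lrot80 (Lpe (K74.f640609 IH) (Lpr_af (K38.f302604 IH) (Lpr_ef (K73.f699428 IH) (Lpn K73.v12900))))
theorem f931490 : Led Lsl_gt K74.v17254 = K73.v38158 :=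
  Lgr Lrot5 (Lpe (K74.f757965 IH) (Lpr_at (f699429 IH) (Lpr_gf (K73.f931489 IH) (Lpn K73.v38158))))
def v38930 : LQ := Led Lsl_gt (LP (LK LD1_c9 LD2_c17 LD3_c54))
theorem f905474 : Led Lsl_gt (LP (LK LD1_c9 LD2_c17 LD3_c54)) = v38930 :=
  Lrfl
theorem f905475 : Led Lsl_gf (LP (LK LD1_c12 LD2_c10 LD3_c33)) = v38930 :=
  Lgr Lrot76 (Lpr_af (K73.f582216 IH) (Lpe (K73.f582204 IH) (Lpr_gt (f905474 IH) (Lpn v38930))))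
theorem f936131 : Led Lsl_bt v13202 = v38930 :=
  Lgr Lrot22 (Lpr_ct (f936127 IH) (Lpe (f824775 IH) (Lpe (f640604 IH) (Lpe (K53.f61326 IH) (Lpr_bf (K73.f744108 IH) (Lpqs (K73.f931493 IH) (Lpr_ct (K73.f899630 IH) (Lpe (f931490 IH) (Lpe (K74.f757963 IH) (Lpr_bt (K73.f186381 IH) (Lpr_gf (f905475 IH) (Lpn v38930))))))))))))
theorem f824320 : Led Lsl_ft v13202 = K64.v5305 :=
  Lgr Lrot101 (Lpr_af (f824318 IH) (Lpe (K71.f824315 IH) (Lpr_af (f824311 IH) (Lpn K64.v5305))))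
theorem f824321 : Led Lsl_ff v13202 = K64.v5305 :=
  Lgr Lrot3 (Lpr_ft (f824320 IH) (Lpn K64.v5305))
theorem f936133 : Led Lsl_ff K74.v25151 = v38930 :=
  Lgr Lrot25 (Lpe (f827268 IH) (Lpe (f824321 IH) (Lpr_bt (f936131 IH) (Lpn v38930))))
theorem f582205 : Led Lsl_gt (LP (LK LD1_c17 LD2_c12 LD3_c59)) = (LP (LK LD1_c9 LD2_c17 LD3_c54)) :=
  Lre_g IH (LK LD1_c17 LD2_c12 LD3_c59) (LK LD1_c9 LD2_c17 LD3_c54) Lrfl Lrfl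
theorem f582218 : Led Lsl_gt (LP (LK LD1_c12 LD2_c10 LD3_c33)) = (LP (LK LD1_c17 LD2_c12 LD3_c59)) :=
  Lgr Lrot5 (Lpr_ft (K73.f582215 IH) (Lpr_at (K44.f582206 IH) (Lpe (f582205 IH) (Lpn (LP (LK LD1_c17 LD2_c12 LD3_c59))))))
theorem f936135 : Led Lsl_at K74.v25151 = (LP (LK LD1_c17 LD2_c12 LD3_c59)) :=
  Lgr Lrot26 (Lpr_ff (f936133 IH) (Lpe (f905475 IH) (Lpr_gt (f582218 IH) (Lpn (LP (LK LD1_c17 LD2_c12 LD3_c59))))))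
theorem f936136 : Led Lsl_af K74.v25151 = (LP (LK LD1_c17 LD2_c12 LD3_c59)) :=
  Lgr Lrot0 (Lpr_at (f936135 IH) (Lpn (LP (LK LD1_c17 LD2_c12 LD3_c59))))
theorem f967544 : Led Lsl_bt (LP (LK LD1_c12 LD2_c10 LD3_c16)) = (LP (LK LD1_c17 LD2_c12 LD3_c59)) :=
  Lgr Lrot62 (Lpr_af (f967543 IH) (Lpe (f967446 IH) (Lpr_af (f824311 IH) (Lpr_bf (f827268 IH) (Lpr_af (f936136 IH) (Lpn (LP (LK LD1_c17 LD2_c12 LD3_c59))))))))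
theorem f967545 : Led Lsl_bt (LP (LK LD1_c12 LD2_c10 LD3_c16)) = (LP (LK LD1_c17 LD2_c12 LD3_c59)) :=
  Leop (Lpe (f967544 IH) (Lpn (LP (LK LD1_c12 LD2_c10 LD3_c16))))
theorem seed_2939 : LEOK LG_b (LK LD1_c12 LD2_c10 LD3_c16) :=
  Leoe_b (LK LD1_c12 LD2_c10 LD3_c16) (f967545 IH)
def v48823 : LQ := Led Lsl_gf (LP (LK LD1_c11 LD2_c35 LD3_c38))
theorem f967555 : Led Lsl_gf (LP (LK LD1_c11 LD2_c35 LD3_c38)) = v48823 :=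
  Lrfl
theorem f538445 : Led Lsl_ct (LP (LK LD1_c11 LD2_c35 LD3_c38)) = (LP (LK LD1_c5 LD2_c55 LD3_c5)) :=
  Lre_c IH (LK LD1_c11 LD2_c35 LD3_c38) (LK LD1_c5 LD2_c55 LD3_c5) Lrfl Lrfl
def v47997 : LQ := Led Lsl_ct (LP (LK LD1_c11 LD2_c24 LD3_c47))
theorem f961957 : Led Lsl_ct (LP (LK LD1_c11 LD2_c24 LD3_c47)) = v47997 :=
  Lrfl
def v5176 : LQ := Led Lsl_gf (LP (LK LD1_c3 LD2_c0 LD3_c46))
theorem f646365 : Led Lsl_gf (LP (LK LD1_c3 LD2_c0 LD3_c46)) = v5176 :=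
  Lrfl
theorem f701195 : Led Lsl_gf v5176 = K56.v13117 :=
  Lgr Lrot47 (Lpe (f646365 IH) (Lpr_af (K52.f646367 IH) (Lpr_ff (K56.f701191 IH) (Lpn K56.v13117))))
theorem f752506 : v5176 = (LP (LK LD1_c3 LD2_c5 LD3_c8)) :=
  Lefun (Lecon (Lfl_gf (f701195 IH)) (K56.f752499 IH)) (K56.f138587 IH)
theorem f538444 : Led Lsl_ct (LP (LK LD1_c6 LD2_c15 LD3_c58)) = (LP (LK LD1_c12 LD2_c9 LD3_c31)) :=
  Lre_c IH (LK LD1_c6 LD2_c15 LD3_c58) (LK LD1_c12 LD2_c9 LD3_c31) Lrfl Lrfl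
theorem f961960 : Led Lsl_gf (LP (LK LD1_c12 LD2_c9 LD3_c31)) = v47997 :=
  Lgr Lrot129 (Lpe (f538444 IH) (Lpr_bt (K55.f138454 IH) (Lpq (f752506 IH) (Lpe (f646365 IH) (Lpe (K56.f140088 IH) (Lpr_ct (K32.f140089 IH) (Lpe (K9.f79734 IH) (Lpr_cf (K2.f73510 IH) (Lpr_bt (K2.f73223 IH) (Lpr_gt (K73.f73240 IH) (Lpr_ct (f961957 IH) (Lpn v47997))))))))))))
theorem f967556 : Led Lsl_ct K67.v35679 = v48823 :=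
  Lgr Lrot152 (Lpe (K67.f876815 IH) (Lpr_df (K67.f73224 IH) (Lpr_gt (K73.f73240 IH) (Lpr_ct (f961957 IH) (Lpe (f961960 IH) (Lpr_ct (K38.f538454 IH) (Lpr_df (K38.f538438 IH) (Lpe (f538445 IH) (Lpr_gf (f967555 IH) (Lpn v48823))))))))))
theorem f881099 : Led Lsl_cf (LP (LK LD1_c8 LD2_c12 LD3_c47)) = K75.v35912 :=
  Lgr Lrot11 (Lpr_ct (K75.f881097 IH) (Lpn K75.v35912))
theorem f967559 : Led Lsl_ff K75.v35912 = v48823 :=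
  Lgr Lrot23 (Lpe (f881099 IH) (Lpr_ft (K67.f881037 IH) (Lpr_ct (f967556 IH) (Lpn v48823))))
theorem f538463 : Led Lsl_gt (LP (LK LD1_c11 LD2_c35 LD3_c38)) = (LP (LK LD1_c20 LD2_c33 LD3_c48)) :=
  Lre_g IH (LK LD1_c11 LD2_c35 LD3_c38) (LK LD1_c20 LD2_c33 LD3_c48) Lrfl Lrfl
theorem f967561 : Led Lsl_at K75.v35912 = (LP (LK LD1_c20 LD2_c33 LD3_c48)) :=
  Lgr Lrot26 (Lpr_ff (f967559 IH) (Lpe (f967555 IH) (Lpr_gt (f538463 IH) (Lpn (LP (LK LD1_c20 LD2_c33 LD3_c48))))))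
theorem f967563 : Led Lsl_cf (LP (LK LD1_c15 LD2_c26 LD3_c44)) = (LP (LK LD1_c20 LD2_c33 LD3_c48)) :=
  Lgr Lrot1 (Lpe (K67.f881033 IH) (Lpr_ct (K75.f881097 IH) (Lpr_at (f967561 IH) (Lpn (LP (LK LD1_c20 LD2_c33 LD3_c48))))))
theorem f967564 : Led Lsl_ct (LP (LK LD1_c20 LD2_c33 LD3_c48)) = (LP (LK LD1_c15 LD2_c26 LD3_c44)) :=
  Leop (Lpr_cf (f967563 IH) (Lpn (LP (LK LD1_c20 LD2_c33 LD3_c48))))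
theorem seed_2940 : LEOK LG_c (LK LD1_c20 LD2_c33 LD3_c48) :=
  Leoe_c (LK LD1_c20 LD2_c33 LD3_c48) (f967564 IH)
def v48825 : LQ := Led Lsl_ft (LP (LK LD1_c11 LD2_c35 LD3_c38))
theorem f967574 : Led Lsl_ft (LP (LK LD1_c11 LD2_c35 LD3_c38)) = v48825 :=
  Lrfl
theorem f967576 : Led Lsl_ff (LP (LK LD1_c11 LD2_c35 LD3_c38)) = v48825 :=
  Lgr Lrot3 (Lpr_ft (f967574 IH) (Lpn v48825))
theorem f572188 : Led Lsl_et (LP (LK LD1_c5 LD2_c55 LD3_c4)) = (LP (LK LD1_c11 LD2_c35 LD3_c38)) :=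
  Lre_e IH (LK LD1_c5 LD2_c55 LD3_c4) (LK LD1_c11 LD2_c35 LD3_c38) Lrfl Lrfl
theorem f966867 : Led Lsl_at (LP (LK LD1_c11 LD2_c35 LD3_c38)) = K75.v48691 :=
  Lgr Lrot80 (Lpe (f572188 IH) (Lpe (K38.f545643 IH) (Lpr_ef (K75.f966866 IH) (Lpn K75.v48691))))
theorem f966865 : Led Lsl_cf (LP (LK LD1_c11 LD2_c33 LD3_c50)) = K75.v48691 :=
  Lgr Lrot39 (Lpr_et (K70.f71266 IH) (Lpr_ct (K38.f249937 IH) (Lpr_et (K75.f966863 IH) (Lpn K75.v48691))))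
theorem f436716 : Led Lsl_ct (LP (LK LD1_c17 LD2_c15 LD3_c46)) = (LP (LK LD1_c9 LD2_c19 LD3_c52)) :=
  Lre_c IH (LK LD1_c17 LD2_c15 LD3_c46) (LK LD1_c9 LD2_c19 LD3_c52) Lrfl Lrfl
theorem f881018 : Led Lsl_ff (LP (LK LD1_c8 LD2_c12 LD3_c37)) = K67.v35903 :=
  Lgr Lrot3 (Lpr_ft (K67.f881015 IH) (Lpn K67.v35903))
theorem f881042 : Led Lsl_dt (LP (LK LD1_c11 LD2_c24 LD3_c48)) = K67.v35903 :=
  Lgr Lrot60 (Lpe (K2.f73443 IH) (Lpe (K73.f73247 IH) (Lpr_ff (f881018 IH) (Lpn K67.v35903))))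
theorem f55794 : Led Lsl_at (LP (LK LD1_c8 LD2_c12 LD3_c37)) = (LP (LK LD1_c4 LD2_c6 LD3_c0)) :=
  Lre_a IH (LK LD1_c8 LD2_c12 LD3_c37) (LK LD1_c4 LD2_c6 LD3_c0) Lrfl Lrfl
theorem f881043 : Led Lsl_gf (LP (LK LD1_c8 LD2_c12 LD3_c48)) = K67.v35903 :=
  Lgr Lrot47 (Lpr_gt (K67.f73275 IH) (Lpe (f55794 IH) (Lpr_ff (f881018 IH) (Lpn K67.v35903))))
def v35914 : LQ := Led Lsl_ct (LP (LK LD1_c8 LD2_c12 LD3_c48))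
theorem f881108 : Led Lsl_ct (LP (LK LD1_c8 LD2_c12 LD3_c48)) = v35914 :=
  Lrfl
theorem f966873 : Led Lsl_gt v35914 = K75.v48691 :=
  Lgr Lrot150 (Lpe (f881108 IH) (Lpr_gf (f881043 IH) (Lpe (f881042 IH) (Lpr_gt (K56.f74225 IH) (Lpr_ct (K75.f73267 IH) (Lpr_gt (K75.f752603 IH) (Lpr_ct (f436716 IH) (Lpr_df (K38.f436711 IH) (Lpr_cf (f966865 IH) (Lpn K75.v48691))))))))))
theorem f967578 : Led Lsl_gf v35914 = v48825 :=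
  Lgr Lrot47 (Lpr_gt (f966873 IH) (Lpe (f966867 IH) (Lpr_ff (f967576 IH) (Lpn v48825))))
theorem f538452 : Led Lsl_ft (LP (LK LD1_c5 LD2_c55 LD3_c5)) = (LP (LK LD1_c11 LD2_c35 LD3_c40)) :=
  Lre_f IH (LK LD1_c5 LD2_c55 LD3_c5) (LK LD1_c11 LD2_c35 LD3_c40) Lrfl Lrfl
theorem f967577 : Led Lsl_ct (LP (LK LD1_c11 LD2_c35 LD3_c40)) = v48825 :=
  Lgr Lrot40 (Lpe (f538452 IH) (Lpe (f538445 IH) (Lpr_ff (f967576 IH) (Lpn v48825))))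
theorem f739681 : Led Lsl_bf (LP (LK LD1_c11 LD2_c49 LD3_c54)) = (LP (LK LD1_c11 LD2_c35 LD3_c40)) :=
  Lgr Lrot61 (Lpr_ft (K64.f739677 IH) (Lpr_bt (K55.f538442 IH) (Lpr_ft (f538452 IH) (Lpn (LP (LK LD1_c11 LD2_c35 LD3_c40))))))
theorem f739702 : Led Lsl_gf (LP (LK LD1_c11 LD2_c49 LD3_c54)) = (LP (LK LD1_c11 LD2_c34 LD3_c51)) :=
  Lgr Lrot47 (Lpr_gt (K64.f645808 IH) (Lpe (K64.f645373 IH) (Lpr_ff (K64.f739696 IH) (Lpn (LP (LK LD1_c11 LD2_c34 LD3_c51))))))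
theorem f645453 : Led Lsl_bt (LP (LK LD1_c9 LD2_c13 LD3_c48)) = (LP (LK LD1_c6 LD2_c2 LD3_c52)) :=
  Lgr Lrot127 (Lpr_bf (K53.f645450 IH) (Lpn (LP (LK LD1_c6 LD2_c2 LD3_c52))))
theorem f710723 : Led Lsl_bt (LP (LK LD1_c11 LD2_c49 LD3_c43)) = (LP (LK LD1_c11 LD2_c38 LD3_c38)) :=
  Lgr Lrot95 (Lpe (K56.f645477 IH) (Lpe (f645453 IH) (Lpr_df (K52.f710719 IH) (Lpn (LP (LK LD1_c11 LD2_c38 LD3_c38))))))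
theorem f714460 : Led Lsl_af (LP (LK LD1_c9 LD2_c15 LD3_c17)) = (LP (LK LD1_c10 LD2_c17 LD3_c14)) :=
  Lgr Lrot0 (Lpr_at (K53.f714422 IH) (Lpn (LP (LK LD1_c10 LD2_c17 LD3_c14))))
theorem f714644 : Led Lsl_ft (LP (LK LD1_c11 LD2_c38 LD3_c38)) = (LP (LK LD1_c10 LD2_c17 LD3_c14)) :=
  Lgr Lrot101 (Lpe (K52.f710721 IH) (Lpr_ff (K52.f645393 IH) (Lpr_af (f714460 IH) (Lpn (LP (LK LD1_c10 LD2_c17 LD3_c14))))))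
theorem f739698 : Led Lsl_bt (LP (LK LD1_c10 LD2_c17 LD3_c14)) = (LP (LK LD1_c11 LD2_c34 LD3_c51)) :=
  Lgr Lrot35 (Lpe (f714644 IH) (Lpe (f710723 IH) (Lpr_ff (K64.f739696 IH) (Lpn (LP (LK LD1_c11 LD2_c34 LD3_c51))))))
theorem f601061 : Led Lsl_cf (LP (LK LD1_c17 LD2_c3 LD3_c28)) = (LP (LK LD1_c17 LD2_c57 LD3_c53)) :=
  Lgr Lrot11 (Lpr_ct (K56.f601059 IH) (Lpn (LP (LK LD1_c17 LD2_c57 LD3_c53))))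
theorem f967580 : Led Lsl_gt (LP (LK LD1_c15 LD2_c27 LD3_c5)) = (LP (LK LD1_c17 LD2_c57 LD3_c53)) :=
  Lgr Lrot82 (Lpe (K67.f876558 IH) (Lpr_ct (f881108 IH) (Lpr_gf (f967578 IH) (Lpe (f967577 IH) (Lpe (f739681 IH) (Lpr_gf (f739702 IH) (Lpe (f739698 IH) (Lpr_ct (K56.f185710 IH) (Lpe (K56.f752381 IH) (Lpr_cf (f601061 IH) (Lpn (LP (LK LD1_c17 LD2_c57 LD3_c53)))))))))))))
theorem f967581 : Led Lsl_gt (LP (LK LD1_c15 LD2_c27 LD3_c5)) = (LP (LK LD1_c17 LD2_c57 LD3_c53)) :=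
  Leop (Lpe (f967580 IH) (Lpn (LP (LK LD1_c15 LD2_c27 LD3_c5))))
theorem seed_2941 : LEOK LG_g (LK LD1_c15 LD2_c27 LD3_c5) :=
  Leoe_g (LK LD1_c15 LD2_c27 LD3_c5) (f967581 IH)
def v48851 : LQ := Led Lsl_bt (LP (LK LD1_c11 LD2_c35 LD3_c58))
theorem f967695 : Led Lsl_bt (LP (LK LD1_c11 LD2_c35 LD3_c58)) = v48851 :=
  Lrfl
theorem f741211 : Led Lsl_bt (LP (LK LD1_c12 LD2_c3 LD3_c32)) = K57.v15745 :=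
  Lgr Lrot119 (Lpr_ef (K51.f706207 IH) (Lpr_bf (K71.f640279 IH) (Lpr_ef (K57.f741209 IH) (Lpn K57.v15745))))
theorem f746882 : Led Lsl_bf (LP (LK LD1_c6 LD2_c11 LD3_c51)) = K57.v16182 :=
  Lgr Lrot93 (Lpr_dt (K51.f61465 IH) (Lpr_bt (f741211 IH) (Lpr_dt (K57.f746880 IH) (Lpn K57.v16182))))
theorem f967699 : Led Lsl_ef K57.v16182 = v48851 :=
  Lgr Lrot29 (Lpe (f746882 IH) (Lpr_et (K51.f700296 IH) (Lpr_bt (f967695 IH) (Lpn v48851))))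
def v38374 : LQ := Led Lsl_ft (LP (LK LD1_c9 LD2_c9 LD3_c29))
theorem f901655 : Led Lsl_ft (LP (LK LD1_c9 LD2_c9 LD3_c29)) = v38374 :=
  Lrfl
theorem f901659 : Led Lsl_ff (LP (LK LD1_c9 LD2_c9 LD3_c29)) = v38374 :=
  Lgr Lrot3 (Lpr_ft (f901655 IH) (Lpn v38374))
theorem f137294 : Led Lsl_bf (LP (LK LD1_c9 LD2_c9 LD3_c29)) = (LP (LK LD1_c5 LD2_c47 LD3_c48)) :=
  Lgr Lrot24 (Lpr_bt (K55.f137291 IH) (Lpn (LP (LK LD1_c5 LD2_c47 LD3_c48))))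
theorem f137344 : Led Lsl_af (LP (LK LD1_c5 LD2_c54 LD3_c33)) = (LP (LK LD1_c9 LD2_c9 LD3_c29)) :=
  Lgr Lrot36 (Lpr_bt (K57.f137343 IH) (Lpr_at (K6.f137339 IH) (Lpr_bt (K4.f83782 IH) (Lpr_at (K5.f117868 IH) (Lpe (f137294 IH) (Lpn (LP (LK LD1_c9 LD2_c9 LD3_c29))))))))
theorem f901663 : Led Lsl_gf K57.v16182 = v38374 :=
  Lgr Lrot47 (Lpe (K57.f746879 IH) (Lpr_af (f137344 IH) (Lpr_ff (f901659 IH) (Lpn v38374))))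
theorem f104836 : Led Lsl_et (LP (LK LD1_c4 LD2_c42 LD3_c57)) = (LP (LK LD1_c9 LD2_c19 LD3_c52)) :=
  Lre_e IH (LK LD1_c4 LD2_c42 LD3_c57) (LK LD1_c9 LD2_c19 LD3_c52) Lrfl Lrfl
theorem f538205 : Led Lsl_ft (LP (LK LD1_c4 LD2_c36 LD3_c46)) = (LP (LK LD1_c4 LD2_c42 LD3_c57)) :=
  Lgr Lrot48 (Lpr_ff (K35.f538196 IH) (Lpn (LP (LK LD1_c4 LD2_c42 LD3_c57))))
theorem f906368 : Led Lsl_ef v38374 = K70.v39087 :=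
  Lgr Lrot21 (Lpe (f901659 IH) (Lpr_et (K40.f137296 IH) (Lpr_ft (f538205 IH) (Lpr_et (f104836 IH) (Lpr_ft (K70.f906364 IH) (Lpn K70.v39087))))))
theorem f906367 : Led Lsl_df (LP (LK LD1_c18 LD2_c22 LD3_c31)) = K70.v39087 :=
  Lgr Lrot78 (Lpe (K70.f753563 IH) (Lpe (K38.f436711 IH) (Lpr_ft (K70.f906364 IH) (Lpn K70.v39087))))
theorem f710742 : Led Lsl_dt (LP (LK LD1_c18 LD2_c22 LD3_c32)) = (LP (LK LD1_c10 LD2_c3 LD3_c57)) :=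
  Lre_d IH (LK LD1_c18 LD2_c22 LD3_c32) (LK LD1_c10 LD2_c3 LD3_c57) Lrfl Lrfl
theorem f753414 : Led Lsl_at (LP (LK LD1_c17 LD2_c6 LD3_c21)) = (LP (LK LD1_c18 LD2_c22 LD3_c32)) :=
  Lgr Lrot66 (Lpe (K55.f700638 IH) (Lpe (K53.f700692 IH) (Lpr_ff (K56.f753412 IH) (Lpn (LP (LK LD1_c18 LD2_c22 LD3_c32))))))
theorem f715082 : Led Lsl_gt (LP (LK LD1_c9 LD2_c12 LD3_c16)) = (LP (LK LD1_c17 LD2_c6 LD3_c19)) :=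
  Lre_g IH (LK LD1_c9 LD2_c12 LD3_c16) (LK LD1_c17 LD2_c6 LD3_c19) Lrfl Lrfl
theorem f753559 : Led Lsl_gt (LP (LK LD1_c17 LD2_c6 LD3_c19)) = (LP (LK LD1_c18 LD2_c22 LD3_c32)) :=
  Lgr Lrot46 (Lpe (f715082 IH) (Lpr_ft (K55.f700638 IH) (Lpr_at (f753414 IH) (Lpn (LP (LK LD1_c18 LD2_c22 LD3_c32))))))
def v47789 : LQ := Led Lsl_et (LP (LK LD1_c11 LD2_c22 LD3_c3))
theorem f960097 : Led Lsl_et (LP (LK LD1_c11 LD2_c22 LD3_c3)) = v47789 :=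
  Lrfl
theorem f640274 : Led Lsl_bt (LP (LK LD1_c16 LD2_c56 LD3_c56)) = (LP (LK LD1_c11 LD2_c22 LD3_c3)) :=
  Lgr Lrot127 (Lpr_bf (K53.f640272 IH) (Lpn (LP (LK LD1_c11 LD2_c22 LD3_c3))))
theorem f960099 : Led Lsl_bf (LP (LK LD1_c17 LD2_c5 LD3_c13)) = v47789 :=
  Lgr Lrot96 (Lpr_et (K51.f706212 IH) (Lpr_bt (f640274 IH) (Lpr_et (f960097 IH) (Lpn v47789))))
theorem f967698 : Led Lsl_df v47789 = v48851 :=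
  Lgr Lrot12 (Lpe (f960099 IH) (Lpr_dt (K51.f700302 IH) (Lpr_bt (f967695 IH) (Lpn v48851))))
theorem f640289 : Led Lsl_dt (LP (LK LD1_c11 LD2_c22 LD3_c3)) = (LP (LK LD1_c5 LD2_c45 LD3_c50)) :=
  Lre_d IH (LK LD1_c11 LD2_c22 LD3_c3) (LK LD1_c5 LD2_c45 LD3_c50) Lrfl Lrfl
def v12973 : LQ := Led Lsl_gf (LP (LK LD1_c4 LD2_c35 LD3_c50))
theorem f699952 : Led Lsl_gf (LP (LK LD1_c4 LD2_c35 LD3_c50)) = v12973 :=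
  Lrfl
theorem f720633 : (LP (LK LD1_c2 LD2_c16 LD3_c34)) = v12973 :=
  Lefun (Lecon (Lfl_gt (K53.f632061 IH)) (K53.f720630 IH)) (f699952 IH)
def v28236 : LQ := Led Lsl_dt K66.v8015
theorem f843319 : Led Lsl_dt K66.v8015 = v28236 :=
  Lrfl
theorem f843321 : Led Lsl_gf v23847 = v28236 :=
  Lgr Lrot134 (Lpe (f820859 IH) (Lpe (f632075 IH) (Lpqs (f720633 IH) (Lpe (f699952 IH) (Lpe (K7.f138486 IH) (Lpr_dt (K7.f104776 IH) (Lpr_gt (K7.f149400 IH) (Lpe (K2.f70926 IH) (Lpr_et (K66.f500429 IH) (Lpr_gt (K66.f669643 IH) (Lpr_dt (f843319 IH) (Lpn v28236))))))))))))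
theorem f960103 : Led Lsl_gf K66.v28237 = v47789 :=
  Lgr Lrot141 (Lpe (K66.f843322 IH) (Lpr_dt (f843319 IH) (Lpe (f843321 IH) (Lpe (f820859 IH) (Lpe (f632075 IH) (Lpqs (f720633 IH) (Lpe (f699952 IH) (Lpr_dt (K53.f614360 IH) (Lpqs (K53.f715029 IH) (Lpe (K53.f698754 IH) (Lpe (f640289 IH) (Lpr_et (f960097 IH) (Lpn v47789)))))))))))))
theorem f843326 : Led Lsl_dt (LP (LK LD1_c9 LD2_c13 LD3_c29)) = K66.v28237 :=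
  Lgr Lrot42 (Lpr_df (K66.f843324 IH) (Lpn K66.v28237))
theorem f967707 : (LP (LK LD1_c17 LD2_c6 LD3_c19)) = K69.v38625 :=
  (Llr Lrot138 (Lpr_gt (f753559 IH) (Lpr_dt (f710742 IH) (Lpr_gt (K70.f710744 IH) (Lpr_df (f906367 IH) (Lpe (f906368 IH) (Lpe (f901663 IH) (Lpr_ef (f967699 IH) (Lpe (f967698 IH) (Lpe (f960103 IH) (Lpe (f843326 IH) (Lpr_et (K69.f903320 IH) (Lpn K69.v38625))))))))))))).symm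
theorem f967708 : Led Lsl_at (LP (LK LD1_c17 LD2_c6 LD3_c19)) = (LP (LK LD1_c12 LD2_c53 LD3_c16)) :=
  Leop (Lpr_af (K69.f903321 IH) (Lpq (f967707 IH) (Lpn (LP (LK LD1_c17 LD2_c6 LD3_c19)))))
theorem seed_2942 : LEOK LG_a (LK LD1_c17 LD2_c6 LD3_c19) :=
  Leoe_a (LK LD1_c17 LD2_c6 LD3_c19) (f967708 IH)
def v48859 : LQ := Led Lsl_bt (LP (LK LD1_c11 LD2_c36 LD3_c3))
theorem f967766 : Led Lsl_bt (LP (LK LD1_c11 LD2_c36 LD3_c3)) = v48859 :=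
  Lrfl
theorem f824324 : Led Lsl_bt (LP (LK LD1_c27 LD2_c59 LD3_c59)) = (LP (LK LD1_c18 LD2_c21 LD3_c36)) :=
  Lre_b IH (LK LD1_c27 LD2_c59 LD3_c59) (LK LD1_c18 LD2_c21 LD3_c36) Lrfl Lrfl
theorem f967769 : Led Lsl_ef (LP (LK LD1_c27 LD2_c59 LD3_c59)) = v48859 :=
  Lgr Lrot29 (Lpr_bt (f824324 IH) (Lpr_et (K71.f824322 IH) (Lpr_bt (f967766 IH) (Lpn v48859))))
def v25148 : LQ := Led Lsl_bt K64.v5304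
theorem f827257 : Led Lsl_bt K64.v5304 = v25148 :=
  Lrfl
theorem f827258 : Led Lsl_bf K64.v5304 = v25148 :=
  Lgr Lrot24 (Lpr_bt (f827257 IH) (Lpn v25148))
theorem f967768 : Led Lsl_df v25148 = v48859 :=
  Lgr Lrot12 (Lpe (f827258 IH) (Lpr_dt (K71.f701672 IH) (Lpr_bt (f967766 IH) (Lpn v48859))))
def v17243 : LQ := Led Lsl_gt (LP (LK LD1_c6 LD2_c16 LD3_c37))
theorem f757933 : Led Lsl_gt (LP (LK LD1_c6 LD2_c16 LD3_c37)) = v17243 :=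
  Lrfl
theorem f543926 : Led Lsl_ft (LP (LK LD1_c6 LD2_c16 LD3_c37)) = (LP (LK LD1_c12 LD2_c10 LD3_c17)) :=
  Lre_f IH (LK LD1_c6 LD2_c16 LD3_c37) (LK LD1_c12 LD2_c10 LD3_c17) Lrfl Lrfl
theorem f567010 : Led Lsl_ft (LP (LK LD1_c11 LD2_c35 LD3_c18)) = (LP (LK LD1_c20 LD2_c33 LD3_c22)) :=
  Lre_f IH (LK LD1_c11 LD2_c35 LD3_c18) (LK LD1_c20 LD2_c33 LD3_c22) Lrfl Lrfl
theorem f543924 : Led Lsl_ft (LP (LK LD1_c12 LD2_c10 LD3_c17)) = (LP (LK LD1_c6 LD2_c16 LD3_c37)) :=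
  Lre_f IH (LK LD1_c12 LD2_c10 LD3_c17) (LK LD1_c6 LD2_c16 LD3_c37) Lrfl Lrfl
theorem f567011 : Led Lsl_at (LP (LK LD1_c20 LD2_c33 LD3_c22)) = (LP (LK LD1_c12 LD2_c10 LD3_c17)) :=
  Lgr Lrot66 (Lpe (f567010 IH) (Lpr_af (K41.f566999 IH) (Lpe (f543924 IH) (Lpn (LP (LK LD1_c12 LD2_c10 LD3_c17))))))
theorem f567015 : Led Lsl_af (LP (LK LD1_c20 LD2_c33 LD3_c22)) = (LP (LK LD1_c12 LD2_c10 LD3_c17)) :=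
  Lgr Lrot0 (Lpr_at (f567011 IH) (Lpn (LP (LK LD1_c12 LD2_c10 LD3_c17))))
theorem f757934 : Led Lsl_gf (LP (LK LD1_c20 LD2_c33 LD3_c22)) = v17243 :=
  Lgr Lrot76 (Lpr_af (f567015 IH) (Lpe (f543926 IH) (Lpr_gt (f757933 IH) (Lpn v17243))))
theorem f967447 : Led Lsl_ff v25148 = v48806 :=
  Lgr Lrot25 (Lpe (f827258 IH) (Lpe (K64.f824312 IH) (Lpr_bt (f967446 IH) (Lpn v48806))))
theorem f967450 : Led Lsl_ft v25148 = v48806 :=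
  Lgr Lrot48 (Lpr_ff (f967447 IH) (Lpn v48806))
theorem f967547 : v17243 = v25148 :=
  (Llr Lrot47 (Lpe (f757934 IH) (Lpr_gt (f615775 IH) (Lpr_af (f967543 IH) (Lpe (f967450 IH) (Lpn v25148)))))).symm
theorem f563631 : Led Lsl_gf (LP (LK LD1_c5 LD2_c53 LD3_c58)) = (LP (LK LD1_c10 LD2_c4 LD3_c30)) :=
  Lgr Lrot145 (Lpe (K41.f112389 IH) (Lpr_et (K37.f543914 IH) (Lpr_gt (K37.f175540 IH) (Lpr_dt (K37.f396320 IH) (Lpr_gt (K42.f563628 IH) (Lpe (K42.f59057 IH) (Lpr_et (K42.f536150 IH) (Lpe (K42.f559578 IH) (Lpe (K39.f421675 IH) (Lpr_dt (K74.f186260 IH) (Lpn (LP (LK LD1_c10 LD2_c4 LD3_c30)))))))))))))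
theorem f186273 : Led Lsl_et (LP (LK LD1_c18 LD2_c23 LD3_c17)) = (LP (LK LD1_c10 LD2_c4 LD3_c30)) :=
  Lre_e IH (LK LD1_c18 LD2_c23 LD3_c17) (LK LD1_c10 LD2_c4 LD3_c30) Lrfl Lrfl
theorem f580770 : Led Lsl_gt (LP (LK LD1_c20 LD2_c30 LD3_c31)) = (LP (LK LD1_c11 LD2_c33 LD3_c16)) :=
  Lre_g IH (LK LD1_c20 LD2_c30 LD3_c31) (LK LD1_c11 LD2_c33 LD3_c16) Lrfl Lrfl
theorem f71259 : Led Lsl_gt (LP (LK LD1_c5 LD2_c55 LD3_c10)) = (LP (LK LD1_c11 LD2_c35 LD3_c53)) :=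
  Lre_g IH (LK LD1_c5 LD2_c55 LD3_c10) (LK LD1_c11 LD2_c35 LD3_c53) Lrfl Lrfl
theorem f580769 : Led Lsl_et (LP (LK LD1_c20 LD2_c34 LD3_c9)) = (LP (LK LD1_c11 LD2_c35 LD3_c53)) :=
  Lre_e IH (LK LD1_c20 LD2_c34 LD3_c9) (LK LD1_c11 LD2_c35 LD3_c53) Lrfl Lrfl
theorem f580771 : Led Lsl_dt (LP (LK LD1_c20 LD2_c34 LD3_c9)) = (LP (LK LD1_c20 LD2_c30 LD3_c31)) :=
  Lgr Lrot136 (Lpr_et (f580769 IH) (Lpe (f71259 IH) (Lpe (K11.f71232 IH) (Lpr_dt (K39.f71276 IH) (Lpe (K39.f71236 IH) (Lpe (K70.f428022 IH) (Lpr_gf (f563631 IH) (Lpe (f186273 IH) (Lpr_dt (K44.f580748 IH) (Lpe (f580770 IH) (Lpn (LP (LK LD1_c20 LD2_c30 LD3_c31)))))))))))))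
theorem f967774 : Led Lsl_gt (LP (LK LD1_c27 LD2_c59 LD3_c59)) = (LP (LK LD1_c20 LD2_c34 LD3_c9)) :=
  Lgr Lrot137 (Lpr_ef (f967769 IH) (Lpe (f967768 IH) (Lpq (f967547 IH) (Lpe (f757933 IH) (Lpe (K41.f543912 IH) (Lpr_et (K41.f543916 IH) (Lpr_gf (f563631 IH) (Lpe (f186273 IH) (Lpr_dt (K44.f580748 IH) (Lpe (f580770 IH) (Lpe (f580771 IH) (Lpn (LP (LK LD1_c20 LD2_c34 LD3_c9))))))))))))))
theorem f967775 : Led Lsl_gt (LP (LK LD1_c27 LD2_c59 LD3_c59)) = (LP (LK LD1_c20 LD2_c34 LD3_c9)) :=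
  Leop (Lpe (f967774 IH) (Lpn (LP (LK LD1_c27 LD2_c59 LD3_c59))))
theorem seed_2943 : LEOK LG_g (LK LD1_c27 LD2_c59 LD3_c59) :=
  Leoe_g (LK LD1_c27 LD2_c59 LD3_c59) (f967775 IH)
def v48913 : LQ := Led Lsl_gt (LP (LK LD1_c11 LD2_c36 LD3_c38))
theorem f968030 : Led Lsl_gt (LP (LK LD1_c11 LD2_c36 LD3_c38)) = v48913 :=
  Lrfl
theorem f140044 : Led Lsl_bt (LP (LK LD1_c3 LD2_c20 LD3_c44)) = (LP (LK LD1_c3 LD2_c24 LD3_c12)) :=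
  Lgr Lrot128 (Lpe (K51.f140043 IH) (Lpe (K54.f140042 IH) (Lpr_cf (K9.f140032 IH) (Lpe (K49.f73755 IH) (Lpe (K66.f73756 IH) (Lpn (LP (LK LD1_c3 LD2_c24 LD3_c12))))))))
theorem f715526 : Led Lsl_gf (LP (LK LD1_c11 LD2_c36 LD3_c38)) = (LP (LK LD1_c12 LD2_c47 LD3_c19)) :=
  Lgr Lrot124 (Lpe (K8.f81979 IH) (Lpr_ct (K52.f81970 IH) (Lpqs (K60.f707330 IH) (Lpe (K60.f509372 IH) (Lpe (K49.f140972 IH) (Lpr_bt (f140044 IH) (Lpr_gt (K52.f141006 IH) (Lpe (K52.f663095 IH) (Lpq (K52.f662856 IH) (Lpq (K48.f663068 IH) (Lpe (K48.f650542 IH) (Lpe (K52.f509025 IH) (Lpr_bt (K52.f650544 IH) (Lpn (LP (LK LD1_c12 LD2_c47 LD3_c19))))))))))))))))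
theorem f702326 : Led Lsl_bt (LP (LK LD1_c12 LD2_c14 LD3_c50)) = (LP (LK LD1_c6 LD2_c20 LD3_c2)) :=
  Lre_b IH (LK LD1_c12 LD2_c14 LD3_c50) (LK LD1_c6 LD2_c20 LD3_c2) Lrfl Lrfl
theorem f709769 : Led Lsl_ft (LP (LK LD1_c12 LD2_c47 LD3_c19)) = (LP (LK LD1_c12 LD2_c14 LD3_c50)) :=
  Lgr Lrot75 (Lpe (K52.f650544 IH) (Lpr_ff (K52.f709766 IH) (Lpe (f702326 IH) (Lpn (LP (LK LD1_c12 LD2_c14 LD3_c50))))))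
theorem f968031 : Led Lsl_at (LP (LK LD1_c12 LD2_c14 LD3_c50)) = v48913 :=
  Lgr Lrot26 (Lpe (f709769 IH) (Lpe (f715526 IH) (Lpr_gt (f968030 IH) (Lpn v48913))))
theorem f709779 : Led Lsl_at (LP (LK LD1_c21 LD2_c51 LD3_c19)) = (LP (LK LD1_c12 LD2_c47 LD3_c19)) :=
  Lgr Lrot100 (Lpr_af (K52.f709777 IH) (Lpn (LP (LK LD1_c12 LD2_c47 LD3_c19))))
theorem f968033 : Led Lsl_ff (LP (LK LD1_c21 LD2_c51 LD3_c19)) = v48913 :=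
  Lgr Lrot30 (Lpr_at (f709779 IH) (Lpr_ft (f709769 IH) (Lpr_at (f968031 IH) (Lpn v48913))))
theorem f968034 : Led Lsl_ft (LP (LK LD1_c21 LD2_c51 LD3_c19)) = v48913 :=
  Lgr Lrot48 (Lpr_ff (f968033 IH) (Lpn v48913))
theorem f968032 : Led Lsl_af (LP (LK LD1_c12 LD2_c14 LD3_c50)) = v48913 :=
  Lgr Lrot0 (Lpr_at (f968031 IH) (Lpn v48913))
theorem f968035 : Led Lsl_gt (LP (LK LD1_c12 LD2_c44 LD3_c5)) = (LP (LK LD1_c12 LD2_c14 LD3_c50)) :=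
  Lgr Lrot46 (Lpe (K52.f209943 IH) (Lpr_ft (f968034 IH) (Lpe (f968032 IH) (Lpn (LP (LK LD1_c12 LD2_c14 LD3_c50))))))
theorem f968036 : Led Lsl_gt (LP (LK LD1_c12 LD2_c44 LD3_c5)) = (LP (LK LD1_c12 LD2_c14 LD3_c50)) :=
  Leop (Lpe (f968035 IH) (Lpn (LP (LK LD1_c12 LD2_c44 LD3_c5))))
theorem seed_2944 : LEOK LG_g (LK LD1_c12 LD2_c44 LD3_c5) :=
  Leoe_g (LK LD1_c12 LD2_c44 LD3_c5) (f968036 IH)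
def v48932 : LQ := Led Lsl_ft (LP (LK LD1_c11 LD2_c36 LD3_c45))
theorem f968109 : Led Lsl_ft (LP (LK LD1_c11 LD2_c36 LD3_c45)) = v48932 :=
  Lrfl
theorem f968113 : Led Lsl_ff (LP (LK LD1_c11 LD2_c36 LD3_c45)) = v48932 :=
  Lgr Lrot3 (Lpr_ft (f968109 IH) (Lpn v48932))
theorem f966768 : Led Lsl_at (LP (LK LD1_c11 LD2_c36 LD3_c45)) = (LP (LK LD1_c5 LD2_c56 LD3_c16)) :=
  Lre_a IH (LK LD1_c11 LD2_c36 LD3_c45) (LK LD1_c5 LD2_c56 LD3_c16) Lrfl Lrfl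
theorem f112815 : Led Lsl_ft (LP (LK LD1_c5 LD2_c56 LD3_c16)) = (LP (LK LD1_c11 LD2_c37 LD3_c49)) :=
  Lre_f IH (LK LD1_c5 LD2_c56 LD3_c16) (LK LD1_c11 LD2_c37 LD3_c49) Lrfl Lrfl
theorem f968119 : Led Lsl_at (LP (LK LD1_c11 LD2_c37 LD3_c49)) = v48932 :=
  Lgr Lrot66 (Lpe (f112815 IH) (Lpe (f966768 IH) (Lpr_ff (f968113 IH) (Lpn v48932))))
theorem f81775 : Led Lsl_gt (LP (LK LD1_c5 LD2_c56 LD3_c16)) = (LP (LK LD1_c11 LD2_c37 LD3_c46)) :=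
  Lre_g IH (LK LD1_c5 LD2_c56 LD3_c16) (LK LD1_c11 LD2_c37 LD3_c46) Lrfl Lrfl
theorem f968125 : Led Lsl_gt (LP (LK LD1_c11 LD2_c37 LD3_c46)) = v48932 :=
  Lgr Lrot46 (Lpe (f81775 IH) (Lpr_ft (f112815 IH) (Lpr_at (f968119 IH) (Lpn v48932))))
theorem f576821 : Led Lsl_cf (LP (LK LD1_c16 LD2_c24 LD3_c13)) = (LP (LK LD1_c23 LD2_c3 LD3_c19)) :=
  Lgr Lrot97 (Lpr_bt (K55.f576759 IH) (Lpr_ct (K43.f576648 IH) (Lpe (K43.f469286 IH) (Lpr_ct (K33.f469272 IH) (Lpr_bt (K55.f469274 IH) (Lpn (LP (LK LD1_c23 LD2_c3 LD3_c19))))))))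
theorem f543628 : Led Lsl_bt (LP (LK LD1_c12 LD2_c8 LD3_c33)) = (LP (LK LD1_c21 LD2_c14 LD3_c52)) :=
  Lre_b IH (LK LD1_c12 LD2_c8 LD3_c33) (LK LD1_c21 LD2_c14 LD3_c52) Lrfl Lrfl
theorem f576831 : Led Lsl_gt (LP (LK LD1_c21 LD2_c14 LD3_c52)) = (LP (LK LD1_c13 LD2_c46 LD3_c24)) :=
  Lgr Lrot164 (Lpe (f543628 IH) (Lpr_ct (K55.f543610 IH) (Lpe (K39.f469263 IH) (Lpr_cf (K28.f469251 IH) (Lpe (K33.f108272 IH) (Lpe (K55.f441635 IH) (Lpe (f576821 IH) (Lpr_gf (K55.f576829 IH) (Lpe (K43.f94471 IH) (Lpr_bt (K7.f94468 IH) (Lpn (LP (LK LD1_c13 LD2_c46 LD3_c24)))))))))))))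
theorem f575130 : Led Lsl_af (LP (LK LD1_c13 LD2_c46 LD3_c24)) = (LP (LK LD1_c21 LD2_c14 LD3_c38)) :=
  Lgr Lrot68 (Lpe (K7.f116610 IH) (Lpe (K43.f426708 IH) (Lpr_ct (K43.f575124 IH) (Lpn (LP (LK LD1_c21 LD2_c14 LD3_c38))))))
theorem f576836 : Led Lsl_gf (LP (LK LD1_c21 LD2_c14 LD3_c52)) = (LP (LK LD1_c22 LD2_c13 LD3_c13)) :=
  Lgr Lrot47 (Lpr_gt (f576831 IH) (Lpr_af (f575130 IH) (Lpe (K43.f575126 IH) (Lpn (LP (LK LD1_c22 LD2_c13 LD3_c13))))))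
theorem f158734 : Led Lsl_et (LP (LK LD1_c4 LD2_c25 LD3_c59)) = (LP (LK LD1_c8 LD2_c49 LD3_c18)) :=
  Lre_e IH (LK LD1_c4 LD2_c25 LD3_c59) (LK LD1_c8 LD2_c49 LD3_c18) Lrfl Lrfl
theorem f158772 : Led Lsl_gt (LP (LK LD1_c8 LD2_c49 LD3_c18)) = (LP (LK LD1_c16 LD2_c29 LD3_c49)) :=
  Lre_g IH (LK LD1_c8 LD2_c49 LD3_c18) (LK LD1_c16 LD2_c29 LD3_c49) Lrfl Lrfl
theorem f158778 : Led Lsl_et (LP (LK LD1_c26 LD2_c26 LD3_c38)) = (LP (LK LD1_c16 LD2_c29 LD3_c49)) :=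
  Lre_e IH (LK LD1_c26 LD2_c26 LD3_c38) (LK LD1_c16 LD2_c29 LD3_c49) Lrfl Lrfl
theorem f578171 : Led Lsl_dt (LP (LK LD1_c26 LD2_c26 LD3_c38)) = (LP (LK LD1_c21 LD2_c14 LD3_c52)) :=
  Lgr Lrot136 (Lpr_et (f158778 IH) (Lpe (f158772 IH) (Lpe (f158734 IH) (Lpr_dt (K8.f112468 IH) (Lpr_gf (K8.f161095 IH) (Lpe (K36.f69455 IH) (Lpe (K36.f420045 IH) (Lpe (K43.f420048 IH) (Lpr_dt (K43.f578167 IH) (Lpe (f576831 IH) (Lpn (LP (LK LD1_c21 LD2_c14 LD3_c52)))))))))))))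
theorem f578175 : Led Lsl_df (LP (LK LD1_c26 LD2_c26 LD3_c38)) = (LP (LK LD1_c21 LD2_c14 LD3_c52)) :=
  Lgr Lrot38 (Lpr_dt (f578171 IH) (Lpn (LP (LK LD1_c21 LD2_c14 LD3_c52))))
theorem f112816 : Led Lsl_et (LP (LK LD1_c2 LD2_c54 LD3_c28)) = (LP (LK LD1_c5 LD2_c56 LD3_c16)) :=
  Lre_e IH (LK LD1_c2 LD2_c54 LD3_c28) (LK LD1_c5 LD2_c56 LD3_c16) Lrfl Lrfl
theorem f161767 : Led Lsl_et (LP (LK LD1_c20 LD2_c36 LD3_c17)) = (LP (LK LD1_c11 LD2_c37 LD3_c46)) :=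
  Lre_e IH (LK LD1_c20 LD2_c36 LD3_c17) (LK LD1_c11 LD2_c37 LD3_c46) Lrfl Lrfl
theorem f161768 : Led Lsl_dt (LP (LK LD1_c20 LD2_c36 LD3_c17)) = (LP (LK LD1_c29 LD2_c31 LD3_c48)) :=
  Lre_d IH (LK LD1_c20 LD2_c36 LD3_c17) (LK LD1_c29 LD2_c31 LD3_c48) Lrfl Lrfl
theorem f544336 : Led Lsl_gt (LP (LK LD1_c29 LD2_c31 LD3_c48)) = (LP (LK LD1_c23 LD2_c3 LD3_c57)) :=
  Lgr Lrot112 (Lpe (f161768 IH) (Lpr_et (f161767 IH) (Lpe (f81775 IH) (Lpe (f112816 IH) (Lpr_dt (K8.f71865 IH) (Lpe (K8.f161755 IH) (Lpr_df (K6.f81915 IH) (Lpr_gf (K11.f161933 IH) (Lpr_ef (K37.f544331 IH) (Lpr_dt (K37.f17942 IH) (Lpn (LP (LK LD1_c23 LD2_c3 LD3_c57)))))))))))))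
theorem f544339 : Led Lsl_gf (LP (LK LD1_c29 LD2_c31 LD3_c48)) = (LP (LK LD1_c26 LD2_c21 LD3_c56)) :=
  Lgr Lrot47 (Lpr_gt (f544336 IH) (Lpe (K37.f544315 IH) (Lpe (K37.f101862 IH) (Lpn (LP (LK LD1_c26 LD2_c21 LD3_c56))))))
theorem f544341 : Led Lsl_dt (LP (LK LD1_c29 LD2_c31 LD3_c48)) = (LP (LK LD1_c20 LD2_c36 LD3_c17)) :=
  Lre_d IH (LK LD1_c29 LD2_c31 LD3_c48) (LK LD1_c20 LD2_c36 LD3_c17) Lrfl Lrfl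
theorem f578221 : Led Lsl_cf (LP (LK LD1_c26 LD2_c26 LD3_c38)) = (LP (LK LD1_c20 LD2_c36 LD3_c17)) :=
  Lgr Lrot14 (Lpr_df (f578175 IH) (Lpr_gf (f576836 IH) (Lpr_df (K43.f578210 IH) (Lpe (K43.f543515 IH) (Lpr_ct (K37.f443101 IH) (Lpe (K37.f544286 IH) (Lpr_dt (K71.f101855 IH) (Lpe (f544339 IH) (Lpr_dt (f544341 IH) (Lpn (LP (LK LD1_c20 LD2_c36 LD3_c17))))))))))))
theorem f606790 : Led Lsl_et (LP (LK LD1_c11 LD2_c37 LD3_c46)) = (LP (LK LD1_c20 LD2_c36 LD3_c17)) :=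
  Lre_e IH (LK LD1_c11 LD2_c37 LD3_c46) (LK LD1_c20 LD2_c36 LD3_c17) Lrfl Lrfl
theorem f606791 : Led Lsl_ct (LP (LK LD1_c16 LD2_c29 LD3_c49)) = (LP (LK LD1_c11 LD2_c37 LD3_c46)) :=
  Lgr Lrot15 (Lpe (f158778 IH) (Lpr_cf (f578221 IH) (Lpe (f606790 IH) (Lpn (LP (LK LD1_c11 LD2_c37 LD3_c46))))))
theorem f578177 : Led Lsl_bt (LP (LK LD1_c26 LD2_c26 LD3_c38)) = (LP (LK LD1_c21 LD2_c14 LD3_c53)) :=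
  Lgr Lrot95 (Lpr_df (f578175 IH) (Lpe (f543628 IH) (Lpe (K39.f210897 IH) (Lpn (LP (LK LD1_c21 LD2_c14 LD3_c53))))))
theorem f161112 : Led Lsl_et (LP (LK LD1_c16 LD2_c29 LD3_c49)) = (LP (LK LD1_c26 LD2_c26 LD3_c38)) :=
  Lre_e IH (LK LD1_c16 LD2_c29 LD3_c49) (LK LD1_c26 LD2_c26 LD3_c38) Lrfl Lrfl
theorem f578179 : Led Lsl_bf (LP (LK LD1_c16 LD2_c29 LD3_c49)) = (LP (LK LD1_c20 LD2_c26 LD3_c21)) :=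
  Lgr Lrot96 (Lpr_et (f161112 IH) (Lpr_bt (f578177 IH) (Lpr_et (K39.f543625 IH) (Lpn (LP (LK LD1_c20 LD2_c26 LD3_c21))))))
theorem f578181 : Led Lsl_bt (LP (LK LD1_c16 LD2_c29 LD3_c49)) = (LP (LK LD1_c20 LD2_c26 LD3_c21)) :=
  Lgr Lrot127 (Lpr_bf (f578179 IH) (Lpn (LP (LK LD1_c20 LD2_c26 LD3_c21))))
theorem f138656 : Led Lsl_et (LP (LK LD1_c17 LD2_c23 LD3_c1)) = (LP (LK LD1_c9 LD2_c25 LD3_c36)) :=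
  Lre_e IH (LK LD1_c17 LD2_c23 LD3_c1) (LK LD1_c9 LD2_c25 LD3_c36) Lrfl Lrfl
theorem f541078 : Led Lsl_cf (LP (LK LD1_c17 LD2_c23 LD3_c1)) = (LP (LK LD1_c20 LD2_c26 LD3_c20)) :=
  Lgr Lrot39 (Lpr_et (f138656 IH) (Lpr_ct (K36.f541068 IH) (Lpr_et (K42.f239056 IH) (Lpn (LP (LK LD1_c20 LD2_c26 LD3_c20))))))
theorem f81699 : Led Lsl_ct (LP (LK LD1_c11 LD2_c36 LD3_c45)) = (LP (LK LD1_c5 LD2_c55 LD3_c48)) :=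
  Lre_c IH (LK LD1_c11 LD2_c36 LD3_c45) (LK LD1_c5 LD2_c55 LD3_c48) Lrfl Lrfl
theorem f81726 : Led Lsl_ft (LP (LK LD1_c5 LD2_c55 LD3_c48)) = (LP (LK LD1_c11 LD2_c36 LD3_c49)) :=
  Lre_f IH (LK LD1_c5 LD2_c55 LD3_c48) (LK LD1_c11 LD2_c36 LD3_c49) Lrfl Lrfl
theorem f968120 : Led Lsl_ct (LP (LK LD1_c11 LD2_c36 LD3_c49)) = v48932 :=
  Lgr Lrot40 (Lpe (f81726 IH) (Lpe (f81699 IH) (Lpr_ff (f968113 IH) (Lpn v48932))))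
theorem f81727 : Led Lsl_gt (LP (LK LD1_c16 LD2_c25 LD3_c61)) = (LP (LK LD1_c8 LD2_c47 LD3_c7)) :=
  Lre_g IH (LK LD1_c16 LD2_c25 LD3_c61) (LK LD1_c8 LD2_c47 LD3_c7) Lrfl Lrfl
theorem f81729 : Led Lsl_ct (LP (LK LD1_c8 LD2_c47 LD3_c7)) = (LP (LK LD1_c16 LD2_c26 LD3_c19)) :=
  Lre_c IH (LK LD1_c8 LD2_c47 LD3_c7) (LK LD1_c16 LD2_c26 LD3_c19) Lrfl Lrfl
theorem f968127 : Led Lsl_gf (LP (LK LD1_c17 LD2_c23 LD3_c1)) = (LP (LK LD1_c16 LD2_c26 LD3_c19)) :=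
  Lgr Lrot129 (Lpr_cf (f541078 IH) (Lpr_bt (K36.f239015 IH) (Lpr_gt (K39.f239028 IH) (Lpe (f578181 IH) (Lpr_ct (f606791 IH) (Lpr_gt (f968125 IH) (Lpe (f968120 IH) (Lpe (K2.f81709 IH) (Lpr_gt (f81727 IH) (Lpr_ct (f81729 IH) (Lpn (LP (LK LD1_c16 LD2_c26 LD3_c19)))))))))))))
theorem f968128 : Led Lsl_gt (LP (LK LD1_c16 LD2_c26 LD3_c19)) = (LP (LK LD1_c17 LD2_c23 LD3_c1)) :=
  Leop (Lpr_gf (f968127 IH) (Lpn (LP (LK LD1_c16 LD2_c26 LD3_c19))))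
theorem seed_2945 : LEOK LG_g (LK LD1_c16 LD2_c26 LD3_c19) :=
  Leoe_g (LK LD1_c16 LD2_c26 LD3_c19) (f968128 IH)
theorem f158808 : Led Lsl_bt (LP (LK LD1_c4 LD2_c26 LD3_c2)) = (LP (LK LD1_c8 LD2_c49 LD3_c18)) :=
  Lre_b IH (LK LD1_c4 LD2_c26 LD3_c2) (LK LD1_c8 LD2_c49 LD3_c18) Lrfl Lrfl
theorem f576796 : Led Lsl_ct (LP (LK LD1_c4 LD2_c26 LD3_c2)) = (LP (LK LD1_c8 LD2_c49 LD3_c26)) :=
  Lre_c IH (LK LD1_c4 LD2_c26 LD3_c2) (LK LD1_c8 LD2_c49 LD3_c26) Lrfl Lrfl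
def v37239 : LQ := Led Lsl_gf (LP (LK LD1_c8 LD2_c49 LD3_c26))
theorem f893668 : Led Lsl_gf (LP (LK LD1_c8 LD2_c49 LD3_c26)) = v37239 :=
  Lrfl
def v37164 : LQ := Led Lsl_bt (LP (LK LD1_c8 LD2_c47 LD3_c7))
theorem f893299 : Led Lsl_bt (LP (LK LD1_c8 LD2_c47 LD3_c7)) = v37164 :=
  Lrfl
theorem f893300 : Led Lsl_bf (LP (LK LD1_c8 LD2_c47 LD3_c7)) = v37164 :=
  Lgr Lrot24 (Lpr_bt (f893299 IH) (Lpn v37164))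
theorem f968126 : Led Lsl_cf v37239 = v37164 :=
  Lgr Lrot160 (Lpe (f893668 IH) (Lpe (f576796 IH) (Lpr_bt (f158808 IH) (Lpr_gt (f158772 IH) (Lpr_ct (f606791 IH) (Lpr_gt (f968125 IH) (Lpe (f968120 IH) (Lpe (K2.f81709 IH) (Lpr_gt (f81727 IH) (Lpr_bf (f893300 IH) (Lpn v37164)))))))))))
theorem f540938 : Led Lsl_et (LP (LK LD1_c9 LD2_c10 LD3_c31)) = (LP (LK LD1_c4 LD2_c37 LD3_c29)) :=
  Lre_e IH (LK LD1_c9 LD2_c10 LD3_c31) (LK LD1_c4 LD2_c37 LD3_c29) Lrfl Lrfl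
theorem f159609 : Led Lsl_dt (LP (LK LD1_c9 LD2_c10 LD3_c31)) = (LP (LK LD1_c4 LD2_c37 LD3_c27)) :=
  Lre_d IH (LK LD1_c9 LD2_c10 LD3_c31) (LK LD1_c4 LD2_c37 LD3_c27) Lrfl Lrfl
theorem f141203 : Led Lsl_gt (LP (LK LD1_c4 LD2_c37 LD3_c27)) = (LP (LK LD1_c9 LD2_c10 LD3_c29)) :=
  Lre_g IH (LK LD1_c4 LD2_c37 LD3_c27) (LK LD1_c9 LD2_c10 LD3_c29) Lrfl Lrfl
theorem f577472 : Led Lsl_dt (LP (LK LD1_c17 LD2_c3 LD3_c36)) = (LP (LK LD1_c9 LD2_c10 LD3_c29)) :=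
  Lre_d IH (LK LD1_c17 LD2_c3 LD3_c36) (LK LD1_c9 LD2_c10 LD3_c29) Lrfl Lrfl
theorem f467130 : Led Lsl_gt (LP (LK LD1_c13 LD2_c33 LD3_c44)) = (LP (LK LD1_c7 LD2_c9 LD3_c38)) :=
  Lre_g IH (LK LD1_c13 LD2_c33 LD3_c44) (LK LD1_c7 LD2_c9 LD3_c38) Lrfl Lrfl
theorem f577473 : Led Lsl_et (LP (LK LD1_c17 LD2_c3 LD3_c36)) = (LP (LK LD1_c13 LD2_c33 LD3_c44)) :=
  Lgr Lrot121 (Lpr_dt (f577472 IH) (Lpe (f141203 IH) (Lpe (f159609 IH) (Lpr_et (f540938 IH) (Lpe (K43.f80119 IH) (Lpr_ef (K43.f577456 IH) (Lpr_dt (K28.f96887 IH) (Lpr_gf (K29.f478009 IH) (Lpe (K34.f467129 IH) (Lpe (f467130 IH) (Lpn (LP (LK LD1_c13 LD2_c33 LD3_c44)))))))))))))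
theorem f577479 : Led Lsl_ef (LP (LK LD1_c17 LD2_c3 LD3_c36)) = (LP (LK LD1_c13 LD2_c33 LD3_c44)) :=
  Lgr Lrot88 (Lpr_et (f577473 IH) (Lpn (LP (LK LD1_c13 LD2_c33 LD3_c44))))
theorem f486624 : Led Lsl_ct (LP (LK LD1_c3 LD2_c34 LD3_c14)) = (LP (LK LD1_c7 LD2_c9 LD3_c40)) :=
  Lre_c IH (LK LD1_c3 LD2_c34 LD3_c14) (LK LD1_c7 LD2_c9 LD3_c40) Lrfl Lrfl
theorem f528527 : Led Lsl_bt (LP (LK LD1_c13 LD2_c26 LD3_c58)) = (LP (LK LD1_c13 LD2_c33 LD3_c44)) :=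
  Lgr Lrot22 (Lpr_ct (K47.f528518 IH) (Lpe (K47.f525034 IH) (Lpe (K47.f6017 IH) (Lpe (K47.f467441 IH) (Lpr_bf (K48.f525023 IH) (Lpr_ct (K48.f525012 IH) (Lpe (K61.f525018 IH) (Lpe (f486624 IH) (Lpr_bt (K47.f516425 IH) (Lpe (f467130 IH) (Lpn (LP (LK LD1_c13 LD2_c33 LD3_c44)))))))))))))
theorem f486518 : Led Lsl_bt (LP (LK LD1_c13 LD2_c26 LD3_c55)) = (LP (LK LD1_c7 LD2_c5 LD3_c47)) :=
  Lre_b IH (LK LD1_c13 LD2_c26 LD3_c55) (LK LD1_c7 LD2_c5 LD3_c47) Lrfl Lrfl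
theorem f528536 : Led Lsl_df (LP (LK LD1_c13 LD2_c26 LD3_c55)) = (LP (LK LD1_c13 LD2_c33 LD3_c44)) :=
  Lgr Lrot12 (Lpr_bt (f486518 IH) (Lpr_dt (K36.f97409 IH) (Lpr_bt (f528527 IH) (Lpn (LP (LK LD1_c13 LD2_c33 LD3_c44))))))
theorem f528582 : Led Lsl_dt (LP (LK LD1_c13 LD2_c26 LD3_c55)) = (LP (LK LD1_c13 LD2_c33 LD3_c44)) :=
  Lgr Lrot42 (Lpr_df (f528536 IH) (Lpn (LP (LK LD1_c13 LD2_c33 LD3_c44))))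
theorem f466514 : Led Lsl_et (LP (LK LD1_c7 LD2_c5 LD3_c45)) = (LP (LK LD1_c13 LD2_c26 LD3_c55)) :=
  Lre_e IH (LK LD1_c7 LD2_c5 LD3_c45) (LK LD1_c13 LD2_c26 LD3_c55) Lrfl Lrfl
theorem f577486 : Led Lsl_et (LP (LK LD1_c9 LD2_c10 LD3_c29)) = (LP (LK LD1_c13 LD2_c26 LD3_c54)) :=
  Lgr Lrot71 (Lpe (f577472 IH) (Lpr_ef (f577479 IH) (Lpe (f528582 IH) (Lpe (f466514 IH) (Lpe (K33.f466506 IH) (Lpn (LP (LK LD1_c13 LD2_c26 LD3_c54))))))))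
theorem f577491 : Led Lsl_bf (LP (LK LD1_c9 LD2_c10 LD3_c29)) = (LP (LK LD1_c13 LD2_c26 LD3_c57)) :=
  Lgr Lrot96 (Lpr_et (f577486 IH) (Lpr_bt (K33.f512082 IH) (Lpr_et (K36.f108405 IH) (Lpn (LP (LK LD1_c13 LD2_c26 LD3_c57))))))
theorem f577493 : Led Lsl_bt (LP (LK LD1_c9 LD2_c10 LD3_c29)) = (LP (LK LD1_c13 LD2_c26 LD3_c57)) :=
  Lgr Lrot127 (Lpr_bf (f577491 IH) (Lpn (LP (LK LD1_c13 LD2_c26 LD3_c57))))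
theorem f893301 : Led Lsl_ff (LP (LK LD1_c9 LD2_c10 LD3_c29)) = v37164 :=
  Lgr Lrot25 (Lpr_bt (f577493 IH) (Lpe (K75.f578585 IH) (Lpr_bt (f893299 IH) (Lpn v37164))))
theorem f893302 : Led Lsl_ft (LP (LK LD1_c9 LD2_c10 LD3_c29)) = v37164 :=
  Lgr Lrot48 (Lpr_ff (f893301 IH) (Lpn v37164))
def v38437 : LQ := Led Lsl_ct (LP (LK LD1_c9 LD2_c10 LD3_c29))
theorem f902216 : Led Lsl_ct (LP (LK LD1_c9 LD2_c10 LD3_c29)) = v38437 :=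
  Lrfl
theorem f902217 : Led Lsl_cf (LP (LK LD1_c9 LD2_c10 LD3_c29)) = v38437 :=
  Lgr Lrot11 (Lpr_ct (f902216 IH) (Lpn v38437))
theorem f968131 : Led Lsl_ft v37239 = v38437 :=
  Lgr Lrot4 (Lpr_cf (f968126 IH) (Lpe (f893302 IH) (Lpr_cf (f902217 IH) (Lpn v38437))))
def v37238 : LQ := Led Lsl_gt (LP (LK LD1_c8 LD2_c49 LD3_c26))
theorem f893667 : Led Lsl_gt (LP (LK LD1_c8 LD2_c49 LD3_c26)) = v37238 :=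
  Lrfl
theorem f968133 : Led Lsl_af v37238 = v38437 :=
  Lgr Lrot31 (Lpe (f893667 IH) (Lpr_gf (f893668 IH) (Lpr_ft (f968131 IH) (Lpn v38437))))
def v38436 : LQ := Led Lsl_at (LP (LK LD1_c9 LD2_c10 LD3_c29))
theorem f902212 : Led Lsl_at (LP (LK LD1_c9 LD2_c10 LD3_c29)) = v38436 :=
  Lrfl
theorem f902213 : Led Lsl_af (LP (LK LD1_c9 LD2_c10 LD3_c29)) = v38436 :=
  Lgr Lrot0 (Lpr_at (f902212 IH) (Lpn v38436))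
theorem f968135 : Led Lsl_ct v37238 = v38436 :=
  Lgr Lrot111 (Lpr_af (f968133 IH) (Lpe (f902216 IH) (Lpr_af (f902213 IH) (Lpn v38436))))
theorem f577481 : Led Lsl_gt (LP (LK LD1_c9 LD2_c10 LD3_c29)) = (LP (LK LD1_c17 LD2_c2 LD3_c51)) :=
  Lre_g IH (LK LD1_c9 LD2_c10 LD3_c29) (LK LD1_c17 LD2_c2 LD3_c51) Lrfl Lrfl
theorem f893303 : Led Lsl_gt (LP (LK LD1_c17 LD2_c2 LD3_c51)) = (LP (LK LD1_c9 LD2_c10 LD3_c30)) :=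
  Lre_g IH (LK LD1_c17 LD2_c2 LD3_c51) (LK LD1_c9 LD2_c10 LD3_c30) Lrfl Lrfl
theorem f893304 : Led Lsl_af (LP (LK LD1_c9 LD2_c10 LD3_c30)) = v37164 :=
  Lgr Lrot31 (Lpe (f893303 IH) (Lpe (f577481 IH) (Lpr_ft (f893302 IH) (Lpn v37164))))
theorem f893305 : Led Lsl_at (LP (LK LD1_c9 LD2_c10 LD3_c30)) = v37164 :=
  Lgr Lrot100 (Lpr_af (f893304 IH) (Lpn v37164))
theorem f902214 : Led Lsl_ff (LP (LK LD1_c9 LD2_c10 LD3_c30)) = v38436 :=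
  Lgr Lrot30 (Lpr_at (f893305 IH) (Lpe (f893301 IH) (Lpr_at (f902212 IH) (Lpn v38436))))
def v38438 : LQ := Led Lsl_ct (LP (LK LD1_c9 LD2_c10 LD3_c30))
theorem f902219 : Led Lsl_ct (LP (LK LD1_c9 LD2_c10 LD3_c30)) = v38438 :=
  Lrfl
theorem f968137 : Led Lsl_ff v37238 = v38438 :=
  Lgr Lrot23 (Lpr_ct (f968135 IH) (Lpe (f902214 IH) (Lpr_ct (f902219 IH) (Lpn v38438))))
theorem f968134 : Led Lsl_at v37238 = v38437 :=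
  Lgr Lrot100 (Lpr_af (f968133 IH) (Lpn v38437))
theorem f38696 : Led Lsl_bt (LP (LK LD1_c6 LD2_c9 LD3_c12)) = (LP (LK LD1_c11 LD2_c59 LD3_c31)) :=
  Lre_b IH (LK LD1_c6 LD2_c9 LD3_c12) (LK LD1_c11 LD2_c59 LD3_c31) Lrfl Lrfl
theorem f81772 : Led Lsl_bt (LP (LK LD1_c9 LD2_c46 LD3_c55)) = (LP (LK LD1_c4 LD2_c58 LD3_c0)) :=
  Lre_b IH (LK LD1_c9 LD2_c46 LD3_c55) (LK LD1_c4 LD2_c58 LD3_c0) Lrfl Lrfl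
theorem f618593 : Led Lsl_ct (LP (LK LD1_c11 LD2_c28 LD3_c15)) = (LP (LK LD1_c5 LD2_c49 LD3_c51)) :=
  Lre_c IH (LK LD1_c11 LD2_c28 LD3_c15) (LK LD1_c5 LD2_c49 LD3_c51) Lrfl Lrfl
theorem f428741 : Led Lsl_et (LP (LK LD1_c8 LD2_c49 LD3_c11)) = (LP (LK LD1_c4 LD2_c25 LD3_c54)) :=
  Lre_e IH (LK LD1_c8 LD2_c49 LD3_c11) (LK LD1_c4 LD2_c25 LD3_c54) Lrfl Lrfl
theorem f558156 : Led Lsl_bf (LP (LK LD1_c8 LD2_c49 LD3_c11)) = (LP (LK LD1_c11 LD2_c28 LD3_c15)) :=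
  Lgr Lrot96 (Lpr_et (f428741 IH) (Lpr_bt (K40.f558139 IH) (Lpr_et (K75.f558155 IH) (Lpn (LP (LK LD1_c11 LD2_c28 LD3_c15))))))
def v37235 : LQ := Led Lsl_gf (LP (LK LD1_c8 LD2_c49 LD3_c11))
theorem f893652 : Led Lsl_gf (LP (LK LD1_c8 LD2_c49 LD3_c11)) = v37235 :=
  Lrfl
theorem f964261 : (LP (LK LD1_c11 LD2_c59 LD3_c31)) = v37235 :=
  (Llr Lrot22 (Lpe (f38696 IH) (Lpr_ct (K64.f38691 IH) (Lpr_gf (K57.f70781 IH) (Lpe (K62.f70798 IH) (Lpr_gf (K40.f101830 IH) (Lpe (f81772 IH) (Lpr_ct (K75.f920246 IH) (Lpqs (K75.f964252 IH) (Lpe (K75.f559278 IH) (Lpe (f618593 IH) (Lpe (f558156 IH) (Lpr_gf (f893652 IH) (Lpn v37235)))))))))))))).symm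
def v15912 : LQ := Led Lsl_et (LP (LK LD1_c5 LD2_c49 LD3_c54))
theorem f744173 : Led Lsl_et (LP (LK LD1_c5 LD2_c49 LD3_c54)) = v15912 :=
  Lrfl
theorem f744177 : Led Lsl_ef (LP (LK LD1_c5 LD2_c49 LD3_c54)) = v15912 :=
  Lgr Lrot88 (Lpr_et (f744173 IH) (Lpn v15912))
theorem f158166 : Led Lsl_et (LP (LK LD1_c4 LD2_c25 LD3_c54)) = (LP (LK LD1_c8 LD2_c49 LD3_c11)) :=
  Lre_e IH (LK LD1_c4 LD2_c25 LD3_c54) (LK LD1_c8 LD2_c49 LD3_c11) Lrfl Lrfl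
theorem f744180 : Led Lsl_ct (LP (LK LD1_c8 LD2_c49 LD3_c11)) = v15912 :=
  Lgr Lrot15 (Lpe (f158166 IH) (Lpr_cf (K40.f558137 IH) (Lpr_ef (f744177 IH) (Lpn v15912))))
theorem f964267 : Led Lsl_gf v38437 = v15912 :=
  Lgr Lrot129 (Lpe (f902216 IH) (Lpr_bt (f577493 IH) (Lpe (K75.f540577 IH) (Lpe (K4.f35915 IH) (Lpr_ct (K62.f70798 IH) (Lpe (K57.f70781 IH) (Lpe (K64.f38691 IH) (Lpr_bt (f38696 IH) (Lpqs (f964261 IH) (Lpe (f893652 IH) (Lpr_ct (f744180 IH) (Lpn v15912))))))))))))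
theorem f968139 : Led Lsl_gf v15912 = v38438 :=
  Lgr Lrot47 (Lpe (f964267 IH) (Lpe (f968134 IH) (Lpr_ff (f968137 IH) (Lpn v38438))))
theorem f158713 : Led Lsl_ft (LP (LK LD1_c4 LD2_c25 LD3_c54)) = (LP (LK LD1_c2 LD2_c10 LD3_c14)) :=
  Lre_f IH (LK LD1_c4 LD2_c25 LD3_c54) (LK LD1_c2 LD2_c10 LD3_c14) Lrfl Lrfl
theorem f558145 : Led Lsl_ft (LP (LK LD1_c4 LD2_c25 LD3_c52)) = (LP (LK LD1_c5 LD2_c49 LD3_c54)) :=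
  Lgr Lrot4 (Lpe (K6.f80846 IH) (Lpe (f158713 IH) (Lpr_cf (K40.f558137 IH) (Lpn (LP (LK LD1_c5 LD2_c49 LD3_c54))))))
theorem f99704 : Led Lsl_ft (LP (LK LD1_c4 LD2_c26 LD3_c1)) = (LP (LK LD1_c8 LD2_c48 LD3_c54)) :=
  Lre_f IH (LK LD1_c4 LD2_c26 LD3_c1) (LK LD1_c8 LD2_c48 LD3_c54) Lrfl Lrfl
theorem f558147 : Led Lsl_af (LP (LK LD1_c4 LD2_c26 LD3_c1)) = (LP (LK LD1_c5 LD2_c49 LD3_c54)) :=
  Lgr Lrot45 (Lpr_ft (f99704 IH) (Lpr_at (K11.f99703 IH) (Lpr_ft (f558145 IH) (Lpn (LP (LK LD1_c5 LD2_c49 LD3_c54))))))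
theorem f142026 : Led Lsl_et (LP (LK LD1_c4 LD2_c26 LD3_c1)) = (LP (LK LD1_c8 LD2_c49 LD3_c26)) :=
  Lre_e IH (LK LD1_c4 LD2_c26 LD3_c1) (LK LD1_c8 LD2_c49 LD3_c26) Lrfl Lrfl
theorem f744178 : Led Lsl_at (LP (LK LD1_c8 LD2_c49 LD3_c26)) = v15912 :=
  Lgr Lrot80 (Lpe (f142026 IH) (Lpr_af (f558147 IH) (Lpr_ef (f744177 IH) (Lpn v15912))))
def v37240 : LQ := Led Lsl_ft (LP (LK LD1_c8 LD2_c49 LD3_c26))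
theorem f893669 : Led Lsl_ft (LP (LK LD1_c8 LD2_c49 LD3_c26)) = v37240 :=
  Lrfl
theorem f893671 : Led Lsl_ff (LP (LK LD1_c8 LD2_c49 LD3_c26)) = v37240 :=
  Lgr Lrot3 (Lpr_ft (f893669 IH) (Lpn v37240))
theorem f968140 : Led Lsl_gt v37240 = v38438 :=
  Lgr Lrot5 (Lpe (f893671 IH) (Lpr_at (f744178 IH) (Lpr_gf (f968139 IH) (Lpn v38438))))
theorem f902220 : Led Lsl_cf (LP (LK LD1_c9 LD2_c10 LD3_c30)) = v38438 :=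
  Lgr Lrot11 (Lpr_ct (f902219 IH) (Lpn v38438))
theorem f968129 : Led Lsl_at v37239 = v38438 :=
  Lgr Lrot107 (Lpr_cf (f968126 IH) (Lpe (f893305 IH) (Lpr_cf (f902220 IH) (Lpn v38438))))
theorem f968132 : Led Lsl_ff v37239 = v38437 :=
  Lgr Lrot3 (Lpr_ft (f968131 IH) (Lpn v38437))
theorem f968141 : Led Lsl_gf v37240 = v38437 :=
  Lgr Lrot47 (Lpr_gt (f968140 IH) (Lpe (f968129 IH) (Lpr_ff (f968132 IH) (Lpn v38437))))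
theorem f576792 : Led Lsl_ct (LP (LK LD1_c8 LD2_c49 LD3_c26)) = (LP (LK LD1_c4 LD2_c26 LD3_c2)) :=
  Lre_c IH (LK LD1_c8 LD2_c49 LD3_c26) (LK LD1_c4 LD2_c26 LD3_c2) Lrfl Lrfl
theorem f893672 : Led Lsl_ct (LP (LK LD1_c8 LD2_c49 LD3_c29)) = v37240 :=
  Lgr Lrot40 (Lpe (K68.f576791 IH) (Lpe (f576792 IH) (Lpr_ff (f893671 IH) (Lpn v37240))))
theorem f158768 : Led Lsl_bt (LP (LK LD1_c8 LD2_c49 LD3_c29)) = (LP (LK LD1_c16 LD2_c29 LD3_c52)) :=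
  Lre_b IH (LK LD1_c8 LD2_c49 LD3_c29) (LK LD1_c16 LD2_c29 LD3_c52) Lrfl Lrfl
theorem f158746 : Led Lsl_af (LP (LK LD1_c12 LD2_c23 LD3_c9)) = (LP (LK LD1_c8 LD2_c49 LD3_c18)) :=
  Lgr Lrot0 (Lpr_at (K39.f158744 IH) (Lpn (LP (LK LD1_c8 LD2_c49 LD3_c18))))
theorem f158811 : Led Lsl_gt (LP (LK LD1_c21 LD2_c30 LD3_c7)) = (LP (LK LD1_c12 LD2_c23 LD3_c9)) :=
  Lre_g IH (LK LD1_c21 LD2_c30 LD3_c7) (LK LD1_c12 LD2_c23 LD3_c9) Lrfl Lrfl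
theorem f158804 : Led Lsl_ft (LP (LK LD1_c16 LD2_c29 LD3_c52)) = (LP (LK LD1_c8 LD2_c49 LD3_c18)) :=
  Lre_f IH (LK LD1_c16 LD2_c29 LD3_c52) (LK LD1_c8 LD2_c49 LD3_c18) Lrfl Lrfl
theorem f158812 : Led Lsl_gf (LP (LK LD1_c21 LD2_c30 LD3_c7)) = (LP (LK LD1_c16 LD2_c29 LD3_c52)) :=
  Lgr Lrot47 (Lpr_gt (f158811 IH) (Lpr_af (f158746 IH) (Lpe (f158804 IH) (Lpn (LP (LK LD1_c16 LD2_c29 LD3_c52))))))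
theorem f81707 : Led Lsl_ct (LP (LK LD1_c5 LD2_c55 LD3_c48)) = (LP (LK LD1_c11 LD2_c36 LD3_c45)) :=
  Lre_c IH (LK LD1_c5 LD2_c55 LD3_c48) (LK LD1_c11 LD2_c36 LD3_c45) Lrfl Lrfl
def v48931 : LQ := Led Lsl_gf (LP (LK LD1_c11 LD2_c36 LD3_c45))
theorem f968107 : Led Lsl_gf (LP (LK LD1_c11 LD2_c36 LD3_c45)) = v48931 :=
  Lrfl
theorem f968142 : Led Lsl_ct (LP (LK LD1_c21 LD2_c30 LD3_c7)) = v48931 :=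
  Lgr Lrot91 (Lpr_gf (f158812 IH) (Lpe (f158768 IH) (Lpr_ct (f893672 IH) (Lpr_gf (f968141 IH) (Lpe (f902216 IH) (Lpr_bt (f577493 IH) (Lpe (K36.f540575 IH) (Lpr_bf (K2.f81690 IH) (Lpr_ct (f81707 IH) (Lpr_gf (f968107 IH) (Lpn v48931)))))))))))
theorem f747440 : Led Lsl_at (LP (LK LD1_c5 LD2_c56 LD3_c16)) = (LP (LK LD1_c11 LD2_c36 LD3_c45)) :=
  Lre_a IH (LK LD1_c5 LD2_c56 LD3_c16) (LK LD1_c11 LD2_c36 LD3_c45) Lrfl Lrfl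
theorem f112819 : Led Lsl_ft (LP (LK LD1_c11 LD2_c37 LD3_c49)) = (LP (LK LD1_c5 LD2_c56 LD3_c16)) :=
  Lre_f IH (LK LD1_c11 LD2_c37 LD3_c49) (LK LD1_c5 LD2_c56 LD3_c16) Lrfl Lrfl
theorem f968108 : Led Lsl_gt (LP (LK LD1_c11 LD2_c37 LD3_c49)) = v48931 :=
  Lgr Lrot5 (Lpr_ft (f112819 IH) (Lpr_at (f747440 IH) (Lpr_gf (f968107 IH) (Lpn v48931))))
theorem f81735 : Led Lsl_ct (LP (LK LD1_c5 LD2_c56 LD3_c20)) = (LP (LK LD1_c11 LD2_c37 LD3_c49)) :=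
  Lre_c IH (LK LD1_c5 LD2_c56 LD3_c20) (LK LD1_c11 LD2_c37 LD3_c49) Lrfl Lrfl
theorem f81733 : Led Lsl_bf (LP (LK LD1_c4 LD2_c58 LD3_c3)) = (LP (LK LD1_c5 LD2_c56 LD3_c20)) :=
  Lgr Lrot24 (Lpr_bt (K2.f81723 IH) (Lpn (LP (LK LD1_c5 LD2_c56 LD3_c20))))
theorem f968144 : Led Lsl_bt (LP (LK LD1_c21 LD2_c30 LD3_c7)) = (LP (LK LD1_c21 LD2_c30 LD3_c45)) :=
  Lgr Lrot130 (Lpr_ct (f968142 IH) (Lpe (f968108 IH) (Lpe (f81735 IH) (Lpe (f81733 IH) (Lpe (K68.f445720 IH) (Lpe (K68.f445725 IH) (Lpr_ct (K68.f622033 IH) (Lpe (K68.f554303 IH) (Lpe (K68.f554299 IH) (Lpe (K64.f411279 IH) (Lpn (LP (LK LD1_c21 LD2_c30 LD3_c45)))))))))))))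
theorem f968145 : Led Lsl_bt (LP (LK LD1_c21 LD2_c30 LD3_c7)) = (LP (LK LD1_c21 LD2_c30 LD3_c45)) :=
  Leop (Lpe (f968144 IH) (Lpn (LP (LK LD1_c21 LD2_c30 LD3_c7))))
theorem seed_2946 : LEOK LG_b (LK LD1_c21 LD2_c30 LD3_c7) :=
  Leoe_b (LK LD1_c21 LD2_c30 LD3_c7) (f968145 IH)
theorem f968146 : Led Lsl_bf (LP (LK LD1_c21 LD2_c30 LD3_c7)) = (LP (LK LD1_c21 LD2_c30 LD3_c45)) :=
  Lgr Lrot24 (Lpr_bt (f968144 IH) (Lpn (LP (LK LD1_c21 LD2_c30 LD3_c45))))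
theorem f159623 : Led Lsl_gt (LP (LK LD1_c13 LD2_c58 LD3_c23)) = (LP (LK LD1_c7 LD2_c23 LD3_c25)) :=
  Lre_g IH (LK LD1_c13 LD2_c58 LD3_c23) (LK LD1_c7 LD2_c23 LD3_c25) Lrfl Lrfl
theorem f968156 : Led Lsl_cf (LP (LK LD1_c13 LD2_c58 LD3_c23)) = (LP (LK LD1_c21 LD2_c30 LD3_c45)) :=
  Lgr Lrot160 (Lpr_gt (f159623 IH) (Lpr_cf (K8.f159616 IH) (Lpr_bt (K8.f142197 IH) (Lpr_gt (f141203 IH) (Lpr_ct (f902216 IH) (Lpe (f968141 IH) (Lpe (f893672 IH) (Lpr_bt (f158768 IH) (Lpe (f158812 IH) (Lpr_bf (f968146 IH) (Lpn (LP (LK LD1_c21 LD2_c30 LD3_c45)))))))))))))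
theorem f968157 : Led Lsl_ct (LP (LK LD1_c21 LD2_c30 LD3_c45)) = (LP (LK LD1_c13 LD2_c58 LD3_c23)) :=
  Leop (Lpr_cf (f968156 IH) (Lpn (LP (LK LD1_c21 LD2_c30 LD3_c45))))
theorem seed_2947 : LEOK LG_c (LK LD1_c21 LD2_c30 LD3_c45) :=
  Leoe_c (LK LD1_c21 LD2_c30 LD3_c45) (f968157 IH)
def v48935 : LQ := Led Lsl_ct (LP (LK LD1_c11 LD2_c36 LD3_c47))
theorem f968192 : Led Lsl_ct (LP (LK LD1_c11 LD2_c36 LD3_c47)) = v48935 :=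
  Lrfl
theorem f81747 : Led Lsl_gt (LP (LK LD1_c5 LD2_c56 LD3_c20)) = (LP (LK LD1_c11 LD2_c36 LD3_c47)) :=
  Lre_g IH (LK LD1_c5 LD2_c56 LD3_c20) (LK LD1_c11 LD2_c36 LD3_c47) Lrfl Lrfl
theorem f576798 : Led Lsl_bt (LP (LK LD1_c4 LD2_c25 LD3_c30)) = (LP (LK LD1_c8 LD2_c48 LD3_c31)) :=
  Lre_b IH (LK LD1_c4 LD2_c25 LD3_c30) (LK LD1_c8 LD2_c48 LD3_c31) Lrfl Lrfl
theorem f158748 : Led Lsl_bt (LP (LK LD1_c8 LD2_c49 LD3_c18)) = (LP (LK LD1_c4 LD2_c26 LD3_c2)) :=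
  Lre_b IH (LK LD1_c8 LD2_c49 LD3_c18) (LK LD1_c4 LD2_c26 LD3_c2) Lrfl Lrfl
theorem f158750 : Led Lsl_ct (LP (LK LD1_c8 LD2_c49 LD3_c18)) = (LP (LK LD1_c16 LD2_c29 LD3_c48)) :=
  Lre_c IH (LK LD1_c8 LD2_c49 LD3_c18) (LK LD1_c16 LD2_c29 LD3_c48) Lrfl Lrfl
theorem f968196 : Led Lsl_gf (LP (LK LD1_c16 LD2_c29 LD3_c48)) = v48935 :=
  Lgr Lrot129 (Lpe (f158750 IH) (Lpr_bt (f158748 IH) (Lpe (K61.f576789 IH) (Lpe (f576798 IH) (Lpr_ct (K64.f607357 IH) (Lpe (K37.f443069 IH) (Lpr_cf (K6.f70279 IH) (Lpr_bt (K2.f81723 IH) (Lpr_gt (f81747 IH) (Lpr_ct (f968192 IH) (Lpn v48935)))))))))))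
theorem f158762 : Led Lsl_ct (LP (LK LD1_c16 LD2_c29 LD3_c48)) = (LP (LK LD1_c8 LD2_c49 LD3_c18)) :=
  Lre_c IH (LK LD1_c16 LD2_c29 LD3_c48) (LK LD1_c8 LD2_c49 LD3_c18) Lrfl Lrfl
theorem f158801 : Led Lsl_ct (LP (LK LD1_c26 LD2_c26 LD3_c42)) = (LP (LK LD1_c16 LD2_c29 LD3_c51)) :=
  Lre_c IH (LK LD1_c26 LD2_c26 LD3_c42) (LK LD1_c16 LD2_c29 LD3_c51) Lrfl Lrfl
theorem f82111 : Led Lsl_dt (LP (LK LD1_c11 LD2_c37 LD3_c60)) = (LP (LK LD1_c5 LD2_c56 LD3_c20)) :=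
  Lre_d IH (LK LD1_c11 LD2_c37 LD3_c60) (LK LD1_c5 LD2_c56 LD3_c20) Lrfl Lrfl
theorem f117658 : Led Lsl_ct (LP (LK LD1_c20 LD2_c35 LD3_c3)) = (LP (LK LD1_c29 LD2_c31 LD3_c7)) :=
  Lre_c IH (LK LD1_c20 LD2_c35 LD3_c3) (LK LD1_c29 LD2_c31 LD3_c7) Lrfl Lrfl
theorem f968198 : Led Lsl_gf (LP (LK LD1_c26 LD2_c26 LD3_c42)) = (LP (LK LD1_c29 LD2_c31 LD3_c7)) :=
  Lgr Lrot104 (Lpr_ct (f158801 IH) (Lpe (K41.f158752 IH) (Lpe (f158762 IH) (Lpr_gf (f968196 IH) (Lpe (f968192 IH) (Lpe (f81747 IH) (Lpe (f82111 IH) (Lpr_gt (K61.f82107 IH) (Lpr_ct (f117658 IH) (Lpn (LP (LK LD1_c29 LD2_c31 LD3_c7))))))))))))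
theorem f968199 : Led Lsl_gt (LP (LK LD1_c29 LD2_c31 LD3_c7)) = (LP (LK LD1_c26 LD2_c26 LD3_c42)) :=
  Leop (Lpr_gf (f968198 IH) (Lpn (LP (LK LD1_c29 LD2_c31 LD3_c7))))
theorem seed_2948 : LEOK LG_g (LK LD1_c29 LD2_c31 LD3_c7) :=
  Leoe_g (LK LD1_c29 LD2_c31 LD3_c7) (f968199 IH)
theorem f621588 : Led Lsl_ct (LP (LK LD1_c11 LD2_c37 LD3_c51)) = (LP (LK LD1_c5 LD2_c56 LD3_c17)) :=
  Lre_c IH (LK LD1_c11 LD2_c37 LD3_c51) (LK LD1_c5 LD2_c56 LD3_c17) Lrfl Lrfl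
theorem f968195 : Led Lsl_ff (LP (LK LD1_c11 LD2_c37 LD3_c51)) = v48935 :=
  Lgr Lrot23 (Lpr_ct (f621588 IH) (Lpe (K61.f621599 IH) (Lpr_ct (f968192 IH) (Lpn v48935))))
theorem f968216 : Led Lsl_ft (LP (LK LD1_c11 LD2_c37 LD3_c51)) = v48935 :=
  Lgr Lrot48 (Lpr_ff (f968195 IH) (Lpn v48935))
theorem f442620 : Led Lsl_gt (LP (LK LD1_c11 LD2_c37 LD3_c51)) = (LP (LK LD1_c20 LD2_c36 LD3_c23)) :=
  Lre_g IH (LK LD1_c11 LD2_c37 LD3_c51) (LK LD1_c20 LD2_c36 LD3_c23) Lrfl Lrfl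
theorem f81718 : Led Lsl_gt (LP (LK LD1_c5 LD2_c56 LD3_c17)) = (LP (LK LD1_c11 LD2_c36 LD3_c49)) :=
  Lre_g IH (LK LD1_c5 LD2_c56 LD3_c17) (LK LD1_c11 LD2_c36 LD3_c49) Lrfl Lrfl
theorem f81713 : Led Lsl_gt (LP (LK LD1_c11 LD2_c36 LD3_c49)) = (LP (LK LD1_c5 LD2_c56 LD3_c18)) :=
  Lre_g IH (LK LD1_c11 LD2_c36 LD3_c49) (LK LD1_c5 LD2_c56 LD3_c18) Lrfl Lrfl
theorem f621608 : Led Lsl_at (LP (LK LD1_c11 LD2_c36 LD3_c47)) = (LP (LK LD1_c5 LD2_c56 LD3_c18)) :=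
  Lgr Lrot26 (Lpr_ff (K61.f621599 IH) (Lpr_gt (f81718 IH) (Lpr_gt (f81713 IH) (Lpn (LP (LK LD1_c5 LD2_c56 LD3_c18))))))
theorem f621611 : Led Lsl_af (LP (LK LD1_c11 LD2_c36 LD3_c47)) = (LP (LK LD1_c5 LD2_c56 LD3_c18)) :=
  Lgr Lrot0 (Lpr_at (f621608 IH) (Lpn (LP (LK LD1_c5 LD2_c56 LD3_c18))))
theorem f621610 : Led Lsl_ct (LP (LK LD1_c11 LD2_c37 LD3_c54)) = (LP (LK LD1_c5 LD2_c56 LD3_c18)) :=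
  Lre_c IH (LK LD1_c11 LD2_c37 LD3_c54) (LK LD1_c5 LD2_c56 LD3_c18) Lrfl Lrfl
theorem f968193 : Led Lsl_af (LP (LK LD1_c11 LD2_c37 LD3_c54)) = v48935 :=
  Lgr Lrot68 (Lpr_ct (f621610 IH) (Lpe (f621611 IH) (Lpr_ct (f968192 IH) (Lpn v48935))))
theorem f968217 : Led Lsl_gt (LP (LK LD1_c20 LD2_c36 LD3_c23)) = (LP (LK LD1_c11 LD2_c37 LD3_c54)) :=
  Lgr Lrot46 (Lpe (f442620 IH) (Lpr_ft (f968216 IH) (Lpe (f968193 IH) (Lpn (LP (LK LD1_c11 LD2_c37 LD3_c54))))))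
theorem f968218 : Led Lsl_gt (LP (LK LD1_c20 LD2_c36 LD3_c23)) = (LP (LK LD1_c11 LD2_c37 LD3_c54)) :=
  Leop (Lpe (f968217 IH) (Lpn (LP (LK LD1_c20 LD2_c36 LD3_c23))))
theorem seed_2949 : LEOK LG_g (LK LD1_c20 LD2_c36 LD3_c23) :=
  Leoe_g (LK LD1_c20 LD2_c36 LD3_c23) (f968218 IH)
def v49013 : LQ := Led Lsl_dt (LP (LK LD1_c11 LD2_c37 LD3_c50))
theorem f968574 : Led Lsl_dt (LP (LK LD1_c11 LD2_c37 LD3_c50)) = v49013 :=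
  Lrfl
theorem f467216 : Led Lsl_dt (LP (LK LD1_c3 LD2_c33 LD3_c50)) = (LP (LK LD1_c7 LD2_c8 LD3_c37)) :=
  Lre_d IH (LK LD1_c3 LD2_c33 LD3_c50) (LK LD1_c7 LD2_c8 LD3_c37) Lrfl Lrfl
def v20727 : LQ := Led Lsl_dt (LP (LK LD1_c7 LD2_c3 LD3_c38))
theorem f789518 : Led Lsl_dt (LP (LK LD1_c7 LD2_c3 LD3_c38)) = v20727 :=
  Lrfl
theorem f488241 : Led Lsl_et (LP (LK LD1_c7 LD2_c3 LD3_c38)) = (LP (LK LD1_c3 LD2_c30 LD3_c51)) :=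
  Lre_e IH (LK LD1_c7 LD2_c3 LD3_c38) (LK LD1_c3 LD2_c30 LD3_c51) Lrfl Lrfl
theorem f789525 : Led Lsl_gt (LP (LK LD1_c7 LD2_c8 LD3_c37)) = v20727 :=
  Lgr Lrot112 (Lpe (f467216 IH) (Lpr_et (K34.f467371 IH) (Lpr_gf (K29.f468105 IH) (Lpr_ef (K29.f129797 IH) (Lpr_dt (K29.f129808 IH) (Lpe (K28.f468097 IH) (Lpr_df (K28.f105961 IH) (Lpe (K35.f512012 IH) (Lpe (f488241 IH) (Lpr_dt (f789518 IH) (Lpn v20727)))))))))))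
theorem f789521 : Led Lsl_df (LP (LK LD1_c7 LD2_c3 LD3_c38)) = v20727 :=
  Lgr Lrot38 (Lpr_dt (f789518 IH) (Lpn v20727))
theorem f790513 : Led Lsl_df K48.v6997 = K61.v20867 :=
  Lgr Lrot84 (Lpe (K48.f660079 IH) (Lpr_df (f789521 IH) (Lpe (f789525 IH) (Lpe (f467216 IH) (Lpe (K28.f467131 IH) (Lpr_cf (K29.f88539 IH) (Lpe (K29.f467005 IH) (Lpr_dt (K43.f442114 IH) (Lpr_gt (K61.f790511 IH) (Lpn K61.v20867))))))))))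
theorem f968578 : Led Lsl_ef K61.v20867 = v49013 :=
  Lgr Lrot73 (Lpe (f790513 IH) (Lpe (K48.f660074 IH) (Lpr_dt (K61.f441638 IH) (Lpe (K61.f621524 IH) (Lpr_dt (f968574 IH) (Lpn v49013))))))
theorem f442147 : Led Lsl_et (LP (LK LD1_c13 LD2_c28 LD3_c40)) = (LP (LK LD1_c7 LD2_c6 LD3_c45)) :=
  Lre_e IH (LK LD1_c13 LD2_c28 LD3_c40) (LK LD1_c7 LD2_c6 LD3_c45) Lrfl Lrfl
theorem f442148 : Led Lsl_gt (LP (LK LD1_c23 LD2_c18 LD3_c49)) = (LP (LK LD1_c13 LD2_c49 LD3_c46)) :=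
  Lre_g IH (LK LD1_c23 LD2_c18 LD3_c49) (LK LD1_c13 LD2_c49 LD3_c46) Lrfl Lrfl
theorem f442149 : Led Lsl_dt (LP (LK LD1_c31 LD2_c0 LD3_c11)) = (LP (LK LD1_c23 LD2_c18 LD3_c49)) :=
  Lre_d IH (LK LD1_c31 LD2_c0 LD3_c11) (LK LD1_c23 LD2_c18 LD3_c49) Lrfl Lrfl
theorem f606902 : Led Lsl_et (LP (LK LD1_c21 LD2_c12 LD3_c60)) = (LP (LK LD1_c22 LD2_c56 LD3_c11)) :=
  Lgr Lrot87 (Lpr_ef (K68.f606898 IH) (Lpn (LP (LK LD1_c22 LD2_c56 LD3_c11))))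
theorem f59782 : Led Lsl_dt (LP (LK LD1_c21 LD2_c12 LD3_c60)) = (LP (LK LD1_c12 LD2_c6 LD3_c53)) :=
  Lre_d IH (LK LD1_c21 LD2_c12 LD3_c60) (LK LD1_c12 LD2_c6 LD3_c53) Lrfl Lrfl
theorem f570080 : Led Lsl_et (LP (LK LD1_c23 LD2_c19 LD3_c51)) = (LP (LK LD1_c13 LD2_c50 LD3_c45)) :=
  Lre_e IH (LK LD1_c23 LD2_c19 LD3_c51) (LK LD1_c13 LD2_c50 LD3_c45) Lrfl Lrfl
theorem f587646 : Led Lsl_gf (LP (LK LD1_c13 LD2_c50 LD3_c45)) = (LP (LK LD1_c15 LD2_c13 LD3_c1)) :=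
  Lgr Lrot143 (Lpr_dt (K42.f5190 IH) (Lpe (K42.f5189 IH) (Lpe (K42.f5673 IH) (Lpe (K43.f5674 IH) (Lpr_df (K45.f587636 IH) (Lpe (K45.f69745 IH) (Lpe (K18.f237442 IH) (Lpr_gt (K42.f225146 IH) (Lpr_dt (K45.f225147 IH) (Lpn (LP (LK LD1_c15 LD2_c13 LD3_c1))))))))))))
theorem f602250 : Led Lsl_et (LP (LK LD1_c7 LD2_c19 LD3_c13)) = (LP (LK LD1_c12 LD2_c5 LD3_c21)) :=
  Lgr Lrot121 (Lpr_dt (K43.f5193 IH) (Lpr_gf (f587646 IH) (Lpe (K45.f225147 IH) (Lpr_et (K45.f587767 IH) (Lpe (K45.f60465 IH) (Lpr_ef (K43.f569873 IH) (Lpe (K43.f575891 IH) (Lpr_gf (K43.f579498 IH) (Lpe (K43.f403080 IH) (Lpe (K43.f579500 IH) (Lpn (LP (LK LD1_c12 LD2_c5 LD3_c21)))))))))))))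
theorem f538285 : Led Lsl_et (LP (LK LD1_c21 LD2_c10 LD3_c60)) = (LP (LK LD1_c29 LD2_c53 LD3_c16)) :=
  Lre_e IH (LK LD1_c21 LD2_c10 LD3_c60) (LK LD1_c29 LD2_c53 LD3_c16) Lrfl Lrfl
theorem f602252 : Led Lsl_df (LP (LK LD1_c23 LD2_c19 LD3_c51)) = (LP (LK LD1_c29 LD2_c53 LD3_c16)) :=
  Lgr Lrot70 (Lpr_et (f570080 IH) (Lpr_dt (K42.f5190 IH) (Lpr_et (f602250 IH) (Lpr_dt (K41.f411104 IH) (Lpr_et (f538285 IH) (Lpn (LP (LK LD1_c29 LD2_c53 LD3_c16))))))))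
theorem f602256 : Led Lsl_dt (LP (LK LD1_c23 LD2_c19 LD3_c51)) = (LP (LK LD1_c29 LD2_c53 LD3_c16)) :=
  Lgr Lrot42 (Lpr_df (f602252 IH) (Lpn (LP (LK LD1_c29 LD2_c53 LD3_c16))))
theorem f518773 : Led Lsl_af (LP (LK LD1_c13 LD2_c49 LD3_c46)) = (LP (LK LD1_c13 LD2_c33 LD3_c22)) :=
  Lgr Lrot0 (Lpr_at (K43.f518770 IH) (Lpn (LP (LK LD1_c13 LD2_c33 LD3_c22))))
theorem f518876 : Led Lsl_gf (LP (LK LD1_c23 LD2_c18 LD3_c49)) = (LP (LK LD1_c22 LD2_c56 LD3_c11)) :=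
  Lgr Lrot47 (Lpr_gt (f442148 IH) (Lpr_af (f518773 IH) (Lpe (K68.f518868 IH) (Lpn (LP (LK LD1_c22 LD2_c56 LD3_c11))))))
theorem f481663 : Led Lsl_dt (LP (LK LD1_c23 LD2_c18 LD3_c49)) = (LP (LK LD1_c31 LD2_c0 LD3_c11)) :=
  Lre_d IH (LK LD1_c23 LD2_c18 LD3_c49) (LK LD1_c31 LD2_c0 LD3_c11) Lrfl Lrfl
theorem f606911 : Led Lsl_gf (LP (LK LD1_c29 LD2_c53 LD3_c16)) = (LP (LK LD1_c31 LD2_c0 LD3_c11)) :=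
  Lgr Lrot134 (Lpe (f602256 IH) (Lpr_et (f570080 IH) (Lpr_gt (K43.f574095 IH) (Lpe (K43.f138690 IH) (Lpr_dt (K43.f137918 IH) (Lpe (K75.f606835 IH) (Lpe (f59782 IH) (Lpr_et (f606902 IH) (Lpe (f518876 IH) (Lpr_dt (f481663 IH) (Lpn (LP (LK LD1_c31 LD2_c0 LD3_c11)))))))))))))
theorem f272176 : Led Lsl_ft (LP (LK LD1_c29 LD2_c53 LD3_c19)) = (LP (LK LD1_c21 LD2_c11 LD3_c0)) :=
  Lre_f IH (LK LD1_c29 LD2_c53 LD3_c19) (LK LD1_c21 LD2_c11 LD3_c0) Lrfl Lrfl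
theorem f606913 : Led Lsl_gt (LP (LK LD1_c29 LD2_c53 LD3_c19)) = (LP (LK LD1_c31 LD2_c0 LD3_c11)) :=
  Lgr Lrot5 (Lpr_ft (f272176 IH) (Lpr_at (K41.f272160 IH) (Lpr_gf (f606911 IH) (Lpn (LP (LK LD1_c31 LD2_c0 LD3_c11))))))
theorem f272139 : Led Lsl_bt (LP (LK LD1_c21 LD2_c11 LD3_c5)) = (LP (LK LD1_c29 LD2_c53 LD3_c19)) :=
  Lre_b IH (LK LD1_c21 LD2_c11 LD3_c5) (LK LD1_c29 LD2_c53 LD3_c19) Lrfl Lrfl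
theorem f272243 : Led Lsl_bt (LP (LK LD1_c26 LD2_c32 LD3_c0)) = (LP (LK LD1_c16 LD2_c34 LD3_c39)) :=
  Lre_b IH (LK LD1_c26 LD2_c32 LD3_c0) (LK LD1_c16 LD2_c34 LD3_c39) Lrfl Lrfl
theorem f272244 : Led Lsl_et (LP (LK LD1_c29 LD2_c53 LD3_c19)) = (LP (LK LD1_c26 LD2_c32 LD3_c0)) :=
  Lgr Lrot74 (Lpe (f272139 IH) (Lpr_ef (K16.f272239 IH) (Lpe (f272243 IH) (Lpn (LP (LK LD1_c26 LD2_c32 LD3_c0))))))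
theorem f272247 : Led Lsl_ef (LP (LK LD1_c29 LD2_c53 LD3_c19)) = (LP (LK LD1_c26 LD2_c32 LD3_c0)) :=
  Lgr Lrot88 (Lpr_et (f272244 IH) (Lpn (LP (LK LD1_c26 LD2_c32 LD3_c0))))
theorem f968577 : Led Lsl_df (LP (LK LD1_c11 LD2_c37 LD3_c50)) = v49013 :=
  Lgr Lrot38 (Lpr_dt (f968574 IH) (Lpn v49013))
theorem f621528 : Led Lsl_gt (LP (LK LD1_c11 LD2_c37 LD3_c50)) = (LP (LK LD1_c20 LD2_c36 LD3_c22)) :=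
  Lre_g IH (LK LD1_c11 LD2_c37 LD3_c50) (LK LD1_c20 LD2_c36 LD3_c22) Lrfl Lrfl
theorem f968583 : Led Lsl_dt (LP (LK LD1_c26 LD2_c32 LD3_c0)) = (LP (LK LD1_c20 LD2_c36 LD3_c22)) :=
  Lgr Lrot37 (Lpe (f272247 IH) (Lpr_gt (f606913 IH) (Lpr_dt (f442149 IH) (Lpr_gt (f442148 IH) (Lpr_df (K43.f442116 IH) (Lpr_et (f442147 IH) (Lpr_gt (K61.f790511 IH) (Lpr_ef (f968578 IH) (Lpe (f968577 IH) (Lpr_gt (f621528 IH) (Lpn (LP (LK LD1_c20 LD2_c36 LD3_c22)))))))))))))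
theorem f968584 : Led Lsl_dt (LP (LK LD1_c26 LD2_c32 LD3_c0)) = (LP (LK LD1_c20 LD2_c36 LD3_c22)) :=
  Leop (Lpe (f968583 IH) (Lpn (LP (LK LD1_c26 LD2_c32 LD3_c0))))
theorem seed_2950 : LEOK LG_d (LK LD1_c26 LD2_c32 LD3_c0) :=
  Leoe_d (LK LD1_c26 LD2_c32 LD3_c0) (f968584 IH)
def v49048 : LQ := Led Lsl_et (LP (LK LD1_c11 LD2_c38 LD3_c38))
theorem f968754 : Led Lsl_et (LP (LK LD1_c11 LD2_c38 LD3_c38)) = v49048 :=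
  Lrfl
theorem f700735 : Led Lsl_gt K50.v13010 = K69.v13048 :=
  Lgr Lrot112 (Lpe (K50.f700170 IH) (Lpr_et (K50.f622256 IH) (Lpe (K51.f614946 IH) (Lpr_ef (K51.f614948 IH) (Lpr_dt (K51.f140544 IH) (Lpe (K51.f416270 IH) (Lpe (K45.f79971 IH) (Lpe (K45.f415659 IH) (Lpe (K69.f614950 IH) (Lpr_dt (K69.f700733 IH) (Lpn K69.v13048)))))))))))
theorem f700734 : Led Lsl_df (LP (LK LD1_c4 LD2_c38 LD3_c22)) = K69.v13048 :=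
  Lgr Lrot38 (Lpr_dt (K69.f700733 IH) (Lpn K69.v13048))
theorem f700721 : Led Lsl_dt (LP (LK LD1_c5 LD2_c55 LD3_c20)) = K55.v13045 :=
  Lgr Lrot60 (Lpr_ff (K55.f699920 IH) (Lpe (K55.f699922 IH) (Lpr_ff (K55.f700719 IH) (Lpn K55.v13045))))
theorem f968758 : Led Lsl_gt K55.v16229 = v49048 :=
  Lgr Lrot131 (Lpe (K55.f747139 IH) (Lpr_dt (f700721 IH) (Lpe (K55.f700712 IH) (Lpr_df (f700734 IH) (Lpe (f700735 IH) (Lpe (K50.f700175 IH) (Lpr_dt (K50.f69229 IH) (Lpr_gf (K56.f714612 IH) (Lpr_df (K52.f710719 IH) (Lpr_et (f968754 IH) (Lpn v49048)))))))))))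
theorem f747147 : Led Lsl_dt K55.v15699 = K55.v16229 :=
  Lgr Lrot42 (Lpr_df (K55.f747145 IH) (Lpn K55.v16229))
def v38058 : LQ := Led Lsl_dt (LP (LK LD1_c9 LD2_c4 LD3_c33))
theorem f898936 : Led Lsl_dt (LP (LK LD1_c9 LD2_c4 LD3_c33)) = v38058 :=
  Lrfl
theorem f747167 : Led Lsl_ef K55.v15699 = (LP (LK LD1_c12 LD2_c3 LD3_c34)) :=
  Lgr Lrot88 (Lpr_et (K55.f747148 IH) (Lpn (LP (LK LD1_c12 LD2_c3 LD3_c34))))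
theorem f898940 : Led Lsl_gt (LP (LK LD1_c11 LD2_c39 LD3_c8)) = v38058 :=
  Lgr Lrot139 (Lpe (K55.f710947 IH) (Lpr_gf (K55.f747244 IH) (Lpe (K55.f652885 IH) (Lpr_dt (K51.f80008 IH) (Lpr_gf (K55.f652886 IH) (Lpqs (K55.f747241 IH) (Lpr_df (K55.f698937 IH) (Lpe (f747167 IH) (Lpqs (K55.f747211 IH) (Lpe (K55.f385539 IH) (Lpe (K50.f385523 IH) (Lpr_dt (f898936 IH) (Lpn v38058)))))))))))))
theorem f501161 : Led Lsl_et (LP (LK LD1_c11 LD2_c50 LD3_c15)) = (LP (LK LD1_c6 LD2_c3 LD3_c14)) :=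
  Lre_e IH (LK LD1_c11 LD2_c50 LD3_c15) (LK LD1_c6 LD2_c3 LD3_c14) Lrfl Lrfl
def v38638 : LQ := Led Lsl_et (LP (LK LD1_c9 LD2_c13 LD3_c47))
theorem f903409 : Led Lsl_et (LP (LK LD1_c9 LD2_c13 LD3_c47)) = v38638 :=
  Lrfl
theorem f903412 : Led Lsl_ef (LP (LK LD1_c9 LD2_c13 LD3_c47)) = v38638 :=
  Lgr Lrot88 (Lpr_et (f903409 IH) (Lpn v38638))
theorem f968760 : Led Lsl_dt v38638 = v49048 :=
  Lgr Lrot56 (Lpe (f903412 IH) (Lpe (K52.f645656 IH) (Lpe (f501161 IH) (Lpr_dt (K55.f710947 IH) (Lpr_gt (f898940 IH) (Lpe (f898936 IH) (Lpr_et (K50.f385523 IH) (Lpr_gt (K55.f385539 IH) (Lpq (K55.f747211 IH) (Lpr_dt (f747147 IH) (Lpr_gt (f968758 IH) (Lpn v49048))))))))))))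
def v38595 : LQ := Led Lsl_et (LP (LK LD1_c9 LD2_c13 LD3_c4))
theorem f903135 : Led Lsl_et (LP (LK LD1_c9 LD2_c13 LD3_c4)) = v38595 :=
  Lrfl
theorem f903139 : Led Lsl_ef (LP (LK LD1_c9 LD2_c13 LD3_c4)) = v38595 :=
  Lgr Lrot88 (Lpr_et (f903135 IH) (Lpn v38595))
theorem f641146 : Led Lsl_ft (LP (LK LD1_c5 LD2_c56 LD3_c52)) = (LP (LK LD1_c11 LD2_c39 LD3_c1)) :=
  Lre_f IH (LK LD1_c5 LD2_c56 LD3_c52) (LK LD1_c11 LD2_c39 LD3_c1) Lrfl Lrfl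
theorem f747908 : Led Lsl_ef (LP (LK LD1_c11 LD2_c50 LD3_c13)) = (LP (LK LD1_c11 LD2_c39 LD3_c1)) :=
  Lgr Lrot21 (Lpr_ft (K56.f747902 IH) (Lpe (K55.f714360 IH) (Lpr_ft (K55.f747386 IH) (Lpq (K56.f747580 IH) (Lpr_et (K55.f641129 IH) (Lpr_ft (f641146 IH) (Lpn (LP (LK LD1_c11 LD2_c39 LD3_c1)))))))))
theorem f621112 : Led Lsl_dt (LP (LK LD1_c4 LD2_c35 LD3_c20)) = (LP (LK LD1_c9 LD2_c2 LD3_c0)) :=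
  Lgr Lrot44 (Lpe (K52.f424771 IH) (Lpr_df (K51.f621110 IH) (Lpr_af (K39.f549267 IH) (Lpn (LP (LK LD1_c9 LD2_c2 LD3_c0))))))
theorem f101635 : Led Lsl_et (LP (LK LD1_c4 LD2_c35 LD3_c20)) = (LP (LK LD1_c2 LD2_c14 LD3_c52)) :=
  Lre_e IH (LK LD1_c4 LD2_c35 LD3_c20) (LK LD1_c2 LD2_c14 LD3_c52) Lrfl Lrfl
theorem f26921 : Led Lsl_et (LP (LK LD1_c2 LD2_c16 LD3_c19)) = (LP (LK LD1_c1 LD2_c5 LD3_c4)) :=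
  Lre_e IH (LK LD1_c2 LD2_c16 LD3_c19) (LK LD1_c1 LD2_c5 LD3_c4) Lrfl Lrfl
theorem f26925 : Led Lsl_gt (LP (LK LD1_c4 LD2_c38 LD3_c36)) = (LP (LK LD1_c9 LD2_c13 LD3_c4)) :=
  Lre_g IH (LK LD1_c4 LD2_c38 LD3_c36) (LK LD1_c9 LD2_c13 LD3_c4) Lrfl Lrfl
theorem f748058 : Led Lsl_df (LP (LK LD1_c9 LD2_c13 LD3_c4)) = (LP (LK LD1_c11 LD2_c39 LD3_c1)) :=
  Lgr Lrot168 (Lpe (f26925 IH) (Lpe (K8.f26840 IH) (Lpr_et (f26921 IH) (Lpr_gf (K8.f150446 IH) (Lpe (f101635 IH) (Lpr_dt (f621112 IH) (Lpqs (K51.f706241 IH) (Lpe (K51.f698726 IH) (Lpe (K52.f639805 IH) (Lpr_gf (K55.f714561 IH) (Lpr_ef (f747908 IH) (Lpn (LP (LK LD1_c11 LD2_c39 LD3_c1))))))))))))))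
theorem f748060 : Led Lsl_dt (LP (LK LD1_c9 LD2_c13 LD3_c4)) = (LP (LK LD1_c11 LD2_c39 LD3_c1)) :=
  Lgr Lrot42 (Lpr_df (f748058 IH) (Lpn (LP (LK LD1_c11 LD2_c39 LD3_c1))))
theorem f903142 : Led Lsl_dt (LP (LK LD1_c11 LD2_c15 LD3_c24)) = v38595 :=
  Lgr Lrot77 (Lpr_ef (K69.f714567 IH) (Lpe (K56.f645572 IH) (Lpr_ef (f747908 IH) (Lpe (f748060 IH) (Lpr_ef (f903139 IH) (Lpn v38595))))))
def v47861 : LQ := Led Lsl_dt (LP (LK LD1_c11 LD2_c22 LD3_c48))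
theorem f960392 : Led Lsl_dt (LP (LK LD1_c11 LD2_c22 LD3_c48)) = v47861 :=
  Lrfl
theorem f741529 : Led Lsl_et (LP (LK LD1_c11 LD2_c22 LD3_c48)) = (LP (LK LD1_c5 LD2_c46 LD3_c14)) :=
  Lre_e IH (LK LD1_c11 LD2_c22 LD3_c48) (LK LD1_c5 LD2_c46 LD3_c14) Lrfl Lrfl
def v15782 : LQ := Led Lsl_gf (LP (LK LD1_c5 LD2_c46 LD3_c14))
theorem f741530 : Led Lsl_gf (LP (LK LD1_c5 LD2_c46 LD3_c14)) = v15782 :=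
  Lrfl
def v15785 : LQ := Led Lsl_ft (LP (LK LD1_c5 LD2_c46 LD3_c14))
theorem f741541 : Led Lsl_ft (LP (LK LD1_c5 LD2_c46 LD3_c14)) = v15785 :=
  Lrfl
theorem f741543 : Led Lsl_ff (LP (LK LD1_c5 LD2_c46 LD3_c14)) = v15785 :=
  Lgr Lrot3 (Lpr_ft (f741541 IH) (Lpn v15785))
theorem f640484 : Led Lsl_bt (LP (LK LD1_c5 LD2_c46 LD3_c14)) = (LP (LK LD1_c2 LD2_c48 LD3_c52)) :=
  Lre_b IH (LK LD1_c5 LD2_c46 LD3_c14) (LK LD1_c2 LD2_c48 LD3_c52) Lrfl Lrfl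
theorem f741544 : Led Lsl_bt K55.v4824 = v15785 :=
  Lgr Lrot35 (Lpe (K55.f640483 IH) (Lpe (f640484 IH) (Lpr_ff (f741543 IH) (Lpn v15785))))
theorem f824223 : v15785 = (LP (LK LD1_c9 LD2_c5 LD3_c15)) :=
  Lefun (Lecon (f741544 IH) (K64.f824210 IH).symm) (K74.f698788 IH)
def v15783 : LQ := Led Lsl_at (LP (LK LD1_c5 LD2_c46 LD3_c14))
theorem f741533 : Led Lsl_at (LP (LK LD1_c5 LD2_c46 LD3_c14)) = v15783 :=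
  Lrfl
theorem f741534 : Led Lsl_af (LP (LK LD1_c5 LD2_c46 LD3_c14)) = v15783 :=
  Lgr Lrot0 (Lpr_at (f741533 IH) (Lpn v15783))
theorem f899333 : Led Lsl_ff v15783 = K74.v38124 :=
  Lgr Lrot30 (Lpe (f741534 IH) (Lpr_ft (f741541 IH) (Lpqs (f824223 IH) (Lpr_at (K74.f899330 IH) (Lpn K74.v38124)))))
theorem f899336 : Led Lsl_gf v15782 = K74.v38124 :=
  Lgr Lrot47 (Lpe (f741530 IH) (Lpr_af (f741534 IH) (Lpr_ff (f899333 IH) (Lpn K74.v38124))))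
theorem f931596 : v15782 = (LP (LK LD1_c11 LD2_c15 LD3_c18)) :=
  Lefun (Lecon (Lfl_gf (f899336 IH)) (K74.f931593 IH).symm) (K69.f897539 IH)
theorem f707082 : Led Lsl_et (LP (LK LD1_c5 LD2_c46 LD3_c1)) = (LP (LK LD1_c11 LD2_c15 LD3_c18)) :=
  Lgr Lrot69 (Lpr_ff (K57.f707078 IH) (Lpe (K39.f280522 IH) (Lpe (K40.f561260 IH) (Lpe (K40.f423891 IH) (Lpe (K69.f561188 IH) (Lpn (LP (LK LD1_c11 LD2_c15 LD3_c18))))))))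
theorem f960398 : Led Lsl_gf v38595 = v47861 :=
  Lgr Lrot145 (Lpe (f903142 IH) (Lpr_et (K69.f714571 IH) (Lpr_gt (K55.f645510 IH) (Lpr_dt (K52.f645463 IH) (Lpe (K52.f645603 IH) (Lpq (K52.f710596 IH) (Lpe (K52.f707070 IH) (Lpr_et (f707082 IH) (Lpq (f931596 IH) (Lpe (f741530 IH) (Lpe (f741529 IH) (Lpr_dt (f960392 IH) (Lpn v47861)))))))))))))
def v47860 : LQ := Led Lsl_gf (LP (LK LD1_c11 LD2_c22 LD3_c48))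
theorem f960391 : Led Lsl_gf (LP (LK LD1_c11 LD2_c22 LD3_c48)) = v47860 :=
  Lrfl
theorem f707303 : Led Lsl_et (LP (LK LD1_c5 LD2_c56 LD3_c57)) = (LP (LK LD1_c11 LD2_c39 LD3_c10)) :=
  Lre_e IH (LK LD1_c5 LD2_c56 LD3_c57) (LK LD1_c11 LD2_c39 LD3_c10) Lrfl Lrfl
theorem f508185 : Led Lsl_ff (LP (LK LD1_c6 LD2_c3 LD3_c39)) = (LP (LK LD1_c9 LD2_c14 LD3_c16)) :=
  Lgr Lrot3 (Lpr_ft (K50.f508181 IH) (Lpn (LP (LK LD1_c9 LD2_c14 LD3_c16))))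
theorem f711094 : Led Lsl_bf (LP (LK LD1_c9 LD2_c14 LD3_c16)) = (LP (LK LD1_c5 LD2_c56 LD3_c57)) :=
  Lgr Lrot61 (Lpe (f508185 IH) (Lpe (K57.f614604 IH) (Lpr_ft (K52.f711090 IH) (Lpn (LP (LK LD1_c5 LD2_c56 LD3_c57))))))
theorem f546339 : Led Lsl_et (LP (LK LD1_c11 LD2_c39 LD3_c10)) = (LP (LK LD1_c5 LD2_c56 LD3_c57)) :=
  Lre_e IH (LK LD1_c11 LD2_c39 LD3_c10) (LK LD1_c5 LD2_c56 LD3_c57) Lrfl Lrfl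
theorem f711158 : Led Lsl_bt (LP (LK LD1_c17 LD2_c8 LD3_c36)) = (LP (LK LD1_c11 LD2_c39 LD3_c10)) :=
  Lgr Lrot119 (Lpe (K50.f422763 IH) (Lpr_bf (f711094 IH) (Lpe (f546339 IH) (Lpn (LP (LK LD1_c11 LD2_c39 LD3_c10))))))
theorem f711163 : Led Lsl_df (LP (LK LD1_c18 LD2_c21 LD3_c5)) = (LP (LK LD1_c11 LD2_c39 LD3_c10)) :=
  Lgr Lrot12 (Lpr_bt (K73.f285132 IH) (Lpr_dt (K53.f422761 IH) (Lpr_bt (f711158 IH) (Lpn (LP (LK LD1_c11 LD2_c39 LD3_c10))))))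
theorem f903425 : Led Lsl_dt (LP (LK LD1_c11 LD2_c59 LD3_c10)) = K73.v38639 :=
  Lgr Lrot77 (Lpe (K53.f722015 IH) (Lpr_df (f711163 IH) (Lpe (f707303 IH) (Lpe (K51.f707299 IH) (Lpr_ef (K73.f903422 IH) (Lpn K73.v38639))))))
theorem f722017 : Led Lsl_ef (LP (LK LD1_c18 LD2_c21 LD3_c5)) = (LP (LK LD1_c11 LD2_c59 LD3_c10)) :=
  Lgr Lrot88 (Lpr_et (K53.f722015 IH) (Lpn (LP (LK LD1_c11 LD2_c59 LD3_c10))))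
theorem f711168 : Led Lsl_gt (LP (LK LD1_c18 LD2_c21 LD3_c5)) = (LP (LK LD1_c10 LD2_c2 LD3_c54)) :=
  Lgr Lrot112 (Lpr_df (f711163 IH) (Lpr_et (f546339 IH) (Lpe (K73.f82971 IH) (Lpe (K66.f452840 IH) (Lpr_dt (K40.f82178 IH) (Lpe (K37.f82182 IH) (Lpe (K37.f418493 IH) (Lpr_gf (K37.f546334 IH) (Lpe (K72.f541645 IH) (Lpe (K72.f546678 IH) (Lpn (LP (LK LD1_c10 LD2_c2 LD3_c54)))))))))))))
theorem f385905 : Led Lsl_ft (LP (LK LD1_c11 LD2_c57 LD3_c54)) = (LP (LK LD1_c6 LD2_c7 LD3_c44)) :=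
  Lre_f IH (LK LD1_c11 LD2_c57 LD3_c54) (LK LD1_c6 LD2_c7 LD3_c44) Lrfl Lrfl
theorem f711170 : Led Lsl_gf (LP (LK LD1_c18 LD2_c21 LD3_c5)) = (LP (LK LD1_c11 LD2_c57 LD3_c54)) :=
  Lgr Lrot47 (Lpr_gt (f711168 IH) (Lpe (K72.f547650 IH) (Lpe (f385905 IH) (Lpn (LP (LK LD1_c11 LD2_c57 LD3_c54))))))
theorem f741005 : Led Lsl_ef (LP (LK LD1_c11 LD2_c57 LD3_c54)) = K72.v15705 :=
  Lgr Lrot21 (Lpr_ft (f385905 IH) (Lpr_et (K72.f385904 IH) (Lpe (K38.f385359 IH) (Lpr_et (K72.f168233 IH) (Lpr_ft (K72.f741002 IH) (Lpn K72.v15705))))))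
theorem f385537 : Led Lsl_ft (LP (LK LD1_c5 LD2_c45 LD3_c31)) = (LP (LK LD1_c2 LD2_c48 LD3_c30)) :=
  Lre_f IH (LK LD1_c5 LD2_c45 LD3_c31) (LK LD1_c2 LD2_c48 LD3_c30) Lrfl Lrfl
theorem f741004 : Led Lsl_df (LP (LK LD1_c5 LD2_c45 LD3_c31)) = K72.v15705 :=
  Lgr Lrot78 (Lpr_ft (f385537 IH) (Lpr_dt (K18.f168244 IH) (Lpr_ft (K72.f741002 IH) (Lpn K72.v15705))))
def v47666 : LQ := Led Lsl_dt (LP (LK LD1_c11 LD2_c21 LD3_c14))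
theorem f959622 : Led Lsl_dt (LP (LK LD1_c11 LD2_c21 LD3_c14)) = v47666 :=
  Lrfl
theorem f959624 : Led Lsl_df (LP (LK LD1_c11 LD2_c21 LD3_c14)) = v47666 :=
  Lgr Lrot38 (Lpr_dt (f959622 IH) (Lpn v47666))
theorem f968759 : Led Lsl_gf v47666 = v49048 :=
  Lgr Lrot138 (Lpe (f959624 IH) (Lpr_gt (K55.f385538 IH) (Lpr_df (f741004 IH) (Lpe (f741005 IH) (Lpe (f711170 IH) (Lpr_ef (f722017 IH) (Lpr_dt (f903425 IH) (Lpe (K73.f903415 IH) (Lpr_df (K52.f710719 IH) (Lpr_et (f968754 IH) (Lpn v49048)))))))))))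
theorem f968761 : v47860 = (LP (LK LD1_c20 LD2_c12 LD3_c14)) :=
  (Llr Lrot138 (Lpe (f960391 IH) (Lpr_dt (f960392 IH) (Lpe (f960398 IH) (Lpe (f903142 IH) (Lpr_et (K69.f714571 IH) (Lpr_gt (K55.f645510 IH) (Lpr_ef (f903412 IH) (Lpr_dt (f968760 IH) (Lpe (f968759 IH) (Lpe (f959622 IH) (Lpr_et (K55.f552640 IH) (Lpn (LP (LK LD1_c20 LD2_c12 LD3_c14))))))))))))))).symm
theorem f968762 : Led Lsl_gt (LP (LK LD1_c20 LD2_c12 LD3_c14)) = (LP (LK LD1_c11 LD2_c22 LD3_c48)) :=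
  Leop (Lpr_gf (f960391 IH) (Lpqs (f968761 IH) (Lpn (LP (LK LD1_c20 LD2_c12 LD3_c14)))))
theorem seed_2951 : LEOK LG_g (LK LD1_c20 LD2_c12 LD3_c14) :=
  Leoe_g (LK LD1_c20 LD2_c12 LD3_c14) (f968762 IH)
def v49049 : LQ := Led Lsl_gf (LP (LK LD1_c11 LD2_c38 LD3_c39))
theorem f968768 : Led Lsl_gf (LP (LK LD1_c11 LD2_c38 LD3_c39)) = v49049 :=
  Lrfl
theorem f601038 : Led Lsl_af (LP (LK LD1_c17 LD2_c57 LD3_c53)) = (LP (LK LD1_c10 LD2_c6 LD3_c13)) :=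
  Lgr Lrot0 (Lpr_at (K56.f601036 IH) (Lpn (LP (LK LD1_c10 LD2_c6 LD3_c13))))
theorem f967582 : Led Lsl_gf (LP (LK LD1_c15 LD2_c27 LD3_c5)) = (LP (LK LD1_c18 LD2_c25 LD3_c16)) :=
  Lgr Lrot47 (Lpr_gt (f967580 IH) (Lpr_af (f601038 IH) (Lpe (K38.f545033 IH) (Lpn (LP (LK LD1_c18 LD2_c25 LD3_c16))))))
theorem f968770 : Led Lsl_ct (LP (LK LD1_c15 LD2_c27 LD3_c5)) = v49049 :=
  Lgr Lrot152 (Lpr_gf (f967582 IH) (Lpe (K38.f545031 IH) (Lpe (K75.f752606 IH) (Lpr_ct (K56.f752601 IH) (Lpr_gt (K56.f157121 IH) (Lpr_ct (K32.f157103 IH) (Lpe (K49.f161050 IH) (Lpe (K52.f161043 IH) (Lpr_gf (f968768 IH) (Lpn v49049))))))))))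
theorem f753273 : Led Lsl_ct (LP (LK LD1_c18 LD2_c42 LD3_c7)) = (LP (LK LD1_c18 LD2_c25 LD3_c14)) :=
  Lgr Lrot59 (Lpr_cf (K67.f753206 IH) (Lpn (LP (LK LD1_c18 LD2_c25 LD3_c14))))
theorem f968773 : Led Lsl_ff (LP (LK LD1_c18 LD2_c42 LD3_c7)) = v49049 :=
  Lgr Lrot23 (Lpr_ct (f753273 IH) (Lpe (K67.f881029 IH) (Lpr_ct (f968770 IH) (Lpn v49049))))
theorem f161067 : Led Lsl_gt (LP (LK LD1_c11 LD2_c38 LD3_c39)) = (LP (LK LD1_c20 LD2_c37 LD3_c48)) :=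
  Lre_g IH (LK LD1_c11 LD2_c38 LD3_c39) (LK LD1_c20 LD2_c37 LD3_c48) Lrfl Lrfl
theorem f968775 : Led Lsl_at (LP (LK LD1_c18 LD2_c42 LD3_c7)) = (LP (LK LD1_c20 LD2_c37 LD3_c48)) :=
  Lgr Lrot26 (Lpr_ff (f968773 IH) (Lpe (f968768 IH) (Lpr_gt (f161067 IH) (Lpn (LP (LK LD1_c20 LD2_c37 LD3_c48))))))
theorem f968776 : Led Lsl_at (LP (LK LD1_c18 LD2_c42 LD3_c7)) = (LP (LK LD1_c20 LD2_c37 LD3_c48)) :=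
  Leop (Lpe (f968775 IH) (Lpn (LP (LK LD1_c18 LD2_c42 LD3_c7))))
theorem seed_2952 : LEOK LG_a (LK LD1_c18 LD2_c42 LD3_c7) :=
  Leoe_a (LK LD1_c18 LD2_c42 LD3_c7) (f968776 IH)
def v49072 : LQ := Led Lsl_at (LP (LK LD1_c11 LD2_c38 LD3_c60))
theorem f968857 : Led Lsl_at (LP (LK LD1_c11 LD2_c38 LD3_c60)) = v49072 :=
  Lrfl
theorem f707361 : Led Lsl_ct (LP (LK LD1_c11 LD2_c38 LD3_c60)) = (LP (LK LD1_c5 LD2_c56 LD3_c51)) :=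
  Lre_c IH (LK LD1_c11 LD2_c38 LD3_c60) (LK LD1_c5 LD2_c56 LD3_c51) Lrfl Lrfl
theorem f82913 : Led Lsl_ct (LP (LK LD1_c11 LD2_c36 LD3_c61)) = (LP (LK LD1_c20 LD2_c35 LD3_c23)) :=
  Lre_c IH (LK LD1_c11 LD2_c36 LD3_c61) (LK LD1_c20 LD2_c35 LD3_c23) Lrfl Lrfl
theorem f747619 : Led Lsl_ff (LP (LK LD1_c11 LD2_c38 LD3_c60)) = (LP (LK LD1_c20 LD2_c35 LD3_c23)) :=
  Lgr Lrot23 (Lpr_ct (f707361 IH) (Lpr_ft (K55.f747614 IH) (Lpr_ct (f82913 IH) (Lpn (LP (LK LD1_c20 LD2_c35 LD3_c23))))))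
theorem f710978 : Led Lsl_ct (LP (LK LD1_c11 LD2_c39 LD3_c7)) = (LP (LK LD1_c5 LD2_c56 LD3_c55)) :=
  Lre_c IH (LK LD1_c11 LD2_c39 LD3_c7) (LK LD1_c5 LD2_c56 LD3_c55) Lrfl Lrfl
theorem f747597 : Led Lsl_af (LP (LK LD1_c11 LD2_c39 LD3_c7)) = (LP (LK LD1_c20 LD2_c35 LD3_c23)) :=
  Lgr Lrot68 (Lpr_ct (f710978 IH) (Lpr_at (K55.f747593 IH) (Lpr_ct (f82913 IH) (Lpn (LP (LK LD1_c20 LD2_c35 LD3_c23))))))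
theorem f747599 : Led Lsl_at (LP (LK LD1_c11 LD2_c39 LD3_c7)) = (LP (LK LD1_c20 LD2_c35 LD3_c23)) :=
  Lgr Lrot100 (Lpr_af (f747597 IH) (Lpn (LP (LK LD1_c20 LD2_c35 LD3_c23))))
theorem f968860 : Led Lsl_ff (LP (LK LD1_c11 LD2_c39 LD3_c7)) = v49072 :=
  Lgr Lrot30 (Lpr_at (f747599 IH) (Lpe (f747619 IH) (Lpr_at (f968857 IH) (Lpn v49072))))
theorem f968862 : Led Lsl_ft (LP (LK LD1_c11 LD2_c39 LD3_c7)) = v49072 :=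
  Lgr Lrot48 (Lpr_ff (f968860 IH) (Lpn v49072))
theorem f968858 : Led Lsl_af (LP (LK LD1_c11 LD2_c38 LD3_c60)) = v49072 :=
  Lgr Lrot0 (Lpr_at (f968857 IH) (Lpn v49072))
theorem f745987 : Led Lsl_gt (LP (LK LD1_c20 LD2_c38 LD3_c21)) = (LP (LK LD1_c11 LD2_c38 LD3_c60)) :=
  Lre_g IH (LK LD1_c20 LD2_c38 LD3_c21) (LK LD1_c11 LD2_c38 LD3_c60) Lrfl Lrfl
theorem f968863 : Led Lsl_gt (LP (LK LD1_c11 LD2_c39 LD3_c7)) = (LP (LK LD1_c20 LD2_c38 LD3_c21)) :=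
  Lgr Lrot5 (Lpr_ft (f968862 IH) (Lpe (f968858 IH) (Lpe (f745987 IH) (Lpn (LP (LK LD1_c20 LD2_c38 LD3_c21))))))
theorem f968864 : Led Lsl_gt (LP (LK LD1_c11 LD2_c39 LD3_c7)) = (LP (LK LD1_c20 LD2_c38 LD3_c21)) :=
  Leop (Lpe (f968863 IH) (Lpn (LP (LK LD1_c11 LD2_c39 LD3_c7))))
theorem seed_2953 : LEOK LG_g (LK LD1_c11 LD2_c39 LD3_c7) :=
  Leoe_g (LK LD1_c11 LD2_c39 LD3_c7) (f968864 IH)
def v49085 : LQ := Led Lsl_gf (LP (LK LD1_c11 LD2_c39 LD3_c10))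
theorem f968922 : Led Lsl_gf (LP (LK LD1_c11 LD2_c39 LD3_c10)) = v49085 :=
  Lrfl
theorem f711166 : Led Lsl_dt (LP (LK LD1_c18 LD2_c21 LD3_c5)) = (LP (LK LD1_c11 LD2_c39 LD3_c10)) :=
  Lgr Lrot42 (Lpr_df (f711163 IH) (Lpn (LP (LK LD1_c11 LD2_c39 LD3_c10))))
theorem f164819 : Led Lsl_et (LP (LK LD1_c18 LD2_c21 LD3_c27)) = (LP (LK LD1_c10 LD2_c2 LD3_c59)) :=
  Lre_e IH (LK LD1_c18 LD2_c21 LD3_c27) (LK LD1_c10 LD2_c2 LD3_c59) Lrfl Lrfl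
theorem f968924 : Led Lsl_dt (LP (LK LD1_c18 LD2_c21 LD3_c27)) = v49085 :=
  Lgr Lrot136 (Lpr_et (f164819 IH) (Lpe (K56.f618180 IH) (Lpe (K42.f546451 IH) (Lpr_dt (K50.f496809 IH) (Lpr_gf (K52.f499893 IH) (Lpe (K53.f69234 IH) (Lpr_gf (K53.f714392 IH) (Lpe (K53.f722015 IH) (Lpr_dt (f711166 IH) (Lpr_gf (f968922 IH) (Lpn v49085)))))))))))
theorem f968926 : Led Lsl_df (LP (LK LD1_c18 LD2_c21 LD3_c27)) = v49085 :=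
  Lgr Lrot38 (Lpr_dt (f968924 IH) (Lpn v49085))
def v48946 : LQ := Led Lsl_et (LP (LK LD1_c11 LD2_c37 LD3_c0))
theorem f968282 : Led Lsl_et (LP (LK LD1_c11 LD2_c37 LD3_c0)) = v48946 :=
  Lrfl
theorem f968283 : Led Lsl_af (LP (LK LD1_c11 LD2_c39 LD3_c10)) = v48946 :=
  Lgr Lrot50 (Lpr_et (f546339 IH) (Lpe (K52.f711092 IH) (Lpr_et (f968282 IH) (Lpn v48946))))
theorem f968286 : Led Lsl_ff (LP (LK LD1_c12 LD2_c54 LD3_c10)) = v48946 :=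
  Lgr Lrot72 (Lpr_et (K72.f652865 IH) (Lpr_ft (K66.f748193 IH) (Lpe (K66.f748189 IH) (Lpe (K52.f711062 IH) (Lpr_et (f968282 IH) (Lpn v48946))))))
theorem f968289 : Led Lsl_ft (LP (LK LD1_c12 LD2_c54 LD3_c10)) = v48946 :=
  Lgr Lrot48 (Lpr_ff (f968286 IH) (Lpn v48946))
theorem f968923 : Led Lsl_gt (LP (LK LD1_c12 LD2_c54 LD3_c10)) = v49085 :=
  Lgr Lrot5 (Lpr_ft (f968289 IH) (Lpe (f968283 IH) (Lpr_gf (f968922 IH) (Lpn v49085))))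
theorem f748114 : Led Lsl_et (LP (LK LD1_c6 LD2_c44 LD3_c56)) = (LP (LK LD1_c12 LD2_c54 LD3_c10)) :=
  Lre_e IH (LK LD1_c6 LD2_c44 LD3_c56) (LK LD1_c12 LD2_c54 LD3_c10) Lrfl Lrfl
theorem f781326 : Led Lsl_gt K71.v13107 = K66.v19623 :=
  Lgr Lrot137 (Lpe (K71.f701151 IH) (Lpr_dt (K11.f100199 IH) (Lpe (K73.f653050 IH) (Lpe (K69.f621239 IH) (Lpr_et (K73.f653029 IH) (Lpqs (K51.f706532 IH) (Lpe (K50.f644820 IH) (Lpe (K51.f509312 IH) (Lpr_dt (K46.f509303 IH) (Lpe (K46.f652859 IH) (Lpr_df (K66.f781323 IH) (Lpn K66.v19623))))))))))))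
theorem f913257 : Led Lsl_et (LP (LK LD1_c11 LD2_c51 LD3_c2)) = K71.v40081 :=
  Lgr Lrot87 (Lpr_ef (K71.f913253 IH) (Lpn K71.v40081))
theorem f968928 : Led Lsl_gt (LP (LK LD1_c18 LD2_c21 LD3_c27)) = (LP (LK LD1_c20 LD2_c53 LD3_c20)) :=
  Lgr Lrot139 (Lpr_df (f968926 IH) (Lpe (f968923 IH) (Lpe (f748114 IH) (Lpr_dt (K66.f781320 IH) (Lpe (f781326 IH) (Lpe (K71.f701154 IH) (Lpr_et (K71.f846777 IH) (Lpe (K71.f924118 IH) (Lpe (f913257 IH) (Lpr_dt (K72.f903915 IH) (Lpn (LP (LK LD1_c20 LD2_c53 LD3_c20)))))))))))))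
theorem f968929 : Led Lsl_gt (LP (LK LD1_c18 LD2_c21 LD3_c27)) = (LP (LK LD1_c20 LD2_c53 LD3_c20)) :=
  Leop (Lpe (f968928 IH) (Lpn (LP (LK LD1_c18 LD2_c21 LD3_c27))))
theorem seed_2954 : LEOK LG_g (LK LD1_c18 LD2_c21 LD3_c27) :=
  Leoe_g (LK LD1_c18 LD2_c21 LD3_c27) (f968929 IH)
def v49086 : LQ := Led Lsl_et (LP (LK LD1_c11 LD2_c39 LD3_c12))
theorem f968930 : Led Lsl_et (LP (LK LD1_c11 LD2_c39 LD3_c12)) = v49086 :=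
  Lrfl
theorem f968934 : Led Lsl_ef (LP (LK LD1_c11 LD2_c39 LD3_c12)) = v49086 :=
  Lgr Lrot88 (Lpr_et (f968930 IH) (Lpn v49086))
theorem f707305 : Led Lsl_gt (LP (LK LD1_c20 LD2_c38 LD3_c35)) = (LP (LK LD1_c11 LD2_c39 LD3_c9)) :=
  Lre_g IH (LK LD1_c20 LD2_c38 LD3_c35) (LK LD1_c11 LD2_c39 LD3_c9) Lrfl Lrfl
theorem f711115 : Led Lsl_gt (LP (LK LD1_c11 LD2_c39 LD3_c12)) = (LP (LK LD1_c20 LD2_c38 LD3_c35)) :=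
  Lgr Lrot5 (Lpe (K52.f711060 IH) (Lpr_at (K52.f711104 IH) (Lpe (f707305 IH) (Lpn (LP (LK LD1_c20 LD2_c38 LD3_c35))))))
theorem f643671 : Led Lsl_gt (LP (LK LD1_c17 LD2_c56 LD3_c21)) = (LP (LK LD1_c20 LD2_c43 LD3_c23)) :=
  Lgr Lrot46 (Lpe (K75.f643178 IH) (Lpr_ft (K55.f622956 IH) (Lpr_at (K55.f643667 IH) (Lpn (LP (LK LD1_c20 LD2_c43 LD3_c23))))))
theorem f581841 : Led Lsl_bf (LP (LK LD1_c17 LD2_c56 LD3_c21)) = (LP (LK LD1_c20 LD2_c22 LD3_c45)) :=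
  Lgr Lrot93 (Lpr_dt (K44.f581839 IH) (Lpr_bt (K52.f139289 IH) (Lpr_dt (K8.f117531 IH) (Lpn (LP (LK LD1_c20 LD2_c22 LD3_c45))))))
theorem f711123 : Led Lsl_ct (LP (LK LD1_c20 LD2_c22 LD3_c45)) = (LP (LK LD1_c20 LD2_c38 LD3_c35)) :=
  Lgr Lrot10 (Lpe (f581841 IH) (Lpr_gt (f643671 IH) (Lpr_ct (K55.f641939 IH) (Lpr_gt (K55.f641937 IH) (Lpe (K46.f442881 IH) (Lpe (K71.f641873 IH) (Lpr_gt (K52.f710995 IH) (Lpe (K52.f669693 IH) (Lpr_ct (K52.f669699 IH) (Lpr_gt (f711115 IH) (Lpn (LP (LK LD1_c20 LD2_c38 LD3_c35)))))))))))))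
theorem f160921 : Led Lsl_et (LP (LK LD1_c15 LD2_c4 LD3_c45)) = (LP (LK LD1_c20 LD2_c22 LD3_c45)) :=
  Lgr Lrot87 (Lpr_ef (K8.f160915 IH) (Lpn (LP (LK LD1_c20 LD2_c22 LD3_c45))))
theorem f711127 : Led Lsl_ef (LP (LK LD1_c11 LD2_c39 LD3_c27)) = (LP (LK LD1_c20 LD2_c38 LD3_c35)) :=
  Lgr Lrot28 (Lpe (K45.f581810 IH) (Lpr_et (f160921 IH) (Lpr_ct (f711123 IH) (Lpn (LP (LK LD1_c20 LD2_c38 LD3_c35))))))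
theorem f711131 : Led Lsl_et (LP (LK LD1_c11 LD2_c39 LD3_c27)) = (LP (LK LD1_c20 LD2_c38 LD3_c35)) :=
  Lgr Lrot87 (Lpr_ef (f711127 IH) (Lpn (LP (LK LD1_c20 LD2_c38 LD3_c35))))
theorem f509326 : Led Lsl_dt (LP (LK LD1_c6 LD2_c45 LD3_c8)) = (LP (LK LD1_c12 LD2_c54 LD3_c32)) :=
  Lre_d IH (LK LD1_c6 LD2_c45 LD3_c8) (LK LD1_c12 LD2_c54 LD3_c32) Lrfl Lrfl
theorem f509327 : Led Lsl_gt (LP (LK LD1_c12 LD2_c54 LD3_c32)) = (LP (LK LD1_c22 LD2_c4 LD3_c12)) :=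
  Lre_g IH (LK LD1_c12 LD2_c54 LD3_c32) (LK LD1_c22 LD2_c4 LD3_c12) Lrfl Lrfl
theorem f968937 : Led Lsl_df (LP (LK LD1_c22 LD2_c4 LD3_c12)) = v49086 :=
  Lgr Lrot132 (Lpe (f509327 IH) (Lpe (f509326 IH) (Lpe (K65.f509325 IH) (Lpe (K65.f562900 IH) (Lpr_dt (K37.f542331 IH) (Lpe (K44.f186019 IH) (Lpr_df (K44.f581776 IH) (Lpr_et (f711131 IH) (Lpe (f711115 IH) (Lpr_ef (f968934 IH) (Lpn v49086)))))))))))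
theorem f711072 : Led Lsl_af (LP (LK LD1_c20 LD2_c35 LD3_c25)) = (LP (LK LD1_c11 LD2_c39 LD3_c12)) :=
  Lgr Lrot0 (Lpr_at (K52.f711070 IH) (Lpn (LP (LK LD1_c11 LD2_c39 LD3_c12))))
theorem f652735 : Led Lsl_ct (LP (LK LD1_c6 LD2_c44 LD3_c57)) = (LP (LK LD1_c12 LD2_c54 LD3_c11)) :=
  Lre_c IH (LK LD1_c6 LD2_c44 LD3_c57) (LK LD1_c12 LD2_c54 LD3_c11) Lrfl Lrfl
theorem f748121 : Led Lsl_ef (LP (LK LD1_c20 LD2_c35 LD3_c25)) = (LP (LK LD1_c12 LD2_c54 LD3_c11)) :=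
  Lgr Lrot28 (Lpr_ct (K52.f116998 IH) (Lpr_et (K55.f652978 IH) (Lpqs (K55.f748094 IH) (Lpr_ct (f652735 IH) (Lpn (LP (LK LD1_c12 LD2_c54 LD3_c11)))))))
theorem f748124 : Led Lsl_et (LP (LK LD1_c20 LD2_c35 LD3_c25)) = (LP (LK LD1_c12 LD2_c54 LD3_c11)) :=
  Lgr Lrot87 (Lpr_ef (f748121 IH) (Lpn (LP (LK LD1_c12 LD2_c54 LD3_c11))))
theorem f968935 : Led Lsl_at (LP (LK LD1_c12 LD2_c54 LD3_c11)) = v49086 :=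
  Lgr Lrot80 (Lpe (f748124 IH) (Lpr_af (f711072 IH) (Lpr_ef (f968934 IH) (Lpn v49086))))
theorem f652850 : Led Lsl_dt (LP (LK LD1_c22 LD2_c3 LD3_c55)) = (LP (LK LD1_c12 LD2_c54 LD3_c11)) :=
  Lre_d IH (LK LD1_c22 LD2_c3 LD3_c55) (LK LD1_c12 LD2_c54 LD3_c11) Lrfl Lrfl
theorem f968938 : Led Lsl_at (LP (LK LD1_c22 LD2_c4 LD3_c12)) = (LP (LK LD1_c22 LD2_c3 LD3_c55)) :=
  Lgr Lrot51 (Lpr_df (f968937 IH) (Lpe (f968935 IH) (Lpe (f652850 IH) (Lpn (LP (LK LD1_c22 LD2_c3 LD3_c55))))))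
theorem f968939 : Led Lsl_at (LP (LK LD1_c22 LD2_c4 LD3_c12)) = (LP (LK LD1_c22 LD2_c3 LD3_c55)) :=
  Leop (Lpe (f968938 IH) (Lpn (LP (LK LD1_c22 LD2_c4 LD3_c12))))
theorem seed_2955 : LEOK LG_a (LK LD1_c22 LD2_c4 LD3_c12) :=
  Leoe_a (LK LD1_c22 LD2_c4 LD3_c12) (f968939 IH)
theorem f968941 : Led Lsl_et (LP (LK LD1_c22 LD2_c4 LD3_c12)) = (LP (LK LD1_c30 LD2_c17 LD3_c22)) :=
  Lre_e IH (LK LD1_c22 LD2_c4 LD3_c12) (LK LD1_c30 LD2_c17 LD3_c22) Lrfl Lrfl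
theorem f711075 : Led Lsl_dt (LP (LK LD1_c20 LD2_c38 LD3_c38)) = (LP (LK LD1_c11 LD2_c39 LD3_c12)) :=
  Lre_d IH (LK LD1_c20 LD2_c38 LD3_c38) (LK LD1_c11 LD2_c39 LD3_c12) Lrfl Lrfl
theorem f968933 : Led Lsl_et (LP (LK LD1_c29 LD2_c33 LD3_c9)) = (LP (LK LD1_c20 LD2_c38 LD3_c38)) :=
  Lre_e IH (LK LD1_c29 LD2_c33 LD3_c9) (LK LD1_c20 LD2_c38 LD3_c38) Lrfl Lrfl
theorem f968942 : Led Lsl_dt (LP (LK LD1_c30 LD2_c17 LD3_c22)) = (LP (LK LD1_c29 LD2_c33 LD3_c9)) :=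
  Lgr Lrot77 (Lpe (f968941 IH) (Lpr_df (f968937 IH) (Lpe (f968930 IH) (Lpe (f711075 IH) (Lpe (f968933 IH) (Lpn (LP (LK LD1_c29 LD2_c33 LD3_c9))))))))
theorem f968943 : Led Lsl_dt (LP (LK LD1_c30 LD2_c17 LD3_c22)) = (LP (LK LD1_c29 LD2_c33 LD3_c9)) :=
  Leop (Lpe (f968942 IH) (Lpn (LP (LK LD1_c30 LD2_c17 LD3_c22))))
theorem seed_2956 : LEOK LG_d (LK LD1_c30 LD2_c17 LD3_c22) :=
  Leoe_d (LK LD1_c30 LD2_c17 LD3_c22) (f968943 IH)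
theorem f968940 : Led Lsl_dt (LP (LK LD1_c22 LD2_c4 LD3_c12)) = v49086 :=
  Lgr Lrot42 (Lpr_df (f968937 IH) (Lpn v49086))
theorem f968931 : Led Lsl_af (LP (LK LD1_c12 LD2_c54 LD3_c11)) = v49086 :=
  Lgr Lrot50 (Lpe (f748121 IH) (Lpr_at (K52.f711070 IH) (Lpr_et (f968930 IH) (Lpn v49086))))
theorem f652851 : Led Lsl_dt (LP (LK LD1_c12 LD2_c54 LD3_c11)) = (LP (LK LD1_c22 LD2_c3 LD3_c55)) :=
  Lre_d IH (LK LD1_c12 LD2_c54 LD3_c11) (LK LD1_c22 LD2_c3 LD3_c55) Lrfl Lrfl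
theorem f968948 : Led Lsl_af (LP (LK LD1_c22 LD2_c4 LD3_c12)) = (LP (LK LD1_c22 LD2_c3 LD3_c55)) :=
  Lgr Lrot117 (Lpr_dt (f968940 IH) (Lpe (f968931 IH) (Lpr_dt (f652851 IH) (Lpn (LP (LK LD1_c22 LD2_c3 LD3_c55))))))
theorem f781437 : Led Lsl_gt (LP (LK LD1_c22 LD2_c4 LD3_c13)) = (LP (LK LD1_c12 LD2_c54 LD3_c32)) :=
  Lre_g IH (LK LD1_c22 LD2_c4 LD3_c13) (LK LD1_c12 LD2_c54 LD3_c32) Lrfl Lrfl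
theorem f968952 : Led Lsl_ft (LP (LK LD1_c22 LD2_c4 LD3_c13)) = (LP (LK LD1_c22 LD2_c3 LD3_c55)) :=
  Lgr Lrot2 (Lpr_gt (f781437 IH) (Lpr_gt (f509327 IH) (Lpr_af (f968948 IH) (Lpn (LP (LK LD1_c22 LD2_c3 LD3_c55))))))
theorem f968956 : Led Lsl_ff (LP (LK LD1_c22 LD2_c4 LD3_c13)) = (LP (LK LD1_c22 LD2_c3 LD3_c55)) :=
  Lgr Lrot3 (Lpr_ft (f968952 IH) (Lpn (LP (LK LD1_c22 LD2_c3 LD3_c55))))
theorem f414942 : Led Lsl_ct (LP (LK LD1_c17 LD2_c33 LD3_c10)) = (LP (LK LD1_c9 LD2_c31 LD3_c20)) :=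
  Lre_c IH (LK LD1_c17 LD2_c33 LD3_c10) (LK LD1_c9 LD2_c31 LD3_c20) Lrfl Lrfl
theorem f748101 : Led Lsl_ff (LP (LK LD1_c17 LD2_c33 LD3_c10)) = (LP (LK LD1_c12 LD2_c54 LD3_c11)) :=
  Lgr Lrot23 (Lpr_ct (f414942 IH) (Lpr_ft (K69.f652977 IH) (Lpqs (K55.f748094 IH) (Lpr_ct (f652735 IH) (Lpn (LP (LK LD1_c12 LD2_c54 LD3_c11)))))))
theorem f748104 : Led Lsl_ft (LP (LK LD1_c17 LD2_c33 LD3_c10)) = (LP (LK LD1_c12 LD2_c54 LD3_c11)) :=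
  Lgr Lrot48 (Lpr_ff (f748101 IH) (Lpn (LP (LK LD1_c12 LD2_c54 LD3_c11))))
theorem f968958 : Led Lsl_dt (LP (LK LD1_c22 LD2_c4 LD3_c13)) = (LP (LK LD1_c17 LD2_c33 LD3_c10)) :=
  Lgr Lrot60 (Lpr_ff (f968956 IH) (Lpe (f652851 IH) (Lpe (f748104 IH) (Lpn (LP (LK LD1_c17 LD2_c33 LD3_c10))))))
theorem f414943 : Led Lsl_ct (LP (LK LD1_c9 LD2_c31 LD3_c20)) = (LP (LK LD1_c17 LD2_c33 LD3_c10)) :=
  Lre_c IH (LK LD1_c9 LD2_c31 LD3_c20) (LK LD1_c17 LD2_c33 LD3_c10) Lrfl Lrfl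
theorem f652741 : Led Lsl_gf K66.v2157 = K65.v6323 :=
  Lgr Lrot47 (Lpe (K66.f509333 IH) (Lpr_af (K66.f509257 IH) (Lpr_ff (K65.f652730 IH) (Lpn K65.v6323))))
theorem f652934 : Led Lsl_ff (LP (LK LD1_c3 LD2_c20 LD3_c41)) = K65.v6348 :=
  Lgr Lrot3 (Lpr_ft (K65.f652932 IH) (Lpn K65.v6348))
theorem f652935 : Led Lsl_ct K66.v2158 = K65.v6348 :=
  Lgr Lrot40 (Lpe (K66.f509343 IH) (Lpe (K72.f414600 IH) (Lpr_ff (f652934 IH) (Lpn K65.v6348))))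
theorem f509361 : Led Lsl_at (LP (LK LD1_c1 LD2_c36 LD3_c41)) = (LP (LK LD1_c3 LD2_c20 LD3_c32)) :=
  Lre_a IH (LK LD1_c1 LD2_c36 LD3_c41) (LK LD1_c3 LD2_c20 LD3_c32) Lrfl Lrfl
theorem f509346 : Led Lsl_ft (LP (LK LD1_c1 LD2_c36 LD3_c41)) = (LP (LK LD1_c0 LD2_c44 LD3_c47)) :=
  Lre_f IH (LK LD1_c1 LD2_c36 LD3_c41) (LK LD1_c0 LD2_c44 LD3_c47) Lrfl Lrfl
theorem f509347 : Led Lsl_df (LP (LK LD1_c1 LD2_c36 LD3_c41)) = K66.v2158 :=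
  Lgr Lrot78 (Lpr_ft (f509346 IH) (Lpr_dt (K66.f206819 IH) (Lpr_ft (K66.f509343 IH) (Lpn K66.v2158))))
theorem f652722 : Led Lsl_af K66.v2158 = K65.v6323 :=
  Lgr Lrot117 (Lpe (f509347 IH) (Lpr_at (f509361 IH) (Lpr_dt (K65.f652721 IH) (Lpn K65.v6323))))
theorem f781443 : Led Lsl_cf K65.v6323 = K65.v19639 :=
  Lgr Lrot1 (Lpe (f652722 IH) (Lpr_ct (f652935 IH) (Lpr_at (K65.f781435 IH) (Lpn K65.v19639))))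
def v6347 : LQ := Led Lsl_at (LP (LK LD1_c3 LD2_c20 LD3_c41))
theorem f652923 : Led Lsl_at (LP (LK LD1_c3 LD2_c20 LD3_c41)) = v6347 :=
  Lrfl
theorem f652924 : Led Lsl_af (LP (LK LD1_c3 LD2_c20 LD3_c41)) = v6347 :=
  Lgr Lrot0 (Lpr_at (f652923 IH) (Lpn v6347))
theorem f781444 : Led Lsl_ff v6347 = K65.v19639 :=
  Lgr Lrot30 (Lpe (f652924 IH) (Lpr_ft (K65.f652932 IH) (Lpr_at (K65.f781435 IH) (Lpn K65.v19639))))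
theorem f414802 : Led Lsl_gt (LP (LK LD1_c6 LD2_c45 LD3_c9)) = (LP (LK LD1_c3 LD2_c20 LD3_c41)) :=
  Lre_g IH (LK LD1_c6 LD2_c45 LD3_c9) (LK LD1_c3 LD2_c20 LD3_c41) Lrfl Lrfl
theorem f781449 : Led Lsl_gf (LP (LK LD1_c6 LD2_c45 LD3_c9)) = K65.v19639 :=
  Lgr Lrot47 (Lpr_gt (f414802 IH) (Lpr_af (f652924 IH) (Lpr_ff (f781444 IH) (Lpn K65.v19639))))
theorem f509329 : Led Lsl_dt (LP (LK LD1_c6 LD2_c45 LD3_c9)) = (LP (LK LD1_c12 LD2_c54 LD3_c34)) :=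
  Lre_d IH (LK LD1_c6 LD2_c45 LD3_c9) (LK LD1_c12 LD2_c54 LD3_c34) Lrfl Lrfl
theorem f968963 : Led Lsl_gf (LP (LK LD1_c22 LD2_c4 LD3_c13)) = (LP (LK LD1_c12 LD2_c54 LD3_c34)) :=
  Lgr Lrot143 (Lpr_dt (f968958 IH) (Lpe (f414943 IH) (Lpe (K51.f622274 IH) (Lpe (K66.f846857 IH) (Lpe (K66.f672047 IH) (Lpr_gf (f652741 IH) (Lpr_cf (f781443 IH) (Lpe (f781449 IH) (Lpr_dt (f509329 IH) (Lpn (LP (LK LD1_c12 LD2_c54 LD3_c34))))))))))))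
theorem f968964 : Led Lsl_gt (LP (LK LD1_c12 LD2_c54 LD3_c34)) = (LP (LK LD1_c22 LD2_c4 LD3_c13)) :=
  Leop (Lpr_gf (f968963 IH) (Lpn (LP (LK LD1_c12 LD2_c54 LD3_c34))))
theorem seed_2957 : LEOK LG_g (LK LD1_c12 LD2_c54 LD3_c34) :=
  Leoe_g (LK LD1_c12 LD2_c54 LD3_c34) (f968964 IH)
def v49089 : LQ := Led Lsl_et (LP (LK LD1_c11 LD2_c39 LD3_c14))
theorem f968990 : Led Lsl_et (LP (LK LD1_c11 LD2_c39 LD3_c14)) = v49089 :=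
  Lrfl
theorem f968992 : Led Lsl_ef (LP (LK LD1_c11 LD2_c39 LD3_c14)) = v49089 :=
  Lgr Lrot88 (Lpr_et (f968990 IH) (Lpn v49089))
theorem f669581 : Led Lsl_ct (LP (LK LD1_c11 LD2_c39 LD3_c14)) = (LP (LK LD1_c20 LD2_c38 LD3_c42)) :=
  Lre_c IH (LK LD1_c11 LD2_c39 LD3_c14) (LK LD1_c20 LD2_c38 LD3_c42) Lrfl Lrfl
theorem f414957 : Led Lsl_bt (LP (LK LD1_c17 LD2_c34 LD3_c28)) = (LP (LK LD1_c9 LD2_c32 LD3_c15)) :=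
  Lre_b IH (LK LD1_c17 LD2_c34 LD3_c28) (LK LD1_c9 LD2_c32 LD3_c15) Lrfl Lrfl
theorem f744773 : Led Lsl_et (LP (LK LD1_c20 LD2_c38 LD3_c42)) = (LP (LK LD1_c17 LD2_c34 LD3_c28)) :=
  Lgr Lrot74 (Lpe (K52.f669579 IH) (Lpr_ef (K55.f744769 IH) (Lpe (f414957 IH) (Lpn (LP (LK LD1_c17 LD2_c34 LD3_c28))))))
theorem f968993 : Led Lsl_ct (LP (LK LD1_c17 LD2_c34 LD3_c28)) = v49089 :=
  Lgr Lrot15 (Lpe (f744773 IH) (Lpe (f669581 IH) (Lpr_ef (f968992 IH) (Lpn v49089))))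
theorem f744629 : Led Lsl_ff (LP (LK LD1_c17 LD2_c34 LD3_c28)) = (LP (LK LD1_c12 LD2_c57 LD3_c44)) :=
  Lgr Lrot25 (Lpr_bt (f414957 IH) (Lpr_ft (K55.f744627 IH) (Lpr_bt (K75.f710237 IH) (Lpn (LP (LK LD1_c12 LD2_c57 LD3_c44))))))
theorem f748137 : Led Lsl_cf (LP (LK LD1_c12 LD2_c57 LD3_c44)) = (LP (LK LD1_c12 LD2_c54 LD3_c12)) :=
  Lgr Lrot11 (Lpr_ct (K55.f748135 IH) (Lpn (LP (LK LD1_c12 LD2_c54 LD3_c12))))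
theorem f968994 : Led Lsl_ff (LP (LK LD1_c12 LD2_c54 LD3_c12)) = v49089 :=
  Lgr Lrot23 (Lpe (f748137 IH) (Lpe (f744629 IH) (Lpr_ct (f968993 IH) (Lpn v49089))))
theorem f968997 : Led Lsl_ft (LP (LK LD1_c12 LD2_c54 LD3_c12)) = v49089 :=
  Lgr Lrot48 (Lpr_ff (f968994 IH) (Lpn v49089))
theorem f968998 : Led Lsl_af (LP (LK LD1_c12 LD2_c54 LD3_c13)) = v49089 :=
  Lgr Lrot31 (Lpe (K60.f781335 IH) (Lpe (K55.f706654 IH) (Lpr_ft (f968997 IH) (Lpn v49089))))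
theorem f713297 : Led Lsl_ft (LP (LK LD1_c20 LD2_c38 LD3_c42)) = (LP (LK LD1_c16 LD2_c58 LD3_c32)) :=
  Lgr Lrot75 (Lpe (K52.f669579 IH) (Lpr_ff (K55.f713295 IH) (Lpe (K64.f621163 IH) (Lpn (LP (LK LD1_c16 LD2_c58 LD3_c32))))))
theorem f820586 : Led Lsl_ff (LP (LK LD1_c11 LD2_c39 LD3_c14)) = (LP (LK LD1_c20 LD2_c35 LD3_c26)) :=
  Lgr Lrot23 (Lpr_ct (f669581 IH) (Lpr_ft (f713297 IH) (Lpr_ct (K64.f820580 IH) (Lpn (LP (LK LD1_c20 LD2_c35 LD3_c26))))))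
theorem f117007 : Led Lsl_gt (LP (LK LD1_c11 LD2_c39 LD3_c16)) = (LP (LK LD1_c20 LD2_c35 LD3_c27)) :=
  Lre_g IH (LK LD1_c11 LD2_c39 LD3_c16) (LK LD1_c20 LD2_c35 LD3_c27) Lrfl Lrfl
theorem f820592 : Led Lsl_at (LP (LK LD1_c11 LD2_c39 LD3_c14)) = (LP (LK LD1_c20 LD2_c35 LD3_c27)) :=
  Lgr Lrot26 (Lpr_ff (f820586 IH) (Lpr_gt (K64.f616383 IH) (Lpr_gt (f117007 IH) (Lpn (LP (LK LD1_c20 LD2_c35 LD3_c27))))))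
theorem f820594 : Led Lsl_af (LP (LK LD1_c11 LD2_c39 LD3_c14)) = (LP (LK LD1_c20 LD2_c35 LD3_c27)) :=
  Lgr Lrot0 (Lpr_at (f820592 IH) (Lpn (LP (LK LD1_c20 LD2_c35 LD3_c27))))
theorem f969001 : Led Lsl_et (LP (LK LD1_c12 LD2_c54 LD3_c13)) = (LP (LK LD1_c20 LD2_c35 LD3_c27)) :=
  Lgr Lrot123 (Lpr_af (f968998 IH) (Lpe (f968990 IH) (Lpr_af (f820594 IH) (Lpn (LP (LK LD1_c20 LD2_c35 LD3_c27))))))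
theorem f969002 : Led Lsl_et (LP (LK LD1_c12 LD2_c54 LD3_c13)) = (LP (LK LD1_c20 LD2_c35 LD3_c27)) :=
  Leop (Lpe (f969001 IH) (Lpn (LP (LK LD1_c12 LD2_c54 LD3_c13))))
theorem seed_2958 : LEOK LG_e (LK LD1_c12 LD2_c54 LD3_c13) :=
  Leoe_e (LK LD1_c12 LD2_c54 LD3_c13) (f969002 IH)
def v49122 : LQ := Led Lsl_et (LP (LK LD1_c11 LD2_c40 LD3_c0))
theorem f969138 : Led Lsl_et (LP (LK LD1_c11 LD2_c40 LD3_c0)) = v49122 :=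
  Lrfl
theorem f969140 : Led Lsl_ef (LP (LK LD1_c11 LD2_c40 LD3_c0)) = v49122 :=
  Lgr Lrot88 (Lpr_et (f969138 IH) (Lpn v49122))
theorem f555900 : Led Lsl_at (LP (LK LD1_c2 LD2_c55 LD3_c60)) = (LP (LK LD1_c4 LD2_c35 LD3_c13)) :=
  Lgr Lrot66 (Lpr_ff (K39.f555898 IH) (Lpe (K40.f449319 IH) (Lpe (K40.f449292 IH) (Lpn (LP (LK LD1_c4 LD2_c35 LD3_c13))))))
theorem f559648 : Led Lsl_gf (LP (LK LD1_c4 LD2_c35 LD3_c13)) = (LP (LK LD1_c6 LD2_c7 LD3_c58)) :=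
  Lgr Lrot76 (Lpe (f555900 IH) (Lpr_ff (K39.f555898 IH) (Lpr_gt (K40.f559645 IH) (Lpn (LP (LK LD1_c6 LD2_c7 LD3_c58))))))
theorem f595010 : Led Lsl_gt (LP (LK LD1_c11 LD2_c58 LD3_c0)) = (LP (LK LD1_c6 LD2_c7 LD3_c57)) :=
  Lre_g IH (LK LD1_c11 LD2_c58 LD3_c0) (LK LD1_c6 LD2_c7 LD3_c57) Lrfl Lrfl
theorem f969142 : Led Lsl_df (LP (LK LD1_c11 LD2_c58 LD3_c0)) = v49122 :=
  Lgr Lrot170 (Lpr_gt (f595010 IH) (Lpe (K40.f559657 IH) (Lpr_et (K40.f559656 IH) (Lpe (f559648 IH) (Lpr_dt (K43.f418975 IH) (Lpqs (K37.f539242 IH) (Lpe (K37.f500709 IH) (Lpe (K36.f428344 IH) (Lpr_et (K69.f428332 IH) (Lpe (K65.f716111 IH) (Lpr_ef (f969140 IH) (Lpn v49122))))))))))))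
def v16305 : LQ := Led Lsl_et (LP (LK LD1_c5 LD2_c57 LD3_c23))
theorem f748363 : Led Lsl_et (LP (LK LD1_c5 LD2_c57 LD3_c23)) = v16305 :=
  Lrfl
theorem f969141 : Led Lsl_at v16305 = v49122 :=
  Lgr Lrot80 (Lpe (f748363 IH) (Lpe (K42.f446102 IH) (Lpr_ef (f969140 IH) (Lpn v49122))))
theorem f748366 : Led Lsl_ef (LP (LK LD1_c5 LD2_c57 LD3_c23)) = v16305 :=
  Lgr Lrot88 (Lpr_et (f748363 IH) (Lpn v16305))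
theorem f748368 : Led Lsl_dt (LP (LK LD1_c15 LD2_c26 LD3_c16)) = v16305 :=
  Lgr Lrot77 (Lpr_ef (K56.f642944 IH) (Lpe (K55.f642927 IH) (Lpe (K55.f642923 IH) (Lpe (K42.f23854 IH) (Lpr_ef (f748366 IH) (Lpn v16305))))))
theorem f969143 : Led Lsl_at (LP (LK LD1_c11 LD2_c58 LD3_c0)) = (LP (LK LD1_c15 LD2_c26 LD3_c16)) :=
  Lgr Lrot51 (Lpr_df (f969142 IH) (Lpe (f969141 IH) (Lpe (f748368 IH) (Lpn (LP (LK LD1_c15 LD2_c26 LD3_c16))))))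
theorem f969144 : Led Lsl_at (LP (LK LD1_c11 LD2_c58 LD3_c0)) = (LP (LK LD1_c15 LD2_c26 LD3_c16)) :=
  Leop (Lpe (f969143 IH) (Lpn (LP (LK LD1_c11 LD2_c58 LD3_c0))))
theorem seed_2959 : LEOK LG_a (LK LD1_c11 LD2_c58 LD3_c0) :=
  Leoe_a (LK LD1_c11 LD2_c58 LD3_c0) (f969144 IH)
theorem f969146 : Led Lsl_dt (LP (LK LD1_c11 LD2_c58 LD3_c0)) = v49122 :=
  Lgr Lrot42 (Lpr_df (f969142 IH) (Lpn v49122))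
theorem f969139 : Led Lsl_af v16305 = v49122 :=
  Lgr Lrot50 (Lpe (f748366 IH) (Lpr_at (K42.f446117 IH) (Lpr_et (f969138 IH) (Lpn v49122))))
theorem f748365 : Led Lsl_df (LP (LK LD1_c15 LD2_c26 LD3_c16)) = v16305 :=
  Lgr Lrot70 (Lpr_et (K56.f642941 IH) (Lpr_dt (K56.f642932 IH) (Lpe (K55.f642928 IH) (Lpe (K55.f23841 IH) (Lpr_et (f748363 IH) (Lpn v16305))))))
theorem f969147 : Led Lsl_af (LP (LK LD1_c11 LD2_c58 LD3_c0)) = (LP (LK LD1_c15 LD2_c26 LD3_c16)) :=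
  Lgr Lrot117 (Lpr_dt (f969146 IH) (Lpe (f969139 IH) (Lpe (f748365 IH) (Lpn (LP (LK LD1_c15 LD2_c26 LD3_c16))))))
theorem f904214 : Led Lsl_ft (LP (LK LD1_c16 LD2_c59 LD3_c43)) = (LP (LK LD1_c17 LD2_c9 LD3_c34)) :=
  Lgr Lrot48 (Lpr_ff (K69.f904210 IH) (Lpn (LP (LK LD1_c17 LD2_c9 LD3_c34))))
theorem f904216 : Led Lsl_af (LP (LK LD1_c11 LD2_c57 LD3_c57)) = (LP (LK LD1_c17 LD2_c9 LD3_c34)) :=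
  Lgr Lrot45 (Lpr_ft (K69.f904206 IH) (Lpe (K69.f904208 IH) (Lpr_ft (f904214 IH) (Lpn (LP (LK LD1_c17 LD2_c9 LD3_c34))))))
theorem f969149 : Led Lsl_bt (LP (LK LD1_c11 LD2_c58 LD3_c0)) = (LP (LK LD1_c17 LD2_c9 LD3_c34)) :=
  Lgr Lrot62 (Lpr_af (f969147 IH) (Lpe (K56.f641191 IH) (Lpe (K49.f645382 IH) (Lpe (K69.f183459 IH) (Lpr_af (f904216 IH) (Lpn (LP (LK LD1_c17 LD2_c9 LD3_c34))))))))
theorem f969145 : Led Lsl_ct (LP (LK LD1_c11 LD2_c58 LD3_c0)) = (LP (LK LD1_c21 LD2_c3 LD3_c4)) :=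
  Lre_c IH (LK LD1_c11 LD2_c58 LD3_c0) (LK LD1_c21 LD2_c3 LD3_c4) Lrfl Lrfl
def v4960 : LQ := Led Lsl_dt (LP (LK LD1_c2 LD2_c54 LD3_c2))
def v24768 : LQ := Led Lsl_gf v4960
theorem f825531 : Led Lsl_gf v4960 = v24768 :=
  Lrfl
theorem f641067 : Led Lsl_dt (LP (LK LD1_c2 LD2_c54 LD3_c2)) = v4960 :=
  Lrfl
theorem f641068 : Led Lsl_df (LP (LK LD1_c2 LD2_c54 LD3_c2)) = v4960 :=
  Lgr Lrot38 (Lpr_dt (f641067 IH) (Lpn v4960))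
theorem f180308 : Led Lsl_ct (LP (LK LD1_c2 LD2_c54 LD3_c2)) = (LP (LK LD1_c1 LD2_c22 LD3_c60)) :=
  Lre_c IH (LK LD1_c2 LD2_c54 LD3_c2) (LK LD1_c1 LD2_c22 LD3_c60) Lrfl Lrfl
theorem f825535 : Led Lsl_dt K71.v11855 = v24768 :=
  Lgr Lrot57 (Lpe (K73.f686179 IH) (Lpe (K73.f646021 IH) (Lpe (K17.f180302 IH) (Lpr_dt (K17.f166185 IH) (Lpr_gt (K17.f166184 IH) (Lpr_dt (K46.f22472 IH) (Lpe (f180308 IH) (Lpr_df (f641068 IH) (Lpr_gf (f825531 IH) (Lpn v24768))))))))))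
theorem f71545 : Led Lsl_et (LP (LK LD1_c2 LD2_c54 LD3_c2)) = (LP (LK LD1_c1 LD2_c22 LD3_c61)) :=
  Lre_e IH (LK LD1_c2 LD2_c54 LD3_c2) (LK LD1_c1 LD2_c22 LD3_c61) Lrfl Lrfl
theorem f249957 : Led Lsl_et (LP (LK LD1_c5 LD2_c3 LD3_c29)) = (LP (LK LD1_c9 LD2_c57 LD3_c57)) :=
  Lre_e IH (LK LD1_c5 LD2_c3 LD3_c29) (LK LD1_c9 LD2_c57 LD3_c57) Lrfl Lrfl
theorem f871531 : Led Lsl_gt (LP (LK LD1_c9 LD2_c57 LD3_c57)) = K71.v34537 :=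
  Lgr Lrot131 (Lpe (f249957 IH) (Lpe (K14.f249929 IH) (Lpr_gf (K14.f186771 IH) (Lpe (K14.f185398 IH) (Lpe (K14.f186767 IH) (Lpe (f71545 IH) (Lpr_dt (f641067 IH) (Lpr_gf (f825531 IH) (Lpe (f825535 IH) (Lpr_et (K71.f871527 IH) (Lpn K71.v34537)))))))))))
theorem f871530 : Led Lsl_ef K71.v11855 = K71.v34537 :=
  Lgr Lrot88 (Lpr_et (K71.f871527 IH) (Lpn K71.v34537))
theorem f686175 : Led Lsl_cf K35.v3912 = K71.v11855 :=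
  Lgr Lrot11 (Lpr_ct (K71.f686173 IH) (Lpn K71.v11855))
theorem f871533 : Led Lsl_ct K49.v11856 = K71.v34537 :=
  Lgr Lrot15 (Lpe (K49.f686180 IH) (Lpr_cf (f686175 IH) (Lpr_ef (f871530 IH) (Lpn K71.v34537))))
theorem f969153 : Led Lsl_gf (LP (LK LD1_c21 LD2_c3 LD3_c4)) = (LP (LK LD1_c18 LD2_c1 LD3_c36)) :=
  Lgr Lrot129 (Lpe (f969145 IH) (Lpr_bt (f969149 IH) (Lpr_gt (K69.f542720 IH) (Lpe (K36.f542722 IH) (Lpe (K71.f285250 IH) (Lpr_gt (f871531 IH) (Lpe (f871533 IH) (Lpr_bt (K66.f871512 IH) (Lpe (K66.f871510 IH) (Lpr_ct (K71.f921583 IH) (Lpn (LP (LK LD1_c18 LD2_c1 LD3_c36)))))))))))))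
theorem f969154 : Led Lsl_gt (LP (LK LD1_c18 LD2_c1 LD3_c36)) = (LP (LK LD1_c21 LD2_c3 LD3_c4)) :=
  Leop (Lpr_gf (f969153 IH) (Lpn (LP (LK LD1_c18 LD2_c1 LD3_c36))))
theorem seed_2960 : LEOK LG_g (LK LD1_c18 LD2_c1 LD3_c36) :=
  Leoe_g (LK LD1_c18 LD2_c1 LD3_c36) (f969154 IH)
def v49125 : LQ := Led Lsl_ft (LP (LK LD1_c11 LD2_c40 LD3_c1))
theorem f969171 : Led Lsl_ft (LP (LK LD1_c11 LD2_c40 LD3_c1)) = v49125 :=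
  Lrfl
theorem f642946 : Led Lsl_gt (LP (LK LD1_c11 LD2_c40 LD3_c1)) = (LP (LK LD1_c20 LD2_c40 LD3_c4)) :=
  Lre_g IH (LK LD1_c11 LD2_c40 LD3_c1) (LK LD1_c20 LD2_c40 LD3_c4) Lrfl Lrfl
theorem f969172 : Led Lsl_af (LP (LK LD1_c11 LD2_c42 LD3_c45)) = v49125 :=
  Lgr Lrot45 (Lpe (K70.f643062 IH) (Lpr_at (K70.f446120 IH) (Lpr_ft (f969171 IH) (Lpn v49125))))
theorem f969175 : Led Lsl_gt (LP (LK LD1_c20 LD2_c40 LD3_c4)) = (LP (LK LD1_c11 LD2_c42 LD3_c45)) :=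
  Lgr Lrot46 (Lpe (f642946 IH) (Lpr_ft (f969171 IH) (Lpe (f969172 IH) (Lpn (LP (LK LD1_c11 LD2_c42 LD3_c45))))))
theorem f969176 : Led Lsl_gt (LP (LK LD1_c20 LD2_c40 LD3_c4)) = (LP (LK LD1_c11 LD2_c42 LD3_c45)) :=
  Leop (Lpe (f969175 IH) (Lpn (LP (LK LD1_c20 LD2_c40 LD3_c4))))
theorem seed_2961 : LEOK LG_g (LK LD1_c20 LD2_c40 LD3_c4) :=
  Leoe_g (LK LD1_c20 LD2_c40 LD3_c4) (f969176 IH)
def v49138 : LQ := Led Lsl_et (LP (LK LD1_c11 LD2_c40 LD3_c6))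
theorem f969248 : Led Lsl_et (LP (LK LD1_c11 LD2_c40 LD3_c6)) = v49138 :=
  Lrfl
theorem f969250 : Led Lsl_ef (LP (LK LD1_c11 LD2_c40 LD3_c6)) = v49138 :=
  Lgr Lrot88 (Lpr_et (f969248 IH) (Lpn v49138))
theorem f599562 : Led Lsl_et (LP (LK LD1_c9 LD2_c10 LD3_c49)) = (LP (LK LD1_c17 LD2_c4 LD3_c5)) :=
  Lre_e IH (LK LD1_c9 LD2_c10 LD3_c49) (LK LD1_c17 LD2_c4 LD3_c5) Lrfl Lrfl
theorem f599549 : Led Lsl_dt (LP (LK LD1_c9 LD2_c10 LD3_c49)) = (LP (LK LD1_c4 LD2_c37 LD3_c35)) :=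
  Lre_d IH (LK LD1_c9 LD2_c10 LD3_c49) (LK LD1_c4 LD2_c37 LD3_c35) Lrfl Lrfl
theorem f781410 : Led Lsl_df (LP (LK LD1_c9 LD2_c9 LD3_c6)) = K60.v19636 :=
  Lgr Lrot38 (Lpr_dt (K60.f781407 IH) (Lpn K60.v19636))
theorem f781256 : Led Lsl_af (LP (LK LD1_c6 LD2_c45 LD3_c6)) = K60.v19614 :=
  Lgr Lrot117 (Lpr_dt (K69.f644819 IH) (Lpr_at (K51.f652918 IH) (Lpqs (K69.f706617 IH) (Lpr_dt (K60.f781255 IH) (Lpn K60.v19614)))))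
theorem f781268 : Led Lsl_ft (LP (LK LD1_c11 LD2_c39 LD3_c60)) = K60.v19614 :=
  Lgr Lrot48 (Lpr_ff (K69.f781258 IH) (Lpn K60.v19614))
theorem f781405 : Led Lsl_gt (LP (LK LD1_c11 LD2_c39 LD3_c60)) = K60.v19636 :=
  Lgr Lrot5 (Lpr_ft (f781268 IH) (Lpe (f781256 IH) (Lpr_gf (K60.f781404 IH) (Lpn K60.v19636))))
theorem f781192 : Led Lsl_dt (LP (LK LD1_c12 LD2_c53 LD3_c32)) = (LP (LK LD1_c11 LD2_c39 LD3_c60)) :=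
  Lgr Lrot42 (Lpr_df (K60.f781189 IH) (Lpn (LP (LK LD1_c11 LD2_c39 LD3_c60))))
theorem f902299 : Led Lsl_df (LP (LK LD1_c12 LD2_c3 LD3_c40)) = K69.v38454 :=
  Lgr Lrot70 (Lpr_et (K69.f73046 IH) (Lpe (K60.f706558 IH) (Lpr_et (K51.f706550 IH) (Lpr_dt (f781192 IH) (Lpr_et (K69.f902297 IH) (Lpn K69.v38454))))))
theorem f706772 : Led Lsl_gt (LP (LK LD1_c21 LD2_c9 LD3_c10)) = (LP (LK LD1_c12 LD2_c3 LD3_c40)) :=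
  Lre_g IH (LK LD1_c21 LD2_c9 LD3_c10) (LK LD1_c12 LD2_c3 LD3_c40) Lrfl Lrfl
theorem f969254 : Led Lsl_df (LP (LK LD1_c21 LD2_c9 LD3_c10)) = v49138 :=
  Lgr Lrot170 (Lpr_gt (f706772 IH) (Lpr_df (f902299 IH) (Lpe (K69.f902300 IH) (Lpr_gt (f781405 IH) (Lpe (f781410 IH) (Lpr_gt (K55.f641173 IH) (Lpq (K55.f642401 IH) (Lpe (f599549 IH) (Lpr_et (f599562 IH) (Lpe (K75.f897919 IH) (Lpr_ef (f969250 IH) (Lpn v49138))))))))))))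
def v47655 : LQ := Led Lsl_et (LP (LK LD1_c11 LD2_c21 LD3_c7))
theorem f959578 : Led Lsl_et (LP (LK LD1_c11 LD2_c21 LD3_c7)) = v47655 :=
  Lrfl
theorem f959580 : Led Lsl_ef (LP (LK LD1_c11 LD2_c21 LD3_c7)) = v47655 :=
  Lgr Lrot88 (Lpr_et (f959578 IH) (Lpn v47655))
theorem f969251 : Led Lsl_ff v47655 = v49138 :=
  Lgr Lrot72 (Lpe (f959580 IH) (Lpr_ft (K69.f897826 IH) (Lpe (K69.f897845 IH) (Lpe (K75.f897909 IH) (Lpr_et (f969248 IH) (Lpn v49138))))))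
def v15684 : LQ := Led Lsl_et (LP (LK LD1_c5 LD2_c45 LD3_c18))
theorem f740919 : Led Lsl_et (LP (LK LD1_c5 LD2_c45 LD3_c18)) = v15684 :=
  Lrfl
theorem f740920 : Led Lsl_ef (LP (LK LD1_c5 LD2_c45 LD3_c18)) = v15684 :=
  Lgr Lrot88 (Lpr_et (f740919 IH) (Lpn v15684))
theorem f959579 : Led Lsl_bf v15684 = v47655 :=
  Lgr Lrot96 (Lpe (f740920 IH) (Lpr_bt (K69.f740916 IH) (Lpr_et (f959578 IH) (Lpn v47655))))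
def v16319 : LQ := Led Lsl_et (LP (LK LD1_c5 LD2_c57 LD3_c29))
theorem f748436 : Led Lsl_et (LP (LK LD1_c5 LD2_c57 LD3_c29)) = v16319 :=
  Lrfl
theorem f748439 : Led Lsl_ff v15684 = v16319 :=
  Lgr Lrot72 (Lpe (f740920 IH) (Lpr_ft (K69.f740921 IH) (Lpr_et (K72.f748414 IH) (Lpe (K72.f748416 IH) (Lpr_et (f748436 IH) (Lpn v16319))))))
theorem f748440 : Led Lsl_ft v15684 = v16319 :=
  Lgr Lrot48 (Lpr_ff (f748439 IH) (Lpn v16319))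
theorem f969252 : Led Lsl_bt v16319 = v49138 :=
  Lgr Lrot35 (Lpe (f748440 IH) (Lpr_bf (f959579 IH) (Lpr_ff (f969251 IH) (Lpn v49138))))
theorem f748438 : Led Lsl_ef (LP (LK LD1_c5 LD2_c57 LD3_c29)) = v16319 :=
  Lgr Lrot88 (Lpr_et (f748436 IH) (Lpn v16319))
def v16318 : LQ := Led Lsl_dt (LP (LK LD1_c5 LD2_c57 LD3_c29))
theorem f748432 : Led Lsl_dt (LP (LK LD1_c5 LD2_c57 LD3_c29)) = v16318 :=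
  Lrfl
theorem f748433 : Led Lsl_df (LP (LK LD1_c5 LD2_c57 LD3_c29)) = v16318 :=
  Lgr Lrot38 (Lpr_dt (f748432 IH) (Lpn v16318))
theorem f71245 : Led Lsl_bt (LP (LK LD1_c2 LD2_c54 LD3_c4)) = (LP (LK LD1_c5 LD2_c55 LD3_c10)) :=
  Lre_b IH (LK LD1_c2 LD2_c54 LD3_c4) (LK LD1_c5 LD2_c55 LD3_c10) Lrfl Lrfl
theorem f71246 : Led Lsl_dt (LP (LK LD1_c4 LD2_c36 LD3_c36)) = (LP (LK LD1_c2 LD2_c54 LD3_c4)) :=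
  Lgr Lrot79 (Lpe (K72.f71244 IH) (Lpr_df (K11.f71233 IH) (Lpe (f71245 IH) (Lpn (LP (LK LD1_c2 LD2_c54 LD3_c4))))))
theorem f71781 : Led Lsl_df (LP (LK LD1_c2 LD2_c55 LD3_c0)) = (LP (LK LD1_c4 LD2_c35 LD3_c47)) :=
  Lgr Lrot18 (Lpe (K2.f71391 IH) (Lpr_dt (f71246 IH) (Lpr_at (K2.f71774 IH) (Lpn (LP (LK LD1_c4 LD2_c35 LD3_c47))))))
theorem f748434 : Led Lsl_ef (LP (LK LD1_c10 LD2_c2 LD3_c49)) = v16318 :=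
  Lgr Lrot17 (Lpe (K32.f180376 IH) (Lpe (K39.f180356 IH) (Lpr_dt (K10.f166251 IH) (Lpr_gf (K11.f198613 IH) (Lpe (K9.f22143 IH) (Lpr_gf (K14.f166408 IH) (Lpe (K2.f35171 IH) (Lpe (f71781 IH) (Lpe (K72.f82206 IH) (Lpr_df (f748433 IH) (Lpn v16318)))))))))))
theorem f748441 : Led Lsl_dt (LP (LK LD1_c12 LD2_c4 LD3_c1)) = v16319 :=
  Lgr Lrot77 (Lpr_ef (K32.f509801 IH) (Lpe (K72.f180377 IH) (Lpr_ef (f748434 IH) (Lpe (f748432 IH) (Lpr_ef (f748438 IH) (Lpn v16319))))))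
theorem f969255 : Led Lsl_bt (LP (LK LD1_c21 LD2_c9 LD3_c10)) = (LP (LK LD1_c12 LD2_c4 LD3_c1)) :=
  Lgr Lrot95 (Lpr_df (f969254 IH) (Lpe (f969252 IH) (Lpe (f748441 IH) (Lpn (LP (LK LD1_c12 LD2_c4 LD3_c1))))))
theorem f969256 : Led Lsl_bt (LP (LK LD1_c21 LD2_c9 LD3_c10)) = (LP (LK LD1_c12 LD2_c4 LD3_c1)) :=
  Leop (Lpe (f969255 IH) (Lpn (LP (LK LD1_c21 LD2_c9 LD3_c10))))
theorem seed_2962 : LEOK LG_b (LK LD1_c21 LD2_c9 LD3_c10) :=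
  Leoe_b (LK LD1_c21 LD2_c9 LD3_c10) (f969256 IH)
def v49139 : LQ := Led Lsl_dt (LP (LK LD1_c11 LD2_c40 LD3_c10))
theorem f969261 : Led Lsl_dt (LP (LK LD1_c11 LD2_c40 LD3_c10)) = v49139 :=
  Lrfl
theorem f500840 : Led Lsl_at (LP (LK LD1_c6 LD2_c1 LD3_c1)) = (LP (LK LD1_c2 LD2_c56 LD3_c46)) :=
  Lre_a IH (LK LD1_c6 LD2_c1 LD3_c1) (LK LD1_c2 LD2_c56 LD3_c46) Lrfl Lrfl
theorem f714034 : Led Lsl_ff (LP (LK LD1_c6 LD2_c1 LD3_c1)) = (LP (LK LD1_c11 LD2_c40 LD3_c10)) :=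
  Lgr Lrot30 (Lpr_at (f500840 IH) (Lpr_ft (K52.f641517 IH) (Lpr_at (K52.f714030 IH) (Lpn (LP (LK LD1_c11 LD2_c40 LD3_c10))))))
theorem f714036 : Led Lsl_ft (LP (LK LD1_c6 LD2_c1 LD3_c1)) = (LP (LK LD1_c11 LD2_c40 LD3_c10)) :=
  Lgr Lrot48 (Lpr_ff (f714034 IH) (Lpn (LP (LK LD1_c11 LD2_c40 LD3_c10))))
def v16454 : LQ := Led Lsl_dt (LP (LK LD1_c6 LD2_c1 LD3_c1))
theorem f749548 : Led Lsl_dt (LP (LK LD1_c6 LD2_c1 LD3_c1)) = v16454 :=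
  Lrfl
theorem f749550 : Led Lsl_df (LP (LK LD1_c6 LD2_c1 LD3_c1)) = v16454 :=
  Lgr Lrot38 (Lpr_dt (f749548 IH) (Lpn v16454))
theorem f969265 : Led Lsl_ff v16454 = v49139 :=
  Lgr Lrot19 (Lpe (f749550 IH) (Lpr_ft (f714036 IH) (Lpr_dt (f969261 IH) (Lpn v49139))))
theorem f500844 : Led Lsl_at (LP (LK LD1_c2 LD2_c56 LD3_c46)) = (LP (LK LD1_c6 LD2_c1 LD3_c1)) :=
  Lre_a IH (LK LD1_c2 LD2_c56 LD3_c46) (LK LD1_c6 LD2_c1 LD3_c1) Lrfl Lrfl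
theorem f140183 : Led Lsl_dt (LP (LK LD1_c6 LD2_c1 LD3_c3)) = (LP (LK LD1_c2 LD2_c56 LD3_c46)) :=
  Lre_d IH (LK LD1_c6 LD2_c1 LD3_c3) (LK LD1_c2 LD2_c56 LD3_c46) Lrfl Lrfl
theorem f749549 : Led Lsl_af (LP (LK LD1_c6 LD2_c1 LD3_c3)) = v16454 :=
  Lgr Lrot117 (Lpr_dt (f140183 IH) (Lpr_at (f500844 IH) (Lpr_dt (f749548 IH) (Lpn v16454))))
theorem f564038 : Led Lsl_bt (LP (LK LD1_c6 LD2_c1 LD3_c3)) = (LP (LK LD1_c2 LD2_c56 LD3_c48)) :=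
  Lre_b IH (LK LD1_c6 LD2_c1 LD3_c3) (LK LD1_c2 LD2_c56 LD3_c48) Lrfl Lrfl
theorem f384012 : Led Lsl_bt (LP (LK LD1_c5 LD2_c59 LD3_c33)) = (LP (LK LD1_c11 LD2_c43 LD3_c39)) :=
  Lre_b IH (LK LD1_c5 LD2_c59 LD3_c33) (LK LD1_c11 LD2_c43 LD3_c39) Lrfl Lrfl
theorem f719946 : Led Lsl_ff (LP (LK LD1_c6 LD2_c1 LD3_c3)) = (LP (LK LD1_c11 LD2_c43 LD3_c39)) :=
  Lgr Lrot25 (Lpr_bt (f564038 IH) (Lpr_ft (K56.f645113 IH) (Lpqs (K56.f719938 IH) (Lpr_bt (f384012 IH) (Lpn (LP (LK LD1_c11 LD2_c43 LD3_c39)))))))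
theorem f719998 : Led Lsl_ft (LP (LK LD1_c6 LD2_c1 LD3_c3)) = (LP (LK LD1_c11 LD2_c43 LD3_c39)) :=
  Lgr Lrot48 (Lpr_ff (f719946 IH) (Lpn (LP (LK LD1_c11 LD2_c43 LD3_c39))))
theorem f969266 : Led Lsl_at (LP (LK LD1_c11 LD2_c43 LD3_c39)) = v49139 :=
  Lgr Lrot66 (Lpe (f719998 IH) (Lpr_af (f749549 IH) (Lpr_ff (f969265 IH) (Lpn v49139))))
theorem f969270 : Led Lsl_gt (LP (LK LD1_c11 LD2_c46 LD3_c42)) = v49139 :=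
  Lgr Lrot46 (Lpe (K69.f641513 IH) (Lpr_ft (f719998 IH) (Lpr_at (f969266 IH) (Lpn v49139))))
theorem f747932 : Led Lsl_ft (LP (LK LD1_c6 LD2_c3 LD3_c14)) = (LP (LK LD1_c9 LD2_c13 LD3_c53)) :=
  Lgr Lrot54 (Lpr_df (K52.f710940 IH) (Lpr_ff (K56.f747928 IH) (Lpe (K52.f714219 IH) (Lpn (LP (LK LD1_c9 LD2_c13 LD3_c53))))))
theorem f714045 : Led Lsl_bf (LP (LK LD1_c6 LD2_c3 LD3_c14)) = (LP (LK LD1_c11 LD2_c46 LD3_c42)) :=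
  Lgr Lrot93 (Lpr_dt (K52.f710943 IH) (Lpr_bt (K71.f642336 IH) (Lpr_dt (K69.f714043 IH) (Lpn (LP (LK LD1_c11 LD2_c46 LD3_c42))))))
theorem f903477 : Led Lsl_ff (LP (LK LD1_c11 LD2_c46 LD3_c42)) = K69.v38644 :=
  Lgr Lrot25 (Lpe (f714045 IH) (Lpr_ft (f747932 IH) (Lpr_bt (K69.f903474 IH) (Lpn K69.v38644))))
theorem f903479 : Led Lsl_ft (LP (LK LD1_c11 LD2_c46 LD3_c42)) = K69.v38644 :=
  Lgr Lrot48 (Lpr_ff (f903477 IH) (Lpn K69.v38644))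
def v47313 : LQ := Led Lsl_et (LP (LK LD1_c11 LD2_c17 LD3_c31))
theorem f958001 : Led Lsl_et (LP (LK LD1_c11 LD2_c17 LD3_c31)) = v47313 :=
  Lrfl
theorem f958004 : Led Lsl_ef (LP (LK LD1_c11 LD2_c17 LD3_c31)) = v47313 :=
  Lgr Lrot88 (Lpr_et (f958001 IH) (Lpn v47313))
theorem f903478 : Led Lsl_et (LP (LK LD1_c11 LD2_c16 LD3_c11)) = K69.v38644 :=
  Lgr Lrot69 (Lpr_ff (K75.f902176 IH) (Lpe (K69.f542615 IH) (Lpr_ff (K69.f747718 IH) (Lpe (K69.f714049 IH) (Lpr_ff (f903477 IH) (Lpn K69.v38644))))))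
theorem f958005 : Led Lsl_at K69.v38644 = v47313 :=
  Lgr Lrot80 (Lpe (f903478 IH) (Lpe (K75.f902154 IH) (Lpr_ef (f958004 IH) (Lpn v47313))))
theorem f714010 : Led Lsl_gt (LP (LK LD1_c11 LD2_c46 LD3_c43)) = (LP (LK LD1_c6 LD2_c1 LD3_c3)) :=
  Lre_g IH (LK LD1_c11 LD2_c46 LD3_c43) (LK LD1_c6 LD2_c1 LD3_c3) Lrfl Lrfl
theorem f969268 : Led Lsl_gf (LP (LK LD1_c11 LD2_c46 LD3_c43)) = v49139 :=
  Lgr Lrot47 (Lpr_gt (f714010 IH) (Lpr_af (f749549 IH) (Lpr_ff (f969265 IH) (Lpn v49139))))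
theorem f969271 : v47313 = (LP (LK LD1_c11 LD2_c46 LD3_c43)) :=
  (Llr Lrot26 (Lpe (f958005 IH) (Lpe (f903479 IH) (Lpr_gt (f969270 IH) (Lpe (f969268 IH) (Lpn (LP (LK LD1_c11 LD2_c46 LD3_c43)))))))).symm
theorem f969272 : Led Lsl_et (LP (LK LD1_c11 LD2_c46 LD3_c43)) = (LP (LK LD1_c11 LD2_c17 LD3_c31)) :=
  Leop (Lpr_ef (f958004 IH) (Lpqs (f969271 IH) (Lpn (LP (LK LD1_c11 LD2_c46 LD3_c43)))))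
theorem seed_2963 : LEOK LG_e (LK LD1_c11 LD2_c46 LD3_c43) :=
  Leoe_e (LK LD1_c11 LD2_c46 LD3_c43) (f969272 IH)
def v49155 : LQ := Led Lsl_gf (LP (LK LD1_c11 LD2_c40 LD3_c24))
theorem f969358 : Led Lsl_gf (LP (LK LD1_c11 LD2_c40 LD3_c24)) = v49155 :=
  Lrfl
theorem f559279 : Led Lsl_et (LP (LK LD1_c20 LD2_c25 LD3_c52)) = (LP (LK LD1_c11 LD2_c28 LD3_c16)) :=
  Lre_e IH (LK LD1_c20 LD2_c25 LD3_c52) (LK LD1_c11 LD2_c28 LD3_c16) Lrfl Lrfl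
theorem f969362 : Led Lsl_dt (LP (LK LD1_c20 LD2_c25 LD3_c52)) = v49155 :=
  Lgr Lrot136 (Lpr_et (f559279 IH) (Lpe (K75.f559278 IH) (Lpe (K75.f450091 IH) (Lpr_dt (K41.f211018 IH) (Lpe (K40.f421032 IH) (Lpe (K40.f421034 IH) (Lpr_gf (K42.f559272 IH) (Lpe (K53.f75825 IH) (Lpe (K36.f539643 IH) (Lpr_gf (f969358 IH) (Lpn v49155)))))))))))
theorem f969363 : Led Lsl_df (LP (LK LD1_c20 LD2_c25 LD3_c52)) = v49155 :=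
  Lgr Lrot38 (Lpr_dt (f969362 IH) (Lpn v49155))
theorem f969359 : Led Lsl_gt (LP (LK LD1_c17 LD2_c58 LD3_c14)) = v49155 :=
  Lgr Lrot5 (Lpr_ft (K53.f699254 IH) (Lpe (K53.f539647 IH) (Lpr_gf (f969358 IH) (Lpn v49155))))
theorem f722108 : Led Lsl_dt (LP (LK LD1_c9 LD2_c48 LD3_c1)) = K55.v14351 :=
  Lgr Lrot60 (Lpr_ff (K53.f722074 IH) (Lpe (K75.f722084 IH) (Lpr_ff (K55.f722107 IH) (Lpn K55.v14351))))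
theorem f748879 : Led Lsl_et (LP (LK LD1_c5 LD2_c58 LD3_c3)) = K56.v16342 :=
  Lgr Lrot87 (Lpr_ef (K56.f748877 IH) (Lpn K56.v16342))
theorem f969364 : Led Lsl_gt (LP (LK LD1_c20 LD2_c25 LD3_c52)) = (LP (LK LD1_c20 LD2_c13 LD3_c58)) :=
  Lgr Lrot139 (Lpr_df (f969363 IH) (Lpe (f969359 IH) (Lpe (K53.f387277 IH) (Lpr_dt (f722108 IH) (Lpr_gf (K72.f748884 IH) (Lpe (K72.f748881 IH) (Lpr_et (f748879 IH) (Lpe (K56.f748880 IH) (Lpr_ef (K75.f937089 IH) (Lpr_dt (K75.f958059 IH) (Lpn (LP (LK LD1_c20 LD2_c13 LD3_c58)))))))))))))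
theorem f969365 : Led Lsl_gt (LP (LK LD1_c20 LD2_c25 LD3_c52)) = (LP (LK LD1_c20 LD2_c13 LD3_c58)) :=
  Leop (Lpe (f969364 IH) (Lpn (LP (LK LD1_c20 LD2_c25 LD3_c52))))
theorem seed_2964 : LEOK LG_g (LK LD1_c20 LD2_c25 LD3_c52) :=
  Leoe_g (LK LD1_c20 LD2_c25 LD3_c52) (f969365 IH)
def v49220 : LQ := Led Lsl_ft (LP (LK LD1_c11 LD2_c41 LD3_c28))
theorem f969750 : Led Lsl_ft (LP (LK LD1_c11 LD2_c41 LD3_c28)) = v49220 :=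
  Lrfl
theorem f969756 : Led Lsl_ff (LP (LK LD1_c11 LD2_c41 LD3_c28)) = v49220 :=
  Lgr Lrot3 (Lpr_ft (f969750 IH) (Lpn v49220))
theorem f641894 : Led Lsl_at (LP (LK LD1_c11 LD2_c41 LD3_c28)) = (LP (LK LD1_c5 LD2_c59 LD3_c3)) :=
  Lre_a IH (LK LD1_c11 LD2_c41 LD3_c28) (LK LD1_c5 LD2_c59 LD3_c3) Lrfl Lrfl
theorem f969759 : Led Lsl_gf (LP (LK LD1_c11 LD2_c42 LD3_c38)) = v49220 :=
  Lgr Lrot47 (Lpr_gt (K52.f105154 IH) (Lpe (f641894 IH) (Lpr_ff (f969756 IH) (Lpn v49220))))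
theorem f105158 : Led Lsl_ct (LP (LK LD1_c11 LD2_c42 LD3_c38)) = (LP (LK LD1_c20 LD2_c43 LD3_c7)) :=
  Lre_c IH (LK LD1_c11 LD2_c42 LD3_c38) (LK LD1_c20 LD2_c43 LD3_c7) Lrfl Lrfl
theorem f748248 : Led Lsl_ff (LP (LK LD1_c5 LD2_c58 LD3_c26)) = K55.v16300 :=
  Lgr Lrot23 (Lpr_ct (K55.f427381 IH) (Lpr_ft (K41.f641319 IH) (Lpqs (K55.f641743 IH) (Lpr_ct (K55.f748244 IH) (Lpn K55.v16300)))))
theorem f748283 : Led Lsl_ft (LP (LK LD1_c5 LD2_c58 LD3_c26)) = K55.v16300 :=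
  Lgr Lrot48 (Lpr_ff (f748248 IH) (Lpn K55.v16300))
theorem f969758 : Led Lsl_dt K55.v16300 = v49220 :=
  Lgr Lrot60 (Lpe (f748283 IH) (Lpe (K70.f428361 IH) (Lpr_ff (f969756 IH) (Lpn v49220))))
theorem f748251 : Led Lsl_gf (LP (LK LD1_c5 LD2_c59 LD3_c2)) = K55.v16300 :=
  Lgr Lrot129 (Lpe (K53.f642988 IH) (Lpr_bt (K53.f22541 IH) (Lpr_gt (K55.f22540 IH) (Lpe (K45.f22539 IH) (Lpe (K7.f22493 IH) (Lpr_gt (K0.f22520 IH) (Lpe (K35.f442869 IH) (Lpr_bt (K45.f442873 IH) (Lpr_gt (K42.f442879 IH) (Lpr_ct (K55.f748244 IH) (Lpn K55.v16300)))))))))))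
theorem f139220 : Led Lsl_dt (LP (LK LD1_c11 LD2_c58 LD3_c41)) = (LP (LK LD1_c6 LD2_c8 LD3_c35)) :=
  Lre_d IH (LK LD1_c11 LD2_c58 LD3_c41) (LK LD1_c6 LD2_c8 LD3_c35) Lrfl Lrfl
theorem f139246 : Led Lsl_ct (LP (LK LD1_c21 LD2_c3 LD3_c23)) = (LP (LK LD1_c11 LD2_c58 LD3_c41)) :=
  Lre_c IH (LK LD1_c21 LD2_c3 LD3_c23) (LK LD1_c11 LD2_c58 LD3_c41) Lrfl Lrfl
theorem f969761 : Led Lsl_gt (LP (LK LD1_c20 LD2_c43 LD3_c7)) = (LP (LK LD1_c21 LD2_c3 LD3_c23)) :=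
  Lgr Lrot150 (Lpe (f105158 IH) (Lpr_gf (f969759 IH) (Lpe (f969758 IH) (Lpe (f748251 IH) (Lpe (K55.f642996 IH) (Lpr_gt (K53.f719096 IH) (Lpr_ct (K55.f139153 IH) (Lpe (f139220 IH) (Lpe (f139246 IH) (Lpn (LP (LK LD1_c21 LD2_c3 LD3_c23))))))))))))
theorem f969762 : Led Lsl_gt (LP (LK LD1_c20 LD2_c43 LD3_c7)) = (LP (LK LD1_c21 LD2_c3 LD3_c23)) :=
  Leop (Lpe (f969761 IH) (Lpn (LP (LK LD1_c20 LD2_c43 LD3_c7))))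
theorem seed_2965 : LEOK LG_g (LK LD1_c20 LD2_c43 LD3_c7) :=
  Leoe_g (LK LD1_c20 LD2_c43 LD3_c7) (f969762 IH)
def v49230 : LQ := Led Lsl_dt (LP (LK LD1_c11 LD2_c41 LD3_c37))
theorem f969821 : Led Lsl_dt (LP (LK LD1_c11 LD2_c41 LD3_c37)) = v49230 :=
  Lrfl
def v15824 : LQ := Led Lsl_ft (LP (LK LD1_c5 LD2_c48 LD3_c20))
theorem f741888 : Led Lsl_ft (LP (LK LD1_c5 LD2_c48 LD3_c20)) = v15824 :=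
  Lrfl
theorem f741892 : Led Lsl_ff (LP (LK LD1_c5 LD2_c48 LD3_c20)) = v15824 :=
  Lgr Lrot3 (Lpr_ft (f741888 IH) (Lpn v15824))
theorem f741894 : Led Lsl_ct K55.v5087 = v15824 :=
  Lgr Lrot40 (Lpr_ff (K55.f739808 IH) (Lpr_cf (K53.f149159 IH) (Lpr_ff (f741892 IH) (Lpn v15824))))
theorem f130531 : Led Lsl_at (LP (LK LD1_c5 LD2_c48 LD3_c20)) = (LP (LK LD1_c9 LD2_c5 LD3_c55)) :=
  Lgr Lrot67 (Lpr_bf (K53.f130515 IH) (Lpe (K4.f102404 IH) (Lpe (K71.f94747 IH) (Lpe (K63.f102408 IH) (Lpe (K43.f130226 IH) (Lpn (LP (LK LD1_c9 LD2_c5 LD3_c55))))))))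
theorem f741896 : Led Lsl_gf K52.v4557 = v15824 :=
  Lgr Lrot47 (Lpe (K52.f715085 IH) (Lpe (f130531 IH) (Lpr_ff (f741892 IH) (Lpn v15824))))
def v41054 : LQ := Led Lsl_gf (LP (LK LD1_c9 LD2_c51 LD3_c2))
theorem f921758 : Led Lsl_gf (LP (LK LD1_c9 LD2_c51 LD3_c2)) = v41054 :=
  Lrfl
theorem f750450 : Led Lsl_bf (LP (LK LD1_c6 LD2_c2 LD3_c53)) = K69.v16563 :=
  Lgr Lrot24 (Lpr_bt (K69.f750449 IH) (Lpn K69.v16563))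
theorem f921759 : Led Lsl_ct K69.v16563 = v41054 :=
  Lgr Lrot64 (Lpe (f750450 IH) (Lpe (K69.f140807 IH) (Lpe (K53.f501107 IH) (Lpr_ct (K46.f415858 IH) (Lpe (K50.f140710 IH) (Lpe (K50.f505552 IH) (Lpr_gf (K46.f505548 IH) (Lpe (K51.f454875 IH) (Lpr_ct (K74.f454876 IH) (Lpr_gf (f921758 IH) (Lpn v41054)))))))))))
theorem f969826 : Led Lsl_gf K69.v16563 = v49230 :=
  Lgr Lrot179 (Lpr_ct (f921759 IH) (Lpe (f921758 IH) (Lpr_ct (K74.f505554 IH) (Lpr_dt (K51.f633841 IH) (Lpr_cf (K52.f636115 IH) (Lpr_gf (f741896 IH) (Lpe (f741894 IH) (Lpr_gf (K55.f739810 IH) (Lpr_dt (f969821 IH) (Lpn v49230))))))))))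
theorem f739849 : Led Lsl_ff (LP (LK LD1_c11 LD2_c41 LD3_c37)) = (LP (LK LD1_c6 LD2_c1 LD3_c17)) :=
  Lgr Lrot23 (Lpr_ct (K55.f739843 IH) (Lpr_ft (K53.f713845 IH) (Lpr_ct (K58.f645140 IH) (Lpn (LP (LK LD1_c6 LD2_c1 LD3_c17))))))
theorem f969825 : Led Lsl_ff (LP (LK LD1_c11 LD2_c47 LD3_c8)) = v49230 :=
  Lgr Lrot19 (Lpr_dt (K69.f714041 IH) (Lpe (f739849 IH) (Lpr_dt (f969821 IH) (Lpn v49230))))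
theorem f645128 : Led Lsl_gt (LP (LK LD1_c11 LD2_c47 LD3_c15)) = (LP (LK LD1_c6 LD2_c1 LD3_c19)) :=
  Lre_g IH (LK LD1_c11 LD2_c47 LD3_c15) (LK LD1_c6 LD2_c1 LD3_c19) Lrfl Lrfl
theorem f969827 : K69.v16563 = (LP (LK LD1_c11 LD2_c47 LD3_c15)) :=
  (Llr Lrot5 (Lpr_gf (f969826 IH) (Lpe (f969825 IH) (Lpr_at (K74.f645119 IH) (Lpe (f645128 IH) (Lpn (LP (LK LD1_c11 LD2_c47 LD3_c15)))))))).symm
theorem f969828 : Led Lsl_at (LP (LK LD1_c11 LD2_c47 LD3_c15)) = (LP (LK LD1_c20 LD2_c44 LD3_c40)) :=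
  Leop (Lpr_af (K69.f901018 IH) (Lpqs (f969827 IH) (Lpn (LP (LK LD1_c11 LD2_c47 LD3_c15)))))
theorem seed_2966 : LEOK LG_a (LK LD1_c11 LD2_c47 LD3_c15) :=
  Leoe_a (LK LD1_c11 LD2_c47 LD3_c15) (f969828 IH)
def v49238 : LQ := Led Lsl_ct (LP (LK LD1_c11 LD2_c41 LD3_c55))
theorem f969933 : Led Lsl_ct (LP (LK LD1_c11 LD2_c41 LD3_c55)) = v49238 :=
  Lrfl
theorem f642958 : Led Lsl_ct (LP (LK LD1_c16 LD2_c58 LD3_c37)) = (LP (LK LD1_c11 LD2_c41 LD3_c57)) :=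
  Lgr Lrot59 (Lpr_cf (K52.f642956 IH) (Lpn (LP (LK LD1_c11 LD2_c41 LD3_c57))))
theorem f600105 : Led Lsl_dt (LP (LK LD1_c26 LD2_c53 LD3_c36)) = (LP (LK LD1_c32 LD2_c17 LD3_c26)) :=
  Lre_d IH (LK LD1_c26 LD2_c53 LD3_c36) (LK LD1_c32 LD2_c17 LD3_c26) Lrfl Lrfl
theorem f600111 : Led Lsl_gt (LP (LK LD1_c32 LD2_c17 LD3_c26)) = (LP (LK LD1_c26 LD2_c54 LD3_c18)) :=
  Lre_g IH (LK LD1_c32 LD2_c17 LD3_c26) (LK LD1_c26 LD2_c54 LD3_c18) Lrfl Lrfl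
theorem f969936 : Led Lsl_dt (LP (LK LD1_c26 LD2_c54 LD3_c18)) = v49238 :=
  Lgr Lrot113 (Lpe (f600111 IH) (Lpe (f600105 IH) (Lpe (K52.f599825 IH) (Lpr_ct (f642958 IH) (Lpr_gt (K69.f425979 IH) (Lpr_dt (K52.f425974 IH) (Lpr_gt (K52.f425987 IH) (Lpr_dt (K66.f425988 IH) (Lpr_ct (f969933 IH) (Lpn v49238))))))))))
theorem f969935 : Led Lsl_cf (LP (LK LD1_c11 LD2_c41 LD3_c55)) = v49238 :=
  Lgr Lrot11 (Lpr_ct (f969933 IH) (Lpn v49238))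
theorem f643696 : Led Lsl_ct (LP (LK LD1_c16 LD2_c58 LD3_c15)) = (LP (LK LD1_c26 LD2_c53 LD3_c46)) :=
  Lre_c IH (LK LD1_c16 LD2_c58 LD3_c15) (LK LD1_c26 LD2_c53 LD3_c46) Lrfl Lrfl
theorem f643700 : Led Lsl_ct (LP (LK LD1_c26 LD2_c53 LD3_c46)) = (LP (LK LD1_c16 LD2_c58 LD3_c15)) :=
  Lre_c IH (LK LD1_c26 LD2_c53 LD3_c46) (LK LD1_c16 LD2_c58 LD3_c15) Lrfl Lrfl
theorem f716151 : Led Lsl_ct (LP (LK LD1_c22 LD2_c6 LD3_c54)) = (LP (LK LD1_c30 LD2_c18 LD3_c38)) :=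
  Lre_c IH (LK LD1_c22 LD2_c6 LD3_c54) (LK LD1_c30 LD2_c18 LD3_c38) Lrfl Lrfl
theorem f900716 : Led Lsl_af (LP (LK LD1_c26 LD2_c53 LD3_c46)) = (LP (LK LD1_c30 LD2_c18 LD3_c38)) :=
  Lgr Lrot68 (Lpr_ct (f643700 IH) (Lpr_at (K69.f900712 IH) (Lpr_ct (f716151 IH) (Lpn (LP (LK LD1_c30 LD2_c18 LD3_c38))))))
theorem f146543 : Led Lsl_dt (LP (LK LD1_c16 LD2_c58 LD3_c13)) = (LP (LK LD1_c9 LD2_c6 LD3_c23)) :=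
  Lre_d IH (LK LD1_c16 LD2_c58 LD3_c13) (LK LD1_c9 LD2_c6 LD3_c23) Lrfl Lrfl
theorem f744549 : Led Lsl_dt (LP (LK LD1_c16 LD2_c57 LD3_c61)) = (LP (LK LD1_c22 LD2_c6 LD3_c54)) :=
  Lgr Lrot42 (Lpr_df (K69.f744547 IH) (Lpn (LP (LK LD1_c22 LD2_c6 LD3_c54))))
theorem f901033 : Led Lsl_ff (LP (LK LD1_c16 LD2_c58 LD3_c13)) = (LP (LK LD1_c22 LD2_c6 LD3_c54)) :=
  Lgr Lrot19 (Lpr_dt (f146543 IH) (Lpr_ft (K69.f899845 IH) (Lpqs (K69.f900718 IH) (Lpr_dt (f744549 IH) (Lpn (LP (LK LD1_c22 LD2_c6 LD3_c54)))))))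
theorem f25385 : Led Lsl_ct (LP (LK LD1_c16 LD2_c58 LD3_c13)) = (LP (LK LD1_c26 LD2_c53 LD3_c44)) :=
  Lre_c IH (LK LD1_c16 LD2_c58 LD3_c13) (LK LD1_c26 LD2_c53 LD3_c44) Lrfl Lrfl
theorem f740522 : Led Lsl_ct (LP (LK LD1_c30 LD2_c18 LD3_c38)) = (LP (LK LD1_c22 LD2_c6 LD3_c54)) :=
  Lre_c IH (LK LD1_c30 LD2_c18 LD3_c38) (LK LD1_c22 LD2_c6 LD3_c54) Lrfl Lrfl
theorem f901037 : Led Lsl_ft (LP (LK LD1_c26 LD2_c53 LD3_c44)) = (LP (LK LD1_c30 LD2_c18 LD3_c38)) :=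
  Lgr Lrot4 (Lpe (f25385 IH) (Lpr_ff (f901033 IH) (Lpe (f740522 IH) (Lpn (LP (LK LD1_c30 LD2_c18 LD3_c38))))))
theorem f642983 : Led Lsl_dt (LP (LK LD1_c26 LD2_c53 LD3_c44)) = (LP (LK LD1_c32 LD2_c17 LD3_c32)) :=
  Lre_d IH (LK LD1_c26 LD2_c53 LD3_c44) (LK LD1_c32 LD2_c17 LD3_c32) Lrfl Lrfl
theorem f969938 : Led Lsl_cf (LP (LK LD1_c26 LD2_c54 LD3_c18)) = (LP (LK LD1_c32 LD2_c17 LD3_c32)) :=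
  Lgr Lrot118 (Lpr_dt (f969936 IH) (Lpe (f969935 IH) (Lpr_dt (K65.f594954 IH) (Lpr_ct (K52.f643691 IH) (Lpr_dt (K69.f643695 IH) (Lpr_ct (f643696 IH) (Lpr_af (f900716 IH) (Lpe (f901037 IH) (Lpr_dt (f642983 IH) (Lpn (LP (LK LD1_c32 LD2_c17 LD3_c32))))))))))))
theorem f969939 : Led Lsl_ct (LP (LK LD1_c32 LD2_c17 LD3_c32)) = (LP (LK LD1_c26 LD2_c54 LD3_c18)) :=
  Leop (Lpr_cf (f969938 IH) (Lpn (LP (LK LD1_c32 LD2_c17 LD3_c32))))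
theorem seed_2967 : LEOK LG_c (LK LD1_c32 LD2_c17 LD3_c32) :=
  Leoe_c (LK LD1_c32 LD2_c17 LD3_c32) (f969939 IH)
def v49248 : LQ := Led Lsl_et (LP (LK LD1_c11 LD2_c42 LD3_c10))
theorem f969979 : Led Lsl_et (LP (LK LD1_c11 LD2_c42 LD3_c10)) = v49248 :=
  Lrfl
theorem f969982 : Led Lsl_ef (LP (LK LD1_c11 LD2_c42 LD3_c10)) = v49248 :=
  Lgr Lrot88 (Lpr_et (f969979 IH) (Lpn v49248))
theorem f150264 : Led Lsl_et (LP (LK LD1_c4 LD2_c58 LD3_c42)) = (LP (LK LD1_c9 LD2_c47 LD3_c57)) :=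
  Lre_e IH (LK LD1_c4 LD2_c58 LD3_c42) (LK LD1_c9 LD2_c47 LD3_c57) Lrfl Lrfl
theorem f105005 : Led Lsl_et (LP (LK LD1_c9 LD2_c48 LD3_c51)) = (LP (LK LD1_c4 LD2_c59 LD3_c11)) :=
  Lre_e IH (LK LD1_c9 LD2_c48 LD3_c51) (LK LD1_c4 LD2_c59 LD3_c11) Lrfl Lrfl
theorem f105003 : Led Lsl_dt (LP (LK LD1_c9 LD2_c48 LD3_c51)) = (LP (LK LD1_c17 LD2_c59 LD3_c9)) :=
  Lre_d IH (LK LD1_c9 LD2_c48 LD3_c51) (LK LD1_c17 LD2_c59 LD3_c9) Lrfl Lrfl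
theorem f150263 : Led Lsl_gt (LP (LK LD1_c27 LD2_c42 LD3_c47)) = (LP (LK LD1_c17 LD2_c59 LD3_c9)) :=
  Lre_g IH (LK LD1_c27 LD2_c42 LD3_c47) (LK LD1_c17 LD2_c59 LD3_c9) Lrfl Lrfl
theorem f969985 : Led Lsl_df (LP (LK LD1_c27 LD2_c42 LD3_c47)) = v49248 :=
  Lgr Lrot170 (Lpr_gt (f150263 IH) (Lpe (f105003 IH) (Lpr_et (f105005 IH) (Lpr_gt (K8.f150255 IH) (Lpr_dt (K8.f26556 IH) (Lpe (K8.f150259 IH) (Lpr_df (K6.f139071 IH) (Lpr_et (f150264 IH) (Lpr_gt (K60.f747850 IH) (Lpr_ef (f969982 IH) (Lpn v49248)))))))))))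
theorem f747845 : Led Lsl_ft (LP (LK LD1_c9 LD2_c48 LD3_c31)) = (LP (LK LD1_c11 LD2_c42 LD3_c10)) :=
  Lgr Lrot48 (Lpr_ff (K60.f747835 IH) (Lpn (LP (LK LD1_c11 LD2_c42 LD3_c10))))
theorem f747856 : Led Lsl_af (LP (LK LD1_c9 LD2_c48 LD3_c30)) = (LP (LK LD1_c11 LD2_c42 LD3_c10)) :=
  Lgr Lrot31 (Lpe (K55.f94948 IH) (Lpe (K52.f75376 IH) (Lpr_ft (f747845 IH) (Lpn (LP (LK LD1_c11 LD2_c42 LD3_c10))))))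
theorem f94959 : Led Lsl_et (LP (LK LD1_c9 LD2_c48 LD3_c30)) = (LP (LK LD1_c17 LD2_c58 LD3_c43)) :=
  Lre_e IH (LK LD1_c9 LD2_c48 LD3_c30) (LK LD1_c17 LD2_c58 LD3_c43) Lrfl Lrfl
theorem f969983 : Led Lsl_at (LP (LK LD1_c17 LD2_c58 LD3_c43)) = v49248 :=
  Lgr Lrot80 (Lpe (f94959 IH) (Lpr_af (f747856 IH) (Lpr_ef (f969982 IH) (Lpn v49248))))
theorem f94945 : Led Lsl_df (LP (LK LD1_c9 LD2_c47 LD3_c52)) = (LP (LK LD1_c4 LD2_c59 LD3_c22)) :=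
  Lgr Lrot155 (Lpe (K28.f94943 IH) (Lpr_ct (K8.f74511 IH) (Lpr_gt (K8.f14139 IH) (Lpr_ct (K2.f14022 IH) (Lpr_dt (K37.f72652 IH) (Lpe (K6.f56893 IH) (Lpe (K6.f68993 IH) (Lpe (K6.f74382 IH) (Lpr_gf (K8.f94939 IH) (Lpn (LP (LK LD1_c4 LD2_c59 LD3_c22))))))))))))
theorem f75375 : Led Lsl_et (LP (LK LD1_c2 LD2_c27 LD3_c24)) = (LP (LK LD1_c4 LD2_c59 LD3_c2)) :=
  Lre_e IH (LK LD1_c2 LD2_c27 LD3_c24) (LK LD1_c4 LD2_c59 LD3_c2) Lrfl Lrfl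
theorem f94949 : Led Lsl_et (LP (LK LD1_c17 LD2_c58 LD3_c43)) = (LP (LK LD1_c9 LD2_c48 LD3_c30)) :=
  Lre_e IH (LK LD1_c17 LD2_c58 LD3_c43) (LK LD1_c9 LD2_c48 LD3_c30) Lrfl Lrfl
theorem f94951 : Led Lsl_dt (LP (LK LD1_c4 LD2_c59 LD3_c26)) = (LP (LK LD1_c9 LD2_c49 LD3_c18)) :=
  Lre_d IH (LK LD1_c4 LD2_c59 LD3_c26) (LK LD1_c9 LD2_c49 LD3_c18) Lrfl Lrfl
theorem f94952 : Led Lsl_gt (LP (LK LD1_c17 LD2_c59 LD3_c45)) = (LP (LK LD1_c9 LD2_c49 LD3_c18)) :=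
  Lre_g IH (LK LD1_c17 LD2_c59 LD3_c45) (LK LD1_c9 LD2_c49 LD3_c18) Lrfl Lrfl
theorem f94953 : Led Lsl_dt (LP (LK LD1_c17 LD2_c58 LD3_c43)) = (LP (LK LD1_c17 LD2_c59 LD3_c45)) :=
  Lgr Lrot136 (Lpr_et (f94949 IH) (Lpe (K55.f94948 IH) (Lpe (f75375 IH) (Lpr_dt (K8.f74506 IH) (Lpr_gf (K28.f94943 IH) (Lpr_df (f94945 IH) (Lpe (K6.f57074 IH) (Lpe (K42.f94950 IH) (Lpr_dt (f94951 IH) (Lpe (f94952 IH) (Lpn (LP (LK LD1_c17 LD2_c59 LD3_c45)))))))))))))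
theorem f94957 : Led Lsl_df (LP (LK LD1_c17 LD2_c58 LD3_c43)) = (LP (LK LD1_c17 LD2_c59 LD3_c45)) :=
  Lgr Lrot38 (Lpr_dt (f94953 IH) (Lpn (LP (LK LD1_c17 LD2_c59 LD3_c45))))
theorem f969986 : Led Lsl_at (LP (LK LD1_c27 LD2_c42 LD3_c47)) = (LP (LK LD1_c17 LD2_c59 LD3_c45)) :=
  Lgr Lrot51 (Lpr_df (f969985 IH) (Lpe (f969983 IH) (Lpr_df (f94957 IH) (Lpn (LP (LK LD1_c17 LD2_c59 LD3_c45))))))
theorem f969987 : Led Lsl_at (LP (LK LD1_c27 LD2_c42 LD3_c47)) = (LP (LK LD1_c17 LD2_c59 LD3_c45)) :=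
  Leop (Lpe (f969986 IH) (Lpn (LP (LK LD1_c27 LD2_c42 LD3_c47))))
theorem seed_2968 : LEOK LG_a (LK LD1_c27 LD2_c42 LD3_c47) :=
  Leoe_a (LK LD1_c27 LD2_c42 LD3_c47) (f969987 IH)
def v49253 : LQ := Led Lsl_gt (LP (LK LD1_c11 LD2_c42 LD3_c13))
theorem f970020 : Led Lsl_gt (LP (LK LD1_c11 LD2_c42 LD3_c13)) = v49253 :=
  Lrfl
theorem f425999 : Led Lsl_dt (LP (LK LD1_c5 LD2_c58 LD3_c54)) = (LP (LK LD1_c11 LD2_c42 LD3_c13)) :=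
  Lre_d IH (LK LD1_c5 LD2_c58 LD3_c54) (LK LD1_c11 LD2_c42 LD3_c13) Lrfl Lrfl
def v49152 : LQ := Led Lsl_dt (LP (LK LD1_c11 LD2_c40 LD3_c22))
theorem f969335 : Led Lsl_dt (LP (LK LD1_c11 LD2_c40 LD3_c22)) = v49152 :=
  Lrfl
theorem f969337 : Led Lsl_df (LP (LK LD1_c11 LD2_c40 LD3_c22)) = v49152 :=
  Lgr Lrot38 (Lpr_dt (f969335 IH) (Lpn v49152))
theorem f780972 : Led Lsl_df K56.v15666 = (LP (LK LD1_c12 LD2_c55 LD3_c0)) :=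
  Lgr Lrot38 (Lpr_dt (K75.f780970 IH) (Lpn (LP (LK LD1_c12 LD2_c55 LD3_c0))))
theorem f969338 : Led Lsl_ef (LP (LK LD1_c12 LD2_c55 LD3_c0)) = v49152 :=
  Lgr Lrot73 (Lpe (f780972 IH) (Lpqs (K56.f752186 IH) (Lpr_et (K75.f384052 IH) (Lpr_dt (K55.f738454 IH) (Lpe (K55.f738456 IH) (Lpr_dt (f969335 IH) (Lpn v49152)))))))
theorem f970022 : Led Lsl_dt (LP (LK LD1_c21 LD2_c38 LD3_c47)) = v49253 :=
  Lgr Lrot56 (Lpr_et (K57.f705297 IH) (Lpr_gt (K75.f780974 IH) (Lpr_ef (f969338 IH) (Lpe (f969337 IH) (Lpr_gt (K55.f748509 IH) (Lpe (K71.f426183 IH) (Lpr_et (K40.f425971 IH) (Lpr_gt (K52.f425998 IH) (Lpr_dt (f425999 IH) (Lpr_gt (f970020 IH) (Lpn v49253)))))))))))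
theorem f953458 : Led Lsl_dt (LP (LK LD1_c17 LD2_c32 LD3_c60)) = K74.v46416 :=
  Lgr Lrot42 (Lpr_df (K74.f953455 IH) (Lpn K74.v46416))
theorem f970025 : Led Lsl_ef (LP (LK LD1_c17 LD2_c32 LD3_c60)) = v49253 :=
  Lgr Lrot73 (Lpr_dt (f953458 IH) (Lpe (K74.f953453 IH) (Lpe (K75.f706010 IH) (Lpe (K52.f705382 IH) (Lpr_dt (f970022 IH) (Lpn v49253))))))
theorem f970029 : Led Lsl_et (LP (LK LD1_c17 LD2_c32 LD3_c60)) = v49253 :=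
  Lgr Lrot87 (Lpr_ef (f970025 IH) (Lpn v49253))
theorem f738068 : Led Lsl_dt (LP (LK LD1_c11 LD2_c14 LD3_c45)) = (LP (LK LD1_c20 LD2_c9 LD3_c47)) :=
  Lre_d IH (LK LD1_c11 LD2_c14 LD3_c45) (LK LD1_c20 LD2_c9 LD3_c47) Lrfl Lrfl
theorem f738087 : Led Lsl_at (LP (LK LD1_c20 LD2_c9 LD3_c41)) = (LP (LK LD1_c11 LD2_c14 LD3_c45)) :=
  Lre_a IH (LK LD1_c20 LD2_c9 LD3_c41) (LK LD1_c11 LD2_c14 LD3_c45) Lrfl Lrfl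
theorem f961440 : Led Lsl_dt K75.v47564 = (LP (LK LD1_c20 LD2_c9 LD3_c41)) :=
  Lgr Lrot44 (Lpr_af (K75.f961439 IH) (Lpe (f738068 IH) (Lpe (f738087 IH) (Lpn (LP (LK LD1_c20 LD2_c9 LD3_c41))))))
theorem f959256 : Led Lsl_et K75.v47564 = (LP (LK LD1_c20 LD2_c14 LD3_c57)) :=
  Lgr Lrot87 (Lpr_ef (K75.f959255 IH) (Lpn (LP (LK LD1_c20 LD2_c14 LD3_c57))))
theorem f414489 : Led Lsl_dt (LP (LK LD1_c4 LD2_c49 LD3_c12)) = (LP (LK LD1_c2 LD2_c22 LD3_c25)) :=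
  Lre_d IH (LK LD1_c4 LD2_c49 LD3_c12) (LK LD1_c2 LD2_c22 LD3_c25) Lrfl Lrfl
theorem f619012 : Led Lsl_et (LP (LK LD1_c4 LD2_c49 LD3_c12)) = (LP (LK LD1_c9 LD2_c31 LD3_c10)) :=
  Lre_e IH (LK LD1_c4 LD2_c49 LD3_c12) (LK LD1_c9 LD2_c31 LD3_c10) Lrfl Lrfl
theorem f961448 : Led Lsl_gt K74.v46416 = (LP (LK LD1_c20 LD2_c9 LD3_c41)) :=
  Lgr Lrot139 (Lpe (f953458 IH) (Lpe (K74.f9297 IH) (Lpe (f619012 IH) (Lpr_dt (f414489 IH) (Lpe (K2.f74601 IH) (Lpe (K57.f74587 IH) (Lpr_et (K75.f74671 IH) (Lpr_gf (K75.f619010 IH) (Lpe (f959256 IH) (Lpr_dt (f961440 IH) (Lpn (LP (LK LD1_c20 LD2_c9 LD3_c41)))))))))))))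
theorem f970030 : Led Lsl_gt (LP (LK LD1_c17 LD2_c12 LD3_c22)) = (LP (LK LD1_c20 LD2_c50 LD3_c9)) :=
  Lgr Lrot139 (Lpr_df (K57.f74663 IH) (Lpr_gf (K75.f619010 IH) (Lpe (f959256 IH) (Lpr_dt (f961440 IH) (Lpe (f961448 IH) (Lpe (f953458 IH) (Lpr_et (f970029 IH) (Lpe (f970020 IH) (Lpe (K69.f562590 IH) (Lpr_dt (K69.f562576 IH) (Lpn (LP (LK LD1_c20 LD2_c50 LD3_c9)))))))))))))
theorem f970031 : Led Lsl_gt (LP (LK LD1_c17 LD2_c12 LD3_c22)) = (LP (LK LD1_c20 LD2_c50 LD3_c9)) :=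
  Leop (Lpe (f970030 IH) (Lpn (LP (LK LD1_c17 LD2_c12 LD3_c22))))
theorem seed_2969 : LEOK LG_g (LK LD1_c17 LD2_c12 LD3_c22) :=
  Leoe_g (LK LD1_c17 LD2_c12 LD3_c22) (f970031 IH)
def v49352 : LQ := Led Lsl_gf (LP (LK LD1_c11 LD2_c43 LD3_c33))
theorem f970485 : Led Lsl_gf (LP (LK LD1_c11 LD2_c43 LD3_c33)) = v49352 :=
  Lrfl
theorem f414615 : Led Lsl_bt (LP (LK LD1_c12 LD2_c55 LD3_c31)) = (LP (LK LD1_c6 LD2_c45 LD3_c50)) :=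
  Lre_b IH (LK LD1_c12 LD2_c55 LD3_c31) (LK LD1_c6 LD2_c45 LD3_c50) Lrfl Lrfl
theorem f644133 : Led Lsl_bt (LP (LK LD1_c9 LD2_c13 LD3_c28)) = (LP (LK LD1_c17 LD2_c7 LD3_c50)) :=
  Lre_b IH (LK LD1_c9 LD2_c13 LD3_c28) (LK LD1_c17 LD2_c7 LD3_c50) Lrfl Lrfl
theorem f901069 : Led Lsl_ff (LP (LK LD1_c12 LD2_c55 LD3_c31)) = (LP (LK LD1_c17 LD2_c7 LD3_c50)) :=
  Lgr Lrot25 (Lpr_bt (f414615 IH) (Lpr_ft (K69.f781685 IH) (Lpq (K69.f901064 IH) (Lpr_bt (f644133 IH) (Lpn (LP (LK LD1_c17 LD2_c7 LD3_c50)))))))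
theorem f853402 : Led Lsl_ft (LP (LK LD1_c16 LD2_c58 LD3_c38)) = (LP (LK LD1_c26 LD2_c53 LD3_c32)) :=
  Lgr Lrot48 (Lpr_ff (K69.f853396 IH) (Lpn (LP (LK LD1_c26 LD2_c53 LD3_c32))))
theorem f640907 : Led Lsl_ct (LP (LK LD1_c26 LD2_c53 LD3_c32)) = (LP (LK LD1_c17 LD2_c1 LD3_c33)) :=
  Lgr Lrot59 (Lpr_cf (K41.f640904 IH) (Lpn (LP (LK LD1_c17 LD2_c1 LD3_c33))))
theorem f853404 : Led Lsl_ff (LP (LK LD1_c11 LD2_c41 LD3_c58)) = (LP (LK LD1_c17 LD2_c1 LD3_c33)) :=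
  Lgr Lrot23 (Lpr_ct (K52.f643686 IH) (Lpr_ft (f853402 IH) (Lpr_ct (f640907 IH) (Lpn (LP (LK LD1_c17 LD2_c1 LD3_c33))))))
theorem f901077 : Led Lsl_dt (LP (LK LD1_c12 LD2_c55 LD3_c31)) = (LP (LK LD1_c17 LD2_c1 LD3_c33)) :=
  Lgr Lrot60 (Lpr_ff (f901069 IH) (Lpr_df (K52.f644134 IH) (Lpr_ff (f853404 IH) (Lpn (LP (LK LD1_c17 LD2_c1 LD3_c33))))))
theorem f970486 : Led Lsl_et (LP (LK LD1_c12 LD2_c55 LD3_c31)) = v49352 :=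
  Lgr Lrot121 (Lpr_dt (f901077 IH) (Lpe (K42.f642532 IH) (Lpe (K42.f426011 IH) (Lpr_et (K45.f425986 IH) (Lpr_gf (K38.f426089 IH) (Lpe (K5.f117855 IH) (Lpr_dt (K5.f132365 IH) (Lpr_gf (K54.f738961 IH) (Lpe (K54.f75999 IH) (Lpr_gf (f970485 IH) (Lpn v49352)))))))))))
theorem f644136 : Led Lsl_et (LP (LK LD1_c9 LD2_c13 LD3_c25)) = (LP (LK LD1_c17 LD2_c7 LD3_c50)) :=
  Lre_e IH (LK LD1_c9 LD2_c13 LD3_c25) (LK LD1_c17 LD2_c7 LD3_c50) Lrfl Lrfl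
theorem f76155 : Led Lsl_et (LP (LK LD1_c11 LD2_c44 LD3_c43)) = (LP (LK LD1_c6 LD2_c0 LD3_c6)) :=
  Lre_e IH (LK LD1_c11 LD2_c44 LD3_c43) (LK LD1_c6 LD2_c0 LD3_c6) Lrfl Lrfl
theorem f970489 : Led Lsl_ff (LP (LK LD1_c11 LD2_c44 LD3_c43)) = v49352 :=
  Lgr Lrot72 (Lpr_et (f76155 IH) (Lpr_ft (K66.f749271 IH) (Lpq (K66.f853307 IH) (Lpr_et (f644136 IH) (Lpe (f901069 IH) (Lpr_et (f970486 IH) (Lpn v49352)))))))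
theorem f76009 : Led Lsl_gt (LP (LK LD1_c11 LD2_c43 LD3_c33)) = (LP (LK LD1_c20 LD2_c44 LD3_c41)) :=
  Lre_g IH (LK LD1_c11 LD2_c43 LD3_c33) (LK LD1_c20 LD2_c44 LD3_c41) Lrfl Lrfl
theorem f970492 : Led Lsl_at (LP (LK LD1_c11 LD2_c44 LD3_c43)) = (LP (LK LD1_c20 LD2_c44 LD3_c41)) :=
  Lgr Lrot26 (Lpr_ff (f970489 IH) (Lpe (f970485 IH) (Lpr_gt (f76009 IH) (Lpn (LP (LK LD1_c20 LD2_c44 LD3_c41))))))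
theorem f970493 : Led Lsl_at (LP (LK LD1_c11 LD2_c44 LD3_c43)) = (LP (LK LD1_c20 LD2_c44 LD3_c41)) :=
  Leop (Lpe (f970492 IH) (Lpn (LP (LK LD1_c11 LD2_c44 LD3_c43))))
theorem seed_2970 : LEOK LG_a (LK LD1_c11 LD2_c44 LD3_c43) :=
  Leoe_a (LK LD1_c11 LD2_c44 LD3_c43) (f970493 IH)
def v49354 : LQ := Led Lsl_gt (LP (LK LD1_c11 LD2_c43 LD3_c35))
theorem f970508 : Led Lsl_gt (LP (LK LD1_c11 LD2_c43 LD3_c35)) = v49354 :=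
  Lrfl
theorem f427393 : Led Lsl_gt (LP (LK LD1_c11 LD2_c41 LD3_c27)) = (LP (LK LD1_c5 LD2_c58 LD3_c26)) :=
  Lre_g IH (LK LD1_c11 LD2_c41 LD3_c27) (LK LD1_c5 LD2_c58 LD3_c26) Lrfl Lrfl
theorem f746261 : Led Lsl_et (LP (LK LD1_c20 LD2_c17 LD3_c16)) = (LP (LK LD1_c11 LD2_c41 LD3_c27)) :=
  Lgr Lrot87 (Lpr_ef (K55.f746259 IH) (Lpn (LP (LK LD1_c11 LD2_c41 LD3_c27))))
theorem f970512 : Led Lsl_dt (LP (LK LD1_c20 LD2_c17 LD3_c16)) = v49354 :=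
  Lgr Lrot56 (Lpr_et (f746261 IH) (Lpr_gt (f427393 IH) (Lpe (K55.f427452 IH) (Lpr_dt (K55.f426054 IH) (Lpr_gt (K55.f426055 IH) (Lpe (K28.f56980 IH) (Lpr_et (K51.f58871 IH) (Lpe (K55.f720168 IH) (Lpqs (K55.f719905 IH) (Lpr_dt (K55.f641376 IH) (Lpr_gt (f970508 IH) (Lpn v49354))))))))))))
theorem f746421 : Led Lsl_ct (LP (LK LD1_c17 LD2_c58 LD3_c36)) = (LP (LK LD1_c20 LD2_c17 LD3_c16)) :=
  Lgr Lrot59 (Lpr_cf (K56.f746417 IH) (Lpn (LP (LK LD1_c20 LD2_c17 LD3_c16))))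
theorem f643015 : Led Lsl_ft (LP (LK LD1_c20 LD2_c28 LD3_c8)) = (LP (LK LD1_c11 LD2_c31 LD3_c26)) :=
  Lre_f IH (LK LD1_c20 LD2_c28 LD3_c8) (LK LD1_c11 LD2_c31 LD3_c26) Lrfl Lrfl
theorem f746427 : Led Lsl_af (LP (LK LD1_c17 LD2_c58 LD3_c36)) = (LP (LK LD1_c11 LD2_c31 LD3_c26)) :=
  Lgr Lrot68 (Lpr_ct (f746421 IH) (Lpr_at (K55.f746107 IH) (Lpe (K53.f643002 IH) (Lpn (LP (LK LD1_c11 LD2_c31 LD3_c26))))))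
theorem f749488 : Led Lsl_gt (LP (LK LD1_c20 LD2_c25 LD3_c61)) = (LP (LK LD1_c17 LD2_c58 LD3_c36)) :=
  Lgr Lrot46 (Lpr_gf (K75.f749485 IH) (Lpr_ft (f643015 IH) (Lpe (f746427 IH) (Lpn (LP (LK LD1_c17 LD2_c58 LD3_c36))))))
theorem f641498 : Led Lsl_ct (LP (LK LD1_c6 LD2_c0 LD3_c54)) = (LP (LK LD1_c11 LD2_c46 LD3_c18)) :=
  Lre_c IH (LK LD1_c6 LD2_c0 LD3_c54) (LK LD1_c11 LD2_c46 LD3_c18) Lrfl Lrfl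
theorem f749477 : Led Lsl_gt (LP (LK LD1_c11 LD2_c46 LD3_c18)) = (LP (LK LD1_c20 LD2_c48 LD3_c3)) :=
  Lre_g IH (LK LD1_c11 LD2_c46 LD3_c18) (LK LD1_c20 LD2_c48 LD3_c3) Lrfl Lrfl
theorem f970515 : Led Lsl_ct (LP (LK LD1_c20 LD2_c48 LD3_c3)) = v49354 :=
  Lgr Lrot151 (Lpe (f749477 IH) (Lpe (f641498 IH) (Lpe (K56.f641489 IH) (Lpr_dt (K70.f749464 IH) (Lpe (K71.f749475 IH) (Lpr_ct (K71.f727536 IH) (Lpr_gt (f749488 IH) (Lpr_ct (f746421 IH) (Lpr_dt (f970512 IH) (Lpn v49354))))))))))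
theorem f970517 : Led Lsl_cf (LP (LK LD1_c20 LD2_c48 LD3_c3)) = v49354 :=
  Lgr Lrot11 (Lpr_ct (f970515 IH) (Lpn v49354))
theorem f140226 : Led Lsl_dt (LP (LK LD1_c6 LD2_c0 LD3_c57)) = (LP (LK LD1_c2 LD2_c56 LD3_c43)) :=
  Lre_d IH (LK LD1_c6 LD2_c0 LD3_c57) (LK LD1_c2 LD2_c56 LD3_c43) Lrfl Lrfl
theorem f564050 : Led Lsl_ct (LP (LK LD1_c11 LD2_c46 LD3_c24)) = (LP (LK LD1_c6 LD2_c0 LD3_c57)) :=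
  Lre_c IH (LK LD1_c11 LD2_c46 LD3_c24) (LK LD1_c6 LD2_c0 LD3_c57) Lrfl Lrfl
theorem f970519 : Led Lsl_gt (LP (LK LD1_c20 LD2_c48 LD3_c3)) = (LP (LK LD1_c11 LD2_c46 LD3_c24)) :=
  Lgr Lrot150 (Lpr_cf (f970517 IH) (Lpe (f970508 IH) (Lpe (K55.f641376 IH) (Lpr_gt (K56.f749141 IH) (Lpe (K66.f749146 IH) (Lpe (K56.f749385 IH) (Lpr_ct (K9.f140186 IH) (Lpe (f140226 IH) (Lpe (f564050 IH) (Lpn (LP (LK LD1_c11 LD2_c46 LD3_c24))))))))))))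
theorem f970520 : Led Lsl_gt (LP (LK LD1_c20 LD2_c48 LD3_c3)) = (LP (LK LD1_c11 LD2_c46 LD3_c24)) :=
  Leop (Lpe (f970519 IH) (Lpn (LP (LK LD1_c20 LD2_c48 LD3_c3))))
theorem seed_2971 : LEOK LG_g (LK LD1_c20 LD2_c48 LD3_c3) :=
  Leoe_g (LK LD1_c20 LD2_c48 LD3_c3) (f970520 IH)
def v49374 : LQ := Led Lsl_gf (LP (LK LD1_c11 LD2_c43 LD3_c53))
theorem f970648 : Led Lsl_gf (LP (LK LD1_c11 LD2_c43 LD3_c53)) = v49374 :=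
  Lrfl
theorem f76071 : Led Lsl_dt (LP (LK LD1_c5 LD2_c59 LD3_c39)) = (LP (LK LD1_c11 LD2_c43 LD3_c53)) :=
  Lre_d IH (LK LD1_c5 LD2_c59 LD3_c39) (LK LD1_c11 LD2_c43 LD3_c53) Lrfl Lrfl
theorem f502776 : Led Lsl_et (LP (LK LD1_c5 LD2_c59 LD3_c39)) = (LP (LK LD1_c11 LD2_c43 LD3_c54)) :=
  Lre_e IH (LK LD1_c5 LD2_c59 LD3_c39) (LK LD1_c11 LD2_c43 LD3_c54) Lrfl Lrfl
def v49140 : LQ := Led Lsl_et (LP (LK LD1_c11 LD2_c40 LD3_c10))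
theorem f969276 : Led Lsl_et (LP (LK LD1_c11 LD2_c40 LD3_c10)) = v49140 :=
  Lrfl
theorem f969264 : Led Lsl_df (LP (LK LD1_c11 LD2_c40 LD3_c10)) = v49139 :=
  Lgr Lrot38 (Lpr_dt (f969261 IH) (Lpn v49139))
def v47089 : LQ := Led Lsl_bt (LP (LK LD1_c11 LD2_c14 LD3_c33))
theorem f956831 : Led Lsl_bt (LP (LK LD1_c11 LD2_c14 LD3_c33)) = v47089 :=
  Lrfl
theorem f384000 : Led Lsl_bt (LP (LK LD1_c11 LD2_c43 LD3_c39)) = (LP (LK LD1_c5 LD2_c59 LD3_c33)) :=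
  Lre_b IH (LK LD1_c11 LD2_c43 LD3_c39) (LK LD1_c5 LD2_c59 LD3_c33) Lrfl Lrfl
theorem f956833 : Led Lsl_ef (LP (LK LD1_c11 LD2_c43 LD3_c39)) = v47089 :=
  Lgr Lrot29 (Lpr_bt (f384000 IH) (Lpr_et (K51.f383998 IH) (Lpr_bt (f956831 IH) (Lpn v47089))))
def v47243 : LQ := Led Lsl_gt (LP (LK LD1_c11 LD2_c16 LD3_c49))
theorem f957625 : Led Lsl_gt (LP (LK LD1_c11 LD2_c16 LD3_c49)) = v47243 :=
  Lrfl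
def v38902 : LQ := Led Lsl_et (LP (LK LD1_c9 LD2_c17 LD3_c17))
theorem f905243 : Led Lsl_et (LP (LK LD1_c9 LD2_c17 LD3_c17)) = v38902 :=
  Lrfl
theorem f68909 : Led Lsl_ft (LP (LK LD1_c4 LD2_c40 LD3_c53)) = (LP (LK LD1_c9 LD2_c17 LD3_c17)) :=
  Lre_f IH (LK LD1_c4 LD2_c40 LD3_c53) (LK LD1_c9 LD2_c17 LD3_c17) Lrfl Lrfl
theorem f905247 : Led Lsl_ff (LP (LK LD1_c11 LD2_c14 LD3_c55)) = v38902 :=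
  Lgr Lrot72 (Lpr_et (K36.f68865 IH) (Lpr_ft (K40.f68812 IH) (Lpr_et (K74.f68908 IH) (Lpr_ft (f68909 IH) (Lpr_et (f905243 IH) (Lpn v38902))))))
theorem f957629 : Led Lsl_af v38902 = K75.v47245 :=
  Lgr Lrot45 (Lpe (f905247 IH) (Lpe (K74.f561740 IH) (Lpr_ft (K75.f957628 IH) (Lpn K75.v47245))))
theorem f957634 : Led Lsl_gt v47243 = v38902 :=
  Lgr Lrot46 (Lpe (f957625 IH) (Lpr_ft (K75.f957628 IH) (Lpe (f957629 IH) (Lpn v38902))))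
theorem f905248 : Led Lsl_bt (LP (LK LD1_c9 LD2_c17 LD3_c30)) = v38902 :=
  Lgr Lrot35 (Lpe (K36.f68820 IH) (Lpe (K36.f68824 IH) (Lpr_ff (f905247 IH) (Lpn v38902))))
theorem f735936 : Led Lsl_bf (LP (LK LD1_c5 LD2_c37 LD3_c34)) = K54.v15370 :=
  Lgr Lrot24 (Lpr_bt (K54.f735935 IH) (Lpn K54.v15370))
theorem f735940 : Led Lsl_at (LP (LK LD1_c11 LD2_c11 LD3_c38)) = K54.v15370 :=
  Lgr Lrot26 (Lpr_ff (K74.f713878 IH) (Lpe (K52.f579226 IH) (Lpr_gt (K54.f735939 IH) (Lpn K54.v15370))))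
theorem f739619 : Led Lsl_bf (LP (LK LD1_c11 LD2_c11 LD3_c38)) = (LP (LK LD1_c11 LD2_c10 LD3_c53)) :=
  Lgr Lrot81 (Lpr_at (f735940 IH) (Lpe (f735936 IH) (Lpr_at (K51.f633782 IH) (Lpr_bt (K53.f225475 IH) (Lpr_at (K57.f739615 IH) (Lpn (LP (LK LD1_c11 LD2_c10 LD3_c53))))))))
theorem f955273 : Led Lsl_ct (LP (LK LD1_c20 LD2_c0 LD3_c26)) = (LP (LK LD1_c20 LD2_c6 LD3_c20)) :=
  Lgr Lrot59 (Lpr_cf (K74.f955271 IH) (Lpn (LP (LK LD1_c20 LD2_c6 LD3_c20))))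
theorem f957635 : Led Lsl_bf v47243 = (LP (LK LD1_c20 LD2_c0 LD3_c26)) :=
  Lgr Lrot156 (Lpr_gt (f957634 IH) (Lpe (f905248 IH) (Lpr_ct (K0.f9143 IH) (Lpr_gt (K57.f9195 IH) (Lpr_cf (K57.f739621 IH) (Lpe (f739619 IH) (Lpr_gt (K74.f579217 IH) (Lpr_ct (K43.f579211 IH) (Lpr_gt (K74.f713877 IH) (Lpe (f955273 IH) (Lpn (LP (LK LD1_c20 LD2_c0 LD3_c26)))))))))))))
theorem f956832 : Led Lsl_bf (LP (LK LD1_c11 LD2_c14 LD3_c33)) = v47089 :=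
  Lgr Lrot24 (Lpr_bt (f956831 IH) (Lpn v47089))
theorem f957636 : Led Lsl_at v47243 = v47089 :=
  Lgr Lrot67 (Lpr_bf (f957635 IH) (Lpe (K74.f720687 IH) (Lpe (K74.f719986 IH) (Lpr_af (K74.f719982 IH) (Lpr_bf (f956832 IH) (Lpn v47089))))))
theorem f969269 : Led Lsl_ef v47243 = v49139 :=
  Lgr Lrot20 (Lpr_at (f957636 IH) (Lpe (f956833 IH) (Lpr_at (f969266 IH) (Lpn v49139))))
theorem f969275 : Led Lsl_et v47243 = v49139 :=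
  Lgr Lrot87 (Lpr_ef (f969269 IH) (Lpn v49139))
theorem f956834 : Led Lsl_et (LP (LK LD1_c11 LD2_c43 LD3_c39)) = v47089 :=
  Lgr Lrot87 (Lpr_ef (f956833 IH) (Lpn v47089))
theorem f415635 : Led Lsl_dt (LP (LK LD1_c11 LD2_c43 LD3_c39)) = (LP (LK LD1_c5 LD2_c59 LD3_c31)) :=
  Lre_d IH (LK LD1_c11 LD2_c43 LD3_c39) (LK LD1_c5 LD2_c59 LD3_c31) Lrfl Lrfl
theorem f542144 : Led Lsl_df (LP (LK LD1_c5 LD2_c57 LD3_c52)) = (LP (LK LD1_c11 LD2_c16 LD3_c47)) :=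
  Lgr Lrot70 (Lpr_et (K51.f72601 IH) (Lpr_dt (K6.f72575 IH) (Lpr_et (K36.f500641 IH) (Lpqs (K36.f542139 IH) (Lpr_dt (K39.f381790 IH) (Lpr_et (K39.f381802 IH) (Lpn (LP (LK LD1_c11 LD2_c16 LD3_c47)))))))))
theorem f956835 : Led Lsl_gt (LP (LK LD1_c11 LD2_c14 LD3_c55)) = v47089 :=
  Lgr Lrot131 (Lpe (K74.f68882 IH) (Lpr_dt (K36.f68868 IH) (Lpr_gf (K40.f557479 IH) (Lpr_df (K40.f384171 IH) (Lpe (K40.f384182 IH) (Lpe (K39.f384184 IH) (Lpe (f542144 IH) (Lpe (K55.f706035 IH) (Lpe (f415635 IH) (Lpr_et (f956834 IH) (Lpn v47089)))))))))))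
theorem f957643 : Led Lsl_ff v47243 = K74.v47124 :=
  Lgr Lrot52 (Lpr_at (f957636 IH) (Lpe (f956835 IH) (Lpr_gf (K74.f956973 IH) (Lpn K74.v47124))))
theorem f957646 : Led Lsl_ft v47243 = K74.v47124 :=
  Lgr Lrot48 (Lpr_ff (f957643 IH) (Lpn K74.v47124))
theorem f956975 : Led Lsl_df (LP (LK LD1_c11 LD2_c57 LD3_c61)) = K74.v47124 :=
  Lgr Lrot38 (Lpr_dt (K74.f956974 IH) (Lpn K74.v47124))
theorem f581872 : Led Lsl_ft (LP (LK LD1_c11 LD2_c57 LD3_c61)) = (LP (LK LD1_c21 LD2_c3 LD3_c3)) :=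
  Lre_f IH (LK LD1_c11 LD2_c57 LD3_c61) (LK LD1_c21 LD2_c3 LD3_c3) Lrfl Lrfl
theorem f957648 : Led Lsl_df v47243 = (LP (LK LD1_c21 LD2_c3 LD3_c3)) :=
  Lgr Lrot78 (Lpr_ft (f957646 IH) (Lpe (f956975 IH) (Lpr_ft (f581872 IH) (Lpn (LP (LK LD1_c21 LD2_c3 LD3_c3))))))
def v47441 : LQ := Led Lsl_ft (LP (LK LD1_c11 LD2_c18 LD3_c60))
theorem f958717 : Led Lsl_ft (LP (LK LD1_c11 LD2_c18 LD3_c60)) = v47441 :=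
  Lrfl
theorem f581857 : Led Lsl_ef (LP (LK LD1_c10 LD2_c4 LD3_c48)) = (LP (LK LD1_c11 LD2_c18 LD3_c60)) :=
  Lgr Lrot28 (Lpr_ct (K64.f581851 IH) (Lpr_et (K56.f427734 IH) (Lpr_ct (K56.f427766 IH) (Lpn (LP (LK LD1_c11 LD2_c18 LD3_c60))))))
theorem f581873 : Led Lsl_et (LP (LK LD1_c10 LD2_c4 LD3_c48)) = (LP (LK LD1_c11 LD2_c18 LD3_c60)) :=
  Lgr Lrot87 (Lpr_ef (f581857 IH) (Lpn (LP (LK LD1_c11 LD2_c18 LD3_c60))))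
theorem f581859 : Led Lsl_ff (LP (LK LD1_c10 LD2_c4 LD3_c48)) = (LP (LK LD1_c6 LD2_c7 LD3_c56)) :=
  Lgr Lrot23 (Lpr_ct (K64.f581851 IH) (Lpr_ft (K36.f427748 IH) (Lpr_ct (K73.f56251 IH) (Lpn (LP (LK LD1_c6 LD2_c7 LD3_c56))))))
theorem f581864 : Led Lsl_ft (LP (LK LD1_c21 LD2_c3 LD3_c3)) = (LP (LK LD1_c11 LD2_c57 LD3_c61)) :=
  Lre_f IH (LK LD1_c21 LD2_c3 LD3_c3) (LK LD1_c11 LD2_c57 LD3_c61) Lrfl Lrfl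
theorem f958719 : Led Lsl_ef (LP (LK LD1_c21 LD2_c3 LD3_c3)) = v47441 :=
  Lgr Lrot21 (Lpr_ft (f581864 IH) (Lpr_et (K74.f539717 IH) (Lpe (f581859 IH) (Lpr_et (f581873 IH) (Lpr_ft (f958717 IH) (Lpn v47441))))))
theorem f969280 : Led Lsl_df v47441 = v49140 :=
  Lgr Lrot70 (Lpe (f958719 IH) (Lpe (f957648 IH) (Lpr_et (f969275 IH) (Lpe (f969264 IH) (Lpr_et (f969276 IH) (Lpn v49140))))))
theorem f738475 : Led Lsl_ff (LP (LK LD1_c5 LD2_c44 LD3_c27)) = K56.v15649 :=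
  Lgr Lrot3 (Lpr_ft (K56.f738472 IH) (Lpn K56.v15649))
theorem f958718 : Led Lsl_cf K56.v15649 = v47441 :=
  Lgr Lrot108 (Lpe (f738475 IH) (Lpr_ct (K56.f427766 IH) (Lpr_ft (f958717 IH) (Lpn v47441))))
theorem f738476 : Led Lsl_dt (LP (LK LD1_c5 LD2_c44 LD3_c28)) = K56.v15649 :=
  Lgr Lrot60 (Lpe (K75.f383655 IH) (Lpe (K55.f383750 IH) (Lpr_ff (f738475 IH) (Lpn K56.v15649))))
theorem f749614 : Led Lsl_cf K55.v16330 = K56.v16464 :=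
  Lgr Lrot14 (Lpe (K56.f748513 IH) (Lpe (K52.f426150 IH) (Lpe (K56.f426153 IH) (Lpe (K56.f749612 IH) (Lpr_ct (K66.f383751 IH) (Lpr_gt (K56.f738462 IH) (Lpr_dt (K56.f749610 IH) (Lpe (K56.f749603 IH) (Lpr_dt (K56.f749604 IH) (Lpn K56.v16464))))))))))
theorem f502774 : Led Lsl_df (LP (LK LD1_c11 LD2_c43 LD3_c54)) = (LP (LK LD1_c11 LD2_c40 LD3_c44)) :=
  Lgr Lrot38 (Lpr_dt (K32.f502772 IH) (Lpn (LP (LK LD1_c11 LD2_c40 LD3_c44))))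
theorem f969288 : Led Lsl_gt (LP (LK LD1_c11 LD2_c43 LD3_c54)) = v49140 :=
  Lgr Lrot49 (Lpr_df (f502774 IH) (Lpr_gf (K56.f748514 IH) (Lpr_cf (f749614 IH) (Lpe (K56.f749626 IH) (Lpr_dt (K56.f748799 IH) (Lpqs (K56.f749627 IH) (Lpr_gt (K56.f738364 IH) (Lpr_dt (f738476 IH) (Lpr_cf (f958718 IH) (Lpr_df (f969280 IH) (Lpn v49140)))))))))))
theorem f958720 : Led Lsl_ff (LP (LK LD1_c11 LD2_c18 LD3_c60)) = v47441 :=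
  Lgr Lrot3 (Lpr_ft (f958717 IH) (Lpn v47441))
theorem f581853 : Led Lsl_af (LP (LK LD1_c10 LD2_c4 LD3_c48)) = (LP (LK LD1_c6 LD2_c7 LD3_c51)) :=
  Lgr Lrot68 (Lpr_ct (K64.f581851 IH) (Lpr_at (K56.f427762 IH) (Lpr_ct (K72.f182027 IH) (Lpn (LP (LK LD1_c6 LD2_c7 LD3_c51))))))
theorem f752060 : Led Lsl_at (LP (LK LD1_c11 LD2_c18 LD3_c60)) = K75.v16858 :=
  Lgr Lrot80 (Lpe (f581873 IH) (Lpr_af (f581853 IH) (Lpr_ef (K75.f752059 IH) (Lpn K75.v16858))))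
theorem f958723 : Led Lsl_gf (LP (LK LD1_c11 LD2_c40 LD3_c21)) = v47441 :=
  Lgr Lrot47 (Lpe (K75.f825505 IH) (Lpe (f752060 IH) (Lpr_ff (f958720 IH) (Lpn v47441))))
def v16328 : LQ := Led Lsl_et (LP (LK LD1_c5 LD2_c57 LD3_c42))
theorem f748497 : Led Lsl_et (LP (LK LD1_c5 LD2_c57 LD3_c42)) = v16328 :=
  Lrfl
def v49035 : LQ := Led Lsl_et (LP (LK LD1_c11 LD2_c38 LD3_c25))
theorem f968674 : Led Lsl_et (LP (LK LD1_c11 LD2_c38 LD3_c25)) = v49035 :=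
  Lrfl
theorem f968677 : Led Lsl_ef (LP (LK LD1_c11 LD2_c38 LD3_c25)) = v49035 :=
  Lgr Lrot88 (Lpr_et (f968674 IH) (Lpn v49035))
theorem f705236 : Led Lsl_bt (LP (LK LD1_c4 LD2_c49 LD3_c4)) = (LP (LK LD1_c9 LD2_c30 LD3_c40)) :=
  Lre_b IH (LK LD1_c4 LD2_c49 LD3_c4) (LK LD1_c9 LD2_c30 LD3_c40) Lrfl Lrfl
theorem f716037 : Led Lsl_df (LP (LK LD1_c11 LD2_c16 LD3_c59)) = (LP (LK LD1_c9 LD2_c30 LD3_c40)) :=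
  Lgr Lrot12 (Lpr_bt (K57.f716033 IH) (Lpr_dt (K52.f75902 IH) (Lpr_bt (f705236 IH) (Lpn (LP (LK LD1_c9 LD2_c30 LD3_c40))))))
theorem f618028 : Led Lsl_dt (LP (LK LD1_c11 LD2_c40 LD3_c13)) = (LP (LK LD1_c11 LD2_c6 LD3_c32)) :=
  Lgr Lrot60 (Lpe (K50.f425894 IH) (Lpr_df (K51.f618024 IH) (Lpe (K27.f381261 IH) (Lpn (LP (LK LD1_c11 LD2_c6 LD3_c32))))))
theorem f710693 : Led Lsl_et K46.v5104 = K52.v13868 :=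
  Lgr Lrot87 (Lpr_ef (K52.f710678 IH) (Lpn K52.v13868))
theorem f705184 : Led Lsl_et (LP (LK LD1_c9 LD2_c30 LD3_c40)) = (LP (LK LD1_c4 LD2_c49 LD3_c1)) :=
  Lre_e IH (LK LD1_c9 LD2_c30 LD3_c40) (LK LD1_c4 LD2_c49 LD3_c1) Lrfl Lrfl
theorem f413857 : Led Lsl_gt (LP (LK LD1_c4 LD2_c49 LD3_c1)) = (LP (LK LD1_c9 LD2_c30 LD3_c37)) :=
  Lre_g IH (LK LD1_c4 LD2_c49 LD3_c1) (LK LD1_c9 LD2_c30 LD3_c37) Lrfl Lrfl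
theorem f716167 : K52.v13868 = (LP (LK LD1_c9 LD2_c30 LD3_c37)) :=
  (Llr Lrot122 (Lpe (f710693 IH) (Lpqs (K52.f713990 IH) (Lpe (K55.f714004 IH) (Lpr_gt (K55.f714020 IH) (Lpe (K54.f549463 IH) (Lpr_et (K54.f150341 IH) (Lpr_gt (K65.f496724 IH) (Lpr_dt (f618028 IH) (Lpe (K57.f381276 IH) (Lpr_df (f716037 IH) (Lpr_et (f705184 IH) (Lpr_gt (f413857 IH) (Lpn (LP (LK LD1_c9 LD2_c30 LD3_c37)))))))))))))))).symm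
def v39990 : LQ := Led Lsl_dt (LP (LK LD1_c9 LD2_c30 LD3_c37))
theorem f912569 : Led Lsl_dt (LP (LK LD1_c9 LD2_c30 LD3_c37)) = v39990 :=
  Lrfl
theorem f912573 : Led Lsl_ff K75.v16138 = v39990 :=
  Lgr Lrot19 (Lpe (K75.f746709 IH) (Lpe (K52.f707263 IH) (Lpqs (f716167 IH) (Lpr_dt (f912569 IH) (Lpn v39990)))))
def v4933 : LQ := Led Lsl_et (LP (LK LD1_c2 LD2_c52 LD3_c56))
theorem f640962 : Led Lsl_et (LP (LK LD1_c2 LD2_c52 LD3_c56)) = v4933 :=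
  Lrfl
theorem f640964 : Led Lsl_ef (LP (LK LD1_c2 LD2_c52 LD3_c56)) = v4933 :=
  Lgr Lrot88 (Lpr_et (f640962 IH) (Lpn v4933))
theorem f746707 : Led Lsl_af v4933 = K75.v16138 :=
  Lgr Lrot50 (Lpe (f640964 IH) (Lpr_at (K40.f449319 IH) (Lpr_et (K75.f746706 IH) (Lpn K75.v16138))))
def v24731 : LQ := Led Lsl_gf v4933
theorem f825359 : Led Lsl_gf v4933 = v24731 :=
  Lrfl
theorem f912578 : Led Lsl_gf v24731 = v39990 :=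
  Lgr Lrot47 (Lpe (f825359 IH) (Lpr_af (f746707 IH) (Lpr_ff (f912573 IH) (Lpn v39990))))
theorem f968680 : Led Lsl_df v24731 = v49035 :=
  Lgr Lrot168 (Lpr_gf (f912578 IH) (Lpe (f912569 IH) (Lpq (f716167 IH) (Lpe (K52.f710678 IH) (Lpqs (K52.f713990 IH) (Lpe (K52.f140179 IH) (Lpe (K65.f641515 IH) (Lpr_dt (K65.f749567 IH) (Lpe (K65.f749572 IH) (Lpe (K65.f721958 IH) (Lpe (K55.f618146 IH) (Lpr_ef (f968677 IH) (Lpn v49035)))))))))))))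
theorem f500638 : Led Lsl_ef (LP (LK LD1_c1 LD2_c23 LD3_c34)) = K36.v1665 :=
  Lgr Lrot88 (Lpr_et (K36.f500635 IH) (Lpn K36.v1665))
theorem f641268 : Led Lsl_df v4933 = K66.v4999 :=
  Lgr Lrot70 (Lpe (f640964 IH) (Lpr_dt (K36.f211076 IH) (Lpqs (K36.f537757 IH) (Lpe (f500638 IH) (Lpr_dt (K8.f26554 IH) (Lpr_et (K66.f641265 IH) (Lpn K66.v4999)))))))
theorem f641269 : Led Lsl_ef (LP (LK LD1_c2 LD2_c55 LD3_c14)) = K66.v4999 :=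
  Lgr Lrot88 (Lpr_et (K66.f641265 IH) (Lpn K66.v4999))
def v39963 : LQ := Led Lsl_et (LP (LK LD1_c9 LD2_c30 LD3_c7))
theorem f912338 : Led Lsl_et (LP (LK LD1_c9 LD2_c30 LD3_c7)) = v39963 :=
  Lrfl
theorem f968683 : Led Lsl_gt v39963 = v49035 :=
  Lgr Lrot137 (Lpe (f912338 IH) (Lpr_dt (K45.f452980 IH) (Lpe (K24.f56918 IH) (Lpe (K42.f559440 IH) (Lpr_et (K28.f56876 IH) (Lpr_gf (K28.f56889 IH) (Lpr_ef (f641269 IH) (Lpe (f641268 IH) (Lpr_gf (f825359 IH) (Lpr_df (f968680 IH) (Lpn v49035)))))))))))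
def v16920 : LQ := Led Lsl_et (LP (LK LD1_c6 LD2_c8 LD3_c43))
theorem f752461 : Led Lsl_et (LP (LK LD1_c6 LD2_c8 LD3_c43)) = v16920 :=
  Lrfl
theorem f968678 : Led Lsl_at v16920 = v49035 :=
  Lgr Lrot80 (Lpe (f752461 IH) (Lpr_af (K56.f752454 IH) (Lpq (K56.f752888 IH) (Lpr_ef (f968677 IH) (Lpn v49035)))))
def v40013 : LQ := Led Lsl_bt (LP (LK LD1_c9 LD2_c31 LD3_c1))
theorem f912766 : Led Lsl_bt (LP (LK LD1_c9 LD2_c31 LD3_c1)) = v40013 :=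
  Lrfl
theorem f752462 : Led Lsl_bf (LP (LK LD1_c6 LD2_c8 LD3_c46)) = v16920 :=
  Lgr Lrot96 (Lpr_et (K2.f75016 IH) (Lpr_bt (K55.f646354 IH) (Lpr_et (f752461 IH) (Lpn v16920))))
theorem f912769 : Led Lsl_ff v16920 = v40013 :=
  Lgr Lrot25 (Lpe (f752462 IH) (Lpr_ft (K62.f752880 IH) (Lpq (K62.f752961 IH) (Lpr_bt (f912766 IH) (Lpn v40013)))))
theorem f968684 : Led Lsl_gf v39963 = v40013 :=
  Lgr Lrot47 (Lpr_gt (f968683 IH) (Lpe (f968678 IH) (Lpr_ff (f912769 IH) (Lpn v40013))))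
def v16341 : LQ := Led Lsl_et (LP (LK LD1_c5 LD2_c57 LD3_c60))
theorem f748868 : Led Lsl_et (LP (LK LD1_c5 LD2_c57 LD3_c60)) = v16341 :=
  Lrfl
theorem f748871 : Led Lsl_ef (LP (LK LD1_c5 LD2_c57 LD3_c60)) = v16341 :=
  Lgr Lrot88 (Lpr_et (f748868 IH) (Lpn v16341))
theorem f912343 : Led Lsl_ff v16341 = v39963 :=
  Lgr Lrot72 (Lpe (f748871 IH) (Lpr_ft (K56.f644303 IH) (Lpr_et (K45.f559358 IH) (Lpe (K75.f643351 IH) (Lpr_et (f912338 IH) (Lpn v39963))))))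
theorem f748498 : Led Lsl_ef (LP (LK LD1_c5 LD2_c57 LD3_c42)) = v16328 :=
  Lgr Lrot88 (Lpr_et (f748497 IH) (Lpn v16328))
theorem f748869 : Led Lsl_af v16328 = v16341 :=
  Lgr Lrot50 (Lpe (f748498 IH) (Lpe (K66.f644317 IH) (Lpr_et (f748868 IH) (Lpn v16341))))
def v16424 : LQ := Led Lsl_et (LP (LK LD1_c6 LD2_c0 LD3_c18))
theorem f749283 : Led Lsl_et (LP (LK LD1_c6 LD2_c0 LD3_c18)) = v16424 :=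
  Lrfl
theorem f749286 : Led Lsl_ff v16328 = v16424 :=
  Lgr Lrot72 (Lpe (f748498 IH) (Lpe (K56.f644321 IH) (Lpe (K56.f643147 IH) (Lpe (K45.f643309 IH) (Lpr_et (f749283 IH) (Lpn v16424))))))
theorem f749287 : Led Lsl_ft v16328 = v16424 :=
  Lgr Lrot48 (Lpr_ff (f749286 IH) (Lpn v16424))
theorem f912344 : Led Lsl_at v16424 = v39963 :=
  Lgr Lrot66 (Lpe (f749287 IH) (Lpr_af (f748869 IH) (Lpr_ff (f912343 IH) (Lpn v39963))))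
theorem f968686 : Led Lsl_gt v16328 = v40013 :=
  Lgr Lrot5 (Lpr_ft (f749287 IH) (Lpr_at (f912344 IH) (Lpr_gf (f968684 IH) (Lpn v40013))))
def v49249 : LQ := Led Lsl_gf (LP (LK LD1_c11 LD2_c42 LD3_c11))
theorem f969991 : Led Lsl_gf (LP (LK LD1_c11 LD2_c42 LD3_c11)) = v49249 :=
  Lrfl
def v48244 : LQ := Led Lsl_gf (LP (LK LD1_c11 LD2_c28 LD3_c13))
theorem f964208 : Led Lsl_gf (LP (LK LD1_c11 LD2_c28 LD3_c13)) = v48244 :=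
  Lrfl
theorem f428363 : Led Lsl_gt (LP (LK LD1_c2 LD2_c55 LD3_c52)) = (LP (LK LD1_c5 LD2_c58 LD3_c53)) :=
  Lre_g IH (LK LD1_c2 LD2_c55 LD3_c52) (LK LD1_c5 LD2_c58 LD3_c53) Lrfl Lrfl
theorem f426184 : Led Lsl_et (LP (LK LD1_c11 LD2_c42 LD3_c11)) = (LP (LK LD1_c5 LD2_c58 LD3_c53)) :=
  Lre_e IH (LK LD1_c11 LD2_c42 LD3_c11) (LK LD1_c5 LD2_c58 LD3_c53) Lrfl Lrfl
theorem f964211 : Led Lsl_dt (LP (LK LD1_c11 LD2_c42 LD3_c11)) = v48244 :=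
  Lgr Lrot136 (Lpr_et (f426184 IH) (Lpe (f428363 IH) (Lpe (K24.f150388 IH) (Lpr_dt (K2.f72565 IH) (Lpe (K7.f56888 IH) (Lpe (K8.f22820 IH) (Lpr_gf (K36.f501880 IH) (Lpe (K37.f501891 IH) (Lpe (K42.f559308 IH) (Lpr_gf (f964208 IH) (Lpn v48244)))))))))))
def v24730 : LQ := Led Lsl_gt v4933
theorem f825358 : Led Lsl_gt v4933 = v24730 :=
  Lrfl
theorem f912342 : Led Lsl_ef (LP (LK LD1_c9 LD2_c30 LD3_c7)) = v39963 :=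
  Lgr Lrot88 (Lpr_et (f912338 IH) (Lpn v39963))
def v16387 : LQ := Led Lsl_et (LP (LK LD1_c5 LD2_c59 LD3_c8))
theorem f749087 : Led Lsl_et (LP (LK LD1_c5 LD2_c59 LD3_c8)) = v16387 :=
  Lrfl
theorem f912347 : Led Lsl_dt v16387 = v39963 :=
  Lgr Lrot77 (Lpe (f749087 IH) (Lpe (K24.f452973 IH) (Lpe (K50.f452979 IH) (Lpe (K45.f452980 IH) (Lpr_ef (f912342 IH) (Lpn v39963))))))
theorem f749088 : Led Lsl_ef (LP (LK LD1_c5 LD2_c59 LD3_c8)) = v16387 :=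
  Lgr Lrot88 (Lpr_et (f749087 IH) (Lpn v16387))
theorem f452859 : Led Lsl_et (LP (LK LD1_c1 LD2_c23 LD3_c57)) = (LP (LK LD1_c2 LD2_c55 LD3_c58)) :=
  Lre_e IH (LK LD1_c1 LD2_c23 LD3_c57) (LK LD1_c2 LD2_c55 LD3_c58) Lrfl Lrfl
def v39984 : LQ := Led Lsl_bt (LP (LK LD1_c9 LD2_c30 LD3_c34))
theorem f912520 : Led Lsl_bt (LP (LK LD1_c9 LD2_c30 LD3_c34)) = v39984 :=
  Lrfl
theorem f912522 : Led Lsl_df v16920 = v39984 :=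
  Lgr Lrot12 (Lpe (f752462 IH) (Lpr_dt (K2.f75017 IH) (Lpr_bt (f912520 IH) (Lpn v39984))))
theorem f912525 : Led Lsl_dt v16920 = v39984 :=
  Lgr Lrot42 (Lpr_df (f912522 IH) (Lpn v39984))
def v13855 : LQ := Led Lsl_bt (LP (LK LD1_c4 LD2_c49 LD3_c9))
theorem f705515 : Led Lsl_bt (LP (LK LD1_c4 LD2_c49 LD3_c9)) = v13855 :=
  Lrfl
theorem f705516 : Led Lsl_bf (LP (LK LD1_c4 LD2_c49 LD3_c9)) = v13855 :=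
  Lgr Lrot24 (Lpr_bt (f705515 IH) (Lpn v13855))
theorem f912523 : Led Lsl_ff v13855 = v39984 :=
  Lgr Lrot25 (Lpe (f705516 IH) (Lpr_ft (K62.f705524 IH) (Lpqs (K62.f752956 IH) (Lpr_bt (f912520 IH) (Lpn v39984)))))
theorem f912770 : Led Lsl_dt v13855 = v40013 :=
  Lgr Lrot60 (Lpr_ff (f912523 IH) (Lpe (f912525 IH) (Lpr_ff (f912769 IH) (Lpn v40013))))
theorem f968687 : v24730 = v13855 :=
  (Llr Lrot137 (Lpe (f825358 IH) (Lpe (f640962 IH) (Lpr_dt (K36.f211076 IH) (Lpq (K36.f539219 IH) (Lpe (K36.f452858 IH) (Lpe (K38.f383267 IH) (Lpr_et (f452859 IH) (Lpe (K24.f105167 IH) (Lpr_ef (f749088 IH) (Lpr_dt (f912347 IH) (Lpr_gf (f968684 IH) (Lpe (f912770 IH) (Lpn v13855)))))))))))))).symm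
theorem f912768 : Led Lsl_df v13855 = v40013 :=
  Lgr Lrot12 (Lpe (f705516 IH) (Lpr_dt (K70.f622200 IH) (Lpr_bt (f912766 IH) (Lpn v40013))))
theorem f969995 : Led Lsl_et v40013 = v49249 :=
  Lgr Lrot121 (Lpe (f912768 IH) (Lpq (f968687 IH) (Lpe (f825358 IH) (Lpr_df (f641268 IH) (Lpe (f641269 IH) (Lpr_gf (K36.f501880 IH) (Lpe (K37.f501891 IH) (Lpe (K42.f559308 IH) (Lpr_gf (f964208 IH) (Lpe (f964211 IH) (Lpr_gf (f969991 IH) (Lpn v49249))))))))))))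
theorem f969997 : Led Lsl_ef v40013 = v49249 :=
  Lgr Lrot88 (Lpr_et (f969995 IH) (Lpn v49249))
theorem f970652 : Led Lsl_dt v49249 = v49374 :=
  Lgr Lrot136 (Lpe (f969997 IH) (Lpe (f968686 IH) (Lpe (f748497 IH) (Lpr_dt (K56.f428127 IH) (Lpr_gf (f958723 IH) (Lpr_df (f969280 IH) (Lpe (f969288 IH) (Lpe (f502776 IH) (Lpr_dt (f76071 IH) (Lpr_gf (f970648 IH) (Lpn v49374)))))))))))
theorem f970654 : Led Lsl_df v49249 = v49374 :=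
  Lgr Lrot38 (Lpr_dt (f970652 IH) (Lpn v49374))
theorem f969996 : Led Lsl_bf (LP (LK LD1_c17 LD2_c32 LD3_c40)) = v49249 :=
  Lgr Lrot96 (Lpr_et (K56.f705522 IH) (Lpr_bt (f912766 IH) (Lpr_et (f969995 IH) (Lpn v49249))))
theorem f970655 : Led Lsl_bt (LP (LK LD1_c11 LD2_c44 LD3_c24)) = v49374 :=
  Lgr Lrot95 (Lpr_df (K56.f749193 IH) (Lpr_bf (f969996 IH) (Lpr_df (f970654 IH) (Lpn v49374))))
theorem f793666 : Led Lsl_ct (LP (LK LD1_c16 LD2_c26 LD3_c48)) = (LP (LK LD1_c11 LD2_c44 LD3_c24)) :=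
  Lgr Lrot7 (Lpe (K62.f35836 IH) (Lpr_gf (K62.f793664 IH) (Lpe (K62.f37075 IH) (Lpe (K57.f37074 IH) (Lpr_cf (K40.f558557 IH) (Lpe (K50.f644905 IH) (Lpe (K41.f507148 IH) (Lpr_gt (K41.f642135 IH) (Lpe (K56.f749193 IH) (Lpn (LP (LK LD1_c11 LD2_c44 LD3_c24))))))))))))
theorem f75846 : Led Lsl_dt (LP (LK LD1_c11 LD2_c43 LD3_c53)) = (LP (LK LD1_c5 LD2_c59 LD3_c39)) :=
  Lre_d IH (LK LD1_c11 LD2_c43 LD3_c53) (LK LD1_c5 LD2_c59 LD3_c39) Lrfl Lrfl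
theorem f501923 : Led Lsl_gt (LP (LK LD1_c5 LD2_c59 LD3_c39)) = (LP (LK LD1_c11 LD2_c43 LD3_c45)) :=
  Lre_g IH (LK LD1_c5 LD2_c59 LD3_c39) (LK LD1_c11 LD2_c43 LD3_c45) Lrfl Lrfl
theorem f669323 : Led Lsl_df (LP (LK LD1_c20 LD2_c25 LD3_c19)) = (LP (LK LD1_c27 LD2_c41 LD3_c58)) :=
  Lgr Lrot38 (Lpr_dt (K53.f669317 IH) (Lpn (LP (LK LD1_c27 LD2_c41 LD3_c58))))
def v48151 : LQ := Led Lsl_gf (LP (LK LD1_c11 LD2_c27 LD3_c6))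
theorem f963478 : Led Lsl_gf (LP (LK LD1_c11 LD2_c27 LD3_c6)) = v48151 :=
  Lrfl
theorem f970651 : Led Lsl_cf v48151 = v49374 :=
  Lgr Lrot166 (Lpe (f963478 IH) (Lpr_dt (K55.f623211 IH) (Lpe (K55.f719282 IH) (Lpe (f669323 IH) (Lpr_ct (K48.f669311 IH) (Lpe (K48.f559314 IH) (Lpe (f501923 IH) (Lpe (f75846 IH) (Lpr_gf (f970648 IH) (Lpn v49374))))))))))
theorem f970656 : Led Lsl_bf (LP (LK LD1_c14 LD2_c59 LD3_c42)) = v48151 :=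
  Lgr Lrot90 (Lpe (K37.f443145 IH) (Lpr_bt (K75.f35849 IH) (Lpr_ct (f793666 IH) (Lpr_bt (f970655 IH) (Lpe (f970651 IH) (Lpn v48151))))))
theorem f970657 : Led Lsl_bt (LP (LK LD1_c14 LD2_c59 LD3_c42)) = v48151 :=
  Lgr Lrot127 (Lpr_bf (f970656 IH) (Lpn v48151))
theorem f443823 : Led Lsl_bt (LP (LK LD1_c12 LD2_c21 LD3_c55)) = (LP (LK LD1_c21 LD2_c28 LD3_c36)) :=
  Lre_b IH (LK LD1_c12 LD2_c21 LD3_c55) (LK LD1_c21 LD2_c28 LD3_c36) Lrfl Lrfl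
theorem f623195 : Led Lsl_ct (LP (LK LD1_c20 LD2_c25 LD3_c2)) = (LP (LK LD1_c11 LD2_c27 LD3_c4)) :=
  Lre_c IH (LK LD1_c20 LD2_c25 LD3_c2) (LK LD1_c11 LD2_c27 LD3_c4) Lrfl Lrfl
theorem f623198 : Led Lsl_bt (LP (LK LD1_c20 LD2_c25 LD3_c2)) = (LP (LK LD1_c29 LD2_c26 LD3_c58)) :=
  Lre_b IH (LK LD1_c20 LD2_c25 LD3_c2) (LK LD1_c29 LD2_c26 LD3_c58) Lrfl Lrfl
theorem f970660 : Led Lsl_gf (LP (LK LD1_c21 LD2_c28 LD3_c36)) = (LP (LK LD1_c29 LD2_c26 LD3_c58)) :=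
  Lgr Lrot124 (Lpe (f443823 IH) (Lpe (K37.f444839 IH) (Lpr_gt (K40.f445106 IH) (Lpr_cf (K37.f443145 IH) (Lpr_bt (f970657 IH) (Lpe (f963478 IH) (Lpr_ct (K55.f57633 IH) (Lpr_gt (K70.f623187 IH) (Lpe (f623195 IH) (Lpr_bt (f623198 IH) (Lpn (LP (LK LD1_c29 LD2_c26 LD3_c58)))))))))))))
theorem f970661 : Led Lsl_gt (LP (LK LD1_c29 LD2_c26 LD3_c58)) = (LP (LK LD1_c21 LD2_c28 LD3_c36)) :=
  Leop (Lpr_gf (f970660 IH) (Lpn (LP (LK LD1_c29 LD2_c26 LD3_c58))))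
theorem seed_2972 : LEOK LG_g (LK LD1_c29 LD2_c26 LD3_c58) :=
  Leoe_g (LK LD1_c29 LD2_c26 LD3_c58) (f970661 IH)
def v49395 : LQ := Led Lsl_ct (LP (LK LD1_c11 LD2_c44 LD3_c7))
theorem f970752 : Led Lsl_ct (LP (LK LD1_c11 LD2_c44 LD3_c7)) = v49395 :=
  Lrfl
def v49394 : LQ := Led Lsl_bt (LP (LK LD1_c11 LD2_c44 LD3_c7))
theorem f970749 : Led Lsl_bt (LP (LK LD1_c11 LD2_c44 LD3_c7)) = v49394 :=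
  Lrfl
theorem f112902 : Led Lsl_gt (LP (LK LD1_c5 LD2_c59 LD3_c50)) = (LP (LK LD1_c11 LD2_c44 LD3_c7)) :=
  Lre_g IH (LK LD1_c5 LD2_c59 LD3_c50) (LK LD1_c11 LD2_c44 LD3_c7) Lrfl Lrfl
theorem f502231 : Led Lsl_bt (LP (LK LD1_c2 LD2_c56 LD3_c15)) = (LP (LK LD1_c5 LD2_c59 LD3_c50)) :=
  Lre_b IH (LK LD1_c2 LD2_c56 LD3_c15) (LK LD1_c5 LD2_c59 LD3_c50) Lrfl Lrfl
def v13656 : LQ := Led Lsl_ft (LP (LK LD1_c4 LD2_c46 LD3_c29))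
theorem f704097 : Led Lsl_ft (LP (LK LD1_c4 LD2_c46 LD3_c29)) = v13656 :=
  Lrfl
theorem f78349 : Led Lsl_bt (LP (LK LD1_c2 LD2_c21 LD3_c13)) = (LP (LK LD1_c4 LD2_c46 LD3_c29)) :=
  Lre_b IH (LK LD1_c2 LD2_c21 LD3_c13) (LK LD1_c4 LD2_c46 LD3_c29) Lrfl Lrfl
theorem f704098 : Led Lsl_bf (LP (LK LD1_c4 LD2_c46 LD3_c32)) = v13656 :=
  Lgr Lrot61 (Lpr_ft (K58.f78373 IH) (Lpr_bt (f78349 IH) (Lpr_ft (f704097 IH) (Lpn v13656))))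
def v39600 : LQ := Led Lsl_ft (LP (LK LD1_c9 LD2_c25 LD3_c34))
theorem f910218 : Led Lsl_ft (LP (LK LD1_c9 LD2_c25 LD3_c34)) = v39600 :=
  Lrfl
theorem f910222 : Led Lsl_ff (LP (LK LD1_c9 LD2_c25 LD3_c34)) = v39600 :=
  Lgr Lrot3 (Lpr_ft (f910218 IH) (Lpn v39600))
theorem f910224 : Led Lsl_ct v13656 = v39600 :=
  Lgr Lrot40 (Lpe (f704097 IH) (Lpe (K5.f78375 IH) (Lpr_ff (f910222 IH) (Lpn v39600))))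
theorem f970756 : Led Lsl_gf v39600 = v49395 :=
  Lgr Lrot129 (Lpe (f910224 IH) (Lpe (f704098 IH) (Lpq (K58.f769813 IH) (Lpe (K58.f652632 IH) (Lpr_bf (K59.f652638 IH) (Lpqs (K59.f669226 IH) (Lpr_ct (K56.f502756 IH) (Lpr_gt (K48.f75822 IH) (Lpe (K40.f76064 IH) (Lpr_bt (f502231 IH) (Lpr_gt (f112902 IH) (Lpr_ct (f970752 IH) (Lpn v49395)))))))))))))
theorem f91398 : Led Lsl_gt (LP (LK LD1_c9 LD2_c22 LD3_c55)) = (LP (LK LD1_c17 LD2_c19 LD3_c20)) :=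
  Lre_g IH (LK LD1_c9 LD2_c22 LD3_c55) (LK LD1_c17 LD2_c19 LD3_c20) Lrfl Lrfl
theorem f970757 : v49394 = (LP (LK LD1_c17 LD2_c19 LD3_c20)) :=
  (Llr Lrot92 (Lpe (f970749 IH) (Lpr_ct (f970752 IH) (Lpe (f970756 IH) (Lpe (f910224 IH) (Lpe (f704098 IH) (Lpr_gt (K58.f703553 IH) (Lpq (K58.f769814 IH) (Lpr_ct (K59.f415426 IH) (Lpr_gt (K58.f509216 IH) (Lpq (K58.f771021 IH) (Lpe (K5.f91345 IH) (Lpr_bt (K5.f91328 IH) (Lpr_gt (f91398 IH) (Lpn (LP (LK LD1_c17 LD2_c19 LD3_c20))))))))))))))))).symm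
theorem f970750 : Led Lsl_bf (LP (LK LD1_c11 LD2_c44 LD3_c7)) = v49394 :=
  Lgr Lrot24 (Lpr_bt (f970749 IH) (Lpn v49394))
theorem f970758 : Led Lsl_bt (LP (LK LD1_c17 LD2_c19 LD3_c20)) = (LP (LK LD1_c11 LD2_c44 LD3_c7)) :=
  Leop (Lpr_bf (f970750 IH) (Lpqs (f970757 IH) (Lpn (LP (LK LD1_c17 LD2_c19 LD3_c20)))))
theorem seed_2973 : LEOK LG_b (LK LD1_c17 LD2_c19 LD3_c20) :=
  Leoe_b (LK LD1_c17 LD2_c19 LD3_c20) (f970758 IH)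
def v49432 : LQ := Led Lsl_et (LP (LK LD1_c11 LD2_c44 LD3_c40))
theorem f970945 : Led Lsl_et (LP (LK LD1_c11 LD2_c44 LD3_c40)) = v49432 :=
  Lrfl
theorem f428146 : Led Lsl_dt (LP (LK LD1_c11 LD2_c44 LD3_c40)) = (LP (LK LD1_c6 LD2_c0 LD3_c5)) :=
  Lre_d IH (LK LD1_c11 LD2_c44 LD3_c40) (LK LD1_c6 LD2_c0 LD3_c5) Lrfl Lrfl
theorem f76199 : Led Lsl_bt (LP (LK LD1_c17 LD2_c32 LD3_c42)) = (LP (LK LD1_c9 LD2_c31 LD3_c4)) :=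
  Lre_b IH (LK LD1_c17 LD2_c32 LD3_c42) (LK LD1_c9 LD2_c31 LD3_c4) Lrfl Lrfl
theorem f739472 : Led Lsl_et (LP (LK LD1_c11 LD2_c25 LD3_c33)) = (LP (LK LD1_c17 LD2_c32 LD3_c42)) :=
  Lgr Lrot74 (Lpr_bf (K56.f739466 IH) (Lpe (K62.f76197 IH) (Lpe (f76199 IH) (Lpn (LP (LK LD1_c17 LD2_c32 LD3_c42))))))
theorem f739476 : Led Lsl_ef (LP (LK LD1_c11 LD2_c25 LD3_c33)) = (LP (LK LD1_c17 LD2_c32 LD3_c42)) :=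
  Lgr Lrot88 (Lpr_et (f739472 IH) (Lpn (LP (LK LD1_c17 LD2_c32 LD3_c42))))
theorem f739474 : Led Lsl_dt (LP (LK LD1_c17 LD2_c32 LD3_c42)) = (LP (LK LD1_c9 LD2_c31 LD3_c2)) :=
  Lre_d IH (LK LD1_c17 LD2_c32 LD3_c42) (LK LD1_c9 LD2_c31 LD3_c2) Lrfl Lrfl
theorem f744537 : Led Lsl_gt (LP (LK LD1_c9 LD2_c31 LD3_c2)) = K55.v15986 :=
  Lgr Lrot112 (Lpe (f739474 IH) (Lpe (f739476 IH) (Lpe (K56.f132407 IH) (Lpe (K5.f132318 IH) (Lpr_dt (K5.f117231 IH) (Lpe (K8.f132404 IH) (Lpr_df (K52.f501858 IH) (Lpr_gf (K42.f501751 IH) (Lpe (K65.f136282 IH) (Lpr_dt (K55.f744532 IH) (Lpn K55.v15986)))))))))))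
theorem f970949 : Led Lsl_gf (LP (LK LD1_c17 LD2_c32 LD3_c42)) = v49432 :=
  Lgr Lrot138 (Lpr_dt (f739474 IH) (Lpr_gt (f744537 IH) (Lpe (K55.f744532 IH) (Lpr_et (K65.f136282 IH) (Lpe (K42.f501751 IH) (Lpe (K66.f501962 IH) (Lpr_dt (K66.f559385 IH) (Lpr_gt (K45.f76156 IH) (Lpe (f428146 IH) (Lpr_et (f970945 IH) (Lpn v49432)))))))))))
theorem f739487 : Led Lsl_cf (LP (LK LD1_c17 LD2_c32 LD3_c42)) = (LP (LK LD1_c20 LD2_c26 LD3_c54)) :=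
  Lgr Lrot39 (Lpe (f739476 IH) (Lpr_ct (K56.f739482 IH) (Lpr_et (K75.f502704 IH) (Lpn (LP (LK LD1_c20 LD2_c26 LD3_c54))))))
theorem f739502 : Led Lsl_ct (LP (LK LD1_c17 LD2_c32 LD3_c42)) = (LP (LK LD1_c20 LD2_c26 LD3_c54)) :=
  Lgr Lrot59 (Lpr_cf (f739487 IH) (Lpn (LP (LK LD1_c20 LD2_c26 LD3_c54))))
theorem f510342 : Led Lsl_et (LP (LK LD1_c12 LD2_c55 LD3_c27)) = (LP (LK LD1_c6 LD2_c45 LD3_c46)) :=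
  Lre_e IH (LK LD1_c12 LD2_c55 LD3_c27) (LK LD1_c6 LD2_c45 LD3_c46) Lrfl Lrfl
theorem f416759 : Led Lsl_bt (LP (LK LD1_c6 LD2_c45 LD3_c46)) = (LP (LK LD1_c12 LD2_c55 LD3_c24)) :=
  Lre_b IH (LK LD1_c6 LD2_c45 LD3_c46) (LK LD1_c12 LD2_c55 LD3_c24) Lrfl Lrfl
theorem f853352 : Led Lsl_et (LP (LK LD1_c12 LD2_c55 LD3_c24)) = (LP (LK LD1_c20 LD2_c41 LD3_c39)) :=
  Lgr Lrot74 (Lpe (f416759 IH) (Lpe (f510342 IH) (Lpr_bf (K69.f853348 IH) (Lpn (LP (LK LD1_c20 LD2_c41 LD3_c39))))))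
theorem f970947 : Led Lsl_df (LP (LK LD1_c12 LD2_c55 LD3_c24)) = v49432 :=
  Lgr Lrot70 (Lpr_et (f853352 IH) (Lpr_dt (K45.f428143 IH) (Lpr_et (K45.f76157 IH) (Lpr_dt (K66.f76158 IH) (Lpr_et (f970945 IH) (Lpn v49432))))))
theorem f643444 : Led Lsl_bt (LP (LK LD1_c17 LD2_c31 LD3_c47)) = (LP (LK LD1_c9 LD2_c30 LD3_c27)) :=
  Lre_b IH (LK LD1_c17 LD2_c31 LD3_c47) (LK LD1_c9 LD2_c30 LD3_c27) Lrfl Lrfl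
theorem f414428 : Led Lsl_bt (LP (LK LD1_c3 LD2_c20 LD3_c47)) = (LP (LK LD1_c6 LD2_c45 LD3_c25)) :=
  Lre_b IH (LK LD1_c3 LD2_c20 LD3_c47) (LK LD1_c6 LD2_c45 LD3_c25) Lrfl Lrfl
theorem f414427 : Led Lsl_gt (LP (LK LD1_c6 LD2_c45 LD3_c26)) = (LP (LK LD1_c3 LD2_c21 LD3_c52)) :=
  Lre_g IH (LK LD1_c6 LD2_c45 LD3_c26) (LK LD1_c3 LD2_c21 LD3_c52) Lrfl Lrfl
theorem f509648 : Led Lsl_ct (LP (LK LD1_c6 LD2_c47 LD3_c20)) = (LP (LK LD1_c12 LD2_c57 LD3_c43)) :=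
  Lre_c IH (LK LD1_c6 LD2_c47 LD3_c20) (LK LD1_c12 LD2_c57 LD3_c43) Lrfl Lrfl
theorem f509649 : Led Lsl_gt (LP (LK LD1_c12 LD2_c57 LD3_c43)) = (LP (LK LD1_c22 LD2_c7 LD3_c34)) :=
  Lre_g IH (LK LD1_c12 LD2_c57 LD3_c43) (LK LD1_c22 LD2_c7 LD3_c34) Lrfl Lrfl
theorem f643445 : Led Lsl_ct (LP (LK LD1_c17 LD2_c31 LD3_c47)) = (LP (LK LD1_c22 LD2_c7 LD3_c34)) :=
  Lgr Lrot63 (Lpr_bt (f643444 IH) (Lpr_gt (K55.f643441 IH) (Lpe (f414428 IH) (Lpr_ct (K24.f180496 IH) (Lpr_gt (f414427 IH) (Lpe (K17.f414057 IH) (Lpr_bt (K24.f416515 IH) (Lpr_gt (K56.f416516 IH) (Lpr_ct (f509648 IH) (Lpr_gt (f509649 IH) (Lpn (LP (LK LD1_c22 LD2_c7 LD3_c34)))))))))))))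
theorem f414976 : Led Lsl_ct (LP (LK LD1_c17 LD2_c34 LD3_c26)) = (LP (LK LD1_c9 LD2_c32 LD3_c14)) :=
  Lre_c IH (LK LD1_c17 LD2_c34 LD3_c26) (LK LD1_c9 LD2_c32 LD3_c14) Lrfl Lrfl
theorem f744650 : Led Lsl_ff (LP (LK LD1_c17 LD2_c34 LD3_c26)) = (LP (LK LD1_c12 LD2_c57 LD3_c43)) :=
  Lgr Lrot23 (Lpr_ct (f414976 IH) (Lpr_ft (K56.f744646 IH) (Lpr_ct (f509648 IH) (Lpn (LP (LK LD1_c12 LD2_c57 LD3_c43))))))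
theorem f509647 : Led Lsl_ct (LP (LK LD1_c12 LD2_c57 LD3_c45)) = (LP (LK LD1_c6 LD2_c47 LD3_c21)) :=
  Lre_c IH (LK LD1_c12 LD2_c57 LD3_c45) (LK LD1_c6 LD2_c47 LD3_c21) Lrfl Lrfl
theorem f744625 : Led Lsl_at (LP (LK LD1_c17 LD2_c34 LD3_c26)) = (LP (LK LD1_c12 LD2_c57 LD3_c45)) :=
  Lgr Lrot107 (Lpe (K63.f414974 IH) (Lpr_af (K55.f744621 IH) (Lpe (f509647 IH) (Lpn (LP (LK LD1_c12 LD2_c57 LD3_c45))))))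
theorem f744653 : Led Lsl_gf (LP (LK LD1_c12 LD2_c57 LD3_c45)) = (LP (LK LD1_c22 LD2_c7 LD3_c34)) :=
  Lgr Lrot76 (Lpe (f744625 IH) (Lpr_ff (f744650 IH) (Lpr_gt (f509649 IH) (Lpn (LP (LK LD1_c22 LD2_c7 LD3_c34))))))
theorem f710240 : Led Lsl_ct (LP (LK LD1_c11 LD2_c30 LD3_c29)) = (LP (LK LD1_c5 LD2_c51 LD3_c32)) :=
  Lre_c IH (LK LD1_c11 LD2_c30 LD3_c29) (LK LD1_c5 LD2_c51 LD3_c32) Lrfl Lrfl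
def v48414 : LQ := Led Lsl_gf (LP (LK LD1_c11 LD2_c30 LD3_c29))
theorem f965430 : Led Lsl_gf (LP (LK LD1_c11 LD2_c30 LD3_c29)) = v48414 :=
  Lrfl
theorem f970950 : (LP (LK LD1_c20 LD2_c26 LD3_c54)) = v48414 :=
  (Llr Lrot186 (Lpe (f739502 IH) (Lpr_gf (f970949 IH) (Lpe (f970947 IH) (Lpr_gt (K75.f964831 IH) (Lpr_ct (f643445 IH) (Lpe (f744653 IH) (Lpr_ct (f509647 IH) (Lpe (K51.f710242 IH) (Lpe (f710240 IH) (Lpr_gf (f965430 IH) (Lpn v48414)))))))))))).symm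
theorem f970951 : Led Lsl_gt (LP (LK LD1_c20 LD2_c26 LD3_c54)) = (LP (LK LD1_c11 LD2_c30 LD3_c29)) :=
  Leop (Lpr_gf (f965430 IH) (Lpq (f970950 IH) (Lpn (LP (LK LD1_c20 LD2_c26 LD3_c54)))))
theorem seed_2974 : LEOK LG_g (LK LD1_c20 LD2_c26 LD3_c54) :=
  Leoe_g (LK LD1_c20 LD2_c26 LD3_c54) (f970951 IH)
def v49452 : LQ := Led Lsl_ft (LP (LK LD1_c11 LD2_c44 LD3_c53))
theorem f971019 : Led Lsl_ft (LP (LK LD1_c11 LD2_c44 LD3_c53)) = v49452 :=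
  Lrfl
theorem f425909 : Led Lsl_gt (LP (LK LD1_c11 LD2_c44 LD3_c53)) = (LP (LK LD1_c20 LD2_c46 LD3_c11)) :=
  Lre_g IH (LK LD1_c11 LD2_c44 LD3_c53) (LK LD1_c20 LD2_c46 LD3_c11) Lrfl Lrfl
theorem f105141 : Led Lsl_ft (LP (LK LD1_c27 LD2_c21 LD3_c4)) = (LP (LK LD1_c17 LD2_c31 LD3_c20)) :=
  Lre_f IH (LK LD1_c27 LD2_c21 LD3_c4) (LK LD1_c17 LD2_c31 LD3_c20) Lrfl Lrfl
theorem f971020 : Led Lsl_af (LP (LK LD1_c27 LD2_c21 LD3_c4)) = v49452 :=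
  Lgr Lrot45 (Lpr_ft (f105141 IH) (Lpe (K37.f502019 IH) (Lpr_ft (f971019 IH) (Lpn v49452))))
theorem f971023 : Led Lsl_gt (LP (LK LD1_c20 LD2_c46 LD3_c11)) = (LP (LK LD1_c27 LD2_c21 LD3_c4)) :=
  Lgr Lrot46 (Lpe (f425909 IH) (Lpr_ft (f971019 IH) (Lpe (f971020 IH) (Lpn (LP (LK LD1_c27 LD2_c21 LD3_c4))))))
theorem f971024 : Led Lsl_gt (LP (LK LD1_c20 LD2_c46 LD3_c11)) = (LP (LK LD1_c27 LD2_c21 LD3_c4)) :=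
  Leop (Lpe (f971023 IH) (Lpn (LP (LK LD1_c20 LD2_c46 LD3_c11))))
theorem seed_2975 : LEOK LG_g (LK LD1_c20 LD2_c46 LD3_c11) :=
  Leoe_g (LK LD1_c20 LD2_c46 LD3_c11) (f971024 IH)
def v49473 : LQ := Led Lsl_ct (LP (LK LD1_c11 LD2_c45 LD3_c6))
theorem f971102 : Led Lsl_ct (LP (LK LD1_c11 LD2_c45 LD3_c6)) = v49473 :=
  Lrfl
theorem f853491 : Led Lsl_ef (LP (LK LD1_c20 LD2_c46 LD3_c2)) = (LP (LK LD1_c20 LD2_c14 LD3_c48)) :=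
  Lgr Lrot167 (Lpr_gt (K66.f853489 IH) (Lpr_dt (K66.f559389 IH) (Lpr_gt (K66.f76154 IH) (Lpe (K66.f559385 IH) (Lpr_et (K66.f501962 IH) (Lpr_gt (K40.f501745 IH) (Lpe (K54.f136325 IH) (Lpr_dt (K54.f614362 IH) (Lpr_gt (K54.f738969 IH) (Lpe (K66.f710383 IH) (Lpn (LP (LK LD1_c20 LD2_c14 LD3_c48)))))))))))))
theorem f740250 : Led Lsl_bt (LP (LK LD1_c20 LD2_c14 LD3_c48)) = (LP (LK LD1_c11 LD2_c18 LD3_c21)) :=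
  Lre_b IH (LK LD1_c20 LD2_c14 LD3_c48) (LK LD1_c11 LD2_c18 LD3_c21) Lrfl Lrfl
theorem f740251 : Led Lsl_ff (LP (LK LD1_c20 LD2_c14 LD3_c48)) = (LP (LK LD1_c11 LD2_c20 LD3_c11)) :=
  Lgr Lrot25 (Lpr_bt (f740250 IH) (Lpr_ft (K55.f740246 IH) (Lpr_bt (K55.f76017 IH) (Lpn (LP (LK LD1_c11 LD2_c20 LD3_c11))))))
theorem f853495 : Led Lsl_ft (LP (LK LD1_c20 LD2_c46 LD3_c2)) = (LP (LK LD1_c17 LD2_c12 LD3_c19)) :=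
  Lgr Lrot86 (Lpr_ef (f853491 IH) (Lpr_ff (f740251 IH) (Lpe (K55.f739893 IH) (Lpe (K55.f739943 IH) (Lpe (K75.f713748 IH) (Lpn (LP (LK LD1_c17 LD2_c12 LD3_c19))))))))
theorem f853440 : Led Lsl_at (LP (LK LD1_c17 LD2_c7 LD3_c49)) = (LP (LK LD1_c11 LD2_c44 LD3_c40)) :=
  Lgr Lrot100 (Lpr_af (K75.f853438 IH) (Lpn (LP (LK LD1_c11 LD2_c44 LD3_c40))))
theorem f644128 : Led Lsl_dt (LP (LK LD1_c9 LD2_c13 LD3_c25)) = (LP (LK LD1_c17 LD2_c7 LD3_c49)) :=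
  Lre_d IH (LK LD1_c9 LD2_c13 LD3_c25) (LK LD1_c17 LD2_c7 LD3_c49) Lrfl Lrfl
theorem f853312 : Led Lsl_ff (LP (LK LD1_c11 LD2_c44 LD3_c42)) = (LP (LK LD1_c17 LD2_c7 LD3_c49)) :=
  Lgr Lrot19 (Lpr_dt (K66.f559389 IH) (Lpr_ft (K66.f749271 IH) (Lpq (K66.f853307 IH) (Lpr_dt (f644128 IH) (Lpn (LP (LK LD1_c17 LD2_c7 LD3_c49)))))))
theorem f853315 : Led Lsl_ft (LP (LK LD1_c11 LD2_c44 LD3_c42)) = (LP (LK LD1_c17 LD2_c7 LD3_c49)) :=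
  Lgr Lrot48 (Lpr_ff (f853312 IH) (Lpn (LP (LK LD1_c17 LD2_c7 LD3_c49))))
theorem f559394 : Led Lsl_gt (LP (LK LD1_c20 LD2_c46 LD3_c3)) = (LP (LK LD1_c11 LD2_c44 LD3_c40)) :=
  Lre_g IH (LK LD1_c20 LD2_c46 LD3_c3) (LK LD1_c11 LD2_c44 LD3_c40) Lrfl Lrfl
theorem f853442 : Led Lsl_gt (LP (LK LD1_c11 LD2_c44 LD3_c42)) = (LP (LK LD1_c20 LD2_c46 LD3_c3)) :=
  Lgr Lrot5 (Lpr_ft (f853315 IH) (Lpr_at (f853440 IH) (Lpe (f559394 IH) (Lpn (LP (LK LD1_c20 LD2_c46 LD3_c3))))))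
theorem f853499 : Led Lsl_af (LP (LK LD1_c20 LD2_c46 LD3_c3)) = (LP (LK LD1_c17 LD2_c12 LD3_c19)) :=
  Lgr Lrot31 (Lpe (f853442 IH) (Lpe (K66.f853489 IH) (Lpr_ft (f853495 IH) (Lpn (LP (LK LD1_c17 LD2_c12 LD3_c19))))))
theorem f713790 : Led Lsl_et (LP (LK LD1_c9 LD2_c17 LD3_c11)) = (LP (LK LD1_c17 LD2_c12 LD3_c19)) :=
  Lre_e IH (LK LD1_c9 LD2_c17 LD3_c11) (LK LD1_c17 LD2_c12 LD3_c19) Lrfl Lrfl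
theorem f739911 : Led Lsl_ft (LP (LK LD1_c11 LD2_c25 LD3_c19)) = (LP (LK LD1_c12 LD2_c9 LD3_c2)) :=
  Lgr Lrot4 (Lpe (K62.f714947 IH) (Lpr_ff (K55.f739909 IH) (Lpe (K54.f738985 IH) (Lpn (LP (LK LD1_c12 LD2_c9 LD3_c2))))))
theorem f739958 : Led Lsl_af (LP (LK LD1_c9 LD2_c17 LD3_c11)) = (LP (LK LD1_c12 LD2_c9 LD3_c2)) :=
  Lgr Lrot45 (Lpr_ft (K55.f739943 IH) (Lpr_at (K55.f739887 IH) (Lpr_ft (f739911 IH) (Lpn (LP (LK LD1_c12 LD2_c9 LD3_c2))))))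
theorem f853505 : Led Lsl_et (LP (LK LD1_c20 LD2_c46 LD3_c3)) = (LP (LK LD1_c12 LD2_c9 LD3_c2)) :=
  Lgr Lrot123 (Lpr_af (f853499 IH) (Lpe (f713790 IH) (Lpr_af (f739958 IH) (Lpn (LP (LK LD1_c12 LD2_c9 LD3_c2))))))
theorem f853507 : Led Lsl_bf (LP (LK LD1_c20 LD2_c46 LD3_c3)) = (LP (LK LD1_c11 LD2_c45 LD3_c6)) :=
  Lgr Lrot96 (Lpr_et (f853505 IH) (Lpr_bt (K54.f738978 IH) (Lpe (K75.f740104 IH) (Lpn (LP (LK LD1_c11 LD2_c45 LD3_c6))))))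
def v49431 : LQ := Led Lsl_ct (LP (LK LD1_c11 LD2_c44 LD3_c40))
theorem f970941 : Led Lsl_ct (LP (LK LD1_c11 LD2_c44 LD3_c40)) = v49431 :=
  Lrfl
theorem f853515 : Led Lsl_dt (LP (LK LD1_c20 LD2_c46 LD3_c3)) = (LP (LK LD1_c20 LD2_c46 LD3_c2)) :=
  Lgr Lrot56 (Lpr_et (f853505 IH) (Lpr_gt (K54.f112335 IH) (Lpe (K5.f112328 IH) (Lpr_dt (K8.f112187 IH) (Lpr_gt (K8.f160996 IH) (Lpr_df (K11.f76140 IH) (Lpr_et (K45.f76153 IH) (Lpr_gt (K45.f76156 IH) (Lpr_dt (K66.f76158 IH) (Lpr_gt (K66.f76159 IH) (Lpn (LP (LK LD1_c20 LD2_c46 LD3_c2)))))))))))))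
def v28166 : LQ := Led Lsl_et K66.v7989
theorem f843105 : Led Lsl_et K66.v7989 = v28166 :=
  Lrfl
theorem f843107 : Led Lsl_ef K66.v7989 = v28166 :=
  Lgr Lrot88 (Lpr_et (f843105 IH) (Lpn v28166))
theorem f825717 : Led Lsl_ct K66.v7989 = K66.v16320 :=
  Lgr Lrot59 (Lpr_cf (K66.f825716 IH) (Lpn K66.v16320))
theorem f748445 : Led Lsl_ef (LP (LK LD1_c11 LD2_c44 LD3_c42)) = K66.v16320 :=
  Lgr Lrot88 (Lpr_et (K66.f748444 IH) (Lpn K66.v16320))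
theorem f843108 : Led Lsl_ct (LP (LK LD1_c11 LD2_c44 LD3_c42)) = v28166 :=
  Lgr Lrot15 (Lpr_ef (f748445 IH) (Lpe (f825717 IH) (Lpr_ef (f843107 IH) (Lpn v28166))))
def v48378 : LQ := Led Lsl_et (LP (LK LD1_c11 LD2_c30 LD3_c3))
theorem f965233 : Led Lsl_et (LP (LK LD1_c11 LD2_c30 LD3_c3)) = v48378 :=
  Lrfl
theorem f965236 : Led Lsl_ef (LP (LK LD1_c11 LD2_c30 LD3_c3)) = v48378 :=
  Lgr Lrot88 (Lpr_et (f965233 IH) (Lpn v48378))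
theorem f965238 : Led Lsl_ct (LP (LK LD1_c11 LD2_c30 LD3_c5)) = v48378 :=
  Lgr Lrot15 (Lpe (K55.f710358 IH) (Lpe (K60.f428757 IH) (Lpr_ef (f965236 IH) (Lpn v48378))))
def v5487 : LQ := Led Lsl_ct (LP (LK LD1_c3 LD2_c8 LD3_c30))
theorem f647901 : Led Lsl_ct (LP (LK LD1_c3 LD2_c8 LD3_c30)) = v5487 :=
  Lrfl
def v16542 : LQ := Led Lsl_ct (LP (LK LD1_c6 LD2_c2 LD3_c33))
theorem f750287 : Led Lsl_ct (LP (LK LD1_c6 LD2_c2 LD3_c33)) = v16542 :=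
  Lrfl
theorem f68930 : Led Lsl_dt (LP (LK LD1_c2 LD2_c57 LD3_c21)) = (LP (LK LD1_c1 LD2_c24 LD3_c25)) :=
  Lre_d IH (LK LD1_c2 LD2_c57 LD3_c21) (LK LD1_c1 LD2_c24 LD3_c25) Lrfl Lrfl
theorem f146036 : Led Lsl_ct (LP (LK LD1_c6 LD2_c22 LD3_c4)) = (LP (LK LD1_c3 LD2_c8 LD3_c43)) :=
  Lre_c IH (LK LD1_c6 LD2_c22 LD3_c4) (LK LD1_c3 LD2_c8 LD3_c43) Lrfl Lrfl
theorem f750291 : Led Lsl_gf (LP (LK LD1_c6 LD2_c22 LD3_c4)) = v16542 :=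
  Lgr Lrot104 (Lpr_ct (f146036 IH) (Lpe (K35.f79856 IH) (Lpe (K32.f79851 IH) (Lpr_gf (K32.f435542 IH) (Lpe (K11.f61076 IH) (Lpe (K35.f419123 IH) (Lpe (f68930 IH) (Lpr_gt (K32.f419101 IH) (Lpr_ct (f750287 IH) (Lpn v16542))))))))))
theorem f506170 : Led Lsl_ft (LP (LK LD1_c3 LD2_c8 LD3_c30)) = (LP (LK LD1_c2 LD2_c51 LD3_c29)) :=
  Lgr Lrot48 (Lpr_ff (K35.f506165 IH) (Lpn (LP (LK LD1_c2 LD2_c51 LD3_c29))))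
theorem f139908 : Led Lsl_bt (LP (LK LD1_c5 LD2_c50 LD3_c30)) = (LP (LK LD1_c2 LD2_c51 LD3_c26)) :=
  Lre_b IH (LK LD1_c5 LD2_c50 LD3_c30) (LK LD1_c2 LD2_c51 LD3_c26) Lrfl Lrfl
theorem f505049 : Led Lsl_at (LP (LK LD1_c2 LD2_c51 LD3_c26)) = (LP (LK LD1_c3 LD2_c8 LD3_c30)) :=
  Lgr Lrot67 (Lpe (f139908 IH) (Lpe (K66.f505046 IH) (Lpr_bf (K35.f505043 IH) (Lpe (K66.f505047 IH) (Lpe (K35.f505048 IH) (Lpn (LP (LK LD1_c3 LD2_c8 LD3_c30))))))))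
theorem f505060 : Led Lsl_ff (LP (LK LD1_c2 LD2_c51 LD3_c26)) = (LP (LK LD1_c3 LD2_c8 LD3_c43)) :=
  Lgr Lrot52 (Lpr_at (f505049 IH) (Lpe (K35.f438505 IH) (Lpr_gf (K73.f504809 IH) (Lpn (LP (LK LD1_c3 LD2_c8 LD3_c43))))))
theorem f506176 : Led Lsl_af (LP (LK LD1_c3 LD2_c8 LD3_c43)) = (LP (LK LD1_c2 LD2_c51 LD3_c29)) :=
  Lgr Lrot45 (Lpe (f505060 IH) (Lpr_at (f505049 IH) (Lpr_ft (f506170 IH) (Lpn (LP (LK LD1_c2 LD2_c51 LD3_c29))))))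
theorem f146037 : Led Lsl_ct (LP (LK LD1_c3 LD2_c8 LD3_c43)) = (LP (LK LD1_c6 LD2_c22 LD3_c4)) :=
  Lre_c IH (LK LD1_c3 LD2_c8 LD3_c43) (LK LD1_c6 LD2_c22 LD3_c4) Lrfl Lrfl
theorem f438775 : Led Lsl_ct (LP (LK LD1_c5 LD2_c50 LD3_c37)) = (LP (LK LD1_c2 LD2_c51 LD3_c29)) :=
  Lre_c IH (LK LD1_c5 LD2_c50 LD3_c37) (LK LD1_c2 LD2_c51 LD3_c29) Lrfl Lrfl
theorem f506178 : Led Lsl_at (LP (LK LD1_c6 LD2_c22 LD3_c4)) = (LP (LK LD1_c5 LD2_c50 LD3_c37)) :=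
  Lgr Lrot107 (Lpe (f146037 IH) (Lpr_af (f506176 IH) (Lpe (f438775 IH) (Lpn (LP (LK LD1_c5 LD2_c50 LD3_c37))))))
theorem f506180 : Led Lsl_af (LP (LK LD1_c6 LD2_c22 LD3_c4)) = (LP (LK LD1_c5 LD2_c50 LD3_c37)) :=
  Lgr Lrot0 (Lpr_at (f506178 IH) (Lpn (LP (LK LD1_c5 LD2_c50 LD3_c37))))
theorem f647904 : Led Lsl_ff (LP (LK LD1_c5 LD2_c50 LD3_c37)) = v5487 :=
  Lgr Lrot23 (Lpr_ct (f438775 IH) (Lpe (K35.f506165 IH) (Lpr_ct (f647901 IH) (Lpn v5487))))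
theorem f750292 : Led Lsl_gt v5487 = v16542 :=
  Lgr Lrot5 (Lpe (f647904 IH) (Lpe (f506180 IH) (Lpr_gf (f750291 IH) (Lpn v16542))))
theorem f443721 : Led Lsl_bt (LP (LK LD1_c6 LD2_c2 LD3_c33)) = (LP (LK LD1_c11 LD2_c49 LD3_c22)) :=
  Lre_b IH (LK LD1_c6 LD2_c2 LD3_c33) (LK LD1_c11 LD2_c49 LD3_c22) Lrfl Lrfl
def v38610 : LQ := Led Lsl_dt (LP (LK LD1_c9 LD2_c13 LD3_c18))
theorem f903257 : Led Lsl_dt (LP (LK LD1_c9 LD2_c13 LD3_c18)) = v38610 :=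
  Lrfl
theorem f750425 : Led Lsl_ff (LP (LK LD1_c6 LD2_c2 LD3_c52)) = K56.v16561 :=
  Lgr Lrot3 (Lpr_ft (K56.f750422 IH) (Lpn K56.v16561))
theorem f501144 : Led Lsl_at (LP (LK LD1_c6 LD2_c2 LD3_c52)) = (LP (LK LD1_c2 LD2_c57 LD3_c33)) :=
  Lre_a IH (LK LD1_c6 LD2_c2 LD3_c52) (LK LD1_c2 LD2_c57 LD3_c33) Lrfl Lrfl
theorem f750440 : Led Lsl_at K56.v5093 = K56.v16561 :=
  Lgr Lrot66 (Lpe (K56.f645904 IH) (Lpe (f501144 IH) (Lpr_ff (f750425 IH) (Lpn K56.v16561))))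
theorem f750443 : Led Lsl_gt (LP (LK LD1_c6 LD2_c2 LD3_c57)) = K56.v16561 :=
  Lgr Lrot46 (Lpe (K69.f501037 IH) (Lpr_ft (K56.f645904 IH) (Lpr_at (f750440 IH) (Lpn K56.v16561))))
theorem f645456 : Led Lsl_dt (LP (LK LD1_c11 LD2_c49 LD3_c43)) = (LP (LK LD1_c6 LD2_c2 LD3_c52)) :=
  Lre_d IH (LK LD1_c11 LD2_c49 LD3_c43) (LK LD1_c6 LD2_c2 LD3_c52) Lrfl Lrfl
theorem f750424 : Led Lsl_df (LP (LK LD1_c11 LD2_c34 LD3_c51)) = K56.v16561 :=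
  Lgr Lrot78 (Lpe (K64.f739696 IH) (Lpr_dt (f645456 IH) (Lpr_ft (K56.f750422 IH) (Lpn K56.v16561))))
theorem f903262 : Led Lsl_gt (LP (LK LD1_c11 LD2_c49 LD3_c22)) = v38610 :=
  Lgr Lrot112 (Lpr_df (K55.f646813 IH) (Lpe (K55.f646814 IH) (Lpqs (K57.f739182 IH) (Lpe (K57.f646950 IH) (Lpe (K8.f138463 IH) (Lpe (K64.f739346 IH) (Lpr_gf (f739702 IH) (Lpr_df (f750424 IH) (Lpe (f750443 IH) (Lpr_ef (K69.f750497 IH) (Lpqs (K69.f901108 IH) (Lpqs (K66.f853302 IH) (Lpr_dt (f903257 IH) (Lpn v38610))))))))))))))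
def v38608 : LQ := Led Lsl_dt (LP (LK LD1_c9 LD2_c13 LD3_c17))
theorem f903239 : Led Lsl_dt (LP (LK LD1_c9 LD2_c13 LD3_c17)) = v38608 :=
  Lrfl
theorem f903244 : Led Lsl_gf (LP (LK LD1_c11 LD2_c49 LD3_c22)) = v38608 :=
  Lgr Lrot134 (Lpr_df (K55.f646813 IH) (Lpe (K55.f646814 IH) (Lpqs (K57.f739182 IH) (Lpe (K57.f646949 IH) (Lpe (K8.f137322 IH) (Lpr_dt (K6.f83789 IH) (Lpr_gt (K11.f202383 IH) (Lpr_df (K11.f104810 IH) (Lpr_et (K45.f104880 IH) (Lpr_gt (K60.f104882 IH) (Lpr_dt (f903239 IH) (Lpn v38608))))))))))))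
theorem f903243 : Led Lsl_ff (LP (LK LD1_c9 LD2_c13 LD3_c31)) = v38608 :=
  Lgr Lrot19 (Lpr_dt (K56.f104829 IH) (Lpr_ft (K66.f700885 IH) (Lpq (K66.f853288 IH) (Lpqs (K60.f780874 IH) (Lpr_dt (f903239 IH) (Lpn v38608))))))
theorem f903263 : Led Lsl_at (LP (LK LD1_c9 LD2_c13 LD3_c31)) = v38610 :=
  Lgr Lrot26 (Lpr_ff (f903243 IH) (Lpe (f903244 IH) (Lpr_gt (f903262 IH) (Lpn v38610))))
def v13002 : LQ := Led Lsl_gt (LP (LK LD1_c4 LD2_c36 LD3_c48))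
theorem f700135 : Led Lsl_gt (LP (LK LD1_c4 LD2_c36 LD3_c48)) = v13002 :=
  Lrfl
theorem f700136 : Led Lsl_et (LP (LK LD1_c9 LD2_c13 LD3_c31)) = v13002 :=
  Lgr Lrot122 (Lpr_dt (K56.f104829 IH) (Lpr_gt (K56.f61130 IH) (Lpe (K56.f61127 IH) (Lpe (K11.f104815 IH) (Lpqs (K56.f538177 IH) (Lpe (K32.f509236 IH) (Lpr_dt (K8.f99559 IH) (Lpr_gt (K8.f20418 IH) (Lpe (K4.f99594 IH) (Lpr_et (K66.f161375 IH) (Lpr_gt (f700135 IH) (Lpn v13002))))))))))))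
theorem f700137 : Led Lsl_ef (LP (LK LD1_c9 LD2_c13 LD3_c31)) = v13002 :=
  Lgr Lrot88 (Lpr_et (f700136 IH) (Lpn v13002))
theorem f843327 : Led Lsl_bf (LP (LK LD1_c9 LD2_c13 LD3_c31)) = K66.v28237 :=
  Lgr Lrot93 (Lpr_dt (K56.f104829 IH) (Lpr_bt (K50.f615290 IH) (Lpr_dt (f843326 IH) (Lpn K66.v28237))))
def v28234 : LQ := Led Lsl_bt K66.v8015
theorem f843315 : Led Lsl_bt K66.v8015 = v28234 :=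
  Lrfl
theorem f843316 : Led Lsl_bf K66.v8015 = v28234 :=
  Lgr Lrot24 (Lpr_bt (f843315 IH) (Lpn v28234))
theorem f843328 : v13002 = v28234 :=
  (Llr Lrot74 (Lpe (f700136 IH) (Lpr_bf (f843327 IH) (Lpe (K66.f843322 IH) (Lpr_bf (f843316 IH) (Lpn v28234)))))).symm
def v38368 : LQ := Led Lsl_gt (LP (LK LD1_c9 LD2_c9 LD3_c24))
theorem f901614 : Led Lsl_gt (LP (LK LD1_c9 LD2_c9 LD3_c24)) = v38368 :=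
  Lrfl
theorem f613131 : Led Lsl_bt (LP (LK LD1_c4 LD2_c36 LD3_c40)) = (LP (LK LD1_c5 LD2_c50 LD3_c44)) :=
  Lgr Lrot127 (Lpr_bf (K65.f613102 IH) (Lpn (LP (LK LD1_c5 LD2_c50 LD3_c44))))
theorem f613136 : Led Lsl_at (LP (LK LD1_c9 LD2_c9 LD3_c24)) = (LP (LK LD1_c4 LD2_c36 LD3_c48)) :=
  Lre_a IH (LK LD1_c9 LD2_c9 LD3_c24) (LK LD1_c4 LD2_c36 LD3_c48) Lrfl Lrfl
theorem f613137 : Led Lsl_bf (LP (LK LD1_c9 LD2_c9 LD3_c24)) = (LP (LK LD1_c6 LD2_c8 LD3_c13)) :=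
  Lgr Lrot81 (Lpr_at (f613136 IH) (Lpr_bt (K66.f613135 IH) (Lpr_at (K66.f613134 IH) (Lpr_bt (f613131 IH) (Lpe (K16.f411177 IH) (Lpn (LP (LK LD1_c6 LD2_c8 LD3_c13))))))))
def v15921 : LQ := Led Lsl_et (LP (LK LD1_c5 LD2_c50 LD3_c0))
theorem f744216 : Led Lsl_et (LP (LK LD1_c5 LD2_c50 LD3_c0)) = v15921 :=
  Lrfl
theorem f744218 : Led Lsl_ef (LP (LK LD1_c5 LD2_c50 LD3_c0)) = v15921 :=
  Lgr Lrot88 (Lpr_et (f744216 IH) (Lpn v15921))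
theorem f744219 : Led Lsl_ct (LP (LK LD1_c6 LD2_c8 LD3_c13)) = v15921 :=
  Lgr Lrot15 (Lpe (K32.f411185 IH) (Lpe (K36.f540157 IH) (Lpr_ef (f744218 IH) (Lpn v15921))))
def v16554 : LQ := Led Lsl_gf (LP (LK LD1_c6 LD2_c2 LD3_c47))
theorem f750385 : Led Lsl_gf (LP (LK LD1_c6 LD2_c2 LD3_c47)) = v16554 :=
  Lrfl
theorem f68954 : Led Lsl_dt (LP (LK LD1_c2 LD2_c57 LD3_c28)) = (LP (LK LD1_c6 LD2_c2 LD3_c47)) :=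
  Lre_d IH (LK LD1_c2 LD2_c57 LD3_c28) (LK LD1_c6 LD2_c2 LD3_c47) Lrfl Lrfl
def v4781 : LQ := Led Lsl_ft (LP (LK LD1_c2 LD2_c47 LD3_c33))
theorem f638948 : Led Lsl_ft (LP (LK LD1_c2 LD2_c47 LD3_c33)) = v4781 :=
  Lrfl
theorem f638951 : Led Lsl_ff (LP (LK LD1_c2 LD2_c47 LD3_c33)) = v4781 :=
  Lgr Lrot3 (Lpr_ft (f638948 IH) (Lpn v4781))
theorem f412072 : Led Lsl_at (LP (LK LD1_c11 LD2_c16 LD3_c30)) = (LP (LK LD1_c5 LD2_c43 LD3_c7)) :=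
  Lre_a IH (LK LD1_c11 LD2_c16 LD3_c30) (LK LD1_c5 LD2_c43 LD3_c7) Lrfl Lrfl
theorem f210786 : Led Lsl_bt (LP (LK LD1_c5 LD2_c43 LD3_c7)) = (LP (LK LD1_c2 LD2_c47 LD3_c33)) :=
  Lre_b IH (LK LD1_c5 LD2_c43 LD3_c7) (LK LD1_c2 LD2_c47 LD3_c33) Lrfl Lrfl
theorem f175521 : Led Lsl_bt (LP (LK LD1_c4 LD2_c32 LD3_c47)) = (LP (LK LD1_c9 LD2_c2 LD3_c57)) :=
  Lre_b IH (LK LD1_c4 LD2_c32 LD3_c47) (LK LD1_c9 LD2_c2 LD3_c57) Lrfl Lrfl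
theorem f412074 : Led Lsl_at (LP (LK LD1_c2 LD2_c47 LD3_c33)) = (LP (LK LD1_c4 LD2_c32 LD3_c47)) :=
  Lgr Lrot67 (Lpe (f210786 IH) (Lpe (f412072 IH) (Lpr_bf (K41.f412068 IH) (Lpe (K41.f412073 IH) (Lpe (f175521 IH) (Lpn (LP (LK LD1_c4 LD2_c32 LD3_c47))))))))
theorem f638954 : Led Lsl_gf K38.v1537 = v4781 :=
  Lgr Lrot47 (Lpe (K41.f496168 IH) (Lpe (f412074 IH) (Lpr_ff (f638951 IH) (Lpn v4781))))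
theorem f503200 : Led Lsl_af K38.v1537 = K39.v1830 :=
  Lgr Lrot68 (Lpe (K38.f496166 IH) (Lpe (K40.f450179 IH) (Lpr_ct (K39.f503199 IH) (Lpn K39.v1830))))
theorem f450169 : Led Lsl_ff (LP (LK LD1_c1 LD2_c28 LD3_c52)) = (LP (LK LD1_c1 LD2_c21 LD3_c21)) :=
  Lgr Lrot19 (Lpr_dt (K55.f186329 IH) (Lpr_ft (K37.f450163 IH) (Lpr_dt (K37.f176637 IH) (Lpn (LP (LK LD1_c1 LD2_c21 LD3_c21))))))
theorem f503202 : Led Lsl_ff K38.v1540 = K39.v1830 :=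
  Lgr Lrot23 (Lpe (K38.f496178 IH) (Lpe (f450169 IH) (Lpr_ct (K39.f503199 IH) (Lpn K39.v1830))))
theorem f503205 : Led Lsl_ft K38.v1540 = K39.v1830 :=
  Lgr Lrot48 (Lpr_ff (f503202 IH) (Lpn K39.v1830))
theorem f638955 : Led Lsl_gt K38.v1540 = v4781 :=
  Lgr Lrot5 (Lpr_ft (f503205 IH) (Lpe (f503200 IH) (Lpr_gf (f638954 IH) (Lpn v4781))))
theorem f638953 : Led Lsl_dt (LP (LK LD1_c5 LD2_c50 LD3_c0)) = v4781 :=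
  Lgr Lrot60 (Lpr_ff (K36.f540153 IH) (Lpe (K30.f172702 IH) (Lpr_ff (f638951 IH) (Lpn v4781))))
theorem f750388 : Led Lsl_dt (LP (LK LD1_c6 LD2_c22 LD3_c4)) = v16554 :=
  Lgr Lrot57 (Lpr_gf (f750291 IH) (Lpe (f750287 IH) (Lpe (K32.f443735 IH) (Lpr_dt (K32.f68642 IH) (Lpr_gt (K29.f68641 IH) (Lpr_dt (K11.f22976 IH) (Lpe (K11.f68919 IH) (Lpe (K11.f68950 IH) (Lpr_gf (f750385 IH) (Lpn v16554))))))))))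
def v12928 : LQ := Led Lsl_ct (LP (LK LD1_c4 LD2_c34 LD3_c44))
theorem f699654 : Led Lsl_ct (LP (LK LD1_c4 LD2_c34 LD3_c44)) = v12928 :=
  Lrfl
theorem f699656 : Led Lsl_ef (LP (LK LD1_c6 LD2_c22 LD3_c4)) = v12928 :=
  Lgr Lrot28 (Lpr_ct (f146036 IH) (Lpe (K55.f615672 IH) (Lpr_ct (f699654 IH) (Lpn v12928))))
theorem f699657 : Led Lsl_et (LP (LK LD1_c6 LD2_c22 LD3_c4)) = v12928 :=
  Lgr Lrot87 (Lpr_ef (f699656 IH) (Lpn v12928))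
theorem f750391 : Led Lsl_gt v15921 = v12928 :=
  Lgr Lrot131 (Lpe (f744216 IH) (Lpr_dt (f638953 IH) (Lpe (f638955 IH) (Lpe (K38.f496180 IH) (Lpe (K38.f68650 IH) (Lpe (K11.f68940 IH) (Lpr_dt (f68954 IH) (Lpr_gf (f750385 IH) (Lpe (f750388 IH) (Lpr_et (f699657 IH) (Lpn v12928)))))))))))
def v15967 : LQ := Led Lsl_et (LP (LK LD1_c5 LD2_c50 LD3_c37))
theorem f744449 : Led Lsl_et (LP (LK LD1_c5 LD2_c50 LD3_c37)) = v15967 :=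
  Lrfl
theorem f744450 : Led Lsl_af v12928 = v15967 :=
  Lgr Lrot50 (Lpe (f699656 IH) (Lpr_at (f506178 IH) (Lpr_et (f744449 IH) (Lpn v15967))))
theorem f744452 : Led Lsl_ef (LP (LK LD1_c5 LD2_c50 LD3_c37)) = v15967 :=
  Lgr Lrot88 (Lpr_et (f744449 IH) (Lpn v15967))
theorem f744454 : Led Lsl_ct (LP (LK LD1_c5 LD2_c50 LD3_c38)) = v15967 :=
  Lgr Lrot15 (Lpe (K54.f438778 IH) (Lpe (f438775 IH) (Lpr_ef (f744452 IH) (Lpn v15967))))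
theorem f505062 : Led Lsl_ft (LP (LK LD1_c2 LD2_c51 LD3_c26)) = (LP (LK LD1_c3 LD2_c8 LD3_c43)) :=
  Lgr Lrot48 (Lpr_ff (f505060 IH) (Lpn (LP (LK LD1_c3 LD2_c8 LD3_c43))))
theorem f506168 : Led Lsl_at (LP (LK LD1_c3 LD2_c8 LD3_c43)) = (LP (LK LD1_c2 LD2_c51 LD3_c29)) :=
  Lgr Lrot66 (Lpe (f505062 IH) (Lpr_af (K35.f505056 IH) (Lpr_ff (K35.f506165 IH) (Lpn (LP (LK LD1_c2 LD2_c51 LD3_c29))))))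
theorem f615678 : Led Lsl_af (LP (LK LD1_c4 LD2_c34 LD3_c44)) = (LP (LK LD1_c5 LD2_c50 LD3_c38)) :=
  Lgr Lrot50 (Lpr_et (K73.f615676 IH) (Lpr_at (f506168 IH) (Lpr_et (K54.f438778 IH) (Lpn (LP (LK LD1_c5 LD2_c50 LD3_c38))))))
theorem f164408 : Led Lsl_gt (LP (LK LD1_c2 LD2_c14 LD3_c25)) = (LP (LK LD1_c4 LD2_c34 LD3_c44)) :=
  Lre_g IH (LK LD1_c2 LD2_c14 LD3_c25) (LK LD1_c4 LD2_c34 LD3_c44) Lrfl Lrfl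
theorem f615680 : Led Lsl_ft (LP (LK LD1_c4 LD2_c34 LD3_c45)) = (LP (LK LD1_c5 LD2_c50 LD3_c38)) :=
  Lgr Lrot2 (Lpr_gt (K66.f163574 IH) (Lpr_gt (f164408 IH) (Lpr_af (f615678 IH) (Lpn (LP (LK LD1_c5 LD2_c50 LD3_c38))))))
def v12931 : LQ := Led Lsl_ct (LP (LK LD1_c4 LD2_c34 LD3_c45))
theorem f699664 : Led Lsl_ct (LP (LK LD1_c4 LD2_c34 LD3_c45)) = v12931 :=
  Lrfl
theorem f699665 : Led Lsl_cf (LP (LK LD1_c4 LD2_c34 LD3_c45)) = v12931 :=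
  Lgr Lrot11 (Lpr_ct (f699664 IH) (Lpn v12931))
theorem f744455 : Led Lsl_ff v12931 = v15967 :=
  Lgr Lrot23 (Lpe (f699665 IH) (Lpr_ft (f615680 IH) (Lpr_ct (f744454 IH) (Lpn v15967))))
theorem f744456 : Led Lsl_ft v12931 = v15967 :=
  Lgr Lrot48 (Lpr_ff (f744455 IH) (Lpn v15967))
theorem f750392 : Led Lsl_gf v15921 = v12931 :=
  Lgr Lrot47 (Lpr_gt (f750391 IH) (Lpr_af (f744450 IH) (Lpe (f744456 IH) (Lpn v12931))))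
theorem f901616 : Led Lsl_bt K66.v16320 = v38368 :=
  Lgr Lrot92 (Lpe (K66.f825716 IH) (Lpr_gt (K66.f744687 IH) (Lpe (K66.f744678 IH) (Lpr_bt (K66.f163606 IH) (Lpr_gt (K66.f163609 IH) (Lpr_ct (f699664 IH) (Lpe (f750392 IH) (Lpe (f744219 IH) (Lpe (f613137 IH) (Lpr_gt (f901614 IH) (Lpn v38368)))))))))))
theorem f853461 : Led Lsl_ft K66.v16320 = (LP (LK LD1_c11 LD2_c40 LD3_c31)) :=
  Lgr Lrot48 (Lpr_ff (K66.f853459 IH) (Lpn (LP (LK LD1_c11 LD2_c40 LD3_c31))))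
theorem f747081 : Led Lsl_af (LP (LK LD1_c11 LD2_c40 LD3_c33)) = K55.v16218 :=
  Lgr Lrot36 (Lpr_bt (K40.f425970 IH) (Lpr_at (K24.f426140 IH) (Lpr_bt (K55.f426134 IH) (Lpr_at (K55.f641253 IH) (Lpqs (K55.f643432 IH) (Lpr_bt (K55.f747080 IH) (Lpn K55.v16218)))))))
theorem f748443 : Led Lsl_gf (LP (LK LD1_c11 LD2_c40 LD3_c33)) = K66.v16320 :=
  Lgr Lrot76 (Lpr_af (f747081 IH) (Lpe (K55.f747088 IH) (Lpr_gt (K66.f748442 IH) (Lpn K66.v16320))))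
theorem f853462 : Led Lsl_af K66.v16321 = (LP (LK LD1_c11 LD2_c40 LD3_c31)) :=
  Lgr Lrot31 (Lpe (K66.f748447 IH) (Lpr_gf (f748443 IH) (Lpr_ft (f853461 IH) (Lpn (LP (LK LD1_c11 LD2_c40 LD3_c31))))))
theorem f853455 : Led Lsl_ft K66.v16321 = K66.v9675 :=
  Lgr Lrot48 (Lpr_ff (K66.f853444 IH) (Lpn K66.v9675))
theorem f853464 : Led Lsl_at K66.v9675 = K66.v16320 :=
  Lgr Lrot66 (Lpe (f853455 IH) (Lpr_af (f853462 IH) (Lpe (f853461 IH) (Lpn K66.v16320))))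
theorem f901617 : Led Lsl_af v28234 = v38368 :=
  Lgr Lrot36 (Lpe (f843316 IH) (Lpqs (K66.f853275 IH) (Lpe (K66.f677139 IH) (Lpr_bt (K66.f677142 IH) (Lpr_at (f853464 IH) (Lpr_bt (f901616 IH) (Lpn v38368)))))))
theorem f903264 : Led Lsl_ef v38368 = v38610 :=
  Lgr Lrot20 (Lpe (f901617 IH) (Lpq (f843328 IH) (Lpe (f700137 IH) (Lpr_at (f903263 IH) (Lpn v38610)))))
theorem f901618 : Led Lsl_bf K66.v16320 = v38368 :=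
  Lgr Lrot24 (Lpr_bt (f901616 IH) (Lpn v38368))
theorem f903265 : Led Lsl_bt (LP (LK LD1_c11 LD2_c44 LD3_c42)) = v38610 :=
  Lgr Lrot119 (Lpr_ef (f748445 IH) (Lpr_bf (f901618 IH) (Lpr_ef (f903264 IH) (Lpn v38610))))
theorem f965239 : Led Lsl_gt v28166 = v48378 :=
  Lgr Lrot65 (Lpe (f843108 IH) (Lpr_bt (f903265 IH) (Lpe (f903262 IH) (Lpe (f443721 IH) (Lpr_ct (f750287 IH) (Lpe (f750292 IH) (Lpe (f647901 IH) (Lpe (K35.f438505 IH) (Lpe (K55.f710444 IH) (Lpr_ct (f965238 IH) (Lpn v48378)))))))))))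
theorem f965235 : Led Lsl_cf (LP (LK LD1_c11 LD2_c30 LD3_c5)) = v48378 :=
  Lgr Lrot39 (Lpr_et (K55.f157945 IH) (Lpr_ct (K54.f428756 IH) (Lpr_et (f965233 IH) (Lpn v48378))))
def v48398 : LQ := Led Lsl_ct (LP (LK LD1_c11 LD2_c30 LD3_c23))
theorem f965357 : Led Lsl_ct (LP (LK LD1_c11 LD2_c30 LD3_c23)) = v48398 :=
  Lrfl
theorem f965359 : Led Lsl_cf (LP (LK LD1_c11 LD2_c30 LD3_c23)) = v48398 :=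
  Lgr Lrot11 (Lpr_ct (f965357 IH) (Lpn v48398))
theorem f970943 : Led Lsl_gf v48398 = v49431 :=
  Lgr Lrot104 (Lpe (f965359 IH) (Lpe (K55.f710452 IH) (Lpr_cf (f965235 IH) (Lpe (f965239 IH) (Lpe (f843108 IH) (Lpe (K66.f853489 IH) (Lpe (f853515 IH) (Lpr_gt (f559394 IH) (Lpr_ct (f970941 IH) (Lpn v49431))))))))))
def v16030 : LQ := Led Lsl_ct (LP (LK LD1_c5 LD2_c51 LD3_c52))
theorem f744904 : Led Lsl_ct (LP (LK LD1_c5 LD2_c51 LD3_c52)) = v16030 :=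
  Lrfl
theorem f971107 : Led Lsl_gt v16030 = v49473 :=
  Lgr Lrot65 (Lpe (f744904 IH) (Lpr_bt (K45.f535791 IH) (Lpe (K41.f535799 IH) (Lpe (K55.f710432 IH) (Lpr_ct (f965357 IH) (Lpr_gf (f970943 IH) (Lpe (f970941 IH) (Lpe (f559394 IH) (Lpr_bf (f853507 IH) (Lpr_ct (f971102 IH) (Lpn v49473)))))))))))
theorem f744905 : Led Lsl_cf (LP (LK LD1_c5 LD2_c51 LD3_c52)) = v16030 :=
  Lgr Lrot11 (Lpr_ct (f744904 IH) (Lpn v16030))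
theorem f719168 : Led Lsl_at (LP (LK LD1_c5 LD2_c50 LD3_c35)) = K53.v14128 :=
  Lgr Lrot66 (Lpe (K35.f506163 IH) (Lpe (K35.f505055 IH) (Lpr_ff (K53.f719167 IH) (Lpn K53.v14128))))
theorem f719179 : Led Lsl_gt (LP (LK LD1_c12 LD2_c17 LD3_c7)) = K53.v14128 :=
  Lgr Lrot46 (Lpe (K52.f506167 IH) (Lpr_ft (K35.f506163 IH) (Lpr_at (f719168 IH) (Lpn K53.v14128))))
theorem f719166 : Led Lsl_df (LP (LK LD1_c4 LD2_c59 LD3_c36)) = K53.v14128 :=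
  Lgr Lrot38 (Lpr_dt (K53.f719164 IH) (Lpn K53.v14128))
theorem f615231 : Led Lsl_dt (LP (LK LD1_c18 LD2_c0 LD3_c11)) = (LP (LK LD1_c9 LD2_c49 LD3_c38)) :=
  Lre_d IH (LK LD1_c18 LD2_c0 LD3_c11) (LK LD1_c9 LD2_c49 LD3_c38) Lrfl Lrfl
theorem f452705 : Led Lsl_dt (LP (LK LD1_c11 LD2_c29 LD3_c0)) = (LP (LK LD1_c5 LD2_c50 LD3_c34)) :=
  Lre_d IH (LK LD1_c11 LD2_c29 LD3_c0) (LK LD1_c5 LD2_c50 LD3_c34) Lrfl Lrfl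
theorem f615237 : Led Lsl_dt (LP (LK LD1_c9 LD2_c49 LD3_c38)) = (LP (LK LD1_c18 LD2_c0 LD3_c11)) :=
  Lre_d IH (LK LD1_c9 LD2_c49 LD3_c38) (LK LD1_c18 LD2_c0 LD3_c11) Lrfl Lrfl
theorem f615238 : Led Lsl_af (LP (LK LD1_c11 LD2_c29 LD3_c0)) = (LP (LK LD1_c18 LD2_c0 LD3_c11)) :=
  Lgr Lrot117 (Lpr_dt (f452705 IH) (Lpr_at (K42.f615232 IH) (Lpr_dt (f615237 IH) (Lpn (LP (LK LD1_c18 LD2_c0 LD3_c11))))))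
theorem f615240 : Led Lsl_at (LP (LK LD1_c11 LD2_c29 LD3_c0)) = (LP (LK LD1_c18 LD2_c0 LD3_c11)) :=
  Lgr Lrot100 (Lpr_af (f615238 IH) (Lpn (LP (LK LD1_c18 LD2_c0 LD3_c11))))
theorem f435559 : Led Lsl_dt (LP (LK LD1_c6 LD2_c21 LD3_c28)) = (LP (LK LD1_c3 LD2_c8 LD3_c26)) :=
  Lre_d IH (LK LD1_c6 LD2_c21 LD3_c28) (LK LD1_c3 LD2_c8 LD3_c26) Lrfl Lrfl
theorem f500116 : Led Lsl_dt (LP (LK LD1_c4 LD2_c42 LD3_c7)) = (LP (LK LD1_c9 LD2_c18 LD3_c36)) :=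
  Lre_d IH (LK LD1_c4 LD2_c42 LD3_c7) (LK LD1_c9 LD2_c18 LD3_c36) Lrfl Lrfl
theorem f506131 : Led Lsl_ff (LP (LK LD1_c6 LD2_c21 LD3_c28)) = (LP (LK LD1_c9 LD2_c18 LD3_c36)) :=
  Lgr Lrot19 (Lpr_dt (f435559 IH) (Lpr_ft (K35.f506125 IH) (Lpr_dt (f500116 IH) (Lpn (LP (LK LD1_c9 LD2_c18 LD3_c36))))))
theorem f506134 : Led Lsl_bt (LP (LK LD1_c6 LD2_c21 LD3_c28)) = (LP (LK LD1_c12 LD2_c16 LD3_c51)) :=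
  Lre_b IH (LK LD1_c6 LD2_c21 LD3_c28) (LK LD1_c12 LD2_c16 LD3_c51) Lrfl Lrfl
theorem f500117 : Led Lsl_bt (LP (LK LD1_c9 LD2_c18 LD3_c36)) = (LP (LK LD1_c11 LD2_c29 LD3_c0)) :=
  Lgr Lrot95 (Lpe (f500116 IH) (Lpr_bf (K35.f500047 IH) (Lpe (f452705 IH) (Lpn (LP (LK LD1_c11 LD2_c29 LD3_c0))))))
theorem f500121 : Led Lsl_bf (LP (LK LD1_c9 LD2_c18 LD3_c36)) = (LP (LK LD1_c11 LD2_c29 LD3_c0)) :=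
  Lgr Lrot24 (Lpr_bt (f500117 IH) (Lpn (LP (LK LD1_c11 LD2_c29 LD3_c0))))
theorem f506135 : Led Lsl_ft (LP (LK LD1_c12 LD2_c16 LD3_c51)) = (LP (LK LD1_c11 LD2_c29 LD3_c0)) :=
  Lgr Lrot75 (Lpe (f506134 IH) (Lpr_ff (f506131 IH) (Lpr_bf (f500121 IH) (Lpn (LP (LK LD1_c11 LD2_c29 LD3_c0))))))
theorem f506151 : Led Lsl_gt (LP (LK LD1_c12 LD2_c16 LD3_c51)) = (LP (LK LD1_c21 LD2_c22 LD3_c4)) :=
  Lre_g IH (LK LD1_c12 LD2_c16 LD3_c51) (LK LD1_c21 LD2_c22 LD3_c4) Lrfl Lrfl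
theorem f615242 : Led Lsl_gt (LP (LK LD1_c21 LD2_c22 LD3_c4)) = (LP (LK LD1_c18 LD2_c0 LD3_c11)) :=
  Lgr Lrot46 (Lpe (f506151 IH) (Lpr_ft (f506135 IH) (Lpr_at (f615240 IH) (Lpn (LP (LK LD1_c18 LD2_c0 LD3_c11))))))
theorem f971109 : Led Lsl_df (LP (LK LD1_c21 LD2_c22 LD3_c4)) = v49473 :=
  Lgr Lrot153 (Lpr_gt (f615242 IH) (Lpr_dt (f615231 IH) (Lpe (K42.f615229 IH) (Lpr_df (f719166 IH) (Lpe (f719179 IH) (Lpe (K52.f706108 IH) (Lpe (K52.f535798 IH) (Lpr_cf (f744905 IH) (Lpr_gt (f971107 IH) (Lpn v49473))))))))))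
def v49472 : LQ := Led Lsl_ct (LP (LK LD1_c11 LD2_c45 LD3_c5))
theorem f971095 : Led Lsl_ct (LP (LK LD1_c11 LD2_c45 LD3_c5)) = v49472 :=
  Lrfl
theorem f971099 : Led Lsl_gf v16030 = v49472 :=
  Lgr Lrot104 (Lpe (f744905 IH) (Lpr_df (K45.f622572 IH) (Lpe (K55.f643288 IH) (Lpr_gf (K45.f502003 IH) (Lpe (K45.f56928 IH) (Lpr_gf (K45.f502735 IH) (Lpe (K45.f76139 IH) (Lpr_gt (K55.f75069 IH) (Lpr_ct (f971095 IH) (Lpn v49472))))))))))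
theorem f61458 : Led Lsl_bt (LP (LK LD1_c3 LD2_c2 LD3_c29)) = (LP (LK LD1_c4 LD2_c40 LD3_c50)) :=
  Lre_b IH (LK LD1_c3 LD2_c2 LD3_c29) (LK LD1_c4 LD2_c40 LD3_c50) Lrfl Lrfl
theorem f61457 : Led Lsl_gt (LP (LK LD1_c5 LD2_c47 LD3_c5)) = (LP (LK LD1_c11 LD2_c24 LD3_c17)) :=
  Lre_g IH (LK LD1_c5 LD2_c47 LD3_c5) (LK LD1_c11 LD2_c24 LD3_c17) Lrfl Lrfl
theorem f61460 : Led Lsl_ct (LP (LK LD1_c11 LD2_c24 LD3_c17)) = (LP (LK LD1_c20 LD2_c22 LD3_c0)) :=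
  Lre_c IH (LK LD1_c11 LD2_c24 LD3_c17) (LK LD1_c20 LD2_c22 LD3_c0) Lrfl Lrfl
theorem f61461 : Led Lsl_gt (LP (LK LD1_c20 LD2_c22 LD3_c0)) = (LP (LK LD1_c11 LD2_c24 LD3_c20)) :=
  Lre_g IH (LK LD1_c20 LD2_c22 LD3_c0) (LK LD1_c11 LD2_c24 LD3_c20) Lrfl Lrfl
theorem f714086 : Led Lsl_cf (LP (LK LD1_c11 LD2_c24 LD3_c20)) = (LP (LK LD1_c11 LD2_c20 LD3_c6)) :=
  Lgr Lrot163 (Lpe (f61461 IH) (Lpe (f61460 IH) (Lpe (f61457 IH) (Lpe (K45.f61440 IH) (Lpe (K45.f61441 IH) (Lpe (K45.f61454 IH) (Lpe (K60.f61455 IH) (Lpr_bt (f61458 IH) (Lpe (K55.f61459 IH) (Lpr_bf (K55.f714084 IH) (Lpn (LP (LK LD1_c11 LD2_c20 LD3_c6)))))))))))))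
theorem f714091 : Led Lsl_et (LP (LK LD1_c11 LD2_c24 LD3_c20)) = (LP (LK LD1_c20 LD2_c22 LD3_c9)) :=
  Lre_e IH (LK LD1_c11 LD2_c24 LD3_c20) (LK LD1_c20 LD2_c22 LD3_c9) Lrfl Lrfl
theorem f714092 : Led Lsl_ct (LP (LK LD1_c20 LD2_c22 LD3_c9)) = (LP (LK LD1_c17 LD2_c7 LD3_c57)) :=
  Lgr Lrot15 (Lpe (f714091 IH) (Lpr_cf (f714086 IH) (Lpe (K50.f643159 IH) (Lpn (LP (LK LD1_c17 LD2_c7 LD3_c57))))))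
theorem f971098 : Led Lsl_ff (LP (LK LD1_c20 LD2_c22 LD3_c9)) = v49472 :=
  Lgr Lrot23 (Lpr_ct (f714092 IH) (Lpe (K55.f740057 IH) (Lpr_ct (f971095 IH) (Lpn v49472))))
theorem f971108 : Led Lsl_at (LP (LK LD1_c20 LD2_c22 LD3_c9)) = v49473 :=
  Lgr Lrot26 (Lpr_ff (f971098 IH) (Lpe (f971099 IH) (Lpr_gt (f971107 IH) (Lpn v49473))))
def v48320 : LQ := Led Lsl_gf (LP (LK LD1_c11 LD2_c29 LD3_c0))
theorem f964604 : Led Lsl_gf (LP (LK LD1_c11 LD2_c29 LD3_c0)) = v48320 :=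
  Lrfl
theorem f452704 : Led Lsl_ct (LP (LK LD1_c5 LD2_c50 LD3_c34)) = (LP (LK LD1_c2 LD2_c51 LD3_c28)) :=
  Lre_c IH (LK LD1_c5 LD2_c50 LD3_c34) (LK LD1_c2 LD2_c51 LD3_c28) Lrfl Lrfl
theorem f918873 : Led Lsl_af (LP (LK LD1_c11 LD2_c24 LD3_c29)) = (LP (LK LD1_c20 LD2_c16 LD3_c38)) :=
  Lgr Lrot0 (Lpr_at (K71.f918871 IH) (Lpn (LP (LK LD1_c20 LD2_c16 LD3_c38))))
theorem f918902 : Led Lsl_gt (LP (LK LD1_c20 LD2_c22 LD3_c14)) = (LP (LK LD1_c11 LD2_c24 LD3_c29)) :=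
  Lgr Lrot46 (Lpe (K53.f104914 IH) (Lpr_ft (K71.f918894 IH) (Lpe (f918873 IH) (Lpn (LP (LK LD1_c11 LD2_c24 LD3_c29))))))
theorem f720543 : Led Lsl_gf (LP (LK LD1_c12 LD2_c25 LD3_c36)) = (LP (LK LD1_c9 LD2_c50 LD3_c34)) :=
  Lgr Lrot76 (Lpe (K53.f623442 IH) (Lpr_ff (K53.f623440 IH) (Lpr_gt (K53.f720540 IH) (Lpn (LP (LK LD1_c9 LD2_c50 LD3_c34))))))
theorem f720542 : Led Lsl_et (LP (LK LD1_c5 LD2_c0 LD3_c0)) = (LP (LK LD1_c9 LD2_c50 LD3_c34)) :=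
  Lre_e IH (LK LD1_c5 LD2_c0 LD3_c0) (LK LD1_c9 LD2_c50 LD3_c34) Lrfl Lrfl
theorem f918906 : Led Lsl_gf (LP (LK LD1_c11 LD2_c30 LD3_c60)) = (LP (LK LD1_c11 LD2_c24 LD3_c30)) :=
  Lgr Lrot141 (Lpe (K42.f622888 IH) (Lpr_dt (K42.f416533 IH) (Lpr_gt (K66.f782144 IH) (Lpqs (K66.f871487 IH) (Lpe (K66.f73774 IH) (Lpr_et (f720542 IH) (Lpe (f720543 IH) (Lpe (K53.f669347 IH) (Lpr_gt (f918902 IH) (Lpe (K71.f74431 IH) (Lpr_et (K75.f719177 IH) (Lpn (LP (LK LD1_c11 LD2_c24 LD3_c30))))))))))))))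
theorem f643200 : Led Lsl_af (LP (LK LD1_c11 LD2_c30 LD3_c60)) = (LP (LK LD1_c17 LD2_c58 LD3_c12)) :=
  Lgr Lrot0 (Lpr_at (K52.f643190 IH) (Lpn (LP (LK LD1_c17 LD2_c58 LD3_c12))))
theorem f918908 : Led Lsl_gt (LP (LK LD1_c9 LD2_c47 LD3_c58)) = (LP (LK LD1_c11 LD2_c24 LD3_c30)) :=
  Lgr Lrot5 (Lpr_ft (K55.f643113 IH) (Lpe (f643200 IH) (Lpr_gf (f918906 IH) (Lpn (LP (LK LD1_c11 LD2_c24 LD3_c30))))))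
def v40852 : LQ := Led Lsl_ct (LP (LK LD1_c9 LD2_c47 LD3_c58))
theorem f920702 : Led Lsl_ct (LP (LK LD1_c9 LD2_c47 LD3_c58)) = v40852 :=
  Lrfl
theorem f614938 : Led Lsl_gt (LP (LK LD1_c20 LD2_c51 LD3_c22)) = (LP (LK LD1_c20 LD2_c34 LD3_c12)) :=
  Lgr Lrot5 (Lpr_ft (K50.f614928 IH) (Lpe (K69.f614934 IH) (Lpe (K70.f435629 IH) (Lpn (LP (LK LD1_c20 LD2_c34 LD3_c12))))))
def v38893 : LQ := Led Lsl_et (LP (LK LD1_c9 LD2_c17 LD3_c5))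
theorem f905183 : Led Lsl_et (LP (LK LD1_c9 LD2_c17 LD3_c5)) = v38893 :=
  Lrfl
theorem f75871 : Led Lsl_dt (LP (LK LD1_c5 LD2_c59 LD3_c60)) = (LP (LK LD1_c11 LD2_c44 LD3_c28)) :=
  Lre_d IH (LK LD1_c5 LD2_c59 LD3_c60) (LK LD1_c11 LD2_c44 LD3_c28) Lrfl Lrfl
theorem f643499 : Led Lsl_df (LP (LK LD1_c9 LD2_c29 LD3_c54)) = (LP (LK LD1_c11 LD2_c41 LD3_c29)) :=
  Lgr Lrot78 (Lpr_ft (K46.f643493 IH) (Lpr_dt (K45.f559452 IH) (Lpr_ft (K65.f641301 IH) (Lpn (LP (LK LD1_c11 LD2_c41 LD3_c29))))))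
theorem f905189 : Led Lsl_gf (LP (LK LD1_c11 LD2_c41 LD3_c29)) = v38893 :=
  Lgr Lrot138 (Lpe (f643499 IH) (Lpr_gt (K52.f559438 IH) (Lpe (K50.f500825 IH) (Lpr_et (K37.f501939 IH) (Lpr_gt (K48.f502750 IH) (Lpe (K53.f75870 IH) (Lpr_dt (f75871 IH) (Lpr_gt (K69.f714081 IH) (Lpe (K55.f714079 IH) (Lpr_et (f905183 IH) (Lpn v38893)))))))))))
theorem f905188 : Led Lsl_ff (LP (LK LD1_c11 LD2_c20 LD3_c4)) = v38893 :=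
  Lgr Lrot72 (Lpr_et (K50.f616285 IH) (Lpe (K55.f739998 IH) (Lpr_et (K51.f74600 IH) (Lpr_ft (K55.f701489 IH) (Lpqs (K55.f740079 IH) (Lpr_et (f905183 IH) (Lpn v38893)))))))
theorem f714070 : Led Lsl_et (LP (LK LD1_c11 LD2_c45 LD3_c5)) = (LP (LK LD1_c11 LD2_c19 LD3_c58)) :=
  Lgr Lrot87 (Lpr_ef (K55.f713986 IH) (Lpn (LP (LK LD1_c11 LD2_c19 LD3_c58))))
theorem f714073 : Led Lsl_bf (LP (LK LD1_c11 LD2_c45 LD3_c5)) = (LP (LK LD1_c11 LD2_c20 LD3_c4)) :=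
  Lgr Lrot96 (Lpr_et (f714070 IH) (Lpr_bt (K52.f642126 IH) (Lpr_et (K50.f502748 IH) (Lpn (LP (LK LD1_c11 LD2_c20 LD3_c4))))))
theorem f905192 : Led Lsl_bt (LP (LK LD1_c17 LD2_c7 LD3_c57)) = v38893 :=
  Lgr Lrot35 (Lpe (K55.f740059 IH) (Lpr_bf (f714073 IH) (Lpr_ff (f905188 IH) (Lpn v38893))))
theorem f714094 : Led Lsl_cf (LP (LK LD1_c20 LD2_c22 LD3_c9)) = (LP (LK LD1_c17 LD2_c7 LD3_c57)) :=
  Lgr Lrot11 (Lpr_ct (f714092 IH) (Lpn (LP (LK LD1_c17 LD2_c7 LD3_c57))))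
theorem f920706 : Led Lsl_gf (LP (LK LD1_c20 LD2_c22 LD3_c9)) = v40852 :=
  Lgr Lrot129 (Lpr_cf (f714094 IH) (Lpr_bt (f905192 IH) (Lpe (f905189 IH) (Lpe (K50.f643423 IH) (Lpr_ct (K50.f420491 IH) (Lpr_gt (f614938 IH) (Lpr_cf (K70.f643206 IH) (Lpr_bt (K70.f643115 IH) (Lpr_gt (K66.f643114 IH) (Lpr_ct (f920702 IH) (Lpn v40852)))))))))))
theorem f964606 : Led Lsl_dt (LP (LK LD1_c20 LD2_c22 LD3_c9)) = v48320 :=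
  Lgr Lrot57 (Lpr_gf (f920706 IH) (Lpe (f920702 IH) (Lpr_gt (f918908 IH) (Lpr_dt (K65.f719173 IH) (Lpr_gt (K53.f500120 IH) (Lpr_dt (K35.f500046 IH) (Lpe (f452704 IH) (Lpe (f452705 IH) (Lpr_gf (f964604 IH) (Lpn v48320))))))))))
theorem f964607 : Led Lsl_df (LP (LK LD1_c20 LD2_c22 LD3_c9)) = v48320 :=
  Lgr Lrot38 (Lpr_dt (f964606 IH) (Lpn v48320))
theorem f971110 : Led Lsl_at (LP (LK LD1_c21 LD2_c22 LD3_c4)) = v48320 :=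
  Lgr Lrot51 (Lpr_df (f971109 IH) (Lpe (f971108 IH) (Lpr_df (f964607 IH) (Lpn v48320))))
theorem f559434 : Led Lsl_dt (LP (LK LD1_c11 LD2_c45 LD3_c14)) = (LP (LK LD1_c20 LD2_c46 LD3_c30)) :=
  Lre_d IH (LK LD1_c11 LD2_c45 LD3_c14) (LK LD1_c20 LD2_c46 LD3_c30) Lrfl Lrfl
theorem f438509 : Led Lsl_dt (LP (LK LD1_c12 LD2_c16 LD3_c51)) = (LP (LK LD1_c6 LD2_c21 LD3_c27)) :=
  Lre_d IH (LK LD1_c12 LD2_c16 LD3_c51) (LK LD1_c6 LD2_c21 LD3_c27) Lrfl Lrfl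
theorem f643970 : Led Lsl_at (LP (LK LD1_c20 LD2_c46 LD3_c30)) = (LP (LK LD1_c12 LD2_c16 LD3_c51)) :=
  Lgr Lrot51 (Lpe (f559434 IH) (Lpr_af (K50.f643964 IH) (Lpe (f438509 IH) (Lpn (LP (LK LD1_c12 LD2_c16 LD3_c51))))))
theorem f644107 : Led Lsl_ff (LP (LK LD1_c20 LD2_c46 LD3_c30)) = (LP (LK LD1_c18 LD2_c0 LD3_c11)) :=
  Lgr Lrot30 (Lpr_at (f643970 IH) (Lpr_ft (f506135 IH) (Lpr_at (f615240 IH) (Lpn (LP (LK LD1_c18 LD2_c0 LD3_c11))))))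
theorem f644109 : Led Lsl_ft (LP (LK LD1_c20 LD2_c46 LD3_c30)) = (LP (LK LD1_c18 LD2_c0 LD3_c11)) :=
  Lgr Lrot48 (Lpr_ff (f644107 IH) (Lpn (LP (LK LD1_c18 LD2_c0 LD3_c11))))
theorem f964605 : Led Lsl_gt (LP (LK LD1_c20 LD2_c46 LD3_c30)) = v48320 :=
  Lgr Lrot5 (Lpr_ft (f644109 IH) (Lpe (f615238 IH) (Lpr_gf (f964604 IH) (Lpn v48320))))
theorem f644105 : Led Lsl_af (LP (LK LD1_c20 LD2_c46 LD3_c30)) = (LP (LK LD1_c12 LD2_c16 LD3_c51)) :=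
  Lgr Lrot0 (Lpr_at (f643970 IH) (Lpn (LP (LK LD1_c12 LD2_c16 LD3_c51))))
theorem f506149 : Led Lsl_ff (LP (LK LD1_c12 LD2_c16 LD3_c51)) = (LP (LK LD1_c11 LD2_c29 LD3_c0)) :=
  Lgr Lrot3 (Lpr_ft (f506135 IH) (Lpn (LP (LK LD1_c11 LD2_c29 LD3_c0))))
theorem f500126 : Led Lsl_gt (LP (LK LD1_c11 LD2_c29 LD3_c0)) = (LP (LK LD1_c20 LD2_c26 LD3_c14)) :=
  Lre_g IH (LK LD1_c11 LD2_c29 LD3_c0) (LK LD1_c20 LD2_c26 LD3_c14) Lrfl Lrfl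
theorem f644117 : Led Lsl_gf (LP (LK LD1_c20 LD2_c46 LD3_c30)) = (LP (LK LD1_c20 LD2_c26 LD3_c14)) :=
  Lgr Lrot76 (Lpr_af (f644105 IH) (Lpr_ff (f506149 IH) (Lpr_gt (f500126 IH) (Lpn (LP (LK LD1_c20 LD2_c26 LD3_c14))))))
theorem f971112 : Led Lsl_ff (LP (LK LD1_c21 LD2_c22 LD3_c4)) = (LP (LK LD1_c20 LD2_c26 LD3_c14)) :=
  Lgr Lrot52 (Lpr_at (f971110 IH) (Lpe (f964605 IH) (Lpr_gf (f644117 IH) (Lpn (LP (LK LD1_c20 LD2_c26 LD3_c14))))))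
theorem f971113 : Led Lsl_ft (LP (LK LD1_c20 LD2_c26 LD3_c14)) = (LP (LK LD1_c21 LD2_c22 LD3_c4)) :=
  Leop (Lpr_ff (f971112 IH) (Lpn (LP (LK LD1_c20 LD2_c26 LD3_c14))))
theorem seed_2976 : LEOK LG_f (LK LD1_c20 LD2_c26 LD3_c14) :=
  Leoe_f (LK LD1_c20 LD2_c26 LD3_c14) (f971113 IH)
def v49574 : LQ := Led Lsl_ft (LP (LK LD1_c11 LD2_c46 LD3_c4))
theorem f971571 : Led Lsl_ft (LP (LK LD1_c11 LD2_c46 LD3_c4)) = v49574 :=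
  Lrfl
theorem f971399 : Led Lsl_gt (LP (LK LD1_c11 LD2_c46 LD3_c4)) = (LP (LK LD1_c20 LD2_c47 LD3_c36)) :=
  Lre_g IH (LK LD1_c11 LD2_c46 LD3_c4) (LK LD1_c20 LD2_c47 LD3_c36) Lrfl Lrfl
def v49573 : LQ := Led Lsl_at (LP (LK LD1_c11 LD2_c46 LD3_c4))
theorem f971561 : Led Lsl_at (LP (LK LD1_c11 LD2_c46 LD3_c4)) = v49573 :=
  Lrfl
theorem f971562 : Led Lsl_af (LP (LK LD1_c11 LD2_c46 LD3_c4)) = v49573 :=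
  Lgr Lrot0 (Lpr_at (f971561 IH) (Lpn v49573))
theorem f446341 : Led Lsl_dt (LP (LK LD1_c6 LD2_c0 LD3_c49)) = (LP (LK LD1_c11 LD2_c46 LD3_c4)) :=
  Lre_d IH (LK LD1_c6 LD2_c0 LD3_c49) (LK LD1_c11 LD2_c46 LD3_c4) Lrfl Lrfl
def v16437 : LQ := Led Lsl_at (LP (LK LD1_c6 LD2_c0 LD3_c49))
theorem f749341 : Led Lsl_at (LP (LK LD1_c6 LD2_c0 LD3_c49)) = v16437 :=
  Lrfl
theorem f749342 : Led Lsl_af (LP (LK LD1_c6 LD2_c0 LD3_c49)) = v16437 :=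
  Lgr Lrot0 (Lpr_at (f749341 IH) (Lpn v16437))
theorem f971563 : Led Lsl_df v16437 = v49573 :=
  Lgr Lrot18 (Lpe (f749342 IH) (Lpr_dt (f446341 IH) (Lpr_at (f971561 IH) (Lpn v49573))))
theorem f75346 : Led Lsl_gt (LP (LK LD1_c2 LD2_c56 LD3_c41)) = (LP (LK LD1_c6 LD2_c0 LD3_c49)) :=
  Lre_g IH (LK LD1_c2 LD2_c56 LD3_c41) (LK LD1_c6 LD2_c0 LD3_c49) Lrfl Lrfl
theorem f446392 : Led Lsl_gt (LP (LK LD1_c6 LD2_c0 LD3_c50)) = (LP (LK LD1_c2 LD2_c56 LD3_c41)) :=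
  Lre_g IH (LK LD1_c6 LD2_c0 LD3_c50) (LK LD1_c2 LD2_c56 LD3_c41) Lrfl Lrfl
theorem f749348 : Led Lsl_ft (LP (LK LD1_c6 LD2_c0 LD3_c50)) = v16437 :=
  Lgr Lrot2 (Lpr_gt (f446392 IH) (Lpr_gt (f75346 IH) (Lpr_af (f749342 IH) (Lpn v16437))))
theorem f749353 : Led Lsl_ff (LP (LK LD1_c6 LD2_c0 LD3_c50)) = v16437 :=
  Lgr Lrot3 (Lpr_ft (f749348 IH) (Lpn v16437))
theorem f749349 : Led Lsl_dt (LP (LK LD1_c6 LD2_c0 LD3_c50)) = (LP (LK LD1_c11 LD2_c46 LD3_c7)) :=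
  Lre_d IH (LK LD1_c6 LD2_c0 LD3_c50) (LK LD1_c11 LD2_c46 LD3_c7) Lrfl Lrfl
theorem f971565 : Led Lsl_ft (LP (LK LD1_c11 LD2_c46 LD3_c7)) = v49573 :=
  Lgr Lrot54 (Lpe (f749349 IH) (Lpr_ff (f749353 IH) (Lpr_df (f971563 IH) (Lpn v49573))))
theorem f971572 : Led Lsl_af (LP (LK LD1_c11 LD2_c46 LD3_c7)) = v49574 :=
  Lgr Lrot45 (Lpr_ft (f971565 IH) (Lpe (f971562 IH) (Lpr_ft (f971571 IH) (Lpn v49574))))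
theorem f971576 : Led Lsl_gt (LP (LK LD1_c20 LD2_c47 LD3_c36)) = (LP (LK LD1_c11 LD2_c46 LD3_c7)) :=
  Lgr Lrot46 (Lpe (f971399 IH) (Lpr_ft (f971571 IH) (Lpe (f971572 IH) (Lpn (LP (LK LD1_c11 LD2_c46 LD3_c7))))))
theorem f971577 : Led Lsl_gt (LP (LK LD1_c20 LD2_c47 LD3_c36)) = (LP (LK LD1_c11 LD2_c46 LD3_c7)) :=
  Leop (Lpe (f971576 IH) (Lpn (LP (LK LD1_c20 LD2_c47 LD3_c36))))
theorem seed_2977 : LEOK LG_g (LK LD1_c20 LD2_c47 LD3_c36) :=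
  Leoe_g (LK LD1_c20 LD2_c47 LD3_c36) (f971577 IH)
def v49595 : LQ := Led Lsl_ct (LP (LK LD1_c11 LD2_c46 LD3_c17))
theorem f971672 : Led Lsl_ct (LP (LK LD1_c11 LD2_c46 LD3_c17)) = v49595 :=
  Lrfl
theorem f641474 : Led Lsl_dt (LP (LK LD1_c6 LD2_c0 LD3_c54)) = (LP (LK LD1_c2 LD2_c56 LD3_c42)) :=
  Lre_d IH (LK LD1_c6 LD2_c0 LD3_c54) (LK LD1_c2 LD2_c56 LD3_c42) Lrfl Lrfl
theorem f75293 : Led Lsl_dt (LP (LK LD1_c5 LD2_c59 LD3_c26)) = (LP (LK LD1_c11 LD2_c43 LD3_c30)) :=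
  Lre_d IH (LK LD1_c5 LD2_c59 LD3_c26) (LK LD1_c11 LD2_c43 LD3_c30) Lrfl Lrfl
theorem f641619 : Led Lsl_dt (LP (LK LD1_c11 LD2_c19 LD3_c49)) = (LP (LK LD1_c20 LD2_c16 LD3_c57)) :=
  Lre_d IH (LK LD1_c11 LD2_c19 LD3_c49) (LK LD1_c20 LD2_c16 LD3_c57) Lrfl Lrfl
theorem f641620 : Led Lsl_gt (LP (LK LD1_c20 LD2_c16 LD3_c56)) = (LP (LK LD1_c11 LD2_c19 LD3_c49)) :=
  Lre_g IH (LK LD1_c20 LD2_c16 LD3_c56) (LK LD1_c11 LD2_c19 LD3_c49) Lrfl Lrfl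
theorem f971674 : Led Lsl_gf (LP (LK LD1_c11 LD2_c46 LD3_c54)) = v49595 :=
  Lgr Lrot148 (Lpr_dt (K41.f642030 IH) (Lpr_gt (f641620 IH) (Lpr_dt (f641619 IH) (Lpr_ct (K55.f641527 IH) (Lpe (f75293 IH) (Lpe (K52.f75296 IH) (Lpe (f641474 IH) (Lpe (K56.f641489 IH) (Lpr_ct (f971672 IH) (Lpn v49595))))))))))
def v49355 : LQ := Led Lsl_ct (LP (LK LD1_c11 LD2_c43 LD3_c35))
theorem f970522 : Led Lsl_ct (LP (LK LD1_c11 LD2_c43 LD3_c35)) = v49355 :=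
  Lrfl
theorem f720015 : Led Lsl_at (LP (LK LD1_c6 LD2_c1 LD3_c22)) = (LP (LK LD1_c11 LD2_c43 LD3_c42)) :=
  Lgr Lrot100 (Lpr_af (K53.f720013 IH) (Lpn (LP (LK LD1_c11 LD2_c43 LD3_c42))))
theorem f720370 : Led Lsl_at (LP (LK LD1_c6 LD2_c1 LD3_c7)) = (LP (LK LD1_c11 LD2_c43 LD3_c35)) :=
  Lgr Lrot66 (Lpr_ff (K53.f720003 IH) (Lpe (f720015 IH) (Lpr_ff (K55.f720368 IH) (Lpn (LP (LK LD1_c11 LD2_c43 LD3_c35))))))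
theorem f970523 : Led Lsl_af (LP (LK LD1_c11 LD2_c46 LD3_c54)) = v49355 :=
  Lgr Lrot68 (Lpr_ct (K53.f500849 IH) (Lpr_at (f720370 IH) (Lpr_ct (f970522 IH) (Lpn v49355))))
theorem f970525 : Led Lsl_ff (LP (LK LD1_c11 LD2_c47 LD3_c22)) = v49355 :=
  Lgr Lrot23 (Lpr_ct (K53.f500868 IH) (Lpr_ft (K55.f720376 IH) (Lpr_ct (f970522 IH) (Lpn v49355))))
theorem f970526 : Led Lsl_ft (LP (LK LD1_c11 LD2_c47 LD3_c22)) = v49355 :=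
  Lgr Lrot48 (Lpr_ff (f970525 IH) (Lpn v49355))
theorem f971676 : Led Lsl_gt (LP (LK LD1_c11 LD2_c47 LD3_c22)) = v49595 :=
  Lgr Lrot5 (Lpr_ft (f970526 IH) (Lpe (f970523 IH) (Lpr_gf (f971674 IH) (Lpn v49595))))
theorem f715420 : Led Lsl_bt (LP (LK LD1_c20 LD2_c48 LD3_c53)) = (LP (LK LD1_c11 LD2_c46 LD3_c52)) :=
  Lre_b IH (LK LD1_c20 LD2_c48 LD3_c53) (LK LD1_c11 LD2_c46 LD3_c52) Lrfl Lrfl
theorem f715428 : Led Lsl_ct (LP (LK LD1_c20 LD2_c48 LD3_c53)) = (LP (LK LD1_c29 LD2_c40 LD3_c51)) :=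
  Lre_c IH (LK LD1_c20 LD2_c48 LD3_c53) (LK LD1_c29 LD2_c40 LD3_c51) Lrfl Lrfl
theorem f761431 : Led Lsl_bt (LP (LK LD1_c17 LD2_c26 LD3_c22)) = (LP (LK LD1_c9 LD2_c27 LD3_c26)) :=
  Lre_b IH (LK LD1_c17 LD2_c26 LD3_c22) (LK LD1_c9 LD2_c27 LD3_c26) Lrfl Lrfl
theorem f837905 : Led Lsl_ct (LP (LK LD1_c17 LD2_c26 LD3_c22)) = (LP (LK LD1_c27 LD2_c16 LD3_c5)) :=
  Lre_c IH (LK LD1_c17 LD2_c26 LD3_c22) (LK LD1_c27 LD2_c16 LD3_c5) Lrfl Lrfl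
theorem f971677 : Led Lsl_gf (LP (LK LD1_c29 LD2_c40 LD3_c51)) = (LP (LK LD1_c27 LD2_c16 LD3_c5)) :=
  Lgr Lrot126 (Lpe (f715428 IH) (Lpr_bt (f715420 IH) (Lpe (K53.f720017 IH) (Lpr_ct (K53.f641549 IH) (Lpr_gt (f971676 IH) (Lpe (f971672 IH) (Lpe (K70.f904948 IH) (Lpr_gt (K70.f703334 IH) (Lpe (f761431 IH) (Lpr_ct (f837905 IH) (Lpn (LP (LK LD1_c27 LD2_c16 LD3_c5)))))))))))))
theorem f971678 : Led Lsl_gt (LP (LK LD1_c27 LD2_c16 LD3_c5)) = (LP (LK LD1_c29 LD2_c40 LD3_c51)) :=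
  Leop (Lpr_gf (f971677 IH) (Lpn (LP (LK LD1_c27 LD2_c16 LD3_c5))))
theorem seed_2978 : LEOK LG_g (LK LD1_c27 LD2_c16 LD3_c5) :=
  Leoe_g (LK LD1_c27 LD2_c16 LD3_c5) (f971678 IH)
theorem f715431 : Led Lsl_ct (LP (LK LD1_c29 LD2_c40 LD3_c51)) = (LP (LK LD1_c20 LD2_c48 LD3_c53)) :=
  Lre_c IH (LK LD1_c29 LD2_c40 LD3_c51) (LK LD1_c20 LD2_c48 LD3_c53) Lrfl Lrfl
theorem f643007 : Led Lsl_bt (LP (LK LD1_c20 LD2_c43 LD3_c1)) = (LP (LK LD1_c11 LD2_c42 LD3_c36)) :=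
  Lre_b IH (LK LD1_c20 LD2_c43 LD3_c1) (LK LD1_c11 LD2_c42 LD3_c36) Lrfl Lrfl
theorem f715414 : Led Lsl_bt (LP (LK LD1_c11 LD2_c46 LD3_c52)) = (LP (LK LD1_c20 LD2_c48 LD3_c53)) :=
  Lre_b IH (LK LD1_c11 LD2_c46 LD3_c52) (LK LD1_c20 LD2_c48 LD3_c53) Lrfl Lrfl
theorem f715415 : Led Lsl_df (LP (LK LD1_c20 LD2_c43 LD3_c1)) = (LP (LK LD1_c20 LD2_c48 LD3_c53)) :=
  Lgr Lrot12 (Lpr_bt (f643007 IH) (Lpr_dt (K53.f715412 IH) (Lpr_bt (f715414 IH) (Lpn (LP (LK LD1_c20 LD2_c48 LD3_c53))))))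
def v48500 : LQ := Led Lsl_et (LP (LK LD1_c11 LD2_c31 LD3_c27))
theorem f965971 : Led Lsl_et (LP (LK LD1_c11 LD2_c31 LD3_c27)) = v48500 :=
  Lrfl
theorem f622554 : Led Lsl_bt (LP (LK LD1_c11 LD2_c31 LD3_c27)) = (LP (LK LD1_c5 LD2_c52 LD3_c28)) :=
  Lre_b IH (LK LD1_c11 LD2_c31 LD3_c27) (LK LD1_c5 LD2_c52 LD3_c28) Lrfl Lrfl
theorem f642993 : Led Lsl_bt (LP (LK LD1_c5 LD2_c59 LD3_c2)) = (LP (LK LD1_c11 LD2_c42 LD3_c34)) :=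
  Lre_b IH (LK LD1_c5 LD2_c59 LD3_c2) (LK LD1_c11 LD2_c42 LD3_c34) Lrfl Lrfl
theorem f642994 : Led Lsl_cf (LP (LK LD1_c11 LD2_c31 LD3_c27)) = (LP (LK LD1_c11 LD2_c42 LD3_c34)) :=
  Lgr Lrot97 (Lpr_bt (f622554 IH) (Lpr_ct (K75.f22601 IH) (Lpr_bt (K53.f622555 IH) (Lpr_ct (K53.f642988 IH) (Lpr_bt (f642993 IH) (Lpn (LP (LK LD1_c11 LD2_c42 LD3_c34))))))))
theorem f643024 : Led Lsl_et (LP (LK LD1_c20 LD2_c43 LD3_c1)) = (LP (LK LD1_c11 LD2_c42 LD3_c34)) :=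
  Lre_e IH (LK LD1_c20 LD2_c43 LD3_c1) (LK LD1_c11 LD2_c42 LD3_c34) Lrfl Lrfl
theorem f965973 : Led Lsl_cf (LP (LK LD1_c20 LD2_c43 LD3_c1)) = v48500 :=
  Lgr Lrot39 (Lpr_et (f643024 IH) (Lpe (f642994 IH) (Lpr_et (f965971 IH) (Lpn v48500))))
theorem f965974 : Led Lsl_ef (LP (LK LD1_c11 LD2_c31 LD3_c27)) = v48500 :=
  Lgr Lrot88 (Lpr_et (f965971 IH) (Lpn v48500))
theorem f500743 : Led Lsl_bt (LP (LK LD1_c11 LD2_c42 LD3_c34)) = (LP (LK LD1_c5 LD2_c59 LD3_c2)) :=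
  Lre_b IH (LK LD1_c11 LD2_c42 LD3_c34) (LK LD1_c5 LD2_c59 LD3_c2) Lrfl Lrfl
theorem f643016 : Led Lsl_ct (LP (LK LD1_c11 LD2_c31 LD3_c27)) = (LP (LK LD1_c11 LD2_c42 LD3_c34)) :=
  Lgr Lrot83 (Lpe (K75.f22602 IH) (Lpe (K53.f436235 IH) (Lpe (K53.f22541 IH) (Lpr_cf (K55.f642996 IH) (Lpe (f500743 IH) (Lpn (LP (LK LD1_c11 LD2_c42 LD3_c34))))))))
theorem f643020 : Led Lsl_et (LP (LK LD1_c11 LD2_c42 LD3_c34)) = (LP (LK LD1_c20 LD2_c43 LD3_c1)) :=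
  Lre_e IH (LK LD1_c11 LD2_c42 LD3_c34) (LK LD1_c20 LD2_c43 LD3_c1) Lrfl Lrfl
theorem f965976 : Led Lsl_ct (LP (LK LD1_c20 LD2_c43 LD3_c1)) = v48500 :=
  Lgr Lrot15 (Lpe (f643020 IH) (Lpe (f643016 IH) (Lpr_ef (f965974 IH) (Lpn v48500))))
theorem f904945 : Led Lsl_bt (LP (LK LD1_c20 LD2_c48 LD3_c1)) = K70.v38861 :=
  Lgr Lrot119 (Lpe (K70.f749473 IH) (Lpr_bf (K59.f442923 IH) (Lpr_ef (K70.f904944 IH) (Lpn K70.v38861))))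
theorem f701364 : Led Lsl_bt (LP (LK LD1_c17 LD2_c11 LD3_c44)) = (LP (LK LD1_c9 LD2_c16 LD3_c48)) :=
  Lre_b IH (LK LD1_c17 LD2_c11 LD3_c44) (LK LD1_c9 LD2_c16 LD3_c48) Lrfl Lrfl
theorem f701346 : Led Lsl_et (LP (LK LD1_c23 LD2_c38 LD3_c6)) = (LP (LK LD1_c14 LD2_c4 LD3_c50)) :=
  Lre_e IH (LK LD1_c23 LD2_c38 LD3_c6) (LK LD1_c14 LD2_c4 LD3_c50) Lrfl Lrfl
theorem f701347 : Led Lsl_et (LP (LK LD1_c9 LD2_c16 LD3_c46)) = (LP (LK LD1_c17 LD2_c11 LD3_c44)) :=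
  Lre_e IH (LK LD1_c9 LD2_c16 LD3_c46) (LK LD1_c17 LD2_c11 LD3_c44) Lrfl Lrfl
theorem f701348 : Led Lsl_cf (LP (LK LD1_c23 LD2_c38 LD3_c6)) = (LP (LK LD1_c17 LD2_c11 LD3_c44)) :=
  Lgr Lrot39 (Lpr_et (f701346 IH) (Lpr_ct (K50.f701341 IH) (Lpr_et (f701347 IH) (Lpn (LP (LK LD1_c17 LD2_c11 LD3_c44))))))
theorem f965977 : Led Lsl_gt (LP (LK LD1_c23 LD2_c38 LD3_c6)) = v48500 :=
  Lgr Lrot65 (Lpr_cf (f701348 IH) (Lpr_bt (f701364 IH) (Lpr_gf (K70.f904938 IH) (Lpe (f904945 IH) (Lpe (K70.f749467 IH) (Lpe (K55.f740253 IH) (Lpr_cf (K75.f958418 IH) (Lpe (K75.f958421 IH) (Lpe (f643007 IH) (Lpr_ct (f965976 IH) (Lpn v48500)))))))))))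
theorem f701362 : Led Lsl_gt (LP (LK LD1_c27 LD2_c2 LD3_c51)) = (LP (LK LD1_c17 LD2_c11 LD3_c44)) :=
  Lre_g IH (LK LD1_c27 LD2_c2 LD3_c51) (LK LD1_c17 LD2_c11 LD3_c44) Lrfl Lrfl
theorem f837909 : Led Lsl_gt (LP (LK LD1_c27 LD2_c16 LD3_c4)) = (LP (LK LD1_c17 LD2_c26 LD3_c22)) :=
  Lre_g IH (LK LD1_c27 LD2_c16 LD3_c4) (LK LD1_c17 LD2_c26 LD3_c22) Lrfl Lrfl
theorem f971679 : Led Lsl_dt (LP (LK LD1_c27 LD2_c2 LD3_c51)) = (LP (LK LD1_c27 LD2_c16 LD3_c4)) :=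
  Lgr Lrot6 (Lpr_gt (f701362 IH) (Lpe (f701348 IH) (Lpr_gt (f965977 IH) (Lpe (f965973 IH) (Lpr_df (f715415 IH) (Lpe (f715431 IH) (Lpr_gf (f971677 IH) (Lpe (f837905 IH) (Lpe (f837909 IH) (Lpn (LP (LK LD1_c27 LD2_c16 LD3_c4))))))))))))
theorem f971680 : Led Lsl_dt (LP (LK LD1_c27 LD2_c2 LD3_c51)) = (LP (LK LD1_c27 LD2_c16 LD3_c4)) :=
  Leop (Lpe (f971679 IH) (Lpn (LP (LK LD1_c27 LD2_c2 LD3_c51))))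
theorem seed_2979 : LEOK LG_d (LK LD1_c27 LD2_c2 LD3_c51) :=
  Leoe_d (LK LD1_c27 LD2_c2 LD3_c51) (f971680 IH)
def v49607 : LQ := Led Lsl_gf (LP (LK LD1_c11 LD2_c46 LD3_c21))
theorem f971728 : Led Lsl_gf (LP (LK LD1_c11 LD2_c46 LD3_c21)) = v49607 :=
  Lrfl
theorem f140833 : Led Lsl_ct (LP (LK LD1_c6 LD2_c0 LD3_c55)) = (LP (LK LD1_c11 LD2_c46 LD3_c21)) :=
  Lre_c IH (LK LD1_c6 LD2_c0 LD3_c55) (LK LD1_c11 LD2_c46 LD3_c21) Lrfl Lrfl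
theorem f140219 : Led Lsl_bt (LP (LK LD1_c6 LD2_c0 LD3_c55)) = (LP (LK LD1_c2 LD2_c56 LD3_c43)) :=
  Lre_b IH (LK LD1_c6 LD2_c0 LD3_c55) (LK LD1_c2 LD2_c56 LD3_c43) Lrfl Lrfl
theorem f495101 : Led Lsl_bt (LP (LK LD1_c2 LD2_c21 LD3_c28)) = (LP (LK LD1_c1 LD2_c24 LD3_c8)) :=
  Lre_b IH (LK LD1_c2 LD2_c21 LD3_c28) (LK LD1_c1 LD2_c24 LD3_c8) Lrfl Lrfl
theorem f633080 : Led Lsl_ct (LP (LK LD1_c4 LD2_c47 LD3_c25)) = (LP (LK LD1_c2 LD2_c21 LD3_c35)) :=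
  Lre_c IH (LK LD1_c4 LD2_c47 LD3_c25) (LK LD1_c2 LD2_c21 LD3_c35) Lrfl Lrfl
theorem f633083 : Led Lsl_bt (LP (LK LD1_c4 LD2_c47 LD3_c25)) = (LP (LK LD1_c9 LD2_c27 LD3_c52)) :=
  Lre_b IH (LK LD1_c4 LD2_c47 LD3_c25) (LK LD1_c9 LD2_c27 LD3_c52) Lrfl Lrfl
def v39794 : LQ := Led Lsl_gt (LP (LK LD1_c9 LD2_c27 LD3_c52))
theorem f911285 : Led Lsl_gt (LP (LK LD1_c9 LD2_c27 LD3_c52)) = v39794 :=
  Lrfl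
theorem f971729 : Led Lsl_ct v39794 = v49607 :=
  Lgr Lrot91 (Lpe (f911285 IH) (Lpe (f633083 IH) (Lpr_ct (f633080 IH) (Lpe (K51.f110545 IH) (Lpe (K52.f99171 IH) (Lpr_bt (f495101 IH) (Lpe (K9.f140227 IH) (Lpe (f140219 IH) (Lpr_ct (f140833 IH) (Lpr_gf (f971728 IH) (Lpn v49607)))))))))))
theorem f911286 : Led Lsl_dt (LP (LK LD1_c9 LD2_c27 LD3_c52)) = (LP (LK LD1_c17 LD2_c27 LD3_c14)) :=
  Lre_d IH (LK LD1_c9 LD2_c27 LD3_c52) (LK LD1_c17 LD2_c27 LD3_c14) Lrfl Lrfl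
theorem f911287 : Led Lsl_gt (LP (LK LD1_c17 LD2_c27 LD3_c14)) = (LP (LK LD1_c27 LD2_c17 LD3_c7)) :=
  Lre_g IH (LK LD1_c17 LD2_c27 LD3_c14) (LK LD1_c27 LD2_c17 LD3_c7) Lrfl Lrfl
theorem f140220 : Led Lsl_ct (LP (LK LD1_c11 LD2_c46 LD3_c21)) = (LP (LK LD1_c6 LD2_c0 LD3_c55)) :=
  Lre_c IH (LK LD1_c11 LD2_c46 LD3_c21) (LK LD1_c6 LD2_c0 LD3_c55) Lrfl Lrfl
theorem f140836 : Led Lsl_dt (LP (LK LD1_c11 LD2_c46 LD3_c22)) = (LP (LK LD1_c6 LD2_c0 LD3_c55)) :=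
  Lre_d IH (LK LD1_c11 LD2_c46 LD3_c22) (LK LD1_c6 LD2_c0 LD3_c55) Lrfl Lrfl
theorem f749469 : Led Lsl_ct (LP (LK LD1_c20 LD2_c48 LD3_c11)) = (LP (LK LD1_c11 LD2_c46 LD3_c22)) :=
  Lre_c IH (LK LD1_c20 LD2_c48 LD3_c11) (LK LD1_c11 LD2_c46 LD3_c22) Lrfl Lrfl
theorem f749471 : Led Lsl_gt (LP (LK LD1_c29 LD2_c40 LD3_c5)) = (LP (LK LD1_c20 LD2_c48 LD3_c11)) :=
  Lre_g IH (LK LD1_c29 LD2_c40 LD3_c5) (LK LD1_c20 LD2_c48 LD3_c11) Lrfl Lrfl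
theorem f971731 : Led Lsl_ct (LP (LK LD1_c27 LD2_c17 LD3_c7)) = (LP (LK LD1_c29 LD2_c40 LD3_c5)) :=
  Lgr Lrot152 (Lpe (f911287 IH) (Lpe (f911286 IH) (Lpr_gt (f911285 IH) (Lpr_ct (f971729 IH) (Lpe (f971728 IH) (Lpr_ct (f140220 IH) (Lpe (f140836 IH) (Lpe (f749469 IH) (Lpe (f749471 IH) (Lpn (LP (LK LD1_c29 LD2_c40 LD3_c5))))))))))))
theorem f971732 : Led Lsl_ct (LP (LK LD1_c27 LD2_c17 LD3_c7)) = (LP (LK LD1_c29 LD2_c40 LD3_c5)) :=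
  Leop (Lpe (f971731 IH) (Lpn (LP (LK LD1_c27 LD2_c17 LD3_c7))))
theorem seed_2980 : LEOK LG_c (LK LD1_c27 LD2_c17 LD3_c7) :=
  Leoe_c (LK LD1_c27 LD2_c17 LD3_c7) (f971732 IH)
theorem f749470 : Led Lsl_ct (LP (LK LD1_c11 LD2_c46 LD3_c22)) = (LP (LK LD1_c20 LD2_c48 LD3_c11)) :=
  Lre_c IH (LK LD1_c11 LD2_c46 LD3_c22) (LK LD1_c20 LD2_c48 LD3_c11) Lrfl Lrfl
theorem f749460 : Led Lsl_bt (LP (LK LD1_c11 LD2_c46 LD3_c22)) = (LP (LK LD1_c6 LD2_c0 LD3_c57)) :=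
  Lre_b IH (LK LD1_c11 LD2_c46 LD3_c22) (LK LD1_c6 LD2_c0 LD3_c57) Lrfl Lrfl
theorem f642051 : Led Lsl_bt (LP (LK LD1_c6 LD2_c1 LD3_c7)) = (LP (LK LD1_c11 LD2_c46 LD3_c50)) :=
  Lre_b IH (LK LD1_c6 LD2_c1 LD3_c7) (LK LD1_c11 LD2_c46 LD3_c50) Lrfl Lrfl
theorem f642052 : Led Lsl_gt (LP (LK LD1_c11 LD2_c46 LD3_c50)) = (LP (LK LD1_c20 LD2_c48 LD3_c48)) :=
  Lre_g IH (LK LD1_c11 LD2_c46 LD3_c50) (LK LD1_c20 LD2_c48 LD3_c48) Lrfl Lrfl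
theorem f971737 : Led Lsl_bt (LP (LK LD1_c27 LD2_c17 LD3_c7)) = (LP (LK LD1_c20 LD2_c48 LD3_c48)) :=
  Lgr Lrot92 (Lpr_ct (f971731 IH) (Lpr_gt (f749471 IH) (Lpe (f749470 IH) (Lpr_bt (f749460 IH) (Lpr_gt (K56.f749462 IH) (Lpr_ct (f971672 IH) (Lpe (f971674 IH) (Lpe (K41.f641526 IH) (Lpr_bt (f642051 IH) (Lpr_gt (f642052 IH) (Lpn (LP (LK LD1_c20 LD2_c48 LD3_c48)))))))))))))
theorem f971738 : Led Lsl_bt (LP (LK LD1_c27 LD2_c17 LD3_c7)) = (LP (LK LD1_c20 LD2_c48 LD3_c48)) :=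
  Leop (Lpe (f971737 IH) (Lpn (LP (LK LD1_c27 LD2_c17 LD3_c7))))
theorem seed_2981 : LEOK LG_b (LK LD1_c27 LD2_c17 LD3_c7) :=
  Leoe_b (LK LD1_c27 LD2_c17 LD3_c7) (f971738 IH)
def v49711 : LQ := Led Lsl_dt (LP (LK LD1_c11 LD2_c47 LD3_c43))
theorem f972233 : Led Lsl_dt (LP (LK LD1_c11 LD2_c47 LD3_c43)) = v49711 :=
  Lrfl
theorem f972235 : Led Lsl_df (LP (LK LD1_c11 LD2_c47 LD3_c43)) = v49711 :=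
  Lgr Lrot38 (Lpr_dt (f972233 IH) (Lpn v49711))
theorem f972237 : Led Lsl_bt K69.v16642 = v49711 :=
  Lgr Lrot95 (Lpe (K69.f750828 IH) (Lpr_bf (K72.f750827 IH) (Lpqs (K72.f924736 IH) (Lpr_df (f972235 IH) (Lpn v49711)))))
theorem f924776 : Led Lsl_ct K69.v16642 = (LP (LK LD1_c10 LD2_c0 LD3_c32)) :=
  Lgr Lrot59 (Lpr_cf (K72.f924775 IH) (Lpn (LP (LK LD1_c10 LD2_c0 LD3_c32))))
def v42916 : LQ := Led Lsl_ft (LP (LK LD1_c10 LD2_c18 LD3_c44))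
theorem f936835 : Led Lsl_ft (LP (LK LD1_c10 LD2_c18 LD3_c44)) = v42916 :=
  Lrfl
def v42650 : LQ := Led Lsl_et (LP (LK LD1_c10 LD2_c14 LD3_c27))
theorem f935100 : Led Lsl_et (LP (LK LD1_c10 LD2_c14 LD3_c27)) = v42650 :=
  Lrfl
theorem f194052 : Led Lsl_et (LP (LK LD1_c10 LD2_c18 LD3_c44)) = (LP (LK LD1_c5 LD2_c14 LD3_c35)) :=
  Lre_e IH (LK LD1_c10 LD2_c18 LD3_c44) (LK LD1_c5 LD2_c14 LD3_c35) Lrfl Lrfl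
theorem f935102 : Led Lsl_cf (LP (LK LD1_c10 LD2_c18 LD3_c44)) = v42650 :=
  Lgr Lrot39 (Lpr_et (f194052 IH) (Lpr_ct (K54.f723961 IH) (Lpqs (K54.f732644 IH) (Lpr_et (f935100 IH) (Lpn v42650)))))
theorem f935103 : Led Lsl_ef (LP (LK LD1_c10 LD2_c14 LD3_c27)) = v42650 :=
  Lgr Lrot88 (Lpr_et (f935100 IH) (Lpn v42650))
theorem f935105 : Led Lsl_ct (LP (LK LD1_c10 LD2_c18 LD3_c44)) = v42650 :=
  Lgr Lrot15 (Lpe (K70.f225541 IH) (Lpr_cf (K54.f723962 IH) (Lpqs (K54.f732644 IH) (Lpr_ef (f935103 IH) (Lpn v42650)))))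
theorem f924779 : Led Lsl_cf (LP (LK LD1_c17 LD2_c8 LD3_c44)) = (LP (LK LD1_c18 LD2_c17 LD3_c30)) :=
  Lgr Lrot11 (Lpr_ct (K72.f924777 IH) (Lpn (LP (LK LD1_c18 LD2_c17 LD3_c30))))
theorem f935106 : Led Lsl_gf (LP (LK LD1_c18 LD2_c17 LD3_c30)) = v42650 :=
  Lgr Lrot104 (Lpe (f924779 IH) (Lpe (K72.f285161 IH) (Lpe (K72.f285160 IH) (Lpqs (K72.f924912 IH) (Lpe (K72.f904039 IH) (Lpr_cf (K36.f176532 IH) (Lpe (K70.f176546 IH) (Lpr_df (K70.f414574 IH) (Lpr_gt (K70.f913913 IH) (Lpr_ct (f935105 IH) (Lpn v42650)))))))))))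
theorem f924888 : Led Lsl_at (LP (LK LD1_c10 LD2_c0 LD3_c32)) = (LP (LK LD1_c10 LD2_c14 LD3_c32)) :=
  Lgr Lrot100 (Lpr_af (K72.f924886 IH) (Lpn (LP (LK LD1_c10 LD2_c14 LD3_c32))))
theorem f924919 : Led Lsl_gt (LP (LK LD1_c18 LD2_c17 LD3_c30)) = (LP (LK LD1_c18 LD2_c38 LD3_c25)) :=
  Lgr Lrot5 (Lpr_ft (K72.f721736 IH) (Lpr_at (f924888 IH) (Lpe (K71.f923084 IH) (Lpn (LP (LK LD1_c18 LD2_c38 LD3_c25))))))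
theorem f928067 : Led Lsl_at (LP (LK LD1_c18 LD2_c17 LD3_c28)) = (LP (LK LD1_c18 LD2_c38 LD3_c25)) :=
  Lgr Lrot100 (Lpr_af (K72.f928065 IH) (Lpn (LP (LK LD1_c18 LD2_c38 LD3_c25))))
theorem f935108 : Led Lsl_ff (LP (LK LD1_c18 LD2_c17 LD3_c28)) = v42650 :=
  Lgr Lrot52 (Lpr_at (f928067 IH) (Lpe (f924919 IH) (Lpr_gf (f935106 IH) (Lpn v42650))))
theorem f935109 : Led Lsl_ft (LP (LK LD1_c18 LD2_c17 LD3_c28)) = v42650 :=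
  Lgr Lrot48 (Lpr_ff (f935108 IH) (Lpn v42650))
theorem f936837 : Led Lsl_cf (LP (LK LD1_c18 LD2_c17 LD3_c28)) = v42916 :=
  Lgr Lrot108 (Lpr_ft (f935109 IH) (Lpe (f935102 IH) (Lpr_ft (f936835 IH) (Lpn v42916))))
theorem f936840 : Led Lsl_ff (LP (LK LD1_c10 LD2_c18 LD3_c44)) = v42916 :=
  Lgr Lrot3 (Lpr_ft (f936835 IH) (Lpn v42916))
theorem f627880 : Led Lsl_ef K35.v1118 = K49.v3913 :=
  Lgr Lrot88 (Lpr_et (K49.f627877 IH) (Lpn K49.v3913))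
theorem f686182 : Led Lsl_df (LP (LK LD1_c9 LD2_c32 LD3_c19)) = K49.v11856 :=
  Lgr Lrot70 (Lpr_et (K35.f416237 IH) (Lpr_dt (K70.f627884 IH) (Lpe (f627880 IH) (Lpr_dt (K35.f627865 IH) (Lpr_et (K49.f686180 IH) (Lpn K49.v11856))))))
theorem f686184 : Led Lsl_gt (LP (LK LD1_c5 LD2_c7 LD3_c9)) = K49.v11856 :=
  Lgr Lrot131 (Lpe (K72.f165710 IH) (Lpe (K10.f194035 IH) (Lpe (K12.f186818 IH) (Lpe (K14.f181099 IH) (Lpe (K9.f163938 IH) (Lpe (K35.f164106 IH) (Lpe (K38.f164382 IH) (Lpr_gf (K49.f494348 IH) (Lpq (K49.f623415 IH) (Lpqs (K35.f623411 IH) (Lpr_df (K49.f627867 IH) (Lpr_et (K49.f686180 IH) (Lpn K49.v11856)))))))))))))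
theorem f913910 : Led Lsl_dt (LP (LK LD1_c10 LD2_c18 LD3_c44)) = K70.v40112 :=
  Lgr Lrot56 (Lpr_et (f194052 IH) (Lpr_gt (K54.f194051 IH) (Lpe (K12.f181101 IH) (Lpr_dt (K14.f181099 IH) (Lpr_gt (K12.f186818 IH) (Lpr_df (K10.f194035 IH) (Lpr_et (K72.f165710 IH) (Lpr_gt (f686184 IH) (Lpe (f686182 IH) (Lpr_gt (K70.f913907 IH) (Lpn K70.v40112)))))))))))
theorem f920134 : Led Lsl_at (LP (LK LD1_c10 LD2_c6 LD3_c52)) = (LP (LK LD1_c10 LD2_c18 LD3_c44)) :=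
  Lgr Lrot51 (Lpe (K55.f414171 IH) (Lpr_af (K71.f920132 IH) (Lpe (f913910 IH) (Lpn (LP (LK LD1_c10 LD2_c18 LD3_c44))))))
theorem f920174 : Led Lsl_af (LP (LK LD1_c10 LD2_c6 LD3_c52)) = (LP (LK LD1_c10 LD2_c18 LD3_c44)) :=
  Lgr Lrot0 (Lpr_at (f920134 IH) (Lpn (LP (LK LD1_c10 LD2_c18 LD3_c44))))
theorem f936845 : Led Lsl_gf (LP (LK LD1_c10 LD2_c19 LD3_c7)) = v42916 :=
  Lgr Lrot47 (Lpe (K60.f782171 IH) (Lpr_af (f920174 IH) (Lpr_ff (f936840 IH) (Lpn v42916))))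
theorem f936846 : Led Lsl_gt (LP (LK LD1_c18 LD2_c26 LD3_c0)) = v42916 :=
  Lgr Lrot5 (Lpe (K73.f925152 IH) (Lpe (K73.f925130 IH) (Lpr_gf (f936845 IH) (Lpn v42916))))
def v49156 : LQ := Led Lsl_ct (LP (LK LD1_c11 LD2_c40 LD3_c25))
theorem f969372 : Led Lsl_ct (LP (LK LD1_c11 LD2_c40 LD3_c25)) = v49156 :=
  Lrfl
theorem f9136 : Led Lsl_ct (LP (LK LD1_c11 LD2_c58 LD3_c18)) = (LP (LK LD1_c21 LD2_c3 LD3_c15)) :=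
  Lre_c IH (LK LD1_c11 LD2_c58 LD3_c18) (LK LD1_c21 LD2_c3 LD3_c15) Lrfl Lrfl
theorem f924698 : Led Lsl_ct (LP (LK LD1_c18 LD2_c26 LD3_c23)) = (LP (LK LD1_c20 LD2_c40 LD3_c24)) :=
  Lgr Lrot111 (Lpr_af (K72.f924694 IH) (Lpe (f9136 IH) (Lpe (K75.f602451 IH) (Lpn (LP (LK LD1_c20 LD2_c40 LD3_c24))))))
theorem f969376 : Led Lsl_ff (LP (LK LD1_c18 LD2_c26 LD3_c23)) = v49156 :=
  Lgr Lrot23 (Lpr_ct (f924698 IH) (Lpr_ft (K75.f602448 IH) (Lpr_ct (f969372 IH) (Lpn v49156))))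
theorem f969381 : Led Lsl_ft (LP (LK LD1_c18 LD2_c26 LD3_c23)) = v49156 :=
  Lgr Lrot48 (Lpr_ff (f969376 IH) (Lpn v49156))
theorem f414580 : Led Lsl_bt (LP (LK LD1_c10 LD2_c7 LD3_c16)) = (LP (LK LD1_c18 LD2_c26 LD3_c23)) :=
  Lre_b IH (LK LD1_c10 LD2_c7 LD3_c16) (LK LD1_c18 LD2_c26 LD3_c23) Lrfl Lrfl
theorem f969382 : Led Lsl_bf (LP (LK LD1_c18 LD2_c26 LD3_c0)) = v49156 :=
  Lgr Lrot61 (Lpe (K73.f925152 IH) (Lpr_bt (f414580 IH) (Lpr_ft (f969381 IH) (Lpn v49156))))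
theorem f969374 : Led Lsl_cf (LP (LK LD1_c11 LD2_c40 LD3_c25)) = v49156 :=
  Lgr Lrot11 (Lpr_ct (f969372 IH) (Lpn v49156))
theorem f559490 : Led Lsl_gt (LP (LK LD1_c20 LD2_c40 LD3_c23)) = (LP (LK LD1_c11 LD2_c40 LD3_c25)) :=
  Lre_g IH (LK LD1_c20 LD2_c40 LD3_c23) (LK LD1_c11 LD2_c40 LD3_c25) Lrfl Lrfl
theorem f9135 : Led Lsl_bt (LP (LK LD1_c6 LD2_c8 LD3_c29)) = (LP (LK LD1_c11 LD2_c58 LD3_c18)) :=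
  Lre_b IH (LK LD1_c6 LD2_c8 LD3_c29) (LK LD1_c11 LD2_c58 LD3_c18) Lrfl Lrfl
theorem f602453 : Led Lsl_gf (LP (LK LD1_c20 LD2_c40 LD3_c23)) = (LP (LK LD1_c11 LD2_c58 LD3_c18)) :=
  Lgr Lrot47 (Lpr_gt (f559490 IH) (Lpr_af (K75.f602446 IH) (Lpe (K75.f68870 IH) (Lpn (LP (LK LD1_c11 LD2_c58 LD3_c18))))))
theorem f165082 : Led Lsl_bt (LP (LK LD1_c5 LD2_c8 LD3_c7)) = (LP (LK LD1_c2 LD2_c31 LD3_c18)) :=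
  Lre_b IH (LK LD1_c5 LD2_c8 LD3_c7) (LK LD1_c2 LD2_c31 LD3_c18) Lrfl Lrfl
theorem f165132 : Led Lsl_gt (LP (LK LD1_c18 LD2_c25 LD3_c52)) = (LP (LK LD1_c10 LD2_c6 LD3_c45)) :=
  Lre_g IH (LK LD1_c18 LD2_c25 LD3_c52) (LK LD1_c10 LD2_c6 LD3_c45) Lrfl Lrfl
theorem f931711 : Led Lsl_ct (LP (LK LD1_c20 LD2_c40 LD3_c23)) = (LP (LK LD1_c18 LD2_c25 LD3_c52)) :=
  Lgr Lrot91 (Lpr_gf (f602453 IH) (Lpe (f9135 IH) (Lpe (K70.f9109 IH) (Lpr_gf (K57.f446634 IH) (Lpr_cf (K57.f739646 IH) (Lpq (K73.f931502 IH) (Lpe (K73.f722310 IH) (Lpe (K53.f53216 IH) (Lpe (f165082 IH) (Lpr_ct (K32.f165137 IH) (Lpe (f165132 IH) (Lpn (LP (LK LD1_c18 LD2_c25 LD3_c52))))))))))))))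
theorem f931775 : Led Lsl_cf (LP (LK LD1_c20 LD2_c40 LD3_c23)) = (LP (LK LD1_c18 LD2_c25 LD3_c52)) :=
  Lgr Lrot11 (Lpr_ct (f931711 IH) (Lpn (LP (LK LD1_c18 LD2_c25 LD3_c52))))
def v47587 : LQ := Led Lsl_ft (LP (LK LD1_c11 LD2_c20 LD3_c37))
theorem f959324 : Led Lsl_ft (LP (LK LD1_c11 LD2_c20 LD3_c37)) = v47587 :=
  Lrfl
theorem f959327 : Led Lsl_ff (LP (LK LD1_c11 LD2_c20 LD3_c37)) = v47587 :=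
  Lgr Lrot3 (Lpr_ft (f959324 IH) (Lpn v47587))
theorem f596927 : Led Lsl_ft (LP (LK LD1_c11 LD2_c32 LD3_c29)) = (LP (LK LD1_c9 LD2_c50 LD3_c48)) :=
  Lgr Lrot54 (Lpe (K41.f555918 IH) (Lpr_ff (K50.f596925 IH) (Lpe (K50.f559653 IH) (Lpn (LP (LK LD1_c9 LD2_c50 LD3_c48))))))
theorem f573388 : Led Lsl_bt (LP (LK LD1_c20 LD2_c29 LD3_c17)) = (LP (LK LD1_c11 LD2_c32 LD3_c29)) :=
  Lre_b IH (LK LD1_c20 LD2_c29 LD3_c17) (LK LD1_c11 LD2_c32 LD3_c29) Lrfl Lrfl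
theorem f572000 : Led Lsl_bt (LP (LK LD1_c9 LD2_c50 LD3_c48)) = (LP (LK LD1_c18 LD2_c1 LD3_c59)) :=
  Lre_b IH (LK LD1_c9 LD2_c50 LD3_c48) (LK LD1_c18 LD2_c1 LD3_c59) Lrfl Lrfl
theorem f597106 : Led Lsl_ff (LP (LK LD1_c20 LD2_c29 LD3_c17)) = (LP (LK LD1_c18 LD2_c1 LD3_c59)) :=
  Lgr Lrot25 (Lpr_bt (f573388 IH) (Lpr_ft (f596927 IH) (Lpr_bt (f572000 IH) (Lpn (LP (LK LD1_c18 LD2_c1 LD3_c59))))))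
theorem f597109 : Led Lsl_ft (LP (LK LD1_c20 LD2_c29 LD3_c17)) = (LP (LK LD1_c18 LD2_c1 LD3_c59)) :=
  Lgr Lrot48 (Lpr_ff (f597106 IH) (Lpn (LP (LK LD1_c18 LD2_c1 LD3_c59))))
theorem f573387 : Led Lsl_bt (LP (LK LD1_c11 LD2_c29 LD3_c33)) = (LP (LK LD1_c20 LD2_c26 LD3_c38)) :=
  Lre_b IH (LK LD1_c11 LD2_c29 LD3_c33) (LK LD1_c20 LD2_c26 LD3_c38) Lrfl Lrfl
theorem f573389 : Led Lsl_ct (LP (LK LD1_c20 LD2_c26 LD3_c38)) = (LP (LK LD1_c20 LD2_c29 LD3_c17)) :=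
  Lgr Lrot83 (Lpe (f573387 IH) (Lpr_cf (K43.f573384 IH) (Lpe (K45.f562490 IH) (Lpe (K41.f539136 IH) (Lpe (f573388 IH) (Lpn (LP (LK LD1_c20 LD2_c29 LD3_c17))))))))
theorem f595452 : Led Lsl_bt (LP (LK LD1_c26 LD2_c53 LD3_c25)) = (LP (LK LD1_c16 LD2_c57 LD3_c57)) :=
  Lre_b IH (LK LD1_c26 LD2_c53 LD3_c25) (LK LD1_c16 LD2_c57 LD3_c57) Lrfl Lrfl
theorem f595453 : Led Lsl_ct (LP (LK LD1_c18 LD2_c1 LD3_c59)) = (LP (LK LD1_c26 LD2_c53 LD3_c25)) :=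
  Lgr Lrot83 (Lpe (f572000 IH) (Lpr_cf (K40.f559650 IH) (Lpr_bf (K45.f595448 IH) (Lpe (K45.f595437 IH) (Lpe (f595452 IH) (Lpn (LP (LK LD1_c26 LD2_c53 LD3_c25))))))))
theorem f597111 : Led Lsl_ff (LP (LK LD1_c20 LD2_c26 LD3_c38)) = (LP (LK LD1_c26 LD2_c53 LD3_c25)) :=
  Lgr Lrot23 (Lpr_ct (f573389 IH) (Lpr_ft (f597109 IH) (Lpr_ct (f595453 IH) (Lpn (LP (LK LD1_c26 LD2_c53 LD3_c25))))))
theorem f597119 : Led Lsl_ft (LP (LK LD1_c20 LD2_c26 LD3_c38)) = (LP (LK LD1_c26 LD2_c53 LD3_c25)) :=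
  Lgr Lrot48 (Lpr_ff (f597111 IH) (Lpn (LP (LK LD1_c26 LD2_c53 LD3_c25))))
theorem f597123 : Led Lsl_dt (LP (LK LD1_c29 LD2_c27 LD3_c23)) = (LP (LK LD1_c20 LD2_c26 LD3_c38)) :=
  Lre_d IH (LK LD1_c29 LD2_c27 LD3_c23) (LK LD1_c20 LD2_c26 LD3_c38) Lrfl Lrfl
theorem f597121 : Led Lsl_dt (LP (LK LD1_c26 LD2_c53 LD3_c25)) = (LP (LK LD1_c32 LD2_c17 LD3_c22)) :=
  Lre_d IH (LK LD1_c26 LD2_c53 LD3_c25) (LK LD1_c32 LD2_c17 LD3_c22) Lrfl Lrfl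
theorem f597124 : Led Lsl_ff (LP (LK LD1_c29 LD2_c27 LD3_c23)) = (LP (LK LD1_c32 LD2_c17 LD3_c22)) :=
  Lgr Lrot19 (Lpr_dt (f597123 IH) (Lpr_ft (f597119 IH) (Lpr_dt (f597121 IH) (Lpn (LP (LK LD1_c32 LD2_c17 LD3_c22))))))
theorem f592731 : Led Lsl_bt (LP (LK LD1_c29 LD2_c27 LD3_c23)) = (LP (LK LD1_c20 LD2_c26 LD3_c39)) :=
  Lre_b IH (LK LD1_c29 LD2_c27 LD3_c23) (LK LD1_c20 LD2_c26 LD3_c39) Lrfl Lrfl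
theorem f595430 : Led Lsl_bt (LP (LK LD1_c26 LD2_c53 LD3_c26)) = (LP (LK LD1_c32 LD2_c17 LD3_c22)) :=
  Lre_b IH (LK LD1_c26 LD2_c53 LD3_c26) (LK LD1_c32 LD2_c17 LD3_c22) Lrfl Lrfl
theorem f597127 : Led Lsl_ft (LP (LK LD1_c20 LD2_c26 LD3_c39)) = (LP (LK LD1_c26 LD2_c53 LD3_c26)) :=
  Lgr Lrot75 (Lpe (f592731 IH) (Lpr_ff (f597124 IH) (Lpe (f595430 IH) (Lpn (LP (LK LD1_c26 LD2_c53 LD3_c26))))))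
theorem f597131 : Led Lsl_af (LP (LK LD1_c20 LD2_c26 LD3_c36)) = (LP (LK LD1_c26 LD2_c53 LD3_c26)) :=
  Lgr Lrot31 (Lpr_gf (K45.f595392 IH) (Lpe (K46.f595869 IH) (Lpr_ft (f597127 IH) (Lpn (LP (LK LD1_c26 LD2_c53 LD3_c26))))))
theorem f597135 : Led Lsl_at (LP (LK LD1_c20 LD2_c49 LD3_c59)) = (LP (LK LD1_c20 LD2_c26 LD3_c39)) :=
  Lgr Lrot107 (Lpr_cf (K43.f579734 IH) (Lpr_af (f597131 IH) (Lpr_cf (K45.f595425 IH) (Lpn (LP (LK LD1_c20 LD2_c26 LD3_c39))))))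
theorem f597139 : Led Lsl_ft (LP (LK LD1_c20 LD2_c26 LD3_c36)) = (LP (LK LD1_c20 LD2_c49 LD3_c59)) :=
  Lgr Lrot101 (Lpr_af (f597131 IH) (Lpe (f597127 IH) (Lpe (f597135 IH) (Lpn (LP (LK LD1_c20 LD2_c49 LD3_c59))))))
theorem f597145 : Led Lsl_ff (LP (LK LD1_c20 LD2_c26 LD3_c36)) = (LP (LK LD1_c20 LD2_c49 LD3_c59)) :=
  Lgr Lrot3 (Lpr_ft (f597139 IH) (Lpn (LP (LK LD1_c20 LD2_c49 LD3_c59))))
theorem f597151 : Led Lsl_ft (LP (LK LD1_c11 LD2_c29 LD3_c32)) = (LP (LK LD1_c11 LD2_c47 LD3_c44)) :=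
  Lgr Lrot54 (Lpe (K43.f544957 IH) (Lpr_ff (f597145 IH) (Lpe (K43.f548341 IH) (Lpn (LP (LK LD1_c11 LD2_c47 LD3_c44))))))
theorem f597155 : Led Lsl_af (LP (LK LD1_c11 LD2_c29 LD3_c33)) = (LP (LK LD1_c11 LD2_c47 LD3_c44)) :=
  Lgr Lrot31 (Lpr_gf (K43.f573382 IH) (Lpr_gf (K43.f563179 IH) (Lpr_ft (f597151 IH) (Lpn (LP (LK LD1_c11 LD2_c47 LD3_c44))))))
theorem f595470 : Led Lsl_ft (LP (LK LD1_c11 LD2_c29 LD3_c33)) = (LP (LK LD1_c16 LD2_c57 LD3_c57)) :=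
  Lgr Lrot4 (Lpr_cf (K43.f573384 IH) (Lpr_ff (K45.f595466 IH) (Lpe (K45.f595437 IH) (Lpn (LP (LK LD1_c16 LD2_c57 LD3_c57))))))
theorem f597162 : Led Lsl_at (LP (LK LD1_c16 LD2_c57 LD3_c57)) = (LP (LK LD1_c11 LD2_c29 LD3_c32)) :=
  Lgr Lrot66 (Lpe (f595470 IH) (Lpr_af (f597155 IH) (Lpe (f597151 IH) (Lpn (LP (LK LD1_c11 LD2_c29 LD3_c32))))))
theorem f597164 : Led Lsl_et (LP (LK LD1_c26 LD2_c53 LD3_c27)) = (LP (LK LD1_c16 LD2_c57 LD3_c57)) :=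
  Lre_e IH (LK LD1_c26 LD2_c53 LD3_c27) (LK LD1_c16 LD2_c57 LD3_c57) Lrfl Lrfl
theorem f544954 : Led Lsl_et (LP (LK LD1_c11 LD2_c29 LD3_c32)) = (LP (LK LD1_c20 LD2_c26 LD3_c37)) :=
  Lre_e IH (LK LD1_c11 LD2_c29 LD3_c32) (LK LD1_c20 LD2_c26 LD3_c37) Lrfl Lrfl
theorem f597165 : Led Lsl_af (LP (LK LD1_c26 LD2_c53 LD3_c27)) = (LP (LK LD1_c20 LD2_c26 LD3_c37)) :=
  Lgr Lrot50 (Lpr_et (f597164 IH) (Lpr_at (f597162 IH) (Lpr_et (f544954 IH) (Lpn (LP (LK LD1_c20 LD2_c26 LD3_c37))))))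
theorem f595429 : Led Lsl_et (LP (LK LD1_c16 LD2_c57 LD3_c57)) = (LP (LK LD1_c26 LD2_c53 LD3_c27)) :=
  Lre_e IH (LK LD1_c16 LD2_c57 LD3_c57) (LK LD1_c26 LD2_c53 LD3_c27) Lrfl Lrfl
theorem f595441 : Led Lsl_et (LP (LK LD1_c20 LD2_c26 LD3_c32)) = (LP (LK LD1_c11 LD2_c29 LD3_c30)) :=
  Lre_e IH (LK LD1_c20 LD2_c26 LD3_c32) (LK LD1_c11 LD2_c29 LD3_c30) Lrfl Lrfl
theorem f595442 : Led Lsl_ct (LP (LK LD1_c26 LD2_c53 LD3_c27)) = (LP (LK LD1_c20 LD2_c26 LD3_c32)) :=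
  Lgr Lrot15 (Lpe (f595429 IH) (Lpr_cf (K45.f595434 IH) (Lpe (f595441 IH) (Lpn (LP (LK LD1_c20 LD2_c26 LD3_c32))))))
theorem f387426 : Led Lsl_et (LP (LK LD1_c20 LD2_c17 LD3_c61)) = (LP (LK LD1_c11 LD2_c20 LD3_c35)) :=
  Lre_e IH (LK LD1_c20 LD2_c17 LD3_c61) (LK LD1_c11 LD2_c20 LD3_c35) Lrfl Lrfl
theorem f544955 : Led Lsl_ct (LP (LK LD1_c20 LD2_c26 LD3_c37)) = (LP (LK LD1_c20 LD2_c17 LD3_c61)) :=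
  Lgr Lrot15 (Lpe (f544954 IH) (Lpr_cf (K43.f544941 IH) (Lpe (f387426 IH) (Lpn (LP (LK LD1_c20 LD2_c17 LD3_c61))))))
theorem f544961 : Led Lsl_cf (LP (LK LD1_c20 LD2_c26 LD3_c37)) = (LP (LK LD1_c20 LD2_c17 LD3_c61)) :=
  Lgr Lrot11 (Lpr_ct (f544955 IH) (Lpn (LP (LK LD1_c20 LD2_c17 LD3_c61))))
theorem f597169 : Led Lsl_at (LP (LK LD1_c20 LD2_c26 LD3_c32)) = (LP (LK LD1_c20 LD2_c17 LD3_c61)) :=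
  Lgr Lrot107 (Lpe (f595442 IH) (Lpr_af (f597165 IH) (Lpr_cf (f544961 IH) (Lpn (LP (LK LD1_c20 LD2_c17 LD3_c61))))))
theorem f427715 : Led Lsl_et (LP (LK LD1_c6 LD2_c7 LD3_c58)) = (LP (LK LD1_c11 LD2_c58 LD3_c1)) :=
  Lre_e IH (LK LD1_c6 LD2_c7 LD3_c58) (LK LD1_c11 LD2_c58 LD3_c1) Lrfl Lrfl
theorem f595455 : Led Lsl_bt (LP (LK LD1_c11 LD2_c58 LD3_c1)) = (LP (LK LD1_c20 LD2_c26 LD3_c32)) :=
  Lgr Lrot119 (Lpe (f427715 IH) (Lpr_bf (K45.f595448 IH) (Lpe (f595441 IH) (Lpn (LP (LK LD1_c20 LD2_c26 LD3_c32))))))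
theorem f544958 : Led Lsl_bt (LP (LK LD1_c20 LD2_c17 LD3_c61)) = (LP (LK LD1_c11 LD2_c20 LD3_c37)) :=
  Lre_b IH (LK LD1_c20 LD2_c17 LD3_c61) (LK LD1_c11 LD2_c20 LD3_c37) Lrfl Lrfl
theorem f597173 : Led Lsl_af (LP (LK LD1_c6 LD2_c1 LD3_c32)) = (LP (LK LD1_c11 LD2_c20 LD3_c37)) :=
  Lgr Lrot36 (Lpr_bt (K44.f539157 IH) (Lpe (K40.f562503 IH) (Lpr_bt (f595455 IH) (Lpr_at (f597169 IH) (Lpr_bt (f544958 IH) (Lpn (LP (LK LD1_c11 LD2_c20 LD3_c37))))))))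
theorem f959330 : Led Lsl_gf (LP (LK LD1_c11 LD2_c47 LD3_c43)) = v47587 :=
  Lgr Lrot47 (Lpr_gt (K72.f387466 IH) (Lpr_af (f597173 IH) (Lpr_ff (f959327 IH) (Lpn v47587))))
theorem f387412 : Led Lsl_et (LP (LK LD1_c11 LD2_c20 LD3_c37)) = (LP (LK LD1_c5 LD2_c45 LD3_c5)) :=
  Lre_e IH (LK LD1_c11 LD2_c20 LD3_c37) (LK LD1_c5 LD2_c45 LD3_c5) Lrfl Lrfl
theorem f558443 : Led Lsl_ff (LP (LK LD1_c2 LD2_c56 LD3_c57)) = (LP (LK LD1_c5 LD2_c45 LD3_c5)) :=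
  Lgr Lrot19 (Lpr_dt (K69.f557471 IH) (Lpr_ft (K40.f558437 IH) (Lpe (K27.f386640 IH) (Lpn (LP (LK LD1_c5 LD2_c45 LD3_c5))))))
theorem f597234 : Led Lsl_ft (LP (LK LD1_c6 LD2_c1 LD3_c35)) = (LP (LK LD1_c11 LD2_c47 LD3_c51)) :=
  Lre_f IH (LK LD1_c6 LD2_c1 LD3_c35) (LK LD1_c11 LD2_c47 LD3_c51) Lrfl Lrfl
theorem f959329 : Led Lsl_et (LP (LK LD1_c11 LD2_c47 LD3_c51)) = v47587 :=
  Lgr Lrot69 (Lpe (f597234 IH) (Lpe (K69.f557473 IH) (Lpr_ff (f558443 IH) (Lpe (f387412 IH) (Lpr_ff (f959327 IH) (Lpn v47587))))))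
theorem f958467 : Led Lsl_dt (LP (LK LD1_c11 LD2_c47 LD3_c51)) = K75.v47379 :=
  Lgr Lrot60 (Lpe (f597234 IH) (Lpe (K69.f597228 IH) (Lpr_ff (K75.f958464 IH) (Lpn K75.v47379))))
def v47567 : LQ := Led Lsl_et (LP (LK LD1_c11 LD2_c20 LD3_c22))
theorem f959247 : Led Lsl_et (LP (LK LD1_c11 LD2_c20 LD3_c22)) = v47567 :=
  Lrfl
theorem f959248 : Led Lsl_ef (LP (LK LD1_c11 LD2_c20 LD3_c22)) = v47567 :=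
  Lgr Lrot88 (Lpr_et (f959247 IH) (Lpn v47567))
def v49224 : LQ := Led Lsl_et (LP (LK LD1_c11 LD2_c41 LD3_c31))
theorem f969789 : Led Lsl_et (LP (LK LD1_c11 LD2_c41 LD3_c31)) = v49224 :=
  Lrfl
theorem f969791 : Led Lsl_ef (LP (LK LD1_c11 LD2_c41 LD3_c31)) = v49224 :=
  Lgr Lrot88 (Lpr_et (f969789 IH) (Lpn v49224))
theorem f387314 : Led Lsl_dt (LP (LK LD1_c11 LD2_c41 LD3_c31)) = (LP (LK LD1_c11 LD2_c20 LD3_c23)) :=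
  Lgr Lrot42 (Lpr_df (K56.f387310 IH) (Lpn (LP (LK LD1_c11 LD2_c20 LD3_c23))))
theorem f969792 : Led Lsl_dt v47567 = v49224 :=
  Lgr Lrot77 (Lpe (f959247 IH) (Lpe (K75.f382446 IH) (Lpe (K56.f382445 IH) (Lpe (f387314 IH) (Lpr_ef (f969791 IH) (Lpn v49224))))))
theorem f972236 : Led Lsl_gf v49224 = v49711 :=
  Lgr Lrot134 (Lpe (f969792 IH) (Lpe (f959248 IH) (Lpr_gt (K75.f959236 IH) (Lpr_ef (K75.f959255 IH) (Lpr_dt (K75.f619008 IH) (Lpr_gt (K75.f958469 IH) (Lpe (f958467 IH) (Lpr_et (f959329 IH) (Lpe (f959330 IH) (Lpr_dt (f972233 IH) (Lpn v49711)))))))))))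
theorem f972240 : Led Lsl_bt (LP (LK LD1_c18 LD2_c25 LD3_c52)) = v49224 :=
  Lgr Lrot92 (Lpe (f931775 IH) (Lpr_gt (f559490 IH) (Lpr_cf (f969374 IH) (Lpe (f969382 IH) (Lpr_gt (f936846 IH) (Lpe (f936837 IH) (Lpr_gt (K72.f240479 IH) (Lpe (f924776 IH) (Lpr_bt (f972237 IH) (Lpe (f972236 IH) (Lpn v49224)))))))))))
theorem f931777 : Led Lsl_bt (LP (LK LD1_c20 LD2_c40 LD3_c23)) = (LP (LK LD1_c11 LD2_c41 LD3_c31)) :=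
  Lgr Lrot92 (Lpr_ct (f931711 IH) (Lpr_gt (f165132 IH) (Lpe (K32.f165137 IH) (Lpr_bt (f165082 IH) (Lpr_gt (K53.f53216 IH) (Lpr_ct (K54.f722311 IH) (Lpqs (K54.f732668 IH) (Lpr_gt (K54.f302709 IH) (Lpe (K69.f387361 IH) (Lpr_bt (K54.f387344 IH) (Lpr_gt (K56.f387340 IH) (Lpn (LP (LK LD1_c11 LD2_c41 LD3_c31))))))))))))))
theorem f931779 : Led Lsl_bf (LP (LK LD1_c20 LD2_c40 LD3_c23)) = (LP (LK LD1_c11 LD2_c41 LD3_c31)) :=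
  Lgr Lrot24 (Lpr_bt (f931777 IH) (Lpn (LP (LK LD1_c11 LD2_c41 LD3_c31))))
theorem f972242 : Led Lsl_ef (LP (LK LD1_c18 LD2_c25 LD3_c52)) = (LP (LK LD1_c20 LD2_c40 LD3_c23)) :=
  Lgr Lrot29 (Lpr_bt (f972240 IH) (Lpe (f969791 IH) (Lpe (f931779 IH) (Lpn (LP (LK LD1_c20 LD2_c40 LD3_c23))))))
theorem f972243 : Led Lsl_et (LP (LK LD1_c20 LD2_c40 LD3_c23)) = (LP (LK LD1_c18 LD2_c25 LD3_c52)) :=
  Leop (Lpr_ef (f972242 IH) (Lpn (LP (LK LD1_c20 LD2_c40 LD3_c23))))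
theorem seed_2982 : LEOK LG_e (LK LD1_c20 LD2_c40 LD3_c23) :=
  Leoe_e (LK LD1_c20 LD2_c40 LD3_c23) (f972243 IH)
def v49785 : LQ := Led Lsl_bt (LP (LK LD1_c11 LD2_c48 LD3_c27))
theorem f972544 : Led Lsl_bt (LP (LK LD1_c11 LD2_c48 LD3_c27)) = v49785 :=
  Lrfl
def v16507 : LQ := Led Lsl_dt (LP (LK LD1_c6 LD2_c1 LD3_c55))
theorem f750103 : Led Lsl_dt (LP (LK LD1_c6 LD2_c1 LD3_c55)) = v16507 :=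
  Lrfl
theorem f750104 : Led Lsl_bf (LP (LK LD1_c6 LD2_c1 LD3_c57)) = v16507 :=
  Lgr Lrot93 (Lpr_dt (K56.f420474 IH) (Lpr_bt (K67.f645179 IH) (Lpr_dt (f750103 IH) (Lpn v16507))))
theorem f972547 : Led Lsl_ef v16507 = v49785 :=
  Lgr Lrot29 (Lpe (f750104 IH) (Lpr_et (K56.f420475 IH) (Lpr_bt (f972544 IH) (Lpn v49785))))
theorem f972550 : Led Lsl_et v16507 = v49785 :=
  Lgr Lrot87 (Lpr_ef (f972547 IH) (Lpn v49785))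
def v38476 : LQ := Led Lsl_dt (LP (LK LD1_c9 LD2_c11 LD3_c11))
theorem f902469 : Led Lsl_dt (LP (LK LD1_c9 LD2_c11 LD3_c11)) = v38476 :=
  Lrfl
theorem f750105 : Led Lsl_df (LP (LK LD1_c6 LD2_c1 LD3_c55)) = v16507 :=
  Lgr Lrot38 (Lpr_dt (f750103 IH) (Lpn v16507))
theorem f902470 : Led Lsl_af v16507 = v38476 :=
  Lgr Lrot117 (Lpe (f750105 IH) (Lpr_at (K67.f749842 IH) (Lpr_dt (f902469 IH) (Lpn v38476))))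
theorem f902471 : Led Lsl_df (LP (LK LD1_c9 LD2_c11 LD3_c11)) = v38476 :=
  Lgr Lrot38 (Lpr_dt (f902469 IH) (Lpn v38476))
theorem f40632 : Led Lsl_et (LP (LK LD1_c2 LD2_c16 LD3_c3)) = (LP (LK LD1_c4 LD2_c37 LD3_c47)) :=
  Lre_e IH (LK LD1_c2 LD2_c16 LD3_c3) (LK LD1_c4 LD2_c37 LD3_c47) Lrfl Lrfl
theorem f40615 : Led Lsl_dt (LP (LK LD1_c4 LD2_c37 LD3_c47)) = (LP (LK LD1_c9 LD2_c11 LD3_c12)) :=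
  Lre_d IH (LK LD1_c4 LD2_c37 LD3_c47) (LK LD1_c9 LD2_c11 LD3_c12) Lrfl Lrfl
theorem f538154 : Led Lsl_et (LP (LK LD1_c9 LD2_c11 LD3_c12)) = (LP (LK LD1_c6 LD2_c16 LD3_c20)) :=
  Lgr Lrot71 (Lpe (f40615 IH) (Lpe (f40632 IH) (Lpe (K4.f79945 IH) (Lpr_ef (K35.f538151 IH) (Lpe (K37.f538153 IH) (Lpn (LP (LK LD1_c6 LD2_c16 LD3_c20))))))))
theorem f396315 : Led Lsl_et (LP (LK LD1_c4 LD2_c32 LD3_c41)) = (LP (LK LD1_c9 LD2_c2 LD3_c48)) :=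
  Lre_e IH (LK LD1_c4 LD2_c32 LD3_c41) (LK LD1_c9 LD2_c2 LD3_c48) Lrfl Lrfl
theorem f902473 : Led Lsl_ef (LP (LK LD1_c16 LD2_c53 LD3_c24)) = v38476 :=
  Lgr Lrot17 (Lpe (K56.f543903 IH) (Lpe (f396315 IH) (Lpr_dt (K39.f181399 IH) (Lpe (K37.f175540 IH) (Lpe (K37.f543898 IH) (Lpe (K37.f202668 IH) (Lpe (f538154 IH) (Lpr_dt (K57.f40622 IH) (Lpe (K55.f40628 IH) (Lpr_df (f902471 IH) (Lpn v38476)))))))))))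
theorem f902474 : Led Lsl_et (LP (LK LD1_c16 LD2_c53 LD3_c24)) = v38476 :=
  Lgr Lrot87 (Lpr_ef (f902473 IH) (Lpn v38476))
theorem f972551 : Led Lsl_af (LP (LK LD1_c16 LD2_c53 LD3_c24)) = v49785 :=
  Lgr Lrot50 (Lpr_et (f902474 IH) (Lpe (f902470 IH) (Lpr_et (f972550 IH) (Lpn v49785))))
theorem f750631 : Led Lsl_bf (LP (LK LD1_c23 LD2_c24 LD3_c42)) = (LP (LK LD1_c16 LD2_c53 LD3_c24)) :=
  Lgr Lrot24 (Lpr_bt (K56.f750629 IH) (Lpn (LP (LK LD1_c16 LD2_c53 LD3_c24))))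
theorem f420519 : Led Lsl_dt (LP (LK LD1_c11 LD2_c48 LD3_c7)) = (LP (LK LD1_c6 LD2_c1 LD3_c43)) :=
  Lre_d IH (LK LD1_c11 LD2_c48 LD3_c7) (LK LD1_c6 LD2_c1 LD3_c43) Lrfl Lrfl
theorem f396337 : Led Lsl_gt (LP (LK LD1_c11 LD2_c28 LD3_c10)) = (LP (LK LD1_c20 LD2_c25 LD3_c49)) :=
  Lre_g IH (LK LD1_c11 LD2_c28 LD3_c10) (LK LD1_c20 LD2_c25 LD3_c49) Lrfl Lrfl
theorem f618484 : Led Lsl_et (LP (LK LD1_c11 LD2_c48 LD3_c7)) = (LP (LK LD1_c20 LD2_c25 LD3_c49)) :=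
  Lgr Lrot122 (Lpr_dt (f420519 IH) (Lpr_gt (K67.f202254 IH) (Lpe (K16.f202270 IH) (Lpr_et (K16.f202220 IH) (Lpr_gt (K39.f202259 IH) (Lpr_dt (K42.f558781 IH) (Lpe (K39.f556416 IH) (Lpe (K42.f396256 IH) (Lpr_et (K74.f396321 IH) (Lpr_gt (f396337 IH) (Lpn (LP (LK LD1_c20 LD2_c25 LD3_c49)))))))))))))
theorem f618486 : Led Lsl_ef (LP (LK LD1_c11 LD2_c48 LD3_c7)) = (LP (LK LD1_c20 LD2_c25 LD3_c49)) :=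
  Lgr Lrot88 (Lpr_et (f618484 IH) (Lpn (LP (LK LD1_c20 LD2_c25 LD3_c49))))
theorem f749884 : Led Lsl_ff (LP (LK LD1_c6 LD2_c1 LD3_c54)) = K56.v16503 :=
  Lgr Lrot3 (Lpr_ft (K56.f749881 IH) (Lpn K56.v16503))
theorem f420479 : Led Lsl_dt (LP (LK LD1_c6 LD2_c1 LD3_c54)) = (LP (LK LD1_c2 LD2_c57 LD3_c2)) :=
  Lre_d IH (LK LD1_c6 LD2_c1 LD3_c54) (LK LD1_c2 LD2_c57 LD3_c2) Lrfl Lrfl
theorem f749888 : Led Lsl_dt K56.v5071 = K56.v16503 :=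
  Lgr Lrot60 (Lpe (K56.f645184 IH) (Lpe (f420479 IH) (Lpr_ff (f749884 IH) (Lpn K56.v16503))))
theorem f69102 : Led Lsl_dt (LP (LK LD1_c6 LD2_c1 LD3_c43)) = (LP (LK LD1_c11 LD2_c48 LD3_c7)) :=
  Lre_d IH (LK LD1_c6 LD2_c1 LD3_c43) (LK LD1_c11 LD2_c48 LD3_c7) Lrfl Lrfl
theorem f876633 : K56.v16503 = (LP (LK LD1_c11 LD2_c48 LD3_c7)) :=
  Lefun (Lecon (f749888 IH) (K67.f876618 IH)) (f69102 IH)
theorem f876654 : Led Lsl_af (LP (LK LD1_c20 LD2_c25 LD3_c49)) = (LP (LK LD1_c11 LD2_c48 LD3_c27)) :=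
  Lgr Lrot50 (Lpe (f618486 IH) (Lpq (f876633 IH) (Lpe (K56.f749882 IH) (Lpr_et (K56.f420475 IH) (Lpn (LP (LK LD1_c11 LD2_c48 LD3_c27)))))))
theorem f876656 : Led Lsl_at (LP (LK LD1_c20 LD2_c25 LD3_c49)) = (LP (LK LD1_c11 LD2_c48 LD3_c27)) :=
  Lgr Lrot100 (Lpr_af (f876654 IH) (Lpn (LP (LK LD1_c11 LD2_c48 LD3_c27))))
theorem f136303 : Led Lsl_dt (LP (LK LD1_c17 LD2_c31 LD3_c31)) = (LP (LK LD1_c9 LD2_c30 LD3_c13)) :=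
  Lre_d IH (LK LD1_c17 LD2_c31 LD3_c31) (LK LD1_c9 LD2_c30 LD3_c13) Lrfl Lrfl
theorem f669297 : Led Lsl_bt (LP (LK LD1_c11 LD2_c48 LD3_c7)) = (LP (LK LD1_c17 LD2_c31 LD3_c31)) :=
  Lgr Lrot95 (Lpe (f69102 IH) (Lpr_bf (K74.f669293 IH) (Lpe (f136303 IH) (Lpn (LP (LK LD1_c17 LD2_c31 LD3_c31))))))
theorem f571452 : Led Lsl_et (LP (LK LD1_c5 LD2_c43 LD3_c44)) = (LP (LK LD1_c11 LD2_c17 LD3_c25)) :=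
  Lre_e IH (LK LD1_c5 LD2_c43 LD3_c44) (LK LD1_c11 LD2_c17 LD3_c25) Lrfl Lrfl
theorem f542577 : Led Lsl_gt (LP (LK LD1_c11 LD2_c17 LD3_c25)) = (LP (LK LD1_c20 LD2_c13 LD3_c35)) :=
  Lre_g IH (LK LD1_c11 LD2_c17 LD3_c25) (LK LD1_c20 LD2_c13 LD3_c35) Lrfl Lrfl
theorem f136289 : Led Lsl_gt (LP (LK LD1_c9 LD2_c30 LD3_c13)) = (LP (LK LD1_c4 LD2_c48 LD3_c52)) :=
  Lre_g IH (LK LD1_c9 LD2_c30 LD3_c13) (LK LD1_c4 LD2_c48 LD3_c52) Lrfl Lrfl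
theorem f571453 : Led Lsl_ef (LP (LK LD1_c20 LD2_c13 LD3_c35)) = (LP (LK LD1_c17 LD2_c31 LD3_c31)) :=
  Lgr Lrot17 (Lpe (f542577 IH) (Lpe (f571452 IH) (Lpr_dt (K42.f382000 IH) (Lpr_gf (K74.f561442 IH) (Lpe (K42.f558901 IH) (Lpr_gf (K42.f571442 IH) (Lpe (K40.f136293 IH) (Lpr_dt (K40.f136284 IH) (Lpe (f136289 IH) (Lpe (f136303 IH) (Lpn (LP (LK LD1_c17 LD2_c31 LD3_c31)))))))))))))
theorem f669301 : Led Lsl_bf (LP (LK LD1_c20 LD2_c25 LD3_c49)) = (LP (LK LD1_c20 LD2_c13 LD3_c35)) :=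
  Lgr Lrot96 (Lpe (f618486 IH) (Lpr_bt (f669297 IH) (Lpe (f571453 IH) (Lpn (LP (LK LD1_c20 LD2_c13 LD3_c35))))))
theorem f972555 : Led Lsl_at (LP (LK LD1_c23 LD2_c24 LD3_c42)) = (LP (LK LD1_c20 LD2_c13 LD3_c35)) :=
  Lgr Lrot67 (Lpr_bf (f750631 IH) (Lpr_af (f972551 IH) (Lpe (f972544 IH) (Lpe (f876656 IH) (Lpr_bf (f669301 IH) (Lpn (LP (LK LD1_c20 LD2_c13 LD3_c35))))))))
theorem f972556 : Led Lsl_at (LP (LK LD1_c23 LD2_c24 LD3_c42)) = (LP (LK LD1_c20 LD2_c13 LD3_c35)) :=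
  Leop (Lpe (f972555 IH) (Lpn (LP (LK LD1_c23 LD2_c24 LD3_c42))))
theorem seed_2983 : LEOK LG_a (LK LD1_c23 LD2_c24 LD3_c42) :=
  Leoe_a (LK LD1_c23 LD2_c24 LD3_c42) (f972556 IH)
def v47307 : LQ := Led Lsl_gf (LP (LK LD1_c11 LD2_c17 LD3_c25))
theorem f957974 : Led Lsl_gf (LP (LK LD1_c11 LD2_c17 LD3_c25)) = v47307 :=
  Lrfl
theorem f972563 : Led Lsl_ff (LP (LK LD1_c23 LD2_c24 LD3_c42)) = v47307 :=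
  Lgr Lrot52 (Lpr_at (f972555 IH) (Lpe (f542577 IH) (Lpr_gf (f957974 IH) (Lpn v47307))))
theorem f972564 : Led Lsl_ft (LP (LK LD1_c23 LD2_c24 LD3_c42)) = v47307 :=
  Lgr Lrot48 (Lpr_ff (f972563 IH) (Lpn v47307))
theorem f542548 : Led Lsl_ct (LP (LK LD1_c11 LD2_c17 LD3_c49)) = (LP (LK LD1_c20 LD2_c13 LD3_c61)) :=
  Lre_c IH (LK LD1_c11 LD2_c17 LD3_c49) (LK LD1_c20 LD2_c13 LD3_c61) Lrfl Lrfl
theorem f13191 : Led Lsl_gt (LP (LK LD1_c13 LD2_c54 LD3_c33)) = (LP (LK LD1_c7 LD2_c21 LD3_c27)) :=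
  Lre_g IH (LK LD1_c13 LD2_c54 LD3_c33) (LK LD1_c7 LD2_c21 LD3_c27) Lrfl Lrfl
theorem f13198 : Led Lsl_ct (LP (LK LD1_c23 LD2_c24 LD3_c44)) = (LP (LK LD1_c13 LD2_c54 LD3_c33)) :=
  Lre_c IH (LK LD1_c23 LD2_c24 LD3_c44) (LK LD1_c13 LD2_c54 LD3_c33) Lrfl Lrfl
theorem f745216 : Led Lsl_gt (LP (LK LD1_c20 LD2_c13 LD3_c37)) = (LP (LK LD1_c23 LD2_c24 LD3_c44)) :=
  Lgr Lrot82 (Lpe (K55.f542549 IH) (Lpr_ct (f542548 IH) (Lpr_gf (K75.f542554 IH) (Lpr_cf (K55.f745206 IH) (Lpr_bt (K55.f416363 IH) (Lpr_gf (K24.f416360 IH) (Lpe (K50.f571717 IH) (Lpr_ct (K55.f613751 IH) (Lpe (f13191 IH) (Lpe (f13198 IH) (Lpn (LP (LK LD1_c23 LD2_c24 LD3_c44)))))))))))))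
theorem f972565 : Led Lsl_af (LP (LK LD1_c23 LD2_c24 LD3_c44)) = v47307 :=
  Lgr Lrot31 (Lpe (f745216 IH) (Lpe (K75.f700847 IH) (Lpr_ft (f972564 IH) (Lpn v47307))))
theorem f972561 : Led Lsl_af (LP (LK LD1_c23 LD2_c24 LD3_c42)) = (LP (LK LD1_c20 LD2_c13 LD3_c35)) :=
  Lgr Lrot0 (Lpr_at (f972555 IH) (Lpn (LP (LK LD1_c20 LD2_c13 LD3_c35))))
theorem f972567 : Led Lsl_ft (LP (LK LD1_c23 LD2_c24 LD3_c44)) = (LP (LK LD1_c20 LD2_c13 LD3_c35)) :=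
  Lgr Lrot101 (Lpr_af (f972565 IH) (Lpe (f972564 IH) (Lpr_af (f972561 IH) (Lpn (LP (LK LD1_c20 LD2_c13 LD3_c35))))))
theorem f972568 : Led Lsl_ft (LP (LK LD1_c23 LD2_c24 LD3_c44)) = (LP (LK LD1_c20 LD2_c13 LD3_c35)) :=
  Leop (Lpe (f972567 IH) (Lpn (LP (LK LD1_c23 LD2_c24 LD3_c44))))
theorem seed_2984 : LEOK LG_f (LK LD1_c23 LD2_c24 LD3_c44) :=
  Leoe_f (LK LD1_c23 LD2_c24 LD3_c44) (f972568 IH)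
def v49860 : LQ := Led Lsl_dt (LP (LK LD1_c11 LD2_c49 LD3_c8))
theorem f972894 : Led Lsl_dt (LP (LK LD1_c11 LD2_c49 LD3_c8)) = v49860 :=
  Lrfl
theorem f64560 : Led Lsl_et (LP (LK LD1_c11 LD2_c49 LD3_c8)) = (LP (LK LD1_c6 LD2_c2 LD3_c23)) :=
  Lre_e IH (LK LD1_c11 LD2_c49 LD3_c8) (LK LD1_c6 LD2_c2 LD3_c23) Lrfl Lrfl
theorem f64556 : Led Lsl_et (LP (LK LD1_c1 LD2_c24 LD3_c23)) = (LP (LK LD1_c2 LD2_c57 LD3_c17)) :=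
  Lre_e IH (LK LD1_c1 LD2_c24 LD3_c23) (LK LD1_c2 LD2_c57 LD3_c17) Lrfl Lrfl
theorem f83020 : Led Lsl_et (LP (LK LD1_c5 LD2_c55 LD3_c53)) = (LP (LK LD1_c2 LD2_c54 LD3_c17)) :=
  Lre_e IH (LK LD1_c5 LD2_c55 LD3_c53) (LK LD1_c2 LD2_c54 LD3_c17) Lrfl Lrfl
def v16257 : LQ := Led Lsl_dt (LP (LK LD1_c5 LD2_c55 LD3_c53))
theorem f747367 : Led Lsl_dt (LP (LK LD1_c5 LD2_c55 LD3_c53)) = v16257 :=
  Lrfl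
theorem f972899 : Led Lsl_gf v16257 = v49860 :=
  Lgr Lrot145 (Lpe (f747367 IH) (Lpr_et (f83020 IH) (Lpe (K8.f116779 IH) (Lpr_dt (K4.f64540 IH) (Lpe (K4.f64482 IH) (Lpe (K8.f56777 IH) (Lpr_et (f64556 IH) (Lpr_gt (K50.f64557 IH) (Lpe (f64560 IH) (Lpr_dt (f972894 IH) (Lpn v49860)))))))))))
theorem f747369 : Led Lsl_df (LP (LK LD1_c5 LD2_c55 LD3_c53)) = v16257 :=
  Lgr Lrot38 (Lpr_dt (f747367 IH) (Lpn v16257))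
theorem f509910 : Led Lsl_ct (LP (LK LD1_c9 LD2_c31 LD3_c38)) = (LP (LK LD1_c17 LD2_c33 LD3_c31)) :=
  Lre_c IH (LK LD1_c9 LD2_c31 LD3_c38) (LK LD1_c17 LD2_c33 LD3_c31) Lrfl Lrfl
def v49859 : LQ := Led Lsl_gf (LP (LK LD1_c11 LD2_c49 LD3_c8))
theorem f972893 : Led Lsl_gf (LP (LK LD1_c11 LD2_c49 LD3_c8)) = v49859 :=
  Lrfl
theorem f972900 : (LP (LK LD1_c17 LD2_c33 LD3_c31)) = v49859 :=
  (Llr Lrot8 (Lpe (f509910 IH) (Lpr_gt (K55.f707310 IH) (Lpr_dt (K45.f116986 IH) (Lpr_gt (K45.f72026 IH) (Lpr_dt (K69.f72018 IH) (Lpe (K69.f72031 IH) (Lpr_df (f747369 IH) (Lpr_gf (f972899 IH) (Lpe (f972894 IH) (Lpr_gf (f972893 IH) (Lpn v49859)))))))))))).symm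
theorem f972901 : Led Lsl_gt (LP (LK LD1_c17 LD2_c33 LD3_c31)) = (LP (LK LD1_c11 LD2_c49 LD3_c8)) :=
  Leop (Lpr_gf (f972893 IH) (Lpq (f972900 IH) (Lpn (LP (LK LD1_c17 LD2_c33 LD3_c31)))))
theorem seed_2985 : LEOK LG_g (LK LD1_c17 LD2_c33 LD3_c31) :=
  Leoe_g (LK LD1_c17 LD2_c33 LD3_c31) (f972901 IH)
theorem f760943 : Led Lsl_bt (LP (LK LD1_c17 LD2_c33 LD3_c31)) = K58.v17566 :=
  Lgr Lrot128 (Lpe (f509910 IH) (Lpe (K58.f510141 IH) (Lpr_cf (K48.f509828 IH) (Lpr_bf (K51.f647930 IH) (Lpq (K51.f707580 IH) (Lpr_cf (K58.f760941 IH) (Lpn K58.v17566)))))))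
theorem f760946 : Led Lsl_bf (LP (LK LD1_c17 LD2_c33 LD3_c31)) = K58.v17566 :=
  Lgr Lrot24 (Lpr_bt (f760943 IH) (Lpn K58.v17566))
theorem f648942 : Led Lsl_gf K51.v5442 = K51.v5694 :=
  Lgr Lrot47 (Lpe (K51.f647670 IH) (Lpr_af (K51.f647672 IH) (Lpr_ff (K51.f648939 IH) (Lpn K51.v5694))))
theorem f715981 : Led Lsl_bt (LP (LK LD1_c12 LD2_c47 LD3_c22)) = (LP (LK LD1_c6 LD2_c41 LD3_c0)) :=
  Lre_b IH (LK LD1_c12 LD2_c47 LD3_c22) (LK LD1_c6 LD2_c41 LD3_c0) Lrfl Lrfl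
theorem f650265 : Led Lsl_ct (LP (LK LD1_c12 LD2_c47 LD3_c22)) = (LP (LK LD1_c6 LD2_c41 LD3_c5)) :=
  Lre_c IH (LK LD1_c12 LD2_c47 LD3_c22) (LK LD1_c6 LD2_c41 LD3_c5) Lrfl Lrfl
theorem f651639 : Led Lsl_gt (LP (LK LD1_c12 LD2_c47 LD3_c33)) = (LP (LK LD1_c6 LD2_c41 LD3_c5)) :=
  Lre_g IH (LK LD1_c12 LD2_c47 LD3_c33) (LK LD1_c6 LD2_c41 LD3_c5) Lrfl Lrfl
theorem f615296 : Led Lsl_bt (LP (LK LD1_c20 LD2_c51 LD3_c37)) = (LP (LK LD1_c11 LD2_c49 LD3_c8)) :=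
  Lre_b IH (LK LD1_c20 LD2_c51 LD3_c37) (LK LD1_c11 LD2_c49 LD3_c8) Lrfl Lrfl
theorem f972934 : Led Lsl_cf (LP (LK LD1_c12 LD2_c47 LD3_c33)) = (LP (LK LD1_c20 LD2_c51 LD3_c37)) :=
  Lgr Lrot160 (Lpr_gt (f651639 IH) (Lpe (f650265 IH) (Lpr_bt (f715981 IH) (Lpqs (K59.f772273 IH) (Lpr_gt (K59.f766801 IH) (Lpe (K59.f766799 IH) (Lpq (K57.f707775 IH) (Lpe (f648942 IH) (Lpr_cf (K58.f760941 IH) (Lpe (f760946 IH) (Lpqs (f972900 IH) (Lpe (f972893 IH) (Lpe (f615296 IH) (Lpn (LP (LK LD1_c20 LD2_c51 LD3_c37))))))))))))))))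
theorem f972935 : Led Lsl_ct (LP (LK LD1_c20 LD2_c51 LD3_c37)) = (LP (LK LD1_c12 LD2_c47 LD3_c33)) :=
  Leop (Lpr_cf (f972934 IH) (Lpn (LP (LK LD1_c20 LD2_c51 LD3_c37))))
theorem seed_2986 : LEOK LG_c (LK LD1_c20 LD2_c51 LD3_c37) :=
  Leoe_c (LK LD1_c20 LD2_c51 LD3_c37) (f972935 IH)
def v49875 : LQ := Led Lsl_et (LP (LK LD1_c11 LD2_c49 LD3_c18))
theorem f973023 : Led Lsl_et (LP (LK LD1_c11 LD2_c49 LD3_c18)) = v49875 :=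
  Lrfl
theorem f141835 : Led Lsl_et (LP (LK LD1_c3 LD2_c17 LD3_c49)) = (LP (LK LD1_c1 LD2_c35 LD3_c26)) :=
  Lre_e IH (LK LD1_c3 LD2_c17 LD3_c49) (LK LD1_c1 LD2_c35 LD3_c26) Lrfl Lrfl
theorem f77019 : Led Lsl_dt (LP (LK LD1_c3 LD2_c17 LD3_c49)) = (LP (LK LD1_c6 LD2_c39 LD3_c9)) :=
  Lre_d IH (LK LD1_c3 LD2_c17 LD3_c49) (LK LD1_c6 LD2_c39 LD3_c9) Lrfl Lrfl
theorem f141836 : Led Lsl_gt (LP (LK LD1_c12 LD2_c44 LD3_c1)) = (LP (LK LD1_c6 LD2_c39 LD3_c9)) :=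
  Lre_g IH (LK LD1_c12 LD2_c44 LD3_c1) (LK LD1_c6 LD2_c39 LD3_c9) Lrfl Lrfl
theorem f100063 : Led Lsl_et (LP (LK LD1_c17 LD2_c9 LD3_c57)) = (LP (LK LD1_c9 LD2_c15 LD3_c27)) :=
  Lre_e IH (LK LD1_c17 LD2_c9 LD3_c57) (LK LD1_c9 LD2_c15 LD3_c27) Lrfl Lrfl
theorem f141837 : Led Lsl_df (LP (LK LD1_c12 LD2_c44 LD3_c1)) = (LP (LK LD1_c17 LD2_c9 LD3_c57)) :=
  Lgr Lrot170 (Lpr_gt (f141836 IH) (Lpe (f77019 IH) (Lpr_et (f141835 IH) (Lpr_gt (K0.f14019 IH) (Lpr_dt (K7.f14020 IH) (Lpr_gt (K8.f141831 IH) (Lpe (K36.f73011 IH) (Lpr_et (K69.f80104 IH) (Lpr_gt (K75.f100057 IH) (Lpe (f100063 IH) (Lpn (LP (LK LD1_c17 LD2_c9 LD3_c57)))))))))))))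
theorem f973028 : Led Lsl_gf (LP (LK LD1_c17 LD2_c9 LD3_c57)) = v49875 :=
  Lgr Lrot138 (Lpe (f141837 IH) (Lpr_gt (f141836 IH) (Lpe (f77019 IH) (Lpr_et (f141835 IH) (Lpr_gt (K0.f14019 IH) (Lpe (K69.f100358 IH) (Lpr_dt (K42.f100359 IH) (Lpr_gt (K69.f902670 IH) (Lpe (K69.f902674 IH) (Lpr_et (f973023 IH) (Lpn v49875)))))))))))
theorem f77015 : Led Lsl_dt (LP (LK LD1_c6 LD2_c39 LD3_c9)) = (LP (LK LD1_c3 LD2_c17 LD3_c49)) :=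
  Lre_d IH (LK LD1_c6 LD2_c39 LD3_c9) (LK LD1_c3 LD2_c17 LD3_c49) Lrfl Lrfl
theorem f141844 : Led Lsl_ct (LP (LK LD1_c3 LD2_c17 LD3_c49)) = (LP (LK LD1_c1 LD2_c36 LD3_c37)) :=
  Lre_c IH (LK LD1_c3 LD2_c17 LD3_c49) (LK LD1_c1 LD2_c36 LD3_c37) Lrfl Lrfl
theorem f750277 : Led Lsl_gf K71.v13107 = K69.v16539 :=
  Lgr Lrot141 (Lpe (K71.f701151 IH) (Lpr_dt (K11.f100199 IH) (Lpr_gt (K11.f452282 IH) (Lpe (K11.f207357 IH) (Lpr_et (K11.f207356 IH) (Lpr_gt (K11.f207344 IH) (Lpq (K35.f538049 IH) (Lpe (K35.f500976 IH) (Lpr_gt (K42.f69213 IH) (Lpe (K45.f116997 IH) (Lpr_et (K69.f750272 IH) (Lpn K69.v16539))))))))))))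
theorem f973029 : Led Lsl_ct K69.v16539 = v49875 :=
  Lgr Lrot8 (Lpe (f750277 IH) (Lpe (K71.f701153 IH) (Lpe (K71.f672021 IH) (Lpe (K65.f509260 IH) (Lpe (f141844 IH) (Lpe (f77015 IH) (Lpe (f141836 IH) (Lpr_df (f141837 IH) (Lpr_gf (f973028 IH) (Lpn v49875))))))))))
theorem f973030 : Led Lsl_dt (LP (LK LD1_c12 LD2_c44 LD3_c32)) = v49875 :=
  Lgr Lrot113 (Lpe (K60.f778257 IH) (Lpe (K60.f651092 IH) (Lpe (K17.f413701 IH) (Lpr_ct (K65.f624350 IH) (Lpr_gt (K51.f509318 IH) (Lpr_dt (K46.f509303 IH) (Lpr_gt (K46.f652848 IH) (Lpq (K55.f748094 IH) (Lpr_dt (K69.f750279 IH) (Lpr_ct (f973029 IH) (Lpn v49875)))))))))))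
theorem f755133 : Led Lsl_ft (LP (LK LD1_c12 LD2_c37 LD3_c10)) = (LP (LK LD1_c6 LD2_c38 LD3_c34)) :=
  Lgr Lrot48 (Lpr_ff (K57.f755131 IH) (Lpn (LP (LK LD1_c6 LD2_c38 LD3_c34))))
theorem f755181 : Led Lsl_ff K57.v17109 = K56.v9389 :=
  Lgr Lrot19 (Lpe (K59.f755130 IH) (Lpr_ft (f755133 IH) (Lpr_dt (K56.f675654 IH) (Lpn K56.v9389))))
theorem f773851 : Led Lsl_bf (LP (LK LD1_c11 LD2_c49 LD3_c18)) = (LP (LK LD1_c12 LD2_c2 LD3_c40)) :=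
  Lgr Lrot61 (Lpr_ft (K50.f614616 IH) (Lpe (K69.f435614 IH) (Lpq (K59.f768800 IH) (Lpe (f755181 IH) (Lpq (K59.f773842 IH) (Lpn (LP (LK LD1_c12 LD2_c2 LD3_c40))))))))
theorem f755127 : Led Lsl_ef (LP (LK LD1_c12 LD2_c46 LD3_c12)) = K57.v17109 :=
  Lgr Lrot28 (Lpe (K49.f651312 IH) (Lpe (K59.f678601 IH) (Lpr_ct (K57.f755125 IH) (Lpn K57.v17109))))
theorem f755184 : Led Lsl_et (LP (LK LD1_c12 LD2_c46 LD3_c12)) = K57.v17109 :=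
  Lgr Lrot87 (Lpr_ef (f755127 IH) (Lpn K57.v17109))
theorem f973024 : Led Lsl_bf (LP (LK LD1_c12 LD2_c46 LD3_c12)) = v49875 :=
  Lgr Lrot96 (Lpr_et (f755184 IH) (Lpq (K59.f773842 IH) (Lpe (f773851 IH) (Lpr_et (f973023 IH) (Lpn v49875)))))
def v19244 : LQ := Led Lsl_bt (LP (LK LD1_c6 LD2_c40 LD3_c9))
theorem f778820 : Led Lsl_bt (LP (LK LD1_c6 LD2_c40 LD3_c9)) = v19244 :=
  Lrfl
theorem f973033 : (LP (LK LD1_c12 LD2_c44 LD3_c32)) = v19244 :=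
  (Llr Lrot12 (Lpr_dt (f973030 IH) (Lpe (f973024 IH) (Lpr_dt (K59.f649464 IH) (Lpr_bt (f778820 IH) (Lpn v19244)))))).symm
theorem f778276 : Led Lsl_ff (LP (LK LD1_c6 LD2_c39 LD3_c24)) = K60.v19178 :=
  Lgr Lrot3 (Lpr_ft (K60.f778272 IH) (Lpn K60.v19178))
theorem f651088 : Led Lsl_dt (LP (LK LD1_c6 LD2_c39 LD3_c24)) = (LP (LK LD1_c3 LD2_c17 LD3_c54)) :=
  Lre_d IH (LK LD1_c6 LD2_c39 LD3_c24) (LK LD1_c3 LD2_c17 LD3_c54) Lrfl Lrfl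
theorem f778313 : Led Lsl_dt K70.v6105 = K60.v19178 :=
  Lgr Lrot60 (Lpe (K70.f651098 IH) (Lpe (f651088 IH) (Lpr_ff (f778276 IH) (Lpn K60.v19178))))
theorem f913537 : K60.v19178 = (LP (LK LD1_c12 LD2_c43 LD3_c60)) :=
  Lefun (Lecon (f778313 IH) (K70.f913524 IH)) (K69.f642878 IH)
theorem f778251 : Led Lsl_dt K60.v6104 = K60.v19177 :=
  Lgr Lrot42 (Lpr_df (K60.f778249 IH) (Lpn K60.v19177))
theorem f76987 : Led Lsl_dt (LP (LK LD1_c6 LD2_c39 LD3_c7)) = (LP (LK LD1_c12 LD2_c43 LD3_c56)) :=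
  Lre_d IH (LK LD1_c6 LD2_c39 LD3_c7) (LK LD1_c12 LD2_c43 LD3_c56) Lrfl Lrfl
theorem f913512 : K60.v19177 = (LP (LK LD1_c12 LD2_c43 LD3_c56)) :=
  Lefun (Lecon (f778251 IH) (K70.f913501 IH)) (f76987 IH)
theorem f76996 : Led Lsl_gt (LP (LK LD1_c21 LD2_c51 LD3_c8)) = (LP (LK LD1_c12 LD2_c43 LD3_c56)) :=
  Lre_g IH (LK LD1_c21 LD2_c51 LD3_c8) (LK LD1_c12 LD2_c43 LD3_c56) Lrfl Lrfl
theorem f913734 : Led Lsl_gf (LP (LK LD1_c21 LD2_c51 LD3_c8)) = (LP (LK LD1_c12 LD2_c43 LD3_c60)) :=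
  Lgr Lrot47 (Lpr_gt (f76996 IH) (Lpq (f913512 IH) (Lpe (K60.f778246 IH) (Lpr_ff (f778276 IH) (Lpqs (f913537 IH) (Lpn (LP (LK LD1_c12 LD2_c43 LD3_c60))))))))
theorem f773853 : Led Lsl_ff (LP (LK LD1_c9 LD2_c21 LD3_c41)) = (LP (LK LD1_c12 LD2_c46 LD3_c12)) :=
  Lgr Lrot72 (Lpr_et (K69.f446223 IH) (Lpe (K58.f508553 IH) (Lpr_et (K59.f435625 IH) (Lpq (K59.f768800 IH) (Lpe (f755181 IH) (Lpq (K59.f773842 IH) (Lpqs (K59.f773842 IH) (Lpe (f755127 IH) (Lpn (LP (LK LD1_c12 LD2_c46 LD3_c12)))))))))))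
theorem f774923 : Led Lsl_ff (LP (LK LD1_c6 LD2_c40 LD3_c9)) = (LP (LK LD1_c12 LD2_c38 LD3_c8)) :=
  Lgr Lrot19 (Lpr_dt (K49.f651309 IH) (Lpe (f773853 IH) (Lpr_dt (K69.f774914 IH) (Lpn (LP (LK LD1_c12 LD2_c38 LD3_c8))))))
theorem f778822 : Led Lsl_ff (LP (LK LD1_c21 LD2_c44 LD3_c40)) = v19244 :=
  Lgr Lrot25 (Lpr_bt (K69.f654160 IH) (Lpe (f774923 IH) (Lpr_bt (f778820 IH) (Lpn v19244))))
theorem f778823 : Led Lsl_ft (LP (LK LD1_c21 LD2_c44 LD3_c40)) = v19244 :=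
  Lgr Lrot48 (Lpr_ff (f778822 IH) (Lpn v19244))
theorem f913736 : Led Lsl_af (LP (LK LD1_c21 LD2_c51 LD3_c8)) = v19244 :=
  Lgr Lrot31 (Lpr_gf (f913734 IH) (Lpr_gf (K69.f900396 IH) (Lpr_ft (f778823 IH) (Lpn v19244))))
theorem f973034 : Led Lsl_at (LP (LK LD1_c12 LD2_c44 LD3_c32)) = (LP (LK LD1_c21 LD2_c51 LD3_c8)) :=
  Leop (Lpr_af (f913736 IH) (Lpq (f973033 IH) (Lpn (LP (LK LD1_c12 LD2_c44 LD3_c32)))))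
theorem seed_2987 : LEOK LG_a (LK LD1_c12 LD2_c44 LD3_c32) :=
  Leoe_a (LK LD1_c12 LD2_c44 LD3_c32) (f973034 IH)
def v49885 : LQ := Led Lsl_ct (LP (LK LD1_c11 LD2_c49 LD3_c26))
theorem f973098 : Led Lsl_ct (LP (LK LD1_c11 LD2_c49 LD3_c26)) = v49885 :=
  Lrfl
theorem f161878 : Led Lsl_dt (LP (LK LD1_c11 LD2_c48 LD3_c52)) = (LP (LK LD1_c6 LD2_c2 LD3_c13)) :=
  Lre_d IH (LK LD1_c11 LD2_c48 LD3_c52) (LK LD1_c6 LD2_c2 LD3_c13) Lrfl Lrfl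
theorem f161872 : Led Lsl_gt (LP (LK LD1_c20 LD2_c51 LD3_c20)) = (LP (LK LD1_c11 LD2_c48 LD3_c52)) :=
  Lre_g IH (LK LD1_c20 LD2_c51 LD3_c20) (LK LD1_c11 LD2_c48 LD3_c52) Lrfl Lrfl
theorem f160857 : Led Lsl_et (LP (LK LD1_c6 LD2_c2 LD3_c13)) = (LP (LK LD1_c2 LD2_c57 LD3_c12)) :=
  Lre_e IH (LK LD1_c6 LD2_c2 LD3_c13) (LK LD1_c2 LD2_c57 LD3_c12) Lrfl Lrfl
theorem f160858 : Led Lsl_dt (LP (LK LD1_c6 LD2_c2 LD3_c13)) = (LP (LK LD1_c11 LD2_c48 LD3_c52)) :=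
  Lre_d IH (LK LD1_c6 LD2_c2 LD3_c13) (LK LD1_c11 LD2_c48 LD3_c52) Lrfl Lrfl
theorem f103602 : Led Lsl_et (LP (LK LD1_c16 LD2_c59 LD3_c41)) = (LP (LK LD1_c9 LD2_c7 LD3_c27)) :=
  Lre_e IH (LK LD1_c16 LD2_c59 LD3_c41) (LK LD1_c9 LD2_c7 LD3_c27) Lrfl Lrfl
theorem f161873 : Led Lsl_df (LP (LK LD1_c20 LD2_c51 LD3_c20)) = (LP (LK LD1_c16 LD2_c59 LD3_c41)) :=
  Lgr Lrot170 (Lpr_gt (f161872 IH) (Lpe (f160858 IH) (Lpr_et (f160857 IH) (Lpr_gt (K8.f161863 IH) (Lpe (K36.f161459 IH) (Lpe (K4.f103585 IH) (Lpe (K8.f35337 IH) (Lpr_et (K60.f83028 IH) (Lpr_gt (K55.f103601 IH) (Lpe (f103602 IH) (Lpn (LP (LK LD1_c16 LD2_c59 LD3_c41)))))))))))))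
theorem f973102 : Led Lsl_gf (LP (LK LD1_c16 LD2_c59 LD3_c41)) = v49885 :=
  Lgr Lrot148 (Lpe (f161873 IH) (Lpr_gt (f161872 IH) (Lpr_dt (f161878 IH) (Lpr_ct (K11.f161879 IH) (Lpq (K45.f557974 IH) (Lpe (K45.f509242 IH) (Lpr_gf (K42.f509240 IH) (Lpq (K42.f615000 IH) (Lpe (K51.f614675 IH) (Lpe (K51.f614699 IH) (Lpr_ct (f973098 IH) (Lpn v49885))))))))))))
theorem f706502 : Led Lsl_ft (LP (LK LD1_c9 LD2_c17 LD3_c23)) = (LP (LK LD1_c11 LD2_c49 LD3_c26)) :=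
  Lgr Lrot48 (Lpr_ff (K51.f706497 IH) (Lpn (LP (LK LD1_c11 LD2_c49 LD3_c26))))
theorem f905268 : Led Lsl_cf (LP (LK LD1_c9 LD2_c17 LD3_c23)) = K70.v38905 :=
  Lgr Lrot39 (Lpr_et (K50.f639705 IH) (Lpr_ct (K52.f61051 IH) (Lpr_et (K70.f905265 IH) (Lpn K70.v38905))))
theorem f973101 : Led Lsl_ff K70.v38905 = v49885 :=
  Lgr Lrot23 (Lpe (f905268 IH) (Lpr_ft (f706502 IH) (Lpr_ct (f973098 IH) (Lpn v49885))))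
theorem f499886 : Led Lsl_ct (LP (LK LD1_c12 LD2_c23 LD3_c31)) = (LP (LK LD1_c6 LD2_c25 LD3_c18)) :=
  Lre_c IH (LK LD1_c12 LD2_c23 LD3_c31) (LK LD1_c6 LD2_c25 LD3_c18) Lrfl Lrfl
theorem f615031 : Led Lsl_ct (LP (LK LD1_c11 LD2_c49 LD3_c25)) = (LP (LK LD1_c20 LD2_c51 LD3_c54)) :=
  Lre_c IH (LK LD1_c11 LD2_c49 LD3_c25) (LK LD1_c20 LD2_c51 LD3_c54) Lrfl Lrfl
theorem f706524 : Led Lsl_ef (LP (LK LD1_c12 LD2_c23 LD3_c31)) = (LP (LK LD1_c20 LD2_c51 LD3_c54)) :=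
  Lgr Lrot28 (Lpr_ct (f499886 IH) (Lpqs (K52.f706369 IH) (Lpr_et (K60.f706516 IH) (Lpr_ct (f615031 IH) (Lpn (LP (LK LD1_c20 LD2_c51 LD3_c54)))))))
theorem f905266 : Led Lsl_af (LP (LK LD1_c20 LD2_c51 LD3_c54)) = K70.v38905 :=
  Lgr Lrot50 (Lpe (f706524 IH) (Lpe (K52.f706458 IH) (Lpr_et (K70.f905265 IH) (Lpn K70.v38905))))
theorem f973103 : Led Lsl_gt (LP (LK LD1_c16 LD2_c59 LD3_c41)) = (LP (LK LD1_c20 LD2_c51 LD3_c54)) :=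
  Lgr Lrot46 (Lpr_gf (f973102 IH) (Lpe (f973101 IH) (Lpe (f905266 IH) (Lpn (LP (LK LD1_c20 LD2_c51 LD3_c54))))))
theorem f973104 : Led Lsl_gt (LP (LK LD1_c16 LD2_c59 LD3_c41)) = (LP (LK LD1_c20 LD2_c51 LD3_c54)) :=
  Leop (Lpe (f973103 IH) (Lpn (LP (LK LD1_c16 LD2_c59 LD3_c41))))
theorem seed_2988 : LEOK LG_g (LK LD1_c16 LD2_c59 LD3_c41) :=
  Leoe_g (LK LD1_c16 LD2_c59 LD3_c41) (f973104 IH)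
def v49900 : LQ := Led Lsl_gt (LP (LK LD1_c11 LD2_c49 LD3_c33))
theorem f973195 : Led Lsl_gt (LP (LK LD1_c11 LD2_c49 LD3_c33)) = v49900 :=
  Lrfl
theorem f79857 : Led Lsl_bt (LP (LK LD1_c4 LD2_c34 LD3_c38)) = (LP (LK LD1_c9 LD2_c6 LD3_c8)) :=
  Lre_b IH (LK LD1_c4 LD2_c34 LD3_c38) (LK LD1_c9 LD2_c6 LD3_c8) Lrfl Lrfl
def v38184 : LQ := Led Lsl_gf (LP (LK LD1_c9 LD2_c6 LD3_c8))
theorem f899801 : Led Lsl_gf (LP (LK LD1_c9 LD2_c6 LD3_c8)) = v38184 :=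
  Lrfl
theorem f899802 : Led Lsl_gt (LP (LK LD1_c12 LD2_c48 LD3_c61)) = v38184 :=
  Lgr Lrot5 (Lpr_ft (K41.f144441 IH) (Lpr_at (K41.f614560 IH) (Lpr_gf (f899801 IH) (Lpn v38184))))
theorem f148410 : Led Lsl_gt (LP (LK LD1_c1 LD2_c36 LD3_c2)) = (LP (LK LD1_c3 LD2_c19 LD3_c0)) :=
  Lre_g IH (LK LD1_c1 LD2_c36 LD3_c2) (LK LD1_c3 LD2_c19 LD3_c0) Lrfl Lrfl
theorem f124661 : Led Lsl_bt (LP (LK LD1_c9 LD2_c25 LD3_c15)) = (LP (LK LD1_c6 LD2_c30 LD3_c49)) :=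
  Lgr Lrot127 (Lpr_bf (K5.f124659 IH) (Lpn (LP (LK LD1_c6 LD2_c30 LD3_c49))))
theorem f78089 : Led Lsl_gt (LP (LK LD1_c9 LD2_c25 LD3_c20)) = (LP (LK LD1_c4 LD2_c46 LD3_c20)) :=
  Lre_g IH (LK LD1_c9 LD2_c25 LD3_c20) (LK LD1_c4 LD2_c46 LD3_c20) Lrfl Lrfl
theorem f440341 : Led Lsl_ct (LP (LK LD1_c17 LD2_c22 LD3_c46)) = (LP (LK LD1_c9 LD2_c25 LD3_c20)) :=
  Lre_c IH (LK LD1_c17 LD2_c22 LD3_c46) (LK LD1_c9 LD2_c25 LD3_c20) Lrfl Lrfl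
theorem f899803 : Led Lsl_bt (LP (LK LD1_c17 LD2_c22 LD3_c46)) = v38184 :=
  Lgr Lrot92 (Lpr_ct (f440341 IH) (Lpr_gt (f78089 IH) (Lpe (K5.f78081 IH) (Lpr_bt (f124661 IH) (Lpqs (K59.f770598 IH) (Lpe (K59.f652135 IH) (Lpr_ct (K57.f139817 IH) (Lpr_gt (f148410 IH) (Lpe (K62.f614855 IH) (Lpr_bt (K41.f139826 IH) (Lpr_gt (f899802 IH) (Lpn v38184))))))))))))
theorem f899806 : Led Lsl_gt (LP (LK LD1_c17 LD2_c22 LD3_c32)) = (LP (LK LD1_c9 LD2_c25 LD3_c20)) :=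
  Lre_g IH (LK LD1_c17 LD2_c22 LD3_c32) (LK LD1_c9 LD2_c25 LD3_c20) Lrfl Lrfl
theorem f973198 : Led Lsl_cf (LP (LK LD1_c17 LD2_c22 LD3_c32)) = v49900 :=
  Lgr Lrot125 (Lpr_gt (f899806 IH) (Lpe (f440341 IH) (Lpr_bt (f899803 IH) (Lpe (f899801 IH) (Lpe (f79857 IH) (Lpr_ct (K41.f79854 IH) (Lpr_gt (K35.f79850 IH) (Lpe (K59.f438499 IH) (Lpr_bt (K59.f438497 IH) (Lpr_gt (f973195 IH) (Lpn v49900)))))))))))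
theorem f115058 : Led Lsl_ft (LP (LK LD1_c17 LD2_c22 LD3_c32)) = (LP (LK LD1_c9 LD2_c25 LD3_c12)) :=
  Lre_f IH (LK LD1_c17 LD2_c22 LD3_c32) (LK LD1_c9 LD2_c25 LD3_c12) Lrfl Lrfl
def v39581 : LQ := Led Lsl_et (LP (LK LD1_c9 LD2_c25 LD3_c10))
theorem f910107 : Led Lsl_et (LP (LK LD1_c9 LD2_c25 LD3_c10)) = v39581 :=
  Lrfl
theorem f910110 : Led Lsl_ef (LP (LK LD1_c9 LD2_c25 LD3_c10)) = v39581 :=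
  Lgr Lrot88 (Lpr_et (f910107 IH) (Lpn v39581))
theorem f115057 : Led Lsl_et (LP (LK LD1_c4 LD2_c46 LD3_c17)) = (LP (LK LD1_c9 LD2_c25 LD3_c12)) :=
  Lre_e IH (LK LD1_c4 LD2_c46 LD3_c17) (LK LD1_c9 LD2_c25 LD3_c12) Lrfl Lrfl
theorem f910112 : Led Lsl_ct (LP (LK LD1_c9 LD2_c25 LD3_c12)) = v39581 :=
  Lgr Lrot15 (Lpe (f115057 IH) (Lpe (K42.f115050 IH) (Lpr_ef (f910110 IH) (Lpn v39581))))
theorem f973200 : Led Lsl_ft v39581 = v49900 :=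
  Lgr Lrot4 (Lpe (f910112 IH) (Lpe (f115058 IH) (Lpr_cf (f973198 IH) (Lpn v49900))))
theorem f973202 : Led Lsl_ff v39581 = v49900 :=
  Lgr Lrot3 (Lpr_ft (f973200 IH) (Lpn v49900))
theorem f124621 : Led Lsl_at (LP (LK LD1_c4 LD2_c46 LD3_c18)) = (LP (LK LD1_c9 LD2_c25 LD3_c10)) :=
  Lre_a IH (LK LD1_c4 LD2_c46 LD3_c18) (LK LD1_c9 LD2_c25 LD3_c10) Lrfl Lrfl
theorem f910108 : Led Lsl_af (LP (LK LD1_c9 LD2_c25 LD3_c15)) = v39581 :=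
  Lgr Lrot50 (Lpr_et (K5.f124663 IH) (Lpr_at (f124621 IH) (Lpr_et (f910107 IH) (Lpn v39581))))
theorem f124667 : Led Lsl_gt (LP (LK LD1_c17 LD2_c22 LD3_c34)) = (LP (LK LD1_c9 LD2_c25 LD3_c15)) :=
  Lre_g IH (LK LD1_c17 LD2_c22 LD3_c34) (LK LD1_c9 LD2_c25 LD3_c15) Lrfl Lrfl
theorem f622904 : Led Lsl_ff (LP (LK LD1_c6 LD2_c2 LD3_c44)) = (LP (LK LD1_c5 LD2_c50 LD3_c25)) :=
  Lgr Lrot3 (Lpr_ft (K49.f622900 IH) (Lpn (LP (LK LD1_c5 LD2_c50 LD3_c25))))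
theorem f622580 : Led Lsl_bt (LP (LK LD1_c11 LD2_c28 LD3_c50)) = (LP (LK LD1_c5 LD2_c50 LD3_c25)) :=
  Lre_b IH (LK LD1_c11 LD2_c28 LD3_c50) (LK LD1_c5 LD2_c50 LD3_c25) Lrfl Lrfl
theorem f622962 : Led Lsl_ft (LP (LK LD1_c11 LD2_c49 LD3_c33)) = (LP (LK LD1_c11 LD2_c28 LD3_c50)) :=
  Lgr Lrot75 (Lpe (K59.f438497 IH) (Lpr_ff (f622904 IH) (Lpe (f622580 IH) (Lpn (LP (LK LD1_c11 LD2_c28 LD3_c50))))))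
def v48303 : LQ := Led Lsl_at (LP (LK LD1_c11 LD2_c28 LD3_c50))
theorem f964536 : Led Lsl_at (LP (LK LD1_c11 LD2_c28 LD3_c50)) = v48303 :=
  Lrfl
theorem f973197 : Led Lsl_gf v48303 = v49900 :=
  Lgr Lrot76 (Lpe (f964536 IH) (Lpe (f622962 IH) (Lpr_gt (f973195 IH) (Lpn v49900))))
theorem f973203 : (LP (LK LD1_c17 LD2_c22 LD3_c34)) = v48303 :=
  (Llr Lrot76 (Lpr_gt (f124667 IH) (Lpr_af (f910108 IH) (Lpr_ff (f973202 IH) (Lpe (f973197 IH) (Lpn v48303)))))).symm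
theorem f964537 : Led Lsl_af (LP (LK LD1_c11 LD2_c28 LD3_c50)) = v48303 :=
  Lgr Lrot0 (Lpr_at (f964536 IH) (Lpn v48303))
theorem f973204 : Led Lsl_at (LP (LK LD1_c17 LD2_c22 LD3_c34)) = (LP (LK LD1_c11 LD2_c28 LD3_c50)) :=
  Leop (Lpr_af (f964537 IH) (Lpq (f973203 IH) (Lpn (LP (LK LD1_c17 LD2_c22 LD3_c34)))))
theorem seed_2989 : LEOK LG_a (LK LD1_c17 LD2_c22 LD3_c34) :=
  Leoe_a (LK LD1_c17 LD2_c22 LD3_c34) (f973204 IH)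
def v49934 : LQ := Led Lsl_gt (LP (LK LD1_c11 LD2_c49 LD3_c45))
theorem f973341 : Led Lsl_gt (LP (LK LD1_c11 LD2_c49 LD3_c45)) = v49934 :=
  Lrfl
def v49939 : LQ := Led Lsl_ct (LP (LK LD1_c11 LD2_c49 LD3_c47))
theorem f973353 : Led Lsl_ct (LP (LK LD1_c11 LD2_c49 LD3_c47)) = v49939 :=
  Lrfl
theorem f645794 : Led Lsl_dt (LP (LK LD1_c6 LD2_c2 LD3_c54)) = (LP (LK LD1_c11 LD2_c49 LD3_c47)) :=
  Lre_d IH (LK LD1_c6 LD2_c2 LD3_c54) (LK LD1_c11 LD2_c49 LD3_c47) Lrfl Lrfl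
def v16566 : LQ := Led Lsl_ft (LP (LK LD1_c6 LD2_c2 LD3_c53))
theorem f750459 : Led Lsl_ft (LP (LK LD1_c6 LD2_c2 LD3_c53)) = v16566 :=
  Lrfl
def v16562 : LQ := Led Lsl_at (LP (LK LD1_c6 LD2_c2 LD3_c53))
theorem f750444 : Led Lsl_at (LP (LK LD1_c6 LD2_c2 LD3_c53)) = v16562 :=
  Lrfl
theorem f750445 : Led Lsl_af (LP (LK LD1_c6 LD2_c2 LD3_c53)) = v16562 :=
  Lgr Lrot0 (Lpr_at (f750444 IH) (Lpn v16562))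
theorem f501006 : Led Lsl_gt (LP (LK LD1_c6 LD2_c2 LD3_c54)) = (LP (LK LD1_c2 LD2_c57 LD3_c32)) :=
  Lre_g IH (LK LD1_c6 LD2_c2 LD3_c54) (LK LD1_c2 LD2_c57 LD3_c32) Lrfl Lrfl
theorem f750446 : Led Lsl_ft (LP (LK LD1_c6 LD2_c2 LD3_c54)) = v16562 :=
  Lgr Lrot2 (Lpr_gt (f501006 IH) (Lpr_gt (K69.f140807 IH) (Lpr_af (f750445 IH) (Lpn v16562))))
theorem f750460 : Led Lsl_af (LP (LK LD1_c6 LD2_c2 LD3_c54)) = v16566 :=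
  Lgr Lrot45 (Lpr_ft (f750446 IH) (Lpe (f750445 IH) (Lpr_ft (f750459 IH) (Lpn v16566))))
theorem f900787 : Led Lsl_af (LP (LK LD1_c9 LD2_c14 LD3_c2)) = K69.v37955 :=
  Lgr Lrot50 (Lpe (K75.f750434 IH) (Lpq (K69.f900775 IH) (Lpe (K69.f898229 IH) (Lpr_et (K69.f898232 IH) (Lpn K69.v37955)))))
theorem f900788 : Led Lsl_at (LP (LK LD1_c9 LD2_c14 LD3_c2)) = K69.v37955 :=
  Lgr Lrot100 (Lpr_af (f900787 IH) (Lpn K69.v37955))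
theorem f740596 : Led Lsl_ef (LP (LK LD1_c11 LD2_c49 LD3_c44)) = (LP (LK LD1_c9 LD2_c8 LD3_c16)) :=
  Lgr Lrot88 (Lpr_et (K69.f740592 IH) (Lpn (LP (LK LD1_c9 LD2_c8 LD3_c16))))
theorem f425989 : Led Lsl_et (LP (LK LD1_c11 LD2_c41 LD3_c56)) = (LP (LK LD1_c5 LD2_c58 LD3_c43)) :=
  Lre_e IH (LK LD1_c11 LD2_c41 LD3_c56) (LK LD1_c5 LD2_c58 LD3_c43) Lrfl Lrfl
theorem f740598 : Led Lsl_bt (LP (LK LD1_c11 LD2_c49 LD3_c44)) = (LP (LK LD1_c11 LD2_c41 LD3_c56)) :=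
  Lgr Lrot119 (Lpr_ef (f740596 IH) (Lpe (K69.f643703 IH) (Lpe (f425989 IH) (Lpn (LP (LK LD1_c11 LD2_c41 LD3_c56))))))
theorem f900752 : Led Lsl_ft (LP (LK LD1_c11 LD2_c22 LD3_c8)) = (LP (LK LD1_c11 LD2_c49 LD3_c44)) :=
  Lgr Lrot75 (Lpr_bf (K75.f741795 IH) (Lpr_ff (K69.f900750 IH) (Lpe (f740598 IH) (Lpn (LP (LK LD1_c11 LD2_c49 LD3_c44))))))
theorem f900800 : (LP (LK LD1_c9 LD2_c14 LD3_c2)) = v16566 :=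
  (Llr Lrot78 (Lpe (K69.f750432 IH) (Lpr_ft (f900752 IH) (Lpr_dt (K69.f501000 IH) (Lpr_ft (f750459 IH) (Lpn v16566)))))).symm
theorem f900803 : (LP (LK LD1_c6 LD2_c2 LD3_c54)) = K69.v37955 :=
  Lefun (Lecon (Lfl_af (f750460 IH)) (f900800 IH).symm) (f900788 IH)
theorem f900806 : K69.v38115 = (LP (LK LD1_c11 LD2_c49 LD3_c47)) :=
  Lefun (Lecon (K69.f899272 IH) (f900803 IH).symm) (f645794 IH)
theorem f632063 : Led Lsl_gt (LP (LK LD1_c9 LD2_c14 LD3_c3)) = (LP (LK LD1_c4 LD2_c39 LD3_c10)) :=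
  Lre_g IH (LK LD1_c9 LD2_c14 LD3_c3) (LK LD1_c4 LD2_c39 LD3_c10) Lrfl Lrfl
theorem f900790 : Led Lsl_ft (LP (LK LD1_c9 LD2_c14 LD3_c3)) = K69.v37955 :=
  Lgr Lrot2 (Lpr_gt (f632063 IH) (Lpr_gt (K56.f632065 IH) (Lpr_af (f900787 IH) (Lpn K69.v37955))))
theorem f900792 : Led Lsl_ff (LP (LK LD1_c9 LD2_c14 LD3_c3)) = K69.v37955 :=
  Lgr Lrot3 (Lpr_ft (f900790 IH) (Lpn K69.v37955))
theorem f645777 : Led Lsl_gf (LP (LK LD1_c9 LD2_c14 LD3_c3)) = (LP (LK LD1_c6 LD2_c2 LD3_c51)) :=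
  Lgr Lrot47 (Lpr_gt (f632063 IH) (Lpe (K53.f632055 IH) (Lpr_ff (K53.f645758 IH) (Lpn (LP (LK LD1_c6 LD2_c2 LD3_c51))))))
theorem f699951 : Led Lsl_et (LP (LK LD1_c9 LD2_c8 LD3_c48)) = (LP (LK LD1_c4 LD2_c36 LD3_c19)) :=
  Lre_e IH (LK LD1_c9 LD2_c8 LD3_c48) (LK LD1_c4 LD2_c36 LD3_c19) Lrfl Lrfl
theorem f720693 : Led Lsl_df (LP (LK LD1_c9 LD2_c14 LD3_c3)) = (LP (LK LD1_c9 LD2_c8 LD3_c48)) :=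
  Lgr Lrot132 (Lpr_gf (f645777 IH) (Lpe (K53.f645464 IH) (Lpe (K53.f645804 IH) (Lpqs (K53.f720630 IH) (Lpe (K7.f138486 IH) (Lpr_dt (K7.f104776 IH) (Lpe (K4.f34732 IH) (Lpe (K8.f37766 IH) (Lpr_et (K56.f420494 IH) (Lpe (K69.f438669 IH) (Lpe (f699951 IH) (Lpn (LP (LK LD1_c9 LD2_c8 LD3_c48))))))))))))))
theorem f720696 : Led Lsl_dt (LP (LK LD1_c9 LD2_c14 LD3_c3)) = (LP (LK LD1_c9 LD2_c8 LD3_c48)) :=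
  Lgr Lrot42 (Lpr_df (f720693 IH) (Lpn (LP (LK LD1_c9 LD2_c8 LD3_c48))))
theorem f899273 : Led Lsl_df K69.v37955 = K69.v38115 :=
  Lgr Lrot38 (Lpr_dt (K69.f899272 IH) (Lpn K69.v38115))
theorem f900793 : Led Lsl_ft (LP (LK LD1_c9 LD2_c8 LD3_c48)) = K69.v38115 :=
  Lgr Lrot54 (Lpe (f720696 IH) (Lpr_ff (f900792 IH) (Lpr_df (f899273 IH) (Lpn K69.v38115))))
def v38326 : LQ := Led Lsl_ct (LP (LK LD1_c9 LD2_c8 LD3_c48))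
theorem f901324 : Led Lsl_ct (LP (LK LD1_c9 LD2_c8 LD3_c48)) = v38326 :=
  Lrfl
theorem f901325 : Led Lsl_cf (LP (LK LD1_c9 LD2_c8 LD3_c48)) = v38326 :=
  Lgr Lrot11 (Lpr_ct (f901324 IH) (Lpn v38326))
theorem f973356 : Led Lsl_ff v38326 = v49939 :=
  Lgr Lrot23 (Lpe (f901325 IH) (Lpr_ft (f900793 IH) (Lpqs (f900806 IH) (Lpr_ct (f973353 IH) (Lpn v49939)))))
def v49933 : LQ := Led Lsl_ct (LP (LK LD1_c11 LD2_c49 LD3_c44))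
theorem f973332 : Led Lsl_ct (LP (LK LD1_c11 LD2_c49 LD3_c44)) = v49933 :=
  Lrfl
def v38293 : LQ := Led Lsl_ct (LP (LK LD1_c9 LD2_c8 LD3_c16))
theorem f900524 : Led Lsl_ct (LP (LK LD1_c9 LD2_c8 LD3_c16)) = v38293 :=
  Lrfl
theorem f900525 : Led Lsl_cf (LP (LK LD1_c9 LD2_c8 LD3_c16)) = v38293 :=
  Lgr Lrot11 (Lpr_ct (f900524 IH) (Lpn v38293))
theorem f973335 : Led Lsl_ef v38293 = v49933 :=
  Lgr Lrot28 (Lpe (f900525 IH) (Lpe (f740596 IH) (Lpr_ct (f973332 IH) (Lpn v49933))))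
def v12990 : LQ := Led Lsl_ct (LP (LK LD1_c4 LD2_c36 LD3_c19))
theorem f700051 : Led Lsl_ct (LP (LK LD1_c4 LD2_c36 LD3_c19)) = v12990 :=
  Lrfl
theorem f901057 : Led Lsl_af v38293 = v12990 :=
  Lgr Lrot68 (Lpe (f900525 IH) (Lpr_at (K69.f900520 IH) (Lpqs (K69.f900688 IH) (Lpr_ct (f700051 IH) (Lpn v12990)))))
theorem f901058 : Led Lsl_at v38293 = v12990 :=
  Lgr Lrot100 (Lpr_af (f901057 IH) (Lpn v12990))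
theorem f700042 : Led Lsl_et (LP (LK LD1_c4 LD2_c36 LD3_c19)) = (LP (LK LD1_c9 LD2_c8 LD3_c48)) :=
  Lre_e IH (LK LD1_c4 LD2_c36 LD3_c19) (LK LD1_c9 LD2_c8 LD3_c48) Lrfl Lrfl
theorem f700052 : Led Lsl_cf (LP (LK LD1_c4 LD2_c36 LD3_c19)) = v12990 :=
  Lgr Lrot11 (Lpr_ct (f700051 IH) (Lpn v12990))
theorem f901326 : Led Lsl_ef v12990 = v38326 :=
  Lgr Lrot28 (Lpe (f700052 IH) (Lpr_et (f700042 IH) (Lpr_ct (f901324 IH) (Lpn v38326))))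
theorem f901327 : Led Lsl_et v12990 = v38326 :=
  Lgr Lrot87 (Lpr_ef (f901326 IH) (Lpn v38326))
theorem f973340 : Led Lsl_at v38326 = v49933 :=
  Lgr Lrot80 (Lpe (f901327 IH) (Lpe (f901058 IH) (Lpr_ef (f973335 IH) (Lpn v49933))))
theorem f715396 : Led Lsl_ft (LP (LK LD1_c24 LD2_c12 LD3_c37)) = (LP (LK LD1_c14 LD2_c31 LD3_c1)) :=
  Lre_f IH (LK LD1_c24 LD2_c12 LD3_c37) (LK LD1_c14 LD2_c31 LD3_c1) Lrfl Lrfl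
theorem f740388 : Led Lsl_ct (LP (LK LD1_c20 LD2_c14 LD3_c48)) = (LP (LK LD1_c24 LD2_c12 LD3_c37)) :=
  Lgr Lrot40 (Lpr_ff (f740251 IH) (Lpr_cf (K55.f715382 IH) (Lpe (f715396 IH) (Lpn (LP (LK LD1_c24 LD2_c12 LD3_c37))))))
theorem f755719 : Led Lsl_gf (LP (LK LD1_c26 LD2_c54 LD3_c9)) = (LP (LK LD1_c24 LD2_c12 LD3_c37)) :=
  Lgr Lrot47 (Lpr_gt (K57.f755717 IH) (Lpr_af (K62.f739907 IH) (Lpe (f715396 IH) (Lpn (LP (LK LD1_c24 LD2_c12 LD3_c37))))))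
theorem f755351 : Led Lsl_ct (LP (LK LD1_c16 LD2_c58 LD3_c31)) = (LP (LK LD1_c26 LD2_c54 LD3_c9)) :=
  Lre_c IH (LK LD1_c16 LD2_c58 LD3_c31) (LK LD1_c26 LD2_c54 LD3_c9) Lrfl Lrfl
theorem f642734 : Led Lsl_bt (LP (LK LD1_c6 LD2_c1 LD3_c9)) = (LP (LK LD1_c9 LD2_c12 LD3_c21)) :=
  Lgr Lrot127 (Lpr_bf (K46.f642661 IH) (Lpn (LP (LK LD1_c9 LD2_c12 LD3_c21))))
theorem f642743 : Led Lsl_bf (LP (LK LD1_c5 LD2_c59 LD3_c7)) = (LP (LK LD1_c9 LD2_c10 LD3_c46)) :=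
  Lgr Lrot93 (Lpr_dt (K41.f564013 IH) (Lpr_bt (f642734 IH) (Lpr_dt (K45.f642593 IH) (Lpn (LP (LK LD1_c9 LD2_c10 LD3_c46))))))
theorem f713777 : Led Lsl_cf (LP (LK LD1_c12 LD2_c2 LD3_c23)) = (LP (LK LD1_c20 LD2_c27 LD3_c4)) :=
  Lgr Lrot11 (Lpr_ct (K54.f713756 IH) (Lpn (LP (LK LD1_c20 LD2_c27 LD3_c4))))
theorem f755733 : Led Lsl_gt (LP (LK LD1_c26 LD2_c54 LD3_c3)) = (LP (LK LD1_c20 LD2_c27 LD3_c4)) :=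
  Lgr Lrot82 (Lpe (K60.f719776 IH) (Lpr_ct (f755351 IH) (Lpr_gf (f755719 IH) (Lpe (f740388 IH) (Lpr_bt (f740250 IH) (Lpr_gf (K55.f740255 IH) (Lpr_bf (f642743 IH) (Lpr_ct (K45.f642592 IH) (Lpr_gf (K60.f644696 IH) (Lpr_cf (f713777 IH) (Lpn (LP (LK LD1_c20 LD2_c27 LD3_c4)))))))))))))
theorem f137472 : Led Lsl_gt (LP (LK LD1_c5 LD2_c54 LD3_c36)) = (LP (LK LD1_c11 LD2_c34 LD3_c55)) :=
  Lre_g IH (LK LD1_c5 LD2_c54 LD3_c36) (LK LD1_c11 LD2_c34 LD3_c55) Lrfl Lrfl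
theorem f713762 : Led Lsl_bt (LP (LK LD1_c17 LD2_c58 LD3_c26)) = (LP (LK LD1_c11 LD2_c29 LD3_c57)) :=
  Lgr Lrot127 (Lpr_bf (K54.f713760 IH) (Lpn (LP (LK LD1_c11 LD2_c29 LD3_c57))))
theorem f715052 : Led Lsl_cf (LP (LK LD1_c11 LD2_c34 LD3_c55)) = (LP (LK LD1_c17 LD2_c58 LD3_c26)) :=
  Lgr Lrot163 (Lpe (f137472 IH) (Lpe (K57.f137374 IH) (Lpe (K52.f137400 IH) (Lpq (K52.f715020 IH) (Lpr_bf (K52.f701513 IH) (Lpq (K52.f706369 IH) (Lpr_ct (K52.f499883 IH) (Lpe (K52.f710047 IH) (Lpr_cf (K52.f119925 IH) (Lpe (K51.f157127 IH) (Lpe (K71.f428849 IH) (Lpe (f713762 IH) (Lpn (LP (LK LD1_c17 LD2_c58 LD3_c26)))))))))))))))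
theorem f715054 : Led Lsl_ct (LP (LK LD1_c11 LD2_c34 LD3_c55)) = (LP (LK LD1_c17 LD2_c58 LD3_c26)) :=
  Lgr Lrot59 (Lpr_cf (f715052 IH) (Lpn (LP (LK LD1_c17 LD2_c58 LD3_c26))))
theorem f137473 : Led Lsl_et (LP (LK LD1_c20 LD2_c32 LD3_c58)) = (LP (LK LD1_c11 LD2_c34 LD3_c55)) :=
  Lre_e IH (LK LD1_c20 LD2_c32 LD3_c58) (LK LD1_c11 LD2_c34 LD3_c55) Lrfl Lrfl
theorem f918850 : Led Lsl_ct (LP (LK LD1_c27 LD2_c41 LD3_c7)) = (LP (LK LD1_c20 LD2_c32 LD3_c58)) :=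
  Lgr Lrot15 (Lpr_ef (K71.f918846 IH) (Lpe (f715054 IH) (Lpe (f137473 IH) (Lpn (LP (LK LD1_c20 LD2_c32 LD3_c58))))))
theorem f973337 : Led Lsl_gt (LP (LK LD1_c20 LD2_c32 LD3_c58)) = v49933 :=
  Lgr Lrot65 (Lpe (f918850 IH) (Lpr_bt (K71.f918831 IH) (Lpe (f755733 IH) (Lpe (K60.f719776 IH) (Lpr_ct (f755351 IH) (Lpr_gf (f755719 IH) (Lpe (f740388 IH) (Lpr_gf (K66.f840120 IH) (Lpe (f740598 IH) (Lpr_ct (f973332 IH) (Lpn v49933)))))))))))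
theorem f973359 : Led Lsl_gf (LP (LK LD1_c20 LD2_c32 LD3_c58)) = v49939 :=
  Lgr Lrot47 (Lpr_gt (f973337 IH) (Lpe (f973340 IH) (Lpr_ff (f973356 IH) (Lpn v49939))))
theorem f614955 : Led Lsl_ct (LP (LK LD1_c9 LD2_c4 LD3_c13)) = (LP (LK LD1_c16 LD2_c55 LD3_c46)) :=
  Lre_c IH (LK LD1_c9 LD2_c4 LD3_c13) (LK LD1_c16 LD2_c55 LD3_c46) Lrfl Lrfl
def v49936 : LQ := Led Lsl_dt (LP (LK LD1_c11 LD2_c49 LD3_c45))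
theorem f973343 : Led Lsl_dt (LP (LK LD1_c11 LD2_c49 LD3_c45)) = v49936 :=
  Lrfl
theorem f501008 : Led Lsl_bt (LP (LK LD1_c11 LD2_c49 LD3_c45)) = (LP (LK LD1_c6 LD2_c2 LD3_c54)) :=
  Lre_b IH (LK LD1_c11 LD2_c49 LD3_c45) (LK LD1_c6 LD2_c2 LD3_c54) Lrfl Lrfl
theorem f900664 : Led Lsl_ff (LP (LK LD1_c9 LD2_c9 LD3_c31)) = (LP (LK LD1_c17 LD2_c1 LD3_c30)) :=
  Lgr Lrot3 (Lpr_ft (K69.f900656 IH) (Lpn (LP (LK LD1_c17 LD2_c1 LD3_c30))))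
theorem f900670 : Led Lsl_gf (LP (LK LD1_c11 LD2_c29 LD3_c9)) = (LP (LK LD1_c9 LD2_c8 LD3_c47)) :=
  Lgr Lrot76 (Lpr_af (K36.f540068 IH) (Lpr_ff (f900664 IH) (Lpr_gt (K69.f700053 IH) (Lpn (LP (LK LD1_c9 LD2_c8 LD3_c47))))))
theorem f140856 : Led Lsl_dt (LP (LK LD1_c4 LD2_c38 LD3_c15)) = (LP (LK LD1_c9 LD2_c12 LD3_c15)) :=
  Lre_d IH (LK LD1_c4 LD2_c38 LD3_c15) (LK LD1_c9 LD2_c12 LD3_c15) Lrfl Lrfl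
theorem f700630 : Led Lsl_gt (LP (LK LD1_c9 LD2_c12 LD3_c15)) = (LP (LK LD1_c17 LD2_c6 LD3_c17)) :=
  Lre_g IH (LK LD1_c9 LD2_c12 LD3_c15) (LK LD1_c17 LD2_c6 LD3_c17) Lrfl Lrfl
theorem f876311 : Led Lsl_et (LP (LK LD1_c17 LD2_c1 LD3_c32)) = (LP (LK LD1_c9 LD2_c8 LD3_c47)) :=
  Lre_e IH (LK LD1_c17 LD2_c1 LD3_c32) (LK LD1_c9 LD2_c8 LD3_c47) Lrfl Lrfl
theorem f900672 : Led Lsl_df (LP (LK LD1_c17 LD2_c6 LD3_c17)) = (LP (LK LD1_c17 LD2_c1 LD3_c32)) :=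
  Lgr Lrot132 (Lpe (f700630 IH) (Lpe (f140856 IH) (Lpr_gf (K52.f700629 IH) (Lpq (K52.f715073 IH) (Lpe (K43.f208426 IH) (Lpr_dt (K8.f99559 IH) (Lpr_gf (K8.f161388 IH) (Lpr_df (K36.f540233 IH) (Lpr_et (K42.f494601 IH) (Lpr_gf (f900670 IH) (Lpe (f876311 IH) (Lpn (LP (LK LD1_c17 LD2_c1 LD3_c32))))))))))))))
theorem f900676 : Led Lsl_dt (LP (LK LD1_c17 LD2_c6 LD3_c17)) = (LP (LK LD1_c17 LD2_c1 LD3_c32)) :=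
  Lgr Lrot42 (Lpr_df (f900672 IH) (Lpn (LP (LK LD1_c17 LD2_c1 LD3_c32))))
theorem f720695 : Led Lsl_bt (LP (LK LD1_c17 LD2_c1 LD3_c32)) = (LP (LK LD1_c9 LD2_c8 LD3_c48)) :=
  Lre_b IH (LK LD1_c17 LD2_c1 LD3_c32) (LK LD1_c9 LD2_c8 LD3_c48) Lrfl Lrfl
theorem f900678 : Led Lsl_bf (LP (LK LD1_c17 LD2_c6 LD3_c17)) = (LP (LK LD1_c9 LD2_c14 LD3_c3)) :=
  Lgr Lrot93 (Lpr_dt (f900676 IH) (Lpr_bt (f720695 IH) (Lpe (f720693 IH) (Lpn (LP (LK LD1_c9 LD2_c14 LD3_c3))))))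
theorem f900820 : Led Lsl_ff (LP (LK LD1_c11 LD2_c49 LD3_c45)) = (LP (LK LD1_c17 LD2_c6 LD3_c17)) :=
  Lgr Lrot25 (Lpr_bt (f501008 IH) (Lpqs (f900803 IH) (Lpe (f900792 IH) (Lpe (f900678 IH) (Lpn (LP (LK LD1_c17 LD2_c6 LD3_c17)))))))
theorem f973346 : Led Lsl_ff (LP (LK LD1_c17 LD2_c1 LD3_c32)) = v49936 :=
  Lgr Lrot19 (Lpe (f900672 IH) (Lpe (f900820 IH) (Lpr_dt (f973343 IH) (Lpn v49936))))
theorem f973347 : Led Lsl_bt K69.v38115 = v49936 :=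
  Lgr Lrot35 (Lpe (f900793 IH) (Lpe (f720695 IH) (Lpr_ff (f973346 IH) (Lpn v49936))))
theorem f973360 : Led Lsl_gt (LP (LK LD1_c16 LD2_c55 LD3_c40)) = v49936 :=
  Lgr Lrot164 (Lpe (K55.f614954 IH) (Lpr_ct (f614955 IH) (Lpe (K60.f644423 IH) (Lpr_cf (K60.f756008 IH) (Lpe (K60.f756006 IH) (Lpe (K71.f918831 IH) (Lpr_ct (f918850 IH) (Lpr_gf (f973359 IH) (Lpe (f973353 IH) (Lpq (f900806 IH) (Lpr_bt (f973347 IH) (Lpn v49936))))))))))))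
theorem f746939 : Led Lsl_dt (LP (LK LD1_c17 LD2_c7 LD3_c53)) = K55.v16189 :=
  Lgr Lrot42 (Lpr_df (K55.f746934 IH) (Lpn K55.v16189))
theorem f746968 : Led Lsl_gt K55.v9678 = K55.v16189 :=
  Lgr Lrot46 (Lpr_gf (K55.f741222 IH) (Lpe (K55.f741221 IH) (Lpr_at (K55.f746932 IH) (Lpn K55.v16189))))
theorem f715096 : Led Lsl_dt (LP (LK LD1_c9 LD2_c12 LD3_c13)) = (LP (LK LD1_c17 LD2_c6 LD3_c15)) :=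
  Lre_d IH (LK LD1_c9 LD2_c12 LD3_c13) (LK LD1_c17 LD2_c6 LD3_c15) Lrfl Lrfl
theorem f973345 : Led Lsl_df (LP (LK LD1_c11 LD2_c49 LD3_c45)) = v49936 :=
  Lgr Lrot38 (Lpr_dt (f973343 IH) (Lpn v49936))
theorem f973361 : (LP (LK LD1_c17 LD2_c6 LD3_c15)) = v49934 :=
  (Llr Lrot56 (Lpe (f715096 IH) (Lpr_et (K53.f715097 IH) (Lpr_gt (K69.f753427 IH) (Lpe (K55.f677152 IH) (Lpr_dt (K55.f677151 IH) (Lpr_gt (f746968 IH) (Lpe (f746939 IH) (Lpr_et (K55.f746940 IH) (Lpr_gt (f973360 IH) (Lpe (f973345 IH) (Lpr_gt (f973341 IH) (Lpn v49934))))))))))))).symm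
theorem f973362 : Led Lsl_gt (LP (LK LD1_c11 LD2_c49 LD3_c45)) = (LP (LK LD1_c17 LD2_c6 LD3_c15)) :=
  Leop (Lpqs (f973361 IH) (Lpe (f973341 IH) (Lpn (LP (LK LD1_c11 LD2_c49 LD3_c45)))))
theorem seed_2990 : LEOK LG_g (LK LD1_c11 LD2_c49 LD3_c45) :=
  Leoe_g (LK LD1_c11 LD2_c49 LD3_c45) (f973362 IH)
theorem f140512 : Led Lsl_dt (LP (LK LD1_c9 LD2_c4 LD3_c11)) = (LP (LK LD1_c16 LD2_c55 LD3_c40)) :=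
  Lre_d IH (LK LD1_c9 LD2_c4 LD3_c11) (LK LD1_c16 LD2_c55 LD3_c40) Lrfl Lrfl
theorem f269099 : Led Lsl_et (LP (LK LD1_c5 LD2_c42 LD3_c1)) = (LP (LK LD1_c11 LD2_c14 LD3_c22)) :=
  Lre_e IH (LK LD1_c5 LD2_c42 LD3_c1) (LK LD1_c11 LD2_c14 LD3_c22) Lrfl Lrfl
def v47079 : LQ := Led Lsl_gf (LP (LK LD1_c11 LD2_c14 LD3_c22))
theorem f956778 : Led Lsl_gf (LP (LK LD1_c11 LD2_c14 LD3_c22)) = v47079 :=
  Lrfl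
theorem f898223 : Led Lsl_bt (LP (LK LD1_c9 LD2_c2 LD3_c47)) = (LP (LK LD1_c16 LD2_c53 LD3_c21)) :=
  Lre_b IH (LK LD1_c9 LD2_c2 LD3_c47) (LK LD1_c16 LD2_c53 LD3_c21) Lrfl Lrfl
theorem f900833 : Led Lsl_ef (LP (LK LD1_c11 LD2_c49 LD3_c45)) = (LP (LK LD1_c16 LD2_c53 LD3_c21)) :=
  Lgr Lrot29 (Lpr_bt (f501008 IH) (Lpqs (f900803 IH) (Lpe (K69.f898233 IH) (Lpr_bt (f898223 IH) (Lpn (LP (LK LD1_c16 LD2_c53 LD3_c21)))))))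
theorem f900839 : Led Lsl_et (LP (LK LD1_c11 LD2_c49 LD3_c45)) = (LP (LK LD1_c16 LD2_c53 LD3_c21)) :=
  Lgr Lrot87 (Lpr_ef (f900833 IH) (Lpn (LP (LK LD1_c16 LD2_c53 LD3_c21))))
theorem f973363 : v47079 = (LP (LK LD1_c16 LD2_c53 LD3_c21)) :=
  (Llr Lrot141 (Lpe (f956778 IH) (Lpe (f269099 IH) (Lpr_dt (K39.f181596 IH) (Lpe (K39.f538890 IH) (Lpe (K38.f174902 IH) (Lpr_et (K38.f382069 IH) (Lpr_gt (K52.f715069 IH) (Lpr_dt (f140512 IH) (Lpr_gt (f973360 IH) (Lpe (f973343 IH) (Lpr_et (f900839 IH) (Lpn (LP (LK LD1_c16 LD2_c53 LD3_c21))))))))))))))).symm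
theorem f973364 : Led Lsl_gt (LP (LK LD1_c16 LD2_c53 LD3_c21)) = (LP (LK LD1_c11 LD2_c14 LD3_c22)) :=
  Leop (Lpr_gf (f956778 IH) (Lpqs (f973363 IH) (Lpn (LP (LK LD1_c16 LD2_c53 LD3_c21)))))
theorem seed_2991 : LEOK LG_g (LK LD1_c16 LD2_c53 LD3_c21) :=
  Leoe_g (LK LD1_c16 LD2_c53 LD3_c21) (f973364 IH)
def v49942 : LQ := Led Lsl_ct (LP (LK LD1_c11 LD2_c49 LD3_c49))
theorem f973371 : Led Lsl_ct (LP (LK LD1_c11 LD2_c49 LD3_c49)) = v49942 :=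
  Lrfl
theorem f965932 : Led Lsl_ft (LP (LK LD1_c11 LD2_c49 LD3_c48)) = K75.v38660 :=
  Lgr Lrot48 (Lpr_ff (K75.f965929 IH) (Lpn K75.v38660))
theorem f507646 : Led Lsl_ct (LP (LK LD1_c9 LD2_c14 LD3_c4)) = (LP (LK LD1_c4 LD2_c39 LD3_c10)) :=
  Lre_c IH (LK LD1_c9 LD2_c14 LD3_c4) (LK LD1_c4 LD2_c39 LD3_c10) Lrfl Lrfl
theorem f645760 : Led Lsl_ff (LP (LK LD1_c9 LD2_c14 LD3_c4)) = (LP (LK LD1_c6 LD2_c2 LD3_c55)) :=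
  Lgr Lrot23 (Lpr_ct (f507646 IH) (Lpr_ft (K53.f645750 IH) (Lpr_ct (K75.f444678 IH) (Lpn (LP (LK LD1_c6 LD2_c2 LD3_c55))))))
theorem f645765 : Led Lsl_at (LP (LK LD1_c9 LD2_c14 LD3_c4)) = (LP (LK LD1_c17 LD2_c8 LD3_c22)) :=
  Lre_a IH (LK LD1_c9 LD2_c14 LD3_c4) (LK LD1_c17 LD2_c8 LD3_c22) Lrfl Lrfl
theorem f645767 : Led Lsl_gf (LP (LK LD1_c17 LD2_c8 LD3_c22)) = (LP (LK LD1_c11 LD2_c49 LD3_c48)) :=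
  Lgr Lrot76 (Lpe (f645765 IH) (Lpr_ff (f645760 IH) (Lpr_gt (K75.f641714 IH) (Lpn (LP (LK LD1_c11 LD2_c49 LD3_c48))))))
theorem f965935 : Led Lsl_af (LP (LK LD1_c11 LD2_c49 LD3_c49)) = K75.v38660 :=
  Lgr Lrot31 (Lpe (K56.f750407 IH) (Lpr_gf (f645767 IH) (Lpr_ft (f965932 IH) (Lpn K75.v38660))))
theorem f965927 : Led Lsl_af (LP (LK LD1_c11 LD2_c49 LD3_c48)) = K75.v38661 :=
  Lgr Lrot0 (Lpr_at (K75.f965926 IH) (Lpn K75.v38661))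
theorem f965937 : Led Lsl_ft (LP (LK LD1_c11 LD2_c49 LD3_c49)) = K75.v38661 :=
  Lgr Lrot101 (Lpr_af (f965935 IH) (Lpe (f965932 IH) (Lpr_af (f965927 IH) (Lpn K75.v38661))))
theorem f965938 : Led Lsl_ff (LP (LK LD1_c11 LD2_c49 LD3_c49)) = K75.v38661 :=
  Lgr Lrot3 (Lpr_ft (f965937 IH) (Lpn K75.v38661))
theorem f973374 : Led Lsl_ff K75.v41041 = v49942 :=
  Lgr Lrot23 (Lpe (K75.f921710 IH) (Lpe (f965938 IH) (Lpr_ct (f973371 IH) (Lpn v49942))))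
theorem f973378 : Led Lsl_ft K75.v41041 = v49942 :=
  Lgr Lrot48 (Lpr_ff (f973374 IH) (Lpn v49942))
theorem f973372 : Led Lsl_af (LP (LK LD1_c18 LD2_c1 LD3_c31)) = v49942 :=
  Lgr Lrot68 (Lpr_ct (K75.f903623 IH) (Lpe (f965935 IH) (Lpr_ct (f973371 IH) (Lpn v49942))))
theorem f720509 : Led Lsl_gt (LP (LK LD1_c18 LD2_c1 LD3_c32)) = (LP (LK LD1_c9 LD2_c50 LD3_c28)) :=
  Lre_g IH (LK LD1_c18 LD2_c1 LD3_c32) (LK LD1_c9 LD2_c50 LD3_c28) Lrfl Lrfl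
theorem f973383 : K75.v41041 = (LP (LK LD1_c18 LD2_c1 LD3_c32)) :=
  (Llr Lrot52 (Lpr_ft (f973378 IH) (Lpe (f973372 IH) (Lpe (K75.f720510 IH) (Lpe (f720509 IH) (Lpn (LP (LK LD1_c18 LD2_c1 LD3_c32)))))))).symm
theorem f973384 : Led Lsl_at (LP (LK LD1_c18 LD2_c1 LD3_c32)) = (LP (LK LD1_c20 LD2_c52 LD3_c2)) :=
  Leop (Lpr_af (K75.f965924 IH) (Lpqs (f973383 IH) (Lpn (LP (LK LD1_c18 LD2_c1 LD3_c32)))))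
theorem seed_2992 : LEOK LG_a (LK LD1_c18 LD2_c1 LD3_c32) :=
  Leoe_a (LK LD1_c18 LD2_c1 LD3_c32) (f973384 IH)
theorem f973386 : Led Lsl_bt (LP (LK LD1_c18 LD2_c1 LD3_c32)) = (LP (LK LD1_c9 LD2_c50 LD3_c55)) :=
  Leop (Lpr_bf (K75.f921705 IH) (Lpqs (f973383 IH) (Lpn (LP (LK LD1_c18 LD2_c1 LD3_c32)))))
theorem seed_2993 : LEOK LG_b (LK LD1_c18 LD2_c1 LD3_c32) :=
  Leoe_b (LK LD1_c18 LD2_c1 LD3_c32) (f973386 IH)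
theorem f719088 : Led Lsl_et (LP (LK LD1_c17 LD2_c58 LD3_c32)) = (LP (LK LD1_c9 LD2_c48 LD3_c16)) :=
  Lre_e IH (LK LD1_c17 LD2_c58 LD3_c32) (LK LD1_c9 LD2_c48 LD3_c16) Lrfl Lrfl
def v16090 : LQ := Led Lsl_ft (LP (LK LD1_c5 LD2_c52 LD3_c23))
theorem f745975 : Led Lsl_ft (LP (LK LD1_c5 LD2_c52 LD3_c23)) = v16090 :=
  Lrfl
theorem f745977 : Led Lsl_ff (LP (LK LD1_c5 LD2_c52 LD3_c23)) = v16090 :=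
  Lgr Lrot3 (Lpr_ft (f745975 IH) (Lpn v16090))
theorem f569245 : Led Lsl_gt (LP (LK LD1_c9 LD2_c48 LD3_c16)) = (LP (LK LD1_c4 LD2_c58 LD3_c58)) :=
  Lre_g IH (LK LD1_c9 LD2_c48 LD3_c16) (LK LD1_c4 LD2_c58 LD3_c58) Lrfl Lrfl
theorem f748269 : v16090 = (LP (LK LD1_c9 LD2_c48 LD3_c16)) :=
  (Llr Lrot52 (Lpe (f745977 IH) (Lpr_at (K55.f745963 IH) (Lpqs (K55.f748252 IH) (Lpe (K55.f138834 IH) (Lpe (f569245 IH) (Lpn (LP (LK LD1_c9 LD2_c48 LD3_c16))))))))).symm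
theorem f745978 : Led Lsl_bt K55.v4905 = v16090 :=
  Lgr Lrot35 (Lpe (K55.f640844 IH) (Lpe (K55.f22545 IH) (Lpr_ff (f745977 IH) (Lpn v16090))))
def v16053 : LQ := Led Lsl_bt (LP (LK LD1_c5 LD2_c52 LD3_c4))
theorem f745043 : Led Lsl_bt (LP (LK LD1_c5 LD2_c52 LD3_c4)) = v16053 :=
  Lrfl
theorem f746123 : v16090 = v16053 :=
  Lefun (Lecon (f745978 IH) (K55.f746117 IH).symm) (f745043 IH)
theorem f745044 : Led Lsl_bf (LP (LK LD1_c5 LD2_c52 LD3_c4)) = v16053 :=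
  Lgr Lrot24 (Lpr_bt (f745043 IH) (Lpn v16053))
theorem f748280 : Led Lsl_bf (LP (LK LD1_c17 LD2_c58 LD3_c32)) = K55.v16056 :=
  Lgr Lrot96 (Lpr_et (f719088 IH) (Lpq (f748269 IH) (Lpqs (f746123 IH) (Lpe (f745044 IH) (Lpr_et (K55.f745052 IH) (Lpn K55.v16056))))))
theorem f748281 : Led Lsl_bt (LP (LK LD1_c17 LD2_c58 LD3_c32)) = K55.v16056 :=
  Lgr Lrot127 (Lpr_bf (f748280 IH) (Lpn K55.v16056))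
theorem f921706 : Led Lsl_df (LP (LK LD1_c17 LD2_c58 LD3_c32)) = K75.v41041 :=
  Lgr Lrot12 (Lpr_bt (f748281 IH) (Lpe (K55.f745054 IH) (Lpr_bt (K75.f921704 IH) (Lpn K75.v41041))))
theorem f973388 : Led Lsl_dt (LP (LK LD1_c18 LD2_c1 LD3_c32)) = (LP (LK LD1_c17 LD2_c58 LD3_c32)) :=
  Leop (Lpr_df (f921706 IH) (Lpqs (f973383 IH) (Lpn (LP (LK LD1_c18 LD2_c1 LD3_c32)))))
theorem seed_2994 : LEOK LG_d (LK LD1_c18 LD2_c1 LD3_c32) :=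
  Leoe_d (LK LD1_c18 LD2_c1 LD3_c32) (f973388 IH)
theorem f735992 : Led Lsl_bt (LP (LK LD1_c22 LD2_c6 LD3_c25)) = (LP (LK LD1_c12 LD2_c56 LD3_c43)) :=
  Lre_b IH (LK LD1_c22 LD2_c6 LD3_c25) (LK LD1_c12 LD2_c56 LD3_c43) Lrfl Lrfl
theorem f921707 : Led Lsl_ef (LP (LK LD1_c22 LD2_c6 LD3_c25)) = K75.v41041 :=
  Lgr Lrot29 (Lpr_bt (f735992 IH) (Lpe (K55.f745060 IH) (Lpr_bt (K75.f921704 IH) (Lpn K75.v41041))))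
theorem f921708 : Led Lsl_et (LP (LK LD1_c22 LD2_c6 LD3_c25)) = K75.v41041 :=
  Lgr Lrot87 (Lpr_ef (f921707 IH) (Lpn K75.v41041))
def v46907 : LQ := Led Lsl_et (LP (LK LD1_c11 LD2_c12 LD3_c40))
theorem f955776 : Led Lsl_et (LP (LK LD1_c11 LD2_c12 LD3_c40)) = v46907 :=
  Lrfl
theorem f955778 : Led Lsl_ef (LP (LK LD1_c11 LD2_c12 LD3_c40)) = v46907 :=
  Lgr Lrot88 (Lpr_et (f955776 IH) (Lpn v46907))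
theorem f225804 : Led Lsl_bt (LP (LK LD1_c11 LD2_c12 LD3_c40)) = (LP (LK LD1_c5 LD2_c41 LD3_c3)) :=
  Lre_b IH (LK LD1_c11 LD2_c12 LD3_c40) (LK LD1_c5 LD2_c41 LD3_c3) Lrfl Lrfl
theorem f955779 : Led Lsl_bt K55.v15514 = v46907 :=
  Lgr Lrot119 (Lpe (K55.f737824 IH) (Lpe (f225804 IH) (Lpr_ef (f955778 IH) (Lpn v46907))))
theorem f955780 : Led Lsl_ff (LP (LK LD1_c22 LD2_c6 LD3_c25)) = v46907 :=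
  Lgr Lrot25 (Lpr_bt (f735992 IH) (Lpr_ft (K55.f746466 IH) (Lpr_bt (f955779 IH) (Lpn v46907))))
def v46893 : LQ := Led Lsl_bt (LP (LK LD1_c11 LD2_c12 LD3_c32))
theorem f955727 : Led Lsl_bt (LP (LK LD1_c11 LD2_c12 LD3_c32)) = v46893 :=
  Lrfl
theorem f737819 : Led Lsl_ff (LP (LK LD1_c5 LD2_c41 LD3_c4)) = K55.v15511 :=
  Lgr Lrot3 (Lpr_ft (K55.f737818 IH) (Lpn K55.v15511))
def v15515 : LQ := Led Lsl_ft (LP (LK LD1_c5 LD2_c41 LD3_c3))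
theorem f737828 : Led Lsl_ft (LP (LK LD1_c5 LD2_c41 LD3_c3)) = v15515 :=
  Lrfl
theorem f737830 : Led Lsl_ff (LP (LK LD1_c5 LD2_c41 LD3_c3)) = v15515 :=
  Lgr Lrot3 (Lpr_ft (f737828 IH) (Lpn v15515))
theorem f737831 : Led Lsl_at (LP (LK LD1_c5 LD2_c41 LD3_c4)) = v15515 :=
  Lgr Lrot66 (Lpr_ff (f737819 IH) (Lpe (K55.f737815 IH) (Lpr_ff (f737830 IH) (Lpn v15515))))
theorem f380102 : Led Lsl_gt (LP (LK LD1_c11 LD2_c12 LD3_c32)) = (LP (LK LD1_c5 LD2_c40 LD3_c59)) :=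
  Lre_g IH (LK LD1_c11 LD2_c12 LD3_c32) (LK LD1_c5 LD2_c40 LD3_c59) Lrfl Lrfl
theorem f613371 : Led Lsl_gt (LP (LK LD1_c5 LD2_c41 LD3_c6)) = (LP (LK LD1_c11 LD2_c12 LD3_c32)) :=
  Lgr Lrot5 (Lpr_ft (K55.f380705 IH) (Lpr_at (K55.f613365 IH) (Lpe (f380102 IH) (Lpn (LP (LK LD1_c11 LD2_c12 LD3_c32))))))
theorem f751023 : v15515 = (LP (LK LD1_c11 LD2_c12 LD3_c32)) :=
  (Llr Lrot26 (Lpe (f737831 IH) (Lpr_ff (f737819 IH) (Lpqs (K56.f750948 IH) (Lpe (K56.f613367 IH) (Lpr_gt (f613371 IH) (Lpn (LP (LK LD1_c11 LD2_c12 LD3_c32))))))))).symm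
theorem f955729 : Led Lsl_ff (LP (LK LD1_c11 LD2_c12 LD3_c40)) = v46893 :=
  Lgr Lrot25 (Lpr_bt (f225804 IH) (Lpr_ft (f737828 IH) (Lpqs (f751023 IH) (Lpr_bt (f955727 IH) (Lpn v46893)))))
theorem f973382 : Led Lsl_ef v46893 = v49942 :=
  Lgr Lrot21 (Lpe (f955729 IH) (Lpr_et (f955776 IH) (Lpe (f955780 IH) (Lpr_et (f921708 IH) (Lpr_ft (f973378 IH) (Lpn v49942))))))
theorem f955728 : Led Lsl_bf (LP (LK LD1_c11 LD2_c12 LD3_c32)) = v46893 :=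
  Lgr Lrot24 (Lpr_bt (f955727 IH) (Lpn v46893))
theorem f281271 : Led Lsl_bt (LP (LK LD1_c4 LD2_c32 LD3_c38)) = (LP (LK LD1_c2 LD2_c13 LD3_c21)) :=
  Lre_b IH (LK LD1_c4 LD2_c32 LD3_c38) (LK LD1_c2 LD2_c13 LD3_c21) Lrfl Lrfl
theorem f281283 : Led Lsl_gt (LP (LK LD1_c16 LD2_c53 LD3_c17)) = (LP (LK LD1_c9 LD2_c2 LD3_c45)) :=
  Lre_g IH (LK LD1_c16 LD2_c53 LD3_c17) (LK LD1_c9 LD2_c2 LD3_c45) Lrfl Lrfl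
theorem f955731 : Led Lsl_cf (LP (LK LD1_c16 LD2_c53 LD3_c17)) = v46893 :=
  Lgr Lrot160 (Lpr_gt (f281283 IH) (Lpe (K51.f281256 IH) (Lpr_bt (f281271 IH) (Lpr_gt (K51.f175526 IH) (Lpr_ct (K69.f698443 IH) (Lpqs (K69.f743454 IH) (Lpr_gt (K75.f319887 IH) (Lpr_cf (K40.f225738 IH) (Lpr_bt (K24.f225768 IH) (Lpr_gt (f613371 IH) (Lpr_bf (f955728 IH) (Lpn v46893))))))))))))
theorem f973392 : Led Lsl_et (LP (LK LD1_c16 LD2_c53 LD3_c17)) = (LP (LK LD1_c11 LD2_c49 LD3_c49)) :=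
  Lgr Lrot158 (Lpr_cf (f955731 IH) (Lpr_ef (f973382 IH) (Lpe (f973371 IH) (Lpn (LP (LK LD1_c11 LD2_c49 LD3_c49))))))
theorem f973393 : Led Lsl_et (LP (LK LD1_c16 LD2_c53 LD3_c17)) = (LP (LK LD1_c11 LD2_c49 LD3_c49)) :=
  Leop (Lpe (f973392 IH) (Lpn (LP (LK LD1_c16 LD2_c53 LD3_c17))))
theorem seed_2995 : LEOK LG_e (LK LD1_c16 LD2_c53 LD3_c17) :=
  Leoe_e (LK LD1_c16 LD2_c53 LD3_c17) (f973393 IH)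
def v50047 : LQ := Led Lsl_gf (LP (LK LD1_c11 LD2_c50 LD3_c36))
theorem f973807 : Led Lsl_gf (LP (LK LD1_c11 LD2_c50 LD3_c36)) = v50047 :=
  Lrfl
theorem f208623 : Led Lsl_et (LP (LK LD1_c5 LD2_c53 LD3_c36)) = (LP (LK LD1_c2 LD2_c53 LD3_c10)) :=
  Lre_e IH (LK LD1_c5 LD2_c53 LD3_c36) (LK LD1_c2 LD2_c53 LD3_c10) Lrfl Lrfl
theorem f595987 : Led Lsl_df (LP (LK LD1_c6 LD2_c16 LD3_c32)) = (LP (LK LD1_c6 LD2_c3 LD3_c26)) :=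
  Lgr Lrot38 (Lpr_dt (K46.f595983 IH) (Lpn (LP (LK LD1_c6 LD2_c3 LD3_c26))))
theorem f595989 : Led Lsl_et (LP (LK LD1_c6 LD2_c3 LD3_c26)) = (LP (LK LD1_c11 LD2_c50 LD3_c36)) :=
  Lre_e IH (LK LD1_c6 LD2_c3 LD3_c26) (LK LD1_c11 LD2_c50 LD3_c36) Lrfl Lrfl
theorem f61858 : Led Lsl_dt (LP (LK LD1_c5 LD2_c53 LD3_c36)) = (LP (LK LD1_c2 LD2_c53 LD3_c8)) :=
  Lre_d IH (LK LD1_c5 LD2_c53 LD3_c36) (LK LD1_c2 LD2_c53 LD3_c8) Lrfl Lrfl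
def v4939 : LQ := Led Lsl_gf (LP (LK LD1_c2 LD2_c53 LD3_c8))
theorem f640988 : Led Lsl_gf (LP (LK LD1_c2 LD2_c53 LD3_c8)) = v4939 :=
  Lrfl
theorem f714870 : (LP (LK LD1_c1 LD2_c36 LD3_c45)) = v4939 :=
  Lefun (Lecon (Lfl_gt (K52.f509425 IH)) (K52.f714867 IH)) (f640988 IH)
theorem f415075 : Led Lsl_dt (LP (LK LD1_c3 LD2_c20 LD3_c56)) = (LP (LK LD1_c1 LD2_c36 LD3_c45)) :=
  Lre_d IH (LK LD1_c3 LD2_c20 LD3_c56) (LK LD1_c1 LD2_c36 LD3_c45) Lrfl Lrfl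
theorem f509431 : Led Lsl_et (LP (LK LD1_c3 LD2_c20 LD3_c56)) = (LP (LK LD1_c6 LD2_c45 LD3_c49)) :=
  Lre_e IH (LK LD1_c3 LD2_c20 LD3_c56) (LK LD1_c6 LD2_c45 LD3_c49) Lrfl Lrfl
theorem f715142 : Led Lsl_gt (LP (LK LD1_c11 LD2_c50 LD3_c36)) = (LP (LK LD1_c6 LD2_c45 LD3_c49)) :=
  Lgr Lrot131 (Lpe (f595989 IH) (Lpe (f595987 IH) (Lpr_gf (K42.f570172 IH) (Lpe (K42.f563637 IH) (Lpe (K42.f500413 IH) (Lpe (f208623 IH) (Lpr_dt (f61858 IH) (Lpr_gf (f640988 IH) (Lpq (f714870 IH) (Lpe (f415075 IH) (Lpr_et (f509431 IH) (Lpn (LP (LK LD1_c6 LD2_c45 LD3_c49))))))))))))))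
theorem f510066 : Led Lsl_at (LP (LK LD1_c12 LD2_c55 LD3_c22)) = (LP (LK LD1_c6 LD2_c45 LD3_c49)) :=
  Lre_a IH (LK LD1_c12 LD2_c55 LD3_c22) (LK LD1_c6 LD2_c45 LD3_c49) Lrfl Lrfl
theorem f973808 : Led Lsl_ff (LP (LK LD1_c12 LD2_c55 LD3_c22)) = v50047 :=
  Lgr Lrot52 (Lpr_at (f510066 IH) (Lpe (f715142 IH) (Lpr_gf (f973807 IH) (Lpn v50047))))
theorem f973809 : Led Lsl_at K65.v19691 = v50047 :=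
  Lgr Lrot66 (Lpe (K65.f781670 IH) (Lpe (f510066 IH) (Lpr_ff (f973808 IH) (Lpn v50047))))
theorem f714913 : Led Lsl_gt (LP (LK LD1_c6 LD2_c45 LD3_c49)) = (LP (LK LD1_c12 LD2_c55 LD3_c30)) :=
  Lre_g IH (LK LD1_c6 LD2_c45 LD3_c49) (LK LD1_c12 LD2_c55 LD3_c30) Lrfl Lrfl
theorem f973812 : Led Lsl_gt (LP (LK LD1_c12 LD2_c55 LD3_c30)) = v50047 :=
  Lgr Lrot46 (Lpe (f714913 IH) (Lpr_ft (K65.f781670 IH) (Lpr_at (f973809 IH) (Lpn v50047))))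
theorem f175376 : Led Lsl_et (LP (LK LD1_c11 LD2_c50 LD3_c36)) = (LP (LK LD1_c6 LD2_c3 LD3_c26)) :=
  Lre_e IH (LK LD1_c11 LD2_c50 LD3_c36) (LK LD1_c6 LD2_c3 LD3_c26) Lrfl Lrfl
theorem f596005 : Led Lsl_at (LP (LK LD1_c17 LD2_c1 LD3_c55)) = (LP (LK LD1_c11 LD2_c50 LD3_c36)) :=
  Lgr Lrot80 (Lpe (K55.f595179 IH) (Lpr_af (K46.f595996 IH) (Lpe (f175376 IH) (Lpn (LP (LK LD1_c11 LD2_c50 LD3_c36))))))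
theorem f973813 : Led Lsl_ft (LP (LK LD1_c12 LD2_c55 LD3_c30)) = (LP (LK LD1_c17 LD2_c1 LD3_c55)) :=
  Lgr Lrot2 (Lpr_gt (f973812 IH) (Lpe (f973807 IH) (Lpe (f596005 IH) (Lpn (LP (LK LD1_c17 LD2_c1 LD3_c55))))))
theorem f973814 : Led Lsl_ft (LP (LK LD1_c12 LD2_c55 LD3_c30)) = (LP (LK LD1_c17 LD2_c1 LD3_c55)) :=
  Leop (Lpe (f973813 IH) (Lpn (LP (LK LD1_c12 LD2_c55 LD3_c30))))
theorem seed_2996 : LEOK LG_f (LK LD1_c12 LD2_c55 LD3_c30) :=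
  Leoe_f (LK LD1_c12 LD2_c55 LD3_c30) (f973814 IH)
def v50056 : LQ := Led Lsl_bt (LP (LK LD1_c11 LD2_c50 LD3_c39))
theorem f973869 : Led Lsl_bt (LP (LK LD1_c11 LD2_c50 LD3_c39)) = v50056 :=
  Lrfl
theorem f973870 : Led Lsl_bf (LP (LK LD1_c11 LD2_c50 LD3_c39)) = v50056 :=
  Lgr Lrot24 (Lpr_bt (f973869 IH) (Lpn v50056))
def v16622 : LQ := Led Lsl_gf (LP (LK LD1_c6 LD2_c3 LD3_c32))
theorem f750767 : Led Lsl_gf (LP (LK LD1_c6 LD2_c3 LD3_c32)) = v16622 :=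
  Lrfl
theorem f750906 : Led Lsl_ff (LP (LK LD1_c6 LD2_c4 LD3_c7)) = K75.v16667 :=
  Lgr Lrot3 (Lpr_ft (K75.f750905 IH) (Lpn K75.v16667))
def v16671 : LQ := Led Lsl_ft (LP (LK LD1_c6 LD2_c4 LD3_c6))
theorem f750916 : Led Lsl_ft (LP (LK LD1_c6 LD2_c4 LD3_c6)) = v16671 :=
  Lrfl
theorem f750918 : Led Lsl_ff (LP (LK LD1_c6 LD2_c4 LD3_c6)) = v16671 :=
  Lgr Lrot3 (Lpr_ft (f750916 IH) (Lpn v16671))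
theorem f750919 : Led Lsl_at (LP (LK LD1_c6 LD2_c4 LD3_c7)) = v16671 :=
  Lgr Lrot66 (Lpr_ff (f750906 IH) (Lpe (K75.f750903 IH) (Lpr_ff (f750918 IH) (Lpn v16671))))
theorem f701120 : Led Lsl_gf (LP (LK LD1_c6 LD2_c4 LD3_c8)) = K75.v13101 :=
  Lgr Lrot76 (Lpe (K70.f334651 IH) (Lpe (K70.f176586 IH) (Lpr_gt (K75.f701119 IH) (Lpn K75.v13101))))
def v13102 : LQ := Led Lsl_gf (LP (LK LD1_c4 LD2_c39 LD3_c31))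
theorem f701123 : Led Lsl_gf (LP (LK LD1_c4 LD2_c39 LD3_c31)) = v13102 :=
  Lrfl
theorem f701124 : Led Lsl_gt (LP (LK LD1_c6 LD2_c4 LD3_c8)) = v13102 :=
  Lgr Lrot5 (Lpr_ft (K70.f172078 IH) (Lpe (K35.f334643 IH) (Lpr_gf (f701123 IH) (Lpn v13102))))
theorem f823917 : v16671 = v13102 :=
  (Llr Lrot26 (Lpe (f750919 IH) (Lpr_ff (f750906 IH) (Lpqs (K75.f823911 IH) (Lpe (f701120 IH) (Lpr_gt (f701124 IH) (Lpn v13102))))))).symm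
theorem f903687 : Led Lsl_gf v16622 = K75.v38672 :=
  Lgr Lrot47 (Lpe (f750767 IH) (Lpr_af (K75.f701082 IH) (Lpr_ff (K75.f903683 IH) (Lpn K75.v38672))))
theorem f924802 : Led Lsl_af v16622 = K72.v16672 :=
  Lgr Lrot31 (Lpr_gf (f903687 IH) (Lpe (K75.f903688 IH) (Lpr_ft (K75.f924791 IH) (Lpn K72.v16672))))
theorem f750917 : Led Lsl_af (LP (LK LD1_c6 LD2_c4 LD3_c7)) = v16671 :=
  Lgr Lrot45 (Lpr_ft (K75.f750905 IH) (Lpe (K75.f750904 IH) (Lpr_ft (f750916 IH) (Lpn v16671))))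
theorem f924804 : Led Lsl_ct v16622 = v16671 :=
  Lgr Lrot111 (Lpr_af (f924802 IH) (Lpe (K72.f750920 IH) (Lpr_af (f750917 IH) (Lpn v16671))))
theorem f924805 : Led Lsl_cf v16622 = v13102 :=
  Lgr Lrot11 (Lpr_ct (f924804 IH) (Lpqs (f823917 IH) (Lpn v13102)))
theorem f595163 : Led Lsl_ft (LP (LK LD1_c4 LD2_c35 LD3_c0)) = (LP (LK LD1_c9 LD2_c6 LD3_c50)) :=
  Lre_f IH (LK LD1_c4 LD2_c35 LD3_c0) (LK LD1_c9 LD2_c6 LD3_c50) Lrfl Lrfl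
theorem f595164 : Led Lsl_af (LP (LK LD1_c6 LD2_c4 LD3_c2)) = (LP (LK LD1_c9 LD2_c6 LD3_c50)) :=
  Lgr Lrot31 (Lpr_gf (K45.f595161 IH) (Lpe (K45.f494374 IH) (Lpr_ft (f595163 IH) (Lpn (LP (LK LD1_c9 LD2_c6 LD3_c50))))))
theorem f548628 : Led Lsl_et (LP (LK LD1_c6 LD2_c4 LD3_c2)) = (LP (LK LD1_c11 LD2_c51 LD3_c45)) :=
  Lre_e IH (LK LD1_c6 LD2_c4 LD3_c2) (LK LD1_c11 LD2_c51 LD3_c45) Lrfl Lrfl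
theorem f548636 : Led Lsl_et (LP (LK LD1_c16 LD2_c59 LD3_c0)) = (LP (LK LD1_c9 LD2_c6 LD3_c50)) :=
  Lre_e IH (LK LD1_c16 LD2_c59 LD3_c0) (LK LD1_c9 LD2_c6 LD3_c50) Lrfl Lrfl
theorem f600096 : Led Lsl_at (LP (LK LD1_c11 LD2_c51 LD3_c45)) = (LP (LK LD1_c16 LD2_c59 LD3_c0)) :=
  Lgr Lrot80 (Lpe (f548628 IH) (Lpr_af (f595164 IH) (Lpe (f548636 IH) (Lpn (LP (LK LD1_c16 LD2_c59 LD3_c0))))))
theorem f600099 : Led Lsl_ft (LP (LK LD1_c20 LD2_c54 LD3_c20)) = (LP (LK LD1_c11 LD2_c51 LD3_c45)) :=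
  Lre_f IH (LK LD1_c20 LD2_c54 LD3_c20) (LK LD1_c11 LD2_c51 LD3_c45) Lrfl Lrfl
theorem f600100 : Led Lsl_ft (LP (LK LD1_c16 LD2_c59 LD3_c0)) = (LP (LK LD1_c26 LD2_c54 LD3_c22)) :=
  Lre_f IH (LK LD1_c16 LD2_c59 LD3_c0) (LK LD1_c26 LD2_c54 LD3_c22) Lrfl Lrfl
theorem f600101 : Led Lsl_af (LP (LK LD1_c20 LD2_c54 LD3_c20)) = (LP (LK LD1_c26 LD2_c54 LD3_c22)) :=
  Lgr Lrot45 (Lpr_ft (f600099 IH) (Lpr_at (f600096 IH) (Lpr_ft (f600100 IH) (Lpn (LP (LK LD1_c26 LD2_c54 LD3_c22))))))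
theorem f599890 : Led Lsl_gt (LP (LK LD1_c16 LD2_c59 LD3_c0)) = (LP (LK LD1_c26 LD2_c54 LD3_c47)) :=
  Lre_g IH (LK LD1_c16 LD2_c59 LD3_c0) (LK LD1_c26 LD2_c54 LD3_c47) Lrfl Lrfl
theorem f600108 : Led Lsl_gf (LP (LK LD1_c20 LD2_c54 LD3_c20)) = (LP (LK LD1_c26 LD2_c54 LD3_c47)) :=
  Lgr Lrot76 (Lpr_af (f600101 IH) (Lpe (f600100 IH) (Lpr_gt (f599890 IH) (Lpn (LP (LK LD1_c26 LD2_c54 LD3_c47))))))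
theorem f973873 : Led Lsl_cf (LP (LK LD1_c26 LD2_c54 LD3_c47)) = v50056 :=
  Lgr Lrot160 (Lpe (f600108 IH) (Lpe (K72.f548582 IH) (Lpr_bt (K71.f334656 IH) (Lpr_gt (f701124 IH) (Lpe (f924805 IH) (Lpe (f750767 IH) (Lpe (K75.f175346 IH) (Lpr_bt (K36.f175342 IH) (Lpr_gt (K69.f175370 IH) (Lpr_bf (f973870 IH) (Lpn v50056)))))))))))
theorem f973874 : Led Lsl_bt (LP (LK LD1_c26 LD2_c54 LD3_c47)) = (LP (LK LD1_c32 LD2_c18 LD3_c4)) :=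
  Lre_b IH (LK LD1_c26 LD2_c54 LD3_c47) (LK LD1_c32 LD2_c18 LD3_c4) Lrfl Lrfl
theorem f540050 : Led Lsl_ct (LP (LK LD1_c20 LD2_c52 LD3_c57)) = (LP (LK LD1_c11 LD2_c50 LD3_c39)) :=
  Lre_c IH (LK LD1_c20 LD2_c52 LD3_c57) (LK LD1_c11 LD2_c50 LD3_c39) Lrfl Lrfl
theorem f898587 : Led Lsl_bt (LP (LK LD1_c29 LD2_c42 LD3_c45)) = (LP (LK LD1_c20 LD2_c52 LD3_c57)) :=
  Lre_b IH (LK LD1_c29 LD2_c42 LD3_c45) (LK LD1_c20 LD2_c52 LD3_c57) Lrfl Lrfl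
theorem f973875 : Led Lsl_ct (LP (LK LD1_c32 LD2_c18 LD3_c4)) = (LP (LK LD1_c29 LD2_c42 LD3_c45)) :=
  Lgr Lrot83 (Lpe (f973874 IH) (Lpr_cf (f973873 IH) (Lpe (f973869 IH) (Lpe (f540050 IH) (Lpe (f898587 IH) (Lpn (LP (LK LD1_c29 LD2_c42 LD3_c45))))))))
theorem f973876 : Led Lsl_ct (LP (LK LD1_c32 LD2_c18 LD3_c4)) = (LP (LK LD1_c29 LD2_c42 LD3_c45)) :=
  Leop (Lpe (f973875 IH) (Lpn (LP (LK LD1_c32 LD2_c18 LD3_c4))))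
theorem seed_2997 : LEOK LG_c (LK LD1_c32 LD2_c18 LD3_c4) :=
  Leoe_c (LK LD1_c32 LD2_c18 LD3_c4) (f973876 IH)
def v50157 : LQ := Led Lsl_at (LP (LK LD1_c11 LD2_c51 LD3_c30))
theorem f974245 : Led Lsl_at (LP (LK LD1_c11 LD2_c51 LD3_c30)) = v50157 :=
  Lrfl
theorem f176434 : Led Lsl_ct (LP (LK LD1_c6 LD2_c3 LD3_c59)) = (LP (LK LD1_c11 LD2_c51 LD3_c30)) :=
  Lre_c IH (LK LD1_c6 LD2_c3 LD3_c59) (LK LD1_c11 LD2_c51 LD3_c30) Lrfl Lrfl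
def v16659 : LQ := Led Lsl_at (LP (LK LD1_c6 LD2_c3 LD3_c59))
theorem f750868 : Led Lsl_at (LP (LK LD1_c6 LD2_c3 LD3_c59)) = v16659 :=
  Lrfl
theorem f750869 : Led Lsl_af (LP (LK LD1_c6 LD2_c3 LD3_c59)) = v16659 :=
  Lgr Lrot0 (Lpr_at (f750868 IH) (Lpn v16659))
theorem f974248 : Led Lsl_cf v16659 = v50157 :=
  Lgr Lrot1 (Lpe (f750869 IH) (Lpr_ct (f176434 IH) (Lpr_at (f974245 IH) (Lpn v50157))))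
theorem f176351 : Led Lsl_gt (LP (LK LD1_c6 LD2_c3 LD3_c60)) = (LP (LK LD1_c2 LD2_c58 LD3_c4)) :=
  Lre_g IH (LK LD1_c6 LD2_c3 LD3_c60) (LK LD1_c2 LD2_c58 LD3_c4) Lrfl Lrfl
theorem f750872 : Led Lsl_ft (LP (LK LD1_c6 LD2_c3 LD3_c60)) = v16659 :=
  Lgr Lrot2 (Lpr_gt (f176351 IH) (Lpr_gt (K11.f175760 IH) (Lpr_af (f750869 IH) (Lpn v16659))))
theorem f750877 : Led Lsl_ff (LP (LK LD1_c6 LD2_c3 LD3_c60)) = v16659 :=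
  Lgr Lrot3 (Lpr_ft (f750872 IH) (Lpn v16659))
theorem f176198 : Led Lsl_ct (LP (LK LD1_c6 LD2_c3 LD3_c60)) = (LP (LK LD1_c11 LD2_c51 LD3_c33)) :=
  Lre_c IH (LK LD1_c6 LD2_c3 LD3_c60) (LK LD1_c11 LD2_c51 LD3_c33) Lrfl Lrfl
theorem f974251 : Led Lsl_ft (LP (LK LD1_c11 LD2_c51 LD3_c33)) = v50157 :=
  Lgr Lrot4 (Lpe (f176198 IH) (Lpr_ff (f750877 IH) (Lpr_cf (f974248 IH) (Lpn v50157))))
theorem f974246 : Led Lsl_af (LP (LK LD1_c11 LD2_c51 LD3_c30)) = v50157 :=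
  Lgr Lrot0 (Lpr_at (f974245 IH) (Lpn v50157))
theorem f974225 : Led Lsl_gt (LP (LK LD1_c20 LD2_c53 LD3_c51)) = (LP (LK LD1_c11 LD2_c51 LD3_c30)) :=
  Lre_g IH (LK LD1_c20 LD2_c53 LD3_c51) (LK LD1_c11 LD2_c51 LD3_c30) Lrfl Lrfl
theorem f974255 : Led Lsl_gt (LP (LK LD1_c11 LD2_c51 LD3_c33)) = (LP (LK LD1_c20 LD2_c53 LD3_c51)) :=
  Lgr Lrot5 (Lpr_ft (f974251 IH) (Lpe (f974246 IH) (Lpe (f974225 IH) (Lpn (LP (LK LD1_c20 LD2_c53 LD3_c51))))))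
theorem f974256 : Led Lsl_gt (LP (LK LD1_c11 LD2_c51 LD3_c33)) = (LP (LK LD1_c20 LD2_c53 LD3_c51)) :=
  Leop (Lpe (f974255 IH) (Lpn (LP (LK LD1_c11 LD2_c51 LD3_c33))))
theorem seed_2998 : LEOK LG_g (LK LD1_c11 LD2_c51 LD3_c33) :=
  Leoe_g (LK LD1_c11 LD2_c51 LD3_c33) (f974256 IH)
def v50158 : LQ := Led Lsl_ft (LP (LK LD1_c11 LD2_c51 LD3_c30))
theorem f974268 : Led Lsl_ft (LP (LK LD1_c11 LD2_c51 LD3_c30)) = v50158 :=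
  Lrfl
theorem f176432 : Led Lsl_gt (LP (LK LD1_c11 LD2_c51 LD3_c30)) = (LP (LK LD1_c20 LD2_c53 LD3_c50)) :=
  Lre_g IH (LK LD1_c11 LD2_c51 LD3_c30) (LK LD1_c20 LD2_c53 LD3_c50) Lrfl Lrfl
theorem f974269 : Led Lsl_af (LP (LK LD1_c11 LD2_c51 LD3_c33)) = v50158 :=
  Lgr Lrot45 (Lpr_ft (f974251 IH) (Lpe (f974246 IH) (Lpr_ft (f974268 IH) (Lpn v50158))))
theorem f974272 : Led Lsl_gt (LP (LK LD1_c20 LD2_c53 LD3_c50)) = (LP (LK LD1_c11 LD2_c51 LD3_c33)) :=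
  Lgr Lrot46 (Lpe (f176432 IH) (Lpr_ft (f974268 IH) (Lpe (f974269 IH) (Lpn (LP (LK LD1_c11 LD2_c51 LD3_c33))))))
theorem f974273 : Led Lsl_gt (LP (LK LD1_c20 LD2_c53 LD3_c50)) = (LP (LK LD1_c11 LD2_c51 LD3_c33)) :=
  Leop (Lpe (f974272 IH) (Lpn (LP (LK LD1_c20 LD2_c53 LD3_c50))))
theorem seed_2999 : LEOK LG_g (LK LD1_c20 LD2_c53 LD3_c50) :=
  Leoe_g (LK LD1_c20 LD2_c53 LD3_c50) (f974273 IH)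
def v50161 : LQ := Led Lsl_ft (LP (LK LD1_c11 LD2_c51 LD3_c31))
theorem f974287 : Led Lsl_ft (LP (LK LD1_c11 LD2_c51 LD3_c31)) = v50161 :=
  Lrfl
theorem f974240 : Led Lsl_gt (LP (LK LD1_c11 LD2_c51 LD3_c31)) = (LP (LK LD1_c20 LD2_c53 LD3_c55)) :=
  Lre_g IH (LK LD1_c11 LD2_c51 LD3_c31) (LK LD1_c20 LD2_c53 LD3_c55) Lrfl Lrfl
def v50160 : LQ := Led Lsl_at (LP (LK LD1_c11 LD2_c51 LD3_c31))
theorem f974280 : Led Lsl_at (LP (LK LD1_c11 LD2_c51 LD3_c31)) = v50160 :=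
  Lrfl
theorem f974281 : Led Lsl_af (LP (LK LD1_c11 LD2_c51 LD3_c31)) = v50160 :=
  Lgr Lrot0 (Lpr_at (f974280 IH) (Lpn v50160))
theorem f452906 : Led Lsl_dt (LP (LK LD1_c6 LD2_c3 LD3_c59)) = (LP (LK LD1_c11 LD2_c51 LD3_c31)) :=
  Lre_d IH (LK LD1_c6 LD2_c3 LD3_c59) (LK LD1_c11 LD2_c51 LD3_c31) Lrfl Lrfl
theorem f974282 : Led Lsl_df v16659 = v50160 :=
  Lgr Lrot18 (Lpe (f750869 IH) (Lpr_dt (f452906 IH) (Lpr_at (f974280 IH) (Lpn v50160))))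
theorem f176192 : Led Lsl_dt (LP (LK LD1_c6 LD2_c3 LD3_c60)) = (LP (LK LD1_c11 LD2_c51 LD3_c34)) :=
  Lre_d IH (LK LD1_c6 LD2_c3 LD3_c60) (LK LD1_c11 LD2_c51 LD3_c34) Lrfl Lrfl
theorem f974284 : Led Lsl_ft (LP (LK LD1_c11 LD2_c51 LD3_c34)) = v50160 :=
  Lgr Lrot54 (Lpe (f176192 IH) (Lpr_ff (f750877 IH) (Lpr_df (f974282 IH) (Lpn v50160))))
theorem f974288 : Led Lsl_af (LP (LK LD1_c11 LD2_c51 LD3_c34)) = v50161 :=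
  Lgr Lrot45 (Lpr_ft (f974284 IH) (Lpe (f974281 IH) (Lpr_ft (f974287 IH) (Lpn v50161))))
theorem f974291 : Led Lsl_gt (LP (LK LD1_c20 LD2_c53 LD3_c55)) = (LP (LK LD1_c11 LD2_c51 LD3_c34)) :=
  Lgr Lrot46 (Lpe (f974240 IH) (Lpr_ft (f974287 IH) (Lpe (f974288 IH) (Lpn (LP (LK LD1_c11 LD2_c51 LD3_c34))))))
theorem f974292 : Led Lsl_gt (LP (LK LD1_c20 LD2_c53 LD3_c55)) = (LP (LK LD1_c11 LD2_c51 LD3_c34)) :=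
  Leop (Lpe (f974291 IH) (Lpn (LP (LK LD1_c20 LD2_c53 LD3_c55))))
theorem seed_3000 : LEOK LG_g (LK LD1_c20 LD2_c53 LD3_c55) :=
  Leoe_g (LK LD1_c20 LD2_c53 LD3_c55) (f974292 IH)
def v50183 : LQ := Led Lsl_dt (LP (LK LD1_c11 LD2_c51 LD3_c41))
theorem f974363 : Led Lsl_dt (LP (LK LD1_c11 LD2_c51 LD3_c41)) = v50183 :=
  Lrfl
theorem f974368 : Led Lsl_ct (LP (LK LD1_c15 LD2_c27 LD3_c13)) = v50183 :=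
  Lgr Lrot7 (Lpe (K70.f55559 IH) (Lpr_gf (K53.f55780 IH) (Lpr_df (K53.f553625 IH) (Lpe (K53.f553654 IH) (Lpe (K57.f710898 IH) (Lpr_gt (K53.f68906 IH) (Lpr_dt (K53.f9280 IH) (Lpr_gt (K53.f9289 IH) (Lpr_dt (f974363 IH) (Lpn v50183))))))))))
theorem f919898 : Led Lsl_bf (LP (LK LD1_c9 LD2_c46 LD3_c47)) = K73.v40787 :=
  Lgr Lrot96 (Lpr_et (K54.f40910 IH) (Lpr_bt (K75.f710877 IH) (Lpr_et (K73.f919897 IH) (Lpn K73.v40787))))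
def v40648 : LQ := Led Lsl_ft (LP (LK LD1_c9 LD2_c44 LD3_c24))
theorem f918287 : Led Lsl_ft (LP (LK LD1_c9 LD2_c44 LD3_c24)) = v40648 :=
  Lrfl
theorem f753518 : Led Lsl_ct (LP (LK LD1_c9 LD2_c5 LD3_c17)) = (LP (LK LD1_c9 LD2_c44 LD3_c24)) :=
  Lgr Lrot59 (Lpr_cf (K71.f753515 IH) (Lpn (LP (LK LD1_c9 LD2_c44 LD3_c24))))
theorem f918288 : Led Lsl_cf (LP (LK LD1_c10 LD2_c3 LD3_c1)) = v40648 :=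
  Lgr Lrot108 (Lpr_ft (K55.f741513 IH) (Lpqs (K64.f824231 IH) (Lpr_ct (f753518 IH) (Lpr_ft (f918287 IH) (Lpn v40648)))))
theorem f166358 : Led Lsl_ct (LP (LK LD1_c10 LD2_c3 LD3_c0)) = (LP (LK LD1_c5 LD2_c6 LD3_c0)) :=
  Lre_c IH (LK LD1_c10 LD2_c3 LD3_c0) (LK LD1_c5 LD2_c6 LD3_c0) Lrfl Lrfl
theorem f918291 : Led Lsl_gt K71.v15411 = v40648 :=
  Lgr Lrot150 (Lpe (K71.f736166 IH) (Lpr_gf (K71.f736157 IH) (Lpq (K71.f896793 IH) (Lpe (K70.f225539 IH) (Lpr_gt (K54.f194051 IH) (Lpe (K74.f408400 IH) (Lpr_gt (K54.f722535 IH) (Lpq (K54.f731597 IH) (Lpr_ct (f166358 IH) (Lpe (K64.f164987 IH) (Lpr_cf (f918288 IH) (Lpn v40648))))))))))))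
theorem f918289 : Led Lsl_ff (LP (LK LD1_c9 LD2_c44 LD3_c24)) = v40648 :=
  Lgr Lrot3 (Lpr_ft (f918287 IH) (Lpn v40648))
theorem f918290 : Led Lsl_ct (LP (LK LD1_c10 LD2_c3 LD3_c1)) = v40648 :=
  Lgr Lrot40 (Lpr_ff (K64.f741515 IH) (Lpqs (K64.f824231 IH) (Lpr_cf (K71.f753515 IH) (Lpr_ff (f918289 IH) (Lpn v40648)))))
theorem f741518 : Led Lsl_bt (LP (LK LD1_c10 LD2_c3 LD3_c1)) = (LP (LK LD1_c18 LD2_c21 LD3_c29)) :=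
  Lre_b IH (LK LD1_c10 LD2_c3 LD3_c1) (LK LD1_c18 LD2_c21 LD3_c29) Lrfl Lrfl
theorem f931587 : Led Lsl_af (LP (LK LD1_c26 LD2_c49 LD3_c2)) = (LP (LK LD1_c16 LD2_c57 LD3_c14)) :=
  Lgr Lrot117 (Lpr_dt (K74.f931580 IH) (Lpr_at (K74.f408228 IH) (Lpr_dt (K74.f408203 IH) (Lpn (LP (LK LD1_c16 LD2_c57 LD3_c14))))))
theorem f738029 : Led Lsl_et (LP (LK LD1_c11 LD2_c14 LD3_c38)) = (LP (LK LD1_c20 LD2_c9 LD3_c36)) :=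
  Lre_e IH (LK LD1_c11 LD2_c14 LD3_c38) (LK LD1_c20 LD2_c9 LD3_c36) Lrfl Lrfl
theorem f931582 : Led Lsl_gt (LP (LK LD1_c20 LD2_c9 LD3_c36)) = (LP (LK LD1_c26 LD2_c49 LD3_c2)) :=
  Lgr Lrot137 (Lpe (f738029 IH) (Lpr_dt (K69.f738027 IH) (Lpr_gf (K69.f738030 IH) (Lpqs (K69.f897114 IH) (Lpe (K41.f542287 IH) (Lpr_et (K69.f280343 IH) (Lpe (K38.f174454 IH) (Lpe (K74.f281918 IH) (Lpr_dt (K45.f281919 IH) (Lpqs (K74.f931573 IH) (Lpe (K74.f929860 IH) (Lpe (K74.f931580 IH) (Lpn (LP (LK LD1_c26 LD2_c49 LD3_c2)))))))))))))))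
theorem f931602 : Led Lsl_gf (LP (LK LD1_c20 LD2_c9 LD3_c36)) = (LP (LK LD1_c18 LD2_c21 LD3_c29)) :=
  Lgr Lrot47 (Lpr_gt (f931582 IH) (Lpr_af (f931587 IH) (Lpe (K74.f824271 IH) (Lpn (LP (LK LD1_c18 LD2_c21 LD3_c29))))))
theorem f824091 : Led Lsl_bt (LP (LK LD1_c11 LD2_c14 LD3_c40)) = (LP (LK LD1_c20 LD2_c9 LD3_c36)) :=
  Lre_b IH (LK LD1_c11 LD2_c14 LD3_c40) (LK LD1_c20 LD2_c9 LD3_c36) Lrfl Lrfl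
def v47100 : LQ := Led Lsl_ct (LP (LK LD1_c11 LD2_c14 LD3_c40))
theorem f956888 : Led Lsl_ct (LP (LK LD1_c11 LD2_c14 LD3_c40)) = v47100 :=
  Lrfl
theorem f974372 : Led Lsl_gt v47100 = v50183 :=
  Lgr Lrot65 (Lpe (f956888 IH) (Lpr_bt (f824091 IH) (Lpr_gf (f931602 IH) (Lpe (f741518 IH) (Lpr_ct (f918290 IH) (Lpe (f918291 IH) (Lpe (K71.f736166 IH) (Lpr_gf (K71.f736157 IH) (Lpq (K71.f896793 IH) (Lpr_bf (f919898 IH) (Lpqs (K73.f931510 IH) (Lpr_ct (f974368 IH) (Lpn v50183)))))))))))))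
theorem f414436 : Led Lsl_dt (LP (LK LD1_c20 LD2_c54 LD3_c12)) = (LP (LK LD1_c11 LD2_c51 LD3_c42)) :=
  Lre_d IH (LK LD1_c20 LD2_c54 LD3_c12) (LK LD1_c11 LD2_c51 LD3_c42) Lrfl Lrfl
theorem f974371 : Led Lsl_at (LP (LK LD1_c20 LD2_c20 LD3_c39)) = v50183 :=
  Lgr Lrot33 (Lpe (K57.f751730 IH) (Lpr_dt (f414436 IH) (Lpr_ct (K57.f710902 IH) (Lpe (K56.f319436 IH) (Lpr_ct (K56.f727324 IH) (Lpe (K56.f727322 IH) (Lpe (K53.f710828 IH) (Lpr_dt (K70.f55559 IH) (Lpr_ct (f974368 IH) (Lpn v50183))))))))))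
theorem f974373 : Led Lsl_gf v47100 = (LP (LK LD1_c20 LD2_c54 LD3_c12)) :=
  Lgr Lrot47 (Lpr_gt (f974372 IH) (Lpe (f974371 IH) (Lpe (K57.f751730 IH) (Lpn (LP (LK LD1_c20 LD2_c54 LD3_c12))))))
theorem f956490 : Led Lsl_ct (LP (LK LD1_c20 LD2_c7 LD3_c36)) = (LP (LK LD1_c29 LD2_c18 LD3_c42)) :=
  Lre_c IH (LK LD1_c20 LD2_c7 LD3_c36) (LK LD1_c29 LD2_c18 LD3_c42) Lrfl Lrfl
theorem f710929 : Led Lsl_ct (LP (LK LD1_c15 LD2_c27 LD3_c12)) = (LP (LK LD1_c20 LD2_c54 LD3_c12)) :=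
  Lgr Lrot59 (Lpr_cf (K57.f710823 IH) (Lpn (LP (LK LD1_c20 LD2_c54 LD3_c12))))
theorem f750567 : Led Lsl_et (LP (LK LD1_c29 LD2_c24 LD3_c15)) = (LP (LK LD1_c20 LD2_c18 LD3_c38)) :=
  Lre_e IH (LK LD1_c29 LD2_c24 LD3_c15) (LK LD1_c20 LD2_c18 LD3_c38) Lrfl Lrfl
theorem f750568 : Led Lsl_bf (LP (LK LD1_c29 LD2_c24 LD3_c15)) = (LP (LK LD1_c21 LD2_c4 LD3_c9)) :=
  Lgr Lrot96 (Lpr_et (f750567 IH) (Lpr_bt (K56.f750560 IH) (Lpr_et (K70.f414102 IH) (Lpn (LP (LK LD1_c21 LD2_c4 LD3_c9))))))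
theorem f750571 : Led Lsl_bt (LP (LK LD1_c29 LD2_c24 LD3_c15)) = (LP (LK LD1_c21 LD2_c4 LD3_c9)) :=
  Lgr Lrot127 (Lpr_bf (f750568 IH) (Lpn (LP (LK LD1_c21 LD2_c4 LD3_c9))))
theorem f750573 : Led Lsl_ct (LP (LK LD1_c29 LD2_c24 LD3_c15)) = (LP (LK LD1_c20 LD2_c18 LD3_c40)) :=
  Lre_c IH (LK LD1_c29 LD2_c24 LD3_c15) (LK LD1_c20 LD2_c18 LD3_c40) Lrfl Lrfl
theorem f974375 : Led Lsl_gt (LP (LK LD1_c29 LD2_c18 LD3_c42)) = (LP (LK LD1_c20 LD2_c18 LD3_c40)) :=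
  Lgr Lrot65 (Lpe (f956490 IH) (Lpr_bt (K74.f956488 IH) (Lpe (f931582 IH) (Lpe (f824091 IH) (Lpr_ct (f956888 IH) (Lpr_gf (f974373 IH) (Lpe (f710929 IH) (Lpe (K70.f553643 IH) (Lpe (f750571 IH) (Lpr_ct (f750573 IH) (Lpn (LP (LK LD1_c20 LD2_c18 LD3_c40)))))))))))))
theorem f974376 : Led Lsl_gt (LP (LK LD1_c29 LD2_c18 LD3_c42)) = (LP (LK LD1_c20 LD2_c18 LD3_c40)) :=
  Leop (Lpe (f974375 IH) (Lpn (LP (LK LD1_c29 LD2_c18 LD3_c42))))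
theorem seed_3001 : LEOK LG_g (LK LD1_c29 LD2_c18 LD3_c42) :=
  Leoe_g (LK LD1_c29 LD2_c18 LD3_c42) (f974376 IH)
def v50199 : LQ := Led Lsl_gt (LP (LK LD1_c11 LD2_c51 LD3_c52))
theorem f974453 : Led Lsl_gt (LP (LK LD1_c11 LD2_c51 LD3_c52)) = v50199 :=
  Lrfl
def v50200 : LQ := Led Lsl_gf (LP (LK LD1_c11 LD2_c51 LD3_c52))
theorem f974454 : Led Lsl_gf (LP (LK LD1_c11 LD2_c51 LD3_c52)) = v50200 :=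
  Lrfl
theorem f71257 : Led Lsl_ct (LP (LK LD1_c17 LD2_c2 LD3_c6)) = (LP (LK LD1_c9 LD2_c9 LD3_c4)) :=
  Lre_c IH (LK LD1_c17 LD2_c2 LD3_c6) (LK LD1_c9 LD2_c9 LD3_c4) Lrfl Lrfl
def v48838 : LQ := Led Lsl_gf (LP (LK LD1_c11 LD2_c35 LD3_c52))
theorem f967638 : Led Lsl_gf (LP (LK LD1_c11 LD2_c35 LD3_c52)) = v48838 :=
  Lrfl
theorem f71273 : Led Lsl_ct (LP (LK LD1_c5 LD2_c55 LD3_c10)) = (LP (LK LD1_c11 LD2_c35 LD3_c52)) :=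
  Lre_c IH (LK LD1_c5 LD2_c55 LD3_c10) (LK LD1_c11 LD2_c35 LD3_c52) Lrfl Lrfl
def v16239 : LQ := Led Lsl_ct (LP (LK LD1_c5 LD2_c55 LD3_c27))
theorem f747290 : Led Lsl_ct (LP (LK LD1_c5 LD2_c55 LD3_c27)) = v16239 :=
  Lrfl
theorem f924756 : (LP (LK LD1_c5 LD2_c11 LD3_c49)) = v16239 :=
  Lefun (Lecon (Lfl_cf (K72.f722948 IH)) (K72.f924755 IH)) (f747290 IH)
theorem f967639 : Led Lsl_ct (LP (LK LD1_c15 LD2_c30 LD3_c45)) = v48838 :=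
  Lgr Lrot64 (Lpr_bt (K74.f172090 IH) (Lpe (K70.f334645 IH) (Lpe (K71.f599793 IH) (Lpe (K48.f163951 IH) (Lpr_gf (K72.f163829 IH) (Lpqs (f924756 IH) (Lpe (f747290 IH) (Lpe (K56.f71286 IH) (Lpe (K2.f71270 IH) (Lpr_ct (f71273 IH) (Lpr_gf (f967638 IH) (Lpn v48838))))))))))))
def v35906 : LQ := Led Lsl_ft (LP (LK LD1_c8 LD2_c12 LD3_c41))
theorem f881051 : Led Lsl_ft (LP (LK LD1_c8 LD2_c12 LD3_c41)) = v35906 :=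
  Lrfl
theorem f881052 : Led Lsl_ff (LP (LK LD1_c8 LD2_c12 LD3_c41)) = v35906 :=
  Lgr Lrot3 (Lpr_ft (f881051 IH) (Lpn v35906))
theorem f936905 : Led Lsl_gt v35906 = (LP (LK LD1_c15 LD2_c30 LD3_c45)) :=
  Lgr Lrot5 (Lpe (f881052 IH) (Lpr_at (K56.f600988 IH) (Lpr_gf (K73.f936903 IH) (Lpn (LP (LK LD1_c15 LD2_c30 LD3_c45))))))
theorem f974456 : Led Lsl_df v35906 = v50200 :=
  Lgr Lrot155 (Lpr_gt (f936905 IH) (Lpr_ct (f967639 IH) (Lpe (f967638 IH) (Lpr_ct (K2.f71249 IH) (Lpe (K11.f71233 IH) (Lpe (f71257 IH) (Lpr_gf (K72.f924816 IH) (Lpe (K72.f334924 IH) (Lpr_gf (f974454 IH) (Lpn v50200))))))))))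
theorem f79918 : Led Lsl_dt (LP (LK LD1_c8 LD2_c12 LD3_c41)) = (LP (LK LD1_c15 LD2_c26 LD3_c52)) :=
  Lre_d IH (LK LD1_c8 LD2_c12 LD3_c41) (LK LD1_c15 LD2_c26 LD3_c52) Lrfl Lrfl
theorem f974457 : Led Lsl_ft (LP (LK LD1_c15 LD2_c26 LD3_c52)) = v50200 :=
  Lgr Lrot54 (Lpe (f79918 IH) (Lpr_ff (f881052 IH) (Lpr_df (f974456 IH) (Lpn v50200))))
theorem f974459 : Led Lsl_ff (LP (LK LD1_c15 LD2_c26 LD3_c52)) = v50200 :=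
  Lgr Lrot3 (Lpr_ft (f974457 IH) (Lpn v50200))
theorem f601007 : Led Lsl_df (LP (LK LD1_c15 LD2_c26 LD3_c47)) = (LP (LK LD1_c20 LD2_c26 LD3_c29)) :=
  Lgr Lrot38 (Lpr_dt (K56.f601001 IH) (Lpn (LP (LK LD1_c20 LD2_c26 LD3_c29))))
theorem f601176 : Led Lsl_bt (LP (LK LD1_c15 LD2_c26 LD3_c52)) = (LP (LK LD1_c20 LD2_c26 LD3_c29)) :=
  Lgr Lrot95 (Lpe (f79918 IH) (Lpe (K56.f600992 IH) (Lpr_df (f601007 IH) (Lpn (LP (LK LD1_c20 LD2_c26 LD3_c29))))))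
theorem f601178 : Led Lsl_ef (LP (LK LD1_c15 LD2_c26 LD3_c52)) = (LP (LK LD1_c11 LD2_c27 LD3_c42)) :=
  Lgr Lrot29 (Lpr_bt (f601176 IH) (Lpr_et (K56.f571949 IH) (Lpr_bt (K42.f571944 IH) (Lpn (LP (LK LD1_c11 LD2_c27 LD3_c42))))))
theorem f546842 : Led Lsl_et (LP (LK LD1_c12 LD2_c5 LD3_c33)) = (LP (LK LD1_c6 LD2_c13 LD3_c21)) :=
  Lre_e IH (LK LD1_c12 LD2_c5 LD3_c33) (LK LD1_c6 LD2_c13 LD3_c21) Lrfl Lrfl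
theorem f601180 : Led Lsl_at (LP (LK LD1_c15 LD2_c26 LD3_c52)) = (LP (LK LD1_c12 LD2_c5 LD3_c33)) :=
  Lgr Lrot80 (Lpr_ef (f601178 IH) (Lpe (K56.f594901 IH) (Lpe (f546842 IH) (Lpn (LP (LK LD1_c12 LD2_c5 LD3_c33))))))
theorem f974461 : (LP (LK LD1_c12 LD2_c5 LD3_c33)) = v50199 :=
  (Llr Lrot26 (Lpe (f601180 IH) (Lpr_ff (f974459 IH) (Lpe (f974454 IH) (Lpr_gt (f974453 IH) (Lpn v50199)))))).symm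
theorem f974462 : Led Lsl_gt (LP (LK LD1_c11 LD2_c51 LD3_c52)) = (LP (LK LD1_c12 LD2_c5 LD3_c33)) :=
  Leop (Lpqs (f974461 IH) (Lpe (f974453 IH) (Lpn (LP (LK LD1_c11 LD2_c51 LD3_c52)))))
theorem seed_3002 : LEOK LG_g (LK LD1_c11 LD2_c51 LD3_c52) :=
  Leoe_g (LK LD1_c11 LD2_c51 LD3_c52) (f974462 IH)
def v50204 : LQ := Led Lsl_ft (LP (LK LD1_c11 LD2_c51 LD3_c52))
theorem f974481 : Led Lsl_ft (LP (LK LD1_c11 LD2_c51 LD3_c52)) = v50204 :=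
  Lrfl
theorem f974485 : Led Lsl_ff (LP (LK LD1_c11 LD2_c51 LD3_c52)) = v50204 :=
  Lgr Lrot3 (Lpr_ft (f974481 IH) (Lpn v50204))
def v50203 : LQ := Led Lsl_et (LP (LK LD1_c11 LD2_c51 LD3_c52))
theorem f974475 : Led Lsl_et (LP (LK LD1_c11 LD2_c51 LD3_c52)) = v50203 :=
  Lrfl
theorem f974477 : Led Lsl_ef (LP (LK LD1_c11 LD2_c51 LD3_c52)) = v50203 :=
  Lgr Lrot88 (Lpr_et (f974475 IH) (Lpn v50203))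
def v16674 : LQ := Led Lsl_et (LP (LK LD1_c6 LD2_c4 LD3_c7))
theorem f750927 : Led Lsl_et (LP (LK LD1_c6 LD2_c4 LD3_c7)) = v16674 :=
  Lrfl
theorem f974478 : Led Lsl_bt v16674 = v50203 :=
  Lgr Lrot119 (Lpe (f750927 IH) (Lpe (K72.f172082 IH) (Lpr_ef (f974477 IH) (Lpn v50203))))
theorem f750928 : Led Lsl_ef (LP (LK LD1_c6 LD2_c4 LD3_c7)) = v16674 :=
  Lgr Lrot88 (Lpr_et (f750927 IH) (Lpn v16674))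
theorem f701122 : Led Lsl_ef (LP (LK LD1_c6 LD2_c46 LD3_c41)) = K75.v13101 :=
  Lgr Lrot88 (Lpr_et (K75.f701121 IH) (Lpn K75.v13101))
theorem f823912 : Led Lsl_ff v16674 = (LP (LK LD1_c11 LD2_c12 LD3_c11)) :=
  Lgr Lrot72 (Lpe (f750928 IH) (Lpr_ft (K75.f750905 IH) (Lpqs (K75.f823911 IH) (Lpe (f701122 IH) (Lpr_ft (K70.f782160 IH) (Lpq (K70.f823886 IH) (Lpr_et (K67.f622360 IH) (Lpn (LP (LK LD1_c11 LD2_c12 LD3_c11))))))))))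
def v46863 : LQ := Led Lsl_bt (LP (LK LD1_c11 LD2_c12 LD3_c11))
theorem f955609 : Led Lsl_bt (LP (LK LD1_c11 LD2_c12 LD3_c11)) = v46863 :=
  Lrfl
theorem f955610 : Led Lsl_bf (LP (LK LD1_c11 LD2_c12 LD3_c11)) = v46863 :=
  Lgr Lrot24 (Lpr_bt (f955609 IH) (Lpn v46863))
theorem f974479 : Led Lsl_ff v46863 = v50203 :=
  Lgr Lrot25 (Lpe (f955610 IH) (Lpe (f823912 IH) (Lpr_bt (f974478 IH) (Lpn v50203))))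
theorem f416236 : Led Lsl_bt (LP (LK LD1_c17 LD2_c34 LD3_c43)) = (LP (LK LD1_c9 LD2_c32 LD3_c24)) :=
  Lre_b IH (LK LD1_c17 LD2_c34 LD3_c43) (LK LD1_c9 LD2_c32 LD3_c24) Lrfl Lrfl
theorem f955612 : Led Lsl_ef (LP (LK LD1_c17 LD2_c34 LD3_c43)) = v46863 :=
  Lgr Lrot29 (Lpr_bt (f416236 IH) (Lpr_et (K67.f622360 IH) (Lpr_bt (f955609 IH) (Lpn v46863))))
theorem f414099 : Led Lsl_bt (LP (LK LD1_c12 LD2_c56 LD3_c40)) = (LP (LK LD1_c6 LD2_c46 LD3_c41)) :=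
  Lre_b IH (LK LD1_c12 LD2_c56 LD3_c40) (LK LD1_c6 LD2_c46 LD3_c41) Lrfl Lrfl
theorem f622355 : Led Lsl_bt (LP (LK LD1_c9 LD2_c32 LD3_c24)) = (LP (LK LD1_c17 LD2_c34 LD3_c43)) :=
  Lre_b IH (LK LD1_c9 LD2_c32 LD3_c24) (LK LD1_c17 LD2_c34 LD3_c43) Lrfl Lrfl
theorem f823891 : Led Lsl_ff (LP (LK LD1_c12 LD2_c56 LD3_c40)) = (LP (LK LD1_c17 LD2_c34 LD3_c43)) :=
  Lgr Lrot25 (Lpr_bt (f414099 IH) (Lpr_ft (K70.f782160 IH) (Lpq (K70.f823886 IH) (Lpr_bt (f622355 IH) (Lpn (LP (LK LD1_c17 LD2_c34 LD3_c43)))))))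
theorem f974488 : Led Lsl_et (LP (LK LD1_c12 LD2_c56 LD3_c40)) = v50204 :=
  Lgr Lrot69 (Lpr_ff (f823891 IH) (Lpr_ef (f955612 IH) (Lpr_ff (f974479 IH) (Lpe (f974475 IH) (Lpr_ff (f974485 IH) (Lpn v50204))))))
theorem f750576 : Led Lsl_at (LP (LK LD1_c22 LD2_c6 LD3_c21)) = (LP (LK LD1_c12 LD2_c56 LD3_c40)) :=
  Lre_a IH (LK LD1_c22 LD2_c6 LD3_c21) (LK LD1_c12 LD2_c56 LD3_c40) Lrfl Lrfl
def v50201 : LQ := Led Lsl_at (LP (LK LD1_c11 LD2_c51 LD3_c52))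
theorem f974464 : Led Lsl_at (LP (LK LD1_c11 LD2_c51 LD3_c52)) = v50201 :=
  Lrfl
theorem f974465 : Led Lsl_af (LP (LK LD1_c11 LD2_c51 LD3_c52)) = v50201 :=
  Lgr Lrot0 (Lpr_at (f974464 IH) (Lpn v50201))
theorem f598538 : Led Lsl_ft (LP (LK LD1_c12 LD2_c5 LD3_c33)) = (LP (LK LD1_c21 LD2_c11 LD3_c16)) :=
  Lre_f IH (LK LD1_c12 LD2_c5 LD3_c33) (LK LD1_c21 LD2_c11 LD3_c16) Lrfl Lrfl
theorem f974460 : Led Lsl_at (LP (LK LD1_c21 LD2_c11 LD3_c16)) = v50200 :=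
  Lgr Lrot66 (Lpe (f598538 IH) (Lpe (f601180 IH) (Lpr_ff (f974459 IH) (Lpn v50200))))
theorem f101594 : Led Lsl_gt (LP (LK LD1_c12 LD2_c5 LD3_c33)) = (LP (LK LD1_c21 LD2_c11 LD3_c15)) :=
  Lre_g IH (LK LD1_c12 LD2_c5 LD3_c33) (LK LD1_c21 LD2_c11 LD3_c15) Lrfl Lrfl
theorem f974463 : Led Lsl_gf v50200 = (LP (LK LD1_c21 LD2_c11 LD3_c15)) :=
  Lgr Lrot76 (Lpe (f974460 IH) (Lpe (f598538 IH) (Lpr_gt (f101594 IH) (Lpn (LP (LK LD1_c21 LD2_c11 LD3_c15))))))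
theorem f974466 : Led Lsl_ft (LP (LK LD1_c21 LD2_c11 LD3_c15)) = v50201 :=
  Lgr Lrot2 (Lpe (f974463 IH) (Lpe (f974454 IH) (Lpr_af (f974465 IH) (Lpn v50201))))
theorem f974482 : Led Lsl_af (LP (LK LD1_c21 LD2_c11 LD3_c15)) = v50204 :=
  Lgr Lrot45 (Lpr_ft (f974466 IH) (Lpe (f974465 IH) (Lpr_ft (f974481 IH) (Lpn v50204))))
theorem f974489 : Led Lsl_ef (LP (LK LD1_c22 LD2_c6 LD3_c21)) = (LP (LK LD1_c21 LD2_c11 LD3_c15)) :=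
  Lgr Lrot20 (Lpr_at (f750576 IH) (Lpr_et (f974488 IH) (Lpe (f974482 IH) (Lpn (LP (LK LD1_c21 LD2_c11 LD3_c15))))))
theorem f974490 : Led Lsl_et (LP (LK LD1_c21 LD2_c11 LD3_c15)) = (LP (LK LD1_c22 LD2_c6 LD3_c21)) :=
  Leop (Lpr_ef (f974489 IH) (Lpn (LP (LK LD1_c21 LD2_c11 LD3_c15))))
theorem seed_3003 : LEOK LG_e (LK LD1_c21 LD2_c11 LD3_c15) :=
  Leoe_e (LK LD1_c21 LD2_c11 LD3_c15) (f974490 IH)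
def v50205 : LQ := Led Lsl_bt (LP (LK LD1_c11 LD2_c51 LD3_c57))
theorem f974493 : Led Lsl_bt (LP (LK LD1_c11 LD2_c51 LD3_c57)) = v50205 :=
  Lrfl
theorem f974496 : Led Lsl_ff (LP (LK LD1_c18 LD2_c2 LD3_c17)) = v50205 :=
  Lgr Lrot25 (Lpr_bt (K72.f334812 IH) (Lpr_ft (K72.f921827 IH) (Lpq (K72.f925136 IH) (Lpr_bt (f974493 IH) (Lpn v50205)))))
theorem f974497 : Led Lsl_dt (LP (LK LD1_c18 LD2_c43 LD3_c57)) = v50205 :=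
  Lgr Lrot60 (Lpe (K73.f925191 IH) (Lpr_df (K72.f925175 IH) (Lpr_ff (f974496 IH) (Lpn v50205))))
theorem f925199 : Led Lsl_ff (LP (LK LD1_c19 LD2_c27 LD3_c33)) = (LP (LK LD1_c18 LD2_c43 LD3_c57)) :=
  Lgr Lrot3 (Lpr_ft (K73.f925191 IH) (Lpn (LP (LK LD1_c18 LD2_c43 LD3_c57))))
theorem f412210 : Led Lsl_ct (LP (LK LD1_c5 LD2_c27 LD3_c18)) = (LP (LK LD1_c10 LD2_c45 LD3_c42)) :=
  Lre_c IH (LK LD1_c5 LD2_c27 LD3_c18) (LK LD1_c10 LD2_c45 LD3_c42) Lrfl Lrfl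
theorem f277351 : Led Lsl_dt (LP (LK LD1_c2 LD2_c43 LD3_c12)) = (LP (LK LD1_c5 LD2_c27 LD3_c18)) :=
  Lre_d IH (LK LD1_c2 LD2_c43 LD3_c12) (LK LD1_c5 LD2_c27 LD3_c18) Lrfl Lrfl
theorem f710847 : Led Lsl_ct (LP (LK LD1_c5 LD2_c34 LD3_c30)) = (LP (LK LD1_c2 LD2_c43 LD3_c12)) :=
  Lre_c IH (LK LD1_c5 LD2_c34 LD3_c30) (LK LD1_c2 LD2_c43 LD3_c12) Lrfl Lrfl
theorem f710848 : Led Lsl_dt (LP (LK LD1_c11 LD2_c1 LD3_c15)) = (LP (LK LD1_c5 LD2_c34 LD3_c30)) :=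
  Lre_d IH (LK LD1_c11 LD2_c1 LD3_c15) (LK LD1_c5 LD2_c34 LD3_c30) Lrfl Lrfl
theorem f925207 : Led Lsl_ct (LP (LK LD1_c19 LD2_c52 LD3_c26)) = (LP (LK LD1_c11 LD2_c1 LD3_c15)) :=
  Lre_c IH (LK LD1_c19 LD2_c52 LD3_c26) (LK LD1_c11 LD2_c1 LD3_c15) Lrfl Lrfl
theorem f925208 : Led Lsl_dt (LP (LK LD1_c29 LD2_c8 LD3_c51)) = (LP (LK LD1_c19 LD2_c52 LD3_c26)) :=
  Lre_d IH (LK LD1_c29 LD2_c8 LD3_c51) (LK LD1_c19 LD2_c52 LD3_c26) Lrfl Lrfl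
theorem f974500 : Led Lsl_cf (LP (LK LD1_c29 LD2_c8 LD3_c51)) = v50205 :=
  Lgr Lrot118 (Lpr_dt (f925208 IH) (Lpr_ct (f925207 IH) (Lpr_dt (f710848 IH) (Lpr_ct (f710847 IH) (Lpr_dt (f277351 IH) (Lpr_ct (f412210 IH) (Lpe (K72.f412209 IH) (Lpr_ff (f925199 IH) (Lpr_dt (f974497 IH) (Lpn v50205))))))))))
theorem f974498 : Led Lsl_ft (LP (LK LD1_c18 LD2_c2 LD3_c17)) = v50205 :=
  Lgr Lrot48 (Lpr_ff (f974496 IH) (Lpn v50205))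
theorem f334813 : Led Lsl_ct (LP (LK LD1_c27 LD2_c44 LD3_c14)) = (LP (LK LD1_c18 LD2_c2 LD3_c17)) :=
  Lre_c IH (LK LD1_c27 LD2_c44 LD3_c14) (LK LD1_c18 LD2_c2 LD3_c17) Lrfl Lrfl
theorem f974502 : Led Lsl_ft (LP (LK LD1_c29 LD2_c8 LD3_c51)) = (LP (LK LD1_c27 LD2_c44 LD3_c14)) :=
  Lgr Lrot4 (Lpr_cf (f974500 IH) (Lpe (f974498 IH) (Lpe (f334813 IH) (Lpn (LP (LK LD1_c27 LD2_c44 LD3_c14))))))
theorem f974503 : Led Lsl_ft (LP (LK LD1_c29 LD2_c8 LD3_c51)) = (LP (LK LD1_c27 LD2_c44 LD3_c14)) :=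
  Leop (Lpe (f974502 IH) (Lpn (LP (LK LD1_c29 LD2_c8 LD3_c51))))
theorem seed_3004 : LEOK LG_f (LK LD1_c29 LD2_c8 LD3_c51) :=
  Leoe_f (LK LD1_c29 LD2_c8 LD3_c51) (f974503 IH)
def v50219 : LQ := Led Lsl_gf (LP (LK LD1_c11 LD2_c52 LD3_c32))
theorem f974571 : Led Lsl_gf (LP (LK LD1_c11 LD2_c52 LD3_c32)) = v50219 :=
  Lrfl
theorem f195009 : Led Lsl_ft (LP (LK LD1_c11 LD2_c52 LD3_c34)) = (LP (LK LD1_c6 LD2_c4 LD3_c30)) :=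
  Lre_f IH (LK LD1_c11 LD2_c52 LD3_c34) (LK LD1_c6 LD2_c4 LD3_c30) Lrfl Lrfl
theorem f974572 : Led Lsl_gt (LP (LK LD1_c11 LD2_c52 LD3_c34)) = v50219 :=
  Lgr Lrot5 (Lpr_ft (f195009 IH) (Lpr_at (K10.f194971 IH) (Lpr_gf (f974571 IH) (Lpn v50219))))
theorem f194794 : Led Lsl_ct (LP (LK LD1_c19 LD2_c8 LD3_c58)) = (LP (LK LD1_c10 LD2_c34 LD3_c18)) :=
  Lre_c IH (LK LD1_c19 LD2_c8 LD3_c58) (LK LD1_c10 LD2_c34 LD3_c18) Lrfl Lrfl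
theorem f191495 : Led Lsl_bt (LP (LK LD1_c10 LD2_c25 LD3_c47)) = (LP (LK LD1_c5 LD2_c18 LD3_c2)) :=
  Lre_b IH (LK LD1_c10 LD2_c25 LD3_c47) (LK LD1_c5 LD2_c18 LD3_c2) Lrfl Lrfl
theorem f191496 : Led Lsl_ct (LP (LK LD1_c18 LD2_c55 LD3_c2)) = (LP (LK LD1_c10 LD2_c25 LD3_c47)) :=
  Lre_c IH (LK LD1_c18 LD2_c55 LD3_c2) (LK LD1_c10 LD2_c25 LD3_c47) Lrfl Lrfl
theorem f215100 : Led Lsl_dt (LP (LK LD1_c28 LD2_c22 LD3_c61)) = (LP (LK LD1_c18 LD2_c55 LD3_c2)) :=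
  Lre_d IH (LK LD1_c28 LD2_c22 LD3_c61) (LK LD1_c18 LD2_c55 LD3_c2) Lrfl Lrfl
theorem f198910 : Led Lsl_bt (LP (LK LD1_c10 LD2_c30 LD3_c43)) = (LP (LK LD1_c19 LD2_c3 LD3_c3)) :=
  Lre_b IH (LK LD1_c10 LD2_c30 LD3_c43) (LK LD1_c19 LD2_c3 LD3_c3) Lrfl Lrfl
theorem f618856 : Led Lsl_gf (LP (LK LD1_c28 LD2_c22 LD3_c61)) = (LP (LK LD1_c19 LD2_c3 LD3_c3)) :=
  Lgr Lrot85 (Lpr_dt (f215100 IH) (Lpr_ct (f191496 IH) (Lpr_bt (f191495 IH) (Lpr_gt (K17.f48935 IH) (Lpe (K17.f284969 IH) (Lpr_ct (K17.f284979 IH) (Lpe (K26.f284998 IH) (Lpe (K15.f263061 IH) (Lpr_dt (K12.f48936 IH) (Lpr_ct (K12.f32435 IH) (Lpr_bt (K10.f189858 IH) (Lpr_gt (K9.f183612 IH) (Lpr_dt (K10.f183633 IH) (Lpe (K10.f190097 IH) (Lpr_bt (K74.f190101 IH) (Lpe (K74.f257333 IH) (Lpr_dt (K74.f618676 IH) (Lpr_ct (K74.f195369 IH) (Lpr_bt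 (f198910 IH) (Lpn (LP (LK LD1_c19 LD2_c3 LD3_c3))))))))))))))))))))))
theorem f618769 : Led Lsl_ft (LP (LK LD1_c21 LD2_c0 LD3_c44)) = (LP (LK LD1_c19 LD2_c25 LD3_c12)) :=
  Lgr Lrot48 (Lpr_ff (K74.f618761 IH) (Lpn (LP (LK LD1_c19 LD2_c25 LD3_c12))))
theorem f618759 : Led Lsl_cf (LP (LK LD1_c21 LD2_c0 LD3_c44)) = (LP (LK LD1_c28 LD2_c29 LD3_c23)) :=
  Lgr Lrot11 (Lpr_ct (K74.f618752 IH) (Lpn (LP (LK LD1_c28 LD2_c29 LD3_c23))))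
theorem f196064 : Led Lsl_ct (LP (LK LD1_c19 LD2_c25 LD3_c12)) = (LP (LK LD1_c28 LD2_c48 LD3_c37)) :=
  Lre_c IH (LK LD1_c19 LD2_c25 LD3_c12) (LK LD1_c28 LD2_c48 LD3_c37) Lrfl Lrfl
theorem f618775 : Led Lsl_ff (LP (LK LD1_c28 LD2_c29 LD3_c23)) = (LP (LK LD1_c28 LD2_c48 LD3_c37)) :=
  Lgr Lrot23 (Lpe (f618759 IH) (Lpr_ft (f618769 IH) (Lpr_ct (f196064 IH) (Lpn (LP (LK LD1_c28 LD2_c48 LD3_c37))))))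
theorem f618777 : Led Lsl_at (LP (LK LD1_c28 LD2_c29 LD3_c24)) = (LP (LK LD1_c28 LD2_c48 LD3_c37)) :=
  Lgr Lrot66 (Lpe (K74.f198926 IH) (Lpe (K74.f198909 IH) (Lpr_ff (f618775 IH) (Lpn (LP (LK LD1_c28 LD2_c48 LD3_c37))))))
theorem f618858 : Led Lsl_gt (LP (LK LD1_c28 LD2_c22 LD3_c61)) = (LP (LK LD1_c28 LD2_c48 LD3_c37)) :=
  Lgr Lrot46 (Lpr_gf (f618856 IH) (Lpr_ft (K74.f198926 IH) (Lpr_at (f618777 IH) (Lpn (LP (LK LD1_c28 LD2_c48 LD3_c37))))))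
theorem f196065 : Led Lsl_ct (LP (LK LD1_c28 LD2_c48 LD3_c37)) = (LP (LK LD1_c19 LD2_c25 LD3_c12)) :=
  Lre_c IH (LK LD1_c28 LD2_c48 LD3_c37) (LK LD1_c19 LD2_c25 LD3_c12) Lrfl Lrfl
theorem f189356 : Led Lsl_bt (LP (LK LD1_c28 LD2_c33 LD3_c20)) = (LP (LK LD1_c19 LD2_c7 LD3_c46)) :=
  Lre_b IH (LK LD1_c28 LD2_c33 LD3_c20) (LK LD1_c19 LD2_c7 LD3_c46) Lrfl Lrfl
theorem f195971 : Led Lsl_bt (LP (LK LD1_c8 LD2_c7 LD3_c4)) = (LP (LK LD1_c15 LD2_c17 LD3_c10)) :=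
  Lre_b IH (LK LD1_c8 LD2_c7 LD3_c4) (LK LD1_c15 LD2_c17 LD3_c10) Lrfl Lrfl
theorem f50720 : Led Lsl_ct (LP (LK LD1_c15 LD2_c17 LD3_c11)) = (LP (LK LD1_c8 LD2_c7 LD3_c4)) :=
  Lre_c IH (LK LD1_c15 LD2_c17 LD3_c11) (LK LD1_c8 LD2_c7 LD3_c4) Lrfl Lrfl
theorem f195972 : Led Lsl_bt (LP (LK LD1_c25 LD2_c7 LD3_c20)) = (LP (LK LD1_c15 LD2_c17 LD3_c11)) :=
  Lre_b IH (LK LD1_c25 LD2_c7 LD3_c20) (LK LD1_c15 LD2_c17 LD3_c11) Lrfl Lrfl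
theorem f195973 : Led Lsl_bt (LP (LK LD1_c19 LD2_c7 LD3_c46)) = (LP (LK LD1_c28 LD2_c33 LD3_c20)) :=
  Lre_b IH (LK LD1_c19 LD2_c7 LD3_c46) (LK LD1_c28 LD2_c33 LD3_c20) Lrfl Lrfl
theorem f195974 : Led Lsl_cf (LP (LK LD1_c25 LD2_c7 LD3_c20)) = (LP (LK LD1_c28 LD2_c33 LD3_c20)) :=
  Lgr Lrot97 (Lpr_bt (f195972 IH) (Lpr_ct (f50720 IH) (Lpr_bt (f195971 IH) (Lpr_ct (K68.f195962 IH) (Lpr_bt (f195973 IH) (Lpn (LP (LK LD1_c28 LD2_c33 LD3_c20))))))))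
theorem f294469 : Led Lsl_gt (LP (LK LD1_c5 LD2_c26 LD3_c51)) = (LP (LK LD1_c6 LD2_c6 LD3_c5)) :=
  Lgr Lrot5 (Lpr_ft (K56.f294457 IH) (Lpr_at (K56.f285860 IH) (Lpe (K74.f183474 IH) (Lpn (LP (LK LD1_c6 LD2_c6 LD3_c5))))))
theorem f294438 : Led Lsl_ct (LP (LK LD1_c10 LD2_c44 LD3_c34)) = (LP (LK LD1_c5 LD2_c26 LD3_c51)) :=
  Lre_c IH (LK LD1_c10 LD2_c44 LD3_c34) (LK LD1_c5 LD2_c26 LD3_c51) Lrfl Lrfl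
theorem f231671 : Led Lsl_dt (LP (LK LD1_c15 LD2_c31 LD3_c21)) = (LP (LK LD1_c25 LD2_c24 LD3_c25)) :=
  Lre_d IH (LK LD1_c15 LD2_c31 LD3_c21) (LK LD1_c25 LD2_c24 LD3_c25) Lrfl Lrfl
theorem f294912 : Led Lsl_dt (LP (LK LD1_c25 LD2_c25 LD3_c51)) = (LP (LK LD1_c15 LD2_c32 LD3_c29)) :=
  Lre_d IH (LK LD1_c25 LD2_c25 LD3_c51) (LK LD1_c15 LD2_c32 LD3_c29) Lrfl Lrfl
theorem f294921 : Led Lsl_ff (LP (LK LD1_c15 LD2_c31 LD3_c21)) = (LP (LK LD1_c15 LD2_c32 LD3_c29)) :=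
  Lgr Lrot19 (Lpr_dt (f231671 IH) (Lpr_ft (K72.f294916 IH) (Lpr_dt (f294912 IH) (Lpn (LP (LK LD1_c15 LD2_c32 LD3_c29))))))
theorem f294948 : Led Lsl_bf (LP (LK LD1_c15 LD2_c32 LD3_c29)) = (LP (LK LD1_c10 LD2_c44 LD3_c34)) :=
  Lgr Lrot61 (Lpe (f294921 IH) (Lpr_bt (K72.f294928 IH) (Lpe (K56.f294432 IH) (Lpn (LP (LK LD1_c10 LD2_c44 LD3_c34))))))
theorem f53575 : Led Lsl_bt (LP (LK LD1_c4 LD2_c7 LD3_c39)) = (LP (LK LD1_c8 LD2_c15 LD3_c17)) :=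
  Lre_b IH (LK LD1_c4 LD2_c7 LD3_c39) (LK LD1_c8 LD2_c15 LD3_c17) Lrfl Lrfl
theorem f283024 : Led Lsl_ft (LP (LK LD1_c8 LD2_c15 LD3_c17)) = (LP (LK LD1_c8 LD2_c15 LD3_c61)) :=
  Lgr Lrot75 (Lpe (f53575 IH) (Lpr_ff (K17.f283022 IH) (Lpe (K72.f50792 IH) (Lpn (LP (LK LD1_c8 LD2_c15 LD3_c61))))))
theorem f231655 : Led Lsl_gt (LP (LK LD1_c8 LD2_c15 LD3_c17)) = (LP (LK LD1_c15 LD2_c31 LD3_c19)) :=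
  Lre_g IH (LK LD1_c8 LD2_c15 LD3_c17) (LK LD1_c15 LD2_c31 LD3_c19) Lrfl Lrfl
theorem f190085 : Led Lsl_at (LP (LK LD1_c8 LD2_c15 LD3_c61)) = (LP (LK LD1_c15 LD2_c32 LD3_c29)) :=
  Lre_a IH (LK LD1_c8 LD2_c15 LD3_c61) (LK LD1_c15 LD2_c32 LD3_c29) Lrfl Lrfl
theorem f409377 : Led Lsl_gt (LP (LK LD1_c15 LD2_c31 LD3_c19)) = (LP (LK LD1_c15 LD2_c32 LD3_c29)) :=
  Lgr Lrot46 (Lpe (f231655 IH) (Lpr_ft (f283024 IH) (Lpr_at (f190085 IH) (Lpn (LP (LK LD1_c15 LD2_c32 LD3_c29))))))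
theorem f409379 : Led Lsl_bt (LP (LK LD1_c25 LD2_c24 LD3_c22)) = (LP (LK LD1_c15 LD2_c31 LD3_c19)) :=
  Lre_b IH (LK LD1_c25 LD2_c24 LD3_c22) (LK LD1_c15 LD2_c31 LD3_c19) Lrfl Lrfl
theorem f353009 : Led Lsl_ff (LP (LK LD1_c8 LD2_c16 LD3_c5)) = (LP (LK LD1_c8 LD2_c15 LD3_c25)) :=
  Lgr Lrot25 (Lpr_bt (K14.f53581 IH) (Lpr_ft (K25.f353007 IH) (Lpr_bt (K74.f194370 IH) (Lpn (LP (LK LD1_c8 LD2_c15 LD3_c25))))))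
theorem f353084 : Led Lsl_gf (LP (LK LD1_c15 LD2_c32 LD3_c40)) = (LP (LK LD1_c15 LD2_c31 LD3_c33)) :=
  Lgr Lrot76 (Lpe (K39.f194786 IH) (Lpr_ff (f353009 IH) (Lpr_gt (K74.f194379 IH) (Lpn (LP (LK LD1_c15 LD2_c31 LD3_c33))))))
theorem f187710 : Led Lsl_gt (LP (LK LD1_c19 LD2_c2 LD3_c56)) = (LP (LK LD1_c10 LD2_c30 LD3_c40)) :=
  Lre_g IH (LK LD1_c19 LD2_c2 LD3_c56) (LK LD1_c10 LD2_c30 LD3_c40) Lrfl Lrfl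
theorem f336791 : Led Lsl_gt (LP (LK LD1_c10 LD2_c34 LD3_c17)) = (LP (LK LD1_c19 LD2_c2 LD3_c56)) :=
  Lgr Lrot5 (Lpr_ft (K72.f336787 IH) (Lpr_at (K25.f328893 IH) (Lpe (f187710 IH) (Lpn (LP (LK LD1_c19 LD2_c2 LD3_c56))))))
theorem f421161 : Led Lsl_ct (LP (LK LD1_c25 LD2_c24 LD3_c22)) = (LP (LK LD1_c19 LD2_c2 LD3_c56)) :=
  Lgr Lrot63 (Lpr_bt (f409379 IH) (Lpr_gt (f409377 IH) (Lpr_bf (f294948 IH) (Lpr_ct (f294438 IH) (Lpr_gt (f294469 IH) (Lpe (K74.f187764 IH) (Lpr_bt (K74.f421155 IH) (Lpe (f353084 IH) (Lpr_ct (K72.f194788 IH) (Lpr_gt (f336791 IH) (Lpn (LP (LK LD1_c19 LD2_c2 LD3_c56)))))))))))))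
theorem f194371 : Led Lsl_cf (LP (LK LD1_c10 LD2_c30 LD3_c40)) = (LP (LK LD1_c8 LD2_c15 LD3_c25)) :=
  Lgr Lrot97 (Lpr_bt (K72.f187709 IH) (Lpr_ct (K14.f187672 IH) (Lpr_bt (K10.f33050 IH) (Lpr_ct (K10.f194368 IH) (Lpr_bt (K74.f194370 IH) (Lpn (LP (LK LD1_c8 LD2_c15 LD3_c25))))))))
theorem f50721 : Led Lsl_bt (LP (LK LD1_c15 LD2_c17 LD3_c11)) = (LP (LK LD1_c25 LD2_c7 LD3_c20)) :=
  Lre_b IH (LK LD1_c15 LD2_c17 LD3_c11) (LK LD1_c25 LD2_c7 LD3_c20) Lrfl Lrfl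
theorem f421166 : Led Lsl_gf (LP (LK LD1_c25 LD2_c24 LD3_c22)) = (LP (LK LD1_c25 LD2_c7 LD3_c20)) :=
  Lgr Lrot181 (Lpr_ct (f421161 IH) (Lpr_gt (f187710 IH) (Lpr_cf (f194371 IH) (Lpr_bt (K74.f51364 IH) (Lpr_gt (K10.f51363 IH) (Lpe (K10.f50183 IH) (Lpe (K72.f50302 IH) (Lpr_gt (K68.f50310 IH) (Lpe (f50720 IH) (Lpr_bt (f50721 IH) (Lpn (LP (LK LD1_c25 LD2_c7 LD3_c20)))))))))))))
theorem f421164 : Led Lsl_cf (LP (LK LD1_c25 LD2_c24 LD3_c22)) = (LP (LK LD1_c19 LD2_c2 LD3_c56)) :=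
  Lgr Lrot11 (Lpr_ct (f421161 IH) (Lpn (LP (LK LD1_c19 LD2_c2 LD3_c56))))
theorem f618860 : Led Lsl_bf (LP (LK LD1_c28 LD2_c22 LD3_c61)) = (LP (LK LD1_c19 LD2_c2 LD3_c56)) :=
  Lgr Lrot165 (Lpr_gt (f618858 IH) (Lpr_ct (f196065 IH) (Lpr_gt (K72.f196062 IH) (Lpr_cf (K31.f198895 IH) (Lpe (K12.f198903 IH) (Lpe (K68.f189353 IH) (Lpe (f189356 IH) (Lpe (f195974 IH) (Lpe (f421166 IH) (Lpr_cf (f421164 IH) (Lpn (LP (LK LD1_c19 LD2_c2 LD3_c56)))))))))))))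
theorem f322017 : Led Lsl_ff (LP (LK LD1_c18 LD2_c55 LD3_c2)) = (LP (LK LD1_c28 LD2_c20 LD3_c4)) :=
  Lgr Lrot23 (Lpr_ct (f191496 IH) (Lpr_ft (K20.f322009 IH) (Lpr_ct (K72.f188506 IH) (Lpn (LP (LK LD1_c28 LD2_c20 LD3_c4))))))
theorem f322019 : Led Lsl_ft (LP (LK LD1_c18 LD2_c55 LD3_c2)) = (LP (LK LD1_c28 LD2_c20 LD3_c4)) :=
  Lgr Lrot48 (Lpr_ff (f322017 IH) (Lpn (LP (LK LD1_c28 LD2_c20 LD3_c4))))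
theorem f554718 : Led Lsl_ff (LP (LK LD1_c28 LD2_c22 LD3_c61)) = (LP (LK LD1_c19 LD2_c8 LD3_c51)) :=
  Lgr Lrot19 (Lpr_dt (f215100 IH) (Lpr_ft (f322019 IH) (Lpr_dt (K74.f554714 IH) (Lpn (LP (LK LD1_c19 LD2_c8 LD3_c51))))))
theorem f554720 : Led Lsl_ft (LP (LK LD1_c28 LD2_c22 LD3_c61)) = (LP (LK LD1_c19 LD2_c8 LD3_c51)) :=
  Lgr Lrot48 (Lpr_ff (f554718 IH) (Lpn (LP (LK LD1_c19 LD2_c8 LD3_c51))))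
theorem f618864 : Led Lsl_ft (LP (LK LD1_c10 LD2_c34 LD3_c16)) = (LP (LK LD1_c19 LD2_c2 LD3_c56)) :=
  Lgr Lrot75 (Lpe (K74.f194808 IH) (Lpe (f554720 IH) (Lpr_bf (f618860 IH) (Lpn (LP (LK LD1_c19 LD2_c2 LD3_c56))))))
theorem f194802 : Led Lsl_dt (LP (LK LD1_c15 LD2_c32 LD3_c41)) = (LP (LK LD1_c8 LD2_c16 LD3_c5)) :=
  Lre_d IH (LK LD1_c15 LD2_c32 LD3_c41) (LK LD1_c8 LD2_c16 LD3_c5) Lrfl Lrfl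
theorem f194834 : Led Lsl_dt (LP (LK LD1_c5 LD2_c21 LD3_c60)) = (LP (LK LD1_c10 LD2_c34 LD3_c18)) :=
  Lre_d IH (LK LD1_c5 LD2_c21 LD3_c60) (LK LD1_c10 LD2_c34 LD3_c18) Lrfl Lrfl
theorem f194934 : Led Lsl_ct (LP (LK LD1_c10 LD2_c34 LD3_c18)) = (LP (LK LD1_c19 LD2_c8 LD3_c58)) :=
  Lre_c IH (LK LD1_c10 LD2_c34 LD3_c18) (LK LD1_c19 LD2_c8 LD3_c58) Lrfl Lrfl
theorem f194800 : Led Lsl_gt (LP (LK LD1_c5 LD2_c21 LD3_c60)) = (LP (LK LD1_c10 LD2_c34 LD3_c15)) :=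
  Lre_g IH (LK LD1_c5 LD2_c21 LD3_c60) (LK LD1_c10 LD2_c34 LD3_c15) Lrfl Lrfl
theorem f618870 : Led Lsl_af (LP (LK LD1_c10 LD2_c34 LD3_c15)) = (LP (LK LD1_c19 LD2_c2 LD3_c56)) :=
  Lgr Lrot31 (Lpe (f194800 IH) (Lpe (K72.f194804 IH) (Lpr_ft (f618864 IH) (Lpn (LP (LK LD1_c19 LD2_c2 LD3_c56))))))
theorem f194937 : Led Lsl_ct (LP (LK LD1_c19 LD2_c8 LD3_c49)) = (LP (LK LD1_c10 LD2_c34 LD3_c15)) :=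
  Lre_c IH (LK LD1_c19 LD2_c8 LD3_c49) (LK LD1_c10 LD2_c34 LD3_c15) Lrfl Lrfl
theorem f618872 : Led Lsl_dt (LP (LK LD1_c19 LD2_c8 LD3_c58)) = (LP (LK LD1_c19 LD2_c8 LD3_c49)) :=
  Lgr Lrot120 (Lpe (f194934 IH) (Lpe (f194834 IH) (Lpe (K72.f194790 IH) (Lpe (f194802 IH) (Lpr_cf (K72.f554698 IH) (Lpe (K72.f194807 IH) (Lpr_ft (f618864 IH) (Lpe (f618870 IH) (Lpe (f194937 IH) (Lpn (LP (LK LD1_c19 LD2_c8 LD3_c49))))))))))))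
theorem f618874 : Led Lsl_df (LP (LK LD1_c19 LD2_c8 LD3_c58)) = (LP (LK LD1_c19 LD2_c8 LD3_c49)) :=
  Lgr Lrot38 (Lpr_dt (f618872 IH) (Lpn (LP (LK LD1_c19 LD2_c8 LD3_c49))))
theorem f336764 : Led Lsl_gt (LP (LK LD1_c28 LD2_c34 LD3_c30)) = (LP (LK LD1_c19 LD2_c8 LD3_c49)) :=
  Lre_g IH (LK LD1_c28 LD2_c34 LD3_c30) (LK LD1_c19 LD2_c8 LD3_c49) Lrfl Lrfl
theorem f274337 : Led Lsl_bt (LP (LK LD1_c11 LD2_c53 LD3_c46)) = (LP (LK LD1_c20 LD2_c57 LD3_c34)) :=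
  Lre_b IH (LK LD1_c11 LD2_c53 LD3_c46) (LK LD1_c20 LD2_c57 LD3_c34) Lrfl Lrfl
theorem f555749 : Led Lsl_gf (LP (LK LD1_c20 LD2_c55 LD3_c26)) = (LP (LK LD1_c20 LD2_c57 LD3_c34)) :=
  Lgr Lrot181 (Lpr_ct (K74.f190175 IH) (Lpr_gt (K74.f187758 IH) (Lpe (K74.f190102 IH) (Lpr_bt (K74.f42512 IH) (Lpr_gt (K10.f42506 IH) (Lpe (K39.f182573 IH) (Lpr_ct (K39.f182883 IH) (Lpr_gt (K68.f555207 IH) (Lpr_cf (K17.f274329 IH) (Lpr_bt (f274337 IH) (Lpn (LP (LK LD1_c20 LD2_c57 LD3_c34)))))))))))))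
theorem f190180 : Led Lsl_cf (LP (LK LD1_c20 LD2_c55 LD3_c26)) = (LP (LK LD1_c21 LD2_c0 LD3_c14)) :=
  Lgr Lrot11 (Lpr_ct (K74.f190175 IH) (Lpn (LP (LK LD1_c21 LD2_c0 LD3_c14))))
theorem f555248 : Led Lsl_bt (LP (LK LD1_c15 LD2_c31 LD3_c30)) = (LP (LK LD1_c25 LD2_c24 LD3_c36)) :=
  Lre_b IH (LK LD1_c15 LD2_c31 LD3_c30) (LK LD1_c25 LD2_c24 LD3_c36) Lrfl Lrfl
theorem f555249 : Led Lsl_cf (LP (LK LD1_c20 LD2_c57 LD3_c34)) = (LP (LK LD1_c25 LD2_c24 LD3_c36)) :=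
  Lgr Lrot97 (Lpr_bt (K74.f274334 IH) (Lpe (K17.f274329 IH) (Lpr_bt (K68.f274333 IH) (Lpr_ct (K68.f555244 IH) (Lpr_bt (f555248 IH) (Lpn (LP (LK LD1_c25 LD2_c24 LD3_c36))))))))
theorem f191471 : Led Lsl_bt (LP (LK LD1_c25 LD2_c24 LD3_c36)) = (LP (LK LD1_c15 LD2_c31 LD3_c30)) :=
  Lre_b IH (LK LD1_c25 LD2_c24 LD3_c36) (LK LD1_c15 LD2_c31 LD3_c30) Lrfl Lrfl
theorem f336760 : Led Lsl_gt (LP (LK LD1_c10 LD2_c34 LD3_c15)) = (LP (LK LD1_c19 LD2_c2 LD3_c57)) :=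
  Lgr Lrot46 (Lpe (f194800 IH) (Lpr_ft (K22.f336752 IH) (Lpr_at (K25.f336754 IH) (Lpn (LP (LK LD1_c19 LD2_c2 LD3_c57))))))
theorem f555751 : Led Lsl_bt (LP (LK LD1_c21 LD2_c0 LD3_c14)) = (LP (LK LD1_c28 LD2_c34 LD3_c30)) :=
  Lgr Lrot130 (Lpe (f190180 IH) (Lpr_gf (f555749 IH) (Lpr_cf (f555249 IH) (Lpr_bt (f191471 IH) (Lpe (K68.f342887 IH) (Lpr_bf (K72.f353045 IH) (Lpe (K25.f353047 IH) (Lpe (f336760 IH) (Lpe (f194937 IH) (Lpe (f336764 IH) (Lpn (LP (LK LD1_c28 LD2_c34 LD3_c30)))))))))))))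
theorem f974573 : Led Lsl_df (LP (LK LD1_c20 LD2_c55 LD3_c26)) = v50219 :=
  Lgr Lrot183 (Lpr_ct (K74.f190175 IH) (Lpr_bt (f555751 IH) (Lpr_gt (f336764 IH) (Lpe (f618874 IH) (Lpr_ct (f194794 IH) (Lpr_bt (K22.f215272 IH) (Lpr_gt (K14.f215280 IH) (Lpr_dt (K14.f256320 IH) (Lpr_ct (K14.f192855 IH) (Lpr_bt (K17.f290042 IH) (Lpe (K17.f284104 IH) (Lpr_dt (K16.f41757 IH) (Lpr_ct (K17.f194174 IH) (Lpr_bt (K10.f177461 IH) (Lpr_gt (K9.f41808 IH) (Lpr_dt (K9.f41806 IH) (Lpr_ct (K10.f42479 IH) (Lpr_bt (K10.f194946 IH) (Lpr_gt (f974572 IH) (Lpn v50219))))))))))))))))))))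
theorem f183869 : Led Lsl_dt (LP (LK LD1_c11 LD2_c52 LD3_c30)) = (LP (LK LD1_c20 LD2_c55 LD3_c28)) :=
  Lre_d IH (LK LD1_c11 LD2_c52 LD3_c30) (LK LD1_c20 LD2_c55 LD3_c28) Lrfl Lrfl
theorem f974574 : Led Lsl_bt (LP (LK LD1_c20 LD2_c55 LD3_c28)) = v50219 :=
  Lgr Lrot95 (Lpe (f183869 IH) (Lpe (K74.f42515 IH) (Lpr_df (f974573 IH) (Lpn v50219))))
theorem f399037 : Led Lsl_cf (LP (LK LD1_c10 LD2_c23 LD3_c37)) = (LP (LK LD1_c11 LD2_c53 LD3_c17)) :=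
  Lgr Lrot39 (Lpe (K16.f235046 IH) (Lpe (K54.f398981 IH) (Lpr_et (K74.f399031 IH) (Lpn (LP (LK LD1_c11 LD2_c53 LD3_c17))))))
theorem f184160 : Led Lsl_gt (LP (LK LD1_c18 LD2_c51 LD3_c28)) = (LP (LK LD1_c10 LD2_c23 LD3_c37)) :=
  Lre_g IH (LK LD1_c18 LD2_c51 LD3_c28) (LK LD1_c10 LD2_c23 LD3_c37) Lrfl Lrfl
theorem f974580 : Led Lsl_ct (LP (LK LD1_c20 LD2_c55 LD3_c28)) = (LP (LK LD1_c18 LD2_c51 LD3_c28)) :=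
  Lgr Lrot64 (Lpr_bt (f974574 IH) (Lpe (f974572 IH) (Lpe (K10.f194946 IH) (Lpr_ct (K11.f42475 IH) (Lpe (K10.f41810 IH) (Lpe (K17.f216292 IH) (Lpe (K10.f190189 IH) (Lpe (K74.f190194 IH) (Lpe (f399037 IH) (Lpe (f184160 IH) (Lpn (LP (LK LD1_c18 LD2_c51 LD3_c28)))))))))))))
theorem f974581 : Led Lsl_ct (LP (LK LD1_c20 LD2_c55 LD3_c28)) = (LP (LK LD1_c18 LD2_c51 LD3_c28)) :=
  Leop (Lpe (f974580 IH) (Lpn (LP (LK LD1_c20 LD2_c55 LD3_c28))))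
theorem seed_3005 : LEOK LG_c (LK LD1_c20 LD2_c55 LD3_c28) :=
  Leoe_c (LK LD1_c20 LD2_c55 LD3_c28) (f974581 IH)
def v50235 : LQ := Led Lsl_ct (LP (LK LD1_c11 LD2_c53 LD3_c2))
theorem f974692 : Led Lsl_ct (LP (LK LD1_c11 LD2_c53 LD3_c2)) = v50235 :=
  Lrfl
theorem f974693 : Led Lsl_cf (LP (LK LD1_c11 LD2_c53 LD3_c2)) = v50235 :=
  Lgr Lrot11 (Lpr_ct (f974692 IH) (Lpn v50235))
theorem f216207 : Led Lsl_gt (LP (LK LD1_c11 LD2_c53 LD3_c2)) = (LP (LK LD1_c6 LD2_c4 LD3_c50)) :=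
  Lre_g IH (LK LD1_c11 LD2_c53 LD3_c2) (LK LD1_c6 LD2_c4 LD3_c50) Lrfl Lrfl
theorem f216200 : Led Lsl_bt (LP (LK LD1_c11 LD2_c52 LD3_c61)) = (LP (LK LD1_c6 LD2_c4 LD3_c46)) :=
  Lre_b IH (LK LD1_c11 LD2_c52 LD3_c61) (LK LD1_c6 LD2_c4 LD3_c46) Lrfl Lrfl
theorem f179060 : Led Lsl_gt (LP (LK LD1_c6 LD2_c6 LD3_c59)) = (LP (LK LD1_c11 LD2_c56 LD3_c51)) :=
  Lre_g IH (LK LD1_c6 LD2_c6 LD3_c59) (LK LD1_c11 LD2_c56 LD3_c51) Lrfl Lrfl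
theorem f974694 : Led Lsl_bf (LP (LK LD1_c11 LD2_c56 LD3_c51)) = v50235 :=
  Lgr Lrot34 (Lpe (f179060 IH) (Lpe (K25.f247182 IH) (Lpr_ct (K15.f169068 IH) (Lpr_gf (K14.f247180 IH) (Lpe (K15.f216466 IH) (Lpr_gf (K15.f261323 IH) (Lpe (f216200 IH) (Lpr_ct (K56.f216204 IH) (Lpe (f216207 IH) (Lpr_cf (f974693 IH) (Lpn v50235)))))))))))
theorem f338907 : Led Lsl_gf (LP (LK LD1_c15 LD2_c29 LD3_c50)) = (LP (LK LD1_c11 LD2_c56 LD3_c51)) :=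
  Lgr Lrot76 (Lpe (K25.f338899 IH) (Lpr_ff (K25.f338897 IH) (Lpr_gt (f179060 IH) (Lpn (LP (LK LD1_c11 LD2_c56 LD3_c51))))))
theorem f247880 : Led Lsl_bt (LP (LK LD1_c5 LD2_c1 LD3_c56)) = (LP (LK LD1_c2 LD2_c28 LD3_c37)) :=
  Lre_b IH (LK LD1_c5 LD2_c1 LD3_c56) (LK LD1_c2 LD2_c28 LD3_c37) Lrfl Lrfl
theorem f249223 : Led Lsl_bt (LP (LK LD1_c2 LD2_c10 LD3_c54)) = (LP (LK LD1_c1 LD2_c15 LD3_c18)) :=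
  Lgr Lrot127 (Lpr_bf (K15.f249220 IH) (Lpn (LP (LK LD1_c1 LD2_c15 LD3_c18))))
theorem f252775 : Led Lsl_bt (LP (LK LD1_c6 LD2_c4 LD3_c26)) = (LP (LK LD1_c11 LD2_c52 LD3_c20)) :=
  Lre_b IH (LK LD1_c6 LD2_c4 LD3_c26) (LK LD1_c11 LD2_c52 LD3_c20) Lrfl Lrfl
theorem f252776 : Led Lsl_gt (LP (LK LD1_c11 LD2_c52 LD3_c20)) = (LP (LK LD1_c20 LD2_c55 LD3_c6)) :=
  Lre_g IH (LK LD1_c11 LD2_c52 LD3_c20) (LK LD1_c20 LD2_c55 LD3_c6) Lrfl Lrfl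
theorem f974696 : Led Lsl_dt (LP (LK LD1_c20 LD2_c55 LD3_c6)) = (LP (LK LD1_c11 LD2_c53 LD3_c2)) :=
  Lgr Lrot182 (Lpe (f252776 IH) (Lpe (f252775 IH) (Lpe (K10.f187680 IH) (Lpr_df (K17.f251679 IH) (Lpe (K16.f249339 IH) (Lpe (f249223 IH) (Lpr_cf (K14.f230922 IH) (Lpe (K14.f230857 IH) (Lpr_gf (K14.f194158 IH) (Lpr_bf (K18.f190361 IH) (Lpe (K15.f3780 IH) (Lpr_df (K15.f252763 IH) (Lpe (K14.f3428 IH) (Lpe (f247880 IH) (Lpe (K71.f164038 IH) (Lpr_df (K71.f585025 IH) (Lpr_gf (f338907 IH) (Lpr_bf (f974694 IH) (Lpe (f974692 IH) (Lpn (LP (LK LD1_c11 LD2_c53 LD3_c2))))))))))))))))))))))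
theorem f974697 : Led Lsl_dt (LP (LK LD1_c20 LD2_c55 LD3_c6)) = (LP (LK LD1_c11 LD2_c53 LD3_c2)) :=
  Leop (Lpe (f974696 IH) (Lpn (LP (LK LD1_c20 LD2_c55 LD3_c6))))
theorem seed_3006 : LEOK LG_d (LK LD1_c20 LD2_c55 LD3_c6) :=
  Leoe_d (LK LD1_c20 LD2_c55 LD3_c6) (f974697 IH)
theorem f618662 : Led Lsl_bt (LP (LK LD1_c21 LD2_c1 LD3_c23)) = (LP (LK LD1_c20 LD2_c55 LD3_c6)) :=
  Lgr Lrot92 (Lpr_ct (K74.f618645 IH) (Lpr_gt (K74.f189654 IH) (Lpe (K74.f214059 IH) (Lpr_bt (K39.f195391 IH) (Lpr_gt (K12.f190973 IH) (Lpr_ct (K12.f41740 IH) (Lpr_gt (K10.f41777 IH) (Lpe (K17.f190116 IH) (Lpr_bt (f252775 IH) (Lpr_gt (f252776 IH) (Lpn (LP (LK LD1_c20 LD2_c55 LD3_c6)))))))))))))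
theorem f974682 : Led Lsl_bt (LP (LK LD1_c11 LD2_c53 LD3_c2)) = (LP (LK LD1_c20 LD2_c56 LD3_c19)) :=
  Lre_b IH (LK LD1_c11 LD2_c53 LD3_c2) (LK LD1_c20 LD2_c56 LD3_c19) Lrfl Lrfl
theorem f974698 : Led Lsl_df (LP (LK LD1_c21 LD2_c1 LD3_c23)) = (LP (LK LD1_c20 LD2_c56 LD3_c19)) :=
  Lgr Lrot12 (Lpr_bt (f618662 IH) (Lpr_dt (f974696 IH) (Lpr_bt (f974682 IH) (Lpn (LP (LK LD1_c20 LD2_c56 LD3_c19))))))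
theorem f555595 : Led Lsl_gt (LP (LK LD1_c21 LD2_c1 LD3_c23)) = (LP (LK LD1_c11 LD2_c56 LD3_c29)) :=
  Lre_g IH (LK LD1_c21 LD2_c1 LD3_c23) (LK LD1_c11 LD2_c56 LD3_c29) Lrfl Lrfl
theorem f412762 : Led Lsl_ct (LP (LK LD1_c10 LD2_c3 LD3_c52)) = (LP (LK LD1_c18 LD2_c22 LD3_c29)) :=
  Lre_c IH (LK LD1_c10 LD2_c3 LD3_c52) (LK LD1_c18 LD2_c22 LD3_c29) Lrfl Lrfl
theorem f974731 : Led Lsl_gt (LP (LK LD1_c18 LD2_c22 LD3_c29)) = (LP (LK LD1_c20 LD2_c56 LD3_c19)) :=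
  Lgr Lrot94 (Lpe (f412762 IH) (Lpr_gt (K72.f198748 IH) (Lpr_dt (K65.f721904 IH) (Lpe (K65.f721909 IH) (Lpe (K65.f646203 IH) (Lpe (K65.f555554 IH) (Lpe (K39.f555177 IH) (Lpe (f555595 IH) (Lpr_df (f974698 IH) (Lpn (LP (LK LD1_c20 LD2_c56 LD3_c19))))))))))))
theorem f974732 : Led Lsl_gt (LP (LK LD1_c18 LD2_c22 LD3_c29)) = (LP (LK LD1_c20 LD2_c56 LD3_c19)) :=
  Leop (Lpe (f974731 IH) (Lpn (LP (LK LD1_c18 LD2_c22 LD3_c29))))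
theorem seed_3007 : LEOK LG_g (LK LD1_c18 LD2_c22 LD3_c29) :=
  Leoe_g (LK LD1_c18 LD2_c22 LD3_c29) (f974732 IH)
def v50237 : LQ := Led Lsl_gf (LP (LK LD1_c11 LD2_c53 LD3_c15))
theorem f974735 : Led Lsl_gf (LP (LK LD1_c11 LD2_c53 LD3_c15)) = v50237 :=
  Lrfl
theorem f618687 : Led Lsl_bf (LP (LK LD1_c21 LD2_c1 LD3_c17)) = (LP (LK LD1_c28 LD2_c29 LD3_c26)) :=
  Lgr Lrot24 (Lpr_bt (K74.f618683 IH) (Lpn (LP (LK LD1_c28 LD2_c29 LD3_c26))))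
theorem f555799 : Led Lsl_at (LP (LK LD1_c21 LD2_c1 LD3_c17)) = (LP (LK LD1_c11 LD2_c56 LD3_c29)) :=
  Lre_a IH (LK LD1_c21 LD2_c1 LD3_c17) (LK LD1_c11 LD2_c56 LD3_c29) Lrfl Lrfl
theorem f195393 : Led Lsl_bt (LP (LK LD1_c20 LD2_c56 LD3_c47)) = (LP (LK LD1_c19 LD2_c3 LD3_c8)) :=
  Lgr Lrot127 (Lpr_bf (K74.f195388 IH) (Lpn (LP (LK LD1_c19 LD2_c3 LD3_c8))))
theorem f618692 : Led Lsl_at (LP (LK LD1_c16 LD2_c11 LD3_c10)) = (LP (LK LD1_c20 LD2_c56 LD3_c47)) :=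
  Lgr Lrot67 (Lpr_bf (K39.f555184 IH) (Lpe (f555799 IH) (Lpr_bf (f618687 IH) (Lpe (K74.f195396 IH) (Lpe (f195393 IH) (Lpn (LP (LK LD1_c20 LD2_c56 LD3_c47))))))))
theorem f974737 : Led Lsl_ff (LP (LK LD1_c16 LD2_c11 LD3_c10)) = v50237 :=
  Lgr Lrot52 (Lpr_at (f618692 IH) (Lpe (K74.f182115 IH) (Lpr_gf (f974735 IH) (Lpn v50237))))
theorem f974742 : Led Lsl_ft (LP (LK LD1_c16 LD2_c11 LD3_c10)) = v50237 :=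
  Lgr Lrot48 (Lpr_ff (f974737 IH) (Lpn v50237))
theorem f974743 : Led Lsl_af (LP (LK LD1_c16 LD2_c11 LD3_c9)) = v50237 :=
  Lgr Lrot45 (Lpr_ft (K74.f618705 IH) (Lpe (K74.f618685 IH) (Lpr_ft (f974742 IH) (Lpn v50237))))
theorem f182131 : Led Lsl_ct (LP (LK LD1_c16 LD2_c11 LD3_c9)) = (LP (LK LD1_c26 LD2_c7 LD3_c52)) :=
  Lre_c IH (LK LD1_c16 LD2_c11 LD3_c9) (LK LD1_c26 LD2_c7 LD3_c52) Lrfl Lrfl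
theorem f32033 : Led Lsl_bt (LP (LK LD1_c4 LD2_c20 LD3_c28)) = (LP (LK LD1_c8 LD2_c38 LD3_c45)) :=
  Lre_b IH (LK LD1_c4 LD2_c20 LD3_c28) (LK LD1_c8 LD2_c38 LD3_c45) Lrfl Lrfl
theorem f182105 : Led Lsl_cf (LP (LK LD1_c11 LD2_c53 LD3_c15)) = (LP (LK LD1_c8 LD2_c38 LD3_c45)) :=
  Lgr Lrot97 (Lpr_bt (K39.f182104 IH) (Lpr_ct (K10.f182099 IH) (Lpr_bt (K10.f32037 IH) (Lpr_ct (K0.f31829 IH) (Lpr_bt (f32033 IH) (Lpn (LP (LK LD1_c8 LD2_c38 LD3_c45))))))))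
theorem f54326 : Led Lsl_gt (LP (LK LD1_c4 LD2_c20 LD3_c49)) = (LP (LK LD1_c8 LD2_c39 LD3_c18)) :=
  Lre_g IH (LK LD1_c4 LD2_c20 LD3_c49) (LK LD1_c8 LD2_c39 LD3_c18) Lrfl Lrfl
theorem f31334 : Led Lsl_bt (LP (LK LD1_c16 LD2_c12 LD3_c33)) = (LP (LK LD1_c8 LD2_c39 LD3_c18)) :=
  Lre_b IH (LK LD1_c16 LD2_c12 LD3_c33) (LK LD1_c8 LD2_c39 LD3_c18) Lrfl Lrfl
theorem f974738 : Led Lsl_ct (LP (LK LD1_c16 LD2_c12 LD3_c33)) = v50237 :=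
  Lgr Lrot64 (Lpr_bt (f31334 IH) (Lpe (f54326 IH) (Lpe (K13.f31312 IH) (Lpr_ct (K11.f31180 IH) (Lpe (K10.f31132 IH) (Lpr_cf (K11.f201652 IH) (Lpe (K11.f191277 IH) (Lpe (K68.f31824 IH) (Lpe (f182105 IH) (Lpr_gf (f974735 IH) (Lpn v50237)))))))))))
theorem f974744 : Led Lsl_at (LP (LK LD1_c26 LD2_c7 LD3_c52)) = (LP (LK LD1_c16 LD2_c12 LD3_c33)) :=
  Lgr Lrot107 (Lpe (f182131 IH) (Lpr_af (f974743 IH) (Lpe (f974738 IH) (Lpn (LP (LK LD1_c16 LD2_c12 LD3_c33))))))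
theorem f974745 : Led Lsl_at (LP (LK LD1_c26 LD2_c7 LD3_c52)) = (LP (LK LD1_c16 LD2_c12 LD3_c33)) :=
  Leop (Lpe (f974744 IH) (Lpn (LP (LK LD1_c26 LD2_c7 LD3_c52))))
theorem seed_3008 : LEOK LG_a (LK LD1_c26 LD2_c7 LD3_c52) :=
  Leoe_a (LK LD1_c26 LD2_c7 LD3_c52) (f974745 IH)
def v50275 : LQ := Led Lsl_dt (LP (LK LD1_c11 LD2_c54 LD3_c7))
theorem f974941 : Led Lsl_dt (LP (LK LD1_c11 LD2_c54 LD3_c7)) = v50275 :=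
  Lrfl
theorem f216283 : Led Lsl_bt (LP (LK LD1_c2 LD2_c58 LD3_c48)) = (LP (LK LD1_c6 LD2_c5 LD3_c18)) :=
  Lre_b IH (LK LD1_c2 LD2_c58 LD3_c48) (LK LD1_c6 LD2_c5 LD3_c18) Lrfl Lrfl
theorem f177422 : Led Lsl_gt (LP (LK LD1_c11 LD2_c54 LD3_c8)) = (LP (LK LD1_c6 LD2_c5 LD3_c18)) :=
  Lre_g IH (LK LD1_c11 LD2_c54 LD3_c8) (LK LD1_c6 LD2_c5 LD3_c18) Lrfl Lrfl
theorem f603242 : Led Lsl_bf (LP (LK LD1_c11 LD2_c54 LD3_c8)) = (LP (LK LD1_c10 LD2_c3 LD3_c32)) :=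
  Lgr Lrot156 (Lpr_gt (f177422 IH) (Lpe (f216283 IH) (Lpr_ct (K16.f265063 IH) (Lpe (K16.f274403 IH) (Lpr_cf (K74.f602546 IH) (Lpr_bt (K74.f256895 IH) (Lpr_gt (K15.f250434 IH) (Lpr_ct (K56.f256825 IH) (Lpr_gt (K14.f251603 IH) (Lpr_cf (K15.f264862 IH) (Lpn (LP (LK LD1_c10 LD2_c3 LD3_c32)))))))))))))
theorem f252616 : Led Lsl_bt (LP (LK LD1_c15 LD2_c27 LD3_c47)) = (LP (LK LD1_c8 LD2_c13 LD3_c15)) :=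
  Lre_b IH (LK LD1_c15 LD2_c27 LD3_c47) (LK LD1_c8 LD2_c13 LD3_c15) Lrfl Lrfl
theorem f603253 : Led Lsl_ft (LP (LK LD1_c11 LD2_c54 LD3_c8)) = (LP (LK LD1_c15 LD2_c27 LD3_c47)) :=
  Lgr Lrot75 (Lpr_bf (f603242 IH) (Lpr_ff (K26.f363694 IH) (Lpe (f252616 IH) (Lpn (LP (LK LD1_c15 LD2_c27 LD3_c47))))))
theorem f195201 : Led Lsl_gt (LP (LK LD1_c6 LD2_c5 LD3_c18)) = (LP (LK LD1_c11 LD2_c54 LD3_c7)) :=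
  Lre_g IH (LK LD1_c6 LD2_c5 LD3_c18) (LK LD1_c11 LD2_c54 LD3_c7) Lrfl Lrfl
theorem f603259 : Led Lsl_af (LP (LK LD1_c11 LD2_c54 LD3_c7)) = (LP (LK LD1_c15 LD2_c27 LD3_c47)) :=
  Lgr Lrot31 (Lpe (f195201 IH) (Lpe (f177422 IH) (Lpr_ft (f603253 IH) (Lpn (LP (LK LD1_c15 LD2_c27 LD3_c47))))))
theorem f603265 : Led Lsl_et (LP (LK LD1_c11 LD2_c54 LD3_c7)) = (LP (LK LD1_c20 LD2_c58 LD3_c10)) :=
  Lre_e IH (LK LD1_c11 LD2_c54 LD3_c7) (LK LD1_c20 LD2_c58 LD3_c10) Lrfl Lrfl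
theorem f263539 : Led Lsl_et (LP (LK LD1_c25 LD2_c19 LD3_c40)) = (LP (LK LD1_c15 LD2_c27 LD3_c47)) :=
  Lre_e IH (LK LD1_c25 LD2_c19 LD3_c40) (LK LD1_c15 LD2_c27 LD3_c47) Lrfl Lrfl
theorem f603266 : Led Lsl_at (LP (LK LD1_c20 LD2_c58 LD3_c10)) = (LP (LK LD1_c25 LD2_c19 LD3_c40)) :=
  Lgr Lrot80 (Lpe (f603265 IH) (Lpr_af (f603259 IH) (Lpe (f263539 IH) (Lpn (LP (LK LD1_c25 LD2_c19 LD3_c40))))))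
theorem f555808 : Led Lsl_ct (LP (LK LD1_c29 LD2_c47 LD3_c2)) = (LP (LK LD1_c20 LD2_c58 LD3_c10)) :=
  Lre_c IH (LK LD1_c29 LD2_c47 LD3_c2) (LK LD1_c20 LD2_c58 LD3_c10) Lrfl Lrfl
theorem f232118 : Led Lsl_bt (LP (LK LD1_c18 LD2_c44 LD3_c36)) = (LP (LK LD1_c28 LD2_c14 LD3_c35)) :=
  Lre_b IH (LK LD1_c18 LD2_c44 LD3_c36) (LK LD1_c28 LD2_c14 LD3_c35) Lrfl Lrfl
theorem f263526 : Led Lsl_bt (LP (LK LD1_c25 LD2_c19 LD3_c40)) = (LP (LK LD1_c15 LD2_c27 LD3_c48)) :=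
  Lre_b IH (LK LD1_c25 LD2_c19 LD3_c40) (LK LD1_c15 LD2_c27 LD3_c48) Lrfl Lrfl
theorem f263527 : Led Lsl_ct (LP (LK LD1_c28 LD2_c14 LD3_c35)) = (LP (LK LD1_c25 LD2_c19 LD3_c40)) :=
  Lgr Lrot83 (Lpe (f232118 IH) (Lpe (K27.f232109 IH) (Lpr_bf (K22.f263522 IH) (Lpe (K25.f220785 IH) (Lpe (f263526 IH) (Lpn (LP (LK LD1_c25 LD2_c19 LD3_c40))))))))
theorem f263537 : Led Lsl_cf (LP (LK LD1_c28 LD2_c14 LD3_c35)) = (LP (LK LD1_c25 LD2_c19 LD3_c40)) :=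
  Lgr Lrot11 (Lpr_ct (f263527 IH) (Lpn (LP (LK LD1_c25 LD2_c19 LD3_c40))))
theorem f603270 : Led Lsl_af (LP (LK LD1_c29 LD2_c47 LD3_c2)) = (LP (LK LD1_c28 LD2_c14 LD3_c35)) :=
  Lgr Lrot68 (Lpr_ct (f555808 IH) (Lpr_at (f603266 IH) (Lpe (f263537 IH) (Lpn (LP (LK LD1_c28 LD2_c14 LD3_c35))))))
theorem f603276 : Led Lsl_at (LP (LK LD1_c29 LD2_c47 LD3_c2)) = (LP (LK LD1_c28 LD2_c14 LD3_c35)) :=
  Lgr Lrot100 (Lpr_af (f603270 IH) (Lpn (LP (LK LD1_c28 LD2_c14 LD3_c35))))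
theorem f603282 : Led Lsl_et (LP (LK LD1_c20 LD2_c58 LD3_c9)) = (LP (LK LD1_c29 LD2_c47 LD3_c2)) :=
  Lre_e IH (LK LD1_c20 LD2_c58 LD3_c9) (LK LD1_c29 LD2_c47 LD3_c2) Lrfl Lrfl
theorem f216187 : Led Lsl_et (LP (LK LD1_c28 LD2_c14 LD3_c35)) = (LP (LK LD1_c18 LD2_c44 LD3_c35)) :=
  Lre_e IH (LK LD1_c28 LD2_c14 LD3_c35) (LK LD1_c18 LD2_c44 LD3_c35) Lrfl Lrfl
theorem f603283 : Led Lsl_af (LP (LK LD1_c20 LD2_c58 LD3_c9)) = (LP (LK LD1_c18 LD2_c44 LD3_c35)) :=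
  Lgr Lrot50 (Lpr_et (f603282 IH) (Lpr_at (f603276 IH) (Lpr_et (f216187 IH) (Lpn (LP (LK LD1_c18 LD2_c44 LD3_c35))))))
theorem f216166 : Led Lsl_bt (LP (LK LD1_c18 LD2_c44 LD3_c35)) = (LP (LK LD1_c10 LD2_c19 LD3_c28)) :=
  Lre_b IH (LK LD1_c18 LD2_c44 LD3_c35) (LK LD1_c10 LD2_c19 LD3_c28) Lrfl Lrfl
theorem f189609 : Led Lsl_bt (LP (LK LD1_c5 LD2_c15 LD3_c34)) = (LP (LK LD1_c10 LD2_c20 LD3_c24)) :=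
  Lre_b IH (LK LD1_c5 LD2_c15 LD3_c34) (LK LD1_c10 LD2_c20 LD3_c24) Lrfl Lrfl
theorem f369690 : Led Lsl_ff (LP (LK LD1_c18 LD2_c44 LD3_c35)) = (LP (LK LD1_c10 LD2_c20 LD3_c24)) :=
  Lgr Lrot25 (Lpr_bt (f216166 IH) (Lpr_ft (K27.f369688 IH) (Lpr_bt (f189609 IH) (Lpn (LP (LK LD1_c10 LD2_c20 LD3_c24))))))
theorem f369683 : Led Lsl_at (LP (LK LD1_c18 LD2_c46 LD3_c2)) = (LP (LK LD1_c10 LD2_c20 LD3_c24)) :=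
  Lre_a IH (LK LD1_c18 LD2_c46 LD3_c2) (LK LD1_c10 LD2_c20 LD3_c24) Lrfl Lrfl
theorem f603287 : Led Lsl_ft (LP (LK LD1_c20 LD2_c58 LD3_c9)) = (LP (LK LD1_c18 LD2_c46 LD3_c2)) :=
  Lgr Lrot101 (Lpr_af (f603283 IH) (Lpr_ff (f369690 IH) (Lpe (f369683 IH) (Lpn (LP (LK LD1_c18 LD2_c46 LD3_c2))))))
theorem f603353 : Led Lsl_ff (LP (LK LD1_c20 LD2_c58 LD3_c9)) = (LP (LK LD1_c18 LD2_c46 LD3_c2)) :=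
  Lgr Lrot3 (Lpr_ft (f603287 IH) (Lpn (LP (LK LD1_c18 LD2_c46 LD3_c2))))
theorem f274128 : Led Lsl_ct (LP (LK LD1_c11 LD2_c54 LD3_c7)) = (LP (LK LD1_c20 LD2_c58 LD3_c9)) :=
  Lre_c IH (LK LD1_c11 LD2_c54 LD3_c7) (LK LD1_c20 LD2_c58 LD3_c9) Lrfl Lrfl
theorem f263542 : Led Lsl_et (LP (LK LD1_c15 LD2_c27 LD3_c47)) = (LP (LK LD1_c25 LD2_c19 LD3_c40)) :=
  Lre_e IH (LK LD1_c15 LD2_c27 LD3_c47) (LK LD1_c25 LD2_c19 LD3_c40) Lrfl Lrfl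
theorem f263543 : Led Lsl_ct (LP (LK LD1_c18 LD2_c44 LD3_c35)) = (LP (LK LD1_c15 LD2_c27 LD3_c47)) :=
  Lgr Lrot15 (Lpe (f216187 IH) (Lpr_cf (f263537 IH) (Lpe (f263542 IH) (Lpn (LP (LK LD1_c15 LD2_c27 LD3_c47))))))
theorem f603263 : Led Lsl_at (LP (LK LD1_c20 LD2_c58 LD3_c9)) = (LP (LK LD1_c18 LD2_c44 LD3_c35)) :=
  Lgr Lrot107 (Lpe (f274128 IH) (Lpr_af (f603259 IH) (Lpe (f263543 IH) (Lpn (LP (LK LD1_c18 LD2_c44 LD3_c35))))))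
theorem f216185 : Led Lsl_gt (LP (LK LD1_c28 LD2_c14 LD3_c34)) = (LP (LK LD1_c18 LD2_c44 LD3_c35)) :=
  Lre_g IH (LK LD1_c28 LD2_c14 LD3_c34) (LK LD1_c18 LD2_c44 LD3_c35) Lrfl Lrfl
theorem f603357 : Led Lsl_gf (LP (LK LD1_c28 LD2_c14 LD3_c34)) = (LP (LK LD1_c18 LD2_c46 LD3_c2)) :=
  Lgr Lrot47 (Lpr_gt (f216185 IH) (Lpe (f603263 IH) (Lpr_ff (f603353 IH) (Lpn (LP (LK LD1_c18 LD2_c46 LD3_c2))))))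
theorem f192263 : Led Lsl_bt (LP (LK LD1_c8 LD2_c13 LD3_c15)) = (LP (LK LD1_c15 LD2_c27 LD3_c47)) :=
  Lre_b IH (LK LD1_c8 LD2_c13 LD3_c15) (LK LD1_c15 LD2_c27 LD3_c47) Lrfl Lrfl
theorem f263520 : Led Lsl_cf (LP (LK LD1_c18 LD2_c44 LD3_c35)) = (LP (LK LD1_c15 LD2_c27 LD3_c47)) :=
  Lgr Lrot97 (Lpr_bt (f216166 IH) (Lpr_ct (K15.f212250 IH) (Lpr_bt (K15.f263480 IH) (Lpr_ct (K15.f192256 IH) (Lpr_bt (f192263 IH) (Lpn (LP (LK LD1_c15 LD2_c27 LD3_c47))))))))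
theorem f194171 : Led Lsl_gt (LP (LK LD1_c6 LD2_c4 LD3_c50)) = (LP (LK LD1_c11 LD2_c53 LD3_c1)) :=
  Lre_g IH (LK LD1_c6 LD2_c4 LD3_c50) (LK LD1_c11 LD2_c53 LD3_c1) Lrfl Lrfl
theorem f256259 : Led Lsl_bt (LP (LK LD1_c20 LD2_c56 LD3_c17)) = (LP (LK LD1_c11 LD2_c53 LD3_c1)) :=
  Lre_b IH (LK LD1_c20 LD2_c56 LD3_c17) (LK LD1_c11 LD2_c53 LD3_c1) Lrfl Lrfl
theorem f265064 : Led Lsl_cf (LP (LK LD1_c28 LD2_c14 LD3_c34)) = (LP (LK LD1_c20 LD2_c56 LD3_c17)) :=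
  Lgr Lrot160 (Lpr_gt (f216185 IH) (Lpr_cf (f263520 IH) (Lpr_bt (f252616 IH) (Lpr_gt (K15.f265059 IH) (Lpr_ct (K15.f249316 IH) (Lpr_gt (K14.f256251 IH) (Lpe (K15.f187844 IH) (Lpr_bt (K56.f194170 IH) (Lpr_gt (f194171 IH) (Lpe (f256259 IH) (Lpn (LP (LK LD1_c20 LD2_c56 LD3_c17)))))))))))))
theorem f42628 : Led Lsl_at (LP (LK LD1_c11 LD2_c52 LD3_c14)) = (LP (LK LD1_c20 LD2_c55 LD3_c1)) :=
  Lre_a IH (LK LD1_c11 LD2_c52 LD3_c14) (LK LD1_c20 LD2_c55 LD3_c1) Lrfl Lrfl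
theorem f338440 : Led Lsl_gt (LP (LK LD1_c11 LD2_c53 LD3_c1)) = (LP (LK LD1_c20 LD2_c55 LD3_c1)) :=
  Lgr Lrot46 (Lpe (f194171 IH) (Lpr_ft (K56.f338421 IH) (Lpr_at (f42628 IH) (Lpn (LP (LK LD1_c20 LD2_c55 LD3_c1))))))
theorem f335405 : Led Lsl_at (LP (LK LD1_c6 LD2_c4 LD3_c24)) = (LP (LK LD1_c2 LD2_c58 LD3_c37)) :=
  Lgr Lrot100 (Lpr_af (K22.f335392 IH) (Lpn (LP (LK LD1_c2 LD2_c58 LD3_c37))))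
theorem f338453 : Led Lsl_af (LP (LK LD1_c2 LD2_c58 LD3_c31)) = (LP (LK LD1_c6 LD2_c4 LD3_c23)) :=
  Lgr Lrot45 (Lpe (K56.f335384 IH) (Lpr_at (f335405 IH) (Lpr_ft (K56.f338446 IH) (Lpn (LP (LK LD1_c6 LD2_c4 LD3_c23))))))
theorem f42571 : Led Lsl_bt (LP (LK LD1_c11 LD2_c52 LD3_c14)) = (LP (LK LD1_c6 LD2_c4 LD3_c23)) :=
  Lre_b IH (LK LD1_c11 LD2_c52 LD3_c14) (LK LD1_c6 LD2_c4 LD3_c23) Lrfl Lrfl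
theorem f602639 : Led Lsl_bt (LP (LK LD1_c11 LD2_c52 LD3_c15)) = (LP (LK LD1_c20 LD2_c55 LD3_c1)) :=
  Lgr Lrot62 (Lpr_af (K56.f602635 IH) (Lpe (K56.f250443 IH) (Lpr_af (f338453 IH) (Lpe (f42571 IH) (Lpe (K56.f42614 IH) (Lpn (LP (LK LD1_c20 LD2_c55 LD3_c1))))))))
theorem f291393 : Led Lsl_ct (LP (LK LD1_c11 LD2_c52 LD3_c15)) = (LP (LK LD1_c15 LD2_c16 LD3_c22)) :=
  Lgr Lrot8 (Lpe (K16.f274084 IH) (Lpr_dt (K16.f42509 IH) (Lpr_gt (K10.f42506 IH) (Lpr_dt (K15.f42529 IH) (Lpe (K15.f42530 IH) (Lpr_df (K17.f266705 IH) (Lpe (K10.f177481 IH) (Lpe (K1.f54577 IH) (Lpr_gf (K17.f291375 IH) (Lpn (LP (LK LD1_c15 LD2_c16 LD3_c22))))))))))))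
theorem f283710 : Led Lsl_bt (LP (LK LD1_c6 LD2_c5 LD3_c24)) = (LP (LK LD1_c11 LD2_c54 LD3_c11)) :=
  Lre_b IH (LK LD1_c6 LD2_c5 LD3_c24) (LK LD1_c11 LD2_c54 LD3_c11) Lrfl Lrfl
theorem f283711 : Led Lsl_gt (LP (LK LD1_c11 LD2_c54 LD3_c11)) = (LP (LK LD1_c20 LD2_c58 LD3_c6)) :=
  Lre_g IH (LK LD1_c11 LD2_c54 LD3_c11) (LK LD1_c20 LD2_c58 LD3_c6) Lrfl Lrfl
theorem f603359 : Led Lsl_ct (LP (LK LD1_c20 LD2_c58 LD3_c6)) = (LP (LK LD1_c18 LD2_c46 LD3_c2)) :=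
  Lgr Lrot91 (Lpe (f283711 IH) (Lpe (f283710 IH) (Lpr_ct (K68.f265144 IH) (Lpr_gf (K17.f291375 IH) (Lpe (f291393 IH) (Lpr_bt (f602639 IH) (Lpe (f338440 IH) (Lpe (f256259 IH) (Lpe (f265064 IH) (Lpr_gf (f603357 IH) (Lpn (LP (LK LD1_c18 LD2_c46 LD3_c2)))))))))))))
theorem f555175 : Led Lsl_ct (LP (LK LD1_c20 LD2_c58 LD3_c9)) = (LP (LK LD1_c11 LD2_c54 LD3_c7)) :=
  Lre_c IH (LK LD1_c20 LD2_c58 LD3_c9) (LK LD1_c11 LD2_c54 LD3_c7) Lrfl Lrfl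
theorem f603363 : Led Lsl_ff (LP (LK LD1_c20 LD2_c58 LD3_c6)) = (LP (LK LD1_c11 LD2_c54 LD3_c7)) :=
  Lgr Lrot23 (Lpr_ct (f603359 IH) (Lpe (f603353 IH) (Lpr_ct (f555175 IH) (Lpn (LP (LK LD1_c11 LD2_c54 LD3_c7))))))
theorem f603367 : Led Lsl_ft (LP (LK LD1_c20 LD2_c58 LD3_c6)) = (LP (LK LD1_c11 LD2_c54 LD3_c7)) :=
  Lgr Lrot48 (Lpr_ff (f603363 IH) (Lpn (LP (LK LD1_c11 LD2_c54 LD3_c7))))
theorem f974944 : Led Lsl_ff (LP (LK LD1_c18 LD2_c22 LD3_c13)) = v50275 :=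
  Lgr Lrot19 (Lpr_dt (K68.f603022 IH) (Lpr_ft (f603367 IH) (Lpr_dt (f974941 IH) (Lpn v50275))))
def v50220 : LQ := Led Lsl_bt (LP (LK LD1_c11 LD2_c52 LD3_c36))
theorem f974607 : Led Lsl_bt (LP (LK LD1_c11 LD2_c52 LD3_c36)) = v50220 :=
  Lrfl
theorem f603246 : Led Lsl_bt (LP (LK LD1_c11 LD2_c54 LD3_c8)) = (LP (LK LD1_c10 LD2_c3 LD3_c32)) :=
  Lgr Lrot127 (Lpr_bf (f603242 IH) (Lpn (LP (LK LD1_c10 LD2_c3 LD3_c32))))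
theorem f974610 : Led Lsl_df (LP (LK LD1_c11 LD2_c54 LD3_c8)) = v50220 :=
  Lgr Lrot12 (Lpr_bt (f603246 IH) (Lpe (K15.f264866 IH) (Lpr_bt (f974607 IH) (Lpn v50220))))
theorem f187834 : Led Lsl_bt (LP (LK LD1_c15 LD2_c28 LD3_c15)) = (LP (LK LD1_c8 LD2_c13 LD3_c31)) :=
  Lre_b IH (LK LD1_c15 LD2_c28 LD3_c15) (LK LD1_c8 LD2_c13 LD3_c31) Lrfl Lrfl
theorem f187835 : Led Lsl_at (LP (LK LD1_c25 LD2_c20 LD3_c15)) = (LP (LK LD1_c15 LD2_c28 LD3_c15)) :=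
  Lre_a IH (LK LD1_c25 LD2_c20 LD3_c15) (LK LD1_c15 LD2_c28 LD3_c15) Lrfl Lrfl
theorem f187771 : Led Lsl_bt (LP (LK LD1_c8 LD2_c13 LD3_c31)) = (LP (LK LD1_c15 LD2_c28 LD3_c15)) :=
  Lre_b IH (LK LD1_c8 LD2_c13 LD3_c31) (LK LD1_c15 LD2_c28 LD3_c15) Lrfl Lrfl
theorem f265176 : Led Lsl_dt (LP (LK LD1_c15 LD2_c28 LD3_c15)) = (LP (LK LD1_c11 LD2_c54 LD3_c15)) :=
  Lgr Lrot79 (Lpe (f187771 IH) (Lpr_df (K16.f265168 IH) (Lpe (K68.f265172 IH) (Lpn (LP (LK LD1_c11 LD2_c54 LD3_c15))))))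
theorem f265186 : Led Lsl_df (LP (LK LD1_c15 LD2_c28 LD3_c15)) = (LP (LK LD1_c11 LD2_c54 LD3_c15)) :=
  Lgr Lrot38 (Lpr_dt (f265176 IH) (Lpn (LP (LK LD1_c11 LD2_c54 LD3_c15))))
theorem f187833 : Led Lsl_at (LP (LK LD1_c15 LD2_c28 LD3_c15)) = (LP (LK LD1_c25 LD2_c20 LD3_c15)) :=
  Lre_a IH (LK LD1_c15 LD2_c28 LD3_c15) (LK LD1_c25 LD2_c20 LD3_c15) Lrfl Lrfl
theorem f265190 : Led Lsl_at (LP (LK LD1_c20 LD2_c58 LD3_c26)) = (LP (LK LD1_c11 LD2_c54 LD3_c15)) :=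
  Lre_a IH (LK LD1_c20 LD2_c58 LD3_c26) (LK LD1_c11 LD2_c54 LD3_c15) Lrfl Lrfl
theorem f265191 : Led Lsl_dt (LP (LK LD1_c25 LD2_c20 LD3_c15)) = (LP (LK LD1_c20 LD2_c58 LD3_c26)) :=
  Lgr Lrot44 (Lpe (f187833 IH) (Lpr_df (f265186 IH) (Lpe (f265190 IH) (Lpn (LP (LK LD1_c20 LD2_c58 LD3_c26))))))
theorem f603024 : Led Lsl_bf (LP (LK LD1_c25 LD2_c20 LD3_c15)) = (LP (LK LD1_c20 LD2_c58 LD3_c6)) :=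
  Lgr Lrot93 (Lpr_dt (f265191 IH) (Lpr_bt (K68.f603008 IH) (Lpr_dt (K68.f603022 IH) (Lpn (LP (LK LD1_c20 LD2_c58 LD3_c6))))))
theorem f603244 : Led Lsl_at (LP (LK LD1_c11 LD2_c54 LD3_c8)) = (LP (LK LD1_c20 LD2_c58 LD3_c6)) :=
  Lgr Lrot67 (Lpr_bf (f603242 IH) (Lpr_af (K26.f363678 IH) (Lpe (f187834 IH) (Lpe (f187835 IH) (Lpr_bf (f603024 IH) (Lpn (LP (LK LD1_c20 LD2_c58 LD3_c6))))))))
theorem f603026 : Led Lsl_df (LP (LK LD1_c18 LD2_c22 LD3_c13)) = (LP (LK LD1_c20 LD2_c58 LD3_c6)) :=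
  Lgr Lrot38 (Lpr_dt (K68.f603022 IH) (Lpn (LP (LK LD1_c20 LD2_c58 LD3_c6))))
theorem f974615 : Led Lsl_at (LP (LK LD1_c18 LD2_c22 LD3_c13)) = v50220 :=
  Lgr Lrot51 (Lpr_df (f603026 IH) (Lpe (f603244 IH) (Lpr_df (f974610 IH) (Lpn v50220))))
theorem f177421 : Led Lsl_dt (LP (LK LD1_c6 LD2_c5 LD3_c18)) = (LP (LK LD1_c2 LD2_c58 LD3_c47)) :=
  Lre_d IH (LK LD1_c6 LD2_c5 LD3_c18) (LK LD1_c2 LD2_c58 LD3_c47) Lrfl Lrfl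
theorem f410455 : Led Lsl_dt (LP (LK LD1_c2 LD2_c59 LD3_c30)) = (LP (LK LD1_c1 LD2_c25 LD3_c25)) :=
  Lre_d IH (LK LD1_c2 LD2_c59 LD3_c30) (LK LD1_c1 LD2_c25 LD3_c25) Lrfl Lrfl
theorem f183479 : Led Lsl_gt (LP (LK LD1_c6 LD2_c6 LD3_c47)) = (LP (LK LD1_c2 LD2_c59 LD3_c30)) :=
  Lre_g IH (LK LD1_c6 LD2_c6 LD3_c47) (LK LD1_c2 LD2_c59 LD3_c30) Lrfl Lrfl
def v16785 : LQ := Led Lsl_dt (LP (LK LD1_c6 LD2_c6 LD3_c47))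
theorem f751558 : Led Lsl_dt (LP (LK LD1_c6 LD2_c6 LD3_c47)) = v16785 :=
  Lrfl
theorem f751559 : Led Lsl_df (LP (LK LD1_c6 LD2_c6 LD3_c47)) = v16785 :=
  Lgr Lrot38 (Lpr_dt (f751558 IH) (Lpn v16785))
def v41922 : LQ := Led Lsl_at (LP (LK LD1_c10 LD2_c3 LD3_c51))
theorem f930176 : Led Lsl_at (LP (LK LD1_c10 LD2_c3 LD3_c51)) = v41922 :=
  Lrfl
theorem f930179 : Led Lsl_ef K72.v14319 = v41922 :=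
  Lgr Lrot20 (Lpe (K72.f721903 IH) (Lpr_et (K65.f304282 IH) (Lpr_at (f930176 IH) (Lpn v41922))))
theorem f823178 : Led Lsl_ft K72.v14319 = K65.v24273 :=
  Lgr Lrot48 (Lpr_ff (K72.f823175 IH) (Lpn K65.v24273))
def v24272 : LQ := Led Lsl_gf K65.v4652
theorem f823170 : Led Lsl_gf K65.v4652 = v24272 :=
  Lrfl
theorem f823180 : Led Lsl_gt K72.v14319 = v24272 :=
  Lgr Lrot5 (Lpr_ft (f823178 IH) (Lpe (K65.f823172 IH) (Lpr_gf (f823170 IH) (Lpn v24272))))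
theorem f320149 : Led Lsl_ff (LP (LK LD1_c8 LD2_c58 LD3_c32)) = (LP (LK LD1_c5 LD2_c33 LD3_c21)) :=
  Lgr Lrot3 (Lpr_ft (K20.f320141 IH) (Lpn (LP (LK LD1_c5 LD2_c33 LD3_c21))))
theorem f304304 : Led Lsl_bt (LP (LK LD1_c8 LD2_c58 LD3_c32)) = (LP (LK LD1_c16 LD2_c47 LD3_c37)) :=
  Lre_b IH (LK LD1_c8 LD2_c58 LD3_c32) (LK LD1_c16 LD2_c47 LD3_c37) Lrfl Lrfl
theorem f320153 : Led Lsl_ft (LP (LK LD1_c16 LD2_c47 LD3_c37)) = (LP (LK LD1_c10 LD2_c58 LD3_c39)) :=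
  Lgr Lrot75 (Lpe (f304304 IH) (Lpr_ff (f320149 IH) (Lpe (K68.f320136 IH) (Lpn (LP (LK LD1_c10 LD2_c58 LD3_c39))))))
theorem f168767 : Led Lsl_bt (LP (LK LD1_c16 LD2_c47 LD3_c37)) = (LP (LK LD1_c8 LD2_c58 LD3_c32)) :=
  Lre_b IH (LK LD1_c16 LD2_c47 LD3_c37) (LK LD1_c8 LD2_c58 LD3_c32) Lrfl Lrfl
theorem f304310 : Led Lsl_df (LP (LK LD1_c16 LD2_c47 LD3_c37)) = (LP (LK LD1_c16 LD2_c45 LD3_c22)) :=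
  Lgr Lrot12 (Lpr_bt (f168767 IH) (Lpr_dt (K20.f304307 IH) (Lpr_bt (K65.f304269 IH) (Lpn (LP (LK LD1_c16 LD2_c45 LD3_c22))))))
theorem f320158 : Led Lsl_df (LP (LK LD1_c10 LD2_c3 LD3_c51)) = (LP (LK LD1_c10 LD2_c58 LD3_c39)) :=
  Lgr Lrot78 (Lpr_ft (K65.f304278 IH) (Lpe (f304310 IH) (Lpr_ft (f320153 IH) (Lpn (LP (LK LD1_c10 LD2_c58 LD3_c39))))))
def v37694 : LQ := Led Lsl_gt (LP (LK LD1_c8 LD2_c59 LD3_c6))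
theorem f896011 : Led Lsl_gt (LP (LK LD1_c8 LD2_c59 LD3_c6)) = v37694 :=
  Lrfl
theorem f826523 : Led Lsl_gf (LP (LK LD1_c8 LD2_c56 LD3_c58)) = (LP (LK LD1_c16 LD2_c43 LD3_c31)) :=
  Lgr Lrot76 (Lpe (K74.f353384 IH) (Lpe (K74.f353385 IH) (Lpr_gt (K65.f826521 IH) (Lpn (LP (LK LD1_c16 LD2_c43 LD3_c31))))))
theorem f173512 : Led Lsl_et (LP (LK LD1_c4 LD2_c30 LD3_c24)) = (LP (LK LD1_c2 LD2_c12 LD3_c10)) :=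
  Lre_e IH (LK LD1_c4 LD2_c30 LD3_c24) (LK LD1_c2 LD2_c12 LD3_c10) Lrfl Lrfl
theorem f173513 : Led Lsl_dt (LP (LK LD1_c4 LD2_c30 LD3_c24)) = (LP (LK LD1_c8 LD2_c59 LD3_c6)) :=
  Lre_d IH (LK LD1_c4 LD2_c30 LD3_c24) (LK LD1_c8 LD2_c59 LD3_c6) Lrfl Lrfl
theorem f826525 : Led Lsl_gt (LP (LK LD1_c16 LD2_c47 LD3_c37)) = (LP (LK LD1_c8 LD2_c59 LD3_c6)) :=
  Lgr Lrot112 (Lpr_df (f304310 IH) (Lpr_et (K65.f304283 IH) (Lpr_gf (f826523 IH) (Lpe (K65.f173510 IH) (Lpr_dt (K27.f173488 IH) (Lpe (K27.f173511 IH) (Lpe (K27.f8761 IH) (Lpe (K9.f169322 IH) (Lpe (f173512 IH) (Lpr_dt (f173513 IH) (Lpn (LP (LK LD1_c8 LD2_c59 LD3_c6)))))))))))))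
theorem f896012 : Led Lsl_at (LP (LK LD1_c10 LD2_c58 LD3_c39)) = v37694 :=
  Lgr Lrot26 (Lpe (f320153 IH) (Lpr_gt (f826525 IH) (Lpr_gt (f896011 IH) (Lpn v37694))))
theorem f896013 : Led Lsl_af (LP (LK LD1_c10 LD2_c58 LD3_c39)) = v37694 :=
  Lgr Lrot0 (Lpr_at (f896012 IH) (Lpn v37694))
theorem f930178 : Led Lsl_df v37694 = v41922 :=
  Lgr Lrot18 (Lpe (f896013 IH) (Lpe (f320158 IH) (Lpr_at (f930176 IH) (Lpn v41922))))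
theorem f8791 : Led Lsl_ef (LP (LK LD1_c1 LD2_c3 LD3_c0)) = (LP (LK LD1_c1 LD2_c25 LD3_c25)) :=
  Lgr Lrot20 (Lpr_at (K68.f8789 IH) (Lpr_et (K0.f8773 IH) (Lpr_at (K10.f8790 IH) (Lpn (LP (LK LD1_c1 LD2_c25 LD3_c25))))))
theorem f195246 : Led Lsl_dt (LP (LK LD1_c1 LD2_c25 LD3_c25)) = (LP (LK LD1_c2 LD2_c59 LD3_c30)) :=
  Lre_d IH (LK LD1_c1 LD2_c25 LD3_c25) (LK LD1_c2 LD2_c59 LD3_c30) Lrfl Lrfl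
theorem f930181 : v24272 = v16785 :=
  (Llr Lrot137 (Lpe (f823180 IH) (Lpr_ef (f930179 IH) (Lpe (f930178 IH) (Lpe (f896011 IH) (Lpe (f173513 IH) (Lpr_et (f173512 IH) (Lpe (K9.f169305 IH) (Lpr_ef (f8791 IH) (Lpr_dt (f195246 IH) (Lpe (f183479 IH) (Lpr_df (f751559 IH) (Lpn v16785))))))))))))).symm
def v41886 : LQ := Led Lsl_at (LP (LK LD1_c10 LD2_c3 LD3_c33))
theorem f929991 : Led Lsl_at (LP (LK LD1_c10 LD2_c3 LD3_c33)) = v41886 :=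
  Lrfl
theorem f929993 : Led Lsl_cf K72.v14319 = v41886 :=
  Lgr Lrot1 (Lpe (K72.f721903 IH) (Lpr_ct (K68.f198724 IH) (Lpr_at (f929991 IH) (Lpn v41886))))
theorem f929994 : Led Lsl_ct K72.v14319 = v41886 :=
  Lgr Lrot59 (Lpr_cf (f929993 IH) (Lpn v41886))
theorem f974616 : Led Lsl_gt v41886 = v50220 :=
  Lgr Lrot94 (Lpe (f929994 IH) (Lpr_gt (f823180 IH) (Lpqs (f930181 IH) (Lpe (f751559 IH) (Lpr_gt (f183479 IH) (Lpr_dt (f410455 IH) (Lpe (K39.f177420 IH) (Lpe (f177421 IH) (Lpe (f177422 IH) (Lpr_df (f974610 IH) (Lpn v50220)))))))))))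
theorem f974947 : Led Lsl_gf v41886 = v50275 :=
  Lgr Lrot47 (Lpr_gt (f974616 IH) (Lpe (f974615 IH) (Lpr_ff (f974944 IH) (Lpn v50275))))
theorem f723148 : Led Lsl_bf K72.v14319 = K72.v14549 :=
  Lgr Lrot81 (Lpe (K72.f721903 IH) (Lpr_bt (K65.f198723 IH) (Lpe (K18.f302776 IH) (Lpr_bt (K18.f184906 IH) (Lpr_at (K72.f723146 IH) (Lpn K72.v14549))))))
theorem f723155 : Led Lsl_bt K72.v14319 = K72.v14549 :=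
  Lgr Lrot127 (Lpr_bf (f723148 IH) (Lpn K72.v14549))
def v44314 : LQ := Led Lsl_bt (LP (LK LD1_c10 LD2_c43 LD3_c14))
theorem f944705 : Led Lsl_bt (LP (LK LD1_c10 LD2_c43 LD3_c14)) = v44314 :=
  Lrfl
theorem f944706 : Led Lsl_bf (LP (LK LD1_c10 LD2_c43 LD3_c14)) = v44314 :=
  Lgr Lrot24 (Lpr_bt (f944705 IH) (Lpn v44314))
def v44319 : LQ := Led Lsl_gt (LP (LK LD1_c10 LD2_c43 LD3_c17))
theorem f944741 : Led Lsl_gt (LP (LK LD1_c10 LD2_c43 LD3_c17)) = v44319 :=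
  Lrfl
theorem f226107 : Led Lsl_ct (LP (LK LD1_c5 LD2_c26 LD3_c0)) = (LP (LK LD1_c10 LD2_c43 LD3_c17)) :=
  Lre_c IH (LK LD1_c5 LD2_c26 LD3_c0) (LK LD1_c10 LD2_c43 LD3_c17) Lrfl Lrfl
theorem f944743 : Led Lsl_ct v44314 = v44319 :=
  Lgr Lrot63 (Lpe (f944706 IH) (Lpr_gt (K74.f195743 IH) (Lpe (K18.f195702 IH) (Lpr_ct (K18.f183043 IH) (Lpr_gt (K12.f166122 IH) (Lpe (K9.f166128 IH) (Lpr_bt (K56.f166145 IH) (Lpr_gt (K56.f212477 IH) (Lpr_ct (f226107 IH) (Lpr_gt (f944741 IH) (Lpn v44319)))))))))))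
theorem f929471 : Led Lsl_ff (LP (LK LD1_c11 LD2_c55 LD3_c12)) = (LP (LK LD1_c10 LD2_c43 LD3_c17)) :=
  Lgr Lrot23 (Lpr_ct (K56.f377712 IH) (Lpq (K72.f929397 IH) (Lpe (K72.f726771 IH) (Lpr_ct (f226107 IH) (Lpn (LP (LK LD1_c10 LD2_c43 LD3_c17)))))))
theorem f292025 : Led Lsl_ct (LP (LK LD1_c11 LD2_c55 LD3_c14)) = (LP (LK LD1_c6 LD2_c5 LD3_c54)) :=
  Lre_c IH (LK LD1_c11 LD2_c55 LD3_c14) (LK LD1_c6 LD2_c5 LD3_c54) Lrfl Lrfl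
theorem f929456 : Led Lsl_af (LP (LK LD1_c11 LD2_c55 LD3_c14)) = (LP (LK LD1_c10 LD2_c43 LD3_c17)) :=
  Lgr Lrot68 (Lpr_ct (f292025 IH) (Lpr_at (K72.f751169 IH) (Lpq (K72.f929401 IH) (Lpr_ct (f226107 IH) (Lpn (LP (LK LD1_c10 LD2_c43 LD3_c17)))))))
theorem f929458 : Led Lsl_at (LP (LK LD1_c11 LD2_c55 LD3_c14)) = (LP (LK LD1_c10 LD2_c43 LD3_c17)) :=
  Lgr Lrot100 (Lpr_af (f929456 IH) (Lpn (LP (LK LD1_c10 LD2_c43 LD3_c17))))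
theorem f264965 : Led Lsl_ct (LP (LK LD1_c10 LD2_c43 LD3_c21)) = (LP (LK LD1_c5 LD2_c26 LD3_c1)) :=
  Lre_c IH (LK LD1_c10 LD2_c43 LD3_c21) (LK LD1_c5 LD2_c26 LD3_c1) Lrfl Lrfl
theorem f929411 : Led Lsl_ff (LP (LK LD1_c10 LD2_c43 LD3_c21)) = (LP (LK LD1_c11 LD2_c55 LD3_c14)) :=
  Lgr Lrot23 (Lpr_ct (f264965 IH) (Lpqs (K72.f929398 IH) (Lpe (K72.f751147 IH) (Lpr_ct (K72.f409752 IH) (Lpn (LP (LK LD1_c11 LD2_c55 LD3_c14)))))))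
theorem f929419 : Led Lsl_ft (LP (LK LD1_c10 LD2_c43 LD3_c21)) = (LP (LK LD1_c11 LD2_c55 LD3_c14)) :=
  Lgr Lrot48 (Lpr_ff (f929411 IH) (Lpn (LP (LK LD1_c11 LD2_c55 LD3_c14))))
theorem f929504 : Led Lsl_at (LP (LK LD1_c11 LD2_c55 LD3_c12)) = (LP (LK LD1_c10 LD2_c43 LD3_c21)) :=
  Lgr Lrot66 (Lpr_ff (f929471 IH) (Lpe (f929458 IH) (Lpe (f929419 IH) (Lpn (LP (LK LD1_c10 LD2_c43 LD3_c21))))))
theorem f944742 : Led Lsl_gf (LP (LK LD1_c10 LD2_c43 LD3_c21)) = v44319 :=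
  Lgr Lrot76 (Lpe (f929504 IH) (Lpr_ff (f929471 IH) (Lpr_gt (f944741 IH) (Lpn v44319))))
theorem f264974 : Led Lsl_ct (LP (LK LD1_c5 LD2_c26 LD3_c1)) = (LP (LK LD1_c10 LD2_c43 LD3_c21)) :=
  Lre_c IH (LK LD1_c5 LD2_c26 LD3_c1) (LK LD1_c10 LD2_c43 LD3_c21) Lrfl Lrfl
theorem f264978 : Led Lsl_bt (LP (LK LD1_c5 LD2_c26 LD3_c1)) = (LP (LK LD1_c10 LD2_c43 LD3_c20)) :=
  Lre_b IH (LK LD1_c5 LD2_c26 LD3_c1) (LK LD1_c10 LD2_c43 LD3_c20) Lrfl Lrfl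
theorem f929447 : Led Lsl_gt (LP (LK LD1_c10 LD2_c43 LD3_c20)) = (LP (LK LD1_c19 LD2_c24 LD3_c19)) :=
  Lre_g IH (LK LD1_c10 LD2_c43 LD3_c20) (LK LD1_c19 LD2_c24 LD3_c19) Lrfl Lrfl
theorem f974949 : Led Lsl_ct (LP (LK LD1_c19 LD2_c24 LD3_c19)) = v50275 :=
  Lgr Lrot91 (Lpe (f929447 IH) (Lpe (f264978 IH) (Lpr_ct (f264974 IH) (Lpr_gf (f944742 IH) (Lpe (f944743 IH) (Lpe (f944706 IH) (Lpr_gf (K74.f723153 IH) (Lpe (f723155 IH) (Lpr_ct (f929994 IH) (Lpr_gf (f974947 IH) (Lpn v50275)))))))))))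
theorem f555075 : Led Lsl_gt (LP (LK LD1_c11 LD2_c54 LD3_c4)) = (LP (LK LD1_c10 LD2_c44 LD3_c14)) :=
  Lgr Lrot5 (Lpr_ft (K39.f554887 IH) (Lpr_at (K74.f555071 IH) (Lpr_gf (K74.f337876 IH) (Lpn (LP (LK LD1_c10 LD2_c44 LD3_c14))))))
theorem f8521 : Led Lsl_bt (LP (LK LD1_c10 LD2_c44 LD3_c14)) = (LP (LK LD1_c5 LD2_c26 LD3_c31)) :=
  Lre_b IH (LK LD1_c10 LD2_c44 LD3_c14) (LK LD1_c5 LD2_c26 LD3_c31) Lrfl Lrfl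
theorem f923525 : Led Lsl_df (LP (LK LD1_c10 LD2_c44 LD3_c14)) = (LP (LK LD1_c19 LD2_c24 LD3_c23)) :=
  Lgr Lrot12 (Lpr_bt (f8521 IH) (Lpr_dt (K71.f726921 IH) (Lpq (K71.f923515 IH) (Lpr_bt (K71.f923518 IH) (Lpn (LP (LK LD1_c19 LD2_c24 LD3_c23)))))))
theorem f923536 : Led Lsl_dt (LP (LK LD1_c10 LD2_c44 LD3_c14)) = (LP (LK LD1_c19 LD2_c24 LD3_c23)) :=
  Lgr Lrot42 (Lpr_df (f923525 IH) (Lpn (LP (LK LD1_c19 LD2_c24 LD3_c23))))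
theorem f8785 : Led Lsl_dt (LP (LK LD1_c6 LD2_c6 LD3_c40)) = (LP (LK LD1_c9 LD2_c15 LD3_c15)) :=
  Lre_d IH (LK LD1_c6 LD2_c6 LD3_c40) (LK LD1_c9 LD2_c15 LD3_c15) Lrfl Lrfl
theorem f8899 : Led Lsl_ct (LP (LK LD1_c17 LD2_c9 LD3_c38)) = (LP (LK LD1_c9 LD2_c15 LD3_c15)) :=
  Lre_c IH (LK LD1_c17 LD2_c9 LD3_c38) (LK LD1_c9 LD2_c15 LD3_c15) Lrfl Lrfl
theorem f8901 : Led Lsl_gt (LP (LK LD1_c11 LD2_c56 LD3_c37)) = (LP (LK LD1_c17 LD2_c9 LD3_c38)) :=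
  Lre_g IH (LK LD1_c11 LD2_c56 LD3_c37) (LK LD1_c17 LD2_c9 LD3_c38) Lrfl Lrfl
theorem f8902 : Led Lsl_ct (LP (LK LD1_c21 LD2_c1 LD3_c32)) = (LP (LK LD1_c11 LD2_c56 LD3_c37)) :=
  Lre_c IH (LK LD1_c21 LD2_c1 LD3_c32) (LK LD1_c11 LD2_c56 LD3_c37) Lrfl Lrfl
theorem f923538 : Led Lsl_gf (LP (LK LD1_c21 LD2_c1 LD3_c32)) = (LP (LK LD1_c19 LD2_c24 LD3_c23)) :=
  Lgr Lrot147 (Lpr_ct (f8902 IH) (Lpr_gt (f8901 IH) (Lpr_ct (f8899 IH) (Lpe (f8785 IH) (Lpe (K74.f190184 IH) (Lpe (K74.f195370 IH) (Lpe (K74.f195417 IH) (Lpr_gf (K74.f337876 IH) (Lpr_df (f923525 IH) (Lpn (LP (LK LD1_c19 LD2_c24 LD3_c23))))))))))))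
theorem f974951 : Led Lsl_df (LP (LK LD1_c19 LD2_c24 LD3_c19)) = (LP (LK LD1_c21 LD2_c1 LD3_c32)) :=
  Lgr Lrot174 (Lpr_ct (f974949 IH) (Lpe (f974941 IH) (Lpe (f195201 IH) (Lpe (K65.f195184 IH) (Lpe (K39.f195222 IH) (Lpr_ct (K39.f195367 IH) (Lpr_gt (f555075 IH) (Lpr_dt (f923536 IH) (Lpe (f923538 IH) (Lpn (LP (LK LD1_c21 LD2_c1 LD3_c32))))))))))))
theorem f974952 : Led Lsl_dt (LP (LK LD1_c21 LD2_c1 LD3_c32)) = (LP (LK LD1_c19 LD2_c24 LD3_c19)) :=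
  Leop (Lpr_df (f974951 IH) (Lpn (LP (LK LD1_c21 LD2_c1 LD3_c32))))
theorem seed_3009 : LEOK LG_d (LK LD1_c21 LD2_c1 LD3_c32) :=
  Leoe_d (LK LD1_c21 LD2_c1 LD3_c32) (f974952 IH)
theorem f974948 : Led Lsl_gt K74.v14745 = v50275 :=
  Lgr Lrot5 (Lpe (K74.f726447 IH) (Lpr_at (f929991 IH) (Lpr_gf (f974947 IH) (Lpn v50275))))
theorem f183389 : Led Lsl_gt (LP (LK LD1_c20 LD2_c59 LD3_c24)) = (LP (LK LD1_c11 LD2_c54 LD3_c46)) :=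
  Lre_g IH (LK LD1_c20 LD2_c59 LD3_c24) (LK LD1_c11 LD2_c54 LD3_c46) Lrfl Lrfl
theorem f974953 : Led Lsl_bt (LP (LK LD1_c19 LD2_c24 LD3_c19)) = (LP (LK LD1_c20 LD2_c59 LD3_c24)) :=
  Lgr Lrot130 (Lpr_ct (f974949 IH) (Lpe (f974948 IH) (Lpe (K74.f726448 IH) (Lpe (K74.f638345 IH) (Lpr_gf (K15.f183383 IH) (Lpe (K25.f177506 IH) (Lpr_ct (K67.f177521 IH) (Lpe (K67.f177532 IH) (Lpe (K67.f183387 IH) (Lpe (f183389 IH) (Lpn (LP (LK LD1_c20 LD2_c59 LD3_c24)))))))))))))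
theorem f974954 : Led Lsl_bt (LP (LK LD1_c19 LD2_c24 LD3_c19)) = (LP (LK LD1_c20 LD2_c59 LD3_c24)) :=
  Leop (Lpe (f974953 IH) (Lpn (LP (LK LD1_c19 LD2_c24 LD3_c19))))
theorem seed_3010 : LEOK LG_b (LK LD1_c19 LD2_c24 LD3_c19) :=
  Leoe_b (LK LD1_c19 LD2_c24 LD3_c19) (f974954 IH)
def v50279 : LQ := Led Lsl_ct (LP (LK LD1_c11 LD2_c54 LD3_c13))
theorem f974978 : Led Lsl_ct (LP (LK LD1_c11 LD2_c54 LD3_c13)) = v50279 :=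
  Lrfl
theorem f274138 : Led Lsl_bt (LP (LK LD1_c6 LD2_c5 LD3_c20)) = (LP (LK LD1_c11 LD2_c54 LD3_c13)) :=
  Lre_b IH (LK LD1_c6 LD2_c5 LD3_c20) (LK LD1_c11 LD2_c54 LD3_c13) Lrfl Lrfl
theorem f274176 : Led Lsl_df (LP (LK LD1_c15 LD2_c27 LD3_c47)) = (LP (LK LD1_c11 LD2_c54 LD3_c13)) :=
  Lgr Lrot12 (Lpr_bt (f252616 IH) (Lpr_dt (K16.f274130 IH) (Lpr_bt (f274138 IH) (Lpn (LP (LK LD1_c11 LD2_c54 LD3_c13))))))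
theorem f410452 : Led Lsl_dt (LP (LK LD1_c15 LD2_c27 LD3_c47)) = (LP (LK LD1_c11 LD2_c54 LD3_c13)) :=
  Lgr Lrot42 (Lpr_df (f274176 IH) (Lpn (LP (LK LD1_c11 LD2_c54 LD3_c13))))
theorem f602606 : Led Lsl_gf (LP (LK LD1_c11 LD2_c54 LD3_c11)) = (LP (LK LD1_c15 LD2_c27 LD3_c47)) :=
  Lgr Lrot124 (Lpe (f283710 IH) (Lpr_ct (K68.f265144 IH) (Lpe (K68.f291406 IH) (Lpr_cf (K56.f602590 IH) (Lpr_bt (K56.f273935 IH) (Lpr_gt (K39.f273933 IH) (Lpe (K16.f273902 IH) (Lpr_gt (K14.f252142 IH) (Lpe (K15.f187794 IH) (Lpr_bt (f192263 IH) (Lpn (LP (LK LD1_c15 LD2_c27 LD3_c47)))))))))))))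
theorem f412731 : Led Lsl_at (LP (LK LD1_c20 LD2_c57 LD3_c58)) = (LP (LK LD1_c11 LD2_c54 LD3_c11)) :=
  Lre_a IH (LK LD1_c20 LD2_c57 LD3_c58) (LK LD1_c11 LD2_c54 LD3_c11) Lrfl Lrfl
theorem f412725 : Led Lsl_ft (LP (LK LD1_c11 LD2_c54 LD3_c6)) = (LP (LK LD1_c20 LD2_c57 LD3_c58)) :=
  Lre_f IH (LK LD1_c11 LD2_c54 LD3_c6) (LK LD1_c20 LD2_c57 LD3_c58) Lrfl Lrfl
theorem f602608 : Led Lsl_gt (LP (LK LD1_c11 LD2_c54 LD3_c6)) = (LP (LK LD1_c15 LD2_c27 LD3_c47)) :=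
  Lgr Lrot5 (Lpr_ft (f412725 IH) (Lpr_at (f412731 IH) (Lpr_gf (f602606 IH) (Lpn (LP (LK LD1_c15 LD2_c27 LD3_c47))))))
theorem f195234 : Led Lsl_ft (LP (LK LD1_c6 LD2_c5 LD3_c19)) = (LP (LK LD1_c2 LD2_c58 LD3_c47)) :=
  Lre_f IH (LK LD1_c6 LD2_c5 LD3_c19) (LK LD1_c2 LD2_c58 LD3_c47) Lrfl Lrfl
theorem f195209 : Led Lsl_at (LP (LK LD1_c2 LD2_c58 LD3_c47)) = (LP (LK LD1_c6 LD2_c5 LD3_c17)) :=
  Lre_a IH (LK LD1_c2 LD2_c58 LD3_c47) (LK LD1_c6 LD2_c5 LD3_c17) Lrfl Lrfl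
theorem f554914 : Led Lsl_gt (LP (LK LD1_c11 LD2_c54 LD3_c3)) = (LP (LK LD1_c6 LD2_c5 LD3_c17)) :=
  Lgr Lrot46 (Lpr_gf (K39.f554911 IH) (Lpr_ft (f195234 IH) (Lpr_at (f195209 IH) (Lpn (LP (LK LD1_c6 LD2_c5 LD3_c17))))))
def v50264 : LQ := Led Lsl_ft (LP (LK LD1_c11 LD2_c54 LD3_c0))
theorem f974883 : Led Lsl_ft (LP (LK LD1_c11 LD2_c54 LD3_c0)) = v50264 :=
  Lrfl
theorem f337879 : Led Lsl_ct (LP (LK LD1_c6 LD2_c5 LD3_c15)) = (LP (LK LD1_c11 LD2_c54 LD3_c0)) :=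
  Lre_c IH (LK LD1_c6 LD2_c5 LD3_c15) (LK LD1_c11 LD2_c54 LD3_c0) Lrfl Lrfl
theorem f974886 : Led Lsl_cf (LP (LK LD1_c11 LD2_c54 LD3_c3)) = v50264 :=
  Lgr Lrot108 (Lpr_ft (K39.f554902 IH) (Lpr_ct (f337879 IH) (Lpr_ft (f974883 IH) (Lpn v50264))))
theorem f974887 : Led Lsl_ff (LP (LK LD1_c11 LD2_c54 LD3_c0)) = v50264 :=
  Lgr Lrot3 (Lpr_ft (f974883 IH) (Lpn v50264))
theorem f554894 : Led Lsl_at (LP (LK LD1_c11 LD2_c54 LD3_c0)) = (LP (LK LD1_c8 LD2_c14 LD3_c29)) :=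
  Lgr Lrot107 (Lpe (f337879 IH) (Lpe (K74.f554893 IH) (Lpr_cf (K39.f554890 IH) (Lpn (LP (LK LD1_c8 LD2_c14 LD3_c29))))))
theorem f974891 : Led Lsl_gf (LP (LK LD1_c15 LD2_c30 LD3_c14)) = v50264 :=
  Lgr Lrot47 (Lpr_gt (K73.f187595 IH) (Lpe (f554894 IH) (Lpr_ff (f974887 IH) (Lpn v50264))))
theorem f974982 : Led Lsl_dt (LP (LK LD1_c15 LD2_c30 LD3_c26)) = v50279 :=
  Lgr Lrot113 (Lpr_gf (K73.f603493 IH) (Lpe (K73.f603495 IH) (Lpr_gf (f974891 IH) (Lpe (f974886 IH) (Lpr_gt (f554914 IH) (Lpr_dt (K68.f195259 IH) (Lpr_gt (f602608 IH) (Lpr_dt (f410452 IH) (Lpr_ct (f974978 IH) (Lpn v50279))))))))))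
theorem f974942 : Led Lsl_af (LP (LK LD1_c11 LD2_c54 LD3_c13)) = v50275 :=
  Lgr Lrot117 (Lpe (f274176 IH) (Lpe (f603259 IH) (Lpr_dt (f974941 IH) (Lpn v50275))))
theorem f974979 : Led Lsl_af (LP (LK LD1_c19 LD2_c24 LD3_c19)) = v50279 :=
  Lgr Lrot68 (Lpr_ct (f974949 IH) (Lpe (f974942 IH) (Lpr_ct (f974978 IH) (Lpn v50279))))
theorem f974958 : Led Lsl_dt (LP (LK LD1_c19 LD2_c24 LD3_c19)) = (LP (LK LD1_c21 LD2_c1 LD3_c32)) :=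
  Lgr Lrot42 (Lpr_df (f974951 IH) (Lpn (LP (LK LD1_c21 LD2_c1 LD3_c32))))
theorem f974985 : Led Lsl_af (LP (LK LD1_c15 LD2_c30 LD3_c26)) = (LP (LK LD1_c21 LD2_c1 LD3_c32)) :=
  Lgr Lrot117 (Lpr_dt (f974982 IH) (Lpe (f974979 IH) (Lpr_dt (f974958 IH) (Lpn (LP (LK LD1_c21 LD2_c1 LD3_c32))))))
theorem f974986 : Led Lsl_at (LP (LK LD1_c21 LD2_c1 LD3_c32)) = (LP (LK LD1_c15 LD2_c30 LD3_c26)) :=
  Leop (Lpr_af (f974985 IH) (Lpn (LP (LK LD1_c21 LD2_c1 LD3_c32))))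
theorem seed_3011 : LEOK LG_a (LK LD1_c21 LD2_c1 LD3_c32) :=
  Leoe_a (LK LD1_c21 LD2_c1 LD3_c32) (f974986 IH)
def v44327 : LQ := Led Lsl_gf (LP (LK LD1_c10 LD2_c43 LD3_c20))
theorem f944758 : Led Lsl_gf (LP (LK LD1_c10 LD2_c43 LD3_c20)) = v44327 :=
  Lrfl
theorem f975002 : Led Lsl_ft v44327 = v50279 :=
  Lgr Lrot2 (Lpe (f944758 IH) (Lpr_gt (f929447 IH) (Lpr_af (f974979 IH) (Lpn v50279))))
theorem f975004 : Led Lsl_ff v44327 = v50279 :=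
  Lgr Lrot3 (Lpr_ft (f975002 IH) (Lpn v50279))
theorem f363692 : Led Lsl_ff (LP (LK LD1_c11 LD2_c52 LD3_c36)) = (LP (LK LD1_c6 LD2_c5 LD3_c20)) :=
  Lgr Lrot19 (Lpr_dt (K15.f264864 IH) (Lpr_ft (K26.f363688 IH) (Lpr_dt (K16.f274130 IH) (Lpn (LP (LK LD1_c6 LD2_c5 LD3_c20))))))
theorem f274129 : Led Lsl_bt (LP (LK LD1_c11 LD2_c54 LD3_c13)) = (LP (LK LD1_c6 LD2_c5 LD3_c20)) :=
  Lre_b IH (LK LD1_c11 LD2_c54 LD3_c13) (LK LD1_c6 LD2_c5 LD3_c20) Lrfl Lrfl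
theorem f974611 : Led Lsl_ff (LP (LK LD1_c11 LD2_c54 LD3_c13)) = v50220 :=
  Lgr Lrot25 (Lpr_bt (f274129 IH) (Lpe (f363692 IH) (Lpr_bt (f974607 IH) (Lpn v50220))))
theorem f975005 : Led Lsl_ct v44327 = v50220 :=
  Lgr Lrot40 (Lpr_ff (f975004 IH) (Lpe (f974978 IH) (Lpr_ff (f974611 IH) (Lpn v50220))))
theorem f974612 : Led Lsl_gf K74.v14745 = v50220 :=
  Lgr Lrot124 (Lpe (K74.f726443 IH) (Lpr_ct (K14.f184400 IH) (Lpe (K15.f256823 IH) (Lpe (K15.f182799 IH) (Lpr_bt (K56.f250443 IH) (Lpr_gt (K56.f256829 IH) (Lpe (K56.f602738 IH) (Lpr_gt (K15.f216111 IH) (Lpr_cf (K15.f265119 IH) (Lpr_bt (f974607 IH) (Lpn v50220)))))))))))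
def v14445 : LQ := Led Lsl_gt (LP (LK LD1_c5 LD2_c10 LD3_c27))
theorem f722578 : Led Lsl_gt (LP (LK LD1_c5 LD2_c10 LD3_c27)) = v14445 :=
  Lrfl
theorem f975006 : Led Lsl_bt v44327 = v14445 :=
  Lgr Lrot92 (Lpr_ct (f975005 IH) (Lpe (f974612 IH) (Lpe (K74.f726448 IH) (Lpe (K74.f638345 IH) (Lpr_gt (K9.f179038 IH) (Lpr_ct (K9.f169000 IH) (Lpe (K11.f169006 IH) (Lpe (K14.f169072 IH) (Lpr_bt (K17.f169073 IH) (Lpr_gt (f722578 IH) (Lpn v14445)))))))))))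
def v50248 : LQ := Led Lsl_dt (LP (LK LD1_c11 LD2_c53 LD3_c43))
theorem f974818 : Led Lsl_dt (LP (LK LD1_c11 LD2_c53 LD3_c43)) = v50248 :=
  Lrfl
theorem f192203 : Led Lsl_dt (LP (LK LD1_c6 LD2_c5 LD3_c15)) = (LP (LK LD1_c11 LD2_c54 LD3_c1)) :=
  Lre_d IH (LK LD1_c6 LD2_c5 LD3_c15) (LK LD1_c11 LD2_c54 LD3_c1) Lrfl Lrfl
theorem f974823 : Led Lsl_cf K65.v24273 = v50248 :=
  Lgr Lrot14 (Lpr_df (K65.f826519 IH) (Lpe (K65.f826516 IH) (Lpe (K65.f646202 IH) (Lpe (K39.f183490 IH) (Lpr_ct (K39.f195230 IH) (Lpr_gt (K39.f192202 IH) (Lpr_dt (f192203 IH) (Lpe (K74.f555141 IH) (Lpr_dt (f974818 IH) (Lpn v50248))))))))))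
theorem f265281 : Led Lsl_gt (LP (LK LD1_c9 LD2_c15 LD3_c14)) = (LP (LK LD1_c4 LD2_c39 LD3_c51)) :=
  Lre_g IH (LK LD1_c9 LD2_c15 LD3_c14) (LK LD1_c4 LD2_c39 LD3_c51) Lrfl Lrfl
theorem f195794 : Led Lsl_dt (LP (LK LD1_c11 LD2_c54 LD3_c11)) = (LP (LK LD1_c6 LD2_c5 LD3_c19)) :=
  Lre_d IH (LK LD1_c11 LD2_c54 LD3_c11) (LK LD1_c6 LD2_c5 LD3_c19) Lrfl Lrfl
theorem f974827 : Led Lsl_gf (LP (LK LD1_c11 LD2_c54 LD3_c13)) = v50248 :=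
  Lgr Lrot144 (Lpe (f274176 IH) (Lpe (f602606 IH) (Lpr_dt (f195794 IH) (Lpe (K39.f195440 IH) (Lpe (K73.f265280 IH) (Lpe (f265281 IH) (Lpr_df (K72.f904273 IH) (Lpqs (K72.f930189 IH) (Lpr_gf (K72.f823179 IH) (Lpr_cf (f974823 IH) (Lpn v50248)))))))))))
theorem f974822 : Led Lsl_ct K65.v24273 = v50248 :=
  Lgr Lrot7 (Lpr_df (K65.f826519 IH) (Lpe (K65.f826516 IH) (Lpe (K65.f646202 IH) (Lpe (K39.f183490 IH) (Lpe (K39.f177420 IH) (Lpr_gt (K39.f192202 IH) (Lpr_dt (f192203 IH) (Lpe (K74.f555141 IH) (Lpr_dt (f974818 IH) (Lpn v50248))))))))))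
theorem f721901 : Led Lsl_dt K68.v13103 = K68.v14318 :=
  Lgr Lrot42 (Lpr_df (K68.f721900 IH) (Lpn K68.v14318))
theorem f8861 : Led Lsl_ct (LP (LK LD1_c6 LD2_c6 LD3_c45)) = (LP (LK LD1_c11 LD2_c56 LD3_c33)) :=
  Lre_c IH (LK LD1_c6 LD2_c6 LD3_c45) (LK LD1_c11 LD2_c56 LD3_c33) Lrfl Lrfl
theorem f446654 : Led Lsl_gt (LP (LK LD1_c11 LD2_c56 LD3_c33)) = (LP (LK LD1_c17 LD2_c9 LD3_c37)) :=
  Lre_g IH (LK LD1_c11 LD2_c56 LD3_c33) (LK LD1_c17 LD2_c9 LD3_c37) Lrfl Lrfl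
theorem f495521 : Led Lsl_cf (LP (LK LD1_c15 LD2_c30 LD3_c26)) = (LP (LK LD1_c17 LD2_c9 LD3_c37)) :=
  Lgr Lrot11 (Lpr_ct (K30.f495517 IH) (Lpn (LP (LK LD1_c17 LD2_c9 LD3_c37))))
theorem f974983 : Led Lsl_df (LP (LK LD1_c15 LD2_c30 LD3_c26)) = v50279 :=
  Lgr Lrot162 (Lpr_cf (f495521 IH) (Lpe (f446654 IH) (Lpe (f8861 IH) (Lpr_gf (K68.f701127 IH) (Lpr_dt (f721901 IH) (Lpr_gt (K72.f823176 IH) (Lpr_ct (f974822 IH) (Lpe (f974827 IH) (Lpr_ct (f974978 IH) (Lpn v50279))))))))))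
theorem f974984 : Led Lsl_bt K56.v16679 = v50279 :=
  Lgr Lrot95 (Lpe (K56.f751054 IH) (Lpe (K30.f55594 IH) (Lpr_df (f974983 IH) (Lpn v50279))))
theorem f975008 : Led Lsl_ff K56.v16679 = v14445 :=
  Lgr Lrot25 (Lpr_bt (f974984 IH) (Lpe (f975004 IH) (Lpr_bt (f975006 IH) (Lpn v14445))))
def v16681 : LQ := Led Lsl_at (LP (LK LD1_c6 LD2_c5 LD3_c36))
theorem f751061 : Led Lsl_at (LP (LK LD1_c6 LD2_c5 LD3_c36)) = v16681 :=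
  Lrfl
theorem f751065 : Led Lsl_gt v14445 = v16681 :=
  Lgr Lrot46 (Lpe (f722578 IH) (Lpe (K17.f291598 IH) (Lpr_at (f751061 IH) (Lpn v16681))))
def v14447 : LQ := Led Lsl_at (LP (LK LD1_c5 LD2_c10 LD3_c27))
theorem f722580 : Led Lsl_at (LP (LK LD1_c5 LD2_c10 LD3_c27)) = v14447 :=
  Lrfl
theorem f722581 : Led Lsl_af (LP (LK LD1_c5 LD2_c10 LD3_c27)) = v14447 :=
  Lgr Lrot0 (Lpr_at (f722580 IH) (Lpn v14447))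
theorem f751064 : Led Lsl_ff v14447 = v16681 :=
  Lgr Lrot30 (Lpe (f722581 IH) (Lpe (K17.f291598 IH) (Lpr_at (f751061 IH) (Lpn v16681))))
def v14446 : LQ := Led Lsl_gf (LP (LK LD1_c5 LD2_c10 LD3_c27))
theorem f722579 : Led Lsl_gf (LP (LK LD1_c5 LD2_c10 LD3_c27)) = v14446 :=
  Lrfl
theorem f751067 : Led Lsl_gf v14446 = v16681 :=
  Lgr Lrot47 (Lpe (f722579 IH) (Lpr_af (f722581 IH) (Lpr_ff (f751064 IH) (Lpn v16681))))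
theorem f975011 : Led Lsl_at K56.v16679 = v14446 :=
  Lgr Lrot26 (Lpr_ff (f975008 IH) (Lpr_gt (f751065 IH) (Lpe (f751067 IH) (Lpn v14446))))
def v35961 : LQ := Led Lsl_at (LP (LK LD1_c8 LD2_c14 LD3_c36))
theorem f881371 : Led Lsl_at (LP (LK LD1_c8 LD2_c14 LD3_c36)) = v35961 :=
  Lrfl
theorem f881372 : Led Lsl_af (LP (LK LD1_c8 LD2_c14 LD3_c36)) = v35961 :=
  Lgr Lrot0 (Lpr_at (f881371 IH) (Lpn v35961))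
theorem f975013 : Led Lsl_df v35961 = v14446 :=
  Lgr Lrot18 (Lpe (f881372 IH) (Lpr_dt (K56.f751054 IH) (Lpr_at (f975011 IH) (Lpn v14446))))
theorem f881373 : Led Lsl_ft (LP (LK LD1_c8 LD2_c14 LD3_c37)) = v35961 :=
  Lgr Lrot2 (Lpr_gt (K74.f54801 IH) (Lpr_gt (K30.f54806 IH) (Lpr_af (f881372 IH) (Lpn v35961))))
theorem f881374 : Led Lsl_ff (LP (LK LD1_c8 LD2_c14 LD3_c37)) = v35961 :=
  Lgr Lrot3 (Lpr_ft (f881373 IH) (Lpn v35961))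
def v35965 : LQ := Led Lsl_dt (LP (LK LD1_c8 LD2_c14 LD3_c37))
theorem f881385 : Led Lsl_dt (LP (LK LD1_c8 LD2_c14 LD3_c37)) = v35965 :=
  Lrfl
theorem f975015 : Led Lsl_ft v35965 = v14446 :=
  Lgr Lrot54 (Lpe (f881385 IH) (Lpr_ff (f881374 IH) (Lpr_df (f975013 IH) (Lpn v14446))))
theorem f975012 : Led Lsl_af K56.v16679 = v14446 :=
  Lgr Lrot0 (Lpr_at (f975011 IH) (Lpn v14446))
def v16680 : LQ := Led Lsl_gf (LP (LK LD1_c6 LD2_c5 LD3_c36))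
theorem f751060 : Led Lsl_gf (LP (LK LD1_c6 LD2_c5 LD3_c36)) = v16680 :=
  Lrfl
theorem f975018 : v35965 = v16680 :=
  (Llr Lrot52 (Lpr_ft (f975015 IH) (Lpe (f975012 IH) (Lpe (K56.f751050 IH) (Lpr_gf (f751060 IH) (Lpn v16680)))))).symm
theorem f881386 : Led Lsl_df (LP (LK LD1_c8 LD2_c14 LD3_c37)) = v35965 :=
  Lgr Lrot38 (Lpr_dt (f881385 IH) (Lpn v35965))
theorem f54803 : Led Lsl_dt (LP (LK LD1_c7 LD2_c58 LD3_c57)) = (LP (LK LD1_c15 LD2_c3 LD3_c34)) :=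
  Lre_d IH (LK LD1_c7 LD2_c58 LD3_c57) (LK LD1_c15 LD2_c3 LD3_c34) Lrfl Lrfl
theorem f751066 : Led Lsl_ft v14447 = v16681 :=
  Lgr Lrot48 (Lpr_ff (f751064 IH) (Lpn v16681))
theorem f751062 : Led Lsl_af (LP (LK LD1_c6 LD2_c5 LD3_c36)) = v16681 :=
  Lgr Lrot0 (Lpr_at (f751061 IH) (Lpn v16681))
theorem f751068 : Led Lsl_gt v14447 = v16680 :=
  Lgr Lrot5 (Lpr_ft (f751066 IH) (Lpe (f751062 IH) (Lpr_gf (f751060 IH) (Lpn v16680))))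
def v42401 : LQ := Led Lsl_at (LP (LK LD1_c10 LD2_c11 LD3_c31))
theorem f933835 : Led Lsl_at (LP (LK LD1_c10 LD2_c11 LD3_c31)) = v42401 :=
  Lrfl
theorem f183118 : Led Lsl_et (LP (LK LD1_c5 LD2_c10 LD3_c27)) = (LP (LK LD1_c10 LD2_c11 LD3_c31)) :=
  Lre_e IH (LK LD1_c5 LD2_c10 LD3_c27) (LK LD1_c10 LD2_c11 LD3_c31) Lrfl Lrfl
theorem f933837 : Led Lsl_ef v14447 = v42401 :=
  Lgr Lrot20 (Lpe (f722581 IH) (Lpr_et (f183118 IH) (Lpr_at (f933835 IH) (Lpn v42401))))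
def v45358 : LQ := Led Lsl_at (LP (LK LD1_c10 LD2_c55 LD3_c33))
theorem f949118 : Led Lsl_at (LP (LK LD1_c10 LD2_c55 LD3_c33)) = v45358 :=
  Lrfl
theorem f183107 : Led Lsl_bt (LP (LK LD1_c5 LD2_c10 LD3_c26)) = (LP (LK LD1_c10 LD2_c11 LD3_c31)) :=
  Lre_b IH (LK LD1_c5 LD2_c10 LD3_c26) (LK LD1_c10 LD2_c11 LD3_c31) Lrfl Lrfl
theorem f183108 : Led Lsl_df (LP (LK LD1_c10 LD2_c55 LD3_c33)) = (LP (LK LD1_c10 LD2_c11 LD3_c31)) :=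
  Lgr Lrot12 (Lpr_bt (K72.f183106 IH) (Lpr_dt (K19.f183099 IH) (Lpr_bt (f183107 IH) (Lpn (LP (LK LD1_c10 LD2_c11 LD3_c31))))))
theorem f933836 : Led Lsl_af (LP (LK LD1_c10 LD2_c11 LD3_c31)) = v42401 :=
  Lgr Lrot0 (Lpr_at (f933835 IH) (Lpn v42401))
theorem f949120 : Led Lsl_df v42401 = v45358 :=
  Lgr Lrot18 (Lpe (f933836 IH) (Lpe (f183108 IH) (Lpr_at (f949118 IH) (Lpn v45358))))
theorem f949121 : Led Lsl_dt v42401 = v45358 :=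
  Lgr Lrot42 (Lpr_df (f949120 IH) (Lpn v45358))
theorem f975021 : Led Lsl_gt (LP (LK LD1_c15 LD2_c3 LD3_c34)) = v45358 :=
  Lgr Lrot112 (Lpe (f54803 IH) (Lpr_et (K27.f54802 IH) (Lpe (K17.f54798 IH) (Lpr_ef (K1.f54777 IH) (Lpr_dt (K56.f54800 IH) (Lpe (K74.f54801 IH) (Lpr_df (f881386 IH) (Lpqs (f975018 IH) (Lpe (f751068 IH) (Lpr_ef (f933837 IH) (Lpr_dt (f949121 IH) (Lpn v45358))))))))))))
theorem f306802 : Led Lsl_ft (LP (LK LD1_c5 LD2_c31 LD3_c58)) = (LP (LK LD1_c8 LD2_c57 LD3_c35)) :=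
  Lgr Lrot48 (Lpr_ff (K19.f306798 IH) (Lpn (LP (LK LD1_c8 LD2_c57 LD3_c35))))
theorem f306792 : Led Lsl_bt (LP (LK LD1_c8 LD2_c57 LD3_c35)) = (LP (LK LD1_c16 LD2_c46 LD3_c23)) :=
  Lre_b IH (LK LD1_c8 LD2_c57 LD3_c35) (LK LD1_c16 LD2_c46 LD3_c23) Lrfl Lrfl
theorem f405940 : Led Lsl_ff (LP (LK LD1_c10 LD2_c55 LD3_c33)) = (LP (LK LD1_c16 LD2_c46 LD3_c23)) :=
  Lgr Lrot25 (Lpr_bt (K72.f183106 IH) (Lpr_ft (f306802 IH) (Lpr_bt (f306792 IH) (Lpn (LP (LK LD1_c16 LD2_c46 LD3_c23))))))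
theorem f975022 : Led Lsl_gf (LP (LK LD1_c15 LD2_c3 LD3_c34)) = (LP (LK LD1_c16 LD2_c46 LD3_c23)) :=
  Lgr Lrot47 (Lpr_gt (f975021 IH) (Lpe (f949118 IH) (Lpr_ff (f405940 IH) (Lpn (LP (LK LD1_c16 LD2_c46 LD3_c23))))))
theorem f975023 : Led Lsl_gt (LP (LK LD1_c16 LD2_c46 LD3_c23)) = (LP (LK LD1_c15 LD2_c3 LD3_c34)) :=
  Leop (Lpr_gf (f975022 IH) (Lpn (LP (LK LD1_c16 LD2_c46 LD3_c23))))
theorem seed_3012 : LEOK LG_g (LK LD1_c16 LD2_c46 LD3_c23) :=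
  Leoe_g (LK LD1_c16 LD2_c46 LD3_c23) (f975023 IH)
def v35916 : LQ := Led Lsl_at (LP (LK LD1_c8 LD2_c12 LD3_c51))
theorem f881112 : Led Lsl_at (LP (LK LD1_c8 LD2_c12 LD3_c51)) = v35916 :=
  Lrfl
def v35963 : LQ := Led Lsl_ft (LP (LK LD1_c8 LD2_c14 LD3_c36))
theorem f881378 : Led Lsl_ft (LP (LK LD1_c8 LD2_c14 LD3_c36)) = v35963 :=
  Lrfl
theorem f881380 : Led Lsl_ff (LP (LK LD1_c8 LD2_c14 LD3_c36)) = v35963 :=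
  Lgr Lrot3 (Lpr_ft (f881378 IH) (Lpn v35963))
theorem f881113 : Led Lsl_af (LP (LK LD1_c8 LD2_c12 LD3_c51)) = v35916 :=
  Lgr Lrot0 (Lpr_at (f881112 IH) (Lpn v35916))
def v12337 : LQ := Led Lsl_gt (LP (LK LD1_c4 LD2_c6 LD3_c2))
theorem f691590 : Led Lsl_gt (LP (LK LD1_c4 LD2_c6 LD3_c2)) = v12337 :=
  Lrfl
theorem f55466 : Led Lsl_at (LP (LK LD1_c4 LD2_c7 LD3_c0)) = (LP (LK LD1_c8 LD2_c14 LD3_c35)) :=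
  Lre_a IH (LK LD1_c4 LD2_c7 LD3_c0) (LK LD1_c8 LD2_c14 LD3_c35) Lrfl Lrfl
theorem f691591 : Led Lsl_gf (LP (LK LD1_c8 LD2_c14 LD3_c35)) = v12337 :=
  Lgr Lrot76 (Lpe (f55466 IH) (Lpr_ff (K1.f55463 IH) (Lpr_gt (f691590 IH) (Lpn v12337))))
theorem f881117 : Led Lsl_ft v12337 = v35916 :=
  Lgr Lrot2 (Lpe (f691591 IH) (Lpr_gt (K49.f691600 IH) (Lpr_af (f881113 IH) (Lpn v35916))))
def v50302 : LQ := Led Lsl_at (LP (LK LD1_c11 LD2_c54 LD3_c45))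
theorem f975136 : Led Lsl_at (LP (LK LD1_c11 LD2_c54 LD3_c45)) = v50302 :=
  Lrfl
def v42373 : LQ := Led Lsl_gt (LP (LK LD1_c10 LD2_c11 LD3_c13))
theorem f933709 : Led Lsl_gt (LP (LK LD1_c10 LD2_c11 LD3_c13)) = v42373 :=
  Lrfl
theorem f975141 : Led Lsl_gt v42373 = v50302 :=
  Lgr Lrot46 (Lpe (f933709 IH) (Lpe (K17.f291590 IH) (Lpr_at (f975136 IH) (Lpn v50302))))
def v50301 : LQ := Led Lsl_gf (LP (LK LD1_c11 LD2_c54 LD3_c45))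
theorem f975121 : Led Lsl_gf (LP (LK LD1_c11 LD2_c54 LD3_c45)) = v50301 :=
  Lrfl
theorem f184915 : Led Lsl_bt (LP (LK LD1_c18 LD2_c41 LD3_c59)) = (LP (LK LD1_c10 LD2_c17 LD3_c7)) :=
  Lre_b IH (LK LD1_c18 LD2_c41 LD3_c59) (LK LD1_c10 LD2_c17 LD3_c7) Lrfl Lrfl
theorem f975124 : Led Lsl_ct (LP (LK LD1_c18 LD2_c41 LD3_c59)) = v50301 :=
  Lgr Lrot64 (Lpr_bt (f184915 IH) (Lpe (K72.f184907 IH) (Lpe (K18.f184906 IH) (Lpr_ct (K10.f184905 IH) (Lpr_gf (K10.f184894 IH) (Lpe (K10.f181176 IH) (Lpe (K14.f181192 IH) (Lpe (K17.f183476 IH) (Lpr_ct (K17.f184916 IH) (Lpr_gf (f975121 IH) (Lpn v50301)))))))))))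
def v44311 : LQ := Led Lsl_bt (LP (LK LD1_c10 LD2_c43 LD3_c13))
theorem f944685 : Led Lsl_bt (LP (LK LD1_c10 LD2_c43 LD3_c13)) = v44311 :=
  Lrfl
theorem f944688 : Led Lsl_ff (LP (LK LD1_c18 LD2_c41 LD3_c59)) = v44311 :=
  Lgr Lrot25 (Lpr_bt (f184915 IH) (Lpq (K72.f924253 IH) (Lpe (K74.f924174 IH) (Lpqs (K72.f924352 IH) (Lpr_bt (f944685 IH) (Lpn v44311))))))
theorem f944686 : Led Lsl_bf (LP (LK LD1_c10 LD2_c43 LD3_c13)) = v44311 :=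
  Lgr Lrot24 (Lpr_bt (f944685 IH) (Lpn v44311))
theorem f182496 : Led Lsl_bt (LP (LK LD1_c5 LD2_c10 LD3_c27)) = (LP (LK LD1_c2 LD2_c32 LD3_c17)) :=
  Lre_b IH (LK LD1_c5 LD2_c10 LD3_c27) (LK LD1_c2 LD2_c32 LD3_c17) Lrfl Lrfl
theorem f182499 : Led Lsl_ct (LP (LK LD1_c5 LD2_c10 LD3_c27)) = (LP (LK LD1_c10 LD2_c11 LD3_c13)) :=
  Lre_c IH (LK LD1_c5 LD2_c10 LD3_c27) (LK LD1_c10 LD2_c11 LD3_c13) Lrfl Lrfl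
def v42374 : LQ := Led Lsl_gf (LP (LK LD1_c10 LD2_c11 LD3_c13))
theorem f933712 : Led Lsl_gf (LP (LK LD1_c10 LD2_c11 LD3_c13)) = v42374 :=
  Lrfl
theorem f944691 : Led Lsl_cf v42374 = v44311 :=
  Lgr Lrot160 (Lpe (f933712 IH) (Lpe (f182499 IH) (Lpr_bt (f182496 IH) (Lpe (K11.f182494 IH) (Lpr_ct (K9.f182493 IH) (Lpe (K12.f195601 IH) (Lpe (K18.f183043 IH) (Lpr_bt (K18.f195702 IH) (Lpr_gt (K72.f195703 IH) (Lpr_bf (f944686 IH) (Lpn v44311)))))))))))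
theorem f944692 : Led Lsl_ct v42374 = v44311 :=
  Lgr Lrot59 (Lpr_cf (f944691 IH) (Lpn v44311))
theorem f975127 : Led Lsl_ff v42374 = v50301 :=
  Lgr Lrot23 (Lpr_ct (f944692 IH) (Lpe (f944688 IH) (Lpr_ct (f975124 IH) (Lpn v50301))))
theorem f975129 : Led Lsl_ft v42374 = v50301 :=
  Lgr Lrot48 (Lpr_ff (f975127 IH) (Lpn v50301))
theorem f975132 : Led Lsl_af v42373 = v50301 :=
  Lgr Lrot31 (Lpe (f933709 IH) (Lpr_gf (f933712 IH) (Lpr_ft (f975129 IH) (Lpn v50301))))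
def v50300 : LQ := Led Lsl_gt (LP (LK LD1_c11 LD2_c54 LD3_c45))
theorem f975115 : Led Lsl_gt (LP (LK LD1_c11 LD2_c54 LD3_c45)) = v50300 :=
  Lrfl
theorem f975130 : Led Lsl_at v42374 = v50300 :=
  Lgr Lrot26 (Lpr_ff (f975127 IH) (Lpe (f975121 IH) (Lpr_gt (f975115 IH) (Lpn v50300))))
theorem f975131 : Led Lsl_af v42374 = v50300 :=
  Lgr Lrot0 (Lpr_at (f975130 IH) (Lpn v50300))
theorem f975134 : Led Lsl_ft v42373 = v50300 :=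
  Lgr Lrot101 (Lpr_af (f975132 IH) (Lpe (f975129 IH) (Lpr_af (f975131 IH) (Lpn v50300))))
theorem f975142 : Led Lsl_gf v42374 = v50302 :=
  Lgr Lrot76 (Lpr_af (f975131 IH) (Lpe (f975134 IH) (Lpr_gt (f975141 IH) (Lpn v50302))))
theorem f975143 : Led Lsl_ct v16681 = v50302 :=
  Lgr Lrot91 (Lpe (f751065 IH) (Lpe (f975006 IH) (Lpr_ct (f975005 IH) (Lpe (f974616 IH) (Lpe (f929994 IH) (Lpr_bt (f723155 IH) (Lpe (K72.f723151 IH) (Lpr_bf (f944686 IH) (Lpe (f944691 IH) (Lpr_gf (f975142 IH) (Lpn v50302)))))))))))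
theorem f975017 : Led Lsl_ff v35965 = v14446 :=
  Lgr Lrot3 (Lpr_ft (f975015 IH) (Lpn v14446))
theorem f975019 : Led Lsl_af v14445 = v16680 :=
  Lgr Lrot45 (Lpe (f975008 IH) (Lpr_at (f975011 IH) (Lpe (f975017 IH) (Lpqs (f975018 IH) (Lpn v16680)))))
theorem f881379 : Led Lsl_af (LP (LK LD1_c8 LD2_c14 LD3_c37)) = v35963 :=
  Lgr Lrot45 (Lpr_ft (f881373 IH) (Lpe (f881372 IH) (Lpr_ft (f881378 IH) (Lpn v35963))))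
theorem f975020 : Led Lsl_dt v14445 = v35963 :=
  Lgr Lrot44 (Lpr_af (f975019 IH) (Lpq (f975018 IH) (Lpe (f881385 IH) (Lpr_af (f881379 IH) (Lpn v35963)))))
theorem f184923 : Led Lsl_bt (LP (LK LD1_c10 LD2_c17 LD3_c7)) = (LP (LK LD1_c18 LD2_c41 LD3_c59)) :=
  Lre_b IH (LK LD1_c10 LD2_c17 LD3_c7) (LK LD1_c18 LD2_c41 LD3_c59) Lrfl Lrfl
theorem f924271 : Led Lsl_df (LP (LK LD1_c11 LD2_c58 LD3_c28)) = (LP (LK LD1_c18 LD2_c41 LD3_c59)) :=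
  Lgr Lrot12 (Lpr_bt (K73.f183481 IH) (Lpr_dt (K56.f752317 IH) (Lpqs (K72.f924253 IH) (Lpr_bt (f184923 IH) (Lpn (LP (LK LD1_c18 LD2_c41 LD3_c59)))))))
theorem f944689 : Led Lsl_dt (LP (LK LD1_c10 LD2_c45 LD3_c37)) = v44311 :=
  Lgr Lrot60 (Lpr_ff (K73.f924170 IH) (Lpr_df (f924271 IH) (Lpr_ff (f944688 IH) (Lpn v44311))))
theorem f55496 : Led Lsl_ct (LP (LK LD1_c8 LD2_c14 LD3_c35)) = (LP (LK LD1_c15 LD2_c30 LD3_c25)) :=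
  Lre_c IH (LK LD1_c8 LD2_c14 LD3_c35) (LK LD1_c15 LD2_c30 LD3_c25) Lrfl Lrfl
theorem f975144 : v35963 = v12337 :=
  (Llr Lrot6 (Lpe (f975020 IH) (Lpr_gt (f751065 IH) (Lpr_ct (f975143 IH) (Lpe (f975142 IH) (Lpr_ct (f944692 IH) (Lpe (f944689 IH) (Lpr_cf (K73.f198657 IH) (Lpe (K67.f881064 IH) (Lpe (f55496 IH) (Lpr_gf (f691591 IH) (Lpn v12337)))))))))))).symm
theorem f975147 : (LP (LK LD1_c8 LD2_c14 LD3_c36)) = v35916 :=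
  Lefun (Lecon (Lfl_ff (f881380 IH)) (f975144 IH)) (f881117 IH)
theorem f975149 : Led Lsl_at (LP (LK LD1_c8 LD2_c12 LD3_c51)) = (LP (LK LD1_c8 LD2_c14 LD3_c36)) :=
  Leop (Lpqs (f975147 IH) (Lpe (f881112 IH) (Lpn (LP (LK LD1_c8 LD2_c12 LD3_c51)))))
theorem seed_3013 : LEOK LG_a (LK LD1_c8 LD2_c12 LD3_c51) :=
  Leoe_a (LK LD1_c8 LD2_c12 LD3_c51) (f975149 IH)
theorem f54775 : Led Lsl_dt (LP (LK LD1_c4 LD2_c6 LD3_c61)) = (LP (LK LD1_c8 LD2_c14 LD3_c35)) :=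
  Lre_d IH (LK LD1_c4 LD2_c6 LD3_c61) (LK LD1_c8 LD2_c14 LD3_c35) Lrfl Lrfl
theorem f173666 : Led Lsl_et (LP (LK LD1_c10 LD2_c54 LD3_c35)) = (LP (LK LD1_c5 LD2_c31 LD3_c28)) :=
  Lre_e IH (LK LD1_c10 LD2_c54 LD3_c35) (LK LD1_c5 LD2_c31 LD3_c28) Lrfl Lrfl
theorem f173667 : Led Lsl_dt (LP (LK LD1_c10 LD2_c54 LD3_c35)) = (LP (LK LD1_c19 LD2_c42 LD3_c38)) :=
  Lre_d IH (LK LD1_c10 LD2_c54 LD3_c35) (LK LD1_c19 LD2_c42 LD3_c38) Lrfl Lrfl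
theorem f183124 : Led Lsl_et (LP (LK LD1_c10 LD2_c11 LD3_c31)) = (LP (LK LD1_c5 LD2_c10 LD3_c27)) :=
  Lre_e IH (LK LD1_c10 LD2_c11 LD3_c31) (LK LD1_c5 LD2_c10 LD3_c27) Lrfl Lrfl
def v45357 : LQ := Led Lsl_gf (LP (LK LD1_c10 LD2_c55 LD3_c33))
theorem f949117 : Led Lsl_gf (LP (LK LD1_c10 LD2_c55 LD3_c33)) = v45357 :=
  Lrfl
theorem f975182 : (LP (LK LD1_c19 LD2_c42 LD3_c38)) = v45357 :=
  (Llr Lrot136 (Lpe (f173667 IH) (Lpr_et (f173666 IH) (Lpe (K20.f173712 IH) (Lpr_ef (K1.f54757 IH) (Lpr_dt (f54775 IH) (Lpr_gf (f691591 IH) (Lpq (f975144 IH) (Lpe (f975020 IH) (Lpe (f722578 IH) (Lpe (f183124 IH) (Lpe (f183108 IH) (Lpr_gf (f949117 IH) (Lpn v45357)))))))))))))).symm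
theorem f975183 : Led Lsl_gt (LP (LK LD1_c19 LD2_c42 LD3_c38)) = (LP (LK LD1_c10 LD2_c55 LD3_c33)) :=
  Leop (Lpr_gf (f949117 IH) (Lpq (f975182 IH) (Lpn (LP (LK LD1_c19 LD2_c42 LD3_c38)))))
theorem seed_3014 : LEOK LG_g (LK LD1_c19 LD2_c42 LD3_c38) :=
  Leoe_g (LK LD1_c19 LD2_c42 LD3_c38) (f975183 IH)
def v50319 : LQ := Led Lsl_dt (LP (LK LD1_c11 LD2_c54 LD3_c49))
theorem f975230 : Led Lsl_dt (LP (LK LD1_c11 LD2_c54 LD3_c49)) = v50319 :=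
  Lrfl
theorem f184921 : Led Lsl_ct (LP (LK LD1_c20 LD2_c59 LD3_c29)) = (LP (LK LD1_c11 LD2_c54 LD3_c49)) :=
  Lre_c IH (LK LD1_c20 LD2_c59 LD3_c29) (LK LD1_c11 LD2_c54 LD3_c49) Lrfl Lrfl
theorem f192583 : Led Lsl_ct (LP (LK LD1_c5 LD2_c27 LD3_c7)) = (LP (LK LD1_c10 LD2_c45 LD3_c25)) :=
  Lre_c IH (LK LD1_c5 LD2_c27 LD3_c7) (LK LD1_c10 LD2_c45 LD3_c25) Lrfl Lrfl
def v44557 : LQ := Led Lsl_gt (LP (LK LD1_c10 LD2_c45 LD3_c25))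
theorem f946005 : Led Lsl_gt (LP (LK LD1_c10 LD2_c45 LD3_c25)) = v44557 :=
  Lrfl
theorem f975233 : Led Lsl_ct v44557 = v50319 :=
  Lgr Lrot151 (Lpe (f946005 IH) (Lpe (f192583 IH) (Lpr_gf (K72.f727206 IH) (Lpqs (K72.f924517 IH) (Lpe (K72.f722113 IH) (Lpr_gt (K72.f184907 IH) (Lpr_ct (K72.f184908 IH) (Lpr_gt (K72.f184912 IH) (Lpr_ct (f184921 IH) (Lpr_dt (f975230 IH) (Lpn v50319)))))))))))
theorem f924502 : Led Lsl_dt K72.v14902 = (LP (LK LD1_c10 LD2_c43 LD3_c15)) :=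
  Lgr Lrot42 (Lpr_df (K72.f924316 IH) (Lpn (LP (LK LD1_c10 LD2_c43 LD3_c15))))
theorem f575661 : Led Lsl_at (LP (LK LD1_c5 LD2_c55 LD3_c0)) = (LP (LK LD1_c11 LD2_c33 LD3_c47)) :=
  Lgr Lrot100 (Lpr_af (K72.f575658 IH) (Lpn (LP (LK LD1_c11 LD2_c33 LD3_c47))))
theorem f566983 : Led Lsl_ft (LP (LK LD1_c11 LD2_c35 LD3_c28)) = (LP (LK LD1_c5 LD2_c55 LD3_c0)) :=
  Lre_f IH (LK LD1_c11 LD2_c35 LD3_c28) (LK LD1_c5 LD2_c55 LD3_c0) Lrfl Lrfl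
theorem f822764 : Led Lsl_gt (LP (LK LD1_c11 LD2_c35 LD3_c28)) = K64.v24169 :=
  Lgr Lrot5 (Lpr_ft (f566983 IH) (Lpr_at (f575661 IH) (Lpr_gf (K64.f822763 IH) (Lpn K64.v24169))))
theorem f946006 : Led Lsl_df (LP (LK LD1_c11 LD2_c35 LD3_c28)) = v44557 :=
  Lgr Lrot153 (Lpr_gt (f822764 IH) (Lpe (K64.f822759 IH) (Lpqs (K72.f924150 IH) (Lpe (K72.f8928 IH) (Lpr_df (K72.f752333 IH) (Lpqs (K72.f924250 IH) (Lpr_gf (K72.f412696 IH) (Lpe (f924502 IH) (Lpe (K72.f727204 IH) (Lpe (K72.f727185 IH) (Lpr_gt (f946005 IH) (Lpn v44557))))))))))))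
theorem f946007 : Led Lsl_dt (LP (LK LD1_c11 LD2_c35 LD3_c28)) = v44557 :=
  Lgr Lrot42 (Lpr_df (f946006 IH) (Lpn v44557))
theorem f930561 : Led Lsl_ft (LP (LK LD1_c11 LD2_c33 LD3_c47)) = K72.v41976 :=
  Lgr Lrot48 (Lpr_ff (K72.f930557 IH) (Lpn K72.v41976))
theorem f930562 : Led Lsl_af (LP (LK LD1_c11 LD2_c35 LD3_c28)) = K72.v41976 :=
  Lgr Lrot45 (Lpr_ft (f566983 IH) (Lpr_at (f575661 IH) (Lpr_ft (f930561 IH) (Lpn K72.v41976))))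
theorem f930573 : Led Lsl_gf (LP (LK LD1_c11 LD2_c35 LD3_c28)) = K72.v41977 :=
  Lgr Lrot76 (Lpr_af (f930562 IH) (Lpe (f930561 IH) (Lpr_gt (K72.f930572 IH) (Lpn K72.v41977))))
theorem f923983 : Led Lsl_ct (LP (LK LD1_c18 LD2_c20 LD3_c14)) = (LP (LK LD1_c18 LD2_c41 LD3_c44)) :=
  Lgr Lrot59 (Lpr_cf (K71.f923979 IH) (Lpn (LP (LK LD1_c18 LD2_c41 LD3_c44))))
theorem f191186 : Led Lsl_bt (LP (LK LD1_c5 LD2_c18 LD3_c16)) = (LP (LK LD1_c10 LD2_c26 LD3_c4)) :=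
  Lre_b IH (LK LD1_c5 LD2_c18 LD3_c16) (LK LD1_c10 LD2_c26 LD3_c4) Lrfl Lrfl
theorem f191187 : Led Lsl_bt (LP (LK LD1_c5 LD2_c26 LD3_c43)) = (LP (LK LD1_c2 LD2_c39 LD3_c46)) :=
  Lre_b IH (LK LD1_c5 LD2_c26 LD3_c43) (LK LD1_c2 LD2_c39 LD3_c46) Lrfl Lrfl
theorem f191188 : Led Lsl_dt (LP (LK LD1_c5 LD2_c26 LD3_c52)) = (LP (LK LD1_c2 LD2_c39 LD3_c48)) :=
  Lre_d IH (LK LD1_c5 LD2_c26 LD3_c52) (LK LD1_c2 LD2_c39 LD3_c48) Lrfl Lrfl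
def v14873 : LQ := Led Lsl_gf (LP (LK LD1_c5 LD2_c26 LD3_c52))
theorem f727030 : Led Lsl_gf (LP (LK LD1_c5 LD2_c26 LD3_c52)) = v14873 :=
  Lrfl
theorem f413056 : Led Lsl_bt (LP (LK LD1_c6 LD2_c5 LD3_c38)) = (LP (LK LD1_c11 LD2_c54 LD3_c49)) :=
  Lre_b IH (LK LD1_c6 LD2_c5 LD3_c38) (LK LD1_c11 LD2_c54 LD3_c49) Lrfl Lrfl
def v16686 : LQ := Led Lsl_dt (LP (LK LD1_c6 LD2_c5 LD3_c38))
theorem f751087 : Led Lsl_dt (LP (LK LD1_c6 LD2_c5 LD3_c38)) = v16686 :=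
  Lrfl
theorem f751088 : Led Lsl_df (LP (LK LD1_c6 LD2_c5 LD3_c38)) = v16686 :=
  Lgr Lrot38 (Lpr_dt (f751087 IH) (Lpn v16686))
theorem f975231 : Led Lsl_bf v16686 = v50319 :=
  Lgr Lrot93 (Lpe (f751088 IH) (Lpr_bt (f413056 IH) (Lpr_dt (f975230 IH) (Lpn v50319))))
theorem f975235 : v14873 = v16686 :=
  (Llr Lrot85 (Lpe (f727030 IH) (Lpr_dt (f191188 IH) (Lpr_ct (K71.f182547 IH) (Lpr_bt (f191187 IH) (Lpe (K10.f191177 IH) (Lpr_dt (K10.f165903 IH) (Lpr_ct (K16.f165904 IH) (Lpr_bt (f191186 IH) (Lpr_gt (K72.f181053 IH) (Lpe (K73.f603668 IH) (Lpr_ct (f923983 IH) (Lpe (K72.f923987 IH) (Lpr_gt (K72.f180612 IH) (Lpr_dt (K53.f180626 IH) (Lpr_ct (K53.f721218 IH) (Lpr_bt (K72.f930576 IH) (Lpe (f930573 IH) (Lpr_dt (f946007 IH) (Lpr_ct (f975233 IH) (Lpe (f975231 IH) (Lpn v16686)))))))))))))))))))))).symm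
theorem f409504 : Led Lsl_at (LP (LK LD1_c6 LD2_c5 LD3_c39)) = (LP (LK LD1_c2 LD2_c58 LD3_c54)) :=
  Lre_a IH (LK LD1_c6 LD2_c5 LD3_c39) (LK LD1_c2 LD2_c58 LD3_c54) Lrfl Lrfl
theorem f409509 : Led Lsl_gf (LP (LK LD1_c6 LD2_c5 LD3_c38)) = (LP (LK LD1_c5 LD2_c26 LD3_c16)) :=
  Lgr Lrot47 (Lpr_gt (K72.f184909 IH) (Lpe (f409504 IH) (Lpr_ff (K56.f409471 IH) (Lpn (LP (LK LD1_c5 LD2_c26 LD3_c16))))))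
def v50292 : LQ := Led Lsl_dt (LP (LK LD1_c11 LD2_c54 LD3_c35))
theorem f975069 : Led Lsl_dt (LP (LK LD1_c11 LD2_c54 LD3_c35)) = v50292 :=
  Lrfl
theorem f182544 : Led Lsl_ct (LP (LK LD1_c5 LD2_c26 LD3_c43)) = (LP (LK LD1_c2 LD2_c39 LD3_c48)) :=
  Lre_c IH (LK LD1_c5 LD2_c26 LD3_c43) (LK LD1_c2 LD2_c39 LD3_c48) Lrfl Lrfl
theorem f182545 : Led Lsl_dt (LP (LK LD1_c10 LD2_c44 LD3_c35)) = (LP (LK LD1_c5 LD2_c26 LD3_c43)) :=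
  Lre_d IH (LK LD1_c10 LD2_c44 LD3_c35) (LK LD1_c5 LD2_c26 LD3_c43) Lrfl Lrfl
theorem f182546 : Led Lsl_gt (LP (LK LD1_c19 LD2_c26 LD3_c0)) = (LP (LK LD1_c10 LD2_c44 LD3_c35)) :=
  Lre_g IH (LK LD1_c19 LD2_c26 LD3_c0) (LK LD1_c10 LD2_c44 LD3_c35) Lrfl Lrfl
theorem f975237 : v50292 = (LP (LK LD1_c19 LD2_c26 LD3_c0)) :=
  (Llr Lrot57 (Lpe (f975069 IH) (Lpr_gf (K67.f409481 IH) (Lpe (K53.f409478 IH) (Lpe (f409509 IH) (Lpr_dt (f751087 IH) (Lpq (f975235 IH) (Lpe (f727030 IH) (Lpr_dt (f191188 IH) (Lpe (f182544 IH) (Lpe (f182545 IH) (Lpe (f182546 IH) (Lpn (LP (LK LD1_c19 LD2_c26 LD3_c0))))))))))))))).symm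
theorem f975070 : Led Lsl_df (LP (LK LD1_c11 LD2_c54 LD3_c35)) = v50292 :=
  Lgr Lrot38 (Lpr_dt (f975069 IH) (Lpn v50292))
theorem f975238 : Led Lsl_dt (LP (LK LD1_c19 LD2_c26 LD3_c0)) = (LP (LK LD1_c11 LD2_c54 LD3_c35)) :=
  Leop (Lpr_df (f975070 IH) (Lpqs (f975237 IH) (Lpn (LP (LK LD1_c19 LD2_c26 LD3_c0)))))
theorem seed_3015 : LEOK LG_d (LK LD1_c19 LD2_c26 LD3_c0) :=
  Leoe_d (LK LD1_c19 LD2_c26 LD3_c0) (f975238 IH)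
def v50348 : LQ := Led Lsl_gt (LP (LK LD1_c11 LD2_c55 LD3_c12))
theorem f975381 : Led Lsl_gt (LP (LK LD1_c11 LD2_c55 LD3_c12)) = v50348 :=
  Lrfl
theorem f184972 : Led Lsl_ct (LP (LK LD1_c6 LD2_c5 LD3_c53)) = (LP (LK LD1_c11 LD2_c55 LD3_c12)) :=
  Lre_c IH (LK LD1_c6 LD2_c5 LD3_c53) (LK LD1_c11 LD2_c55 LD3_c12) Lrfl Lrfl
def v42807 : LQ := Led Lsl_bt (LP (LK LD1_c10 LD2_c17 LD3_c8))
theorem f936029 : Led Lsl_bt (LP (LK LD1_c10 LD2_c17 LD3_c8)) = v42807 :=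
  Lrfl
theorem f936030 : Led Lsl_bf (LP (LK LD1_c10 LD2_c17 LD3_c8)) = v42807 :=
  Lgr Lrot24 (Lpr_bt (f936029 IH) (Lpn v42807))
theorem f975383 : Led Lsl_ct v42807 = v50348 :=
  Lgr Lrot63 (Lpe (f936030 IH) (Lpr_gt (K72.f184965 IH) (Lpe (K18.f184906 IH) (Lpr_ct (K10.f184905 IH) (Lpr_gt (K10.f184926 IH) (Lpe (K10.f177791 IH) (Lpr_bt (K56.f179047 IH) (Lpr_gt (K56.f179062 IH) (Lpr_ct (f184972 IH) (Lpr_gt (f975381 IH) (Lpn v50348)))))))))))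
theorem f304284 : Led Lsl_et (LP (LK LD1_c4 LD2_c29 LD3_c22)) = (LP (LK LD1_c8 LD2_c56 LD3_c60)) :=
  Lre_e IH (LK LD1_c4 LD2_c29 LD3_c22) (LK LD1_c8 LD2_c56 LD3_c60) Lrfl Lrfl
theorem f320194 : Led Lsl_et (LP (LK LD1_c5 LD2_c30 LD3_c49)) = (LP (LK LD1_c2 LD2_c41 LD3_c37)) :=
  Lre_e IH (LK LD1_c5 LD2_c30 LD3_c49) (LK LD1_c2 LD2_c41 LD3_c37) Lrfl Lrfl
theorem f320195 : Led Lsl_af (LP (LK LD1_c4 LD2_c29 LD3_c22)) = (LP (LK LD1_c2 LD2_c41 LD3_c37)) :=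
  Lgr Lrot50 (Lpr_et (f304284 IH) (Lpr_at (K20.f320191 IH) (Lpr_et (f320194 IH) (Lpn (LP (LK LD1_c2 LD2_c41 LD3_c37))))))
theorem f353343 : Led Lsl_at (LP (LK LD1_c2 LD2_c41 LD3_c40)) = (LP (LK LD1_c4 LD2_c11 LD3_c23)) :=
  Lgr Lrot66 (Lpr_ff (K65.f353341 IH) (Lpr_af (f320195 IH) (Lpe (K20.f320205 IH) (Lpn (LP (LK LD1_c4 LD2_c11 LD3_c23))))))
theorem f353339 : Led Lsl_ef (LP (LK LD1_c2 LD2_c41 LD3_c40)) = (LP (LK LD1_c2 LD2_c40 LD3_c54)) :=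
  Lgr Lrot88 (Lpr_et (K65.f353332 IH) (Lpn (LP (LK LD1_c2 LD2_c40 LD3_c54))))
theorem f353404 : Led Lsl_af (LP (LK LD1_c2 LD2_c40 LD3_c54)) = (LP (LK LD1_c2 LD2_c39 LD3_c22)) :=
  Lgr Lrot50 (Lpe (f353339 IH) (Lpr_at (f353343 IH) (Lpe (K18.f195722 IH) (Lpn (LP (LK LD1_c2 LD2_c39 LD3_c22))))))
theorem f823173 : Led Lsl_bf (LP (LK LD1_c10 LD2_c43 LD3_c15)) = K65.v24273 :=
  Lgr Lrot81 (Lpr_at (K72.f195729 IH) (Lpr_bt (K18.f195603 IH) (Lpe (f353404 IH) (Lpr_bt (K65.f638344 IH) (Lpr_at (K65.f823171 IH) (Lpn K65.v24273))))))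
theorem f974824 : Led Lsl_at K74.v14745 = v50248 :=
  Lgr Lrot107 (Lpe (K74.f726448 IH) (Lpr_af (K65.f823172 IH) (Lpr_cf (f974823 IH) (Lpn v50248))))
theorem f974829 : Led Lsl_gt (LP (LK LD1_c18 LD2_c22 LD3_c13)) = v50248 :=
  Lgr Lrot46 (Lpe (K68.f184640 IH) (Lpr_ft (K74.f726449 IH) (Lpr_at (f974824 IH) (Lpn v50248))))
theorem f929508 : Led Lsl_ft (LP (LK LD1_c11 LD2_c55 LD3_c12)) = (LP (LK LD1_c10 LD2_c43 LD3_c17)) :=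
  Lgr Lrot48 (Lpr_ff (f929471 IH) (Lpn (LP (LK LD1_c10 LD2_c43 LD3_c17))))
theorem f975382 : Led Lsl_gf (LP (LK LD1_c11 LD2_c55 LD3_c14)) = v50348 :=
  Lgr Lrot76 (Lpr_af (f929456 IH) (Lpe (f929508 IH) (Lpr_gt (f975381 IH) (Lpn v50348))))
theorem f751148 : Led Lsl_bt (LP (LK LD1_c6 LD2_c5 LD3_c54)) = (LP (LK LD1_c11 LD2_c55 LD3_c13)) :=
  Lre_b IH (LK LD1_c6 LD2_c5 LD3_c54) (LK LD1_c11 LD2_c55 LD3_c13) Lrfl Lrfl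
theorem f923779 : Led Lsl_gt (LP (LK LD1_c11 LD2_c55 LD3_c13)) = (LP (LK LD1_c21 LD2_c0 LD3_c4)) :=
  Lre_g IH (LK LD1_c11 LD2_c55 LD3_c13) (LK LD1_c21 LD2_c0 LD3_c4) Lrfl Lrfl
theorem f975386 : Led Lsl_cf (LP (LK LD1_c18 LD2_c22 LD3_c13)) = (LP (LK LD1_c21 LD2_c0 LD3_c4)) :=
  Lgr Lrot125 (Lpr_gt (f974829 IH) (Lpe (f974822 IH) (Lpe (f823173 IH) (Lpe (K72.f412696 IH) (Lpr_bf (f936030 IH) (Lpr_ct (f975383 IH) (Lpe (f975382 IH) (Lpe (K72.f409752 IH) (Lpr_bt (f751148 IH) (Lpr_gt (f923779 IH) (Lpn (LP (LK LD1_c21 LD2_c0 LD3_c4)))))))))))))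
theorem f975387 : Led Lsl_ct (LP (LK LD1_c21 LD2_c0 LD3_c4)) = (LP (LK LD1_c18 LD2_c22 LD3_c13)) :=
  Leop (Lpr_cf (f975386 IH) (Lpn (LP (LK LD1_c21 LD2_c0 LD3_c4))))
theorem seed_3016 : LEOK LG_c (LK LD1_c21 LD2_c0 LD3_c4) :=
  Leoe_c (LK LD1_c21 LD2_c0 LD3_c4) (f975387 IH)
theorem f974946 : Led Lsl_ft (LP (LK LD1_c18 LD2_c22 LD3_c13)) = v50275 :=
  Lgr Lrot48 (Lpr_ff (f974944 IH) (Lpn v50275))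
theorem f974950 : Led Lsl_cf (LP (LK LD1_c19 LD2_c24 LD3_c19)) = v50275 :=
  Lgr Lrot11 (Lpr_ct (f974949 IH) (Lpn v50275))
theorem f975391 : Led Lsl_ft (LP (LK LD1_c19 LD2_c24 LD3_c19)) = (LP (LK LD1_c21 LD2_c0 LD3_c4)) :=
  Lgr Lrot4 (Lpr_cf (f974950 IH) (Lpe (f974946 IH) (Lpr_cf (f975386 IH) (Lpn (LP (LK LD1_c21 LD2_c0 LD3_c4))))))
theorem f975392 : Led Lsl_ft (LP (LK LD1_c19 LD2_c24 LD3_c19)) = (LP (LK LD1_c21 LD2_c0 LD3_c4)) :=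
  Leop (Lpe (f975391 IH) (Lpn (LP (LK LD1_c19 LD2_c24 LD3_c19))))
theorem seed_3017 : LEOK LG_f (LK LD1_c19 LD2_c24 LD3_c19) :=
  Leoe_f (LK LD1_c19 LD2_c24 LD3_c19) (f975392 IH)
theorem f198731 : Led Lsl_bt (LP (LK LD1_c5 LD2_c26 LD3_c14)) = (LP (LK LD1_c10 LD2_c43 LD3_c44)) :=
  Lre_b IH (LK LD1_c5 LD2_c26 LD3_c14) (LK LD1_c10 LD2_c43 LD3_c44) Lrfl Lrfl
theorem f198725 : Led Lsl_gt (LP (LK LD1_c19 LD2_c24 LD3_c53)) = (LP (LK LD1_c10 LD2_c43 LD3_c44)) :=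
  Lre_g IH (LK LD1_c19 LD2_c24 LD3_c53) (LK LD1_c10 LD2_c43 LD3_c44) Lrfl Lrfl
theorem f975393 : Led Lsl_bf (LP (LK LD1_c19 LD2_c24 LD3_c53)) = (LP (LK LD1_c21 LD2_c0 LD3_c4)) :=
  Lgr Lrot156 (Lpr_gt (f198725 IH) (Lpe (f198731 IH) (Lpr_ct (K72.f198740 IH) (Lpr_gt (K72.f198745 IH) (Lpr_cf (K72.f930196 IH) (Lpe (K72.f930193 IH) (Lpr_gt (K72.f198748 IH) (Lpr_ct (K68.f198724 IH) (Lpr_gt (K68.f184640 IH) (Lpr_cf (f975386 IH) (Lpn (LP (LK LD1_c21 LD2_c0 LD3_c4)))))))))))))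
theorem f974955 : Led Lsl_bf (LP (LK LD1_c19 LD2_c24 LD3_c19)) = (LP (LK LD1_c20 LD2_c59 LD3_c24)) :=
  Lgr Lrot24 (Lpr_bt (f974953 IH) (Lpn (LP (LK LD1_c20 LD2_c59 LD3_c24))))
theorem f975397 : Led Lsl_ft (LP (LK LD1_c19 LD2_c24 LD3_c53)) = (LP (LK LD1_c20 LD2_c59 LD3_c24)) :=
  Lgr Lrot75 (Lpr_bf (f975393 IH) (Lpe (f975391 IH) (Lpr_bf (f974955 IH) (Lpn (LP (LK LD1_c20 LD2_c59 LD3_c24))))))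
theorem f975399 : Led Lsl_ff (LP (LK LD1_c19 LD2_c24 LD3_c53)) = (LP (LK LD1_c20 LD2_c59 LD3_c24)) :=
  Lgr Lrot3 (Lpr_ft (f975397 IH) (Lpn (LP (LK LD1_c20 LD2_c59 LD3_c24))))
def v50303 : LQ := Led Lsl_gt (LP (LK LD1_c11 LD2_c54 LD3_c46))
theorem f975186 : Led Lsl_gt (LP (LK LD1_c11 LD2_c54 LD3_c46)) = v50303 :=
  Lrfl
theorem f975409 : Led Lsl_at (LP (LK LD1_c19 LD2_c24 LD3_c53)) = v50303 :=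
  Lgr Lrot26 (Lpr_ff (f975399 IH) (Lpr_gt (f183389 IH) (Lpr_gt (f975186 IH) (Lpn v50303))))
def v44363 : LQ := Led Lsl_gt (LP (LK LD1_c10 LD2_c43 LD3_c44))
theorem f944905 : Led Lsl_gt (LP (LK LD1_c10 LD2_c43 LD3_c44)) = v44363 :=
  Lrfl
theorem f975401 : Led Lsl_af v44363 = (LP (LK LD1_c20 LD2_c59 LD3_c24)) :=
  Lgr Lrot31 (Lpe (f944905 IH) (Lpe (f198725 IH) (Lpr_ft (f975397 IH) (Lpn (LP (LK LD1_c20 LD2_c59 LD3_c24))))))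
theorem f975402 : Led Lsl_at v44363 = (LP (LK LD1_c20 LD2_c59 LD3_c24)) :=
  Lgr Lrot100 (Lpr_af (f975401 IH) (Lpn (LP (LK LD1_c20 LD2_c59 LD3_c24))))
theorem f975412 : Led Lsl_ff v44363 = v50303 :=
  Lgr Lrot30 (Lpr_at (f975402 IH) (Lpe (f975399 IH) (Lpr_at (f975409 IH) (Lpn v50303))))
theorem f975415 : Led Lsl_ft v44363 = v50303 :=
  Lgr Lrot48 (Lpr_ff (f975412 IH) (Lpn v50303))
theorem f177401 : Led Lsl_bt (LP (LK LD1_c15 LD2_c27 LD3_c9)) = (LP (LK LD1_c8 LD2_c12 LD3_c51)) :=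
  Lre_b IH (LK LD1_c15 LD2_c27 LD3_c9) (LK LD1_c8 LD2_c12 LD3_c51) Lrfl Lrfl
theorem f881114 : Led Lsl_at (LP (LK LD1_c25 LD2_c18 LD3_c53)) = (LP (LK LD1_c15 LD2_c27 LD3_c9)) :=
  Lre_a IH (LK LD1_c25 LD2_c18 LD3_c53) (LK LD1_c15 LD2_c27 LD3_c9) Lrfl Lrfl
theorem f974987 : Led Lsl_at (LP (LK LD1_c15 LD2_c30 LD3_c26)) = (LP (LK LD1_c21 LD2_c1 LD3_c32)) :=
  Lgr Lrot100 (Lpr_af (f974985 IH) (Lpn (LP (LK LD1_c21 LD2_c1 LD3_c32))))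
theorem f975168 : Led Lsl_bf (LP (LK LD1_c25 LD2_c18 LD3_c53)) = (LP (LK LD1_c21 LD2_c1 LD3_c32)) :=
  Lgr Lrot81 (Lpr_at (f881114 IH) (Lpr_bt (f177401 IH) (Lpr_at (f881112 IH) (Lpq (f975147 IH) (Lpr_bt (K73.f495519 IH) (Lpr_at (f974987 IH) (Lpn (LP (LK LD1_c21 LD2_c1 LD3_c32)))))))))
theorem f975172 : Led Lsl_dt (LP (LK LD1_c25 LD2_c18 LD3_c53)) = (LP (LK LD1_c20 LD2_c59 LD3_c24)) :=
  Lgr Lrot79 (Lpr_bf (f975168 IH) (Lpe (f974958 IH) (Lpr_bf (f974955 IH) (Lpn (LP (LK LD1_c20 LD2_c59 LD3_c24))))))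
theorem f881116 : Led Lsl_at (LP (LK LD1_c15 LD2_c27 LD3_c9)) = (LP (LK LD1_c25 LD2_c18 LD3_c53)) :=
  Lre_a IH (LK LD1_c15 LD2_c27 LD3_c9) (LK LD1_c25 LD2_c18 LD3_c53) Lrfl Lrfl
theorem f975404 : Led Lsl_dt v44363 = (LP (LK LD1_c15 LD2_c27 LD3_c9)) :=
  Lgr Lrot44 (Lpr_af (f975401 IH) (Lpe (f975172 IH) (Lpe (f881116 IH) (Lpn (LP (LK LD1_c15 LD2_c27 LD3_c9))))))
theorem f975406 : Led Lsl_df v44363 = (LP (LK LD1_c15 LD2_c27 LD3_c9)) :=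
  Lgr Lrot38 (Lpr_dt (f975404 IH) (Lpn (LP (LK LD1_c15 LD2_c27 LD3_c9))))
def v35919 : LQ := Led Lsl_ft (LP (LK LD1_c8 LD2_c12 LD3_c51))
theorem f881123 : Led Lsl_ft (LP (LK LD1_c8 LD2_c12 LD3_c51)) = v35919 :=
  Lrfl
theorem f881125 : Led Lsl_ff (LP (LK LD1_c8 LD2_c12 LD3_c51)) = v35919 :=
  Lgr Lrot3 (Lpr_ft (f881123 IH) (Lpn v35919))
theorem f881118 : Led Lsl_ff v12337 = v35916 :=
  Lgr Lrot3 (Lpr_ft (f881117 IH) (Lpn v35916))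
theorem f881126 : Led Lsl_at v12337 = v35919 :=
  Lgr Lrot66 (Lpr_ff (f881118 IH) (Lpe (f881112 IH) (Lpr_ff (f881125 IH) (Lpn v35919))))
theorem f975145 : (LP (LK LD1_c8 LD2_c14 LD3_c37)) = v35919 :=
  Lefun (Lecon (Lfl_af (f881379 IH)) (f975144 IH)) (f881126 IH)
theorem f55595 : Led Lsl_bt (LP (LK LD1_c15 LD2_c30 LD3_c28)) = (LP (LK LD1_c8 LD2_c14 LD3_c37)) :=
  Lre_b IH (LK LD1_c15 LD2_c30 LD3_c28) (LK LD1_c8 LD2_c14 LD3_c37) Lrfl Lrfl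
theorem f881115 : Led Lsl_bt (LP (LK LD1_c8 LD2_c12 LD3_c51)) = (LP (LK LD1_c15 LD2_c27 LD3_c9)) :=
  Lre_b IH (LK LD1_c8 LD2_c12 LD3_c51) (LK LD1_c15 LD2_c27 LD3_c9) Lrfl Lrfl
theorem f975154 : Led Lsl_ff (LP (LK LD1_c15 LD2_c30 LD3_c28)) = (LP (LK LD1_c15 LD2_c27 LD3_c9)) :=
  Lgr Lrot25 (Lpr_bt (f55595 IH) (Lpqs (f975145 IH) (Lpe (f881125 IH) (Lpr_bt (f881115 IH) (Lpn (LP (LK LD1_c15 LD2_c27 LD3_c9)))))))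
theorem f975158 : Led Lsl_ft (LP (LK LD1_c15 LD2_c30 LD3_c28)) = (LP (LK LD1_c15 LD2_c27 LD3_c9)) :=
  Lgr Lrot48 (Lpr_ff (f975154 IH) (Lpn (LP (LK LD1_c15 LD2_c27 LD3_c9))))
theorem f975416 : Led Lsl_df (LP (LK LD1_c15 LD2_c30 LD3_c28)) = v50303 :=
  Lgr Lrot78 (Lpr_ft (f975158 IH) (Lpe (f975406 IH) (Lpr_ft (f975415 IH) (Lpn v50303))))
theorem f396496 : Led Lsl_dt (LP (LK LD1_c21 LD2_c1 LD3_c11)) = (LP (LK LD1_c11 LD2_c56 LD3_c21)) :=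
  Lre_d IH (LK LD1_c21 LD2_c1 LD3_c11) (LK LD1_c11 LD2_c56 LD3_c21) Lrfl Lrfl
theorem f183396 : Led Lsl_cf (LP (LK LD1_c11 LD2_c54 LD3_c46)) = (LP (LK LD1_c11 LD2_c57 LD3_c14)) :=
  Lgr Lrot11 (Lpr_ct (K67.f183387 IH) (Lpn (LP (LK LD1_c11 LD2_c57 LD3_c14))))
theorem f177522 : Led Lsl_dt (LP (LK LD1_c6 LD2_c7 LD3_c12)) = (LP (LK LD1_c11 LD2_c57 LD3_c16)) :=
  Lre_d IH (LK LD1_c6 LD2_c7 LD3_c12) (LK LD1_c11 LD2_c57 LD3_c16) Lrfl Lrfl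
theorem f975417 : Led Lsl_gf (LP (LK LD1_c21 LD2_c1 LD3_c11)) = (LP (LK LD1_c11 LD2_c57 LD3_c16)) :=
  Lgr Lrot143 (Lpr_dt (f396496 IH) (Lpe (K74.f396497 IH) (Lpe (K74.f396504 IH) (Lpe (K74.f946189 IH) (Lpr_df (f975416 IH) (Lpe (f975186 IH) (Lpr_cf (f183396 IH) (Lpr_gt (K67.f177532 IH) (Lpr_dt (f177522 IH) (Lpn (LP (LK LD1_c11 LD2_c57 LD3_c16))))))))))))
theorem f975418 : Led Lsl_gt (LP (LK LD1_c11 LD2_c57 LD3_c16)) = (LP (LK LD1_c21 LD2_c1 LD3_c11)) :=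
  Leop (Lpr_gf (f975417 IH) (Lpn (LP (LK LD1_c11 LD2_c57 LD3_c16))))
theorem seed_3018 : LEOK LG_g (LK LD1_c11 LD2_c57 LD3_c16) :=
  Leoe_g (LK LD1_c11 LD2_c57 LD3_c16) (f975418 IH)
def v50349 : LQ := Led Lsl_gf (LP (LK LD1_c11 LD2_c55 LD3_c12))
theorem f975428 : Led Lsl_gf (LP (LK LD1_c11 LD2_c55 LD3_c12)) = v50349 :=
  Lrfl
theorem f274659 : Led Lsl_bt (LP (LK LD1_c21 LD2_c1 LD3_c49)) = (LP (LK LD1_c11 LD2_c56 LD3_c52)) :=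
  Lre_b IH (LK LD1_c21 LD2_c1 LD3_c49) (LK LD1_c11 LD2_c56 LD3_c52) Lrfl Lrfl
theorem f377713 : Led Lsl_bt (LP (LK LD1_c11 LD2_c55 LD3_c12)) = (LP (LK LD1_c21 LD2_c0 LD3_c3)) :=
  Lre_b IH (LK LD1_c11 LD2_c55 LD3_c12) (LK LD1_c21 LD2_c0 LD3_c3) Lrfl Lrfl
theorem f751158 : Led Lsl_cf (LP (LK LD1_c21 LD2_c1 LD3_c49)) = (LP (LK LD1_c21 LD2_c0 LD3_c3)) :=
  Lgr Lrot97 (Lpr_bt (f274659 IH) (Lpr_ct (K71.f751157 IH) (Lpe (K56.f751151 IH) (Lpr_ct (f184972 IH) (Lpr_bt (f377713 IH) (Lpn (LP (LK LD1_c21 LD2_c0 LD3_c3))))))))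
theorem f189833 : Led Lsl_gt (LP (LK LD1_c15 LD2_c56 LD3_c11)) = (LP (LK LD1_c8 LD2_c29 LD3_c11)) :=
  Lre_g IH (LK LD1_c15 LD2_c56 LD3_c11) (LK LD1_c8 LD2_c29 LD3_c11) Lrfl Lrfl
theorem f282358 : Led Lsl_gf (LP (LK LD1_c15 LD2_c56 LD3_c11)) = (LP (LK LD1_c15 LD2_c55 LD3_c4)) :=
  Lgr Lrot47 (Lpr_gt (f189833 IH) (Lpe (K56.f189821 IH) (Lpr_ff (K17.f282350 IH) (Lpn (LP (LK LD1_c15 LD2_c55 LD3_c4))))))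
theorem f189837 : Led Lsl_bt (LP (LK LD1_c25 LD2_c52 LD3_c34)) = (LP (LK LD1_c15 LD2_c56 LD3_c11)) :=
  Lre_b IH (LK LD1_c25 LD2_c52 LD3_c34) (LK LD1_c15 LD2_c56 LD3_c11) Lrfl Lrfl
theorem f291509 : Led Lsl_bt (LP (LK LD1_c25 LD2_c19 LD3_c27)) = (LP (LK LD1_c15 LD2_c29 LD3_c15)) :=
  Lre_b IH (LK LD1_c25 LD2_c19 LD3_c27) (LK LD1_c15 LD2_c29 LD3_c15) Lrfl Lrfl
theorem f189834 : Led Lsl_ct (LP (LK LD1_c25 LD2_c52 LD3_c35)) = (LP (LK LD1_c15 LD2_c56 LD3_c11)) :=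
  Lre_c IH (LK LD1_c25 LD2_c52 LD3_c35) (LK LD1_c15 LD2_c56 LD3_c11) Lrfl Lrfl
theorem f257847 : Led Lsl_bf (LP (LK LD1_c18 LD2_c52 LD3_c23)) = (LP (LK LD1_c25 LD2_c52 LD3_c35)) :=
  Lgr Lrot34 (Lpe (K45.f32090 IH) (Lpe (K45.f32089 IH) (Lpr_ct (K13.f49190 IH) (Lpe (K15.f187649 IH) (Lpe (K15.f257816 IH) (Lpr_gf (K15.f257845 IH) (Lpe (K17.f189818 IH) (Lpe (K17.f189825 IH) (Lpe (f189833 IH) (Lpe (f189834 IH) (Lpn (LP (LK LD1_c25 LD2_c52 LD3_c35)))))))))))))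
theorem f257850 : Led Lsl_bt (LP (LK LD1_c18 LD2_c52 LD3_c23)) = (LP (LK LD1_c25 LD2_c52 LD3_c35)) :=
  Lgr Lrot127 (Lpr_bf (f257847 IH) (Lpn (LP (LK LD1_c25 LD2_c52 LD3_c35))))
theorem f257854 : Led Lsl_bt (LP (LK LD1_c15 LD2_c56 LD3_c11)) = (LP (LK LD1_c25 LD2_c52 LD3_c34)) :=
  Lre_b IH (LK LD1_c15 LD2_c56 LD3_c11) (LK LD1_c25 LD2_c52 LD3_c34) Lrfl Lrfl
theorem f586645 : Led Lsl_cf (LP (LK LD1_c25 LD2_c19 LD3_c27)) = (LP (LK LD1_c25 LD2_c52 LD3_c34)) :=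
  Lgr Lrot97 (Lpr_bt (f291509 IH) (Lpr_ct (K45.f586642 IH) (Lpr_bt (f257850 IH) (Lpr_ct (f189834 IH) (Lpr_bt (f257854 IH) (Lpn (LP (LK LD1_c25 LD2_c52 LD3_c34))))))))
theorem f274112 : Led Lsl_ft (LP (LK LD1_c8 LD2_c13 LD3_c7)) = (LP (LK LD1_c6 LD2_c5 LD3_c22)) :=
  Lgr Lrot54 (Lpe (K17.f54581 IH) (Lpe (K1.f54561 IH) (Lpr_df (K16.f274102 IH) (Lpn (LP (LK LD1_c6 LD2_c5 LD3_c22))))))
theorem f291410 : Led Lsl_af (LP (LK LD1_c8 LD2_c14 LD3_c2)) = (LP (LK LD1_c6 LD2_c5 LD3_c22)) :=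
  Lgr Lrot31 (Lpe (K17.f265228 IH) (Lpr_gf (K68.f291406 IH) (Lpr_ft (f274112 IH) (Lpn (LP (LK LD1_c6 LD2_c5 LD3_c22))))))
theorem f177490 : Led Lsl_et (LP (LK LD1_c8 LD2_c14 LD3_c2)) = (LP (LK LD1_c15 LD2_c29 LD3_c30)) :=
  Lre_e IH (LK LD1_c8 LD2_c14 LD3_c2) (LK LD1_c15 LD2_c29 LD3_c30) Lrfl Lrfl
theorem f274111 : Led Lsl_et (LP (LK LD1_c11 LD2_c54 LD3_c18)) = (LP (LK LD1_c6 LD2_c5 LD3_c22)) :=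
  Lre_e IH (LK LD1_c11 LD2_c54 LD3_c18) (LK LD1_c6 LD2_c5 LD3_c22) Lrfl Lrfl
theorem f291417 : Led Lsl_at (LP (LK LD1_c15 LD2_c29 LD3_c30)) = (LP (LK LD1_c11 LD2_c54 LD3_c18)) :=
  Lgr Lrot80 (Lpe (f177490 IH) (Lpr_af (f291410 IH) (Lpe (f274111 IH) (Lpn (LP (LK LD1_c11 LD2_c54 LD3_c18))))))
theorem f291426 : Led Lsl_ft (LP (LK LD1_c25 LD2_c22 LD3_c35)) = (LP (LK LD1_c15 LD2_c29 LD3_c30)) :=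
  Lre_f IH (LK LD1_c25 LD2_c22 LD3_c35) (LK LD1_c15 LD2_c29 LD3_c30) Lrfl Lrfl
theorem f291427 : Led Lsl_ft (LP (LK LD1_c11 LD2_c54 LD3_c18)) = (LP (LK LD1_c20 LD2_c58 LD3_c37)) :=
  Lre_f IH (LK LD1_c11 LD2_c54 LD3_c18) (LK LD1_c20 LD2_c58 LD3_c37) Lrfl Lrfl
theorem f291428 : Led Lsl_af (LP (LK LD1_c25 LD2_c22 LD3_c35)) = (LP (LK LD1_c20 LD2_c58 LD3_c37)) :=
  Lgr Lrot45 (Lpr_ft (f291426 IH) (Lpr_at (f291417 IH) (Lpr_ft (f291427 IH) (Lpn (LP (LK LD1_c20 LD2_c58 LD3_c37))))))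
theorem f54628 : Led Lsl_et (LP (LK LD1_c25 LD2_c22 LD3_c35)) = (LP (LK LD1_c15 LD2_c29 LD3_c29)) :=
  Lre_e IH (LK LD1_c25 LD2_c22 LD3_c35) (LK LD1_c15 LD2_c29 LD3_c29) Lrfl Lrfl
theorem f54599 : Led Lsl_at (LP (LK LD1_c15 LD2_c29 LD3_c29)) = (LP (LK LD1_c25 LD2_c19 LD3_c34)) :=
  Lre_a IH (LK LD1_c15 LD2_c29 LD3_c29) (LK LD1_c25 LD2_c19 LD3_c34) Lrfl Lrfl
theorem f291439 : Led Lsl_et (LP (LK LD1_c25 LD2_c19 LD3_c34)) = (LP (LK LD1_c20 LD2_c58 LD3_c37)) :=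
  Lgr Lrot123 (Lpe (f54599 IH) (Lpe (f54628 IH) (Lpr_af (f291428 IH) (Lpn (LP (LK LD1_c20 LD2_c58 LD3_c37))))))
theorem f291445 : Led Lsl_ef (LP (LK LD1_c25 LD2_c19 LD3_c34)) = (LP (LK LD1_c20 LD2_c58 LD3_c37)) :=
  Lgr Lrot88 (Lpr_et (f291439 IH) (Lpn (LP (LK LD1_c20 LD2_c58 LD3_c37))))
theorem f54618 : Led Lsl_bt (LP (LK LD1_c25 LD2_c19 LD3_c34)) = (LP (LK LD1_c31 LD2_c50 LD3_c55)) :=
  Lre_b IH (LK LD1_c25 LD2_c19 LD3_c34) (LK LD1_c31 LD2_c50 LD3_c55) Lrfl Lrfl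
theorem f291436 : Led Lsl_bt (LP (LK LD1_c29 LD2_c47 LD3_c30)) = (LP (LK LD1_c20 LD2_c58 LD3_c37)) :=
  Lre_b IH (LK LD1_c29 LD2_c47 LD3_c30) (LK LD1_c20 LD2_c58 LD3_c37) Lrfl Lrfl
theorem f291448 : Led Lsl_et (LP (LK LD1_c31 LD2_c50 LD3_c55)) = (LP (LK LD1_c29 LD2_c47 LD3_c30)) :=
  Lgr Lrot74 (Lpe (f54618 IH) (Lpr_ef (f291445 IH) (Lpe (f291436 IH) (Lpn (LP (LK LD1_c29 LD2_c47 LD3_c30))))))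
theorem f54733 : Led Lsl_ft (LP (LK LD1_c25 LD2_c19 LD3_c30)) = (LP (LK LD1_c31 LD2_c50 LD3_c55)) :=
  Lre_f IH (LK LD1_c25 LD2_c19 LD3_c30) (LK LD1_c31 LD2_c50 LD3_c55) Lrfl Lrfl
theorem f54933 : Led Lsl_et (LP (LK LD1_c15 LD2_c27 LD3_c38)) = (LP (LK LD1_c25 LD2_c19 LD3_c30)) :=
  Lre_e IH (LK LD1_c15 LD2_c27 LD3_c38) (LK LD1_c25 LD2_c19 LD3_c30) Lrfl Lrfl
theorem f291472 : Led Lsl_ft (LP (LK LD1_c29 LD2_c47 LD3_c30)) = (LP (LK LD1_c20 LD2_c58 LD3_c35)) :=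
  Lre_f IH (LK LD1_c29 LD2_c47 LD3_c30) (LK LD1_c20 LD2_c58 LD3_c35) Lrfl Lrfl
theorem f291473 : Led Lsl_et (LP (LK LD1_c20 LD2_c58 LD3_c35)) = (LP (LK LD1_c11 LD2_c54 LD3_c17)) :=
  Lre_e IH (LK LD1_c20 LD2_c58 LD3_c35) (LK LD1_c11 LD2_c54 LD3_c17) Lrfl Lrfl
theorem f291474 : Led Lsl_ff (LP (LK LD1_c15 LD2_c27 LD3_c38)) = (LP (LK LD1_c11 LD2_c54 LD3_c17)) :=
  Lgr Lrot72 (Lpr_et (f54933 IH) (Lpr_ft (f54733 IH) (Lpr_et (f291448 IH) (Lpr_ft (f291472 IH) (Lpr_et (f291473 IH) (Lpn (LP (LK LD1_c11 LD2_c54 LD3_c17))))))))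
theorem f291476 : Led Lsl_at (LP (LK LD1_c15 LD2_c27 LD3_c38)) = (LP (LK LD1_c25 LD2_c19 LD3_c27)) :=
  Lre_a IH (LK LD1_c15 LD2_c27 LD3_c38) (LK LD1_c25 LD2_c19 LD3_c27) Lrfl Lrfl
theorem f291413 : Led Lsl_at (LP (LK LD1_c20 LD2_c58 LD3_c34)) = (LP (LK LD1_c11 LD2_c54 LD3_c17)) :=
  Lre_a IH (LK LD1_c20 LD2_c58 LD3_c34) (LK LD1_c11 LD2_c54 LD3_c17) Lrfl Lrfl
theorem f291477 : Led Lsl_ft (LP (LK LD1_c25 LD2_c19 LD3_c27)) = (LP (LK LD1_c20 LD2_c58 LD3_c34)) :=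
  Lgr Lrot101 (Lpe (f291476 IH) (Lpr_ff (f291474 IH) (Lpe (f291413 IH) (Lpn (LP (LK LD1_c20 LD2_c58 LD3_c34))))))
theorem f291499 : Led Lsl_gt (LP (LK LD1_c20 LD2_c58 LD3_c33)) = (LP (LK LD1_c11 LD2_c54 LD3_c17)) :=
  Lre_g IH (LK LD1_c20 LD2_c58 LD3_c33) (LK LD1_c11 LD2_c54 LD3_c17) Lrfl Lrfl
theorem f291515 : Led Lsl_gt (LP (LK LD1_c25 LD2_c19 LD3_c27)) = (LP (LK LD1_c20 LD2_c58 LD3_c33)) :=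
  Lgr Lrot5 (Lpr_ft (f291477 IH) (Lpr_at (f291413 IH) (Lpe (f291499 IH) (Lpn (LP (LK LD1_c20 LD2_c58 LD3_c33))))))
theorem f291485 : Led Lsl_bt (LP (LK LD1_c15 LD2_c29 LD3_c15)) = (LP (LK LD1_c25 LD2_c19 LD3_c27)) :=
  Lre_b IH (LK LD1_c15 LD2_c29 LD3_c15) (LK LD1_c25 LD2_c19 LD3_c27) Lrfl Lrfl
theorem f260309 : Led Lsl_bt (LP (LK LD1_c19 LD2_c11 LD3_c14)) = (LP (LK LD1_c10 LD2_c35 LD3_c44)) :=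
  Lre_b IH (LK LD1_c19 LD2_c11 LD3_c14) (LK LD1_c10 LD2_c35 LD3_c44) Lrfl Lrfl
theorem f275815 : Led Lsl_gt (LP (LK LD1_c19 LD2_c23 LD3_c47)) = (LP (LK LD1_c10 LD2_c42 LD3_c58)) :=
  Lre_g IH (LK LD1_c19 LD2_c23 LD3_c47) (LK LD1_c10 LD2_c42 LD3_c58) Lrfl Lrfl
theorem f586649 : Led Lsl_ct (LP (LK LD1_c20 LD2_c58 LD3_c33)) = (LP (LK LD1_c19 LD2_c23 LD3_c47)) :=
  Lgr Lrot91 (Lpe (f291515 IH) (Lpe (f291485 IH) (Lpr_ct (K45.f586642 IH) (Lpe (K45.f32090 IH) (Lpr_cf (K45.f217585 IH) (Lpr_bt (K45.f217566 IH) (Lpe (K15.f263482 IH) (Lpe (f260309 IH) (Lpe (K21.f275813 IH) (Lpe (f275815 IH) (Lpn (LP (LK LD1_c19 LD2_c23 LD3_c47)))))))))))))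
theorem f586651 : Led Lsl_cf (LP (LK LD1_c20 LD2_c58 LD3_c33)) = (LP (LK LD1_c19 LD2_c23 LD3_c47)) :=
  Lgr Lrot11 (Lpr_ct (f586649 IH) (Lpn (LP (LK LD1_c19 LD2_c23 LD3_c47))))
theorem f975431 : Led Lsl_bt (LP (LK LD1_c19 LD2_c23 LD3_c47)) = v50349 :=
  Lgr Lrot130 (Lpe (f586651 IH) (Lpe (f291515 IH) (Lpr_cf (f586645 IH) (Lpr_bt (f189837 IH) (Lpr_gf (f282358 IH) (Lpe (K56.f409681 IH) (Lpr_ct (K56.f409683 IH) (Lpr_gf (K56.f409760 IH) (Lpe (K56.f377712 IH) (Lpr_gf (f975428 IH) (Lpn v50349)))))))))))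
theorem f212252 : Led Lsl_bt (LP (LK LD1_c10 LD2_c19 LD3_c28)) = (LP (LK LD1_c18 LD2_c44 LD3_c35)) :=
  Lre_b IH (LK LD1_c10 LD2_c19 LD3_c28) (LK LD1_c18 LD2_c44 LD3_c35) Lrfl Lrfl
theorem f231858 : Led Lsl_bt (LP (LK LD1_c10 LD2_c20 LD3_c24)) = (LP (LK LD1_c5 LD2_c15 LD3_c34)) :=
  Lre_b IH (LK LD1_c10 LD2_c20 LD3_c24) (LK LD1_c5 LD2_c15 LD3_c34) Lrfl Lrfl
theorem f369700 : Led Lsl_ft (LP (LK LD1_c18 LD2_c44 LD3_c35)) = (LP (LK LD1_c10 LD2_c20 LD3_c24)) :=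
  Lgr Lrot75 (Lpe (f212252 IH) (Lpr_ff (K27.f369698 IH) (Lpe (f231858 IH) (Lpn (LP (LK LD1_c10 LD2_c20 LD3_c24))))))
theorem f603255 : Led Lsl_cf (LP (LK LD1_c11 LD2_c54 LD3_c8)) = (LP (LK LD1_c10 LD2_c20 LD3_c24)) :=
  Lgr Lrot108 (Lpr_ft (f603253 IH) (Lpe (f263520 IH) (Lpr_ft (f369700 IH) (Lpn (LP (LK LD1_c10 LD2_c20 LD3_c24))))))
theorem f263546 : Led Lsl_ct (LP (LK LD1_c11 LD2_c54 LD3_c9)) = (LP (LK LD1_c6 LD2_c5 LD3_c18)) :=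
  Lre_c IH (LK LD1_c11 LD2_c54 LD3_c9) (LK LD1_c6 LD2_c5 LD3_c18) Lrfl Lrfl
theorem f291500 : Led Lsl_bt (LP (LK LD1_c11 LD2_c54 LD3_c9)) = (LP (LK LD1_c20 LD2_c58 LD3_c14)) :=
  Lre_b IH (LK LD1_c11 LD2_c54 LD3_c9) (LK LD1_c20 LD2_c58 LD3_c14) Lrfl Lrfl
theorem f231854 : Led Lsl_gt (LP (LK LD1_c5 LD2_c17 LD3_c48)) = (LP (LK LD1_c5 LD2_c15 LD3_c34)) :=
  Lgr Lrot150 (Lpe (K17.f49083 IH) (Lpe (K9.f48188 IH) (Lpe (K9.f45400 IH) (Lpr_gt (K14.f231706 IH) (Lpe (K1.f45220 IH) (Lpr_gt (K10.f32343 IH) (Lpr_ct (K10.f32908 IH) (Lpe (K15.f45237 IH) (Lpe (K15.f45236 IH) (Lpn (LP (LK LD1_c5 LD2_c15 LD3_c34))))))))))))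
theorem f231856 : Led Lsl_bt (LP (LK LD1_c10 LD2_c25 LD3_c12)) = (LP (LK LD1_c5 LD2_c17 LD3_c48)) :=
  Lre_b IH (LK LD1_c10 LD2_c25 LD3_c12) (LK LD1_c5 LD2_c17 LD3_c48) Lrfl Lrfl
theorem f260286 : Led Lsl_ct (LP (LK LD1_c10 LD2_c25 LD3_c12)) = (LP (LK LD1_c15 LD2_c27 LD3_c56)) :=
  Lgr Lrot83 (Lpe (K21.f49085 IH) (Lpe (K17.f49083 IH) (Lpe (K15.f49088 IH) (Lpr_cf (K15.f260283 IH) (Lpe (K21.f260285 IH) (Lpn (LP (LK LD1_c15 LD2_c27 LD3_c56))))))))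
theorem f260301 : Led Lsl_gt (LP (LK LD1_c25 LD2_c19 LD3_c44)) = (LP (LK LD1_c15 LD2_c27 LD3_c56)) :=
  Lre_g IH (LK LD1_c25 LD2_c19 LD3_c44) (LK LD1_c15 LD2_c27 LD3_c56) Lrfl Lrfl
theorem f252318 : Led Lsl_ct (LP (LK LD1_c10 LD2_c44 LD3_c1)) = (LP (LK LD1_c10 LD2_c20 LD3_c55)) :=
  Lgr Lrot59 (Lpr_cf (K18.f252313 IH) (Lpn (LP (LK LD1_c10 LD2_c20 LD3_c55))))
theorem f263327 : Led Lsl_df (LP (LK LD1_c9 LD2_c54 LD3_c57)) = (LP (LK LD1_c10 LD2_c20 LD3_c55)) :=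
  Lgr Lrot38 (Lpr_dt (K18.f263262 IH) (Lpn (LP (LK LD1_c10 LD2_c20 LD3_c55))))
theorem f275154 : Led Lsl_cf (LP (LK LD1_c8 LD2_c11 LD3_c16)) = (LP (LK LD1_c6 LD2_c5 LD3_c46)) :=
  Lgr Lrot11 (Lpr_ct (K16.f275150 IH) (Lpn (LP (LK LD1_c6 LD2_c5 LD3_c46))))
theorem f285797 : Led Lsl_gf (LP (LK LD1_c2 LD2_c11 LD3_c30)) = (LP (LK LD1_c1 LD2_c14 LD3_c52)) :=
  Lgr Lrot172 (Lpr_ct (K12.f173238 IH) (Lpr_dt (K17.f285782 IH) (Lpe (K15.f33992 IH) (Lpe (K10.f197061 IH) (Lpe (K10.f32459 IH) (Lpr_gf (K14.f232002 IH) (Lpr_dt (K14.f228968 IH) (Lpe (K15.f259318 IH) (Lpr_ct (K15.f49077 IH) (Lpn (LP (LK LD1_c1 LD2_c14 LD3_c52))))))))))))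
theorem f366127 : Led Lsl_cf (LP (LK LD1_c8 LD2_c15 LD3_c50)) = (LP (LK LD1_c4 LD2_c18 LD3_c57)) :=
  Lgr Lrot175 (Lpr_dt (K27.f366115 IH) (Lpr_cf (f275154 IH) (Lpe (K16.f184971 IH) (Lpe (K13.f179045 IH) (Lpe (K15.f260383 IH) (Lpr_dt (K9.f49076 IH) (Lpe (f285797 IH) (Lpr_ct (K12.f173238 IH) (Lpe (K27.f312036 IH) (Lpn (LP (LK LD1_c4 LD2_c18 LD3_c57))))))))))))
theorem f366085 : Led Lsl_ff (LP (LK LD1_c5 LD2_c25 LD3_c54)) = (LP (LK LD1_c6 LD2_c5 LD3_c47)) :=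
  Lgr Lrot23 (Lpe (K15.f264847 IH) (Lpr_ft (K27.f366081 IH) (Lpr_ct (K15.f263658 IH) (Lpn (LP (LK LD1_c6 LD2_c5 LD3_c47))))))
theorem f377692 : Led Lsl_af (LP (LK LD1_c6 LD2_c5 LD3_c46)) = (LP (LK LD1_c5 LD2_c25 LD3_c54)) :=
  Lgr Lrot109 (Lpe (K16.f275150 IH) (Lpe (K27.f366115 IH) (Lpr_cf (f366127 IH) (Lpr_df (K27.f312038 IH) (Lpe (K15.f252977 IH) (Lpr_df (f263327 IH) (Lpe (f252318 IH) (Lpr_df (K56.f366167 IH) (Lpe (f366085 IH) (Lpn (LP (LK LD1_c5 LD2_c25 LD3_c54))))))))))))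
theorem f275153 : Led Lsl_bt (LP (LK LD1_c6 LD2_c5 LD3_c46)) = (LP (LK LD1_c11 LD2_c54 LD3_c61)) :=
  Lre_b IH (LK LD1_c6 LD2_c5 LD3_c46) (LK LD1_c11 LD2_c54 LD3_c61) Lrfl Lrfl
theorem f292034 : Led Lsl_at (LP (LK LD1_c11 LD2_c54 LD3_c61)) = (LP (LK LD1_c20 LD2_c59 LD3_c41)) :=
  Lre_a IH (LK LD1_c11 LD2_c54 LD3_c61) (LK LD1_c20 LD2_c59 LD3_c41) Lrfl Lrfl
theorem f264849 : Led Lsl_bt (LP (LK LD1_c10 LD2_c42 LD3_c61)) = (LP (LK LD1_c5 LD2_c25 LD3_c54)) :=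
  Lre_b IH (LK LD1_c10 LD2_c42 LD3_c61) (LK LD1_c5 LD2_c25 LD3_c54) Lrfl Lrfl
theorem f291007 : Led Lsl_at (LP (LK LD1_c19 LD2_c23 LD3_c55)) = (LP (LK LD1_c10 LD2_c42 LD3_c61)) :=
  Lre_a IH (LK LD1_c19 LD2_c23 LD3_c55) (LK LD1_c10 LD2_c42 LD3_c61) Lrfl Lrfl
theorem f377694 : Led Lsl_bt (LP (LK LD1_c20 LD2_c59 LD3_c41)) = (LP (LK LD1_c19 LD2_c23 LD3_c55)) :=
  Lgr Lrot62 (Lpe (f292034 IH) (Lpe (f275153 IH) (Lpr_af (f377692 IH) (Lpe (f264849 IH) (Lpe (f291007 IH) (Lpn (LP (LK LD1_c19 LD2_c23 LD3_c55))))))))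
theorem f377696 : Led Lsl_bf (LP (LK LD1_c20 LD2_c59 LD3_c41)) = (LP (LK LD1_c19 LD2_c23 LD3_c55)) :=
  Lgr Lrot24 (Lpr_bt (f377694 IH) (Lpn (LP (LK LD1_c19 LD2_c23 LD3_c55))))
theorem f370812 : Led Lsl_ft (LP (LK LD1_c5 LD2_c21 LD3_c32)) = (LP (LK LD1_c10 LD2_c9 LD3_c45)) :=
  Lgr Lrot48 (Lpr_ff (K72.f370808 IH) (Lpn (LP (LK LD1_c10 LD2_c9 LD3_c45))))
theorem f215885 : Led Lsl_bt (LP (LK LD1_c10 LD2_c33 LD3_c23)) = (LP (LK LD1_c5 LD2_c21 LD3_c32)) :=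
  Lre_b IH (LK LD1_c10 LD2_c33 LD3_c23) (LK LD1_c5 LD2_c21 LD3_c32) Lrfl Lrfl
theorem f370814 : Led Lsl_ff (LP (LK LD1_c10 LD2_c33 LD3_c23)) = (LP (LK LD1_c18 LD2_c30 LD3_c46)) :=
  Lgr Lrot25 (Lpr_bt (f215885 IH) (Lpr_ft (f370812 IH) (Lpr_bt (K72.f256347 IH) (Lpn (LP (LK LD1_c18 LD2_c30 LD3_c46))))))
theorem f292011 : Led Lsl_cf (LP (LK LD1_c10 LD2_c33 LD3_c23)) = (LP (LK LD1_c11 LD2_c54 LD3_c61)) :=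
  Lgr Lrot97 (Lpr_bt (f215885 IH) (Lpe (K16.f215877 IH) (Lpr_bt (K27.f292009 IH) (Lpr_ct (K16.f275150 IH) (Lpr_bt (f275153 IH) (Lpn (LP (LK LD1_c11 LD2_c54 LD3_c61))))))))
theorem f292018 : Led Lsl_ct (LP (LK LD1_c10 LD2_c33 LD3_c23)) = (LP (LK LD1_c11 LD2_c54 LD3_c61)) :=
  Lgr Lrot59 (Lpr_cf (f292011 IH) (Lpn (LP (LK LD1_c11 LD2_c54 LD3_c61))))
theorem f264961 : Led Lsl_bt (LP (LK LD1_c5 LD2_c25 LD3_c53)) = (LP (LK LD1_c10 LD2_c42 LD3_c59)) :=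
  Lre_b IH (LK LD1_c5 LD2_c25 LD3_c53) (LK LD1_c10 LD2_c42 LD3_c59) Lrfl Lrfl
theorem f265002 : Led Lsl_ct (LP (LK LD1_c10 LD2_c42 LD3_c59)) = (LP (LK LD1_c18 LD2_c30 LD3_c46)) :=
  Lgr Lrot83 (Lpe (f264961 IH) (Lpr_cf (K15.f264983 IH) (Lpr_bf (K15.f256449 IH) (Lpe (K15.f256491 IH) (Lpe (K72.f256366 IH) (Lpn (LP (LK LD1_c18 LD2_c30 LD3_c46))))))))
theorem f370818 : Led Lsl_ft (LP (LK LD1_c11 LD2_c54 LD3_c61)) = (LP (LK LD1_c10 LD2_c42 LD3_c59)) :=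
  Lgr Lrot4 (Lpe (f292018 IH) (Lpr_ff (f370814 IH) (Lpe (f265002 IH) (Lpn (LP (LK LD1_c10 LD2_c42 LD3_c59))))))
theorem f370833 : Led Lsl_ff (LP (LK LD1_c11 LD2_c54 LD3_c61)) = (LP (LK LD1_c10 LD2_c42 LD3_c59)) :=
  Lgr Lrot3 (Lpr_ft (f370818 IH) (Lpn (LP (LK LD1_c10 LD2_c42 LD3_c59))))
theorem f264990 : Led Lsl_gt (LP (LK LD1_c10 LD2_c42 LD3_c59)) = (LP (LK LD1_c19 LD2_c23 LD3_c49)) :=
  Lre_g IH (LK LD1_c10 LD2_c42 LD3_c59) (LK LD1_c19 LD2_c23 LD3_c49) Lrfl Lrfl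
theorem f370842 : Led Lsl_gf (LP (LK LD1_c20 LD2_c59 LD3_c41)) = (LP (LK LD1_c19 LD2_c23 LD3_c49)) :=
  Lgr Lrot76 (Lpe (f292034 IH) (Lpr_ff (f370833 IH) (Lpr_gt (f264990 IH) (Lpn (LP (LK LD1_c19 LD2_c23 LD3_c49))))))
theorem f192175 : Led Lsl_gt (LP (LK LD1_c18 LD2_c39 LD3_c54)) = (LP (LK LD1_c10 LD2_c15 LD3_c41)) :=
  Lre_g IH (LK LD1_c18 LD2_c39 LD3_c54) (LK LD1_c10 LD2_c15 LD3_c41) Lrfl Lrfl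
theorem f192176 : Led Lsl_ct (LP (LK LD1_c28 LD2_c11 LD3_c23)) = (LP (LK LD1_c18 LD2_c39 LD3_c54)) :=
  Lre_c IH (LK LD1_c28 LD2_c11 LD3_c23) (LK LD1_c18 LD2_c39 LD3_c54) Lrfl Lrfl
theorem f264992 : Led Lsl_bf (LP (LK LD1_c19 LD2_c23 LD3_c49)) = (LP (LK LD1_c28 LD2_c11 LD3_c23)) :=
  Lgr Lrot34 (Lpe (f264990 IH) (Lpe (f264961 IH) (Lpr_ct (K15.f264959 IH) (Lpe (K15.f189722 IH) (Lpe (K10.f183686 IH) (Lpe (K10.f183687 IH) (Lpe (K21.f192164 IH) (Lpe (K21.f192171 IH) (Lpe (f192175 IH) (Lpe (f192176 IH) (Lpn (LP (LK LD1_c28 LD2_c11 LD3_c23)))))))))))))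
theorem f237835 : Led Lsl_bt (LP (LK LD1_c10 LD2_c42 LD3_c54)) = (LP (LK LD1_c5 LD2_c25 LD3_c50)) :=
  Lre_b IH (LK LD1_c10 LD2_c42 LD3_c54) (LK LD1_c5 LD2_c25 LD3_c50) Lrfl Lrfl
theorem f192182 : Led Lsl_bt (LP (LK LD1_c6 LD2_c5 LD3_c45)) = (LP (LK LD1_c11 LD2_c54 LD3_c60)) :=
  Lre_b IH (LK LD1_c6 LD2_c5 LD3_c45) (LK LD1_c11 LD2_c54 LD3_c60) Lrfl Lrfl
theorem f273456 : Led Lsl_ff (LP (LK LD1_c10 LD2_c42 LD3_c54)) = (LP (LK LD1_c11 LD2_c54 LD3_c60)) :=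
  Lgr Lrot25 (Lpr_bt (f237835 IH) (Lpr_ft (K21.f273454 IH) (Lpr_bt (f192182 IH) (Lpn (LP (LK LD1_c11 LD2_c54 LD3_c60))))))
theorem f273470 : Led Lsl_ft (LP (LK LD1_c10 LD2_c42 LD3_c54)) = (LP (LK LD1_c11 LD2_c54 LD3_c60)) :=
  Lgr Lrot48 (Lpr_ff (f273456 IH) (Lpn (LP (LK LD1_c11 LD2_c54 LD3_c60))))
theorem f237872 : Led Lsl_at (LP (LK LD1_c19 LD2_c23 LD3_c40)) = (LP (LK LD1_c10 LD2_c42 LD3_c54)) :=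
  Lre_a IH (LK LD1_c19 LD2_c23 LD3_c40) (LK LD1_c10 LD2_c42 LD3_c54) Lrfl Lrfl
theorem f192168 : Led Lsl_at (LP (LK LD1_c11 LD2_c54 LD3_c60)) = (LP (LK LD1_c20 LD2_c59 LD3_c38)) :=
  Lre_a IH (LK LD1_c11 LD2_c54 LD3_c60) (LK LD1_c20 LD2_c59 LD3_c38) Lrfl Lrfl
theorem f273474 : Led Lsl_ff (LP (LK LD1_c19 LD2_c23 LD3_c40)) = (LP (LK LD1_c20 LD2_c59 LD3_c38)) :=
  Lgr Lrot30 (Lpr_at (f237872 IH) (Lpr_ft (f273470 IH) (Lpr_at (f192168 IH) (Lpn (LP (LK LD1_c20 LD2_c59 LD3_c38))))))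
theorem f237844 : Led Lsl_bt (LP (LK LD1_c18 LD2_c17 LD3_c56)) = (LP (LK LD1_c10 LD2_c0 LD3_c51)) :=
  Lre_b IH (LK LD1_c18 LD2_c17 LD3_c56) (LK LD1_c10 LD2_c0 LD3_c51) Lrfl Lrfl
theorem f237845 : Led Lsl_ct (LP (LK LD1_c5 LD2_c25 LD3_c51)) = (LP (LK LD1_c10 LD2_c42 LD3_c56)) :=
  Lre_c IH (LK LD1_c5 LD2_c25 LD3_c51) (LK LD1_c10 LD2_c42 LD3_c56) Lrfl Lrfl
theorem f237846 : Led Lsl_bt (LP (LK LD1_c10 LD2_c42 LD3_c56)) = (LP (LK LD1_c19 LD2_c23 LD3_c42)) :=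
  Lre_b IH (LK LD1_c10 LD2_c42 LD3_c56) (LK LD1_c19 LD2_c23 LD3_c42) Lrfl Lrfl
theorem f237847 : Led Lsl_cf (LP (LK LD1_c18 LD2_c17 LD3_c56)) = (LP (LK LD1_c19 LD2_c23 LD3_c42)) :=
  Lgr Lrot97 (Lpr_bt (f237844 IH) (Lpr_ct (K53.f192606 IH) (Lpr_bt (K15.f237839 IH) (Lpr_ct (f237845 IH) (Lpr_bt (f237846 IH) (Lpn (LP (LK LD1_c19 LD2_c23 LD3_c42))))))))
theorem f237859 : Led Lsl_ct (LP (LK LD1_c18 LD2_c17 LD3_c56)) = (LP (LK LD1_c19 LD2_c23 LD3_c42)) :=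
  Lgr Lrot59 (Lpr_cf (f237847 IH) (Lpn (LP (LK LD1_c19 LD2_c23 LD3_c42))))
theorem f237867 : Led Lsl_et (LP (LK LD1_c10 LD2_c0 LD3_c49)) = (LP (LK LD1_c18 LD2_c17 LD3_c56)) :=
  Lre_e IH (LK LD1_c10 LD2_c0 LD3_c49) (LK LD1_c18 LD2_c17 LD3_c56) Lrfl Lrfl
theorem f237868 : Led Lsl_et (LP (LK LD1_c19 LD2_c23 LD3_c42)) = (LP (LK LD1_c10 LD2_c42 LD3_c54)) :=
  Lre_e IH (LK LD1_c19 LD2_c23 LD3_c42) (LK LD1_c10 LD2_c42 LD3_c54) Lrfl Lrfl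
theorem f237869 : Led Lsl_cf (LP (LK LD1_c10 LD2_c0 LD3_c49)) = (LP (LK LD1_c10 LD2_c42 LD3_c54)) :=
  Lgr Lrot39 (Lpr_et (f237867 IH) (Lpr_ct (f237859 IH) (Lpr_et (f237868 IH) (Lpn (LP (LK LD1_c10 LD2_c42 LD3_c54))))))
theorem f237871 : Led Lsl_at (LP (LK LD1_c10 LD2_c0 LD3_c49)) = (LP (LK LD1_c18 LD2_c17 LD3_c54)) :=
  Lre_a IH (LK LD1_c10 LD2_c0 LD3_c49) (LK LD1_c18 LD2_c17 LD3_c54) Lrfl Lrfl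
theorem f237873 : Led Lsl_ct (LP (LK LD1_c18 LD2_c17 LD3_c54)) = (LP (LK LD1_c19 LD2_c23 LD3_c40)) :=
  Lgr Lrot111 (Lpe (f237871 IH) (Lpr_cf (f237869 IH) (Lpe (f237872 IH) (Lpn (LP (LK LD1_c19 LD2_c23 LD3_c40))))))
theorem f237892 : Led Lsl_cf (LP (LK LD1_c18 LD2_c17 LD3_c54)) = (LP (LK LD1_c19 LD2_c23 LD3_c40)) :=
  Lgr Lrot11 (Lpr_ct (f237873 IH) (Lpn (LP (LK LD1_c19 LD2_c23 LD3_c40))))
theorem f273479 : Led Lsl_ft (LP (LK LD1_c18 LD2_c17 LD3_c54)) = (LP (LK LD1_c18 LD2_c39 LD3_c55)) :=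
  Lgr Lrot4 (Lpr_cf (f237892 IH) (Lpr_ff (f273474 IH) (Lpe (K21.f192180 IH) (Lpn (LP (LK LD1_c18 LD2_c39 LD3_c55))))))
theorem f273485 : Led Lsl_gt (LP (LK LD1_c18 LD2_c17 LD3_c54)) = (LP (LK LD1_c18 LD2_c39 LD3_c54)) :=
  Lgr Lrot5 (Lpr_ft (f273479 IH) (Lpr_at (K21.f192167 IH) (Lpe (f192175 IH) (Lpn (LP (LK LD1_c18 LD2_c39 LD3_c54))))))
theorem f237894 : Led Lsl_at (LP (LK LD1_c10 LD2_c42 LD3_c54)) = (LP (LK LD1_c19 LD2_c23 LD3_c40)) :=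
  Lre_a IH (LK LD1_c10 LD2_c42 LD3_c54) (LK LD1_c19 LD2_c23 LD3_c40) Lrfl Lrfl
theorem f192174 : Led Lsl_gt (LP (LK LD1_c11 LD2_c54 LD3_c60)) = (LP (LK LD1_c20 LD2_c59 LD3_c36)) :=
  Lre_g IH (LK LD1_c11 LD2_c54 LD3_c60) (LK LD1_c20 LD2_c59 LD3_c36) Lrfl Lrfl
theorem f273472 : Led Lsl_gf (LP (LK LD1_c19 LD2_c23 LD3_c40)) = (LP (LK LD1_c20 LD2_c59 LD3_c36)) :=
  Lgr Lrot76 (Lpe (f237894 IH) (Lpr_ff (f273456 IH) (Lpr_gt (f192174 IH) (Lpn (LP (LK LD1_c20 LD2_c59 LD3_c36))))))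
theorem f290998 : Led Lsl_ct (LP (LK LD1_c15 LD2_c16 LD3_c8)) = (LP (LK LD1_c10 LD2_c42 LD3_c61)) :=
  Lgr Lrot83 (Lpe (K27.f274612 IH) (Lpe (K19.f290982 IH) (Lpr_bf (K27.f290996 IH) (Lpr_cf (K15.f264847 IH) (Lpe (f264849 IH) (Lpn (LP (LK LD1_c10 LD2_c42 LD3_c61))))))))
theorem f274621 : Led Lsl_at (LP (LK LD1_c25 LD2_c6 LD3_c1)) = (LP (LK LD1_c15 LD2_c16 LD3_c8)) :=
  Lre_a IH (LK LD1_c25 LD2_c6 LD3_c1) (LK LD1_c15 LD2_c16 LD3_c8) Lrfl Lrfl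
theorem f291002 : Led Lsl_at (LP (LK LD1_c10 LD2_c42 LD3_c61)) = (LP (LK LD1_c19 LD2_c23 LD3_c55)) :=
  Lre_a IH (LK LD1_c10 LD2_c42 LD3_c61) (LK LD1_c19 LD2_c23 LD3_c55) Lrfl Lrfl
theorem f291003 : Led Lsl_cf (LP (LK LD1_c25 LD2_c6 LD3_c1)) = (LP (LK LD1_c19 LD2_c23 LD3_c55)) :=
  Lgr Lrot1 (Lpr_at (f274621 IH) (Lpr_ct (f290998 IH) (Lpr_at (f291002 IH) (Lpn (LP (LK LD1_c19 LD2_c23 LD3_c55))))))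
theorem f367017 : Led Lsl_at (LP (LK LD1_c11 LD2_c4 LD3_c31)) = (LP (LK LD1_c19 LD2_c57 LD3_c7)) :=
  Lre_a IH (LK LD1_c11 LD2_c4 LD3_c31) (LK LD1_c19 LD2_c57 LD3_c7) Lrfl Lrfl
theorem f367018 : Led Lsl_ff (LP (LK LD1_c25 LD2_c6 LD3_c1)) = (LP (LK LD1_c19 LD2_c57 LD3_c7)) :=
  Lgr Lrot30 (Lpr_at (f274621 IH) (Lpr_ft (K27.f366970 IH) (Lpr_at (f367017 IH) (Lpn (LP (LK LD1_c19 LD2_c57 LD3_c7))))))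
theorem f377371 : Led Lsl_ft (LP (LK LD1_c25 LD2_c6 LD3_c1)) = (LP (LK LD1_c19 LD2_c57 LD3_c7)) :=
  Lgr Lrot48 (Lpr_ff (f367018 IH) (Lpn (LP (LK LD1_c19 LD2_c57 LD3_c7))))
theorem f366955 : Led Lsl_at (LP (LK LD1_c19 LD2_c57 LD3_c7)) = (LP (LK LD1_c11 LD2_c4 LD3_c31)) :=
  Lre_a IH (LK LD1_c19 LD2_c57 LD3_c7) (LK LD1_c11 LD2_c4 LD3_c31) Lrfl Lrfl
theorem f265620 : Led Lsl_gt (LP (LK LD1_c19 LD2_c57 LD3_c6)) = (LP (LK LD1_c11 LD2_c4 LD3_c31)) :=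
  Lre_g IH (LK LD1_c19 LD2_c57 LD3_c6) (LK LD1_c11 LD2_c4 LD3_c31) Lrfl Lrfl
theorem f377378 : Led Lsl_gt (LP (LK LD1_c25 LD2_c6 LD3_c1)) = (LP (LK LD1_c19 LD2_c57 LD3_c6)) :=
  Lgr Lrot5 (Lpr_ft (f377371 IH) (Lpr_at (f366955 IH) (Lpe (f265620 IH) (Lpn (LP (LK LD1_c19 LD2_c57 LD3_c6))))))
theorem f377381 : Led Lsl_ct (LP (LK LD1_c29 LD2_c12 LD3_c37)) = (LP (LK LD1_c19 LD2_c57 LD3_c6)) :=
  Lre_c IH (LK LD1_c29 LD2_c12 LD3_c37) (LK LD1_c19 LD2_c57 LD3_c6) Lrfl Lrfl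
theorem f377698 : Led Lsl_bf (LP (LK LD1_c20 LD2_c59 LD3_c36)) = (LP (LK LD1_c29 LD2_c12 LD3_c37)) :=
  Lgr Lrot165 (Lpe (f273472 IH) (Lpe (f237892 IH) (Lpr_gt (f273485 IH) (Lpe (f192176 IH) (Lpe (f264992 IH) (Lpe (f370842 IH) (Lpr_bf (f377696 IH) (Lpe (f291003 IH) (Lpr_gt (f377378 IH) (Lpe (f377381 IH) (Lpn (LP (LK LD1_c29 LD2_c12 LD3_c37)))))))))))))
theorem f231890 : Led Lsl_bt (LP (LK LD1_c11 LD2_c55 LD3_c0)) = (LP (LK LD1_c6 LD2_c5 LD3_c47)) :=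
  Lre_b IH (LK LD1_c11 LD2_c55 LD3_c0) (LK LD1_c6 LD2_c5 LD3_c47) Lrfl Lrfl
theorem f377702 : Led Lsl_ct (LP (LK LD1_c11 LD2_c55 LD3_c0)) = (LP (LK LD1_c11 LD2_c4 LD3_c31)) :=
  Lgr Lrot10 (Lpr_bt (f231890 IH) (Lpr_gt (K15.f179046 IH) (Lpr_ct (K15.f179041 IH) (Lpr_gt (K10.f169561 IH) (Lpe (K21.f192163 IH) (Lpr_bt (f192182 IH) (Lpr_gt (f192174 IH) (Lpr_bf (f377698 IH) (Lpr_ct (f377381 IH) (Lpr_gt (f265620 IH) (Lpn (LP (LK LD1_c11 LD2_c4 LD3_c31)))))))))))))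
theorem f177446 : Led Lsl_bt (LP (LK LD1_c5 LD2_c36 LD3_c6)) = (LP (LK LD1_c11 LD2_c4 LD3_c31)) :=
  Lre_b IH (LK LD1_c5 LD2_c36 LD3_c6) (LK LD1_c11 LD2_c4 LD3_c31) Lrfl Lrfl
theorem f366962 : Led Lsl_ff (LP (LK LD1_c15 LD2_c16 LD3_c8)) = (LP (LK LD1_c11 LD2_c4 LD3_c31)) :=
  Lgr Lrot25 (Lpr_bt (K27.f194548 IH) (Lpr_ft (K27.f366960 IH) (Lpr_bt (f177446 IH) (Lpn (LP (LK LD1_c11 LD2_c4 LD3_c31))))))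
theorem f377709 : Led Lsl_ff (LP (LK LD1_c11 LD2_c55 LD3_c0)) = (LP (LK LD1_c10 LD2_c42 LD3_c61)) :=
  Lgr Lrot23 (Lpr_ct (f377702 IH) (Lpe (f366962 IH) (Lpr_ct (f290998 IH) (Lpn (LP (LK LD1_c10 LD2_c42 LD3_c61))))))
theorem f377720 : Led Lsl_ft (LP (LK LD1_c11 LD2_c55 LD3_c0)) = (LP (LK LD1_c10 LD2_c42 LD3_c61)) :=
  Lgr Lrot48 (Lpr_ff (f377709 IH) (Lpn (LP (LK LD1_c10 LD2_c42 LD3_c61))))
theorem f377704 : Led Lsl_at (LP (LK LD1_c20 LD2_c59 LD3_c44)) = (LP (LK LD1_c11 LD2_c55 LD3_c0)) :=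
  Lre_a IH (LK LD1_c20 LD2_c59 LD3_c44) (LK LD1_c11 LD2_c55 LD3_c0) Lrfl Lrfl
theorem f377724 : Led Lsl_ff (LP (LK LD1_c20 LD2_c59 LD3_c44)) = (LP (LK LD1_c19 LD2_c23 LD3_c55)) :=
  Lgr Lrot30 (Lpr_at (f377704 IH) (Lpr_ft (f377720 IH) (Lpr_at (f291002 IH) (Lpn (LP (LK LD1_c19 LD2_c23 LD3_c55))))))
theorem f291005 : Led Lsl_cf (LP (LK LD1_c15 LD2_c16 LD3_c8)) = (LP (LK LD1_c10 LD2_c42 LD3_c61)) :=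
  Lgr Lrot11 (Lpr_ct (f290998 IH) (Lpn (LP (LK LD1_c10 LD2_c42 LD3_c61))))
theorem f274630 : Led Lsl_at (LP (LK LD1_c15 LD2_c16 LD3_c8)) = (LP (LK LD1_c25 LD2_c6 LD3_c1)) :=
  Lre_a IH (LK LD1_c15 LD2_c16 LD3_c8) (LK LD1_c25 LD2_c6 LD3_c1) Lrfl Lrfl
theorem f291015 : Led Lsl_ct (LP (LK LD1_c25 LD2_c6 LD3_c1)) = (LP (LK LD1_c19 LD2_c23 LD3_c55)) :=
  Lgr Lrot111 (Lpe (f274630 IH) (Lpr_cf (f291005 IH) (Lpe (f291007 IH) (Lpn (LP (LK LD1_c19 LD2_c23 LD3_c55))))))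
theorem f377730 : Led Lsl_ct (LP (LK LD1_c20 LD2_c59 LD3_c44)) = (LP (LK LD1_c19 LD2_c57 LD3_c7)) :=
  Lgr Lrot40 (Lpr_ff (f377724 IH) (Lpe (f291015 IH) (Lpr_ff (f367018 IH) (Lpn (LP (LK LD1_c19 LD2_c57 LD3_c7))))))
theorem f377717 : Led Lsl_at (LP (LK LD1_c11 LD2_c55 LD3_c0)) = (LP (LK LD1_c20 LD2_c59 LD3_c44)) :=
  Lre_a IH (LK LD1_c11 LD2_c55 LD3_c0) (LK LD1_c20 LD2_c59 LD3_c44) Lrfl Lrfl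
theorem f264854 : Led Lsl_gt (LP (LK LD1_c10 LD2_c42 LD3_c61)) = (LP (LK LD1_c19 LD2_c23 LD3_c53)) :=
  Lre_g IH (LK LD1_c10 LD2_c42 LD3_c61) (LK LD1_c19 LD2_c23 LD3_c53) Lrfl Lrfl
theorem f377722 : Led Lsl_gf (LP (LK LD1_c20 LD2_c59 LD3_c44)) = (LP (LK LD1_c19 LD2_c23 LD3_c53)) :=
  Lgr Lrot76 (Lpe (f377717 IH) (Lpr_ff (f377709 IH) (Lpr_gt (f264854 IH) (Lpn (LP (LK LD1_c19 LD2_c23 LD3_c53))))))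
theorem f264855 : Led Lsl_bt (LP (LK LD1_c28 LD2_c47 LD3_c43)) = (LP (LK LD1_c19 LD2_c23 LD3_c53)) :=
  Lre_b IH (LK LD1_c28 LD2_c47 LD3_c43) (LK LD1_c19 LD2_c23 LD3_c53) Lrfl Lrfl
theorem f274634 : Led Lsl_gt (LP (LK LD1_c25 LD2_c6 LD3_c0)) = (LP (LK LD1_c15 LD2_c16 LD3_c8)) :=
  Lre_g IH (LK LD1_c25 LD2_c6 LD3_c0) (LK LD1_c15 LD2_c16 LD3_c8) Lrfl Lrfl
theorem f377373 : Led Lsl_gf (LP (LK LD1_c25 LD2_c6 LD3_c0)) = (LP (LK LD1_c19 LD2_c57 LD3_c7)) :=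
  Lgr Lrot47 (Lpr_gt (f274634 IH) (Lpe (f274621 IH) (Lpr_ff (f367018 IH) (Lpn (LP (LK LD1_c19 LD2_c57 LD3_c7))))))
theorem f237876 : Led Lsl_bt (LP (LK LD1_c5 LD2_c25 LD3_c50)) = (LP (LK LD1_c10 LD2_c42 LD3_c54)) :=
  Lre_b IH (LK LD1_c5 LD2_c25 LD3_c50) (LK LD1_c10 LD2_c42 LD3_c54) Lrfl Lrfl
theorem f237881 : Led Lsl_gt (LP (LK LD1_c10 LD2_c42 LD3_c54)) = (LP (LK LD1_c19 LD2_c23 LD3_c38)) :=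
  Lre_g IH (LK LD1_c10 LD2_c42 LD3_c54) (LK LD1_c19 LD2_c23 LD3_c38) Lrfl Lrfl
theorem f273478 : Led Lsl_bt (LP (LK LD1_c28 LD2_c47 LD3_c32)) = (LP (LK LD1_c19 LD2_c23 LD3_c38)) :=
  Lre_b IH (LK LD1_c28 LD2_c47 LD3_c32) (LK LD1_c19 LD2_c23 LD3_c38) Lrfl Lrfl
theorem f291017 : Led Lsl_cf (LP (LK LD1_c25 LD2_c6 LD3_c0)) = (LP (LK LD1_c28 LD2_c47 LD3_c32)) :=
  Lgr Lrot160 (Lpr_gt (f274634 IH) (Lpr_cf (f291005 IH) (Lpr_bt (f264849 IH) (Lpr_gt (K15.f166139 IH) (Lpr_ct (K14.f166136 IH) (Lpr_gt (K15.f183027 IH) (Lpe (K15.f237834 IH) (Lpr_bt (f237876 IH) (Lpr_gt (f237881 IH) (Lpe (f273478 IH) (Lpn (LP (LK LD1_c28 LD2_c47 LD3_c32)))))))))))))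
theorem f273476 : Led Lsl_gt (LP (LK LD1_c19 LD2_c23 LD3_c38)) = (LP (LK LD1_c20 LD2_c59 LD3_c38)) :=
  Lgr Lrot46 (Lpe (f237881 IH) (Lpr_ft (f273470 IH) (Lpr_at (f192168 IH) (Lpn (LP (LK LD1_c20 LD2_c59 LD3_c38))))))
theorem f260320 : Led Lsl_at (LP (LK LD1_c15 LD2_c27 LD3_c56)) = (LP (LK LD1_c25 LD2_c19 LD3_c45)) :=
  Lre_a IH (LK LD1_c15 LD2_c27 LD3_c56) (LK LD1_c25 LD2_c19 LD3_c45) Lrfl Lrfl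
theorem f260321 : Led Lsl_ff (LP (LK LD1_c28 LD2_c37 LD3_c5)) = (LP (LK LD1_c25 LD2_c19 LD3_c45)) :=
  Lgr Lrot30 (Lpr_at (K21.f260319 IH) (Lpr_ft (K21.f260314 IH) (Lpr_at (f260320 IH) (Lpn (LP (LK LD1_c25 LD2_c19 LD3_c45))))))
theorem f260328 : Led Lsl_ft (LP (LK LD1_c28 LD2_c37 LD3_c5)) = (LP (LK LD1_c25 LD2_c19 LD3_c45)) :=
  Lgr Lrot48 (Lpr_ff (f260321 IH) (Lpn (LP (LK LD1_c25 LD2_c19 LD3_c45))))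
theorem f260334 : Led Lsl_at (LP (LK LD1_c25 LD2_c19 LD3_c45)) = (LP (LK LD1_c15 LD2_c27 LD3_c56)) :=
  Lre_a IH (LK LD1_c25 LD2_c19 LD3_c45) (LK LD1_c15 LD2_c27 LD3_c56) Lrfl Lrfl
theorem f260335 : Led Lsl_gt (LP (LK LD1_c28 LD2_c37 LD3_c5)) = (LP (LK LD1_c25 LD2_c19 LD3_c44)) :=
  Lgr Lrot5 (Lpr_ft (f260328 IH) (Lpr_at (f260334 IH) (Lpe (f260301 IH) (Lpn (LP (LK LD1_c25 LD2_c19 LD3_c44))))))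
theorem f377737 : Led Lsl_ct (LP (LK LD1_c28 LD2_c47 LD3_c43)) = (LP (LK LD1_c25 LD2_c19 LD3_c44)) :=
  Lgr Lrot10 (Lpr_bt (f264855 IH) (Lpe (f377722 IH) (Lpr_ct (f377730 IH) (Lpe (f377373 IH) (Lpr_cf (f291017 IH) (Lpr_bt (f273478 IH) (Lpr_gt (f273476 IH) (Lpe (K21.f273461 IH) (Lpr_ct (K21.f275816 IH) (Lpr_gt (f260335 IH) (Lpn (LP (LK LD1_c25 LD2_c19 LD3_c44)))))))))))))
theorem f603378 : Led Lsl_gt (LP (LK LD1_c20 LD2_c58 LD3_c14)) = (LP (LK LD1_c28 LD2_c47 LD3_c43)) :=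
  Lgr Lrot82 (Lpe (f291500 IH) (Lpr_ct (f263546 IH) (Lpe (f177422 IH) (Lpr_cf (f603255 IH) (Lpr_bt (f231858 IH) (Lpe (f231854 IH) (Lpe (f231856 IH) (Lpr_ct (f260286 IH) (Lpe (f260301 IH) (Lpe (f377737 IH) (Lpn (LP (LK LD1_c28 LD2_c47 LD3_c43)))))))))))))
theorem f291481 : Led Lsl_ft (LP (LK LD1_c15 LD2_c27 LD3_c38)) = (LP (LK LD1_c11 LD2_c54 LD3_c17)) :=
  Lgr Lrot48 (Lpr_ff (f291474 IH) (Lpn (LP (LK LD1_c11 LD2_c54 LD3_c17))))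
theorem f55249 : Led Lsl_ct (LP (LK LD1_c25 LD2_c19 LD3_c29)) = (LP (LK LD1_c15 LD2_c27 LD3_c38)) :=
  Lre_c IH (LK LD1_c25 LD2_c19 LD3_c29) (LK LD1_c15 LD2_c27 LD3_c38) Lrfl Lrfl
theorem f274127 : Led Lsl_ct (LP (LK LD1_c11 LD2_c54 LD3_c17)) = (LP (LK LD1_c20 LD2_c58 LD3_c14)) :=
  Lre_c IH (LK LD1_c11 LD2_c54 LD3_c17) (LK LD1_c20 LD2_c58 LD3_c14) Lrfl Lrfl
theorem f291490 : Led Lsl_ff (LP (LK LD1_c25 LD2_c19 LD3_c29)) = (LP (LK LD1_c20 LD2_c58 LD3_c14)) :=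
  Lgr Lrot23 (Lpr_ct (f55249 IH) (Lpr_ft (f291481 IH) (Lpr_ct (f274127 IH) (Lpn (LP (LK LD1_c20 LD2_c58 LD3_c14))))))
theorem f291486 : Led Lsl_at (LP (LK LD1_c25 LD2_c19 LD3_c27)) = (LP (LK LD1_c15 LD2_c27 LD3_c38)) :=
  Lre_a IH (LK LD1_c25 LD2_c19 LD3_c27) (LK LD1_c15 LD2_c27 LD3_c38) Lrfl Lrfl
theorem f55252 : Led Lsl_ct (LP (LK LD1_c15 LD2_c27 LD3_c38)) = (LP (LK LD1_c25 LD2_c19 LD3_c29)) :=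
  Lre_c IH (LK LD1_c15 LD2_c27 LD3_c38) (LK LD1_c25 LD2_c19 LD3_c29) Lrfl Lrfl
theorem f602503 : Led Lsl_at (LP (LK LD1_c25 LD2_c19 LD3_c29)) = (LP (LK LD1_c25 LD2_c52 LD3_c34)) :=
  Lgr Lrot107 (Lpe (f55252 IH) (Lpe (f291486 IH) (Lpr_cf (f586645 IH) (Lpn (LP (LK LD1_c25 LD2_c52 LD3_c34))))))
theorem f603380 : Led Lsl_gf (LP (LK LD1_c25 LD2_c52 LD3_c34)) = (LP (LK LD1_c28 LD2_c47 LD3_c43)) :=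
  Lgr Lrot76 (Lpe (f602503 IH) (Lpr_ff (f291490 IH) (Lpr_gt (f603378 IH) (Lpn (LP (LK LD1_c28 LD2_c47 LD3_c43))))))
theorem f377739 : Led Lsl_bt (LP (LK LD1_c19 LD2_c23 LD3_c53)) = (LP (LK LD1_c28 LD2_c47 LD3_c43)) :=
  Lre_b IH (LK LD1_c19 LD2_c23 LD3_c53) (LK LD1_c28 LD2_c47 LD3_c43) Lrfl Lrfl
theorem f264856 : Led Lsl_ct (LP (LK LD1_c19 LD2_c23 LD3_c53)) = (LP (LK LD1_c28 LD2_c47 LD3_c44)) :=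
  Lre_c IH (LK LD1_c19 LD2_c23 LD3_c53) (LK LD1_c28 LD2_c47 LD3_c44) Lrfl Lrfl
theorem f975432 : Led Lsl_gt (LP (LK LD1_c21 LD2_c1 LD3_c49)) = (LP (LK LD1_c28 LD2_c47 LD3_c44)) :=
  Lgr Lrot65 (Lpr_cf (f751158 IH) (Lpr_bt (K56.f751152 IH) (Lpr_gf (f975428 IH) (Lpe (f975431 IH) (Lpe (f586651 IH) (Lpe (f291515 IH) (Lpr_cf (f586645 IH) (Lpr_gf (f603380 IH) (Lpe (f377739 IH) (Lpr_ct (f264856 IH) (Lpn (LP (LK LD1_c28 LD2_c47 LD3_c44)))))))))))))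
theorem f975433 : Led Lsl_gt (LP (LK LD1_c21 LD2_c1 LD3_c49)) = (LP (LK LD1_c28 LD2_c47 LD3_c44)) :=
  Leop (Lpe (f975432 IH) (Lpn (LP (LK LD1_c21 LD2_c1 LD3_c49))))
theorem seed_3019 : LEOK LG_g (LK LD1_c21 LD2_c1 LD3_c49) :=
  Leoe_g (LK LD1_c21 LD2_c1 LD3_c49) (f975433 IH)
def v50352 : LQ := Led Lsl_at (LP (LK LD1_c11 LD2_c55 LD3_c13))
theorem f975453 : Led Lsl_at (LP (LK LD1_c11 LD2_c55 LD3_c13)) = v50352 :=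
  Lrfl
theorem f166147 : Led Lsl_bt (LP (LK LD1_c10 LD2_c43 LD3_c20)) = (LP (LK LD1_c5 LD2_c26 LD3_c1)) :=
  Lre_b IH (LK LD1_c10 LD2_c43 LD3_c20) (LK LD1_c5 LD2_c26 LD3_c1) Lrfl Lrfl
theorem f929409 : Led Lsl_ff (LP (LK LD1_c10 LD2_c43 LD3_c20)) = (LP (LK LD1_c11 LD2_c55 LD3_c13)) :=
  Lgr Lrot25 (Lpr_bt (f166147 IH) (Lpqs (K72.f929398 IH) (Lpe (K72.f751147 IH) (Lpr_bt (f751148 IH) (Lpn (LP (LK LD1_c11 LD2_c55 LD3_c13)))))))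
theorem f929442 : Led Lsl_ft (LP (LK LD1_c10 LD2_c43 LD3_c20)) = (LP (LK LD1_c11 LD2_c55 LD3_c13)) :=
  Lgr Lrot48 (Lpr_ff (f929409 IH) (Lpn (LP (LK LD1_c11 LD2_c55 LD3_c13))))
theorem f975457 : Led Lsl_gt (LP (LK LD1_c19 LD2_c24 LD3_c19)) = v50352 :=
  Lgr Lrot46 (Lpe (f929447 IH) (Lpr_ft (f929442 IH) (Lpr_at (f975453 IH) (Lpn v50352))))
theorem f252611 : Led Lsl_bt (LP (LK LD1_c20 LD2_c56 LD3_c19)) = (LP (LK LD1_c11 LD2_c53 LD3_c2)) :=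
  Lre_b IH (LK LD1_c20 LD2_c56 LD3_c19) (LK LD1_c11 LD2_c53 LD3_c2) Lrfl Lrfl
theorem f975460 : Led Lsl_ct (LP (LK LD1_c20 LD2_c56 LD3_c19)) = v50352 :=
  Lgr Lrot63 (Lpr_bt (f252611 IH) (Lpr_gt (f216207 IH) (Lpe (K56.f194170 IH) (Lpr_ct (K15.f187844 IH) (Lpr_gt (K14.f252592 IH) (Lpe (K14.f184400 IH) (Lpr_bt (K74.f726443 IH) (Lpr_gt (f974948 IH) (Lpe (f974950 IH) (Lpr_gt (f975457 IH) (Lpn v50352)))))))))))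
theorem f975454 : Led Lsl_af (LP (LK LD1_c11 LD2_c55 LD3_c13)) = v50352 :=
  Lgr Lrot0 (Lpr_at (f975453 IH) (Lpn v50352))
theorem f179050 : Led Lsl_ct (LP (LK LD1_c11 LD2_c55 LD3_c13)) = (LP (LK LD1_c21 LD2_c0 LD3_c5)) :=
  Lre_c IH (LK LD1_c11 LD2_c55 LD3_c13) (LK LD1_c21 LD2_c0 LD3_c5) Lrfl Lrfl
theorem f975461 : Led Lsl_af (LP (LK LD1_c20 LD2_c56 LD3_c19)) = (LP (LK LD1_c21 LD2_c0 LD3_c5)) :=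
  Lgr Lrot68 (Lpr_ct (f975460 IH) (Lpe (f975454 IH) (Lpr_ct (f179050 IH) (Lpn (LP (LK LD1_c21 LD2_c0 LD3_c5))))))
theorem f975462 : Led Lsl_at (LP (LK LD1_c21 LD2_c0 LD3_c5)) = (LP (LK LD1_c20 LD2_c56 LD3_c19)) :=
  Leop (Lpr_af (f975461 IH) (Lpn (LP (LK LD1_c21 LD2_c0 LD3_c5))))
theorem seed_3020 : LEOK LG_a (LK LD1_c21 LD2_c0 LD3_c5) :=
  Leoe_a (LK LD1_c21 LD2_c0 LD3_c5) (f975462 IH)
theorem f930200 : Led Lsl_ct (LP (LK LD1_c19 LD2_c24 LD3_c55)) = K72.v41924 :=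
  Lgr Lrot59 (Lpr_cf (K72.f930196 IH) (Lpn K72.v41924))
theorem f198746 : Led Lsl_bt (LP (LK LD1_c28 LD2_c48 LD3_c32)) = (LP (LK LD1_c19 LD2_c24 LD3_c55)) :=
  Lre_b IH (LK LD1_c28 LD2_c48 LD3_c32) (LK LD1_c19 LD2_c24 LD3_c55) Lrfl Lrfl
theorem f930201 : Led Lsl_cf (LP (LK LD1_c28 LD2_c48 LD3_c32)) = (LP (LK LD1_c20 LD2_c55 LD3_c61)) :=
  Lgr Lrot97 (Lpr_bt (f198746 IH) (Lpr_ct (f930200 IH) (Lpe (K72.f930193 IH) (Lpr_ct (f412762 IH) (Lpe (K72.f412758 IH) (Lpn (LP (LK LD1_c20 LD2_c55 LD3_c61))))))))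
theorem f975403 : Led Lsl_bt v44363 = v14446 :=
  Lgr Lrot62 (Lpr_af (f975401 IH) (Lpe (f974953 IH) (Lpr_af (f974979 IH) (Lpe (f974984 IH) (Lpr_af (f975012 IH) (Lpn v14446))))))
theorem f975413 : Led Lsl_bt v35965 = v50303 :=
  Lgr Lrot35 (Lpr_ff (f975017 IH) (Lpe (f975403 IH) (Lpr_ff (f975412 IH) (Lpn v50303))))
theorem f975010 : Led Lsl_ft K56.v16679 = v14445 :=
  Lgr Lrot48 (Lpr_ff (f975008 IH) (Lpn v14445))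
theorem f975016 : Led Lsl_af v35965 = v14445 :=
  Lgr Lrot45 (Lpr_ft (f975015 IH) (Lpe (f975012 IH) (Lpr_ft (f975010 IH) (Lpn v14445))))
theorem f975410 : Led Lsl_af (LP (LK LD1_c19 LD2_c24 LD3_c53)) = v50303 :=
  Lgr Lrot0 (Lpr_at (f975409 IH) (Lpn v50303))
theorem f975395 : Led Lsl_bt (LP (LK LD1_c19 LD2_c24 LD3_c53)) = (LP (LK LD1_c21 LD2_c0 LD3_c4)) :=
  Lgr Lrot127 (Lpr_bf (f975393 IH) (Lpn (LP (LK LD1_c21 LD2_c0 LD3_c4))))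
theorem f975420 : Led Lsl_af v44327 = (LP (LK LD1_c21 LD2_c0 LD3_c4)) :=
  Lgr Lrot36 (Lpr_bt (f975006 IH) (Lpe (f975016 IH) (Lpr_bt (f975413 IH) (Lpe (f975410 IH) (Lpr_bt (f975395 IH) (Lpn (LP (LK LD1_c21 LD2_c0 LD3_c4))))))))
theorem f975458 : Led Lsl_gf v44327 = v50352 :=
  Lgr Lrot76 (Lpr_af (f975420 IH) (Lpe (f975391 IH) (Lpr_gt (f975457 IH) (Lpn v50352))))
theorem f974981 : Led Lsl_cf (LP (LK LD1_c11 LD2_c54 LD3_c13)) = v50279 :=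
  Lgr Lrot11 (Lpr_ct (f974978 IH) (Lpn v50279))
theorem f974614 : Led Lsl_ft (LP (LK LD1_c11 LD2_c54 LD3_c13)) = v50220 :=
  Lgr Lrot48 (Lpr_ff (f974611 IH) (Lpn v50220))
theorem f975003 : Led Lsl_cf v44327 = v50220 :=
  Lgr Lrot108 (Lpr_ft (f975002 IH) (Lpe (f974981 IH) (Lpr_ft (f974614 IH) (Lpn v50220))))
theorem f974609 : Led Lsl_bf (LP (LK LD1_c11 LD2_c52 LD3_c36)) = v50220 :=
  Lgr Lrot24 (Lpr_bt (f974607 IH) (Lpn v50220))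
theorem f975463 : Led Lsl_gf (LP (LK LD1_c28 LD2_c48 LD3_c32)) = (LP (LK LD1_c20 LD2_c55 LD3_c38)) :=
  Lgr Lrot126 (Lpr_cf (f930201 IH) (Lpr_bt (K72.f412760 IH) (Lpr_gt (f974731 IH) (Lpr_ct (f975460 IH) (Lpe (f975458 IH) (Lpr_cf (f975003 IH) (Lpe (f974609 IH) (Lpr_gt (K15.f195315 IH) (Lpe (K74.f265143 IH) (Lpr_ct (K74.f194979 IH) (Lpn (LP (LK LD1_c20 LD2_c55 LD3_c38)))))))))))))
theorem f975464 : Led Lsl_gt (LP (LK LD1_c20 LD2_c55 LD3_c38)) = (LP (LK LD1_c28 LD2_c48 LD3_c32)) :=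
  Leop (Lpr_gf (f975463 IH) (Lpn (LP (LK LD1_c20 LD2_c55 LD3_c38))))
theorem seed_3021 : LEOK LG_g (LK LD1_c20 LD2_c55 LD3_c38) :=
  Leoe_g (LK LD1_c20 LD2_c55 LD3_c38) (f975464 IH)
def v50367 : LQ := Led Lsl_at (LP (LK LD1_c11 LD2_c55 LD3_c20))
theorem f975536 : Led Lsl_at (LP (LK LD1_c11 LD2_c55 LD3_c20)) = v50367 :=
  Lrfl
theorem f187727 : Led Lsl_ff (LP (LK LD1_c11 LD2_c55 LD3_c20)) = (LP (LK LD1_c10 LD2_c23 LD3_c37)) :=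
  Lgr Lrot25 (Lpr_bt (K74.f187726 IH) (Lpr_ft (K10.f187642 IH) (Lpr_bt (K16.f54062 IH) (Lpn (LP (LK LD1_c10 LD2_c23 LD3_c37))))))
theorem f975541 : Led Lsl_ff (LP (LK LD1_c18 LD2_c51 LD3_c29)) = v50367 :=
  Lgr Lrot30 (Lpr_at (K16.f187760 IH) (Lpe (f187727 IH) (Lpr_at (f975536 IH) (Lpn v50367))))
theorem f975546 : Led Lsl_gf (LP (LK LD1_c18 LD2_c51 LD3_c28)) = v50367 :=
  Lgr Lrot47 (Lpr_gt (f184160 IH) (Lpe (K16.f187760 IH) (Lpr_ff (f975541 IH) (Lpn v50367))))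
theorem f974583 : Led Lsl_cf (LP (LK LD1_c20 LD2_c55 LD3_c28)) = (LP (LK LD1_c18 LD2_c51 LD3_c28)) :=
  Lgr Lrot11 (Lpr_ct (f974580 IH) (Lpn (LP (LK LD1_c18 LD2_c51 LD3_c28))))
theorem f195362 : Led Lsl_dt (LP (LK LD1_c20 LD2_c55 LD3_c28)) = (LP (LK LD1_c11 LD2_c52 LD3_c30)) :=
  Lre_d IH (LK LD1_c20 LD2_c55 LD3_c28) (LK LD1_c11 LD2_c52 LD3_c30) Lrfl Lrfl
theorem f190178 : Led Lsl_ct (LP (LK LD1_c20 LD2_c55 LD3_c27)) = (LP (LK LD1_c11 LD2_c52 LD3_c30)) :=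
  Lre_c IH (LK LD1_c20 LD2_c55 LD3_c27) (LK LD1_c11 LD2_c52 LD3_c30) Lrfl Lrfl
theorem f399050 : Led Lsl_ct (LP (LK LD1_c18 LD2_c51 LD3_c29)) = (LP (LK LD1_c20 LD2_c56 LD3_c51)) :=
  Lgr Lrot59 (Lpr_cf (K74.f399046 IH) (Lpn (LP (LK LD1_c20 LD2_c56 LD3_c51))))
theorem f975544 : Led Lsl_ct (LP (LK LD1_c19 LD2_c14 LD3_c13)) = v50367 :=
  Lgr Lrot40 (Lpr_ff (K74.f399058 IH) (Lpe (f399050 IH) (Lpr_ff (f975541 IH) (Lpn v50367))))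
theorem f421606 : Led Lsl_gf (LP (LK LD1_c19 LD2_c14 LD3_c13)) = (LP (LK LD1_c20 LD2_c56 LD3_c49)) :=
  Lgr Lrot76 (Lpe (K74.f190145 IH) (Lpr_ff (K74.f190204 IH) (Lpr_gt (K74.f216295 IH) (Lpn (LP (LK LD1_c20 LD2_c56 LD3_c49))))))
theorem f618691 : Led Lsl_dt (LP (LK LD1_c11 LD2_c56 LD3_c25)) = (LP (LK LD1_c21 LD2_c1 LD3_c17)) :=
  Lre_d IH (LK LD1_c11 LD2_c56 LD3_c25) (LK LD1_c21 LD2_c1 LD3_c17) Lrfl Lrfl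
theorem f939982 : Led Lsl_dt (LP (LK LD1_c28 LD2_c29 LD3_c26)) = (LP (LK LD1_c20 LD2_c56 LD3_c49)) :=
  Lgr Lrot79 (Lpe (K74.f618683 IH) (Lpe (f618691 IH) (Lpqs (K74.f939957 IH) (Lpe (K74.f826583 IH) (Lpn (LP (LK LD1_c20 LD2_c56 LD3_c49)))))))
theorem f975547 : Led Lsl_gf (LP (LK LD1_c20 LD2_c55 LD3_c27)) = (LP (LK LD1_c19 LD2_c7 LD3_c54)) :=
  Lgr Lrot104 (Lpr_ct (f190178 IH) (Lpe (f195362 IH) (Lpr_cf (f974583 IH) (Lpr_gf (f975546 IH) (Lpe (f975544 IH) (Lpr_gf (f421606 IH) (Lpe (f939982 IH) (Lpe (K74.f618737 IH) (Lpr_ct (K74.f417314 IH) (Lpn (LP (LK LD1_c19 LD2_c7 LD3_c54))))))))))))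
theorem f975548 : Led Lsl_gt (LP (LK LD1_c19 LD2_c7 LD3_c54)) = (LP (LK LD1_c20 LD2_c55 LD3_c27)) :=
  Leop (Lpr_gf (f975547 IH) (Lpn (LP (LK LD1_c19 LD2_c7 LD3_c54))))
theorem seed_3022 : LEOK LG_g (LK LD1_c19 LD2_c7 LD3_c54) :=
  Leoe_g (LK LD1_c19 LD2_c7 LD3_c54) (f975548 IH)
theorem f184161 : Led Lsl_bt (LP (LK LD1_c28 LD2_c19 LD3_c45)) = (LP (LK LD1_c18 LD2_c51 LD3_c28)) :=
  Lre_b IH (LK LD1_c28 LD2_c19 LD3_c45) (LK LD1_c18 LD2_c51 LD3_c28) Lrfl Lrfl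
theorem f975543 : Led Lsl_bt (LP (LK LD1_c18 LD2_c52 LD3_c41)) = v50367 :=
  Lgr Lrot35 (Lpe (K74.f33055 IH) (Lpe (K16.f33071 IH) (Lpr_ff (f975541 IH) (Lpn v50367))))
theorem f33069 : Led Lsl_gt (LP (LK LD1_c8 LD2_c37 LD3_c56)) = (LP (LK LD1_c16 LD2_c10 LD3_c2)) :=
  Lre_g IH (LK LD1_c8 LD2_c37 LD3_c56) (LK LD1_c16 LD2_c10 LD3_c2) Lrfl Lrfl
theorem f33043 : Led Lsl_ct (LP (LK LD1_c16 LD2_c10 LD3_c5)) = (LP (LK LD1_c8 LD2_c37 LD3_c56)) :=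
  Lre_c IH (LK LD1_c16 LD2_c10 LD3_c5) (LK LD1_c8 LD2_c37 LD3_c56) Lrfl Lrfl
theorem f945905 : Led Lsl_at (LP (LK LD1_c25 LD2_c24 LD3_c41)) = (LP (LK LD1_c21 LD2_c0 LD3_c31)) :=
  Lgr Lrot100 (Lpr_af (K74.f945903 IH) (Lpn (LP (LK LD1_c21 LD2_c0 LD3_c31))))
theorem f194826 : Led Lsl_bt (LP (LK LD1_c15 LD2_c32 LD3_c39)) = (LP (LK LD1_c25 LD2_c25 LD3_c58)) :=
  Lre_b IH (LK LD1_c15 LD2_c32 LD3_c39) (LK LD1_c25 LD2_c25 LD3_c58) Lrfl Lrfl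
theorem f945890 : Led Lsl_ff (LP (LK LD1_c25 LD2_c24 LD3_c41)) = (LP (LK LD1_c25 LD2_c25 LD3_c58)) :=
  Lgr Lrot25 (Lpr_bt (K74.f353055 IH) (Lpr_ft (K74.f945886 IH) (Lpr_bt (f194826 IH) (Lpn (LP (LK LD1_c25 LD2_c25 LD3_c58))))))
theorem f187661 : Led Lsl_ct (LP (LK LD1_c11 LD2_c55 LD3_c37)) = (LP (LK LD1_c6 LD2_c6 LD3_c4)) :=
  Lre_c IH (LK LD1_c11 LD2_c55 LD3_c37) (LK LD1_c6 LD2_c6 LD3_c4) Lrfl Lrfl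
theorem f32994 : Led Lsl_bt (LP (LK LD1_c5 LD2_c17 LD3_c25)) = (LP (LK LD1_c2 LD2_c35 LD3_c29)) :=
  Lre_b IH (LK LD1_c5 LD2_c17 LD3_c25) (LK LD1_c2 LD2_c35 LD3_c29) Lrfl Lrfl
theorem f33012 : Led Lsl_gt (LP (LK LD1_c8 LD2_c37 LD3_c57)) = (LP (LK LD1_c4 LD2_c19 LD3_c60)) :=
  Lre_g IH (LK LD1_c8 LD2_c37 LD3_c57) (LK LD1_c4 LD2_c19 LD3_c60) Lrfl Lrfl
theorem f33013 : Led Lsl_ct (LP (LK LD1_c16 LD2_c10 LD3_c9)) = (LP (LK LD1_c8 LD2_c37 LD3_c57)) :=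
  Lre_c IH (LK LD1_c16 LD2_c10 LD3_c9) (LK LD1_c8 LD2_c37 LD3_c57) Lrfl Lrfl
theorem f187663 : Led Lsl_gt (LP (LK LD1_c21 LD2_c0 LD3_c31)) = (LP (LK LD1_c16 LD2_c10 LD3_c9)) :=
  Lgr Lrot82 (Lpe (K74.f187662 IH) (Lpr_ct (f187661 IH) (Lpe (K56.f187660 IH) (Lpe (K74.f181239 IH) (Lpr_bt (K71.f187659 IH) (Lpr_gf (K10.f187656 IH) (Lpe (f32994 IH) (Lpr_ct (K11.f32997 IH) (Lpe (f33012 IH) (Lpe (f33013 IH) (Lpn (LP (LK LD1_c16 LD2_c10 LD3_c9)))))))))))))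
theorem f187711 : Led Lsl_at (LP (LK LD1_c26 LD2_c6 LD3_c55)) = (LP (LK LD1_c16 LD2_c10 LD3_c9)) :=
  Lre_a IH (LK LD1_c26 LD2_c6 LD3_c55) (LK LD1_c16 LD2_c10 LD3_c9) Lrfl Lrfl
theorem f187712 : Led Lsl_ft (LP (LK LD1_c16 LD2_c10 LD3_c5)) = (LP (LK LD1_c26 LD2_c6 LD3_c55)) :=
  Lre_f IH (LK LD1_c16 LD2_c10 LD3_c5) (LK LD1_c26 LD2_c6 LD3_c55) Lrfl Lrfl
theorem f187713 : Led Lsl_gf (LP (LK LD1_c21 LD2_c0 LD3_c31)) = (LP (LK LD1_c16 LD2_c10 LD3_c5)) :=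
  Lgr Lrot47 (Lpr_gt (f187663 IH) (Lpe (f187711 IH) (Lpe (f187712 IH) (Lpn (LP (LK LD1_c16 LD2_c10 LD3_c5))))))
theorem f945907 : Led Lsl_gt (LP (LK LD1_c25 LD2_c25 LD3_c58)) = (LP (LK LD1_c16 LD2_c10 LD3_c5)) :=
  Lgr Lrot5 (Lpe (f945890 IH) (Lpr_at (f945905 IH) (Lpr_gf (f187713 IH) (Lpn (LP (LK LD1_c16 LD2_c10 LD3_c5))))))
theorem f194822 : Led Lsl_gt (LP (LK LD1_c5 LD2_c21 LD3_c54)) = (LP (LK LD1_c10 LD2_c34 LD3_c2)) :=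
  Lre_g IH (LK LD1_c5 LD2_c21 LD3_c54) (LK LD1_c10 LD2_c34 LD3_c2) Lrfl Lrfl
theorem f194823 : Led Lsl_bt (LP (LK LD1_c19 LD2_c8 LD3_c24)) = (LP (LK LD1_c10 LD2_c34 LD3_c2)) :=
  Lre_b IH (LK LD1_c19 LD2_c8 LD3_c24) (LK LD1_c10 LD2_c34 LD3_c2) Lrfl Lrfl
theorem f194824 : Led Lsl_cf (LP (LK LD1_c15 LD2_c32 LD3_c39)) = (LP (LK LD1_c19 LD2_c8 LD3_c24)) :=
  Lgr Lrot160 (Lpr_gt (K72.f184158 IH) (Lpr_cf (K14.f194777 IH) (Lpr_bt (K74.f194809 IH) (Lpr_gt (K10.f46476 IH) (Lpr_ct (K10.f46455 IH) (Lpr_gt (K11.f41511 IH) (Lpe (K12.f194820 IH) (Lpr_bt (K73.f194821 IH) (Lpr_gt (f194822 IH) (Lpe (f194823 IH) (Lpn (LP (LK LD1_c19 LD2_c8 LD3_c24)))))))))))))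
theorem f194829 : Led Lsl_ct (LP (LK LD1_c15 LD2_c32 LD3_c39)) = (LP (LK LD1_c19 LD2_c8 LD3_c24)) :=
  Lgr Lrot59 (Lpr_cf (f194824 IH) (Lpn (LP (LK LD1_c19 LD2_c8 LD3_c24))))
theorem f194833 : Led Lsl_gt (LP (LK LD1_c28 LD2_c34 LD3_c7)) = (LP (LK LD1_c19 LD2_c8 LD3_c24)) :=
  Lre_g IH (LK LD1_c28 LD2_c34 LD3_c7) (LK LD1_c19 LD2_c8 LD3_c24) Lrfl Lrfl
theorem f975549 : Led Lsl_ct (LP (LK LD1_c28 LD2_c19 LD3_c45)) = (LP (LK LD1_c28 LD2_c34 LD3_c7)) :=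
  Lgr Lrot64 (Lpr_bt (f184161 IH) (Lpr_gf (f975546 IH) (Lpe (f975543 IH) (Lpr_ct (K74.f33056 IH) (Lpe (f33069 IH) (Lpe (f33043 IH) (Lpe (f945907 IH) (Lpe (f194826 IH) (Lpr_ct (f194829 IH) (Lpe (f194833 IH) (Lpn (LP (LK LD1_c28 LD2_c34 LD3_c7)))))))))))))
theorem f975550 : Led Lsl_ct (LP (LK LD1_c28 LD2_c19 LD3_c45)) = (LP (LK LD1_c28 LD2_c34 LD3_c7)) :=
  Leop (Lpe (f975549 IH) (Lpn (LP (LK LD1_c28 LD2_c19 LD3_c45))))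
theorem seed_3023 : LEOK LG_c (LK LD1_c28 LD2_c19 LD3_c45) :=
  Leoe_c (LK LD1_c28 LD2_c19 LD3_c45) (f975550 IH)
theorem f190179 : Led Lsl_bt (LP (LK LD1_c29 LD2_c44 LD3_c25)) = (LP (LK LD1_c20 LD2_c55 LD3_c27)) :=
  Lre_b IH (LK LD1_c29 LD2_c44 LD3_c25) (LK LD1_c20 LD2_c55 LD3_c27) Lrfl Lrfl
theorem f190177 : Led Lsl_bt (LP (LK LD1_c11 LD2_c52 LD3_c30)) = (LP (LK LD1_c20 LD2_c55 LD3_c26)) :=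
  Lre_b IH (LK LD1_c11 LD2_c52 LD3_c30) (LK LD1_c20 LD2_c55 LD3_c26) Lrfl Lrfl
theorem f555755 : Led Lsl_cf (LP (LK LD1_c29 LD2_c44 LD3_c25)) = (LP (LK LD1_c28 LD2_c34 LD3_c30)) :=
  Lgr Lrot97 (Lpr_bt (f190179 IH) (Lpr_ct (f190178 IH) (Lpr_bt (f190177 IH) (Lpr_ct (K74.f190175 IH) (Lpr_bt (f555751 IH) (Lpn (LP (LK LD1_c28 LD2_c34 LD3_c30))))))))
theorem f555757 : Led Lsl_ct (LP (LK LD1_c29 LD2_c44 LD3_c25)) = (LP (LK LD1_c28 LD2_c34 LD3_c30)) :=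
  Lgr Lrot59 (Lpr_cf (f555755 IH) (Lpn (LP (LK LD1_c28 LD2_c34 LD3_c30))))
theorem f194903 : Led Lsl_ct (LP (LK LD1_c10 LD2_c34 LD3_c15)) = (LP (LK LD1_c19 LD2_c8 LD3_c49)) :=
  Lre_c IH (LK LD1_c10 LD2_c34 LD3_c15) (LK LD1_c19 LD2_c8 LD3_c49) Lrfl Lrfl
theorem f194910 : Led Lsl_bt (LP (LK LD1_c10 LD2_c34 LD3_c15)) = (LP (LK LD1_c19 LD2_c8 LD3_c48)) :=
  Lre_b IH (LK LD1_c10 LD2_c34 LD3_c15) (LK LD1_c19 LD2_c8 LD3_c48) Lrfl Lrfl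
theorem f555414 : Led Lsl_bt (LP (LK LD1_c10 LD2_c33 LD3_c49)) = (LP (LK LD1_c19 LD2_c7 LD3_c54)) :=
  Lre_b IH (LK LD1_c10 LD2_c33 LD3_c49) (LK LD1_c19 LD2_c7 LD3_c54) Lrfl Lrfl
def v43726 : LQ := Led Lsl_ct (LP (LK LD1_c10 LD2_c33 LD3_c49))
theorem f942006 : Led Lsl_ct (LP (LK LD1_c10 LD2_c33 LD3_c49)) = v43726 :=
  Lrfl
theorem f216099 : Led Lsl_bt (LP (LK LD1_c10 LD2_c34 LD3_c39)) = (LP (LK LD1_c5 LD2_c22 LD3_c5)) :=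
  Lre_b IH (LK LD1_c10 LD2_c34 LD3_c39) (LK LD1_c5 LD2_c22 LD3_c5) Lrfl Lrfl
def v43764 : LQ := Led Lsl_ct (LP (LK LD1_c10 LD2_c34 LD3_c39))
theorem f942181 : Led Lsl_ct (LP (LK LD1_c10 LD2_c34 LD3_c39)) = v43764 :=
  Lrfl
theorem f975555 : Led Lsl_gt v43764 = v43726 :=
  Lgr Lrot65 (Lpe (f942181 IH) (Lpr_bt (f216099 IH) (Lpe (K72.f195363 IH) (Lpe (K70.f195355 IH) (Lpe (K70.f194954 IH) (Lpe (K74.f190182 IH) (Lpe (f190178 IH) (Lpr_gf (f975547 IH) (Lpe (f555414 IH) (Lpr_ct (f942006 IH) (Lpn v43726)))))))))))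
def v43763 : LQ := Led Lsl_gf (LP (LK LD1_c10 LD2_c34 LD3_c39))
theorem f942180 : Led Lsl_gf (LP (LK LD1_c10 LD2_c34 LD3_c39)) = v43763 :=
  Lrfl
theorem f975557 : (LP (LK LD1_c19 LD2_c8 LD3_c48)) = v43763 :=
  (Llr Lrot130 (Lpe (f194910 IH) (Lpr_ct (f194903 IH) (Lpe (f336764 IH) (Lpe (f555757 IH) (Lpr_bt (f190179 IH) (Lpr_gf (f975547 IH) (Lpe (f555414 IH) (Lpr_ct (f942006 IH) (Lpe (f975555 IH) (Lpe (f942181 IH) (Lpr_gf (f942180 IH) (Lpn v43763))))))))))))).symm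
theorem f975558 : Led Lsl_gt (LP (LK LD1_c19 LD2_c8 LD3_c48)) = (LP (LK LD1_c10 LD2_c34 LD3_c39)) :=
  Leop (Lpr_gf (f942180 IH) (Lpq (f975557 IH) (Lpn (LP (LK LD1_c19 LD2_c8 LD3_c48)))))
theorem seed_3024 : LEOK LG_g (LK LD1_c19 LD2_c8 LD3_c48) :=
  Leoe_g (LK LD1_c19 LD2_c8 LD3_c48) (f975558 IH)
theorem f819399 : Led Lsl_ct K72.v14738 = K72.v23616 :=
  Lgr Lrot59 (Lpr_cf (K72.f819398 IH) (Lpn K72.v23616))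
def v43750 : LQ := Led Lsl_gf (LP (LK LD1_c10 LD2_c34 LD3_c33))
theorem f942092 : Led Lsl_gf (LP (LK LD1_c10 LD2_c34 LD3_c33)) = v43750 :=
  Lrfl
def v14739 : LQ := Led Lsl_gf (LP (LK LD1_c5 LD2_c22 LD3_c6))
theorem f726409 : Led Lsl_gf (LP (LK LD1_c5 LD2_c22 LD3_c6)) = v14739 :=
  Lrfl
theorem f942093 : Led Lsl_ft (LP (LK LD1_c10 LD2_c34 LD3_c38)) = (LP (LK LD1_c5 LD2_c22 LD3_c4)) :=
  Lre_f IH (LK LD1_c10 LD2_c34 LD3_c38) (LK LD1_c5 LD2_c22 LD3_c4) Lrfl Lrfl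
theorem f942094 : Led Lsl_gt (LP (LK LD1_c10 LD2_c34 LD3_c38)) = v43750 :=
  Lgr Lrot5 (Lpr_ft (f942093 IH) (Lpr_at (K73.f726384 IH) (Lpr_gf (f942092 IH) (Lpn v43750))))
theorem f51199 : Led Lsl_gt (LP (LK LD1_c17 LD2_c35 LD3_c48)) = (LP (LK LD1_c9 LD2_c33 LD3_c20)) :=
  Lre_g IH (LK LD1_c17 LD2_c35 LD3_c48) (LK LD1_c9 LD2_c33 LD3_c20) Lrfl Lrfl
theorem f189352 : Led Lsl_bt (LP (LK LD1_c27 LD2_c23 LD3_c51)) = (LP (LK LD1_c17 LD2_c35 LD3_c48)) :=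
  Lre_b IH (LK LD1_c27 LD2_c23 LD3_c51) (LK LD1_c17 LD2_c35 LD3_c48) Lrfl Lrfl
theorem f194904 : Led Lsl_gt (LP (LK LD1_c19 LD2_c8 LD3_c49)) = (LP (LK LD1_c28 LD2_c34 LD3_c29)) :=
  Lre_g IH (LK LD1_c19 LD2_c8 LD3_c49) (LK LD1_c28 LD2_c34 LD3_c29) Lrfl Lrfl
theorem f194905 : Led Lsl_ct (LP (LK LD1_c27 LD2_c23 LD3_c51)) = (LP (LK LD1_c28 LD2_c34 LD3_c29)) :=
  Lgr Lrot63 (Lpr_bt (f189352 IH) (Lpr_gt (f51199 IH) (Lpe (K12.f51166 IH) (Lpr_ct (K10.f27697 IH) (Lpr_gt (K10.f27729 IH) (Lpr_cf (K14.f194892 IH) (Lpr_bt (K14.f194776 IH) (Lpr_gt (f194800 IH) (Lpr_ct (f194903 IH) (Lpr_gt (f194904 IH) (Lpn (LP (LK LD1_c28 LD2_c34 LD3_c29)))))))))))))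
theorem f52865 : Led Lsl_gt (LP (LK LD1_c4 LD2_c50 LD3_c43)) = (LP (LK LD1_c9 LD2_c33 LD3_c34)) :=
  Lre_g IH (LK LD1_c4 LD2_c50 LD3_c43) (LK LD1_c9 LD2_c33 LD3_c34) Lrfl Lrfl
theorem f189340 : Led Lsl_ct (LP (LK LD1_c17 LD2_c36 LD3_c9)) = (LP (LK LD1_c9 LD2_c33 LD3_c34)) :=
  Lre_c IH (LK LD1_c17 LD2_c36 LD3_c9) (LK LD1_c9 LD2_c33 LD3_c34) Lrfl Lrfl
theorem f189341 : Led Lsl_bt (LP (LK LD1_c17 LD2_c36 LD3_c9)) = (LP (LK LD1_c27 LD2_c24 LD3_c15)) :=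
  Lre_b IH (LK LD1_c17 LD2_c36 LD3_c9) (LK LD1_c27 LD2_c24 LD3_c15) Lrfl Lrfl
theorem f194911 : Led Lsl_gt (LP (LK LD1_c27 LD2_c24 LD3_c15)) = (LP (LK LD1_c19 LD2_c8 LD3_c48)) :=
  Lgr Lrot164 (Lpe (f189341 IH) (Lpr_ct (f189340 IH) (Lpe (f52865 IH) (Lpe (K19.f51187 IH) (Lpe (f51199 IH) (Lpe (f189352 IH) (Lpr_ct (f194905 IH) (Lpe (f194904 IH) (Lpe (f194903 IH) (Lpr_bt (f194910 IH) (Lpn (LP (LK LD1_c19 LD2_c8 LD3_c48)))))))))))))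
theorem f942116 : Led Lsl_at (LP (LK LD1_c19 LD2_c9 LD3_c46)) = (LP (LK LD1_c10 LD2_c34 LD3_c39)) :=
  Lre_a IH (LK LD1_c19 LD2_c9 LD3_c46) (LK LD1_c10 LD2_c34 LD3_c39) Lrfl Lrfl
theorem f975559 : Led Lsl_ft (LP (LK LD1_c27 LD2_c24 LD3_c15)) = (LP (LK LD1_c19 LD2_c9 LD3_c46)) :=
  Lgr Lrot2 (Lpr_gt (f194911 IH) (Lpqs (f975557 IH) (Lpe (f942180 IH) (Lpe (f942116 IH) (Lpn (LP (LK LD1_c19 LD2_c9 LD3_c46)))))))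
theorem f975567 : Led Lsl_ff (LP (LK LD1_c27 LD2_c24 LD3_c15)) = (LP (LK LD1_c19 LD2_c9 LD3_c46)) :=
  Lgr Lrot3 (Lpr_ft (f975559 IH) (Lpn (LP (LK LD1_c19 LD2_c9 LD3_c46))))
theorem f291088 : Led Lsl_bt (LP (LK LD1_c27 LD2_c24 LD3_c15)) = (LP (LK LD1_c17 LD2_c36 LD3_c9)) :=
  Lre_b IH (LK LD1_c27 LD2_c24 LD3_c15) (LK LD1_c17 LD2_c36 LD3_c9) Lrfl Lrfl
theorem f975571 : Led Lsl_ft (LP (LK LD1_c17 LD2_c36 LD3_c9)) = (LP (LK LD1_c27 LD2_c24 LD3_c17)) :=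
  Lre_f IH (LK LD1_c17 LD2_c36 LD3_c9) (LK LD1_c27 LD2_c24 LD3_c17) Lrfl Lrfl
theorem f975572 : Led Lsl_bt (LP (LK LD1_c27 LD2_c24 LD3_c17)) = (LP (LK LD1_c19 LD2_c9 LD3_c46)) :=
  Lgr Lrot35 (Lpe (f975571 IH) (Lpe (f291088 IH) (Lpr_ff (f975567 IH) (Lpn (LP (LK LD1_c19 LD2_c9 LD3_c46))))))
theorem f726416 : Led Lsl_at (LP (LK LD1_c17 LD2_c36 LD3_c14)) = (LP (LK LD1_c27 LD2_c24 LD3_c17)) :=
  Lre_a IH (LK LD1_c17 LD2_c36 LD3_c14) (LK LD1_c27 LD2_c24 LD3_c17) Lrfl Lrfl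
theorem f636428 : Led Lsl_at (LP (LK LD1_c2 LD2_c37 LD3_c34)) = (LP (LK LD1_c5 LD2_c22 LD3_c6)) :=
  Lre_a IH (LK LD1_c2 LD2_c37 LD3_c34) (LK LD1_c5 LD2_c22 LD3_c6) Lrfl Lrfl
theorem f726410 : Led Lsl_ft (LP (LK LD1_c5 LD2_c22 LD3_c8)) = (LP (LK LD1_c2 LD2_c37 LD3_c34)) :=
  Lre_f IH (LK LD1_c5 LD2_c22 LD3_c8) (LK LD1_c2 LD2_c37 LD3_c34) Lrfl Lrfl
theorem f726411 : Led Lsl_gt (LP (LK LD1_c5 LD2_c22 LD3_c8)) = v14739 :=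
  Lgr Lrot5 (Lpr_ft (f726410 IH) (Lpr_at (f636428 IH) (Lpr_gf (f726409 IH) (Lpn v14739))))
theorem f192861 : Led Lsl_bt (LP (LK LD1_c2 LD2_c37 LD3_c36)) = (LP (LK LD1_c5 LD2_c22 LD3_c8)) :=
  Lre_b IH (LK LD1_c2 LD2_c37 LD3_c36) (LK LD1_c5 LD2_c22 LD3_c8) Lrfl Lrfl
theorem f52868 : Led Lsl_gt (LP (LK LD1_c9 LD2_c33 LD3_c35)) = (LP (LK LD1_c4 LD2_c50 LD3_c43)) :=
  Lre_g IH (LK LD1_c9 LD2_c33 LD3_c35) (LK LD1_c4 LD2_c50 LD3_c43) Lrfl Lrfl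
theorem f189343 : Led Lsl_ct (LP (LK LD1_c17 LD2_c36 LD3_c14)) = (LP (LK LD1_c9 LD2_c33 LD3_c35)) :=
  Lre_c IH (LK LD1_c17 LD2_c36 LD3_c14) (LK LD1_c9 LD2_c33 LD3_c35) Lrfl Lrfl
theorem f726413 : Led Lsl_bt (LP (LK LD1_c17 LD2_c36 LD3_c14)) = v14739 :=
  Lgr Lrot92 (Lpr_ct (f189343 IH) (Lpr_gt (f52868 IH) (Lpe (K19.f51187 IH) (Lpr_bt (K10.f51185 IH) (Lpe (K14.f231407 IH) (Lpr_ct (K14.f46513 IH) (Lpr_gt (K13.f45820 IH) (Lpe (K10.f46481 IH) (Lpr_bt (f192861 IH) (Lpr_gt (f726411 IH) (Lpn v14739)))))))))))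
theorem f726415 : Led Lsl_bf (LP (LK LD1_c17 LD2_c36 LD3_c14)) = v14739 :=
  Lgr Lrot24 (Lpr_bt (f726413 IH) (Lpn v14739))
theorem f726389 : Led Lsl_at (LP (LK LD1_c5 LD2_c22 LD3_c5)) = (LP (LK LD1_c10 LD2_c34 LD3_c38)) :=
  Lre_a IH (LK LD1_c5 LD2_c22 LD3_c5) (LK LD1_c10 LD2_c34 LD3_c38) Lrfl Lrfl
theorem f975577 : v14739 = (LP (LK LD1_c10 LD2_c34 LD3_c38)) :=
  (Llr Lrot81 (Lpe (f726415 IH) (Lpr_at (f726416 IH) (Lpr_bt (f975572 IH) (Lpr_at (f942116 IH) (Lpr_bt (f216099 IH) (Lpr_at (f726389 IH) (Lpn (LP (LK LD1_c10 LD2_c34 LD3_c38)))))))))).symm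
theorem f975578 : (LP (LK LD1_c5 LD2_c22 LD3_c6)) = v43750 :=
  Lefun (Lecon (Lfl_gf (f726409 IH)) (f975577 IH)) (f942094 IH)
theorem f975588 : (LP (LK LD1_c10 LD2_c34 LD3_c33)) = K72.v14738 :=
  Lefun (Lecon (Lfl_gf (f942092 IH)) (f975578 IH).symm) (K72.f726406 IH)
theorem f942096 : Led Lsl_bt (LP (LK LD1_c10 LD2_c34 LD3_c33)) = (LP (LK LD1_c19 LD2_c9 LD3_c32)) :=
  Lre_b IH (LK LD1_c10 LD2_c34 LD3_c33) (LK LD1_c19 LD2_c9 LD3_c32) Lrfl Lrfl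
def v44553 : LQ := Led Lsl_ct (LP (LK LD1_c10 LD2_c45 LD3_c20))
theorem f945976 : Led Lsl_ct (LP (LK LD1_c10 LD2_c45 LD3_c20)) = v44553 :=
  Lrfl
theorem f945537 : Led Lsl_at K73.v43734 = (LP (LK LD1_c10 LD2_c45 LD3_c19)) :=
  Lgr Lrot100 (Lpr_af (K74.f945536 IH) (Lpn (LP (LK LD1_c10 LD2_c45 LD3_c19))))
theorem f727197 : Led Lsl_gt (LP (LK LD1_c10 LD2_c45 LD3_c20)) = (LP (LK LD1_c5 LD2_c27 LD3_c6)) :=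
  Lre_g IH (LK LD1_c10 LD2_c45 LD3_c20) (LK LD1_c5 LD2_c27 LD3_c6) Lrfl Lrfl
theorem f945539 : Led Lsl_ff K73.v43734 = (LP (LK LD1_c10 LD2_c45 LD3_c20)) :=
  Lgr Lrot52 (Lpr_at (f945537 IH) (Lpe (K71.f8890 IH) (Lpe (f727197 IH) (Lpn (LP (LK LD1_c10 LD2_c45 LD3_c20))))))
theorem f945541 : Led Lsl_ft K73.v43734 = (LP (LK LD1_c10 LD2_c45 LD3_c20)) :=
  Lgr Lrot48 (Lpr_ff (f945539 IH) (Lpn (LP (LK LD1_c10 LD2_c45 LD3_c20))))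
theorem f945980 : Led Lsl_ff K73.v43755 = v44553 :=
  Lgr Lrot23 (Lpe (K74.f942120 IH) (Lpr_ft (f945541 IH) (Lpr_ct (f945976 IH) (Lpn v44553))))
def v44478 : LQ := Led Lsl_gf (LP (LK LD1_c10 LD2_c44 LD3_c47))
theorem f945389 : Led Lsl_gf (LP (LK LD1_c10 LD2_c44 LD3_c47)) = v44478 :=
  Lrfl
theorem f945984 : Led Lsl_gf v44478 = v44553 :=
  Lgr Lrot47 (Lpe (f945389 IH) (Lpr_af (K74.f945391 IH) (Lpq (K74.f945535 IH) (Lpr_ff (f945980 IH) (Lpn v44553)))))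
theorem f945982 : Led Lsl_bt K74.v44474 = v44553 :=
  Lgr Lrot35 (Lpe (K74.f945509 IH) (Lpe (K74.f945502 IH) (Lpr_ff (f945980 IH) (Lpn v44553))))
theorem f945985 : v44478 = K72.v23616 :=
  (Llr Lrot82 (Lpr_gf (f945984 IH) (Lpe (f945982 IH) (Lpqs (K74.f945756 IH) (Lpr_ct (K74.f396497 IH) (Lpe (K74.f177552 IH) (Lpe (K68.f177464 IH) (Lpr_bt (K53.f177542 IH) (Lpe (K11.f177544 IH) (Lpe (K0.f9006 IH) (Lpr_ct (K72.f9010 IH) (Lpr_gf (K72.f726407 IH) (Lpr_cf (K72.f819398 IH) (Lpn K72.v23616)))))))))))))).symm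
def v43730 : LQ := Led Lsl_at (LP (LK LD1_c10 LD2_c34 LD3_c2))
theorem f942022 : Led Lsl_at (LP (LK LD1_c10 LD2_c34 LD3_c2)) = v43730 :=
  Lrfl
theorem f942023 : Led Lsl_af (LP (LK LD1_c10 LD2_c34 LD3_c2)) = v43730 :=
  Lgr Lrot0 (Lpr_at (f942022 IH) (Lpn v43730))
theorem f942024 : Led Lsl_ft (LP (LK LD1_c10 LD2_c34 LD3_c3)) = v43730 :=
  Lgr Lrot2 (Lpr_gt (K73.f199103 IH) (Lpr_gt (f194822 IH) (Lpr_af (f942023 IH) (Lpn v43730))))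
theorem f942025 : Led Lsl_ff (LP (LK LD1_c10 LD2_c34 LD3_c3)) = v43730 :=
  Lgr Lrot3 (Lpr_ft (f942024 IH) (Lpn v43730))
theorem f945542 : Led Lsl_bf v43730 = (LP (LK LD1_c10 LD2_c45 LD3_c20)) :=
  Lgr Lrot61 (Lpe (f942025 IH) (Lpr_bt (K73.f942034 IH) (Lpr_ft (f945541 IH) (Lpn (LP (LK LD1_c10 LD2_c45 LD3_c20))))))
theorem f945763 : Led Lsl_ff (LP (LK LD1_c19 LD2_c8 LD3_c26)) = (LP (LK LD1_c21 LD2_c1 LD3_c10)) :=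
  Lgr Lrot25 (Lpe (K74.f420975 IH) (Lpr_ft (K74.f945544 IH) (Lpqs (K74.f945751 IH) (Lpr_bt (K74.f396487 IH) (Lpn (LP (LK LD1_c21 LD2_c1 LD3_c10)))))))
theorem f195432 : Led Lsl_dt (LP (LK LD1_c10 LD2_c44 LD3_c56)) = (LP (LK LD1_c5 LD2_c26 LD3_c56)) :=
  Lre_d IH (LK LD1_c10 LD2_c44 LD3_c56) (LK LD1_c5 LD2_c26 LD3_c56) Lrfl Lrfl
theorem f396454 : Led Lsl_dt (LP (LK LD1_c6 LD2_c6 LD3_c39)) = (LP (LK LD1_c11 LD2_c56 LD3_c23)) :=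
  Lre_d IH (LK LD1_c6 LD2_c6 LD3_c39) (LK LD1_c11 LD2_c56 LD3_c23) Lrfl Lrfl
theorem f396455 : Led Lsl_ff (LP (LK LD1_c10 LD2_c44 LD3_c56)) = (LP (LK LD1_c11 LD2_c56 LD3_c23)) :=
  Lgr Lrot19 (Lpr_dt (f195432 IH) (Lpr_ft (K68.f396445 IH) (Lpr_dt (f396454 IH) (Lpn (LP (LK LD1_c11 LD2_c56 LD3_c23))))))
theorem f396463 : Led Lsl_ft (LP (LK LD1_c10 LD2_c44 LD3_c56)) = (LP (LK LD1_c11 LD2_c56 LD3_c23)) :=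
  Lgr Lrot48 (Lpr_ff (f396455 IH) (Lpn (LP (LK LD1_c11 LD2_c56 LD3_c23))))
theorem f195448 : Led Lsl_dt (LP (LK LD1_c5 LD2_c26 LD3_c56)) = (LP (LK LD1_c10 LD2_c44 LD3_c56)) :=
  Lre_d IH (LK LD1_c5 LD2_c26 LD3_c56) (LK LD1_c10 LD2_c44 LD3_c56) Lrfl Lrfl
theorem f195513 : Led Lsl_bf (LP (LK LD1_c8 LD2_c14 LD3_c20)) = (LP (LK LD1_c10 LD2_c44 LD3_c56)) :=
  Lgr Lrot93 (Lpr_dt (K24.f182593 IH) (Lpr_bt (K74.f195500 IH) (Lpr_dt (f195448 IH) (Lpn (LP (LK LD1_c10 LD2_c44 LD3_c56))))))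
theorem f195520 : Led Lsl_bt (LP (LK LD1_c8 LD2_c14 LD3_c20)) = (LP (LK LD1_c10 LD2_c44 LD3_c56)) :=
  Lgr Lrot127 (Lpr_bf (f195513 IH) (Lpn (LP (LK LD1_c10 LD2_c44 LD3_c56))))
theorem f396472 : Led Lsl_bf (LP (LK LD1_c8 LD2_c9 LD3_c60)) = (LP (LK LD1_c11 LD2_c56 LD3_c23)) :=
  Lgr Lrot61 (Lpe (K20.f315711 IH) (Lpr_bt (f195520 IH) (Lpr_ft (f396463 IH) (Lpn (LP (LK LD1_c11 LD2_c56 LD3_c23))))))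
theorem f396479 : Led Lsl_bt (LP (LK LD1_c4 LD2_c4 LD3_c33)) = (LP (LK LD1_c6 LD2_c6 LD3_c39)) :=
  Lgr Lrot95 (Lpe (K13.f194199 IH) (Lpr_bf (f396472 IH) (Lpe (f396454 IH) (Lpn (LP (LK LD1_c6 LD2_c6 LD3_c39))))))
theorem f308674 : Led Lsl_gt (LP (LK LD1_c19 LD2_c2 LD3_c37)) = (LP (LK LD1_c10 LD2_c30 LD3_c32)) :=
  Lre_g IH (LK LD1_c19 LD2_c2 LD3_c37) (LK LD1_c10 LD2_c30 LD3_c32) Lrfl Lrfl
theorem f396484 : Led Lsl_bt (LP (LK LD1_c21 LD2_c1 LD3_c10)) = (LP (LK LD1_c11 LD2_c56 LD3_c21)) :=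
  Lre_b IH (LK LD1_c21 LD2_c1 LD3_c10) (LK LD1_c11 LD2_c56 LD3_c21) Lrfl Lrfl
theorem f396485 : Led Lsl_cf (LP (LK LD1_c19 LD2_c2 LD3_c37)) = (LP (LK LD1_c21 LD2_c1 LD3_c10)) :=
  Lgr Lrot160 (Lpr_gt (f308674 IH) (Lpr_cf (K21.f308663 IH) (Lpr_bt (K21.f33022 IH) (Lpe (K13.f231452 IH) (Lpr_ct (K11.f31724 IH) (Lpe (K10.f189867 IH) (Lpe (K23.f28996 IH) (Lpr_bt (f396479 IH) (Lpr_gt (K74.f177552 IH) (Lpe (f396484 IH) (Lpn (LP (LK LD1_c21 LD2_c1 LD3_c10)))))))))))))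
theorem f396488 : Led Lsl_ct (LP (LK LD1_c19 LD2_c2 LD3_c37)) = (LP (LK LD1_c21 LD2_c1 LD3_c10)) :=
  Lgr Lrot59 (Lpr_cf (f396485 IH) (Lpn (LP (LK LD1_c21 LD2_c1 LD3_c10))))
theorem f945778 : v43730 = (LP (LK LD1_c19 LD2_c2 LD3_c37)) :=
  (Llr Lrot4 (Lpe (f942024 IH) (Lpe (K74.f199104 IH) (Lpr_ff (f945763 IH) (Lpe (f396488 IH) (Lpn (LP (LK LD1_c19 LD2_c2 LD3_c37)))))))).symm
theorem f405114 : Led Lsl_gf (LP (LK LD1_c19 LD2_c2 LD3_c37)) = (LP (LK LD1_c10 LD2_c34 LD3_c4)) :=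
  Lgr Lrot47 (Lpr_gt (f308674 IH) (Lpe (K73.f308670 IH) (Lpr_ff (K73.f405100 IH) (Lpn (LP (LK LD1_c10 LD2_c34 LD3_c4))))))
theorem f231370 : Led Lsl_bt (LP (LK LD1_c8 LD2_c53 LD3_c52)) = (LP (LK LD1_c16 LD2_c38 LD3_c29)) :=
  Lre_b IH (LK LD1_c8 LD2_c53 LD3_c52) (LK LD1_c16 LD2_c38 LD3_c29) Lrfl Lrfl
theorem f284274 : Led Lsl_at (LP (LK LD1_c16 LD2_c38 LD3_c29)) = (LP (LK LD1_c26 LD2_c36 LD3_c41)) :=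
  Lre_a IH (LK LD1_c16 LD2_c38 LD3_c29) (LK LD1_c26 LD2_c36 LD3_c41) Lrfl Lrfl
theorem f199080 : Led Lsl_bt (LP (LK LD1_c10 LD2_c34 LD3_c6)) = (LP (LK LD1_c5 LD2_c21 LD3_c56)) :=
  Lre_b IH (LK LD1_c10 LD2_c34 LD3_c6) (LK LD1_c5 LD2_c21 LD3_c56) Lrfl Lrfl
theorem f199071 : Led Lsl_at (LP (LK LD1_c19 LD2_c8 LD3_c28)) = (LP (LK LD1_c10 LD2_c34 LD3_c6)) :=
  Lre_a IH (LK LD1_c19 LD2_c8 LD3_c28) (LK LD1_c10 LD2_c34 LD3_c6) Lrfl Lrfl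
theorem f284275 : Led Lsl_bt (LP (LK LD1_c26 LD2_c36 LD3_c41)) = (LP (LK LD1_c19 LD2_c8 LD3_c28)) :=
  Lgr Lrot62 (Lpe (f284274 IH) (Lpe (f231370 IH) (Lpr_af (K17.f284266 IH) (Lpe (f199080 IH) (Lpe (f199071 IH) (Lpn (LP (LK LD1_c19 LD2_c8 LD3_c28))))))))
theorem f409246 : Led Lsl_et (LP (LK LD1_c16 LD2_c38 LD3_c36)) = (LP (LK LD1_c26 LD2_c36 LD3_c41)) :=
  Lre_e IH (LK LD1_c16 LD2_c38 LD3_c36) (LK LD1_c26 LD2_c36 LD3_c41) Lrfl Lrfl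
theorem f199114 : Led Lsl_et (LP (LK LD1_c19 LD2_c8 LD3_c28)) = (LP (LK LD1_c10 LD2_c34 LD3_c4)) :=
  Lre_e IH (LK LD1_c19 LD2_c8 LD3_c28) (LK LD1_c10 LD2_c34 LD3_c4) Lrfl Lrfl
theorem f409247 : Led Lsl_bf (LP (LK LD1_c16 LD2_c38 LD3_c36)) = (LP (LK LD1_c10 LD2_c34 LD3_c4)) :=
  Lgr Lrot96 (Lpr_et (f409246 IH) (Lpr_bt (f284275 IH) (Lpr_et (f199114 IH) (Lpn (LP (LK LD1_c10 LD2_c34 LD3_c4))))))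
theorem f409251 : Led Lsl_bt (LP (LK LD1_c16 LD2_c38 LD3_c36)) = (LP (LK LD1_c10 LD2_c34 LD3_c4)) :=
  Lgr Lrot127 (Lpr_bf (f409247 IH) (Lpn (LP (LK LD1_c10 LD2_c34 LD3_c4))))
theorem f187504 : Led Lsl_ct (LP (LK LD1_c10 LD2_c33 LD3_c40)) = (LP (LK LD1_c5 LD2_c21 LD3_c48)) :=
  Lre_c IH (LK LD1_c10 LD2_c33 LD3_c40) (LK LD1_c5 LD2_c21 LD3_c48) Lrfl Lrfl
theorem f409256 : Led Lsl_ft (LP (LK LD1_c16 LD2_c38 LD3_c36)) = (LP (LK LD1_c10 LD2_c33 LD3_c50)) :=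
  Lgr Lrot75 (Lpr_bf (f409247 IH) (Lpe (K73.f405112 IH) (Lpr_bf (K73.f409217 IH) (Lpn (LP (LK LD1_c10 LD2_c33 LD3_c50))))))
theorem f409258 : Led Lsl_at (LP (LK LD1_c8 LD2_c53 LD3_c55)) = (LP (LK LD1_c16 LD2_c38 LD3_c36)) :=
  Lre_a IH (LK LD1_c8 LD2_c53 LD3_c55) (LK LD1_c16 LD2_c38 LD3_c36) Lrfl Lrfl
theorem f409259 : Led Lsl_ff (LP (LK LD1_c8 LD2_c53 LD3_c55)) = (LP (LK LD1_c5 LD2_c21 LD3_c48)) :=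
  Lgr Lrot30 (Lpr_at (f409258 IH) (Lpr_ft (f409256 IH) (Lpr_at (K21.f253336 IH) (Lpn (LP (LK LD1_c5 LD2_c21 LD3_c48))))))
theorem f417388 : Led Lsl_cf (LP (LK LD1_c8 LD2_c11 LD3_c42)) = (LP (LK LD1_c8 LD2_c53 LD3_c55)) :=
  Lgr Lrot108 (Lpr_ft (K73.f417382 IH) (Lpr_ct (f187504 IH) (Lpe (f409259 IH) (Lpn (LP (LK LD1_c8 LD2_c53 LD3_c55))))))
theorem f409203 : Led Lsl_at (LP (LK LD1_c8 LD2_c11 LD3_c42)) = (LP (LK LD1_c15 LD2_c25 LD3_c45)) :=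
  Lre_a IH (LK LD1_c8 LD2_c11 LD3_c42) (LK LD1_c15 LD2_c25 LD3_c45) Lrfl Lrfl
theorem f409250 : Led Lsl_at (LP (LK LD1_c16 LD2_c38 LD3_c36)) = (LP (LK LD1_c8 LD2_c53 LD3_c55)) :=
  Lre_a IH (LK LD1_c16 LD2_c38 LD3_c36) (LK LD1_c8 LD2_c53 LD3_c55) Lrfl Lrfl
theorem f417393 : Led Lsl_ct (LP (LK LD1_c15 LD2_c25 LD3_c45)) = (LP (LK LD1_c16 LD2_c38 LD3_c36)) :=
  Lgr Lrot111 (Lpe (f409203 IH) (Lpr_cf (f417388 IH) (Lpe (f409250 IH) (Lpn (LP (LK LD1_c16 LD2_c38 LD3_c36))))))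
theorem f417441 : Led Lsl_cf (LP (LK LD1_c15 LD2_c25 LD3_c45)) = (LP (LK LD1_c16 LD2_c38 LD3_c36)) :=
  Lgr Lrot11 (Lpr_ct (f417393 IH) (Lpn (LP (LK LD1_c16 LD2_c38 LD3_c36))))
theorem f188030 : Led Lsl_gt (LP (LK LD1_c10 LD2_c33 LD3_c40)) = (LP (LK LD1_c19 LD2_c7 LD3_c37)) :=
  Lre_g IH (LK LD1_c10 LD2_c33 LD3_c40) (LK LD1_c19 LD2_c7 LD3_c37) Lrfl Lrfl
theorem f417384 : Led Lsl_gf (LP (LK LD1_c15 LD2_c25 LD3_c45)) = (LP (LK LD1_c19 LD2_c7 LD3_c37)) :=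
  Lgr Lrot76 (Lpe (f409203 IH) (Lpr_ff (K73.f417371 IH) (Lpr_gt (f188030 IH) (Lpn (LP (LK LD1_c19 LD2_c7 LD3_c37))))))
theorem f194323 : Led Lsl_ct (LP (LK LD1_c28 LD2_c33 LD3_c14)) = (LP (LK LD1_c19 LD2_c7 LD3_c37)) :=
  Lre_c IH (LK LD1_c28 LD2_c33 LD3_c14) (LK LD1_c19 LD2_c7 LD3_c37) Lrfl Lrfl
theorem f975594 : Led Lsl_gt (LP (LK LD1_c19 LD2_c9 LD3_c32)) = (LP (LK LD1_c28 LD2_c33 LD3_c14)) :=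
  Lgr Lrot82 (Lpe (f942096 IH) (Lpqs (f975588 IH) (Lpr_ct (f819399 IH) (Lpq (f945985 IH) (Lpr_gf (f945984 IH) (Lpe (f945976 IH) (Lpe (f945542 IH) (Lpqs (f945778 IH) (Lpr_gf (f405114 IH) (Lpe (f409251 IH) (Lpe (f417441 IH) (Lpr_gf (f417384 IH) (Lpe (f194323 IH) (Lpn (LP (LK LD1_c28 LD2_c33 LD3_c14))))))))))))))))
theorem f975595 : Led Lsl_gt (LP (LK LD1_c19 LD2_c9 LD3_c32)) = (LP (LK LD1_c28 LD2_c33 LD3_c14)) :=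
  Leop (Lpe (f975594 IH) (Lpn (LP (LK LD1_c19 LD2_c9 LD3_c32))))
theorem seed_3025 : LEOK LG_g (LK LD1_c19 LD2_c9 LD3_c32) :=
  Leoe_g (LK LD1_c19 LD2_c9 LD3_c32) (f975595 IH)
theorem f942087 : Led Lsl_dt (LP (LK LD1_c10 LD2_c34 LD3_c33)) = (LP (LK LD1_c19 LD2_c9 LD3_c33)) :=
  Lre_d IH (LK LD1_c10 LD2_c34 LD3_c33) (LK LD1_c19 LD2_c9 LD3_c33) Lrfl Lrfl
theorem f215560 : Led Lsl_dt (LP (LK LD1_c19 LD2_c6 LD3_c57)) = (LP (LK LD1_c10 LD2_c33 LD3_c18)) :=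
  Lre_d IH (LK LD1_c19 LD2_c6 LD3_c57) (LK LD1_c10 LD2_c33 LD3_c18) Lrfl Lrfl
theorem f975607 : Led Lsl_gt (LP (LK LD1_c19 LD2_c9 LD3_c33)) = (LP (LK LD1_c19 LD2_c6 LD3_c57)) :=
  Lgr Lrot49 (Lpe (f942087 IH) (Lpr_gf (f942092 IH) (Lpq (f975578 IH) (Lpe (K72.f8923 IH) (Lpr_gt (K72.f638294 IH) (Lpqs (K72.f930614 IH) (Lpr_dt (K72.f727177 IH) (Lpqs (K72.f930613 IH) (Lpr_gt (K72.f924342 IH) (Lpr_dt (K73.f198788 IH) (Lpe (K18.f215566 IH) (Lpe (f215560 IH) (Lpn (LP (LK LD1_c19 LD2_c6 LD3_c57)))))))))))))))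
theorem f975608 : Led Lsl_gt (LP (LK LD1_c19 LD2_c9 LD3_c33)) = (LP (LK LD1_c19 LD2_c6 LD3_c57)) :=
  Leop (Lpe (f975607 IH) (Lpn (LP (LK LD1_c19 LD2_c9 LD3_c33))))
theorem seed_3026 : LEOK LG_g (LK LD1_c19 LD2_c9 LD3_c33) :=
  Leoe_g (LK LD1_c19 LD2_c9 LD3_c33) (f975608 IH)
theorem f975631 : Led Lsl_ft (LP (LK LD1_c17 LD2_c36 LD3_c12)) = (LP (LK LD1_c9 LD2_c33 LD3_c34)) :=
  Lre_f IH (LK LD1_c17 LD2_c36 LD3_c12) (LK LD1_c9 LD2_c33 LD3_c34) Lrfl Lrfl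
theorem f915056 : Led Lsl_at (LP (LK LD1_c9 LD2_c33 LD3_c34)) = (LP (LK LD1_c17 LD2_c36 LD3_c7)) :=
  Lre_a IH (LK LD1_c9 LD2_c33 LD3_c34) (LK LD1_c17 LD2_c36 LD3_c7) Lrfl Lrfl
theorem f975563 : Led Lsl_ft (LP (LK LD1_c27 LD2_c24 LD3_c17)) = (LP (LK LD1_c17 LD2_c36 LD3_c9)) :=
  Lre_f IH (LK LD1_c27 LD2_c24 LD3_c17) (LK LD1_c17 LD2_c36 LD3_c9) Lrfl Lrfl
theorem f942088 : Led Lsl_bt (LP (LK LD1_c19 LD2_c9 LD3_c32)) = (LP (LK LD1_c10 LD2_c34 LD3_c33)) :=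
  Lre_b IH (LK LD1_c19 LD2_c9 LD3_c32) (LK LD1_c10 LD2_c34 LD3_c33) Lrfl Lrfl
theorem f942117 : Led Lsl_at (LP (LK LD1_c10 LD2_c34 LD3_c39)) = (LP (LK LD1_c19 LD2_c9 LD3_c46)) :=
  Lre_a IH (LK LD1_c10 LD2_c34 LD3_c39) (LK LD1_c19 LD2_c9 LD3_c46) Lrfl Lrfl
theorem f942183 : Led Lsl_ft (LP (LK LD1_c19 LD2_c9 LD3_c32)) = (LP (LK LD1_c10 LD2_c34 LD3_c39)) :=
  Lre_f IH (LK LD1_c19 LD2_c9 LD3_c32) (LK LD1_c10 LD2_c34 LD3_c39) Lrfl Lrfl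
theorem f975569 : Led Lsl_at (LP (LK LD1_c27 LD2_c24 LD3_c15)) = (LP (LK LD1_c19 LD2_c9 LD3_c32)) :=
  Lgr Lrot66 (Lpr_ff (f975567 IH) (Lpe (f942117 IH) (Lpe (f942183 IH) (Lpn (LP (LK LD1_c19 LD2_c9 LD3_c32))))))
theorem f942095 : Led Lsl_at (LP (LK LD1_c10 LD2_c34 LD3_c33)) = (LP (LK LD1_c5 LD2_c22 LD3_c4)) :=
  Lre_a IH (LK LD1_c10 LD2_c34 LD3_c33) (LK LD1_c5 LD2_c22 LD3_c4) Lrfl Lrfl
def v43753 : LQ := Led Lsl_at (LP (LK LD1_c10 LD2_c34 LD3_c34))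
theorem f942110 : Led Lsl_at (LP (LK LD1_c10 LD2_c34 LD3_c34)) = v43753 :=
  Lrfl
theorem f975618 : (LP (LK LD1_c17 LD2_c36 LD3_c9)) = v43753 :=
  (Llr Lrot81 (Lpr_bt (f189341 IH) (Lpr_at (f975569 IH) (Lpr_bt (f942088 IH) (Lpr_at (f942095 IH) (Lpr_bt (K73.f726385 IH) (Lpr_at (f942110 IH) (Lpn v43753)))))))).symm
theorem f942111 : Led Lsl_af (LP (LK LD1_c10 LD2_c34 LD3_c34)) = v43753 :=
  Lgr Lrot0 (Lpr_at (f942110 IH) (Lpn v43753))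
theorem f975621 : Led Lsl_gt (LP (LK LD1_c27 LD2_c24 LD3_c17)) = (LP (LK LD1_c19 LD2_c9 LD3_c35)) :=
  Lgr Lrot5 (Lpr_ft (f975563 IH) (Lpqs (f975618 IH) (Lpe (f942111 IH) (Lpe (K70.f560052 IH) (Lpn (LP (LK LD1_c19 LD2_c9 LD3_c35)))))))
theorem f975575 : Led Lsl_ct (LP (LK LD1_c17 LD2_c36 LD3_c12)) = (LP (LK LD1_c27 LD2_c24 LD3_c17)) :=
  Lre_c IH (LK LD1_c17 LD2_c36 LD3_c12) (LK LD1_c27 LD2_c24 LD3_c17) Lrfl Lrfl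
def v40221 : LQ := Led Lsl_gf (LP (LK LD1_c9 LD2_c33 LD3_c36))
theorem f915073 : Led Lsl_gf (LP (LK LD1_c9 LD2_c33 LD3_c36)) = v40221 :=
  Lrfl
theorem f51138 : Led Lsl_at (LP (LK LD1_c4 LD2_c50 LD3_c43)) = (LP (LK LD1_c9 LD2_c33 LD3_c36)) :=
  Lre_a IH (LK LD1_c4 LD2_c50 LD3_c43) (LK LD1_c9 LD2_c33 LD3_c36) Lrfl Lrfl
theorem f52816 : Led Lsl_ft (LP (LK LD1_c9 LD2_c33 LD3_c38)) = (LP (LK LD1_c4 LD2_c50 LD3_c43)) :=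
  Lre_f IH (LK LD1_c9 LD2_c33 LD3_c38) (LK LD1_c4 LD2_c50 LD3_c43) Lrfl Lrfl
theorem f915074 : Led Lsl_gt (LP (LK LD1_c9 LD2_c33 LD3_c38)) = v40221 :=
  Lgr Lrot5 (Lpr_ft (f52816 IH) (Lpr_at (f51138 IH) (Lpr_gf (f915073 IH) (Lpn v40221))))
theorem f975623 : (LP (LK LD1_c17 LD2_c36 LD3_c12)) = v40221 :=
  (Llr Lrot125 (Lpr_ct (f975575 IH) (Lpr_gt (f975621 IH) (Lpe (K73.f942133 IH) (Lpr_bt (K73.f190047 IH) (Lpr_gt (K73.f190043 IH) (Lpe (K67.f190044 IH) (Lpr_ct (K15.f189980 IH) (Lpe (K13.f233741 IH) (Lpe (K0.f27603 IH) (Lpr_bt (K10.f27605 IH) (Lpr_gt (f915074 IH) (Lpn v40221))))))))))))).symm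
theorem f975644 : (LP (LK LD1_c17 LD2_c36 LD3_c7)) = K70.v40220 :=
  (Llr Lrot26 (Lpe (f915056 IH) (Lpe (f975631 IH) (Lpqs (f975623 IH) (Lpe (f915073 IH) (Lpr_gt (K70.f915062 IH) (Lpn K70.v40220))))))).symm
theorem f975647 : Led Lsl_bt (LP (LK LD1_c17 LD2_c36 LD3_c7)) = (LP (LK LD1_c21 LD2_c0 LD3_c60)) :=
  Leop (Lpr_bf (K73.f942132 IH) (Lpq (f975644 IH) (Lpn (LP (LK LD1_c17 LD2_c36 LD3_c7)))))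
theorem seed_3027 : LEOK LG_b (LK LD1_c17 LD2_c36 LD3_c7) :=
  Leoe_b (LK LD1_c17 LD2_c36 LD3_c7) (f975647 IH)
def v50430 : LQ := Led Lsl_dt (LP (LK LD1_c11 LD2_c55 LD3_c57))
theorem f975996 : Led Lsl_dt (LP (LK LD1_c11 LD2_c55 LD3_c57)) = v50430 :=
  Lrfl
theorem f285997 : Led Lsl_dt (LP (LK LD1_c19 LD2_c25 LD3_c18)) = (LP (LK LD1_c10 LD2_c43 LD3_c60)) :=
  Lre_d IH (LK LD1_c19 LD2_c25 LD3_c18) (LK LD1_c10 LD2_c43 LD3_c60) Lrfl Lrfl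
theorem f975999 : Led Lsl_ff (LP (LK LD1_c19 LD2_c25 LD3_c18)) = v50430 :=
  Lgr Lrot19 (Lpr_dt (f285997 IH) (Lpr_ft (K53.f409028 IH) (Lpr_dt (f975996 IH) (Lpn v50430))))
theorem f976001 : Led Lsl_ft (LP (LK LD1_c19 LD2_c25 LD3_c18)) = v50430 :=
  Lgr Lrot48 (Lpr_ff (f975999 IH) (Lpn v50430))
theorem f183366 : Led Lsl_dt (LP (LK LD1_c11 LD2_c55 LD3_c58)) = (LP (LK LD1_c6 LD2_c6 LD3_c18)) :=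
  Lre_d IH (LK LD1_c11 LD2_c55 LD3_c58) (LK LD1_c6 LD2_c6 LD3_c18) Lrfl Lrfl
theorem f975997 : Led Lsl_af (LP (LK LD1_c11 LD2_c55 LD3_c58)) = v50430 :=
  Lgr Lrot117 (Lpr_dt (f183366 IH) (Lpr_at (K53.f286000 IH) (Lpr_dt (f975996 IH) (Lpn v50430))))
theorem f409781 : Led Lsl_dt (LP (LK LD1_c5 LD2_c26 LD3_c1)) = (LP (LK LD1_c10 LD2_c43 LD3_c22)) :=
  Lre_d IH (LK LD1_c5 LD2_c26 LD3_c1) (LK LD1_c10 LD2_c43 LD3_c22) Lrfl Lrfl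
theorem f409693 : Led Lsl_ct (LP (LK LD1_c5 LD2_c26 LD3_c2)) = (LP (LK LD1_c10 LD2_c43 LD3_c1)) :=
  Lre_c IH (LK LD1_c5 LD2_c26 LD3_c2) (LK LD1_c10 LD2_c43 LD3_c1) Lrfl Lrfl
theorem f409694 : Led Lsl_ff (LP (LK LD1_c5 LD2_c26 LD3_c2)) = (LP (LK LD1_c6 LD2_c5 LD3_c55)) :=
  Lgr Lrot23 (Lpr_ct (f409693 IH) (Lpr_ft (K56.f409687 IH) (Lpr_ct (K56.f282355 IH) (Lpn (LP (LK LD1_c6 LD2_c5 LD3_c55))))))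
theorem f409762 : Led Lsl_at (LP (LK LD1_c5 LD2_c26 LD3_c2)) = (LP (LK LD1_c2 LD2_c39 LD3_c24)) :=
  Lre_a IH (LK LD1_c5 LD2_c26 LD3_c2) (LK LD1_c2 LD2_c39 LD3_c24) Lrfl Lrfl
theorem f409779 : Led Lsl_gf (LP (LK LD1_c5 LD2_c26 LD3_c1)) = (LP (LK LD1_c6 LD2_c5 LD3_c55)) :=
  Lgr Lrot47 (Lpr_gt (K72.f166146 IH) (Lpe (f409762 IH) (Lpr_ff (f409694 IH) (Lpn (LP (LK LD1_c6 LD2_c5 LD3_c55))))))
theorem f409719 : Led Lsl_dt (LP (LK LD1_c10 LD2_c43 LD3_c0)) = (LP (LK LD1_c19 LD2_c23 LD3_c57)) :=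
  Lre_d IH (LK LD1_c10 LD2_c43 LD3_c0) (LK LD1_c19 LD2_c23 LD3_c57) Lrfl Lrfl
theorem f929549 : Led Lsl_gt (LP (LK LD1_c19 LD2_c23 LD3_c57)) = (LP (LK LD1_c11 LD2_c55 LD3_c58)) :=
  Lgr Lrot49 (Lpe (f409719 IH) (Lpr_gf (K56.f409716 IH) (Lpe (K56.f282354 IH) (Lpe (f409779 IH) (Lpr_dt (f409781 IH) (Lpqs (K72.f929546 IH) (Lpe (K72.f751338 IH) (Lpr_dt (K72.f285992 IH) (Lpe (K17.f183365 IH) (Lpe (f183366 IH) (Lpn (LP (LK LD1_c11 LD2_c55 LD3_c58)))))))))))))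
theorem f976003 : Led Lsl_gt (LP (LK LD1_c19 LD2_c25 LD3_c18)) = (LP (LK LD1_c19 LD2_c23 LD3_c57)) :=
  Lgr Lrot5 (Lpr_ft (f976001 IH) (Lpe (f975997 IH) (Lpe (f929549 IH) (Lpn (LP (LK LD1_c19 LD2_c23 LD3_c57))))))
theorem f976004 : Led Lsl_gt (LP (LK LD1_c19 LD2_c25 LD3_c18)) = (LP (LK LD1_c19 LD2_c23 LD3_c57)) :=
  Leop (Lpe (f976003 IH) (Lpn (LP (LK LD1_c19 LD2_c25 LD3_c18))))
theorem seed_3028 : LEOK LG_g (LK LD1_c19 LD2_c25 LD3_c18) :=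
  Leoe_g (LK LD1_c19 LD2_c25 LD3_c18) (f976004 IH)
def v50445 : LQ := Led Lsl_gf (LP (LK LD1_c11 LD2_c56 LD3_c3))
theorem f976080 : Led Lsl_gf (LP (LK LD1_c11 LD2_c56 LD3_c3)) = v50445 :=
  Lrfl
theorem f923280 : Led Lsl_dt (LP (LK LD1_c11 LD2_c56 LD3_c3)) = (LP (LK LD1_c10 LD2_c0 LD3_c13)) :=
  Lgr Lrot42 (Lpr_df (K71.f923278 IH) (Lpn (LP (LK LD1_c10 LD2_c0 LD3_c13))))
def v14276 : LQ := Led Lsl_bt (LP (LK LD1_c5 LD2_c4 LD3_c34))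
theorem f721685 : Led Lsl_bt (LP (LK LD1_c5 LD2_c4 LD3_c34)) = v14276 :=
  Lrfl
def v41685 : LQ := Led Lsl_gt (LP (LK LD1_c10 LD2_c0 LD3_c11))
theorem f927891 : Led Lsl_gt (LP (LK LD1_c10 LD2_c0 LD3_c11)) = v41685 :=
  Lrfl
theorem f177216 : Led Lsl_bt (LP (LK LD1_c2 LD2_c29 LD3_c6)) = (LP (LK LD1_c5 LD2_c3 LD3_c7)) :=
  Lre_b IH (LK LD1_c2 LD2_c29 LD3_c6) (LK LD1_c5 LD2_c3 LD3_c7) Lrfl Lrfl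
def v41397 : LQ := Led Lsl_bt (LP (LK LD1_c9 LD2_c57 LD3_c7))
theorem f925785 : Led Lsl_bt (LP (LK LD1_c9 LD2_c57 LD3_c7)) = v41397 :=
  Lrfl
theorem f925786 : Led Lsl_bf (LP (LK LD1_c9 LD2_c57 LD3_c7)) = v41397 :=
  Lgr Lrot24 (Lpr_bt (f925785 IH) (Lpn v41397))
theorem f927894 : Led Lsl_ct v41397 = v41685 :=
  Lgr Lrot63 (Lpe (f925786 IH) (Lpr_gt (K72.f177219 IH) (Lpe (f177216 IH) (Lpr_ct (K10.f177206 IH) (Lpr_gt (K9.f164091 IH) (Lpe (K9.f163646 IH) (Lpr_bt (K10.f163644 IH) (Lpr_gt (K10.f21471 IH) (Lpr_ct (K71.f164070 IH) (Lpr_gt (f927891 IH) (Lpn v41685)))))))))))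
theorem f925787 : Led Lsl_df (LP (LK LD1_c9 LD2_c58 LD3_c39)) = v41397 :=
  Lgr Lrot12 (Lpr_bt (K44.f165739 IH) (Lpe (K72.f343412 IH) (Lpr_bt (f925785 IH) (Lpn v41397))))
theorem f922612 : Led Lsl_cf (LP (LK LD1_c9 LD2_c54 LD3_c21)) = K71.v41215 :=
  Lgr Lrot108 (Lpr_ft (K44.f585938 IH) (Lpr_ct (K71.f233596 IH) (Lpr_ft (K71.f922609 IH) (Lpn K71.v41215))))
theorem f925790 : Led Lsl_gf (LP (LK LD1_c18 LD2_c43 LD3_c27)) = v41397 :=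
  Lgr Lrot147 (Lpr_ct (K45.f164012 IH) (Lpe (K45.f164010 IH) (Lpr_ct (K45.f163984 IH) (Lpe (K72.f21601 IH) (Lpe (K71.f21638 IH) (Lpr_gf (K45.f585978 IH) (Lpr_cf (f922612 IH) (Lpe (K73.f922623 IH) (Lpr_df (f925787 IH) (Lpn v41397))))))))))
theorem f586510 : Led Lsl_at (LP (LK LD1_c11 LD2_c36 LD3_c7)) = (LP (LK LD1_c18 LD2_c43 LD3_c27)) :=
  Lgr Lrot100 (Lpr_af (K45.f586503 IH) (Lpn (LP (LK LD1_c18 LD2_c43 LD3_c27))))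
theorem f925791 : Led Lsl_gt (LP (LK LD1_c10 LD2_c27 LD3_c26)) = v41397 :=
  Lgr Lrot5 (Lpe (K73.f586460 IH) (Lpr_at (f586510 IH) (Lpr_gf (f925790 IH) (Lpn v41397))))
def v41662 : LQ := Led Lsl_dt (LP (LK LD1_c9 LD2_c59 LD3_c58))
theorem f927806 : Led Lsl_dt (LP (LK LD1_c9 LD2_c59 LD3_c58)) = v41662 :=
  Lrfl
theorem f927808 : Led Lsl_df (LP (LK LD1_c9 LD2_c59 LD3_c58)) = v41662 :=
  Lgr Lrot38 (Lpr_dt (f927806 IH) (Lpn v41662))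
theorem f927809 : Led Lsl_bt (LP (LK LD1_c18 LD2_c36 LD3_c46)) = v41662 :=
  Lgr Lrot95 (Lpe (K73.f181055 IH) (Lpe (K72.f343486 IH) (Lpr_df (f927808 IH) (Lpn v41662))))
theorem f927892 : Led Lsl_gf (LP (LK LD1_c10 LD2_c0 LD3_c13)) = v41685 :=
  Lgr Lrot76 (Lpe (K71.f923555 IH) (Lpr_ff (K71.f923553 IH) (Lpr_gt (f927891 IH) (Lpn v41685))))
theorem f927896 : Led Lsl_gf v41662 = v14276 :=
  Lgr Lrot124 (Lpe (f927809 IH) (Lpr_ct (K73.f583305 IH) (Lpr_gt (K73.f186592 IH) (Lpe (K73.f186513 IH) (Lpr_bt (K45.f186580 IH) (Lpr_gt (f925791 IH) (Lpr_ct (f927894 IH) (Lpe (f927892 IH) (Lpe (K71.f164030 IH) (Lpr_bt (f721685 IH) (Lpn v14276)))))))))))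
theorem f283873 : Led Lsl_bt (LP (LK LD1_c10 LD2_c33 LD3_c19)) = (LP (LK LD1_c19 LD2_c6 LD3_c57)) :=
  Lre_b IH (LK LD1_c10 LD2_c33 LD3_c19) (LK LD1_c19 LD2_c6 LD3_c57) Lrfl Lrfl
theorem f942101 : Led Lsl_ft (LP (LK LD1_c19 LD2_c9 LD3_c33)) = (LP (LK LD1_c10 LD2_c34 LD3_c40)) :=
  Lre_f IH (LK LD1_c19 LD2_c9 LD3_c33) (LK LD1_c10 LD2_c34 LD3_c40) Lrfl Lrfl
theorem f942102 : Led Lsl_at (LP (LK LD1_c10 LD2_c34 LD3_c40)) = (LP (LK LD1_c19 LD2_c9 LD3_c41)) :=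
  Lre_a IH (LK LD1_c10 LD2_c34 LD3_c40) (LK LD1_c19 LD2_c9 LD3_c41) Lrfl Lrfl
theorem f975616 : Led Lsl_gf (LP (LK LD1_c19 LD2_c9 LD3_c41)) = (LP (LK LD1_c19 LD2_c6 LD3_c57)) :=
  Lgr Lrot76 (Lpe (f942102 IH) (Lpe (f942101 IH) (Lpr_gt (f975607 IH) (Lpn (LP (LK LD1_c19 LD2_c6 LD3_c57))))))
theorem f942091 : Led Lsl_dt (LP (LK LD1_c19 LD2_c9 LD3_c41)) = (LP (LK LD1_c10 LD2_c34 LD3_c38)) :=
  Lre_d IH (LK LD1_c19 LD2_c9 LD3_c41) (LK LD1_c10 LD2_c34 LD3_c38) Lrfl Lrfl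
theorem f942145 : Led Lsl_ff (LP (LK LD1_c10 LD2_c34 LD3_c35)) = K73.v43759 :=
  Lgr Lrot3 (Lpr_ft (K73.f942142 IH) (Lpn K73.v43759))
theorem f726388 : Led Lsl_ft (LP (LK LD1_c5 LD2_c22 LD3_c4)) = (LP (LK LD1_c10 LD2_c34 LD3_c38)) :=
  Lre_f IH (LK LD1_c5 LD2_c22 LD3_c4) (LK LD1_c10 LD2_c34 LD3_c38) Lrfl Lrfl
theorem f942155 : Led Lsl_ct (LP (LK LD1_c10 LD2_c34 LD3_c38)) = K73.v43759 :=
  Lgr Lrot40 (Lpe (f726388 IH) (Lpe (K73.f8951 IH) (Lpr_ff (f942145 IH) (Lpn K73.v43759))))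
theorem f976083 : Led Lsl_bt K73.v43759 = v50445 :=
  Lgr Lrot178 (Lpe (f942155 IH) (Lpe (f942091 IH) (Lpr_gf (f975616 IH) (Lpe (f283873 IH) (Lpr_cf (K17.f283869 IH) (Lpe (K17.f169849 IH) (Lpe (K17.f283882 IH) (Lpe (K53.f283896 IH) (Lpe (K18.f300018 IH) (Lpe (K72.f300060 IH) (Lpe (K44.f583277 IH) (Lpe (K44.f230034 IH) (Lpe (K44.f343479 IH) (Lpr_df (f927808 IH) (Lpr_gf (f927896 IH) (Lpe (f721685 IH) (Lpe (K71.f164031 IH) (Lpe (f923280 IH) (Lpr_gf (f976080 IH) (Lpn v50445))))))))))))))))))))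
def v43754 : LQ := Led Lsl_ft (LP (LK LD1_c10 LD2_c34 LD3_c34))
theorem f942112 : Led Lsl_ft (LP (LK LD1_c10 LD2_c34 LD3_c34)) = v43754 :=
  Lrfl
theorem f942113 : Led Lsl_bf (LP (LK LD1_c10 LD2_c34 LD3_c38)) = v43754 :=
  Lgr Lrot61 (Lpr_ft (f942093 IH) (Lpr_bt (K73.f726385 IH) (Lpr_ft (f942112 IH) (Lpn v43754))))
theorem f942114 : Led Lsl_ff (LP (LK LD1_c10 LD2_c34 LD3_c34)) = v43754 :=
  Lgr Lrot3 (Lpr_ft (f942112 IH) (Lpn v43754))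
theorem f942115 : Led Lsl_bt (LP (LK LD1_c10 LD2_c34 LD3_c38)) = v43754 :=
  Lgr Lrot35 (Lpe (f726388 IH) (Lpe (K70.f196024 IH) (Lpr_ff (f942114 IH) (Lpn v43754))))
theorem f975582 : (LP (LK LD1_c17 LD2_c36 LD3_c14)) = v43754 :=
  Lefun (Lecon (Lfl_bf (f726415 IH)) (f975577 IH)) (f942115 IH)
theorem f51134 : Led Lsl_ct (LP (LK LD1_c9 LD2_c33 LD3_c35)) = (LP (LK LD1_c17 LD2_c36 LD3_c14)) :=
  Lre_c IH (LK LD1_c9 LD2_c33 LD3_c35) (LK LD1_c17 LD2_c36 LD3_c14) Lrfl Lrfl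
theorem f51135 : Led Lsl_bt (LP (LK LD1_c17 LD2_c36 LD3_c13)) = (LP (LK LD1_c9 LD2_c33 LD3_c35)) :=
  Lre_b IH (LK LD1_c17 LD2_c36 LD3_c13) (LK LD1_c9 LD2_c33 LD3_c35) Lrfl Lrfl
theorem f976086 : Led Lsl_cf (LP (LK LD1_c17 LD2_c36 LD3_c13)) = v50445 :=
  Lgr Lrot97 (Lpr_bt (f51135 IH) (Lpr_ct (f51134 IH) (Lpqs (f975582 IH) (Lpe (f942113 IH) (Lpr_ct (f942155 IH) (Lpr_bt (f976083 IH) (Lpn v50445)))))))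
theorem f976087 : Led Lsl_ct (LP (LK LD1_c17 LD2_c36 LD3_c13)) = v50445 :=
  Lgr Lrot59 (Lpr_cf (f976086 IH) (Lpn v50445))
theorem f51132 : Led Lsl_gt (LP (LK LD1_c17 LD2_c36 LD3_c6)) = (LP (LK LD1_c9 LD2_c33 LD3_c35)) :=
  Lre_g IH (LK LD1_c17 LD2_c36 LD3_c6) (LK LD1_c9 LD2_c33 LD3_c35) Lrfl Lrfl
theorem f51120 : Led Lsl_ft (LP (LK LD1_c17 LD2_c36 LD3_c17)) = (LP (LK LD1_c27 LD2_c24 LD3_c8)) :=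
  Lre_f IH (LK LD1_c17 LD2_c36 LD3_c17) (LK LD1_c27 LD2_c24 LD3_c8) Lrfl Lrfl
theorem f51121 : Led Lsl_bt (LP (LK LD1_c27 LD2_c24 LD3_c8)) = (LP (LK LD1_c25 LD2_c7 LD3_c42)) :=
  Lgr Lrot35 (Lpe (f51120 IH) (Lpr_bf (K10.f51112 IH) (Lpe (K10.f51082 IH) (Lpn (LP (LK LD1_c25 LD2_c7 LD3_c42))))))
theorem f51126 : Led Lsl_dt (LP (LK LD1_c17 LD2_c36 LD3_c6)) = (LP (LK LD1_c27 LD2_c24 LD3_c8)) :=
  Lre_d IH (LK LD1_c17 LD2_c36 LD3_c6) (LK LD1_c27 LD2_c24 LD3_c8) Lrfl Lrfl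
theorem f51057 : Led Lsl_at (LP (LK LD1_c15 LD2_c17 LD3_c26)) = (LP (LK LD1_c25 LD2_c7 LD3_c42)) :=
  Lre_a IH (LK LD1_c15 LD2_c17 LD3_c26) (LK LD1_c25 LD2_c7 LD3_c42) Lrfl Lrfl
theorem f51058 : Led Lsl_dt (LP (LK LD1_c25 LD2_c7 LD3_c42)) = (LP (LK LD1_c15 LD2_c52 LD3_c53)) :=
  Lgr Lrot44 (Lpe (f51057 IH) (Lpr_df (K10.f51025 IH) (Lpe (K10.f27630 IH) (Lpn (LP (LK LD1_c15 LD2_c52 LD3_c53))))))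
theorem f51127 : Led Lsl_bf (LP (LK LD1_c17 LD2_c36 LD3_c6)) = (LP (LK LD1_c15 LD2_c52 LD3_c53)) :=
  Lgr Lrot93 (Lpr_dt (f51126 IH) (Lpr_bt (f51121 IH) (Lpr_dt (f51058 IH) (Lpn (LP (LK LD1_c15 LD2_c52 LD3_c53))))))
def v50425 : LQ := Led Lsl_at (LP (LK LD1_c11 LD2_c55 LD3_c54))
theorem f975961 : Led Lsl_at (LP (LK LD1_c11 LD2_c55 LD3_c54)) = v50425 :=
  Lrfl
theorem f49886 : Led Lsl_bt (LP (LK LD1_c4 LD2_c13 LD3_c56)) = (LP (LK LD1_c8 LD2_c26 LD3_c29)) :=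
  Lre_b IH (LK LD1_c4 LD2_c13 LD3_c56) (LK LD1_c8 LD2_c26 LD3_c29) Lrfl Lrfl
theorem f183771 : Led Lsl_ff (LP (LK LD1_c11 LD2_c55 LD3_c54)) = (LP (LK LD1_c8 LD2_c26 LD3_c29)) :=
  Lgr Lrot25 (Lpr_bt (K68.f183497 IH) (Lpr_ft (K11.f183769 IH) (Lpr_bt (f49886 IH) (Lpn (LP (LK LD1_c8 LD2_c26 LD3_c29))))))
theorem f183766 : Led Lsl_at (LP (LK LD1_c15 LD2_c51 LD3_c14)) = (LP (LK LD1_c8 LD2_c26 LD3_c29)) :=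
  Lre_a IH (LK LD1_c15 LD2_c51 LD3_c14) (LK LD1_c8 LD2_c26 LD3_c29) Lrfl Lrfl
theorem f975965 : Led Lsl_ff (LP (LK LD1_c15 LD2_c51 LD3_c14)) = v50425 :=
  Lgr Lrot30 (Lpr_at (f183766 IH) (Lpe (f183771 IH) (Lpr_at (f975961 IH) (Lpn v50425))))
theorem f51066 : Led Lsl_ct (LP (LK LD1_c15 LD2_c51 LD3_c14)) = (LP (LK LD1_c8 LD2_c27 LD3_c31)) :=
  Lre_c IH (LK LD1_c15 LD2_c51 LD3_c14) (LK LD1_c8 LD2_c27 LD3_c31) Lrfl Lrfl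
theorem f975968 : Led Lsl_ct (LP (LK LD1_c15 LD2_c52 LD3_c53)) = v50425 :=
  Lgr Lrot40 (Lpe (K10.f51080 IH) (Lpe (f51066 IH) (Lpr_ff (f975965 IH) (Lpn v50425))))
theorem f49887 : Led Lsl_gt (LP (LK LD1_c8 LD2_c26 LD3_c29)) = (LP (LK LD1_c15 LD2_c51 LD3_c12)) :=
  Lre_g IH (LK LD1_c8 LD2_c26 LD3_c29) (LK LD1_c15 LD2_c51 LD3_c12) Lrfl Lrfl
theorem f975966 : Led Lsl_gt (LP (LK LD1_c15 LD2_c51 LD3_c12)) = v50425 :=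
  Lgr Lrot46 (Lpe (f49887 IH) (Lpe (f183771 IH) (Lpr_at (f975961 IH) (Lpn v50425))))
theorem f283715 : Led Lsl_ct (LP (LK LD1_c25 LD2_c47 LD3_c4)) = (LP (LK LD1_c15 LD2_c51 LD3_c12)) :=
  Lre_c IH (LK LD1_c25 LD2_c47 LD3_c4) (LK LD1_c15 LD2_c51 LD3_c12) Lrfl Lrfl
theorem f976090 : Led Lsl_gf (LP (LK LD1_c25 LD2_c47 LD3_c4)) = (LP (LK LD1_c21 LD2_c1 LD3_c2)) :=
  Lgr Lrot181 (Lpr_ct (f283715 IH) (Lpr_gt (f975966 IH) (Lpe (f975968 IH) (Lpe (f51127 IH) (Lpr_gt (f51132 IH) (Lpe (f51135 IH) (Lpr_ct (f976087 IH) (Lpe (f976080 IH) (Lpr_cf (K71.f198832 IH) (Lpr_bt (K74.f198829 IH) (Lpn (LP (LK LD1_c21 LD2_c1 LD3_c2)))))))))))))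
theorem f976091 : Led Lsl_gt (LP (LK LD1_c21 LD2_c1 LD3_c2)) = (LP (LK LD1_c25 LD2_c47 LD3_c4)) :=
  Leop (Lpr_gf (f976090 IH) (Lpn (LP (LK LD1_c21 LD2_c1 LD3_c2))))
theorem seed_3029 : LEOK LG_g (LK LD1_c21 LD2_c1 LD3_c2) :=
  Leoe_g (LK LD1_c21 LD2_c1 LD3_c2) (f976091 IH)
def v50448 : LQ := Led Lsl_dt (LP (LK LD1_c11 LD2_c56 LD3_c5))
theorem f976106 : Led Lsl_dt (LP (LK LD1_c11 LD2_c56 LD3_c5)) = v50448 :=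
  Lrfl
theorem f923471 : Led Lsl_ff (LP (LK LD1_c11 LD2_c56 LD3_c5)) = (LP (LK LD1_c10 LD2_c44 LD3_c14)) :=
  Lgr Lrot25 (Lpr_bt (K71.f257223 IH) (Lpqs (K71.f923460 IH) (Lpe (K71.f726902 IH) (Lpr_bt (K74.f196094 IH) (Lpn (LP (LK LD1_c10 LD2_c44 LD3_c14)))))))
theorem f976110 : Led Lsl_ff (LP (LK LD1_c19 LD2_c24 LD3_c23)) = v50448 :=
  Lgr Lrot19 (Lpe (f923525 IH) (Lpe (f923471 IH) (Lpr_dt (f976106 IH) (Lpn v50448))))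
theorem f976113 : Led Lsl_ft (LP (LK LD1_c19 LD2_c24 LD3_c23)) = v50448 :=
  Lgr Lrot48 (Lpr_ff (f976110 IH) (Lpn v50448))
def v50262 : LQ := Led Lsl_gt (LP (LK LD1_c11 LD2_c54 LD3_c0))
theorem f974865 : Led Lsl_gt (LP (LK LD1_c11 LD2_c54 LD3_c0)) = v50262 :=
  Lrfl
def v44487 : LQ := Led Lsl_at (LP (LK LD1_c10 LD2_c44 LD3_c49))
theorem f945414 : Led Lsl_at (LP (LK LD1_c10 LD2_c44 LD3_c49)) = v44487 :=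
  Lrfl
theorem f945416 : Led Lsl_cf K74.v14877 = v44487 :=
  Lgr Lrot1 (Lpe (K74.f727053 IH) (Lpr_ct (K74.f195575 IH) (Lpr_at (f945414 IH) (Lpn v44487))))
def v24234 : LQ := Led Lsl_ct K74.v4636
theorem f823053 : Led Lsl_ct K74.v4636 = v24234 :=
  Lrfl
theorem f945418 : Led Lsl_ft v24234 = v44487 :=
  Lgr Lrot4 (Lpe (f823053 IH) (Lpr_ff (K74.f727058 IH) (Lpr_cf (f945416 IH) (Lpn v44487))))
theorem f945415 : Led Lsl_af (LP (LK LD1_c10 LD2_c44 LD3_c49)) = v44487 :=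
  Lgr Lrot0 (Lpr_at (f945414 IH) (Lpn v44487))
theorem f945420 : Led Lsl_gt v24234 = K74.v44486 :=
  Lgr Lrot5 (Lpr_ft (f945418 IH) (Lpe (f945415 IH) (Lpr_gf (K74.f945412 IH) (Lpn K74.v44486))))
def v41687 : LQ := Led Lsl_dt (LP (LK LD1_c10 LD2_c0 LD3_c11))
theorem f927903 : Led Lsl_dt (LP (LK LD1_c10 LD2_c0 LD3_c11)) = v41687 :=
  Lrfl
def v14274 : LQ := Led Lsl_dt (LP (LK LD1_c5 LD2_c4 LD3_c33))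
theorem f721679 : Led Lsl_dt (LP (LK LD1_c5 LD2_c4 LD3_c33)) = v14274 :=
  Lrfl
theorem f721680 : Led Lsl_df (LP (LK LD1_c5 LD2_c4 LD3_c33)) = v14274 :=
  Lgr Lrot38 (Lpr_dt (f721679 IH) (Lpn v14274))
theorem f923242 : (LP (LK LD1_c9 LD2_c55 LD3_c40)) = v14274 :=
  Lefun (Lecon (Lfl_df (K71.f923010 IH)) (K71.f923238 IH)) (f721679 IH)
theorem f927906 : Led Lsl_cf (LP (LK LD1_c11 LD2_c56 LD3_c13)) = v41687 :=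
  Lgr Lrot102 (Lpr_af (K71.f923396 IH) (Lpe (K71.f923415 IH) (Lpr_dt (K71.f923425 IH) (Lpr_ct (K71.f585032 IH) (Lpr_dt (K71.f923378 IH) (Lpr_ct (K71.f169986 IH) (Lpqs (f923242 IH) (Lpe (f721680 IH) (Lpr_ct (K71.f164070 IH) (Lpr_dt (f927903 IH) (Lpn v41687)))))))))))
theorem f974868 : Led Lsl_bt v41687 = v50262 :=
  Lgr Lrot92 (Lpe (f927906 IH) (Lpr_gt (K71.f402942 IH) (Lpe (K53.f396408 IH) (Lpr_bt (K53.f646177 IH) (Lpe (K74.f646179 IH) (Lpr_ct (f823053 IH) (Lpr_gt (f945420 IH) (Lpe (K74.f945523 IH) (Lpr_bt (K74.f337881 IH) (Lpr_gt (f974865 IH) (Lpn v50262)))))))))))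
theorem f927908 : Led Lsl_at K53.v14845 = v41687 :=
  Lgr Lrot107 (Lpe (K53.f726907 IH) (Lpe (K71.f923394 IH) (Lpr_cf (f927906 IH) (Lpn v41687))))
theorem f974869 : Led Lsl_af (LP (LK LD1_c11 LD2_c56 LD3_c5)) = v50262 :=
  Lgr Lrot36 (Lpr_bt (K71.f257223 IH) (Lpqs (K71.f923460 IH) (Lpe (K71.f726898 IH) (Lpr_bt (K53.f726903 IH) (Lpr_at (f927908 IH) (Lpr_bt (f974868 IH) (Lpn v50262)))))))
theorem f927905 : Led Lsl_df (LP (LK LD1_c10 LD2_c0 LD3_c11)) = v41687 :=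
  Lgr Lrot38 (Lpr_dt (f927903 IH) (Lpn v41687))
theorem f936980 : Led Lsl_ff v41687 = K73.v42925 :=
  Lgr Lrot19 (Lpe (f927905 IH) (Lpe (K71.f923553 IH) (Lpr_dt (K73.f936975 IH) (Lpn K73.v42925))))
theorem f974873 : Led Lsl_ff (LP (LK LD1_c15 LD2_c30 LD3_c14)) = v50262 :=
  Lgr Lrot25 (Lpr_bt (K73.f936984 IH) (Lpe (f936980 IH) (Lpr_bt (f974868 IH) (Lpn v50262))))
theorem f177221 : Led Lsl_bt (LP (LK LD1_c18 LD2_c17 LD3_c5)) = (LP (LK LD1_c10 LD2_c0 LD3_c11)) :=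
  Lre_b IH (LK LD1_c18 LD2_c17 LD3_c5) (LK LD1_c10 LD2_c0 LD3_c11) Lrfl Lrfl
theorem f923557 : Led Lsl_ft (LP (LK LD1_c18 LD2_c43 LD3_c47)) = (LP (LK LD1_c18 LD2_c17 LD3_c5)) :=
  Lgr Lrot75 (Lpe (K73.f163989 IH) (Lpr_ff (K71.f923553 IH) (Lpe (f177221 IH) (Lpn (LP (LK LD1_c18 LD2_c17 LD3_c5))))))
theorem f974875 : Led Lsl_dt (LP (LK LD1_c18 LD2_c17 LD3_c5)) = v50262 :=
  Lgr Lrot60 (Lpe (f923557 IH) (Lpe (K73.f603495 IH) (Lpr_ff (f974873 IH) (Lpn v50262))))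
theorem f976107 : Led Lsl_af (LP (LK LD1_c18 LD2_c17 LD3_c5)) = v50448 :=
  Lgr Lrot117 (Lpr_dt (f974875 IH) (Lpe (f974869 IH) (Lpr_dt (f976106 IH) (Lpn v50448))))
theorem f976114 : Led Lsl_gt (LP (LK LD1_c21 LD2_c1 LD3_c32)) = (LP (LK LD1_c18 LD2_c17 LD3_c5)) :=
  Lgr Lrot46 (Lpr_gf (f923538 IH) (Lpr_ft (f976113 IH) (Lpe (f976107 IH) (Lpn (LP (LK LD1_c18 LD2_c17 LD3_c5))))))
theorem f976115 : Led Lsl_gt (LP (LK LD1_c21 LD2_c1 LD3_c32)) = (LP (LK LD1_c18 LD2_c17 LD3_c5)) :=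
  Leop (Lpe (f976114 IH) (Lpn (LP (LK LD1_c21 LD2_c1 LD3_c32))))
theorem seed_3030 : LEOK LG_g (LK LD1_c21 LD2_c1 LD3_c32) :=
  Leoe_g (LK LD1_c21 LD2_c1 LD3_c32) (f976115 IH)
def v50486 : LQ := Led Lsl_at (LP (LK LD1_c11 LD2_c56 LD3_c23))
theorem f976324 : Led Lsl_at (LP (LK LD1_c11 LD2_c56 LD3_c23)) = v50486 :=
  Lrfl
theorem f195519 : Led Lsl_at (LP (LK LD1_c19 LD2_c26 LD3_c23)) = (LP (LK LD1_c10 LD2_c44 LD3_c56)) :=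
  Lre_a IH (LK LD1_c19 LD2_c26 LD3_c23) (LK LD1_c10 LD2_c44 LD3_c56) Lrfl Lrfl
theorem f976327 : Led Lsl_ff (LP (LK LD1_c19 LD2_c26 LD3_c23)) = v50486 :=
  Lgr Lrot30 (Lpr_at (f195519 IH) (Lpr_ft (f396463 IH) (Lpr_at (f976324 IH) (Lpn v50486))))
theorem f976330 : Led Lsl_ft (LP (LK LD1_c19 LD2_c26 LD3_c23)) = v50486 :=
  Lgr Lrot48 (Lpr_ff (f976327 IH) (Lpn v50486))
theorem f976325 : Led Lsl_af (LP (LK LD1_c11 LD2_c56 LD3_c23)) = v50486 :=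
  Lgr Lrot0 (Lpr_at (f976324 IH) (Lpn v50486))
theorem f396493 : Led Lsl_gt (LP (LK LD1_c21 LD2_c1 LD3_c14)) = (LP (LK LD1_c11 LD2_c56 LD3_c23)) :=
  Lre_g IH (LK LD1_c21 LD2_c1 LD3_c14) (LK LD1_c11 LD2_c56 LD3_c23) Lrfl Lrfl
theorem f976333 : Led Lsl_gt (LP (LK LD1_c19 LD2_c26 LD3_c23)) = (LP (LK LD1_c21 LD2_c1 LD3_c14)) :=
  Lgr Lrot5 (Lpr_ft (f976330 IH) (Lpe (f976325 IH) (Lpe (f396493 IH) (Lpn (LP (LK LD1_c21 LD2_c1 LD3_c14))))))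
theorem f976334 : Led Lsl_gt (LP (LK LD1_c19 LD2_c26 LD3_c23)) = (LP (LK LD1_c21 LD2_c1 LD3_c14)) :=
  Leop (Lpe (f976333 IH) (Lpn (LP (LK LD1_c19 LD2_c26 LD3_c23))))
theorem seed_3031 : LEOK LG_g (LK LD1_c19 LD2_c26 LD3_c23) :=
  Leoe_g (LK LD1_c19 LD2_c26 LD3_c23) (f976334 IH)
def v50493 : LQ := Led Lsl_gt (LP (LK LD1_c11 LD2_c56 LD3_c29))
theorem f976376 : Led Lsl_gt (LP (LK LD1_c11 LD2_c56 LD3_c29)) = v50493 :=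
  Lrfl
theorem f257224 : Led Lsl_ct (LP (LK LD1_c11 LD2_c56 LD3_c26)) = (LP (LK LD1_c11 LD2_c56 LD3_c5)) :=
  Lre_c IH (LK LD1_c11 LD2_c56 LD3_c26) (LK LD1_c11 LD2_c56 LD3_c5) Lrfl Lrfl
theorem f923564 : Led Lsl_at (LP (LK LD1_c15 LD2_c30 LD3_c14)) = (LP (LK LD1_c10 LD2_c44 LD3_c14)) :=
  Lgr Lrot51 (Lpr_df (K73.f603497 IH) (Lpr_af (K71.f923560 IH) (Lpe (f923536 IH) (Lpn (LP (LK LD1_c10 LD2_c44 LD3_c14))))))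
theorem f923572 : Led Lsl_af (LP (LK LD1_c15 LD2_c30 LD3_c14)) = (LP (LK LD1_c10 LD2_c44 LD3_c14)) :=
  Lgr Lrot0 (Lpr_at (f923564 IH) (Lpn (LP (LK LD1_c10 LD2_c44 LD3_c14))))
theorem f923504 : Led Lsl_ft (LP (LK LD1_c11 LD2_c56 LD3_c5)) = (LP (LK LD1_c10 LD2_c44 LD3_c14)) :=
  Lgr Lrot48 (Lpr_ff (f923471 IH) (Lpn (LP (LK LD1_c10 LD2_c44 LD3_c14))))
theorem f974892 : Led Lsl_gt (LP (LK LD1_c11 LD2_c56 LD3_c5)) = v50264 :=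
  Lgr Lrot5 (Lpr_ft (f923504 IH) (Lpe (f923572 IH) (Lpr_gf (f974891 IH) (Lpn v50264))))
theorem f257245 : Led Lsl_at (LP (LK LD1_c8 LD2_c29 LD3_c19)) = (LP (LK LD1_c15 LD2_c56 LD3_c21)) :=
  Lre_a IH (LK LD1_c8 LD2_c29 LD3_c19) (LK LD1_c15 LD2_c56 LD3_c21) Lrfl Lrfl
theorem f257246 : Led Lsl_cf (LP (LK LD1_c11 LD2_c53 LD3_c44)) = (LP (LK LD1_c15 LD2_c56 LD3_c21)) :=
  Lgr Lrot1 (Lpr_at (K39.f257244 IH) (Lpr_ct (K17.f257209 IH) (Lpr_at (f257245 IH) (Lpn (LP (LK LD1_c15 LD2_c56 LD3_c21))))))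
theorem f257250 : Led Lsl_dt (LP (LK LD1_c8 LD2_c29 LD3_c19)) = (LP (LK LD1_c15 LD2_c56 LD3_c22)) :=
  Lre_d IH (LK LD1_c8 LD2_c29 LD3_c19) (LK LD1_c15 LD2_c56 LD3_c22) Lrfl Lrfl
theorem f343638 : Led Lsl_dt (LP (LK LD1_c15 LD2_c55 LD3_c38)) = (LP (LK LD1_c8 LD2_c28 LD3_c55)) :=
  Lre_d IH (LK LD1_c15 LD2_c55 LD3_c38) (LK LD1_c8 LD2_c28 LD3_c55) Lrfl Lrfl
theorem f343639 : Led Lsl_ff (LP (LK LD1_c8 LD2_c29 LD3_c19)) = (LP (LK LD1_c8 LD2_c28 LD3_c55)) :=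
  Lgr Lrot19 (Lpr_dt (f257250 IH) (Lpr_ft (K23.f343636 IH) (Lpr_dt (f343638 IH) (Lpn (LP (LK LD1_c8 LD2_c28 LD3_c55))))))
theorem f189636 : Led Lsl_gt (LP (LK LD1_c8 LD2_c28 LD3_c55)) = (LP (LK LD1_c15 LD2_c55 LD3_c35)) :=
  Lre_g IH (LK LD1_c8 LD2_c28 LD3_c55) (LK LD1_c15 LD2_c55 LD3_c35) Lrfl Lrfl
theorem f395128 : Led Lsl_gf (LP (LK LD1_c15 LD2_c56 LD3_c21)) = (LP (LK LD1_c15 LD2_c55 LD3_c35)) :=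
  Lgr Lrot76 (Lpe (f257245 IH) (Lpr_ff (f343639 IH) (Lpr_gt (f189636 IH) (Lpn (LP (LK LD1_c15 LD2_c55 LD3_c35))))))
theorem f976378 : Led Lsl_cf (LP (LK LD1_c15 LD2_c55 LD3_c35)) = v50493 :=
  Lgr Lrot169 (Lpe (f395128 IH) (Lpe (f257246 IH) (Lpr_df (K39.f555120 IH) (Lpr_cf (f974886 IH) (Lpe (f974892 IH) (Lpe (f257224 IH) (Lpe (K56.f618658 IH) (Lpe (K39.f555177 IH) (Lpr_gt (f976376 IH) (Lpn v50493))))))))))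
theorem f976382 : Led Lsl_ct (LP (LK LD1_c15 LD2_c55 LD3_c35)) = v50493 :=
  Lgr Lrot59 (Lpr_cf (f976378 IH) (Lpn v50493))
theorem f189630 : Led Lsl_bt (LP (LK LD1_c4 LD2_c14 LD3_c60)) = (LP (LK LD1_c8 LD2_c28 LD3_c55)) :=
  Lre_b IH (LK LD1_c4 LD2_c14 LD3_c60) (LK LD1_c8 LD2_c28 LD3_c55) Lrfl Lrfl
theorem f196088 : Led Lsl_bt (LP (LK LD1_c10 LD2_c44 LD3_c15)) = (LP (LK LD1_c15 LD2_c55 LD3_c35)) :=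
  Lgr Lrot92 (Lpr_ct (K74.f196087 IH) (Lpr_gt (K71.f8520 IH) (Lpe (K74.f183065 IH) (Lpr_bt (K74.f195803 IH) (Lpr_gt (K11.f195797 IH) (Lpr_ct (K14.f195815 IH) (Lpe (K12.f189620 IH) (Lpr_cf (K15.f189631 IH) (Lpr_bt (f189630 IH) (Lpr_gt (f189636 IH) (Lpn (LP (LK LD1_c15 LD2_c55 LD3_c35)))))))))))))
theorem f196090 : Led Lsl_bf (LP (LK LD1_c10 LD2_c44 LD3_c15)) = (LP (LK LD1_c15 LD2_c55 LD3_c35)) :=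
  Lgr Lrot24 (Lpr_bt (f196088 IH) (Lpn (LP (LK LD1_c15 LD2_c55 LD3_c35))))
def v44410 : LQ := Led Lsl_gf (LP (LK LD1_c10 LD2_c44 LD3_c12))
theorem f945126 : Led Lsl_gf (LP (LK LD1_c10 LD2_c44 LD3_c12)) = v44410 :=
  Lrfl
theorem f183812 : Led Lsl_ct (LP (LK LD1_c11 LD2_c56 LD3_c6)) = (LP (LK LD1_c6 LD2_c6 LD3_c25)) :=
  Lre_c IH (LK LD1_c11 LD2_c56 LD3_c6) (LK LD1_c6 LD2_c6 LD3_c25) Lrfl Lrfl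
theorem f923473 : Led Lsl_ff (LP (LK LD1_c11 LD2_c56 LD3_c6)) = (LP (LK LD1_c10 LD2_c44 LD3_c15)) :=
  Lgr Lrot23 (Lpr_ct (f183812 IH) (Lpqs (K71.f923460 IH) (Lpe (K71.f726902 IH) (Lpr_ct (K74.f196092 IH) (Lpn (LP (LK LD1_c10 LD2_c44 LD3_c15)))))))
theorem f923582 : Led Lsl_af (LP (LK LD1_c10 LD2_c44 LD3_c12)) = (LP (LK LD1_c11 LD2_c56 LD3_c6)) :=
  Lgr Lrot45 (Lpr_ft (K74.f923580 IH) (Lpe (K74.f923574 IH) (Lpe (f923473 IH) (Lpn (LP (LK LD1_c11 LD2_c56 LD3_c6))))))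
theorem f945127 : Led Lsl_gt (LP (LK LD1_c10 LD2_c44 LD3_c15)) = v44410 :=
  Lgr Lrot5 (Lpe (f923473 IH) (Lpe (f923582 IH) (Lpr_gf (f945126 IH) (Lpn v44410))))
def v44545 : LQ := Led Lsl_bt (LP (LK LD1_c10 LD2_c45 LD3_c14))
theorem f945934 : Led Lsl_bt (LP (LK LD1_c10 LD2_c45 LD3_c14)) = v44545 :=
  Lrfl
theorem f54922 : Led Lsl_gt (LP (LK LD1_c4 LD2_c6 LD3_c40)) = (LP (LK LD1_c8 LD2_c13 LD3_c55)) :=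
  Lre_g IH (LK LD1_c4 LD2_c6 LD3_c40) (LK LD1_c8 LD2_c13 LD3_c55) Lrfl Lrfl
theorem f54886 : Led Lsl_ct (LP (LK LD1_c2 LD2_c0 LD3_c51)) = (LP (LK LD1_c4 LD2_c6 LD3_c40)) :=
  Lre_c IH (LK LD1_c2 LD2_c0 LD3_c51) (LK LD1_c4 LD2_c6 LD3_c40) Lrfl Lrfl
theorem f945939 : Led Lsl_gf K53.v14878 = v44545 :=
  Lgr Lrot124 (Lpe (K53.f727059 IH) (Lpr_ct (K74.f195575 IH) (Lpr_gt (K74.f881350 IH) (Lpe (K74.f881348 IH) (Lpr_bt (K74.f195574 IH) (Lpr_gt (K56.f54889 IH) (Lpr_ct (f54886 IH) (Lpr_gt (f54922 IH) (Lpr_cf (K73.f881212 IH) (Lpq (K74.f931112 IH) (Lpr_bt (f945934 IH) (Lpn v44545))))))))))))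
theorem f259452 : Led Lsl_at (LP (LK LD1_c16 LD2_c12 LD3_c39)) = (LP (LK LD1_c26 LD2_c9 LD3_c21)) :=
  Lre_a IH (LK LD1_c16 LD2_c12 LD3_c39) (LK LD1_c26 LD2_c9 LD3_c21) Lrfl Lrfl
theorem f945530 : Led Lsl_gt (LP (LK LD1_c21 LD2_c0 LD3_c49)) = (LP (LK LD1_c26 LD2_c9 LD3_c21)) :=
  Lgr Lrot46 (Lpr_gf (K74.f945528 IH) (Lpr_ft (K74.f259447 IH) (Lpr_at (f259452 IH) (Lpn (LP (LK LD1_c26 LD2_c9 LD3_c21))))))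
theorem f618803 : Led Lsl_ct (LP (LK LD1_c26 LD2_c9 LD3_c21)) = (LP (LK LD1_c16 LD2_c12 LD3_c37)) :=
  Lre_c IH (LK LD1_c26 LD2_c9 LD3_c21) (LK LD1_c16 LD2_c12 LD3_c37) Lrfl Lrfl
theorem f259444 : Led Lsl_bf (LP (LK LD1_c16 LD2_c12 LD3_c39)) = (LP (LK LD1_c19 LD2_c25 LD3_c12)) :=
  Lgr Lrot24 (Lpr_bt (K72.f259439 IH) (Lpn (LP (LK LD1_c19 LD2_c25 LD3_c12))))
theorem f259454 : Led Lsl_ft (LP (LK LD1_c16 LD2_c12 LD3_c39)) = (LP (LK LD1_c26 LD2_c9 LD3_c13)) :=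
  Lre_f IH (LK LD1_c16 LD2_c12 LD3_c39) (LK LD1_c26 LD2_c9 LD3_c13) Lrfl Lrfl
theorem f618773 : Led Lsl_bf (LP (LK LD1_c21 LD2_c0 LD3_c44)) = (LP (LK LD1_c26 LD2_c9 LD3_c13)) :=
  Lgr Lrot61 (Lpr_ft (f618769 IH) (Lpe (f259444 IH) (Lpr_ft (f259454 IH) (Lpn (LP (LK LD1_c26 LD2_c9 LD3_c13))))))
theorem f618786 : Led Lsl_ct (LP (LK LD1_c26 LD2_c9 LD3_c13)) = (LP (LK LD1_c16 LD2_c12 LD3_c32)) :=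
  Lre_c IH (LK LD1_c26 LD2_c9 LD3_c13) (LK LD1_c16 LD2_c12 LD3_c32) Lrfl Lrfl
theorem f618787 : Led Lsl_gf (LP (LK LD1_c8 LD2_c39 LD3_c22)) = (LP (LK LD1_c16 LD2_c12 LD3_c32)) :=
  Lgr Lrot126 (Lpr_cf (K11.f54304 IH) (Lpr_bt (K13.f45275 IH) (Lpr_gt (K13.f45271 IH) (Lpe (K15.f194232 IH) (Lpr_gt (K13.f216136 IH) (Lpe (K11.f183709 IH) (Lpr_bt (K12.f183723 IH) (Lpr_gt (K74.f183726 IH) (Lpr_bf (f618773 IH) (Lpr_ct (f618786 IH) (Lpn (LP (LK LD1_c16 LD2_c12 LD3_c32)))))))))))))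
theorem f618791 : Led Lsl_ft (LP (LK LD1_c16 LD2_c12 LD3_c32)) = (LP (LK LD1_c8 LD2_c39 LD3_c19)) :=
  Lre_f IH (LK LD1_c16 LD2_c12 LD3_c32) (LK LD1_c8 LD2_c39 LD3_c19) Lrfl Lrfl
theorem f618792 : Led Lsl_at (LP (LK LD1_c8 LD2_c39 LD3_c19)) = (LP (LK LD1_c16 LD2_c12 LD3_c37)) :=
  Lre_a IH (LK LD1_c8 LD2_c39 LD3_c19) (LK LD1_c16 LD2_c12 LD3_c37) Lrfl Lrfl
theorem f618793 : Led Lsl_gt (LP (LK LD1_c8 LD2_c39 LD3_c22)) = (LP (LK LD1_c16 LD2_c12 LD3_c37)) :=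
  Lgr Lrot46 (Lpr_gf (f618787 IH) (Lpr_ft (f618791 IH) (Lpr_at (f618792 IH) (Lpn (LP (LK LD1_c16 LD2_c12 LD3_c37))))))
theorem f31311 : Led Lsl_at (LP (LK LD1_c4 LD2_c20 LD3_c49)) = (LP (LK LD1_c8 LD2_c39 LD3_c20)) :=
  Lre_a IH (LK LD1_c4 LD2_c20 LD3_c49) (LK LD1_c8 LD2_c39 LD3_c20) Lrfl Lrfl
theorem f618799 : Led Lsl_gf (LP (LK LD1_c8 LD2_c39 LD3_c20)) = (LP (LK LD1_c16 LD2_c12 LD3_c37)) :=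
  Lgr Lrot76 (Lpe (f31311 IH) (Lpe (K11.f36992 IH) (Lpr_gt (f618793 IH) (Lpn (LP (LK LD1_c16 LD2_c12 LD3_c37))))))
theorem f54316 : Led Lsl_cf (LP (LK LD1_c8 LD2_c39 LD3_c20)) = (LP (LK LD1_c8 LD2_c28 LD3_c60)) :=
  Lgr Lrot1 (Lpr_at (K72.f31278 IH) (Lpr_ct (K11.f54313 IH) (Lpr_at (K31.f45686 IH) (Lpn (LP (LK LD1_c8 LD2_c28 LD3_c60))))))
theorem f945628 : Led Lsl_af (LP (LK LD1_c10 LD2_c45 LD3_c30)) = K74.v36518 :=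
  Lgr Lrot68 (Lpr_ct (K74.f337873 IH) (Lpr_at (K74.f727247 IH) (Lpr_ct (K74.f945626 IH) (Lpn K74.v36518))))
theorem f945649 : Led Lsl_ft v44410 = K74.v36518 :=
  Lgr Lrot2 (Lpe (f945126 IH) (Lpr_gt (K72.f198921 IH) (Lpr_af (f945628 IH) (Lpn K74.v36518))))
theorem f945651 : Led Lsl_ff v44410 = K74.v36518 :=
  Lgr Lrot3 (Lpr_ft (f945649 IH) (Lpn K74.v36518))
theorem f945652 : Led Lsl_bt v44410 = (LP (LK LD1_c15 LD2_c56 LD3_c30)) :=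
  Lgr Lrot35 (Lpr_ff (f945651 IH) (Lpe (K74.f887300 IH) (Lpe (K74.f887303 IH) (Lpn (LP (LK LD1_c15 LD2_c56 LD3_c30))))))
theorem f945940 : Led Lsl_ct v44410 = v44545 :=
  Lgr Lrot64 (Lpr_bt (f945652 IH) (Lpq (K74.f931015 IH) (Lpe (K74.f887309 IH) (Lpr_bf (K72.f45677 IH) (Lpe (f54316 IH) (Lpr_gf (f618799 IH) (Lpe (f618803 IH) (Lpe (f945530 IH) (Lpe (K53.f727063 IH) (Lpr_ct (K74.f727066 IH) (Lpr_gf (f945939 IH) (Lpn v44545))))))))))))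
theorem f976391 : Led Lsl_bf (LP (LK LD1_c26 LD2_c9 LD3_c21)) = (LP (LK LD1_c21 LD2_c1 LD3_c24)) :=
  Lgr Lrot34 (Lpe (f945530 IH) (Lpe (K53.f727063 IH) (Lpr_ct (K74.f727066 IH) (Lpr_gf (f945939 IH) (Lpe (f945940 IH) (Lpe (f945127 IH) (Lpr_bf (f196090 IH) (Lpr_ct (f976382 IH) (Lpe (f976376 IH) (Lpe (K39.f555178 IH) (Lpn (LP (LK LD1_c21 LD2_c1 LD3_c24)))))))))))))
theorem f976392 : Led Lsl_bt (LP (LK LD1_c21 LD2_c1 LD3_c24)) = (LP (LK LD1_c26 LD2_c9 LD3_c21)) :=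
  Leop (Lpr_bf (f976391 IH) (Lpn (LP (LK LD1_c21 LD2_c1 LD3_c24))))
theorem seed_3032 : LEOK LG_b (LK LD1_c21 LD2_c1 LD3_c24) :=
  Leoe_b (LK LD1_c21 LD2_c1 LD3_c24) (f976392 IH)
def v50494 : LQ := Led Lsl_ft (LP (LK LD1_c11 LD2_c56 LD3_c29))
theorem f976399 : Led Lsl_ft (LP (LK LD1_c11 LD2_c56 LD3_c29)) = v50494 :=
  Lrfl
theorem f976403 : Led Lsl_ff (LP (LK LD1_c11 LD2_c56 LD3_c29)) = v50494 :=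
  Lgr Lrot3 (Lpr_ft (f976399 IH) (Lpn v50494))
def v50489 : LQ := Led Lsl_bt (LP (LK LD1_c11 LD2_c56 LD3_c26))
theorem f976353 : Led Lsl_bt (LP (LK LD1_c11 LD2_c56 LD3_c26)) = v50489 :=
  Lrfl
theorem f554883 : Led Lsl_ft (LP (LK LD1_c6 LD2_c5 LD3_c16)) = (LP (LK LD1_c11 LD2_c53 LD3_c60)) :=
  Lre_f IH (LK LD1_c6 LD2_c5 LD3_c16) (LK LD1_c11 LD2_c53 LD3_c60) Lrfl Lrfl
theorem f554884 : Led Lsl_ct (LP (LK LD1_c11 LD2_c53 LD3_c60)) = (LP (LK LD1_c8 LD2_c14 LD3_c29)) :=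
  Lgr Lrot40 (Lpe (f554883 IH) (Lpe (K39.f195414 IH) (Lpr_ff (K39.f554881 IH) (Lpn (LP (LK LD1_c8 LD2_c14 LD3_c29))))))
theorem f976358 : Led Lsl_gf (LP (LK LD1_c21 LD2_c1 LD3_c17)) = v50489 :=
  Lgr Lrot124 (Lpr_bf (f618687 IH) (Lpr_ct (K74.f618689 IH) (Lpe (K74.f618735 IH) (Lpe (K10.f194973 IH) (Lpr_bt (K74.f195342 IH) (Lpe (K73.f554908 IH) (Lpr_ct (f554884 IH) (Lpr_gt (K71.f881327 IH) (Lpq (K71.f923767 IH) (Lpe (f257224 IH) (Lpr_bt (f976353 IH) (Lpn v50489))))))))))))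
theorem f976407 : Led Lsl_gf v50489 = v50494 :=
  Lgr Lrot47 (Lpe (f976358 IH) (Lpe (K74.f555593 IH) (Lpr_ff (f976403 IH) (Lpn v50494))))
theorem f751344 : Led Lsl_dt (LP (LK LD1_c21 LD2_c1 LD3_c18)) = (LP (LK LD1_c11 LD2_c56 LD3_c26)) :=
  Lre_d IH (LK LD1_c21 LD2_c1 LD3_c18) (LK LD1_c11 LD2_c56 LD3_c26) Lrfl Lrfl
theorem f618659 : Led Lsl_dt (LP (LK LD1_c11 LD2_c56 LD3_c26)) = (LP (LK LD1_c21 LD2_c1 LD3_c18)) :=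
  Lre_d IH (LK LD1_c11 LD2_c56 LD3_c26) (LK LD1_c21 LD2_c1 LD3_c18) Lrfl Lrfl
theorem f275139 : Led Lsl_bt (LP (LK LD1_c6 LD2_c5 LD3_c48)) = (LP (LK LD1_c2 LD2_c59 LD3_c0)) :=
  Lre_b IH (LK LD1_c6 LD2_c5 LD3_c48) (LK LD1_c2 LD2_c59 LD3_c0) Lrfl Lrfl
theorem f195589 : Led Lsl_ct (LP (LK LD1_c6 LD2_c5 LD3_c48)) = (LP (LK LD1_c2 LD2_c59 LD3_c2)) :=
  Lre_c IH (LK LD1_c6 LD2_c5 LD3_c48) (LK LD1_c2 LD2_c59 LD3_c2) Lrfl Lrfl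
theorem f409755 : Led Lsl_bt (LP (LK LD1_c11 LD2_c55 LD3_c14)) = (LP (LK LD1_c21 LD2_c0 LD3_c7)) :=
  Lre_b IH (LK LD1_c11 LD2_c55 LD3_c14) (LK LD1_c21 LD2_c0 LD3_c7) Lrfl Lrfl
theorem f410392 : Led Lsl_gf (LP (LK LD1_c21 LD2_c0 LD3_c7)) = (LP (LK LD1_c18 LD2_c44 LD3_c35)) :=
  Lgr Lrot124 (Lpe (f409755 IH) (Lpr_ct (f292025 IH) (Lpr_gt (K72.f179048 IH) (Lpe (f195589 IH) (Lpr_bt (f275139 IH) (Lpr_gt (K16.f184971 IH) (Lpe (f275154 IH) (Lpr_gt (K26.f275156 IH) (Lpe (K15.f212250 IH) (Lpr_bt (f212252 IH) (Lpn (LP (LK LD1_c18 LD2_c44 LD3_c35)))))))))))))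
theorem f923770 : Led Lsl_cf (LP (LK LD1_c21 LD2_c1 LD3_c18)) = (LP (LK LD1_c21 LD2_c0 LD3_c7)) :=
  Lgr Lrot99 (Lpe (f618659 IH) (Lpe (K71.f257241 IH) (Lpqs (K71.f923767 IH) (Lpe (K71.f881327 IH) (Lpe (f554884 IH) (Lpr_gf (K73.f554908 IH) (Lpe (K68.f195298 IH) (Lpr_gt (f602608 IH) (Lpe (f263520 IH) (Lpe (f410392 IH) (Lpn (LP (LK LD1_c21 LD2_c0 LD3_c7)))))))))))))
theorem f923774 : Led Lsl_ct (LP (LK LD1_c21 LD2_c1 LD3_c18)) = (LP (LK LD1_c21 LD2_c0 LD3_c7)) :=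
  Lgr Lrot59 (Lpr_cf (f923770 IH) (Lpn (LP (LK LD1_c21 LD2_c0 LD3_c7))))
theorem f923776 : Led Lsl_bt (LP (LK LD1_c21 LD2_c0 LD3_c7)) = (LP (LK LD1_c11 LD2_c55 LD3_c14)) :=
  Lre_b IH (LK LD1_c21 LD2_c0 LD3_c7) (LK LD1_c11 LD2_c55 LD3_c14) Lrfl Lrfl
theorem f923777 : Led Lsl_bf (LP (LK LD1_c21 LD2_c1 LD3_c18)) = (LP (LK LD1_c21 LD2_c0 LD3_c5)) :=
  Lgr Lrot90 (Lpr_ct (f923774 IH) (Lpr_bt (f923776 IH) (Lpr_ct (f292025 IH) (Lpr_bt (f751148 IH) (Lpr_ct (f179050 IH) (Lpn (LP (LK LD1_c21 LD2_c0 LD3_c5))))))))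
theorem f976357 : Led Lsl_df (LP (LK LD1_c21 LD2_c0 LD3_c5)) = v50489 :=
  Lgr Lrot12 (Lpe (f923777 IH) (Lpr_dt (f751344 IH) (Lpr_bt (f976353 IH) (Lpn v50489))))
theorem f976359 : Led Lsl_at (LP (LK LD1_c21 LD2_c1 LD3_c23)) = v50489 :=
  Lgr Lrot51 (Lpr_df (f974698 IH) (Lpr_af (f975461 IH) (Lpr_df (f976357 IH) (Lpn v50489))))
def v50242 : LQ := Led Lsl_bt (LP (LK LD1_c11 LD2_c53 LD3_c29))
theorem f974788 : Led Lsl_bt (LP (LK LD1_c11 LD2_c53 LD3_c29)) = v50242 :=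
  Lrfl
theorem f194402 : Led Lsl_bt (LP (LK LD1_c10 LD2_c45 LD3_c6)) = (LP (LK LD1_c19 LD2_c26 LD3_c47)) :=
  Lre_b IH (LK LD1_c10 LD2_c45 LD3_c6) (LK LD1_c19 LD2_c26 LD3_c47) Lrfl Lrfl
theorem f923407 : Led Lsl_ff (LP (LK LD1_c20 LD2_c57 LD3_c4)) = (LP (LK LD1_c19 LD2_c26 LD3_c47)) :=
  Lgr Lrot25 (Lpe (K74.f394776 IH) (Lpr_ft (K71.f923405 IH) (Lpr_bt (f194402 IH) (Lpn (LP (LK LD1_c19 LD2_c26 LD3_c47))))))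
theorem f187614 : Led Lsl_bt (LP (LK LD1_c19 LD2_c26 LD3_c47)) = (LP (LK LD1_c10 LD2_c45 LD3_c6)) :=
  Lre_b IH (LK LD1_c19 LD2_c26 LD3_c47) (LK LD1_c10 LD2_c45 LD3_c6) Lrfl Lrfl
theorem f194393 : Led Lsl_bt (LP (LK LD1_c8 LD2_c6 LD3_c49)) = (LP (LK LD1_c4 LD2_c3 LD3_c8)) :=
  Lre_b IH (LK LD1_c8 LD2_c6 LD3_c49) (LK LD1_c4 LD2_c3 LD3_c8) Lrfl Lrfl
theorem f194363 : Led Lsl_cf (LP (LK LD1_c11 LD2_c52 LD3_c20)) = (LP (LK LD1_c8 LD2_c6 LD3_c49)) :=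
  Lgr Lrot97 (Lpr_bt (K39.f190117 IH) (Lpr_ct (K17.f190116 IH) (Lpr_bt (K10.f194355 IH) (Lpr_ct (K10.f51369 IH) (Lpr_bt (K39.f194362 IH) (Lpn (LP (LK LD1_c8 LD2_c6 LD3_c49))))))))
theorem f194394 : Led Lsl_gt (LP (LK LD1_c20 LD2_c55 LD3_c7)) = (LP (LK LD1_c11 LD2_c52 LD3_c20)) :=
  Lre_g IH (LK LD1_c20 LD2_c55 LD3_c7) (LK LD1_c11 LD2_c52 LD3_c20) Lrfl Lrfl
theorem f194395 : Led Lsl_ct (LP (LK LD1_c19 LD2_c26 LD3_c47)) = (LP (LK LD1_c20 LD2_c55 LD3_c7)) :=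
  Lgr Lrot64 (Lpr_bt (f187614 IH) (Lpe (K45.f187593 IH) (Lpr_bf (K45.f187577 IH) (Lpr_ct (K15.f178249 IH) (Lpr_gf (K10.f189144 IH) (Lpe (K0.f27603 IH) (Lpr_gf (K10.f194383 IH) (Lpe (f194393 IH) (Lpe (f194363 IH) (Lpe (f194394 IH) (Lpn (LP (LK LD1_c20 LD2_c55 LD3_c7)))))))))))))
theorem f194403 : Led Lsl_cf (LP (LK LD1_c19 LD2_c26 LD3_c47)) = (LP (LK LD1_c20 LD2_c55 LD3_c7)) :=
  Lgr Lrot11 (Lpr_ct (f194395 IH) (Lpn (LP (LK LD1_c20 LD2_c55 LD3_c7))))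
theorem f923603 : Led Lsl_ft (LP (LK LD1_c11 LD2_c53 LD3_c30)) = (LP (LK LD1_c20 LD2_c55 LD3_c7)) :=
  Lgr Lrot4 (Lpe (K74.f394755 IH) (Lpr_ff (f923407 IH) (Lpr_cf (f194403 IH) (Lpn (LP (LK LD1_c20 LD2_c55 LD3_c7))))))
theorem f42156 : Led Lsl_gt (LP (LK LD1_c6 LD2_c5 LD3_c3)) = (LP (LK LD1_c11 LD2_c53 LD3_c29)) :=
  Lre_g IH (LK LD1_c6 LD2_c5 LD3_c3) (LK LD1_c11 LD2_c53 LD3_c29) Lrfl Lrfl
theorem f923607 : Led Lsl_af (LP (LK LD1_c11 LD2_c53 LD3_c29)) = (LP (LK LD1_c20 LD2_c55 LD3_c7)) :=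
  Lgr Lrot31 (Lpe (f42156 IH) (Lpe (K74.f394754 IH) (Lpr_ft (f923603 IH) (Lpn (LP (LK LD1_c20 LD2_c55 LD3_c7))))))
theorem f923609 : Led Lsl_at (LP (LK LD1_c11 LD2_c53 LD3_c29)) = (LP (LK LD1_c20 LD2_c55 LD3_c7)) :=
  Lgr Lrot100 (Lpr_af (f923607 IH) (Lpn (LP (LK LD1_c20 LD2_c55 LD3_c7))))
theorem f283431 : Led Lsl_bt (LP (LK LD1_c11 LD2_c53 LD3_c32)) = (LP (LK LD1_c6 LD2_c5 LD3_c4)) :=
  Lre_b IH (LK LD1_c11 LD2_c53 LD3_c32) (LK LD1_c6 LD2_c5 LD3_c4) Lrfl Lrfl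
theorem f555308 : Led Lsl_ff (LP (LK LD1_c11 LD2_c53 LD3_c32)) = (LP (LK LD1_c11 LD2_c53 LD3_c31)) :=
  Lgr Lrot25 (Lpr_bt (f283431 IH) (Lpr_ft (K39.f555242 IH) (Lpr_bt (K25.f311118 IH) (Lpn (LP (LK LD1_c11 LD2_c53 LD3_c31))))))
theorem f555542 : Led Lsl_gf (LP (LK LD1_c20 LD2_c55 LD3_c7)) = (LP (LK LD1_c11 LD2_c53 LD3_c31)) :=
  Lgr Lrot47 (Lpr_gt (f194394 IH) (Lpr_af (K65.f555530 IH) (Lpr_ff (f555308 IH) (Lpn (LP (LK LD1_c11 LD2_c53 LD3_c31))))))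
theorem f334323 : Led Lsl_gf (LP (LK LD1_c11 LD2_c53 LD3_c19)) = (LP (LK LD1_c20 LD2_c55 LD3_c12)) :=
  Lgr Lrot47 (Lpr_gt (K20.f292675 IH) (Lpr_af (K22.f334318 IH) (Lpe (K22.f334320 IH) (Lpn (LP (LK LD1_c20 LD2_c55 LD3_c12))))))
theorem f357638 : Led Lsl_ef (LP (LK LD1_c20 LD2_c55 LD3_c12)) = (LP (LK LD1_c11 LD2_c53 LD3_c38)) :=
  Lgr Lrot114 (Lpe (f334323 IH) (Lpe (K20.f292683 IH) (Lpe (K20.f292684 IH) (Lpe (K23.f321589 IH) (Lpe (K22.f182302 IH) (Lpe (K22.f284190 IH) (Lpr_gt (K25.f350632 IH) (Lpr_dt (K26.f357625 IH) (Lpe (K26.f357632 IH) (Lpe (K25.f42427 IH) (Lpn (LP (LK LD1_c11 LD2_c53 LD3_c38)))))))))))))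
theorem f311088 : Led Lsl_bt (LP (LK LD1_c20 LD2_c57 LD3_c10)) = (LP (LK LD1_c11 LD2_c53 LD3_c38)) :=
  Lre_b IH (LK LD1_c20 LD2_c57 LD3_c10) (LK LD1_c11 LD2_c53 LD3_c38) Lrfl Lrfl
theorem f357640 : Led Lsl_et (LP (LK LD1_c29 LD2_c44 LD3_c3)) = (LP (LK LD1_c20 LD2_c57 LD3_c10)) :=
  Lgr Lrot74 (Lpe (K65.f309065 IH) (Lpr_ef (f357638 IH) (Lpe (f311088 IH) (Lpn (LP (LK LD1_c20 LD2_c57 LD3_c10))))))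
theorem f310648 : Led Lsl_et (LP (LK LD1_c11 LD2_c52 LD3_c20)) = (LP (LK LD1_c20 LD2_c55 LD3_c8)) :=
  Lre_e IH (LK LD1_c11 LD2_c52 LD3_c20) (LK LD1_c20 LD2_c55 LD3_c8) Lrfl Lrfl
theorem f357645 : Led Lsl_ft (LP (LK LD1_c20 LD2_c57 LD3_c10)) = (LP (LK LD1_c11 LD2_c53 LD3_c33)) :=
  Lre_f IH (LK LD1_c20 LD2_c57 LD3_c10) (LK LD1_c11 LD2_c53 LD3_c33) Lrfl Lrfl
theorem f357647 : Led Lsl_ff (LP (LK LD1_c11 LD2_c52 LD3_c20)) = (LP (LK LD1_c6 LD2_c5 LD3_c3)) :=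
  Lgr Lrot72 (Lpr_et (f310648 IH) (Lpr_ft (K65.f310636 IH) (Lpr_et (f357640 IH) (Lpr_ft (f357645 IH) (Lpr_et (K74.f357646 IH) (Lpn (LP (LK LD1_c6 LD2_c5 LD3_c3))))))))
theorem f357650 : Led Lsl_ft (LP (LK LD1_c11 LD2_c52 LD3_c20)) = (LP (LK LD1_c6 LD2_c5 LD3_c3)) :=
  Lgr Lrot48 (Lpr_ff (f357647 IH) (Lpn (LP (LK LD1_c6 LD2_c5 LD3_c3))))
theorem f311124 : Led Lsl_at (LP (LK LD1_c6 LD2_c5 LD3_c3)) = (LP (LK LD1_c11 LD2_c53 LD3_c31)) :=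
  Lre_a IH (LK LD1_c6 LD2_c5 LD3_c3) (LK LD1_c11 LD2_c53 LD3_c31) Lrfl Lrfl
theorem f357655 : Led Lsl_gt (LP (LK LD1_c20 LD2_c55 LD3_c6)) = (LP (LK LD1_c11 LD2_c53 LD3_c31)) :=
  Lgr Lrot46 (Lpe (f252776 IH) (Lpr_ft (f357650 IH) (Lpr_at (f311124 IH) (Lpn (LP (LK LD1_c11 LD2_c53 LD3_c31))))))
theorem f923615 : Led Lsl_ff (LP (LK LD1_c11 LD2_c53 LD3_c29)) = (LP (LK LD1_c20 LD2_c55 LD3_c6)) :=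
  Lgr Lrot52 (Lpr_at (f923609 IH) (Lpr_gf (f555542 IH) (Lpe (f357655 IH) (Lpn (LP (LK LD1_c20 LD2_c55 LD3_c6))))))
theorem f974790 : Led Lsl_ff (LP (LK LD1_c21 LD2_c1 LD3_c23)) = v50242 :=
  Lgr Lrot25 (Lpr_bt (f618662 IH) (Lpe (f923615 IH) (Lpr_bt (f974788 IH) (Lpn v50242))))
theorem f976408 : Led Lsl_gt v50242 = v50494 :=
  Lgr Lrot5 (Lpe (f974790 IH) (Lpr_at (f976359 IH) (Lpr_gf (f976407 IH) (Lpn v50494))))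
theorem f394775 : Led Lsl_ct (LP (LK LD1_c11 LD2_c53 LD3_c29)) = (LP (LK LD1_c20 LD2_c57 LD3_c3)) :=
  Lre_c IH (LK LD1_c11 LD2_c53 LD3_c29) (LK LD1_c20 LD2_c57 LD3_c3) Lrfl Lrfl
theorem f976405 : Led Lsl_bt v50237 = v50494 :=
  Lgr Lrot35 (Lpe (f974742 IH) (Lpr_bf (K39.f555184 IH) (Lpr_ff (f976403 IH) (Lpn v50494))))
theorem f974739 : Led Lsl_cf (LP (LK LD1_c16 LD2_c12 LD3_c33)) = v50237 :=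
  Lgr Lrot11 (Lpr_ct (f974738 IH) (Lpn v50237))
theorem f409032 : Led Lsl_bt (LP (LK LD1_c19 LD2_c25 LD3_c17)) = (LP (LK LD1_c10 LD2_c43 LD3_c59)) :=
  Lre_b IH (LK LD1_c19 LD2_c25 LD3_c17) (LK LD1_c10 LD2_c43 LD3_c59) Lrfl Lrfl
theorem f751460 : Led Lsl_cf (LP (LK LD1_c19 LD2_c25 LD3_c17)) = (LP (LK LD1_c21 LD2_c1 LD3_c8)) :=
  Lgr Lrot97 (Lpr_bt (f409032 IH) (Lpr_ct (K74.f751459 IH) (Lpe (K56.f751453 IH) (Lpr_ct (K74.f177546 IH) (Lpr_bt (K68.f396453 IH) (Lpn (LP (LK LD1_c21 LD2_c1 LD3_c8))))))))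
theorem f37003 : Led Lsl_ct (LP (LK LD1_c8 LD2_c39 LD3_c18)) = (LP (LK LD1_c16 LD2_c12 LD3_c34)) :=
  Lre_c IH (LK LD1_c8 LD2_c39 LD3_c18) (LK LD1_c16 LD2_c12 LD3_c34) Lrfl Lrfl
theorem f891467 : Led Lsl_bt (LP (LK LD1_c8 LD2_c39 LD3_c18)) = (LP (LK LD1_c16 LD2_c12 LD3_c33)) :=
  Lre_b IH (LK LD1_c8 LD2_c39 LD3_c18) (LK LD1_c16 LD2_c12 LD3_c33) Lrfl Lrfl
theorem f945638 : Led Lsl_gf (LP (LK LD1_c25 LD2_c49 LD3_c31)) = (LP (LK LD1_c16 LD2_c12 LD3_c33)) :=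
  Lgr Lrot181 (Lpe (K39.f554986 IH) (Lpr_gt (K39.f554995 IH) (Lpe (K39.f33080 IH) (Lpr_bt (K68.f554999 IH) (Lpr_gt (K68.f891210 IH) (Lpe (K56.f751454 IH) (Lpe (f751460 IH) (Lpr_gt (K74.f945633 IH) (Lpe (f37003 IH) (Lpr_bt (f891467 IH) (Lpn (LP (LK LD1_c16 LD2_c12 LD3_c33)))))))))))))
theorem f291111 : Led Lsl_bt (LP (LK LD1_c15 LD2_c53 LD3_c30)) = (LP (LK LD1_c25 LD2_c49 LD3_c31)) :=
  Lre_b IH (LK LD1_c15 LD2_c53 LD3_c30) (LK LD1_c25 LD2_c49 LD3_c31) Lrfl Lrfl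
theorem f50330 : Led Lsl_bt (LP (LK LD1_c15 LD2_c16 LD3_c36)) = (LP (LK LD1_c25 LD2_c6 LD3_c35)) :=
  Lre_b IH (LK LD1_c15 LD2_c16 LD3_c36) (LK LD1_c25 LD2_c6 LD3_c35) Lrfl Lrfl
theorem f554989 : Led Lsl_bt (LP (LK LD1_c20 LD2_c57 LD3_c48)) = (LP (LK LD1_c25 LD2_c6 LD3_c36)) :=
  Lgr Lrot128 (Lpr_cf (K39.f554986 IH) (Lpe (f291111 IH) (Lpe (K39.f291108 IH) (Lpe (f50330 IH) (Lpe (K39.f291110 IH) (Lpn (LP (LK LD1_c25 LD2_c6 LD3_c36))))))))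
theorem f50328 : Led Lsl_gt (LP (LK LD1_c25 LD2_c6 LD3_c36)) = (LP (LK LD1_c25 LD2_c7 LD3_c25)) :=
  Lre_g IH (LK LD1_c25 LD2_c6 LD3_c36) (LK LD1_c25 LD2_c7 LD3_c25) Lrfl Lrfl
theorem f191474 : Led Lsl_ct (LP (LK LD1_c25 LD2_c7 LD3_c25)) = (LP (LK LD1_c15 LD2_c17 LD3_c15)) :=
  Lre_c IH (LK LD1_c25 LD2_c7 LD3_c25) (LK LD1_c15 LD2_c17 LD3_c15) Lrfl Lrfl
theorem f976409 : Led Lsl_gf (LP (LK LD1_c20 LD2_c57 LD3_c3)) = (LP (LK LD1_c15 LD2_c17 LD3_c15)) :=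
  Lgr Lrot129 (Lpe (f394775 IH) (Lpr_bt (f974788 IH) (Lpr_gt (f976408 IH) (Lpe (f976405 IH) (Lpe (f974739 IH) (Lpe (f945638 IH) (Lpe (K39.f554991 IH) (Lpr_bt (f554989 IH) (Lpr_gt (f50328 IH) (Lpr_ct (f191474 IH) (Lpn (LP (LK LD1_c15 LD2_c17 LD3_c15)))))))))))))
theorem f976410 : Led Lsl_gt (LP (LK LD1_c15 LD2_c17 LD3_c15)) = (LP (LK LD1_c20 LD2_c57 LD3_c3)) :=
  Leop (Lpr_gf (f976409 IH) (Lpn (LP (LK LD1_c15 LD2_c17 LD3_c15))))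
theorem seed_3033 : LEOK LG_g (LK LD1_c15 LD2_c17 LD3_c15) :=
  Leoe_g (LK LD1_c15 LD2_c17 LD3_c15) (f976410 IH)
def v50505 : LQ := Led Lsl_at (LP (LK LD1_c11 LD2_c56 LD3_c35))
theorem f976464 : Led Lsl_at (LP (LK LD1_c11 LD2_c56 LD3_c35)) = v50505 :=
  Lrfl
theorem f183475 : Led Lsl_ct (LP (LK LD1_c6 LD2_c6 LD3_c46)) = (LP (LK LD1_c11 LD2_c56 LD3_c35)) :=
  Lre_c IH (LK LD1_c6 LD2_c6 LD3_c46) (LK LD1_c11 LD2_c56 LD3_c35) Lrfl Lrfl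
def v16779 : LQ := Led Lsl_at (LP (LK LD1_c6 LD2_c6 LD3_c46))
theorem f751542 : Led Lsl_at (LP (LK LD1_c6 LD2_c6 LD3_c46)) = v16779 :=
  Lrfl
theorem f751543 : Led Lsl_af (LP (LK LD1_c6 LD2_c6 LD3_c46)) = v16779 :=
  Lgr Lrot0 (Lpr_at (f751542 IH) (Lpn v16779))
theorem f976466 : Led Lsl_cf v16779 = v50505 :=
  Lgr Lrot1 (Lpe (f751543 IH) (Lpr_ct (f183475 IH) (Lpr_at (f976464 IH) (Lpn v50505))))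
theorem f183468 : Led Lsl_gt (LP (LK LD1_c2 LD2_c59 LD3_c30)) = (LP (LK LD1_c6 LD2_c6 LD3_c46)) :=
  Lre_g IH (LK LD1_c2 LD2_c59 LD3_c30) (LK LD1_c6 LD2_c6 LD3_c46) Lrfl Lrfl
theorem f751544 : Led Lsl_ft (LP (LK LD1_c6 LD2_c6 LD3_c47)) = v16779 :=
  Lgr Lrot2 (Lpr_gt (f183479 IH) (Lpr_gt (f183468 IH) (Lpr_af (f751543 IH) (Lpn v16779))))
theorem f751545 : Led Lsl_ff (LP (LK LD1_c6 LD2_c6 LD3_c47)) = v16779 :=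
  Lgr Lrot3 (Lpr_ft (f751544 IH) (Lpn v16779))
theorem f976468 : Led Lsl_ft (LP (LK LD1_c11 LD2_c56 LD3_c36)) = v50505 :=
  Lgr Lrot4 (Lpe (K73.f412206 IH) (Lpr_ff (f751545 IH) (Lpr_cf (f976466 IH) (Lpn v50505))))
theorem f976465 : Led Lsl_af (LP (LK LD1_c11 LD2_c56 LD3_c35)) = v50505 :=
  Lgr Lrot0 (Lpr_at (f976464 IH) (Lpn v50505))
def v50504 : LQ := Led Lsl_gf (LP (LK LD1_c11 LD2_c56 LD3_c35))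
theorem f976463 : Led Lsl_gf (LP (LK LD1_c11 LD2_c56 LD3_c35)) = v50504 :=
  Lrfl
theorem f976470 : (LP (LK LD1_c18 LD2_c50 LD3_c38)) = v50504 :=
  (Llr Lrot5 (Lpe (K73.f618637 IH) (Lpr_ft (f976468 IH) (Lpe (f976465 IH) (Lpr_gf (f976463 IH) (Lpn v50504)))))).symm
theorem f976471 : Led Lsl_gt (LP (LK LD1_c18 LD2_c50 LD3_c38)) = (LP (LK LD1_c11 LD2_c56 LD3_c35)) :=
  Leop (Lpr_gf (f976463 IH) (Lpq (f976470 IH) (Lpn (LP (LK LD1_c18 LD2_c50 LD3_c38)))))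
theorem seed_3034 : LEOK LG_g (LK LD1_c18 LD2_c50 LD3_c38) :=
  Leoe_g (LK LD1_c18 LD2_c50 LD3_c38) (f976471 IH)
def v50565 : LQ := Led Lsl_gt (LP (LK LD1_c11 LD2_c57 LD3_c6))
theorem f976711 : Led Lsl_gt (LP (LK LD1_c11 LD2_c57 LD3_c6)) = v50565 :=
  Lrfl
theorem f409336 : Led Lsl_bt (LP (LK LD1_c6 LD2_c7 LD3_c4)) = (LP (LK LD1_c11 LD2_c57 LD3_c6)) :=
  Lre_b IH (LK LD1_c6 LD2_c7 LD3_c4) (LK LD1_c11 LD2_c57 LD3_c6) Lrfl Lrfl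
def v50559 : LQ := Led Lsl_gt (LP (LK LD1_c11 LD2_c57 LD3_c4))
theorem f976691 : Led Lsl_gt (LP (LK LD1_c11 LD2_c57 LD3_c4)) = v50559 :=
  Lrfl
theorem f976692 : Led Lsl_gf (LP (LK LD1_c11 LD2_c57 LD3_c7)) = v50559 :=
  Lgr Lrot76 (Lpr_af (K72.f923838 IH) (Lpe (K72.f923832 IH) (Lpr_gt (f976691 IH) (Lpn v50559))))
def v48874 : LQ := Led Lsl_gf (LP (LK LD1_c11 LD2_c36 LD3_c7))
theorem f967826 : Led Lsl_gf (LP (LK LD1_c11 LD2_c36 LD3_c7)) = v48874 :=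
  Lrfl
theorem f927944 : Led Lsl_ff (LP (LK LD1_c18 LD2_c43 LD3_c27)) = K73.v41698 :=
  Lgr Lrot23 (Lpr_ct (K45.f164012 IH) (Lpe (K73.f603527 IH) (Lpr_ct (K73.f927941 IH) (Lpn K73.v41698))))
theorem f967827 : Led Lsl_gt K73.v41698 = v48874 :=
  Lgr Lrot5 (Lpe (f927944 IH) (Lpe (K45.f586503 IH) (Lpr_gf (f967826 IH) (Lpn v48874))))
theorem f967830 : Led Lsl_df K71.v41213 = v48874 :=
  Lgr Lrot155 (Lpr_gt (K71.f922614 IH) (Lpr_ct (K71.f165438 IH) (Lpr_gt (K71.f21882 IH) (Lpr_ct (K44.f21881 IH) (Lpr_dt (K0.f21455 IH) (Lpe (K45.f164008 IH) (Lpe (K10.f164059 IH) (Lpe (K10.f169750 IH) (Lpr_gf (f967826 IH) (Lpn v48874))))))))))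
theorem f724644 : Led Lsl_ft (LP (LK LD1_c9 LD2_c59 LD3_c36)) = (LP (LK LD1_c5 LD2_c4 LD3_c29)) :=
  Lre_f IH (LK LD1_c9 LD2_c59 LD3_c36) (LK LD1_c5 LD2_c4 LD3_c29) Lrfl Lrfl
theorem f922594 : Led Lsl_gf (LP (LK LD1_c18 LD2_c6 LD3_c24)) = (LP (LK LD1_c9 LD2_c59 LD3_c36)) :=
  Lgr Lrot47 (Lpr_gt (K71.f922592 IH) (Lpe (K71.f721647 IH) (Lpe (f724644 IH) (Lpn (LP (LK LD1_c9 LD2_c59 LD3_c36))))))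
theorem f721573 : Led Lsl_ct (LP (LK LD1_c5 LD2_c4 LD3_c22)) = (LP (LK LD1_c9 LD2_c59 LD3_c36)) :=
  Lre_c IH (LK LD1_c5 LD2_c4 LD3_c22) (LK LD1_c9 LD2_c59 LD3_c36) Lrfl Lrfl
def v42924 : LQ := Led Lsl_gf (LP (LK LD1_c10 LD2_c18 LD3_c55))
theorem f936969 : Led Lsl_gf (LP (LK LD1_c10 LD2_c18 LD3_c55)) = v42924 :=
  Lrfl
theorem f603485 : Led Lsl_ct (LP (LK LD1_c28 LD2_c6 LD3_c31)) = (LP (LK LD1_c19 LD2_c26 LD3_c50)) :=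
  Lgr Lrot59 (Lpr_cf (K71.f603483 IH) (Lpn (LP (LK LD1_c19 LD2_c26 LD3_c50))))
theorem f412949 : Led Lsl_dt (LP (LK LD1_c18 LD2_c31 LD3_c61)) = (LP (LK LD1_c28 LD2_c6 LD3_c31)) :=
  Lre_d IH (LK LD1_c18 LD2_c31 LD3_c61) (LK LD1_c28 LD2_c6 LD3_c31) Lrfl Lrfl
theorem f726908 : Led Lsl_df (LP (LK LD1_c10 LD2_c18 LD3_c58)) = K53.v14845 :=
  Lgr Lrot177 (Lpr_ct (K53.f164052 IH) (Lpr_af (K71.f724001 IH) (Lpe (K71.f724000 IH) (Lpr_dt (K71.f412936 IH) (Lpr_ct (K71.f403050 IH) (Lpr_dt (f412949 IH) (Lpr_ct (f603485 IH) (Lpr_dt (K71.f396429 IH) (Lpr_ct (K53.f726907 IH) (Lpn K53.v14845))))))))))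
theorem f923457 : Led Lsl_ff (LP (LK LD1_c10 LD2_c0 LD3_c13)) = (LP (LK LD1_c10 LD2_c18 LD3_c58)) :=
  Lgr Lrot19 (Lpe (K71.f923278 IH) (Lpr_ft (K71.f923424 IH) (Lpe (f726908 IH) (Lpn (LP (LK LD1_c10 LD2_c18 LD3_c58))))))
theorem f923548 : Led Lsl_af (LP (LK LD1_c10 LD2_c18 LD3_c55)) = (LP (LK LD1_c10 LD2_c0 LD3_c13)) :=
  Lgr Lrot45 (Lpr_ft (K71.f923546 IH) (Lpe (K71.f923544 IH) (Lpe (f923457 IH) (Lpn (LP (LK LD1_c10 LD2_c0 LD3_c13))))))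
theorem f936970 : Led Lsl_gt (LP (LK LD1_c10 LD2_c18 LD3_c58)) = v42924 :=
  Lgr Lrot5 (Lpe (f923457 IH) (Lpe (f923548 IH) (Lpr_gf (f936969 IH) (Lpn v42924))))
theorem f967833 : Led Lsl_ct v42924 = v48874 :=
  Lgr Lrot110 (Lpe (f936970 IH) (Lpe (K53.f164053 IH) (Lpe (K45.f164064 IH) (Lpe (K72.f21601 IH) (Lpqs (K72.f724348 IH) (Lpe (K72.f721593 IH) (Lpr_ct (f721573 IH) (Lpe (f922594 IH) (Lpr_ct (K71.f922586 IH) (Lpr_df (f967830 IH) (Lpn v48874)))))))))))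
theorem f967835 : Led Lsl_cf v42924 = v48874 :=
  Lgr Lrot11 (Lpr_ct (f967833 IH) (Lpn v48874))
def v44316 : LQ := Led Lsl_gt (LP (LK LD1_c10 LD2_c43 LD3_c16))
theorem f944727 : Led Lsl_gt (LP (LK LD1_c10 LD2_c43 LD3_c16)) = v44316 :=
  Lrfl
theorem f226097 : Led Lsl_dt (LP (LK LD1_c8 LD2_c14 LD3_c13)) = (LP (LK LD1_c15 LD2_c29 LD3_c51)) :=
  Lre_d IH (LK LD1_c8 LD2_c14 LD3_c13) (LK LD1_c15 LD2_c29 LD3_c51) Lrfl Lrfl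
theorem f402941 : Led Lsl_dt (LP (LK LD1_c19 LD2_c26 LD3_c48)) = (LP (LK LD1_c10 LD2_c45 LD3_c6)) :=
  Lre_d IH (LK LD1_c19 LD2_c26 LD3_c48) (LK LD1_c10 LD2_c45 LD3_c6) Lrfl Lrfl
theorem f936981 : Led Lsl_ct (LP (LK LD1_c10 LD2_c45 LD3_c6)) = K73.v42925 :=
  Lgr Lrot151 (Lpe (K45.f187593 IH) (Lpe (K39.f187516 IH) (Lpe (K39.f187580 IH) (Lpr_dt (K71.f603458 IH) (Lpr_gt (K44.f163941 IH) (Lpr_ct (K10.f163939 IH) (Lpr_gt (K45.f163981 IH) (Lpr_ct (K71.f163987 IH) (Lpr_dt (K73.f936975 IH) (Lpn K73.v42925))))))))))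
theorem f944728 : Led Lsl_df v42924 = v44316 :=
  Lgr Lrot153 (Lpe (f936969 IH) (Lpr_dt (K73.f936975 IH) (Lpe (f936981 IH) (Lpe (f402941 IH) (Lpe (K72.f586533 IH) (Lpe (f226097 IH) (Lpe (K56.f226079 IH) (Lpr_cf (K56.f226081 IH) (Lpr_gt (f944727 IH) (Lpn v44316))))))))))
theorem f944729 : Led Lsl_dt v42924 = v44316 :=
  Lgr Lrot42 (Lpr_df (f944728 IH) (Lpn v44316))
theorem f976693 : Led Lsl_cf v44316 = v50559 :=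
  Lgr Lrot99 (Lpe (f944729 IH) (Lpr_cf (f967835 IH) (Lpe (f967827 IH) (Lpe (K73.f927941 IH) (Lpe (K71.f163998 IH) (Lpr_df (K45.f584999 IH) (Lpr_gt (K56.f169004 IH) (Lpr_ct (K72.f178454 IH) (Lpr_gt (f976691 IH) (Lpn v50559))))))))))
theorem f976694 : Led Lsl_ct v44316 = v50559 :=
  Lgr Lrot59 (Lpr_cf (f976693 IH) (Lpn v50559))
def v4619 : LQ := Led Lsl_bt (LP (LK LD1_c2 LD2_c39 LD3_c23))
theorem f638182 : Led Lsl_bt (LP (LK LD1_c2 LD2_c39 LD3_c23)) = v4619 :=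
  Lrfl
def v24205 : LQ := Led Lsl_gf v4619
theorem f822942 : Led Lsl_gf v4619 = v24205 :=
  Lrfl
theorem f976695 : Led Lsl_bt v44316 = v24205 :=
  Lgr Lrot22 (Lpr_ct (f976694 IH) (Lpe (f976691 IH) (Lpe (K72.f178454 IH) (Lpe (K56.f169004 IH) (Lpe (K45.f169003 IH) (Lpr_ct (K9.f169000 IH) (Lpe (K11.f178301 IH) (Lpe (K73.f183029 IH) (Lpr_bt (f638182 IH) (Lpr_gf (f822942 IH) (Lpn v24205)))))))))))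
def v24206 : LQ := Led Lsl_at v4619
theorem f822943 : Led Lsl_at v4619 = v24206 :=
  Lrfl
def v4561 : LQ := Led Lsl_bt (LP (LK LD1_c2 LD2_c29 LD3_c11))
theorem f636142 : Led Lsl_bt (LP (LK LD1_c2 LD2_c29 LD3_c11)) = v4561 :=
  Lrfl
theorem f636143 : Led Lsl_bf (LP (LK LD1_c2 LD2_c29 LD3_c11)) = v4561 :=
  Lgr Lrot24 (Lpr_bt (f636142 IH) (Lpn v4561))
theorem f638184 : Led Lsl_ff v4561 = v4619 :=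
  Lgr Lrot25 (Lpe (f636143 IH) (Lpr_ft (K73.f291636 IH) (Lpr_bt (f638182 IH) (Lpn v4619))))
theorem f638185 : Led Lsl_ft v4561 = v4619 :=
  Lgr Lrot48 (Lpr_ff (f638184 IH) (Lpn v4619))
def v24115 : LQ := Led Lsl_at v4561
theorem f822476 : Led Lsl_at v4561 = v24115 :=
  Lrfl
theorem f822477 : Led Lsl_af v4561 = v24115 :=
  Lgr Lrot0 (Lpr_at (f822476 IH) (Lpn v24115))
theorem f822946 : Led Lsl_ff v24115 = v24206 :=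
  Lgr Lrot30 (Lpe (f822477 IH) (Lpr_ft (f638185 IH) (Lpr_at (f822943 IH) (Lpn v24206))))
theorem f822949 : Led Lsl_ft v24115 = v24206 :=
  Lgr Lrot48 (Lpr_ff (f822946 IH) (Lpn v24206))
theorem f822944 : Led Lsl_af v4619 = v24206 :=
  Lgr Lrot0 (Lpr_at (f822943 IH) (Lpn v24206))
theorem f822951 : Led Lsl_gt v24115 = v24205 :=
  Lgr Lrot5 (Lpr_ft (f822949 IH) (Lpe (f822944 IH) (Lpr_gf (f822942 IH) (Lpn v24205))))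
theorem f822478 : Led Lsl_bf v14447 = v24115 :=
  Lgr Lrot81 (Lpe (f722581 IH) (Lpr_bt (f182496 IH) (Lpe (K17.f291605 IH) (Lpr_bt (f636142 IH) (Lpr_at (f822476 IH) (Lpn v24115))))))
theorem f822479 : Led Lsl_bt v14447 = v24115 :=
  Lgr Lrot127 (Lpr_bf (f822478 IH) (Lpn v24115))
def v42375 : LQ := Led Lsl_at (LP (LK LD1_c10 LD2_c11 LD3_c13))
theorem f933713 : Led Lsl_at (LP (LK LD1_c10 LD2_c11 LD3_c13)) = v42375 :=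
  Lrfl
theorem f933715 : Led Lsl_cf v14447 = v42375 :=
  Lgr Lrot1 (Lpe (f722581 IH) (Lpr_ct (f182499 IH) (Lpr_at (f933713 IH) (Lpn v42375))))
theorem f933716 : Led Lsl_ct v14447 = v42375 :=
  Lgr Lrot59 (Lpr_cf (f933715 IH) (Lpn v42375))
theorem f975116 : Led Lsl_gf v42375 = v50300 :=
  Lgr Lrot76 (Lpe (f933713 IH) (Lpe (K17.f291595 IH) (Lpr_gt (f975115 IH) (Lpn v50300))))
theorem f976712 : Led Lsl_cf v50300 = v50565 :=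
  Lgr Lrot125 (Lpe (f975116 IH) (Lpe (f933716 IH) (Lpr_bt (f822479 IH) (Lpr_gt (f822951 IH) (Lpe (f976695 IH) (Lpr_ct (f976694 IH) (Lpe (f976692 IH) (Lpe (K71.f338931 IH) (Lpr_bt (f409336 IH) (Lpr_gt (f976711 IH) (Lpn v50565)))))))))))
theorem f976713 : Led Lsl_at v44311 = v50565 :=
  Lgr Lrot107 (Lpe (f944692 IH) (Lpr_af (f975131 IH) (Lpr_cf (f976712 IH) (Lpn v50565))))
theorem f944690 : Led Lsl_ft (LP (LK LD1_c18 LD2_c41 LD3_c59)) = v44311 :=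
  Lgr Lrot48 (Lpr_ff (f944688 IH) (Lpn v44311))
theorem f976718 : Led Lsl_gt (LP (LK LD1_c18 LD2_c41 LD3_c59)) = (LP (LK LD1_c11 LD2_c57 LD3_c6)) :=
  Lgr Lrot5 (Lpr_ft (f944690 IH) (Lpr_at (f976713 IH) (Lpe (f976711 IH) (Lpn (LP (LK LD1_c11 LD2_c57 LD3_c6))))))
theorem f976719 : Led Lsl_gt (LP (LK LD1_c18 LD2_c41 LD3_c59)) = (LP (LK LD1_c11 LD2_c57 LD3_c6)) :=
  Leop (Lpe (f976718 IH) (Lpn (LP (LK LD1_c18 LD2_c41 LD3_c59))))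
theorem seed_3035 : LEOK LG_g (LK LD1_c18 LD2_c41 LD3_c59) :=
  Leoe_g (LK LD1_c18 LD2_c41 LD3_c59) (f976719 IH)
def v50580 : LQ := Led Lsl_at (LP (LK LD1_c11 LD2_c57 LD3_c22))
theorem f976787 : Led Lsl_at (LP (LK LD1_c11 LD2_c57 LD3_c22)) = v50580 :=
  Lrfl
theorem f177531 : Led Lsl_ct (LP (LK LD1_c6 LD2_c7 LD3_c17)) = (LP (LK LD1_c11 LD2_c57 LD3_c22)) :=
  Lre_c IH (LK LD1_c6 LD2_c7 LD3_c17) (LK LD1_c11 LD2_c57 LD3_c22) Lrfl Lrfl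
def v16817 : LQ := Led Lsl_at (LP (LK LD1_c6 LD2_c7 LD3_c17))
theorem f751843 : Led Lsl_at (LP (LK LD1_c6 LD2_c7 LD3_c17)) = v16817 :=
  Lrfl
theorem f751844 : Led Lsl_af (LP (LK LD1_c6 LD2_c7 LD3_c17)) = v16817 :=
  Lgr Lrot0 (Lpr_at (f751843 IH) (Lpn v16817))
theorem f976789 : Led Lsl_cf v16817 = v50580 :=
  Lgr Lrot1 (Lpe (f751844 IH) (Lpr_ct (f177531 IH) (Lpr_at (f976787 IH) (Lpn v50580))))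
def v5153 : LQ := Led Lsl_gf (LP (LK LD1_c2 LD2_c59 LD3_c48))
theorem f646246 : Led Lsl_gf (LP (LK LD1_c2 LD2_c59 LD3_c48)) = v5153 :=
  Lrfl
theorem f751846 : Led Lsl_ft v5153 = v16817 :=
  Lgr Lrot2 (Lpe (f646246 IH) (Lpr_gt (K56.f177459 IH) (Lpr_af (f751844 IH) (Lpn v16817))))
theorem f751848 : Led Lsl_ff v5153 = v16817 :=
  Lgr Lrot3 (Lpr_ft (f751846 IH) (Lpn v16817))
def v25029 : LQ := Led Lsl_ct v5153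
theorem f826634 : Led Lsl_ct v5153 = v25029 :=
  Lrfl
theorem f976791 : Led Lsl_ft v25029 = v50580 :=
  Lgr Lrot4 (Lpe (f826634 IH) (Lpr_ff (f751848 IH) (Lpr_cf (f976789 IH) (Lpn v50580))))
theorem f976793 : Led Lsl_ff v25029 = v50580 :=
  Lgr Lrot3 (Lpr_ft (f976791 IH) (Lpn v50580))
theorem f826635 : Led Lsl_cf v5153 = v25029 :=
  Lgr Lrot11 (Lpr_ct (f826634 IH) (Lpn v25029))
theorem f177529 : Led Lsl_ct (LP (LK LD1_c6 LD2_c7 LD3_c12)) = (LP (LK LD1_c2 LD2_c59 LD3_c48)) :=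
  Lre_c IH (LK LD1_c6 LD2_c7 LD3_c12) (LK LD1_c2 LD2_c59 LD3_c48) Lrfl Lrfl
theorem f31650 : Led Lsl_bt (LP (LK LD1_c2 LD2_c29 LD3_c48)) = (LP (LK LD1_c5 LD2_c4 LD3_c60)) :=
  Lre_b IH (LK LD1_c2 LD2_c29 LD3_c48) (LK LD1_c5 LD2_c4 LD3_c60) Lrfl Lrfl
theorem f31651 : Led Lsl_gt (LP (LK LD1_c5 LD2_c4 LD3_c60)) = (LP (LK LD1_c10 LD2_c1 LD3_c2)) :=
  Lre_g IH (LK LD1_c5 LD2_c4 LD3_c60) (LK LD1_c10 LD2_c1 LD3_c2) Lrfl Lrfl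
theorem f826636 : Led Lsl_bf (LP (LK LD1_c10 LD2_c1 LD3_c2)) = v25029 :=
  Lgr Lrot34 (Lpe (f31651 IH) (Lpe (f31650 IH) (Lpr_ct (K14.f31645 IH) (Lpe (K14.f31628 IH) (Lpe (K14.f31630 IH) (Lpe (K14.f255274 IH) (Lpe (K25.f177533 IH) (Lpr_ct (f177529 IH) (Lpr_gf (f646246 IH) (Lpr_cf (f826635 IH) (Lpn v25029)))))))))))
def v41756 : LQ := Led Lsl_ft (LP (LK LD1_c10 LD2_c1 LD3_c2))
theorem f928180 : Led Lsl_ft (LP (LK LD1_c10 LD2_c1 LD3_c2)) = v41756 :=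
  Lrfl
theorem f976795 : Led Lsl_bt v41756 = v50580 :=
  Lgr Lrot35 (Lpe (f928180 IH) (Lpr_bf (f826636 IH) (Lpr_ff (f976793 IH) (Lpn v50580))))
theorem f928183 : Led Lsl_ff (LP (LK LD1_c10 LD2_c1 LD3_c2)) = v41756 :=
  Lgr Lrot3 (Lpr_ft (f928180 IH) (Lpn v41756))
def v41754 : LQ := Led Lsl_at (LP (LK LD1_c10 LD2_c1 LD3_c2))
theorem f928170 : Led Lsl_at (LP (LK LD1_c10 LD2_c1 LD3_c2)) = v41754 :=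
  Lrfl
theorem f928171 : Led Lsl_af (LP (LK LD1_c10 LD2_c1 LD3_c2)) = v41754 :=
  Lgr Lrot0 (Lpr_at (f928170 IH) (Lpn v41754))
theorem f265102 : Led Lsl_gt (LP (LK LD1_c10 LD2_c1 LD3_c3)) = (LP (LK LD1_c5 LD2_c4 LD3_c60)) :=
  Lre_g IH (LK LD1_c10 LD2_c1 LD3_c3) (LK LD1_c5 LD2_c4 LD3_c60) Lrfl Lrfl
theorem f928172 : Led Lsl_ft (LP (LK LD1_c10 LD2_c1 LD3_c3)) = v41754 :=
  Lgr Lrot2 (Lpr_gt (f265102 IH) (Lpr_gt (f31651 IH) (Lpr_af (f928171 IH) (Lpn v41754))))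
theorem f928174 : Led Lsl_ff (LP (LK LD1_c10 LD2_c1 LD3_c3)) = v41754 :=
  Lgr Lrot3 (Lpr_ft (f928172 IH) (Lpn v41754))
theorem f928184 : Led Lsl_at (LP (LK LD1_c10 LD2_c1 LD3_c3)) = v41756 :=
  Lgr Lrot66 (Lpr_ff (f928174 IH) (Lpe (f928170 IH) (Lpr_ff (f928183 IH) (Lpn v41756))))
theorem f304080 : Led Lsl_bt (LP (LK LD1_c18 LD2_c18 LD3_c23)) = (LP (LK LD1_c10 LD2_c1 LD3_c3)) :=
  Lre_b IH (LK LD1_c18 LD2_c18 LD3_c23) (LK LD1_c10 LD2_c1 LD3_c3) Lrfl Lrfl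
theorem f976788 : Led Lsl_af (LP (LK LD1_c11 LD2_c57 LD3_c22)) = v50580 :=
  Lgr Lrot0 (Lpr_at (f976787 IH) (Lpn v50580))
theorem f183417 : Led Lsl_bt (LP (LK LD1_c11 LD2_c57 LD3_c22)) = (LP (LK LD1_c21 LD2_c2 LD3_c30)) :=
  Lre_b IH (LK LD1_c11 LD2_c57 LD3_c22) (LK LD1_c21 LD2_c2 LD3_c30) Lrfl Lrfl
theorem f976796 : Led Lsl_af (LP (LK LD1_c18 LD2_c18 LD3_c23)) = (LP (LK LD1_c21 LD2_c2 LD3_c30)) :=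
  Lgr Lrot36 (Lpr_bt (f304080 IH) (Lpr_at (f928184 IH) (Lpr_bt (f976795 IH) (Lpe (f976788 IH) (Lpr_bt (f183417 IH) (Lpn (LP (LK LD1_c21 LD2_c2 LD3_c30))))))))
theorem f976797 : Led Lsl_at (LP (LK LD1_c21 LD2_c2 LD3_c30)) = (LP (LK LD1_c18 LD2_c18 LD3_c23)) :=
  Leop (Lpr_af (f976796 IH) (Lpn (LP (LK LD1_c21 LD2_c2 LD3_c30))))
theorem seed_3036 : LEOK LG_a (LK LD1_c21 LD2_c2 LD3_c30) :=
  Leoe_a (LK LD1_c21 LD2_c2 LD3_c30) (f976797 IH)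
def v35905 : LQ := Led Lsl_gt (LP (LK LD1_c8 LD2_c12 LD3_c41))
theorem f881050 : Led Lsl_gt (LP (LK LD1_c8 LD2_c12 LD3_c41)) = v35905 :=
  Lrfl
def v50601 : LQ := Led Lsl_gt (LP (LK LD1_c11 LD2_c57 LD3_c31))
theorem f976886 : Led Lsl_gt (LP (LK LD1_c11 LD2_c57 LD3_c31)) = v50601 :=
  Lrfl
theorem f751891 : Led Lsl_bt (LP (LK LD1_c6 LD2_c7 LD3_c23)) = (LP (LK LD1_c11 LD2_c57 LD3_c31)) :=
  Lre_b IH (LK LD1_c6 LD2_c7 LD3_c23) (LK LD1_c11 LD2_c57 LD3_c31) Lrfl Lrfl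
def v16827 : LQ := Led Lsl_ct (LP (LK LD1_c6 LD2_c7 LD3_c23))
theorem f751894 : Led Lsl_ct (LP (LK LD1_c6 LD2_c7 LD3_c23)) = v16827 :=
  Lrfl
theorem f903681 : Led Lsl_cf (LP (LK LD1_c9 LD2_c14 LD3_c9)) = K75.v38672 :=
  Lgr Lrot11 (Lpr_ct (K75.f903679 IH) (Lpn K75.v38672))
def v24950 : LQ := Led Lsl_ft K72.v5121
theorem f826312 : Led Lsl_ft K72.v5121 = v24950 :=
  Lrfl
theorem f826314 : Led Lsl_cf K49.v5166 = v24950 :=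
  Lgr Lrot108 (Lpe (K49.f646322 IH) (Lpr_ct (K72.f646050 IH) (Lpr_ft (f826312 IH) (Lpn v24950))))
theorem f826316 : Led Lsl_ff K72.v5121 = v24950 :=
  Lgr Lrot3 (Lpr_ft (f826312 IH) (Lpn v24950))
theorem f268192 : Led Lsl_at (LP (LK LD1_c2 LD2_c39 LD3_c25)) = (LP (LK LD1_c2 LD2_c58 LD3_c55)) :=
  Lgr Lrot100 (Lpr_af (K15.f268190 IH) (Lpn (LP (LK LD1_c2 LD2_c58 LD3_c55))))
theorem f638198 : Led Lsl_ef (LP (LK LD1_c2 LD2_c39 LD3_c25)) = K73.v4621 :=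
  Lgr Lrot88 (Lpr_et (K73.f638196 IH) (Lpn K73.v4621))
theorem f646046 : Led Lsl_af K73.v4621 = K72.v5121 :=
  Lgr Lrot50 (Lpe (f638198 IH) (Lpr_at (f268192 IH) (Lpr_et (K72.f646045 IH) (Lpn K72.v5121))))
theorem f826318 : Led Lsl_at K73.v24211 = v24950 :=
  Lgr Lrot66 (Lpe (K73.f822964 IH) (Lpr_af (f646046 IH) (Lpr_ff (f826316 IH) (Lpn v24950))))
def v24208 : LQ := Led Lsl_gt K73.v4621
theorem f822958 : Led Lsl_gt K73.v4621 = v24208 :=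
  Lrfl
theorem f826322 : Led Lsl_gt v24208 = v24950 :=
  Lgr Lrot46 (Lpe (f822958 IH) (Lpr_ft (K73.f822964 IH) (Lpr_at (f826318 IH) (Lpn v24950))))
theorem f176580 : Led Lsl_df (LP (LK LD1_c4 LD2_c39 LD3_c31)) = (LP (LK LD1_c2 LD2_c59 LD3_c52)) :=
  Lgr Lrot38 (Lpr_dt (K35.f176578 IH) (Lpn (LP (LK LD1_c2 LD2_c59 LD3_c52))))
theorem f924792 : v24208 = v16827 :=
  (Llr Lrot104 (Lpr_gt (f826322 IH) (Lpe (f826314 IH) (Lpe (K49.f646323 IH) (Lpr_cf (f903681 IH) (Lpe (K75.f903688 IH) (Lpr_cf (K75.f924787 IH) (Lpe (K75.f701119 IH) (Lpr_df (f176580 IH) (Lpr_gt (K49.f176587 IH) (Lpr_ct (f751894 IH) (Lpn v16827)))))))))))).symm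
theorem f638199 : Led Lsl_ct (LP (LK LD1_c4 LD2_c5 LD3_c42)) = K73.v4621 :=
  Lgr Lrot15 (Lpe (K36.f175339 IH) (Lpe (K9.f183039 IH) (Lpr_ef (f638198 IH) (Lpn K73.v4621))))
theorem f976888 : Led Lsl_bt (LP (LK LD1_c18 LD2_c43 LD3_c17)) = v50601 :=
  Lgr Lrot92 (Lpr_ct (K73.f936871 IH) (Lpe (K73.f936863 IH) (Lpe (K73.f924726 IH) (Lpr_bt (K72.f175353 IH) (Lpr_gt (K50.f175348 IH) (Lpr_ct (f638199 IH) (Lpr_gt (f822958 IH) (Lpqs (f924792 IH) (Lpe (f751894 IH) (Lpr_bt (f751891 IH) (Lpr_gt (f976886 IH) (Lpn v50601))))))))))))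
theorem f976892 : Led Lsl_ff (LP (LK LD1_c15 LD2_c26 LD3_c42)) = v50601 :=
  Lgr Lrot25 (Lpe (K56.f545715 IH) (Lpr_ft (K67.f387187 IH) (Lpr_bt (f976888 IH) (Lpn v50601))))
theorem f600990 : Led Lsl_af (LP (LK LD1_c8 LD2_c12 LD3_c41)) = (LP (LK LD1_c15 LD2_c26 LD3_c42)) :=
  Lgr Lrot0 (Lpr_at (K56.f600988 IH) (Lpn (LP (LK LD1_c15 LD2_c26 LD3_c42))))
theorem f976893 : Led Lsl_at v35906 = v50601 :=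
  Lgr Lrot66 (Lpe (f881051 IH) (Lpr_af (f600990 IH) (Lpr_ff (f976892 IH) (Lpn v50601))))
theorem f976898 : v35905 = (LP (LK LD1_c11 LD2_c57 LD3_c31)) :=
  (Llr Lrot5 (Lpe (f881050 IH) (Lpr_ft (f881051 IH) (Lpr_at (f976893 IH) (Lpe (f976886 IH) (Lpn (LP (LK LD1_c11 LD2_c57 LD3_c31)))))))).symm
theorem f976899 : Led Lsl_gt (LP (LK LD1_c8 LD2_c12 LD3_c41)) = (LP (LK LD1_c11 LD2_c57 LD3_c31)) :=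
  Leop (Lpq (f976898 IH) (Lpe (f881050 IH) (Lpn (LP (LK LD1_c8 LD2_c12 LD3_c41)))))
theorem seed_3037 : LEOK LG_g (LK LD1_c8 LD2_c12 LD3_c41) :=
  Leoe_g (LK LD1_c8 LD2_c12 LD3_c41) (f976899 IH)
def v50634 : LQ := Led Lsl_gt (LP (LK LD1_c11 LD2_c57 LD3_c56))
theorem f977077 : Led Lsl_gt (LP (LK LD1_c11 LD2_c57 LD3_c56)) = v50634 :=
  Lrfl
theorem f426146 : Led Lsl_dt (LP (LK LD1_c11 LD2_c40 LD3_c45)) = (LP (LK LD1_c5 LD2_c58 LD3_c0)) :=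
  Lre_d IH (LK LD1_c11 LD2_c40 LD3_c45) (LK LD1_c5 LD2_c58 LD3_c0) Lrfl Lrfl
theorem f826742 : Led Lsl_df K56.v15626 = K66.v25049 :=
  Lgr Lrot78 (Lpe (K66.f738363 IH) (Lpr_dt (K75.f646305 IH) (Lpr_ft (K66.f826740 IH) (Lpn K66.v25049))))
theorem f977081 : Led Lsl_et K66.v25049 = v50634 :=
  Lgr Lrot122 (Lpe (f826742 IH) (Lpe (K66.f738367 IH) (Lpr_df (K55.f738455 IH) (Lpe (K55.f738456 IH) (Lpr_gt (K55.f748509 IH) (Lpr_dt (f426146 IH) (Lpr_gt (K56.f428125 IH) (Lpe (K66.f428128 IH) (Lpr_et (K56.f752003 IH) (Lpr_gt (f977077 IH) (Lpn v50634)))))))))))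
theorem f977084 : Led Lsl_ff (LP (LK LD1_c11 LD2_c57 LD3_c58)) = v50634 :=
  Lgr Lrot72 (Lpr_et (K40.f427754 IH) (Lpr_ft (K36.f539655 IH) (Lpr_et (K66.f646300 IH) (Lpr_ft (K66.f826740 IH) (Lpr_et (f977081 IH) (Lpn v50634))))))
def v47426 : LQ := Led Lsl_et (LP (LK LD1_c11 LD2_c18 LD3_c49))
theorem f958664 : Led Lsl_et (LP (LK LD1_c11 LD2_c18 LD3_c49)) = v47426 :=
  Lrfl
theorem f383573 : Led Lsl_ft (LP (LK LD1_c5 LD2_c44 LD3_c20)) = (LP (LK LD1_c11 LD2_c18 LD3_c49)) :=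
  Lre_f IH (LK LD1_c5 LD2_c44 LD3_c20) (LK LD1_c11 LD2_c18 LD3_c49) Lrfl Lrfl
theorem f562518 : Led Lsl_ff (LP (LK LD1_c9 LD2_c7 LD3_c5)) = (LP (LK LD1_c5 LD2_c53 LD3_c10)) :=
  Lgr Lrot19 (Lpe (K40.f562475 IH) (Lpe (K36.f427700 IH) (Lpr_dt (K40.f562514 IH) (Lpn (LP (LK LD1_c5 LD2_c53 LD3_c10))))))
theorem f958667 : Led Lsl_ff (LP (LK LD1_c11 LD2_c32 LD3_c27)) = v47426 :=
  Lgr Lrot72 (Lpr_et (K44.f539156 IH) (Lpe (f562518 IH) (Lpe (K40.f562457 IH) (Lpr_ft (f383573 IH) (Lpr_et (f958664 IH) (Lpn v47426))))))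
theorem f958669 : Led Lsl_ft (LP (LK LD1_c11 LD2_c32 LD3_c27)) = v47426 :=
  Lgr Lrot48 (Lpr_ff (f958667 IH) (Lpn v47426))
theorem f977085 : Led Lsl_dt v47426 = v50634 :=
  Lgr Lrot60 (Lpe (f958669 IH) (Lpe (K40.f562508 IH) (Lpr_ff (f977084 IH) (Lpn v50634))))
theorem f562510 : Led Lsl_gt (LP (LK LD1_c21 LD2_c3 LD3_c5)) = (LP (LK LD1_c11 LD2_c58 LD3_c1)) :=
  Lre_g IH (LK LD1_c21 LD2_c3 LD3_c5) (LK LD1_c11 LD2_c58 LD3_c1) Lrfl Lrfl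
theorem f958670 : Led Lsl_gf (LP (LK LD1_c21 LD2_c3 LD3_c5)) = v47426 :=
  Lgr Lrot47 (Lpr_gt (f562510 IH) (Lpr_af (K40.f562503 IH) (Lpr_ff (f958667 IH) (Lpn v47426))))
theorem f748645 : Led Lsl_ct (LP (LK LD1_c21 LD2_c3 LD3_c5)) = (LP (LK LD1_c29 LD2_c50 LD3_c6)) :=
  Lre_c IH (LK LD1_c21 LD2_c3 LD3_c5) (LK LD1_c29 LD2_c50 LD3_c6) Lrfl Lrfl
theorem f198545 : Led Lsl_bt (LP (LK LD1_c15 LD2_c26 LD3_c16)) = (LP (LK LD1_c8 LD2_c12 LD3_c14)) :=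
  Lre_b IH (LK LD1_c15 LD2_c26 LD3_c16) (LK LD1_c8 LD2_c12 LD3_c14) Lrfl Lrfl
theorem f691557 : Led Lsl_bt (LP (LK LD1_c6 LD2_c7 LD3_c46)) = (LP (LK LD1_c11 LD2_c57 LD3_c56)) :=
  Lre_b IH (LK LD1_c6 LD2_c7 LD3_c46) (LK LD1_c11 LD2_c57 LD3_c56) Lrfl Lrfl
theorem f691565 : Led Lsl_ff (LP (LK LD1_c15 LD2_c26 LD3_c16)) = (LP (LK LD1_c11 LD2_c57 LD3_c56)) :=
  Lgr Lrot25 (Lpr_bt (f198545 IH) (Lpr_ft (K56.f691563 IH) (Lpr_bt (f691557 IH) (Lpn (LP (LK LD1_c11 LD2_c57 LD3_c56))))))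
theorem f977079 : Led Lsl_gf (LP (LK LD1_c11 LD2_c58 LD3_c0)) = v50634 :=
  Lgr Lrot76 (Lpr_af (f969147 IH) (Lpr_ff (f691565 IH) (Lpr_gt (f977077 IH) (Lpn v50634))))
def v42879 : LQ := Led Lsl_ct (LP (LK LD1_c10 LD2_c18 LD3_c17))
theorem f936589 : Led Lsl_ct (LP (LK LD1_c10 LD2_c18 LD3_c17)) = v42879 :=
  Lrfl
theorem f936593 : Led Lsl_ff (LP (LK LD1_c18 LD2_c1 LD3_c36)) = v42879 :=
  Lgr Lrot23 (Lpe (K72.f921587 IH) (Lpr_ft (K66.f597475 IH) (Lpr_ct (f936589 IH) (Lpn v42879))))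
theorem f936597 : Led Lsl_ft (LP (LK LD1_c18 LD2_c1 LD3_c36)) = v42879 :=
  Lgr Lrot48 (Lpr_ff (f936593 IH) (Lpn v42879))
theorem f597470 : Led Lsl_af (LP (LK LD1_c10 LD2_c18 LD3_c17)) = (LP (LK LD1_c10 LD2_c4 LD3_c47)) :=
  Lgr Lrot0 (Lpr_at (K50.f597457 IH) (Lpn (LP (LK LD1_c10 LD2_c4 LD3_c47))))
theorem f931356 : Led Lsl_cf (LP (LK LD1_c10 LD2_c4 LD3_c47)) = K73.v41992 :=
  Lgr Lrot11 (Lpr_ct (K73.f931355 IH) (Lpn K73.v41992))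
theorem f936590 : Led Lsl_af K73.v41992 = v42879 :=
  Lgr Lrot68 (Lpe (f931356 IH) (Lpe (f597470 IH) (Lpr_ct (f936589 IH) (Lpn v42879))))
theorem f969155 : Led Lsl_gt (LP (LK LD1_c21 LD2_c3 LD3_c4)) = K73.v41992 :=
  Lgr Lrot46 (Lpr_gf (f969153 IH) (Lpr_ft (f936597 IH) (Lpe (f936590 IH) (Lpn K73.v41992))))
theorem f977087 : Led Lsl_gt (LP (LK LD1_c29 LD2_c50 LD3_c6)) = (LP (LK LD1_c26 LD2_c55 LD3_c1)) :=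
  Lgr Lrot187 (Lpe (f748645 IH) (Lpr_gf (f958670 IH) (Lpr_dt (f977085 IH) (Lpe (f977079 IH) (Lpr_ct (f969145 IH) (Lpr_gt (f969155 IH) (Lpe (f931356 IH) (Lpe (K50.f558487 IH) (Lpe (K50.f579426 IH) (Lpn (LP (LK LD1_c26 LD2_c55 LD3_c1))))))))))))
theorem f977088 : Led Lsl_gt (LP (LK LD1_c29 LD2_c50 LD3_c6)) = (LP (LK LD1_c26 LD2_c55 LD3_c1)) :=
  Leop (Lpe (f977087 IH) (Lpn (LP (LK LD1_c29 LD2_c50 LD3_c6))))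
theorem seed_3038 : LEOK LG_g (LK LD1_c29 LD2_c50 LD3_c6) :=
  Leoe_g (LK LD1_c29 LD2_c50 LD3_c6) (f977088 IH)
def v50652 : LQ := Led Lsl_dt (LP (LK LD1_c11 LD2_c58 LD3_c4))
theorem f977169 : Led Lsl_dt (LP (LK LD1_c11 LD2_c58 LD3_c4)) = v50652 :=
  Lrfl
theorem f557548 : Led Lsl_bt (LP (LK LD1_c11 LD2_c58 LD3_c4)) = (LP (LK LD1_c6 LD2_c8 LD3_c0)) :=
  Lre_b IH (LK LD1_c11 LD2_c58 LD3_c4) (LK LD1_c6 LD2_c8 LD3_c0) Lrfl Lrfl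
theorem f936912 : Led Lsl_ef (LP (LK LD1_c11 LD2_c58 LD3_c4)) = (LP (LK LD1_c20 LD2_c23 LD3_c0)) :=
  Lgr Lrot29 (Lpr_bt (f557548 IH) (Lpe (K56.f748572 IH) (Lpr_bt (K73.f936906 IH) (Lpn (LP (LK LD1_c20 LD2_c23 LD3_c0))))))
theorem f936920 : Led Lsl_et (LP (LK LD1_c11 LD2_c58 LD3_c4)) = (LP (LK LD1_c20 LD2_c23 LD3_c0)) :=
  Lgr Lrot87 (Lpr_ef (f936912 IH) (Lpn (LP (LK LD1_c20 LD2_c23 LD3_c0))))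
theorem f721913 : Led Lsl_df (LP (LK LD1_c5 LD2_c6 LD3_c30)) = K73.v14321 :=
  Lgr Lrot38 (Lpr_dt (K73.f721910 IH) (Lpn K73.v14321))
theorem f421490 : Led Lsl_bt (LP (LK LD1_c11 LD2_c33 LD3_c47)) = (LP (LK LD1_c10 LD2_c5 LD3_c48)) :=
  Lgr Lrot127 (Lpr_bf (K64.f421485 IH) (Lpn (LP (LK LD1_c10 LD2_c5 LD3_c48))))
theorem f599049 : Led Lsl_df (LP (LK LD1_c18 LD2_c24 LD3_c13)) = (LP (LK LD1_c10 LD2_c5 LD3_c48)) :=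
  Lgr Lrot12 (Lpe (K72.f599043 IH) (Lpr_dt (K64.f599047 IH) (Lpr_bt (f421490 IH) (Lpn (LP (LK LD1_c10 LD2_c5 LD3_c48))))))
theorem f977175 : Led Lsl_gf (LP (LK LD1_c18 LD2_c24 LD3_c13)) = v50652 :=
  Lgr Lrot145 (Lpr_df (f599049 IH) (Lpr_et (K72.f421499 IH) (Lpr_gt (K73.f721915 IH) (Lpe (f721913 IH) (Lpe (K40.f557512 IH) (Lpe (K8.f132421 IH) (Lpr_et (K8.f132418 IH) (Lpr_gt (K73.f138595 IH) (Lpe (f936920 IH) (Lpr_dt (f977169 IH) (Lpn v50652)))))))))))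
theorem f426238 : Led Lsl_bt (LP (LK LD1_c5 LD2_c58 LD3_c3)) = (LP (LK LD1_c11 LD2_c40 LD3_c48)) :=
  Lre_b IH (LK LD1_c5 LD2_c58 LD3_c3) (LK LD1_c11 LD2_c40 LD3_c48) Lrfl Lrfl
theorem f586836 : Led Lsl_ft (LP (LK LD1_c11 LD2_c40 LD3_c48)) = (LP (LK LD1_c11 LD2_c58 LD3_c4)) :=
  Lgr Lrot75 (Lpe (f426238 IH) (Lpr_ff (K56.f586832 IH) (Lpe (f557548 IH) (Lpn (LP (LK LD1_c11 LD2_c58 LD3_c4))))))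
def v42059 : LQ := Led Lsl_gt (LP (LK LD1_c10 LD2_c5 LD3_c48))
theorem f932168 : Led Lsl_gt (LP (LK LD1_c10 LD2_c5 LD3_c48)) = v42059 :=
  Lrfl
theorem f581862 : Led Lsl_ft (LP (LK LD1_c18 LD2_c23 LD3_c29)) = (LP (LK LD1_c11 LD2_c57 LD3_c60)) :=
  Lgr Lrot75 (Lpe (K64.f581861 IH) (Lpr_ff (f581859 IH) (Lpe (K73.f539715 IH) (Lpn (LP (LK LD1_c11 LD2_c57 LD3_c60))))))
theorem f932169 : Led Lsl_at (LP (LK LD1_c11 LD2_c57 LD3_c60)) = v42059 :=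
  Lgr Lrot26 (Lpe (f581862 IH) (Lpe (K64.f822767 IH) (Lpr_gt (f932168 IH) (Lpn v42059))))
theorem f501333 : Led Lsl_ct (LP (LK LD1_c6 LD2_c7 LD3_c56)) = (LP (LK LD1_c3 LD2_c0 LD3_c11)) :=
  Lre_c IH (LK LD1_c6 LD2_c7 LD3_c56) (LK LD1_c3 LD2_c0 LD3_c11) Lrfl Lrfl
theorem f722141 : Led Lsl_af (LP (LK LD1_c6 LD2_c7 LD3_c56)) = K55.v14354 :=
  Lgr Lrot68 (Lpr_ct (f501333 IH) (Lpr_at (K36.f427749 IH) (Lpr_ct (K55.f722140 IH) (Lpn K55.v14354))))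
theorem f748517 : Led Lsl_bf (LP (LK LD1_c5 LD2_c57 LD3_c47)) = K55.v16331 :=
  Lgr Lrot24 (Lpr_bt (K55.f748516 IH) (Lpn K55.v16331))
theorem f748658 : Led Lsl_bf K55.v14354 = K55.v16332 :=
  Lgr Lrot93 (Lpr_dt (K55.f748520 IH) (Lpe (f748517 IH) (Lpr_dt (K55.f748657 IH) (Lpn K55.v16332))))
theorem f748659 : Led Lsl_df (LP (LK LD1_c5 LD2_c57 LD3_c47)) = K55.v16332 :=
  Lgr Lrot38 (Lpr_dt (K55.f748657 IH) (Lpn K55.v16332))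
theorem f748882 : Led Lsl_af K55.v16332 = K72.v16343 :=
  Lgr Lrot117 (Lpe (f748659 IH) (Lpe (K75.f426236 IH) (Lpr_dt (K72.f748881 IH) (Lpn K72.v16343))))
theorem f932171 : Led Lsl_bf K72.v16343 = v42059 :=
  Lgr Lrot81 (Lpe (f748882 IH) (Lpe (f748658 IH) (Lpe (f722141 IH) (Lpr_bt (K73.f56252 IH) (Lpr_at (f932169 IH) (Lpn v42059))))))
theorem f932173 : Led Lsl_dt (LP (LK LD1_c11 LD2_c40 LD3_c48)) = v42059 :=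
  Lgr Lrot79 (Lpe (f426238 IH) (Lpr_df (K72.f748883 IH) (Lpr_bf (f932171 IH) (Lpn v42059))))
theorem f932174 : Led Lsl_df (LP (LK LD1_c11 LD2_c40 LD3_c48)) = v42059 :=
  Lgr Lrot38 (Lpr_dt (f932173 IH) (Lpn v42059))
theorem f977174 : Led Lsl_ff v42059 = v50652 :=
  Lgr Lrot19 (Lpe (f932174 IH) (Lpr_ft (f586836 IH) (Lpr_dt (f977169 IH) (Lpn v50652))))
theorem f932170 : Led Lsl_af (LP (LK LD1_c11 LD2_c57 LD3_c60)) = v42059 :=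
  Lgr Lrot0 (Lpr_at (f932169 IH) (Lpn v42059))
def v50643 : LQ := Led Lsl_gf (LP (LK LD1_c11 LD2_c57 LD3_c60))
theorem f977122 : Led Lsl_gf (LP (LK LD1_c11 LD2_c57 LD3_c60)) = v50643 :=
  Lrfl
theorem f977178 : (LP (LK LD1_c18 LD2_c24 LD3_c13)) = v50643 :=
  (Llr Lrot5 (Lpr_gf (f977175 IH) (Lpe (f977174 IH) (Lpe (f932170 IH) (Lpr_gf (f977122 IH) (Lpn v50643)))))).symm
theorem f977179 : Led Lsl_gt (LP (LK LD1_c18 LD2_c24 LD3_c13)) = (LP (LK LD1_c11 LD2_c57 LD3_c60)) :=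
  Leop (Lpr_gf (f977122 IH) (Lpq (f977178 IH) (Lpn (LP (LK LD1_c18 LD2_c24 LD3_c13)))))
theorem seed_3039 : LEOK LG_g (LK LD1_c18 LD2_c24 LD3_c13) :=
  Leoe_g (LK LD1_c18 LD2_c24 LD3_c13) (f977179 IH)
def v50642 : LQ := Led Lsl_gt (LP (LK LD1_c11 LD2_c57 LD3_c60))
theorem f977121 : Led Lsl_gt (LP (LK LD1_c11 LD2_c57 LD3_c60)) = v50642 :=
  Lrfl
theorem f581865 : Led Lsl_ft (LP (LK LD1_c10 LD2_c4 LD3_c48)) = (LP (LK LD1_c6 LD2_c7 LD3_c56)) :=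
  Lgr Lrot48 (Lpr_ff (f581859 IH) (Lpn (LP (LK LD1_c6 LD2_c7 LD3_c56))))
theorem f165744 : Led Lsl_bt (LP (LK LD1_c18 LD2_c23 LD3_c29)) = (LP (LK LD1_c10 LD2_c4 LD3_c48)) :=
  Lre_b IH (LK LD1_c18 LD2_c23 LD3_c29) (LK LD1_c10 LD2_c4 LD3_c48) Lrfl Lrfl
theorem f581869 : Led Lsl_ff (LP (LK LD1_c18 LD2_c23 LD3_c29)) = (LP (LK LD1_c11 LD2_c57 LD3_c60)) :=
  Lgr Lrot25 (Lpr_bt (f165744 IH) (Lpr_ft (f581865 IH) (Lpr_bt (K73.f56252 IH) (Lpn (LP (LK LD1_c11 LD2_c57 LD3_c60))))))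
theorem f977180 : Led Lsl_at (LP (LK LD1_c18 LD2_c23 LD3_c29)) = v50652 :=
  Lgr Lrot66 (Lpr_ff (f581869 IH) (Lpr_af (f932170 IH) (Lpr_ff (f977174 IH) (Lpn v50652))))
theorem f421496 : Led Lsl_at (LP (LK LD1_c10 LD2_c5 LD3_c48)) = (LP (LK LD1_c18 LD2_c24 LD3_c13)) :=
  Lre_a IH (LK LD1_c10 LD2_c5 LD3_c48) (LK LD1_c18 LD2_c24 LD3_c13) Lrfl Lrfl
theorem f421494 : Led Lsl_ft (LP (LK LD1_c18 LD2_c24 LD3_c35)) = (LP (LK LD1_c10 LD2_c5 LD3_c48)) :=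
  Lre_f IH (LK LD1_c18 LD2_c24 LD3_c35) (LK LD1_c10 LD2_c5 LD3_c48) Lrfl Lrfl
theorem f977176 : Led Lsl_gt (LP (LK LD1_c18 LD2_c24 LD3_c35)) = v50652 :=
  Lgr Lrot5 (Lpr_ft (f421494 IH) (Lpr_at (f421496 IH) (Lpr_gf (f977175 IH) (Lpn v50652))))
theorem f977183 : v50642 = (LP (LK LD1_c18 LD2_c24 LD3_c35)) :=
  (Llr Lrot5 (Lpe (f977121 IH) (Lpe (f581869 IH) (Lpr_at (f977180 IH) (Lpe (f977176 IH) (Lpn (LP (LK LD1_c18 LD2_c24 LD3_c35)))))))).symm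
theorem f977184 : Led Lsl_gt (LP (LK LD1_c11 LD2_c57 LD3_c60)) = (LP (LK LD1_c18 LD2_c24 LD3_c35)) :=
  Leop (Lpq (f977183 IH) (Lpe (f977121 IH) (Lpn (LP (LK LD1_c11 LD2_c57 LD3_c60)))))
theorem seed_3040 : LEOK LG_g (LK LD1_c11 LD2_c57 LD3_c60) :=
  Leoe_g (LK LD1_c11 LD2_c57 LD3_c60) (f977184 IH)
def v50653 : LQ := Led Lsl_et (LP (LK LD1_c11 LD2_c58 LD3_c7))
theorem f977187 : Led Lsl_et (LP (LK LD1_c11 LD2_c58 LD3_c7)) = v50653 :=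
  Lrfl
def v41516 : LQ := Led Lsl_ft (LP (LK LD1_c9 LD2_c58 LD3_c44))
theorem f926607 : Led Lsl_ft (LP (LK LD1_c9 LD2_c58 LD3_c44)) = v41516 :=
  Lrfl
theorem f926610 : Led Lsl_ff (LP (LK LD1_c9 LD2_c58 LD3_c44)) = v41516 :=
  Lgr Lrot3 (Lpr_ft (f926607 IH) (Lpn v41516))
theorem f249819 : Led Lsl_gt (LP (LK LD1_c18 LD2_c14 LD3_c38)) = (LP (LK LD1_c18 LD2_c34 LD3_c16)) :=
  Lgr Lrot46 (Lpe (K72.f185219 IH) (Lpr_ft (K14.f249792 IH) (Lpr_at (K14.f249791 IH) (Lpn (LP (LK LD1_c18 LD2_c34 LD3_c16))))))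
theorem f249782 : Led Lsl_dt (LP (LK LD1_c18 LD2_c34 LD3_c16)) = (LP (LK LD1_c10 LD2_c11 LD3_c42)) :=
  Lre_d IH (LK LD1_c18 LD2_c34 LD3_c16) (LK LD1_c10 LD2_c11 LD3_c42) Lrfl Lrfl
theorem f721374 : Led Lsl_dt (LP (LK LD1_c5 LD2_c9 LD3_c54)) = (LP (LK LD1_c9 LD2_c58 LD3_c44)) :=
  Lgr Lrot57 (Lpe (K44.f165578 IH) (Lpe (K74.f165577 IH) (Lpr_gt (K53.f180577 IH) (Lpr_dt (K72.f721370 IH) (Lpr_gt (f249819 IH) (Lpr_dt (f249782 IH) (Lpe (K14.f248959 IH) (Lpe (K73.f249750 IH) (Lpe (K73.f249899 IH) (Lpn (LP (LK LD1_c9 LD2_c58 LD3_c44))))))))))))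
theorem f721377 : Led Lsl_df (LP (LK LD1_c5 LD2_c9 LD3_c54)) = (LP (LK LD1_c9 LD2_c58 LD3_c44)) :=
  Lgr Lrot38 (Lpr_dt (f721374 IH) (Lpn (LP (LK LD1_c9 LD2_c58 LD3_c44))))
theorem f926612 : Led Lsl_dt K72.v14427 = v41516 :=
  Lgr Lrot60 (Lpe (K72.f722465 IH) (Lpr_df (f721377 IH) (Lpr_ff (f926610 IH) (Lpn v41516))))
theorem f928296 : v41516 = (LP (LK LD1_c9 LD2_c56 LD3_c60)) :=
  Lefun (Lecon (f926612 IH) (K72.f928279 IH).symm) (K72.f164129 IH)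
def v41372 : LQ := Led Lsl_ct (LP (LK LD1_c9 LD2_c56 LD3_c60))
theorem f925689 : Led Lsl_ct (LP (LK LD1_c9 LD2_c56 LD3_c60)) = v41372 :=
  Lrfl
theorem f925690 : Led Lsl_cf (LP (LK LD1_c9 LD2_c56 LD3_c60)) = v41372 :=
  Lgr Lrot11 (Lpr_ct (f925689 IH) (Lpn v41372))
theorem f928432 : Led Lsl_ff v41372 = K73.v41514 :=
  Lgr Lrot23 (Lpe (f925690 IH) (Lpq (f928296 IH) (Lpe (f926610 IH) (Lpr_ct (K73.f926603 IH) (Lpn K73.v41514)))))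
theorem f928433 : Led Lsl_ft v41372 = K73.v41514 :=
  Lgr Lrot48 (Lpr_ff (f928432 IH) (Lpn K73.v41514))
theorem f699398 : Led Lsl_gt (LP (LK LD1_c5 LD2_c10 LD3_c40)) = (LP (LK LD1_c9 LD2_c56 LD3_c60)) :=
  Lgr Lrot5 (Lpe (K14.f249897 IH) (Lpr_at (K53.f249901 IH) (Lpr_gf (K72.f699396 IH) (Lpn (LP (LK LD1_c9 LD2_c56 LD3_c60))))))
theorem f343372 : Led Lsl_dt (LP (LK LD1_c5 LD2_c11 LD3_c35)) = (LP (LK LD1_c10 LD2_c13 LD3_c54)) :=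
  Lre_d IH (LK LD1_c5 LD2_c11 LD3_c35) (LK LD1_c10 LD2_c13 LD3_c54) Lrfl Lrfl
theorem f925691 : Led Lsl_gf (LP (LK LD1_c18 LD2_c37 LD3_c22)) = v41372 :=
  Lgr Lrot104 (Lpr_ct (K72.f405334 IH) (Lpe (f343372 IH) (Lpe (K44.f164537 IH) (Lpe (K72.f233572 IH) (Lpe (K72.f249886 IH) (Lpe (K53.f192934 IH) (Lpe (K14.f171640 IH) (Lpr_gt (f699398 IH) (Lpr_ct (f925689 IH) (Lpn v41372))))))))))
def v41384 : LQ := Led Lsl_ct (LP (LK LD1_c9 LD2_c57 LD3_c2))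
theorem f925734 : Led Lsl_ct (LP (LK LD1_c9 LD2_c57 LD3_c2)) = v41384 :=
  Lrfl
theorem f925717 : Led Lsl_df (LP (LK LD1_c9 LD2_c57 LD3_c0)) = K72.v41381 :=
  Lgr Lrot38 (Lpr_dt (K72.f925715 IH) (Lpn K72.v41381))
theorem f925722 : Led Lsl_bt (LP (LK LD1_c9 LD2_c57 LD3_c2)) = K72.v41381 :=
  Lgr Lrot95 (Lpe (K73.f299884 IH) (Lpe (K72.f169980 IH) (Lpr_df (f925717 IH) (Lpn K72.v41381))))
theorem f922708 : Led Lsl_bf (LP (LK LD1_c10 LD2_c13 LD3_c43)) = (LP (LK LD1_c9 LD2_c59 LD3_c51)) :=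
  Lgr Lrot93 (Lpr_dt (K72.f612402 IH) (Lpe (K72.f313901 IH) (Lpr_dt (K71.f922671 IH) (Lpn (LP (LK LD1_c9 LD2_c59 LD3_c51))))))
theorem f233570 : Led Lsl_gt (LP (LK LD1_c10 LD2_c13 LD3_c43)) = (LP (LK LD1_c5 LD2_c11 LD3_c37)) :=
  Lre_g IH (LK LD1_c10 LD2_c13 LD3_c43) (LK LD1_c5 LD2_c11 LD3_c37) Lrfl Lrfl
theorem f612428 : Led Lsl_bt (LP (LK LD1_c10 LD2_c13 LD3_c54)) = (LP (LK LD1_c5 LD2_c11 LD3_c37)) :=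
  Lre_b IH (LK LD1_c10 LD2_c13 LD3_c54) (LK LD1_c5 LD2_c11 LD3_c37) Lrfl Lrfl
theorem f925736 : Led Lsl_gt (LP (LK LD1_c18 LD2_c37 LD3_c22)) = v41384 :=
  Lgr Lrot65 (Lpe (K73.f405333 IH) (Lpr_bt (f612428 IH) (Lpe (f233570 IH) (Lpr_bf (f922708 IH) (Lpe (K71.f922667 IH) (Lpe (K71.f751404 IH) (Lpqs (K71.f922740 IH) (Lpr_cf (K72.f922683 IH) (Lpr_gf (K72.f925718 IH) (Lpe (f925722 IH) (Lpr_ct (f925734 IH) (Lpn v41384))))))))))))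
theorem f928434 : Led Lsl_af v41384 = K73.v41514 :=
  Lgr Lrot31 (Lpe (f925736 IH) (Lpr_gf (f925691 IH) (Lpr_ft (f928433 IH) (Lpn K73.v41514))))
theorem f925774 : Led Lsl_gf (LP (LK LD1_c18 LD2_c26 LD3_c15)) = K73.v41394 :=
  Lgr Lrot104 (Lpr_ct (K73.f165234 IH) (Lpe (K73.f603904 IH) (Lpr_cf (K44.f169647 IH) (Lpe (K44.f169638 IH) (Lpe (K44.f169637 IH) (Lpe (K44.f164128 IH) (Lpe (K73.f169655 IH) (Lpr_gt (K53.f169656 IH) (Lpr_ct (K73.f925772 IH) (Lpn K73.v41394))))))))))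
theorem f621457 : Led Lsl_df (LP (LK LD1_c27 LD2_c42 LD3_c13)) = (LP (LK LD1_c18 LD2_c26 LD3_c15)) :=
  Lgr Lrot38 (Lpr_dt (K73.f621455 IH) (Lpn (LP (LK LD1_c18 LD2_c26 LD3_c15))))
theorem f614311 : Led Lsl_ft (LP (LK LD1_c6 LD2_c8 LD3_c2)) = (LP (LK LD1_c9 LD2_c47 LD3_c23)) :=
  Lgr Lrot4 (Lpr_cf (K56.f614306 IH) (Lpe (K32.f387180 IH) (Lpe (K72.f161213 IH) (Lpn (LP (LK LD1_c9 LD2_c47 LD3_c23))))))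
theorem f614315 : Led Lsl_ff (LP (LK LD1_c11 LD2_c58 LD3_c7)) = (LP (LK LD1_c17 LD2_c57 LD3_c44)) :=
  Lgr Lrot25 (Lpr_bt (f501344 IH) (Lpr_ft (f614311 IH) (Lpr_bt (K73.f427593 IH) (Lpn (LP (LK LD1_c17 LD2_c57 LD3_c44))))))
theorem f614323 : Led Lsl_at (LP (LK LD1_c11 LD2_c58 LD3_c7)) = (LP (LK LD1_c21 LD2_c3 LD3_c11)) :=
  Lre_a IH (LK LD1_c11 LD2_c58 LD3_c7) (LK LD1_c21 LD2_c3 LD3_c11) Lrfl Lrfl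
theorem f614324 : Led Lsl_gf (LP (LK LD1_c21 LD2_c3 LD3_c11)) = (LP (LK LD1_c27 LD2_c42 LD3_c13)) :=
  Lgr Lrot76 (Lpe (f614323 IH) (Lpr_ff (f614315 IH) (Lpr_gt (K73.f427659 IH) (Lpn (LP (LK LD1_c27 LD2_c42 LD3_c13))))))
theorem f925735 : Led Lsl_cf (LP (LK LD1_c9 LD2_c57 LD3_c2)) = v41384 :=
  Lgr Lrot11 (Lpr_ct (f925734 IH) (Lpn v41384))
theorem f925775 : Led Lsl_dt (LP (LK LD1_c21 LD2_c3 LD3_c11)) = v41384 :=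
  Lgr Lrot105 (Lpr_gf (f614324 IH) (Lpr_df (f621457 IH) (Lpr_gf (f925774 IH) (Lpe (K73.f925772 IH) (Lpr_gt (K53.f299928 IH) (Lpr_dt (K32.f299876 IH) (Lpe (K72.f299880 IH) (Lpr_dt (K73.f299884 IH) (Lpr_cf (f925735 IH) (Lpn v41384))))))))))
theorem f925776 : Led Lsl_df (LP (LK LD1_c21 LD2_c3 LD3_c11)) = v41384 :=
  Lgr Lrot38 (Lpr_dt (f925775 IH) (Lpn v41384))
theorem f614322 : Led Lsl_at (LP (LK LD1_c21 LD2_c3 LD3_c11)) = (LP (LK LD1_c11 LD2_c58 LD3_c7)) :=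
  Lre_a IH (LK LD1_c21 LD2_c3 LD3_c11) (LK LD1_c11 LD2_c58 LD3_c7) Lrfl Lrfl
theorem f928436 : Led Lsl_dt (LP (LK LD1_c11 LD2_c58 LD3_c7)) = K73.v41514 :=
  Lgr Lrot44 (Lpe (f614322 IH) (Lpr_df (f925776 IH) (Lpr_af (f928434 IH) (Lpn K73.v41514))))
theorem f572885 : Led Lsl_dt (LP (LK LD1_c8 LD2_c12 LD3_c27)) = (LP (LK LD1_c4 LD2_c5 LD3_c54)) :=
  Lre_d IH (LK LD1_c8 LD2_c12 LD3_c27) (LK LD1_c4 LD2_c5 LD3_c54) Lrfl Lrfl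
theorem f572950 : Led Lsl_gf (LP (LK LD1_c8 LD2_c12 LD3_c27)) = (LP (LK LD1_c5 LD2_c7 LD3_c45)) :=
  Lgr Lrot143 (Lpr_dt (f572885 IH) (Lpr_cf (K42.f572888 IH) (Lpe (K43.f572917 IH) (Lpr_gf (K42.f572946 IH) (Lpe (K36.f308199 IH) (Lpe (K36.f185093 IH) (Lpr_cf (K36.f427807 IH) (Lpe (K36.f428075 IH) (Lpr_dt (K40.f428079 IH) (Lpn (LP (LK LD1_c5 LD2_c7 LD3_c45))))))))))))
theorem f977190 : Led Lsl_gt (LP (LK LD1_c17 LD2_c57 LD3_c53)) = v50653 :=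
  Lgr Lrot131 (Lpe (K56.f572912 IH) (Lpe (K45.f572910 IH) (Lpe (K42.f572878 IH) (Lpe (f572885 IH) (Lpr_gf (f572950 IH) (Lpe (K73.f572815 IH) (Lpr_dt (K73.f932068 IH) (Lpr_gf (K73.f932094 IH) (Lpe (f928436 IH) (Lpr_et (f977187 IH) (Lpn v50653)))))))))))
theorem f545068 : Led Lsl_bt (LP (LK LD1_c5 LD2_c48 LD3_c3)) = (LP (LK LD1_c11 LD2_c25 LD3_c30)) :=
  Lre_b IH (LK LD1_c5 LD2_c48 LD3_c3) (LK LD1_c11 LD2_c25 LD3_c30) Lrfl Lrfl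
theorem f601040 : Led Lsl_bf (LP (LK LD1_c17 LD2_c57 LD3_c53)) = (LP (LK LD1_c20 LD2_c22 LD3_c50)) :=
  Lgr Lrot81 (Lpr_at (K56.f601036 IH) (Lpr_bt (K52.f544997 IH) (Lpe (K43.f545066 IH) (Lpr_bt (f545068 IH) (Lpr_at (K73.f100324 IH) (Lpn (LP (LK LD1_c20 LD2_c22 LD3_c50))))))))
theorem f618443 : Led Lsl_bf (LP (LK LD1_c16 LD2_c59 LD3_c58)) = (LP (LK LD1_c11 LD2_c40 LD3_c61)) :=
  Lgr Lrot61 (Lpr_ft (K36.f547915 IH) (Lpr_bt (K73.f618439 IH) (Lpr_ft (K53.f75956 IH) (Lpn (LP (LK LD1_c11 LD2_c40 LD3_c61))))))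
theorem f924602 : Led Lsl_cf (LP (LK LD1_c10 LD2_c7 LD3_c15)) = (LP (LK LD1_c11 LD2_c40 LD3_c61)) :=
  Lgr Lrot11 (Lpr_ct (K72.f924595 IH) (Lpn (LP (LK LD1_c11 LD2_c40 LD3_c61))))
theorem f977193 : Led Lsl_bt K72.v16864 = v50653 :=
  Lgr Lrot92 (Lpe (K72.f752087 IH) (Lpe (K72.f924607 IH) (Lpr_cf (f924602 IH) (Lpe (f618443 IH) (Lpr_gt (K36.f547918 IH) (Lpr_ct (K69.f904246 IH) (Lpe (K69.f904250 IH) (Lpe (K43.f574439 IH) (Lpe (f601040 IH) (Lpr_gt (f977190 IH) (Lpn v50653)))))))))))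
theorem f545698 : Led Lsl_et (LP (LK LD1_c11 LD2_c35 LD3_c30)) = (LP (LK LD1_c20 LD2_c33 LD3_c36)) :=
  Lre_e IH (LK LD1_c11 LD2_c35 LD3_c30) (LK LD1_c20 LD2_c33 LD3_c36) Lrfl Lrfl
theorem f545699 : Led Lsl_ct (LP (LK LD1_c20 LD2_c33 LD3_c36)) = (LP (LK LD1_c15 LD2_c26 LD3_c42)) :=
  Lgr Lrot15 (Lpe (f545698 IH) (Lpr_cf (K38.f545690 IH) (Lpe (K56.f73484 IH) (Lpn (LP (LK LD1_c15 LD2_c26 LD3_c42))))))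
theorem f752431 : Led Lsl_bt (LP (LK LD1_c20 LD2_c26 LD3_c46)) = K56.v16913 :=
  Lgr Lrot127 (Lpr_bf (K56.f752430 IH) (Lpn K56.v16913))
theorem f699634 : Led Lsl_bt (LP (LK LD1_c6 LD2_c25 LD3_c11)) = K50.v12925 :=
  Lgr Lrot35 (Lpe (K32.f496767 IH) (Lpr_bf (K50.f560099 IH) (Lpr_ff (K56.f699631 IH) (Lpn K50.v12925))))
theorem f157116 : Led Lsl_gt (LP (LK LD1_c5 LD2_c56 LD3_c37)) = (LP (LK LD1_c11 LD2_c38 LD3_c31)) :=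
  Lre_g IH (LK LD1_c5 LD2_c56 LD3_c37) (LK LD1_c11 LD2_c38 LD3_c31) Lrfl Lrfl
theorem f499178 : Led Lsl_gt (LP (LK LD1_c11 LD2_c38 LD3_c31)) = (LP (LK LD1_c12 LD2_c23 LD3_c21)) :=
  Lgr Lrot46 (Lpe (f157116 IH) (Lpr_ft (K56.f499175 IH) (Lpr_at (K56.f499172 IH) (Lpn (LP (LK LD1_c12 LD2_c23 LD3_c21))))))
theorem f753579 : Led Lsl_ct (LP (LK LD1_c20 LD2_c26 LD3_c46)) = (LP (LK LD1_c11 LD2_c38 LD3_c31)) :=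
  Lgr Lrot64 (Lpr_bt (f752431 IH) (Lpqs (K56.f753306 IH) (Lpe (K56.f74741 IH) (Lpe (K41.f74755 IH) (Lpr_ct (K56.f640828 IH) (Lpe (K56.f753298 IH) (Lpe (K56.f744512 IH) (Lpr_gf (K56.f699637 IH) (Lpe (f699634 IH) (Lpr_ct (K56.f116854 IH) (Lpe (f499178 IH) (Lpn (LP (LK LD1_c11 LD2_c38 LD3_c31))))))))))))))
theorem f560078 : Led Lsl_gt (LP (LK LD1_c20 LD2_c37 LD3_c48)) = (LP (LK LD1_c18 LD2_c42 LD3_c9)) :=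
  Lgr Lrot46 (Lpe (f161067 IH) (Lpr_ft (K50.f161066 IH) (Lpr_at (K50.f560072 IH) (Lpn (LP (LK LD1_c18 LD2_c42 LD3_c9))))))
theorem f977192 : Led Lsl_cf (LP (LK LD1_c20 LD2_c37 LD3_c48)) = v50653 :=
  Lgr Lrot169 (Lpr_gt (f560078 IH) (Lpr_ct (K50.f185718 IH) (Lpe (K50.f560082 IH) (Lpe (K63.f116852 IH) (Lpe (f499178 IH) (Lpe (f753579 IH) (Lpe (K56.f117503 IH) (Lpr_df (K75.f572913 IH) (Lpr_gt (f977190 IH) (Lpn v50653))))))))))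
theorem f977195 : Led Lsl_bf (LP (LK LD1_c20 LD2_c33 LD3_c36)) = (LP (LK LD1_c20 LD2_c37 LD3_c48)) :=
  Lgr Lrot90 (Lpr_ct (f545699 IH) (Lpe (K56.f545715 IH) (Lpr_ct (K72.f752089 IH) (Lpr_bt (f977193 IH) (Lpe (f977192 IH) (Lpn (LP (LK LD1_c20 LD2_c37 LD3_c48))))))))
theorem f977196 : Led Lsl_bt (LP (LK LD1_c20 LD2_c37 LD3_c48)) = (LP (LK LD1_c20 LD2_c33 LD3_c36)) :=
  Leop (Lpr_bf (f977195 IH) (Lpn (LP (LK LD1_c20 LD2_c37 LD3_c48))))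
theorem seed_3041 : LEOK LG_b (LK LD1_c20 LD2_c37 LD3_c48) :=
  Leoe_b (LK LD1_c20 LD2_c37 LD3_c48) (f977196 IH)
theorem f977194 : Led Lsl_af (LP (LK LD1_c18 LD2_c25 LD3_c14)) = v50653 :=
  Lgr Lrot36 (Lpe (K67.f881023 IH) (Lpe (K67.f881033 IH) (Lpr_bt (K67.f881075 IH) (Lpe (K72.f881081 IH) (Lpq (K72.f881082 IH) (Lpr_bt (f977193 IH) (Lpn v50653)))))))
theorem f977209 : Led Lsl_et (LP (LK LD1_c18 LD2_c25 LD3_c14)) = (LP (LK LD1_c21 LD2_c3 LD3_c11)) :=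
  Lgr Lrot123 (Lpr_af (f977194 IH) (Lpe (f977187 IH) (Lpe (f614322 IH) (Lpn (LP (LK LD1_c21 LD2_c3 LD3_c11))))))
theorem f977210 : Led Lsl_et (LP (LK LD1_c18 LD2_c25 LD3_c14)) = (LP (LK LD1_c21 LD2_c3 LD3_c11)) :=
  Leop (Lpe (f977209 IH) (Lpn (LP (LK LD1_c18 LD2_c25 LD3_c14))))
theorem seed_3042 : LEOK LG_e (LK LD1_c18 LD2_c25 LD3_c14) :=
  Leoe_e (LK LD1_c18 LD2_c25 LD3_c14) (f977210 IH)
def v50655 : LQ := Led Lsl_dt (LP (LK LD1_c11 LD2_c58 LD3_c8))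
theorem f977220 : Led Lsl_dt (LP (LK LD1_c11 LD2_c58 LD3_c8)) = v50655 :=
  Lrfl
theorem f722225 : Led Lsl_ff (LP (LK LD1_c5 LD2_c7 LD3_c23)) = K72.v14369 :=
  Lgr Lrot3 (Lpr_ft (K72.f722222 IH) (Lpn K72.v14369))
theorem f924543 : Led Lsl_ct K72.v14902 = K72.v14369 :=
  Lgr Lrot40 (Lpr_ff (K73.f924516 IH) (Lpe (K73.f722219 IH) (Lpr_ff (f722225 IH) (Lpn K72.v14369))))
def v42029 : LQ := Led Lsl_ft (LP (LK LD1_c10 LD2_c5 LD3_c13))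
theorem f931947 : Led Lsl_ft (LP (LK LD1_c10 LD2_c5 LD3_c13)) = v42029 :=
  Lrfl
theorem f931949 : Led Lsl_df K72.v14369 = v42029 :=
  Lgr Lrot78 (Lpe (f722225 IH) (Lpr_dt (K73.f600818 IH) (Lpr_ft (f931947 IH) (Lpn v42029))))
theorem f977225 : Led Lsl_gf v42029 = v50655 :=
  Lgr Lrot143 (Lpe (f931949 IH) (Lpe (f924543 IH) (Lpr_df (K72.f924316 IH) (Lpe (K72.f302955 IH) (Lpq (K72.f924253 IH) (Lpe (K56.f752317 IH) (Lpe (K56.f8984 IH) (Lpe (K72.f8926 IH) (Lpr_gt (K72.f387133 IH) (Lpr_dt (f977220 IH) (Lpn v50655)))))))))))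
theorem f931951 : Led Lsl_ff (LP (LK LD1_c10 LD2_c5 LD3_c13)) = v42029 :=
  Lgr Lrot3 (Lpr_ft (f931947 IH) (Lpn v42029))
theorem f301838 : Led Lsl_bt (LP (LK LD1_c10 LD2_c5 LD3_c13)) = (LP (LK LD1_c5 LD2_c7 LD3_c28)) :=
  Lre_b IH (LK LD1_c10 LD2_c5 LD3_c13) (LK LD1_c5 LD2_c7 LD3_c28) Lrfl Lrfl
theorem f406569 : Led Lsl_ft (LP (LK LD1_c5 LD2_c7 LD3_c28)) = (LP (LK LD1_c10 LD2_c5 LD3_c20)) :=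
  Lre_f IH (LK LD1_c5 LD2_c7 LD3_c28) (LK LD1_c10 LD2_c5 LD3_c20) Lrfl Lrfl
theorem f931952 : Led Lsl_bt (LP (LK LD1_c10 LD2_c5 LD3_c20)) = v42029 :=
  Lgr Lrot35 (Lpe (f406569 IH) (Lpe (f301838 IH) (Lpr_ff (f931951 IH) (Lpn v42029))))
def v42034 : LQ := Led Lsl_ct (LP (LK LD1_c10 LD2_c5 LD3_c20))
theorem f931986 : Led Lsl_ct (LP (LK LD1_c10 LD2_c5 LD3_c20)) = v42034 :=
  Lrfl
theorem f723214 : Led Lsl_bt (LP (LK LD1_c18 LD2_c12 LD3_c52)) = (LP (LK LD1_c10 LD2_c17 LD3_c18)) :=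
  Lgr Lrot119 (Lpr_ef (K53.f723210 IH) (Lpe (K53.f723158 IH) (Lpe (K56.f185157 IH) (Lpn (LP (LK LD1_c10 LD2_c17 LD3_c18))))))
theorem f723222 : Led Lsl_bf (LP (LK LD1_c10 LD2_c17 LD3_c45)) = (LP (LK LD1_c10 LD2_c4 LD3_c41)) :=
  Lgr Lrot93 (Lpe (K73.f699392 IH) (Lpr_bt (f723214 IH) (Lpe (K56.f186170 IH) (Lpn (LP (LK LD1_c10 LD2_c4 LD3_c41))))))
def v41984 : LQ := Led Lsl_ct (LP (LK LD1_c10 LD2_c4 LD3_c41))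
theorem f931294 : Led Lsl_ct (LP (LK LD1_c10 LD2_c4 LD3_c41)) = v41984 :=
  Lrfl
theorem f931990 : Led Lsl_gf v41984 = v42034 :=
  Lgr Lrot129 (Lpe (f931294 IH) (Lpe (f723222 IH) (Lpr_gt (K53.f186555 IH) (Lpe (K72.f186553 IH) (Lpr_ct (K72.f186541 IH) (Lpr_gt (K72.f722765 IH) (Lpqs (K72.f752043 IH) (Lpe (K55.f723861 IH) (Lpr_bt (K72.f633769 IH) (Lpe (K72.f710920 IH) (Lpr_ct (f931986 IH) (Lpn v42034))))))))))))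
theorem f932100 : Led Lsl_ct (LP (LK LD1_c18 LD2_c24 LD3_c31)) = (LP (LK LD1_c18 LD2_c42 LD3_c51)) :=
  Lgr Lrot59 (Lpr_cf (K73.f932098 IH) (Lpn (LP (LK LD1_c18 LD2_c42 LD3_c51))))
theorem f977228 : Led Lsl_bt (LP (LK LD1_c18 LD2_c24 LD3_c31)) = v50655 :=
  Lgr Lrot22 (Lpr_ct (f932100 IH) (Lpe (K73.f560036 IH) (Lpe (K53.f186556 IH) (Lpe (K53.f186555 IH) (Lpr_bf (f723222 IH) (Lpr_ct (f931294 IH) (Lpr_gf (f931990 IH) (Lpe (f931986 IH) (Lpr_bt (f931952 IH) (Lpr_gf (f977225 IH) (Lpn v50655)))))))))))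
theorem f249562 : Led Lsl_bt (LP (LK LD1_c5 LD2_c21 LD3_c34)) = (LP (LK LD1_c10 LD2_c33 LD3_c27)) :=
  Lre_b IH (LK LD1_c5 LD2_c21 LD3_c34) (LK LD1_c10 LD2_c33 LD3_c27) Lrfl Lrfl
theorem f215906 : Led Lsl_ct (LP (LK LD1_c10 LD2_c33 LD3_c27)) = (LP (LK LD1_c19 LD2_c7 LD3_c16)) :=
  Lre_c IH (LK LD1_c10 LD2_c33 LD3_c27) (LK LD1_c19 LD2_c7 LD3_c16) Lrfl Lrfl
theorem f249551 : Led Lsl_bt (LP (LK LD1_c9 LD2_c56 LD3_c46)) = (LP (LK LD1_c5 LD2_c2 LD3_c58)) :=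
  Lre_b IH (LK LD1_c9 LD2_c56 LD3_c46) (LK LD1_c5 LD2_c2 LD3_c58) Lrfl Lrfl
theorem f249563 : Led Lsl_ct (LP (LK LD1_c18 LD2_c12 LD3_c11)) = (LP (LK LD1_c9 LD2_c56 LD3_c46)) :=
  Lre_c IH (LK LD1_c18 LD2_c12 LD3_c11) (LK LD1_c9 LD2_c56 LD3_c46) Lrfl Lrfl
theorem f249564 : Led Lsl_bt (LP (LK LD1_c19 LD2_c7 LD3_c16)) = (LP (LK LD1_c18 LD2_c12 LD3_c11)) :=
  Lgr Lrot128 (Lpe (f215906 IH) (Lpe (f249562 IH) (Lpr_cf (K14.f249547 IH) (Lpe (f249551 IH) (Lpe (f249563 IH) (Lpn (LP (LK LD1_c18 LD2_c12 LD3_c11))))))))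
theorem f406258 : Led Lsl_dt (LP (LK LD1_c5 LD2_c21 LD3_c33)) = (LP (LK LD1_c10 LD2_c33 LD3_c27)) :=
  Lre_d IH (LK LD1_c5 LD2_c21 LD3_c33) (LK LD1_c10 LD2_c33 LD3_c27) Lrfl Lrfl
theorem f259588 : Led Lsl_gt (LP (LK LD1_c10 LD2_c33 LD3_c26)) = (LP (LK LD1_c5 LD2_c21 LD3_c33)) :=
  Lre_g IH (LK LD1_c10 LD2_c33 LD3_c26) (LK LD1_c5 LD2_c21 LD3_c33) Lrfl Lrfl
theorem f417599 : Led Lsl_bt (LP (LK LD1_c19 LD2_c7 LD3_c11)) = (LP (LK LD1_c10 LD2_c33 LD3_c26)) :=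
  Lre_b IH (LK LD1_c19 LD2_c7 LD3_c11) (LK LD1_c10 LD2_c33 LD3_c26) Lrfl Lrfl
theorem f417600 : Led Lsl_ct (LP (LK LD1_c28 LD2_c32 LD3_c45)) = (LP (LK LD1_c19 LD2_c7 LD3_c11)) :=
  Lre_c IH (LK LD1_c28 LD2_c32 LD3_c45) (LK LD1_c19 LD2_c7 LD3_c11) Lrfl Lrfl
theorem f924501 : Led Lsl_bt K72.v14902 = K65.v24995 :=
  Lgr Lrot95 (Lpr_df (K72.f924316 IH) (Lpr_bf (f823173 IH) (Lpr_df (K65.f826519 IH) (Lpn K65.v24995))))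
def v24998 : LQ := Led Lsl_ft K65.v5142
theorem f826532 : Led Lsl_ft K65.v5142 = v24998 :=
  Lrfl
theorem f646197 : Led Lsl_at (LP (LK LD1_c2 LD2_c59 LD3_c27)) = (LP (LK LD1_c6 LD2_c6 LD3_c41)) :=
  Lre_a IH (LK LD1_c2 LD2_c59 LD3_c27) (LK LD1_c6 LD2_c6 LD3_c41) Lrfl Lrfl
theorem f751498 : Led Lsl_af K65.v5142 = K74.v16770 :=
  Lgr Lrot117 (Lpe (K65.f646203 IH) (Lpr_at (f646197 IH) (Lpr_dt (K74.f751497 IH) (Lpn K74.v16770))))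
theorem f646207 : Led Lsl_ft (LP (LK LD1_c2 LD2_c59 LD3_c28)) = (LP (LK LD1_c6 LD2_c6 LD3_c41)) :=
  Lre_f IH (LK LD1_c2 LD2_c59 LD3_c28) (LK LD1_c6 LD2_c6 LD3_c41) Lrfl Lrfl
def v5145 : LQ := Led Lsl_dt (LP (LK LD1_c2 LD2_c59 LD3_c28))
theorem f646215 : Led Lsl_dt (LP (LK LD1_c2 LD2_c59 LD3_c28)) = v5145 :=
  Lrfl
theorem f646216 : Led Lsl_df (LP (LK LD1_c2 LD2_c59 LD3_c28)) = v5145 :=
  Lgr Lrot38 (Lpr_dt (f646215 IH) (Lpn v5145))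
theorem f751500 : Led Lsl_ff v5145 = K74.v16770 :=
  Lgr Lrot19 (Lpe (f646216 IH) (Lpr_ft (f646207 IH) (Lpr_dt (K74.f751497 IH) (Lpn K74.v16770))))
theorem f751501 : Led Lsl_ft v5145 = K74.v16770 :=
  Lgr Lrot48 (Lpr_ff (f751500 IH) (Lpn K74.v16770))
theorem f826533 : Led Lsl_af v5145 = v24998 :=
  Lgr Lrot45 (Lpr_ft (f751501 IH) (Lpe (f751498 IH) (Lpr_ft (f826532 IH) (Lpn v24998))))
theorem f826536 : Led Lsl_gt K65.v24995 = v5145 :=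
  Lgr Lrot46 (Lpe (K65.f826516 IH) (Lpr_ft (f826532 IH) (Lpe (f826533 IH) (Lpn v5145))))
theorem f977229 : Led Lsl_df (LP (LK LD1_c28 LD2_c32 LD3_c45)) = (LP (LK LD1_c20 LD2_c56 LD3_c51)) :=
  Lgr Lrot183 (Lpr_ct (f417600 IH) (Lpr_bt (f417599 IH) (Lpr_gt (f259588 IH) (Lpr_dt (f406258 IH) (Lpr_ct (f215906 IH) (Lpr_bt (f249564 IH) (Lpr_gt (K73.f249553 IH) (Lpr_dt (K73.f932102 IH) (Lpe (K73.f932098 IH) (Lpr_bt (f977228 IH) (Lpe (f977225 IH) (Lpe (f931949 IH) (Lpe (K72.f924515 IH) (Lpr_bt (f924501 IH) (Lpr_gt (f826536 IH) (Lpe (f646216 IH) (Lpr_ct (K71.f257338 IH) (Lpr_bt (K74.f190187 IH) (Lpr_gt (K74.f257336 IH) (Lpn (LP (LK LD1_c20 LD2_c56 LD3_c51))))))))))))))))))))))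
theorem f977230 : Led Lsl_dt (LP (LK LD1_c20 LD2_c56 LD3_c51)) = (LP (LK LD1_c28 LD2_c32 LD3_c45)) :=
  Leop (Lpr_df (f977229 IH) (Lpn (LP (LK LD1_c20 LD2_c56 LD3_c51))))
theorem seed_3043 : LEOK LG_d (LK LD1_c20 LD2_c56 LD3_c51) :=
  Leoe_d (LK LD1_c20 LD2_c56 LD3_c51) (f977230 IH)
def v50658 : LQ := Led Lsl_dt (LP (LK LD1_c11 LD2_c58 LD3_c10))
theorem f977266 : Led Lsl_dt (LP (LK LD1_c11 LD2_c58 LD3_c10)) = v50658 :=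
  Lrfl
theorem f977270 : Led Lsl_ff K74.v44575 = v50658 :=
  Lgr Lrot19 (Lpe (K74.f946092 IH) (Lpr_ft (K73.f8874 IH) (Lpr_dt (f977266 IH) (Lpn v50658))))
theorem f977276 : Led Lsl_ft K74.v44575 = v50658 :=
  Lgr Lrot48 (Lpr_ff (f977270 IH) (Lpn v50658))
theorem f977267 : Led Lsl_af (LP (LK LD1_c11 LD2_c58 LD3_c11)) = v50658 :=
  Lgr Lrot117 (Lpr_dt (K73.f8927 IH) (Lpr_at (K73.f412195 IH) (Lpr_dt (f977266 IH) (Lpn v50658))))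
theorem f387132 : Led Lsl_gt (LP (LK LD1_c17 LD2_c58 LD3_c21)) = (LP (LK LD1_c9 LD2_c48 LD3_c5)) :=
  Lre_g IH (LK LD1_c17 LD2_c58 LD3_c21) (LK LD1_c9 LD2_c48 LD3_c5) Lrfl Lrfl
theorem f977278 : K74.v44575 = (LP (LK LD1_c17 LD2_c58 LD3_c21)) :=
  (Llr Lrot52 (Lpr_ft (f977276 IH) (Lpe (f977267 IH) (Lpe (K73.f387094 IH) (Lpe (f387132 IH) (Lpn (LP (LK LD1_c17 LD2_c58 LD3_c21)))))))).symm
theorem f412185 : Led Lsl_at (LP (LK LD1_c5 LD2_c27 LD3_c17)) = (LP (LK LD1_c10 LD2_c45 LD3_c35)) :=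
  Lre_a IH (LK LD1_c5 LD2_c27 LD3_c17) (LK LD1_c10 LD2_c45 LD3_c35) Lrfl Lrfl
theorem f946090 : Led Lsl_af (LP (LK LD1_c10 LD2_c45 LD3_c41)) = K74.v44575 :=
  Lgr Lrot117 (Lpr_dt (K73.f8887 IH) (Lpr_at (f412185 IH) (Lpr_dt (K74.f946089 IH) (Lpn K74.v44575))))
theorem f977279 : Led Lsl_at (LP (LK LD1_c17 LD2_c58 LD3_c21)) = (LP (LK LD1_c10 LD2_c45 LD3_c41)) :=
  Leop (Lpr_af (f946090 IH) (Lpqs (f977278 IH) (Lpn (LP (LK LD1_c17 LD2_c58 LD3_c21)))))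
theorem seed_3044 : LEOK LG_a (LK LD1_c17 LD2_c58 LD3_c21) :=
  Leoe_a (LK LD1_c17 LD2_c58 LD3_c21) (f977279 IH)
def v50674 : LQ := Led Lsl_bt (LP (LK LD1_c11 LD2_c58 LD3_c19))
theorem f977365 : Led Lsl_bt (LP (LK LD1_c11 LD2_c58 LD3_c19)) = v50674 :=
  Lrfl
def v50675 : LQ := Led Lsl_ct (LP (LK LD1_c11 LD2_c58 LD3_c19))
theorem f977367 : Led Lsl_ct (LP (LK LD1_c11 LD2_c58 LD3_c19)) = v50675 :=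
  Lrfl
theorem f957633 : Led Lsl_ff (LP (LK LD1_c11 LD2_c16 LD3_c49)) = K75.v47245 :=
  Lgr Lrot3 (Lpr_ft (K75.f957628 IH) (Lpn K75.v47245))
theorem f556100 : Led Lsl_ct (LP (LK LD1_c3 LD2_c0 LD3_c43)) = (LP (LK LD1_c4 LD2_c31 LD3_c0)) :=
  Lgr Lrot59 (Lpr_cf (K39.f556096 IH) (Lpn (LP (LK LD1_c4 LD2_c31 LD3_c0))))
theorem f561705 : Led Lsl_df (LP (LK LD1_c5 LD2_c43 LD3_c22)) = (LP (LK LD1_c4 LD2_c56 LD3_c57)) :=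
  Lgr Lrot153 (Lpr_gt (K40.f381128 IH) (Lpr_dt (K27.f381127 IH) (Lpe (K27.f181477 IH) (Lpe (K39.f181478 IH) (Lpr_gf (K27.f381116 IH) (Lpe (K17.f178880 IH) (Lpe (K27.f178970 IH) (Lpe (f556100 IH) (Lpr_gt (K40.f561699 IH) (Lpn (LP (LK LD1_c4 LD2_c56 LD3_c57))))))))))))
theorem f561714 : Led Lsl_df (LP (LK LD1_c11 LD2_c40 LD3_c25)) = (LP (LK LD1_c11 LD2_c16 LD3_c49)) :=
  Lgr Lrot70 (Lpr_et (K74.f559474 IH) (Lpe (K40.f559479 IH) (Lpr_et (K40.f561707 IH) (Lpe (f561705 IH) (Lpr_et (K75.f561713 IH) (Lpn (LP (LK LD1_c11 LD2_c16 LD3_c49))))))))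
theorem f957651 : Led Lsl_dt (LP (LK LD1_c20 LD2_c40 LD3_c24)) = K75.v47245 :=
  Lgr Lrot60 (Lpe (K75.f602445 IH) (Lpr_df (f561714 IH) (Lpr_ff (f957633 IH) (Lpn K75.v47245))))
theorem f602449 : Led Lsl_at (LP (LK LD1_c11 LD2_c16 LD3_c49)) = (LP (LK LD1_c11 LD2_c14 LD3_c55)) :=
  Lgr Lrot51 (Lpr_df (K74.f561726 IH) (Lpr_af (K75.f602446 IH) (Lpe (K74.f68863 IH) (Lpn (LP (LK LD1_c11 LD2_c14 LD3_c55))))))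
theorem f957653 : Led Lsl_gf K74.v47124 = K75.v47245 :=
  Lgr Lrot47 (Lpe (K74.f956973 IH) (Lpe (f602449 IH) (Lpr_ff (f957633 IH) (Lpn K75.v47245))))
theorem f595004 : Led Lsl_ct (LP (LK LD1_c6 LD2_c7 LD3_c57)) = (LP (LK LD1_c11 LD2_c57 LD3_c61)) :=
  Lre_c IH (LK LD1_c6 LD2_c7 LD3_c57) (LK LD1_c11 LD2_c57 LD3_c61) Lrfl Lrfl
theorem f539712 : Led Lsl_dt (LP (LK LD1_c6 LD2_c7 LD3_c57)) = (LP (LK LD1_c11 LD2_c58 LD3_c1)) :=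
  Lre_d IH (LK LD1_c6 LD2_c7 LD3_c57) (LK LD1_c11 LD2_c58 LD3_c1) Lrfl Lrfl
theorem f748643 : Led Lsl_dt (LP (LK LD1_c18 LD2_c25 LD3_c54)) = (LP (LK LD1_c21 LD2_c3 LD3_c5)) :=
  Lgr Lrot136 (Lpr_et (K41.f299948 IH) (Lpr_gf (K72.f748633 IH) (Lpe (K56.f426230 IH) (Lpr_dt (K28.f426195 IH) (Lpr_gf (K36.f500655 IH) (Lpq (K36.f539678 IH) (Lpe (K36.f176984 IH) (Lpr_gf (K56.f539674 IH) (Lpe (K56.f427768 IH) (Lpr_dt (f539712 IH) (Lpe (f562510 IH) (Lpn (LP (LK LD1_c21 LD2_c3 LD3_c5))))))))))))))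
theorem f977369 : Led Lsl_gf (LP (LK LD1_c18 LD2_c25 LD3_c54)) = v50675 :=
  Lgr Lrot148 (Lpr_dt (f748643 IH) (Lpr_gt (f562510 IH) (Lpr_dt (K40.f559657 IH) (Lpr_ct (f595004 IH) (Lpr_df (f956975 IH) (Lpr_gf (f957653 IH) (Lpe (f957651 IH) (Lpr_gf (K75.f602463 IH) (Lpr_ct (f977367 IH) (Lpn v50675))))))))))
theorem f186572 : Led Lsl_ct (LP (LK LD1_c2 LD2_c33 LD3_c8)) = (LP (LK LD1_c5 LD2_c11 LD3_c48)) :=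
  Lgr Lrot15 (Lpe (K50.f185125 IH) (Lpr_cf (K10.f186565 IH) (Lpe (K53.f21938 IH) (Lpn (LP (LK LD1_c5 LD2_c11 LD3_c48))))))
theorem f977370 : v50674 = (LP (LK LD1_c10 LD2_c15 LD3_c25)) :=
  (Llr Lrot92 (Lpe (f977365 IH) (Lpr_ct (f977367 IH) (Lpe (f977369 IH) (Lpe (K41.f165111 IH) (Lpr_bt (K41.f165108 IH) (Lpe (K54.f408449 IH) (Lpr_ct (K54.f723961 IH) (Lpqs (K54.f732644 IH) (Lpr_gt (K54.f185274 IH) (Lpe (f186572 IH) (Lpr_bt (K56.f387322 IH) (Lpr_gt (K75.f387330 IH) (Lpn (LP (LK LD1_c10 LD2_c15 LD3_c25)))))))))))))))).symm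
theorem f977372 : Led Lsl_bt (LP (LK LD1_c11 LD2_c58 LD3_c19)) = (LP (LK LD1_c10 LD2_c15 LD3_c25)) :=
  Leop (Lpq (f977370 IH) (Lpe (f977365 IH) (Lpn (LP (LK LD1_c11 LD2_c58 LD3_c19)))))
theorem seed_3045 : LEOK LG_b (LK LD1_c11 LD2_c58 LD3_c19) :=
  Leoe_b (LK LD1_c11 LD2_c58 LD3_c19) (f977372 IH)
def v38761 : LQ := Led Lsl_et (LP (LK LD1_c9 LD2_c15 LD3_c21))
theorem f904352 : Led Lsl_et (LP (LK LD1_c9 LD2_c15 LD3_c21)) = v38761 :=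
  Lrfl
theorem f59948 : Led Lsl_bt (LP (LK LD1_c17 LD2_c9 LD3_c52)) = (LP (LK LD1_c9 LD2_c15 LD3_c21)) :=
  Lre_b IH (LK LD1_c17 LD2_c9 LD3_c52) (LK LD1_c9 LD2_c15 LD3_c21) Lrfl Lrfl
def v50688 : LQ := Led Lsl_gf (LP (LK LD1_c11 LD2_c58 LD3_c26))
theorem f977430 : Led Lsl_gf (LP (LK LD1_c11 LD2_c58 LD3_c26)) = v50688 :=
  Lrfl
def v16142 : LQ := Led Lsl_gf (LP (LK LD1_c5 LD2_c53 LD3_c14))
theorem f746723 : Led Lsl_gf (LP (LK LD1_c5 LD2_c53 LD3_c14)) = v16142 :=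
  Lrfl
theorem f185060 : Led Lsl_gf (LP (LK LD1_c2 LD2_c33 LD3_c38)) = (LP (LK LD1_c2 LD2_c0 LD3_c11)) :=
  Lgr Lrot143 (Lpr_dt (K50.f183382 IH) (Lpe (K10.f181124 IH) (Lpe (K10.f20496 IH) (Lpr_gf (K11.f185052 IH) (Lpe (K9.f8391 IH) (Lpr_gf (K0.f8380 IH) (Lpe (K1.f22407 IH) (Lpr_gt (K9.f182470 IH) (Lpr_dt (K17.f179888 IH) (Lpn (LP (LK LD1_c2 LD2_c0 LD3_c11))))))))))))
theorem f176049 : Led Lsl_et (LP (LK LD1_c11 LD2_c58 LD3_c26)) = (LP (LK LD1_c6 LD2_c8 LD3_c17)) :=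
  Lre_e IH (LK LD1_c11 LD2_c58 LD3_c26) (LK LD1_c6 LD2_c8 LD3_c17) Lrfl Lrfl
theorem f746724 : Led Lsl_dt (LP (LK LD1_c11 LD2_c58 LD3_c26)) = v16142 :=
  Lgr Lrot136 (Lpr_et (f176049 IH) (Lpe (K49.f176041 IH) (Lpe (K36.f175924 IH) (Lpr_dt (K10.f175922 IH) (Lpr_gf (K15.f181132 IH) (Lpe (K50.f183382 IH) (Lpr_gf (f185060 IH) (Lpe (K40.f185068 IH) (Lpe (K40.f198539 IH) (Lpr_gf (f746723 IH) (Lpn v16142)))))))))))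
def v5303 : LQ := Led Lsl_gt (LP (LK LD1_c3 LD2_c5 LD3_c28))
theorem f646962 : Led Lsl_gt (LP (LK LD1_c3 LD2_c5 LD3_c28)) = v5303 :=
  Lrfl
def v25146 : LQ := Led Lsl_dt v5303
theorem f827253 : Led Lsl_dt v5303 = v25146 :=
  Lrfl
theorem f827254 : Led Lsl_df v5303 = v25146 :=
  Lgr Lrot38 (Lpr_dt (f827253 IH) (Lpn v25146))
theorem f977431 : Led Lsl_et v25146 = v50688 :=
  Lgr Lrot121 (Lpe (f827254 IH) (Lpe (f646962 IH) (Lpr_df (K50.f186367 IH) (Lpr_et (K50.f185070 IH) (Lpr_gf (f185060 IH) (Lpe (K40.f185068 IH) (Lpe (K40.f198539 IH) (Lpr_gf (f746723 IH) (Lpe (f746724 IH) (Lpr_gf (f977430 IH) (Lpn v50688)))))))))))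
theorem f302573 : Led Lsl_at (LP (LK LD1_c6 LD2_c16 LD3_c47)) = (LP (LK LD1_c9 LD2_c17 LD3_c61)) :=
  Lgr Lrot100 (Lpr_af (K50.f302569 IH) (Lpn (LP (LK LD1_c9 LD2_c17 LD3_c61))))
theorem f646963 : Led Lsl_gf (LP (LK LD1_c9 LD2_c17 LD3_c61)) = v5303 :=
  Lgr Lrot76 (Lpe (f302573 IH) (Lpe (K50.f186370 IH) (Lpr_gt (f646962 IH) (Lpn v5303))))
theorem f757951 : Led Lsl_ft v5303 = K70.v17249 :=
  Lgr Lrot2 (Lpe (f646963 IH) (Lpe (K70.f302602 IH) (Lpr_af (K70.f757950 IH) (Lpn K70.v17249))))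
theorem f904335 : Led Lsl_dt (LP (LK LD1_c9 LD2_c17 LD3_c60)) = K69.v38760 :=
  Lgr Lrot42 (Lpr_df (K69.f904334 IH) (Lpn K69.v38760))
theorem f904339 : Led Lsl_ff v25146 = K69.v38760 :=
  Lgr Lrot19 (Lpe (f827254 IH) (Lpr_ft (f757951 IH) (Lpq (K70.f904336 IH) (Lpr_dt (f904335 IH) (Lpn K69.v38760)))))
def v16909 : LQ := Led Lsl_et (LP (LK LD1_c6 LD2_c8 LD3_c31))
theorem f752410 : Led Lsl_et (LP (LK LD1_c6 LD2_c8 LD3_c31)) = v16909 :=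
  Lrfl
theorem f752411 : Led Lsl_ef (LP (LK LD1_c6 LD2_c8 LD3_c31)) = v16909 :=
  Lgr Lrot88 (Lpr_et (f752410 IH) (Lpn v16909))
theorem f977433 : Led Lsl_ff v16909 = v50688 :=
  Lgr Lrot72 (Lpe (f752411 IH) (Lpr_ft (K70.f752394 IH) (Lpqs (K70.f881411 IH) (Lpr_et (K69.f904328 IH) (Lpe (f904339 IH) (Lpr_et (f977431 IH) (Lpn v50688)))))))
theorem f904355 : Led Lsl_ef (LP (LK LD1_c9 LD2_c15 LD3_c21)) = v38761 :=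
  Lgr Lrot88 (Lpr_et (f904352 IH) (Lpn v38761))
def v35866 : LQ := Led Lsl_at (LP (LK LD1_c8 LD2_c11 LD3_c60))
theorem f880748 : Led Lsl_at (LP (LK LD1_c8 LD2_c11 LD3_c60)) = v35866 :=
  Lrfl
def v16906 : LQ := Led Lsl_ft (LP (LK LD1_c6 LD2_c8 LD3_c30))
theorem f752402 : Led Lsl_ft (LP (LK LD1_c6 LD2_c8 LD3_c30)) = v16906 :=
  Lrfl
theorem f752403 : Led Lsl_af (LP (LK LD1_c6 LD2_c8 LD3_c31)) = v16906 :=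
  Lgr Lrot45 (Lpr_ft (K70.f752394 IH) (Lpe (K70.f752392 IH) (Lpr_ft (f752402 IH) (Lpn v16906))))
theorem f880750 : Led Lsl_cf v16906 = v35866 :=
  Lgr Lrot1 (Lpe (f752403 IH) (Lpr_ct (K67.f752408 IH) (Lpq (K67.f753499 IH) (Lpr_at (f880748 IH) (Lpn v35866)))))
def v35970 : LQ := Led Lsl_at (LP (LK LD1_c8 LD2_c14 LD3_c41))
theorem f881397 : Led Lsl_at (LP (LK LD1_c8 LD2_c14 LD3_c41)) = v35970 :=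
  Lrfl
theorem f881398 : Led Lsl_af (LP (LK LD1_c8 LD2_c14 LD3_c41)) = v35970 :=
  Lgr Lrot0 (Lpr_at (f881397 IH) (Lpn v35970))
theorem f881399 : Led Lsl_ft (LP (LK LD1_c8 LD2_c14 LD3_c42)) = v35970 :=
  Lgr Lrot2 (Lpr_gt (K67.f54838 IH) (Lpr_gt (K67.f54836 IH) (Lpr_af (f881398 IH) (Lpn v35970))))
theorem f881400 : Led Lsl_ff (LP (LK LD1_c8 LD2_c14 LD3_c42)) = v35970 :=
  Lgr Lrot3 (Lpr_ft (f881399 IH) (Lpn v35970))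
theorem f752404 : Led Lsl_ff (LP (LK LD1_c6 LD2_c8 LD3_c30)) = v16906 :=
  Lgr Lrot3 (Lpr_ft (f752402 IH) (Lpn v16906))
theorem f880752 : Led Lsl_ft K72.v16904 = v35866 :=
  Lgr Lrot4 (Lpe (K72.f752396 IH) (Lpr_ff (f752404 IH) (Lpr_cf (f880750 IH) (Lpn v35866))))
theorem f880749 : Led Lsl_af (LP (LK LD1_c8 LD2_c11 LD3_c60)) = v35866 :=
  Lgr Lrot0 (Lpr_at (f880748 IH) (Lpn v35866))
theorem f880827 : Led Lsl_af K72.v16904 = K67.v35869 :=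
  Lgr Lrot45 (Lpr_ft (f880752 IH) (Lpe (f880749 IH) (Lpr_ft (K67.f880826 IH) (Lpn K67.v35869))))
theorem f881410 : K72.v16904 = v35970 :=
  Lefun (Lecon (Lfl_af (f880827 IH)) (K67.f881407 IH)) (f881397 IH)
theorem f881416 : (LP (LK LD1_c8 LD2_c14 LD3_c42)) = v35866 :=
  Lefun (Lecon (Lfl_ff (f881400 IH)) (f881410 IH).symm) (f880752 IH)
theorem f881419 : v16906 = (LP (LK LD1_c9 LD2_c15 LD3_c21)) :=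
  Lefun (Lecon (Lfl_cf (f880750 IH)) (f881416 IH).symm) (K67.f880778 IH)
theorem f904356 : Led Lsl_at v16909 = v38761 :=
  Lgr Lrot80 (Lpe (f752410 IH) (Lpr_af (f752403 IH) (Lpqs (f881419 IH) (Lpr_ef (f904355 IH) (Lpn v38761)))))
def v50687 : LQ := Led Lsl_gt (LP (LK LD1_c11 LD2_c58 LD3_c26))
theorem f977427 : Led Lsl_gt (LP (LK LD1_c11 LD2_c58 LD3_c26)) = v50687 :=
  Lrfl
theorem f977435 : v38761 = v50687 :=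
  (Llr Lrot26 (Lpe (f904356 IH) (Lpr_ff (f977433 IH) (Lpe (f977430 IH) (Lpr_gt (f977427 IH) (Lpn v50687)))))).symm
theorem f691544 : Led Lsl_et (LP (LK LD1_c6 LD2_c8 LD3_c17)) = (LP (LK LD1_c11 LD2_c58 LD3_c26)) :=
  Lre_e IH (LK LD1_c6 LD2_c8 LD3_c17) (LK LD1_c11 LD2_c58 LD3_c26) Lrfl Lrfl
theorem f924742 : Led Lsl_bf (LP (LK LD1_c21 LD2_c3 LD3_c8)) = (LP (LK LD1_c11 LD2_c58 LD3_c26)) :=
  Lgr Lrot96 (Lpr_et (K72.f539659 IH) (Lpq (K72.f924580 IH) (Lpe (K73.f752297 IH) (Lpr_et (f691544 IH) (Lpn (LP (LK LD1_c11 LD2_c58 LD3_c26)))))))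
theorem f924744 : Led Lsl_bt (LP (LK LD1_c21 LD2_c3 LD3_c8)) = (LP (LK LD1_c11 LD2_c58 LD3_c26)) :=
  Lgr Lrot127 (Lpr_bf (f924742 IH) (Lpn (LP (LK LD1_c11 LD2_c58 LD3_c26))))
theorem f386886 : Led Lsl_ft (LP (LK LD1_c17 LD2_c58 LD3_c20)) = (LP (LK LD1_c9 LD2_c48 LD3_c4)) :=
  Lre_f IH (LK LD1_c17 LD2_c58 LD3_c20) (LK LD1_c9 LD2_c48 LD3_c4) Lrfl Lrfl
theorem f748538 : Led Lsl_cf (LP (LK LD1_c17 LD2_c58 LD3_c20)) = (LP (LK LD1_c21 LD2_c3 LD3_c8)) :=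
  Lgr Lrot108 (Lpr_ft (f386886 IH) (Lpr_ct (K36.f386909 IH) (Lpr_ft (K72.f748536 IH) (Lpn (LP (LK LD1_c21 LD2_c3 LD3_c8))))))
theorem f386893 : Led Lsl_ft (LP (LK LD1_c9 LD2_c48 LD3_c4)) = (LP (LK LD1_c17 LD2_c58 LD3_c20)) :=
  Lre_f IH (LK LD1_c9 LD2_c48 LD3_c4) (LK LD1_c17 LD2_c58 LD3_c20) Lrfl Lrfl
theorem f386916 : Led Lsl_at (LP (LK LD1_c17 LD2_c58 LD3_c20)) = (LP (LK LD1_c10 LD2_c6 LD3_c48)) :=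
  Lgr Lrot66 (Lpe (f386893 IH) (Lpr_af (K36.f386910 IH) (Lpe (K72.f165113 IH) (Lpn (LP (LK LD1_c10 LD2_c6 LD3_c48))))))
theorem f386922 : Led Lsl_af (LP (LK LD1_c17 LD2_c58 LD3_c20)) = (LP (LK LD1_c10 LD2_c6 LD3_c48)) :=
  Lgr Lrot0 (Lpr_at (f386916 IH) (Lpn (LP (LK LD1_c10 LD2_c6 LD3_c48))))
theorem f165125 : Led Lsl_ft (LP (LK LD1_c5 LD2_c8 LD3_c7)) = (LP (LK LD1_c10 LD2_c6 LD3_c48)) :=
  Lre_f IH (LK LD1_c5 LD2_c8 LD3_c7) (LK LD1_c10 LD2_c6 LD3_c48) Lrfl Lrfl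
theorem f53230 : Led Lsl_gt (LP (LK LD1_c5 LD2_c8 LD3_c7)) = (LP (LK LD1_c10 LD2_c6 LD3_c46)) :=
  Lre_g IH (LK LD1_c5 LD2_c8 LD3_c7) (LK LD1_c10 LD2_c6 LD3_c46) Lrfl Lrfl
theorem f386933 : Led Lsl_gf (LP (LK LD1_c17 LD2_c58 LD3_c20)) = (LP (LK LD1_c10 LD2_c6 LD3_c46)) :=
  Lgr Lrot76 (Lpr_af (f386922 IH) (Lpe (f165125 IH) (Lpr_gt (f53230 IH) (Lpn (LP (LK LD1_c10 LD2_c6 LD3_c46))))))
theorem f177279 : Led Lsl_ct (LP (LK LD1_c18 LD2_c25 LD3_c56)) = (LP (LK LD1_c10 LD2_c6 LD3_c46)) :=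
  Lre_c IH (LK LD1_c18 LD2_c25 LD3_c56) (LK LD1_c10 LD2_c6 LD3_c46) Lrfl Lrfl
theorem f408227 : Led Lsl_gt (LP (LK LD1_c18 LD2_c39 LD3_c39)) = (LP (LK LD1_c10 LD2_c15 LD3_c31)) :=
  Lre_g IH (LK LD1_c18 LD2_c39 LD3_c39) (LK LD1_c10 LD2_c15 LD3_c31) Lrfl Lrfl
theorem f929859 : Led Lsl_gf (LP (LK LD1_c18 LD2_c39 LD3_c39)) = K74.v41860 :=
  Lgr Lrot47 (Lpr_gt (f408227 IH) (Lpe (K74.f408228 IH) (Lpr_ff (K74.f929857 IH) (Lpn K74.v41860))))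
theorem f931729 : Led Lsl_at (LP (LK LD1_c16 LD2_c59 LD3_c56)) = (LP (LK LD1_c18 LD2_c39 LD3_c39)) :=
  Lgr Lrot26 (Lpe (K40.f561859 IH) (Lpr_gt (K74.f561867 IH) (Lpq (K74.f931715 IH) (Lpe (f929859 IH) (Lpn (LP (LK LD1_c18 LD2_c39 LD3_c39)))))))
theorem f931739 : Led Lsl_ff (LP (LK LD1_c16 LD2_c52 LD3_c11)) = (LP (LK LD1_c18 LD2_c39 LD3_c39)) :=
  Lgr Lrot30 (Lpe (K75.f586847 IH) (Lpr_ft (K40.f561859 IH) (Lpr_at (f931729 IH) (Lpn (LP (LK LD1_c18 LD2_c39 LD3_c39))))))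
theorem f931741 : Led Lsl_bt (LP (LK LD1_c20 LD2_c40 LD3_c24)) = (LP (LK LD1_c18 LD2_c39 LD3_c39)) :=
  Lgr Lrot35 (Lpe (K75.f602445 IH) (Lpr_bf (K74.f602436 IH) (Lpr_ff (f931739 IH) (Lpn (LP (LK LD1_c18 LD2_c39 LD3_c39))))))
theorem f75945 : Led Lsl_et (LP (LK LD1_c11 LD2_c58 LD3_c18)) = (LP (LK LD1_c6 LD2_c8 LD3_c9)) :=
  Lre_e IH (LK LD1_c11 LD2_c58 LD3_c18) (LK LD1_c6 LD2_c8 LD3_c9) Lrfl Lrfl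
theorem f602457 : Led Lsl_ef (LP (LK LD1_c20 LD2_c40 LD3_c24)) = (LP (LK LD1_c11 LD2_c40 LD3_c61)) :=
  Lgr Lrot20 (Lpr_at (K75.f602451 IH) (Lpr_et (f75945 IH) (Lpe (K53.f75978 IH) (Lpn (LP (LK LD1_c11 LD2_c40 LD3_c61))))))
theorem f924604 : Led Lsl_cf (LP (LK LD1_c18 LD2_c26 LD3_c23)) = (LP (LK LD1_c20 LD2_c40 LD3_c24)) :=
  Lgr Lrot39 (Lpr_et (K72.f921835 IH) (Lpr_ct (K72.f924595 IH) (Lpe (f602457 IH) (Lpn (LP (LK LD1_c20 LD2_c40 LD3_c24))))))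
theorem f165131 : Led Lsl_ct (LP (LK LD1_c10 LD2_c6 LD3_c46)) = (LP (LK LD1_c18 LD2_c25 LD3_c56)) :=
  Lre_c IH (LK LD1_c10 LD2_c6 LD3_c46) (LK LD1_c18 LD2_c25 LD3_c56) Lrfl Lrfl
theorem f931768 : Led Lsl_gf (LP (LK LD1_c18 LD2_c26 LD3_c23)) = (LP (LK LD1_c18 LD2_c25 LD3_c56)) :=
  Lgr Lrot129 (Lpr_cf (f924604 IH) (Lpr_bt (f931741 IH) (Lpr_gt (f408227 IH) (Lpe (K74.f408201 IH) (Lpr_ct (K54.f723085 IH) (Lpqs (K54.f731554 IH) (Lpr_gt (K54.f177259 IH) (Lpr_cf (K32.f177214 IH) (Lpr_bt (K32.f165120 IH) (Lpr_gt (f53230 IH) (Lpr_ct (f165131 IH) (Lpn (LP (LK LD1_c18 LD2_c25 LD3_c56))))))))))))))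
theorem f931773 : Led Lsl_gt (LP (LK LD1_c11 LD2_c58 LD3_c16)) = (LP (LK LD1_c18 LD2_c25 LD3_c56)) :=
  Lgr Lrot5 (Lpr_ft (K72.f412212 IH) (Lpe (K72.f924694 IH) (Lpr_gf (f931768 IH) (Lpn (LP (LK LD1_c18 LD2_c25 LD3_c56))))))
theorem f412158 : Led Lsl_bf (LP (LK LD1_c11 LD2_c58 LD3_c16)) = (LP (LK LD1_c10 LD2_c45 LD3_c42)) :=
  Lgr Lrot24 (Lpr_bt (K71.f412148 IH) (Lpn (LP (LK LD1_c10 LD2_c45 LD3_c42))))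
theorem f277352 : Led Lsl_gt (LP (LK LD1_c10 LD2_c45 LD3_c44)) = (LP (LK LD1_c5 LD2_c27 LD3_c18)) :=
  Lre_g IH (LK LD1_c10 LD2_c45 LD3_c44) (LK LD1_c5 LD2_c27 LD3_c18) Lrfl Lrfl
def v44585 : LQ := Led Lsl_ct (LP (LK LD1_c10 LD2_c45 LD3_c44))
theorem f946135 : Led Lsl_ct (LP (LK LD1_c10 LD2_c45 LD3_c44)) = v44585 :=
  Lrfl
theorem f946136 : Led Lsl_cf (LP (LK LD1_c10 LD2_c45 LD3_c44)) = v44585 :=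
  Lgr Lrot11 (Lpr_ct (f946135 IH) (Lpn v44585))
theorem f977428 : Led Lsl_bt v44585 = v50687 :=
  Lgr Lrot92 (Lpe (f946136 IH) (Lpr_gt (f277352 IH) (Lpe (K71.f412147 IH) (Lpe (f412158 IH) (Lpr_gt (f931773 IH) (Lpr_ct (f177279 IH) (Lpe (f386933 IH) (Lpr_cf (f748538 IH) (Lpr_bt (f924744 IH) (Lpr_gt (f977427 IH) (Lpn v50687)))))))))))
theorem f977429 : Led Lsl_bf v44585 = v50687 :=
  Lgr Lrot24 (Lpr_bt (f977428 IH) (Lpn v50687))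
theorem f977436 : Led Lsl_ef (LP (LK LD1_c17 LD2_c9 LD3_c52)) = v44585 :=
  Lgr Lrot29 (Lpr_bt (f59948 IH) (Lpr_et (f904352 IH) (Lpqs (f977435 IH) (Lpe (f977429 IH) (Lpn v44585)))))
theorem f931277 : Led Lsl_et (LP (LK LD1_c19 LD2_c27 LD3_c47)) = (LP (LK LD1_c10 LD2_c45 LD3_c44)) :=
  Lre_e IH (LK LD1_c19 LD2_c27 LD3_c47) (LK LD1_c10 LD2_c45 LD3_c44) Lrfl Lrfl
theorem f977437 : Led Lsl_ct (LP (LK LD1_c17 LD2_c9 LD3_c52)) = (LP (LK LD1_c19 LD2_c27 LD3_c47)) :=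
  Lgr Lrot15 (Lpr_ef (f977436 IH) (Lpe (f946135 IH) (Lpe (f931277 IH) (Lpn (LP (LK LD1_c19 LD2_c27 LD3_c47))))))
theorem f977438 : Led Lsl_ct (LP (LK LD1_c17 LD2_c9 LD3_c52)) = (LP (LK LD1_c19 LD2_c27 LD3_c47)) :=
  Leop (Lpe (f977437 IH) (Lpn (LP (LK LD1_c17 LD2_c9 LD3_c52))))
theorem seed_3046 : LEOK LG_c (LK LD1_c17 LD2_c9 LD3_c52) :=
  Leoe_c (LK LD1_c17 LD2_c9 LD3_c52) (f977438 IH)
def v35996 : LQ := Led Lsl_bt (LP (LK LD1_c8 LD2_c14 LD3_c61))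
theorem f881585 : Led Lsl_bt (LP (LK LD1_c8 LD2_c14 LD3_c61)) = v35996 :=
  Lrfl
theorem f931503 : (LP (LK LD1_c5 LD2_c8 LD3_c8)) = v35996 :=
  Lefun (Lecon (Lfl_bf (K73.f722310 IH)) (K73.f931502 IH)) (f881585 IH)
def v42906 : LQ := Led Lsl_ft (LP (LK LD1_c10 LD2_c18 LD3_c37))
theorem f936803 : Led Lsl_ft (LP (LK LD1_c10 LD2_c18 LD3_c37)) = v42906 :=
  Lrfl
theorem f936806 : Led Lsl_ff (LP (LK LD1_c10 LD2_c18 LD3_c37)) = v42906 :=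
  Lgr Lrot3 (Lpr_ft (f936803 IH) (Lpn v42906))
theorem f225504 : Led Lsl_ct (LP (LK LD1_c10 LD2_c18 LD3_c37)) = (LP (LK LD1_c5 LD2_c14 LD3_c33)) :=
  Lre_c IH (LK LD1_c10 LD2_c18 LD3_c37) (LK LD1_c5 LD2_c14 LD3_c33) Lrfl Lrfl
theorem f225507 : Led Lsl_ft (LP (LK LD1_c5 LD2_c14 LD3_c33)) = (LP (LK LD1_c10 LD2_c18 LD3_c40)) :=
  Lre_f IH (LK LD1_c5 LD2_c14 LD3_c33) (LK LD1_c10 LD2_c18 LD3_c40) Lrfl Lrfl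
theorem f936807 : Led Lsl_ct (LP (LK LD1_c10 LD2_c18 LD3_c40)) = v42906 :=
  Lgr Lrot40 (Lpe (f225507 IH) (Lpe (f225504 IH) (Lpr_ff (f936806 IH) (Lpn v42906))))
theorem f977450 : Led Lsl_gt v42906 = (LP (LK LD1_c19 LD2_c27 LD3_c47)) :=
  Lgr Lrot65 (Lpe (f936807 IH) (Lpr_bt (K36.f225487 IH) (Lpr_gf (K53.f288069 IH) (Lpqs (f931503 IH) (Lpe (f881585 IH) (Lpe (K57.f739646 IH) (Lpe (K57.f9225 IH) (Lpe (K67.f9226 IH) (Lpe (K67.f9229 IH) (Lpe (f59948 IH) (Lpr_ct (f977437 IH) (Lpn (LP (LK LD1_c19 LD2_c27 LD3_c47))))))))))))))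
theorem f225523 : Led Lsl_at (LP (LK LD1_c10 LD2_c18 LD3_c37)) = (LP (LK LD1_c18 LD2_c43 LD3_c30)) :=
  Lre_a IH (LK LD1_c10 LD2_c18 LD3_c37) (LK LD1_c18 LD2_c43 LD3_c30) Lrfl Lrfl
theorem f977451 : Led Lsl_gf (LP (LK LD1_c18 LD2_c43 LD3_c30)) = (LP (LK LD1_c19 LD2_c27 LD3_c47)) :=
  Lgr Lrot76 (Lpe (f225523 IH) (Lpr_ff (f936806 IH) (Lpr_gt (f977450 IH) (Lpn (LP (LK LD1_c19 LD2_c27 LD3_c47))))))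
theorem f977452 : Led Lsl_gt (LP (LK LD1_c19 LD2_c27 LD3_c47)) = (LP (LK LD1_c18 LD2_c43 LD3_c30)) :=
  Leop (Lpr_gf (f977451 IH) (Lpn (LP (LK LD1_c19 LD2_c27 LD3_c47))))
theorem seed_3047 : LEOK LG_g (LK LD1_c19 LD2_c27 LD3_c47) :=
  Leoe_g (LK LD1_c19 LD2_c27 LD3_c47) (f977452 IH)
theorem f880780 : Led Lsl_et (LP (LK LD1_c8 LD2_c14 LD3_c42)) = (LP (LK LD1_c15 LD2_c30 LD3_c38)) :=
  Lre_e IH (LK LD1_c8 LD2_c14 LD3_c42) (LK LD1_c15 LD2_c30 LD3_c38) Lrfl Lrfl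
theorem f904357 : Led Lsl_ct (LP (LK LD1_c15 LD2_c30 LD3_c38)) = v38761 :=
  Lgr Lrot15 (Lpe (f880780 IH) (Lpr_cf (K67.f880775 IH) (Lpr_ef (f904355 IH) (Lpn v38761))))
theorem f881445 : Led Lsl_bt (LP (LK LD1_c25 LD2_c23 LD3_c47)) = (LP (LK LD1_c15 LD2_c30 LD3_c38)) :=
  Lre_b IH (LK LD1_c25 LD2_c23 LD3_c47) (LK LD1_c15 LD2_c30 LD3_c38) Lrfl Lrfl
theorem f946123 : Led Lsl_bt (LP (LK LD1_c10 LD2_c45 LD3_c44)) = (LP (LK LD1_c19 LD2_c27 LD3_c46)) :=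
  Lre_b IH (LK LD1_c10 LD2_c45 LD3_c44) (LK LD1_c19 LD2_c27 LD3_c46) Lrfl Lrfl
theorem f977453 : Led Lsl_cf (LP (LK LD1_c25 LD2_c23 LD3_c47)) = (LP (LK LD1_c19 LD2_c27 LD3_c46)) :=
  Lgr Lrot97 (Lpr_bt (f881445 IH) (Lpr_ct (f904357 IH) (Lpqs (f977435 IH) (Lpe (f977429 IH) (Lpe (f946136 IH) (Lpr_bt (f946123 IH) (Lpn (LP (LK LD1_c19 LD2_c27 LD3_c46)))))))))
theorem f977454 : Led Lsl_ct (LP (LK LD1_c19 LD2_c27 LD3_c46)) = (LP (LK LD1_c25 LD2_c23 LD3_c47)) :=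
  Leop (Lpr_cf (f977453 IH) (Lpn (LP (LK LD1_c19 LD2_c27 LD3_c46))))
theorem seed_3048 : LEOK LG_c (LK LD1_c19 LD2_c27 LD3_c46) :=
  Leoe_c (LK LD1_c19 LD2_c27 LD3_c46) (f977454 IH)
def v44576 : LQ := Led Lsl_gt (LP (LK LD1_c10 LD2_c45 LD3_c37))
theorem f946101 : Led Lsl_gt (LP (LK LD1_c10 LD2_c45 LD3_c37)) = v44576 :=
  Lrfl
def v50691 : LQ := Led Lsl_gf (LP (LK LD1_c11 LD2_c58 LD3_c28))
theorem f977487 : Led Lsl_gf (LP (LK LD1_c11 LD2_c58 LD3_c28)) = v50691 :=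
  Lrfl
def v44528 : LQ := Led Lsl_at (LP (LK LD1_c10 LD2_c45 LD3_c2))
theorem f945653 : Led Lsl_at (LP (LK LD1_c10 LD2_c45 LD3_c2)) = v44528 :=
  Lrfl
theorem f945656 : Led Lsl_gt K73.v35932 = v44528 :=
  Lgr Lrot46 (Lpr_gf (K73.f931122 IH) (Lpr_ft (K73.f923729 IH) (Lpr_at (f945653 IH) (Lpn v44528))))
theorem f945621 : Led Lsl_ft K73.v35932 = K74.v44527 :=
  Lgr Lrot48 (Lpr_ff (K74.f945619 IH) (Lpn K74.v44527))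
theorem f945617 : Led Lsl_af K72.v24253 = K74.v44527 :=
  Lgr Lrot68 (Lpe (K72.f823106 IH) (Lpr_at (K72.f823107 IH) (Lpq (K73.f931000 IH) (Lpr_ct (K74.f945616 IH) (Lpn K74.v44527)))))
theorem f945657 : Led Lsl_gf K72.v24253 = v44528 :=
  Lgr Lrot76 (Lpr_af (f945617 IH) (Lpe (f945621 IH) (Lpr_gt (f945656 IH) (Lpn v44528))))
theorem f977490 : Led Lsl_df v44528 = v50691 :=
  Lgr Lrot155 (Lpe (f945657 IH) (Lpe (K72.f823106 IH) (Lpr_gt (K68.f54920 IH) (Lpr_ct (K39.f54789 IH) (Lpr_dt (K56.f54800 IH) (Lpe (K1.f55481 IH) (Lpe (K73.f55533 IH) (Lpr_cf (K73.f183482 IH) (Lpr_gf (f977487 IH) (Lpn v50691))))))))))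
theorem f945655 : Led Lsl_ff (LP (LK LD1_c10 LD2_c45 LD3_c13)) = v44528 :=
  Lgr Lrot30 (Lpe (K71.f923313 IH) (Lpr_ft (K73.f923729 IH) (Lpr_at (f945653 IH) (Lpn v44528))))
theorem f421714 : Led Lsl_dt (LP (LK LD1_c10 LD2_c45 LD3_c13)) = (LP (LK LD1_c19 LD2_c26 LD3_c56)) :=
  Lre_d IH (LK LD1_c10 LD2_c45 LD3_c13) (LK LD1_c19 LD2_c26 LD3_c56) Lrfl Lrfl
theorem f977492 : Led Lsl_ft (LP (LK LD1_c19 LD2_c26 LD3_c56)) = v50691 :=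
  Lgr Lrot54 (Lpe (f421714 IH) (Lpr_ff (f945655 IH) (Lpr_df (f977490 IH) (Lpn v50691))))
theorem f421715 : Led Lsl_gt (LP (LK LD1_c19 LD2_c26 LD3_c56)) = (LP (LK LD1_c10 LD2_c45 LD3_c37)) :=
  Lgr Lrot9 (Lpe (f421714 IH) (Lpr_gt (K71.f421707 IH) (Lpr_ct (K39.f195416 IH) (Lpr_gt (K39.f421705 IH) (Lpr_ct (K39.f177486 IH) (Lpe (K45.f55387 IH) (Lpe (K45.f55468 IH) (Lpe (K67.f183076 IH) (Lpe (K73.f198651 IH) (Lpn (LP (LK LD1_c10 LD2_c45 LD3_c37))))))))))))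
theorem f923799 : Led Lsl_dt (LP (LK LD1_c11 LD2_c56 LD3_c10)) = (LP (LK LD1_c18 LD2_c17 LD3_c8)) :=
  Lgr Lrot42 (Lpr_df (K73.f923795 IH) (Lpn (LP (LK LD1_c18 LD2_c17 LD3_c8))))
theorem f421717 : Led Lsl_dt (LP (LK LD1_c19 LD2_c26 LD3_c56)) = (LP (LK LD1_c10 LD2_c45 LD3_c13)) :=
  Lre_d IH (LK LD1_c19 LD2_c26 LD3_c56) (LK LD1_c10 LD2_c45 LD3_c13) Lrfl Lrfl
theorem f923801 : Led Lsl_af (LP (LK LD1_c19 LD2_c26 LD3_c56)) = (LP (LK LD1_c18 LD2_c17 LD3_c8)) :=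
  Lgr Lrot117 (Lpr_dt (f421717 IH) (Lpe (K71.f923313 IH) (Lpr_dt (f923799 IH) (Lpn (LP (LK LD1_c18 LD2_c17 LD3_c8))))))
theorem f977493 : Led Lsl_af (LP (LK LD1_c18 LD2_c43 LD3_c29)) = v50691 :=
  Lgr Lrot45 (Lpe (K73.f603531 IH) (Lpe (f923801 IH) (Lpr_ft (f977492 IH) (Lpn v50691))))
theorem f977494 : v44576 = (LP (LK LD1_c18 LD2_c43 LD3_c29)) :=
  (Llr Lrot46 (Lpe (f946101 IH) (Lpe (f421715 IH) (Lpr_ft (f977492 IH) (Lpe (f977493 IH) (Lpn (LP (LK LD1_c18 LD2_c43 LD3_c29)))))))).symm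
theorem f977495 : Led Lsl_gt (LP (LK LD1_c10 LD2_c45 LD3_c37)) = (LP (LK LD1_c18 LD2_c43 LD3_c29)) :=
  Leop (Lpq (f977494 IH) (Lpe (f946101 IH) (Lpn (LP (LK LD1_c10 LD2_c45 LD3_c37)))))
theorem seed_3049 : LEOK LG_g (LK LD1_c10 LD2_c45 LD3_c37) :=
  Leoe_g (LK LD1_c10 LD2_c45 LD3_c37) (f977495 IH)
def v43387 : LQ := Led Lsl_gt (LP (LK LD1_c10 LD2_c27 LD3_c27))
theorem f938964 : Led Lsl_gt (LP (LK LD1_c10 LD2_c27 LD3_c27)) = v43387 :=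
  Lrfl
theorem f938966 : Led Lsl_cf K73.v42518 = v43387 :=
  Lgr Lrot99 (Lpe (K73.f934456 IH) (Lpe (K19.f186633 IH) (Lpe (K19.f71663 IH) (Lpe (K19.f71666 IH) (Lpe (K19.f48806 IH) (Lpe (K2.f48576 IH) (Lpr_gt (K44.f48588 IH) (Lpr_ct (K73.f186513 IH) (Lpr_gt (f938964 IH) (Lpn v43387))))))))))
theorem f939087 : Led Lsl_bt (LP (LK LD1_c11 LD2_c35 LD3_c43)) = (LP (LK LD1_c20 LD2_c33 LD3_c53)) :=
  Lre_b IH (LK LD1_c11 LD2_c35 LD3_c43) (LK LD1_c20 LD2_c33 LD3_c53) Lrfl Lrfl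
theorem f198656 : Led Lsl_bt (LP (LK LD1_c15 LD2_c26 LD3_c56)) = (LP (LK LD1_c25 LD2_c18 LD3_c37)) :=
  Lre_b IH (LK LD1_c15 LD2_c26 LD3_c56) (LK LD1_c25 LD2_c18 LD3_c37) Lrfl Lrfl
theorem f977497 : Led Lsl_gt (LP (LK LD1_c20 LD2_c33 LD3_c53)) = (LP (LK LD1_c25 LD2_c18 LD3_c37)) :=
  Lgr Lrot164 (Lpe (f939087 IH) (Lpe (K73.f939088 IH) (Lpe (K73.f939164 IH) (Lpr_cf (f938966 IH) (Lpe (f938964 IH) (Lpe (K73.f186582 IH) (Lpr_ct (K73.f186597 IH) (Lpq (f977494 IH) (Lpe (f946101 IH) (Lpr_cf (K73.f198657 IH) (Lpr_bt (f198656 IH) (Lpn (LP (LK LD1_c25 LD2_c18 LD3_c37))))))))))))))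
theorem f977498 : Led Lsl_gt (LP (LK LD1_c20 LD2_c33 LD3_c53)) = (LP (LK LD1_c25 LD2_c18 LD3_c37)) :=
  Leop (Lpe (f977497 IH) (Lpn (LP (LK LD1_c20 LD2_c33 LD3_c53))))
theorem seed_3050 : LEOK LG_g (LK LD1_c20 LD2_c33 LD3_c53) :=
  Leoe_g (LK LD1_c20 LD2_c33 LD3_c53) (f977498 IH)
def v50712 : LQ := Led Lsl_et (LP (LK LD1_c11 LD2_c58 LD3_c37))
theorem f977613 : Led Lsl_et (LP (LK LD1_c11 LD2_c58 LD3_c37)) = v50712 :=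
  Lrfl
theorem f977615 : Led Lsl_ef (LP (LK LD1_c11 LD2_c58 LD3_c37)) = v50712 :=
  Lgr Lrot88 (Lpr_et (f977613 IH) (Lpn v50712))
theorem f598948 : Led Lsl_ef (LP (LK LD1_c8 LD2_c12 LD3_c11)) = (LP (LK LD1_c12 LD2_c10 LD3_c13)) :=
  Lgr Lrot88 (Lpr_et (K74.f598944 IH) (Lpn (LP (LK LD1_c12 LD2_c10 LD3_c13))))
theorem f546895 : Led Lsl_dt (LP (LK LD1_c12 LD2_c10 LD3_c13)) = (LP (LK LD1_c6 LD2_c16 LD3_c35)) :=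
  Lre_d IH (LK LD1_c12 LD2_c10 LD3_c13) (LK LD1_c6 LD2_c16 LD3_c35) Lrfl Lrfl
theorem f546899 : Led Lsl_gt (LP (LK LD1_c12 LD2_c10 LD3_c12)) = (LP (LK LD1_c6 LD2_c16 LD3_c35)) :=
  Lre_g IH (LK LD1_c12 LD2_c10 LD3_c12) (LK LD1_c6 LD2_c16 LD3_c35) Lrfl Lrfl
theorem f977617 : Led Lsl_df (LP (LK LD1_c12 LD2_c10 LD3_c12)) = v50712 :=
  Lgr Lrot170 (Lpr_gt (f546899 IH) (Lpe (f546895 IH) (Lpe (f598948 IH) (Lpe (K39.f407109 IH) (Lpr_dt (K39.f175995 IH) (Lpe (K42.f569476 IH) (Lpe (K41.f132789 IH) (Lpr_et (K74.f132846 IH) (Lpr_gt (K74.f956541 IH) (Lpr_ef (f977615 IH) (Lpn v50712)))))))))))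
theorem f446626 : Led Lsl_bt (LP (LK LD1_c11 LD2_c58 LD3_c37)) = (LP (LK LD1_c6 LD2_c8 LD3_c30)) :=
  Lre_b IH (LK LD1_c11 LD2_c58 LD3_c37) (LK LD1_c6 LD2_c8 LD3_c30) Lrfl Lrfl
theorem f977616 : Led Lsl_bt K70.v16905 = v50712 :=
  Lgr Lrot119 (Lpe (K70.f752398 IH) (Lpe (f446626 IH) (Lpr_ef (f977615 IH) (Lpn v50712))))
def v17250 : LQ := Led Lsl_bt (LP (LK LD1_c6 LD2_c16 LD3_c46))
theorem f757953 : Led Lsl_bt (LP (LK LD1_c6 LD2_c16 LD3_c46)) = v17250 :=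
  Lrfl
theorem f757954 : Led Lsl_bf (LP (LK LD1_c6 LD2_c16 LD3_c46)) = v17250 :=
  Lgr Lrot24 (Lpr_bt (f757953 IH) (Lpn v17250))
theorem f977619 : (LP (LK LD1_c12 LD2_c10 LD3_c12)) = v17250 :=
  (Llr Lrot79 (Lpr_df (f977617 IH) (Lpe (f977616 IH) (Lpe (K70.f752401 IH) (Lpr_bf (f757954 IH) (Lpn v17250)))))).symm
theorem f977620 : Led Lsl_bt (LP (LK LD1_c12 LD2_c10 LD3_c12)) = (LP (LK LD1_c6 LD2_c16 LD3_c46)) :=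
  Leop (Lpr_bf (f757954 IH) (Lpq (f977619 IH) (Lpn (LP (LK LD1_c12 LD2_c10 LD3_c12)))))
theorem seed_3051 : LEOK LG_b (LK LD1_c12 LD2_c10 LD3_c12) :=
  Leoe_b (LK LD1_c12 LD2_c10 LD3_c12) (f977620 IH)
def v48205 : LQ := Led Lsl_gf (LP (LK LD1_c11 LD2_c27 LD3_c45))
theorem f964028 : Led Lsl_gf (LP (LK LD1_c11 LD2_c27 LD3_c45)) = v48205 :=
  Lrfl
theorem f204725 : Led Lsl_et (LP (LK LD1_c12 LD2_c10 LD3_c22)) = (LP (LK LD1_c6 LD2_c16 LD3_c39)) :=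
  Lre_e IH (LK LD1_c12 LD2_c10 LD3_c22) (LK LD1_c6 LD2_c16 LD3_c39) Lrfl Lrfl
theorem f558835 : Led Lsl_et (LP (LK LD1_c12 LD2_c9 LD3_c57)) = (LP (LK LD1_c21 LD2_c15 LD3_c47)) :=
  Lre_e IH (LK LD1_c12 LD2_c9 LD3_c57) (LK LD1_c21 LD2_c15 LD3_c47) Lrfl Lrfl
theorem f604879 : Led Lsl_af (LP (LK LD1_c12 LD2_c10 LD3_c22)) = (LP (LK LD1_c21 LD2_c15 LD3_c47)) :=
  Lgr Lrot50 (Lpr_et (f204725 IH) (Lpr_at (K46.f604871 IH) (Lpr_et (f558835 IH) (Lpn (LP (LK LD1_c21 LD2_c15 LD3_c47))))))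
theorem f604883 : Led Lsl_at (LP (LK LD1_c12 LD2_c10 LD3_c22)) = (LP (LK LD1_c21 LD2_c15 LD3_c47)) :=
  Lgr Lrot100 (Lpr_af (f604879 IH) (Lpn (LP (LK LD1_c21 LD2_c15 LD3_c47))))
theorem f557852 : Led Lsl_ct (LP (LK LD1_c9 LD2_c5 LD3_c42)) = (LP (LK LD1_c12 LD2_c10 LD3_c22)) :=
  Lgr Lrot15 (Lpe (K53.f301995 IH) (Lpr_cf (K40.f557847 IH) (Lpe (f204725 IH) (Lpn (LP (LK LD1_c12 LD2_c10 LD3_c22))))))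
theorem f604885 : Led Lsl_cf (LP (LK LD1_c16 LD2_c57 LD3_c32)) = (LP (LK LD1_c21 LD2_c15 LD3_c47)) :=
  Lgr Lrot1 (Lpr_at (K72.f302017 IH) (Lpr_ct (f557852 IH) (Lpr_at (f604883 IH) (Lpn (LP (LK LD1_c21 LD2_c15 LD3_c47))))))
theorem f604888 : Led Lsl_ct (LP (LK LD1_c16 LD2_c57 LD3_c32)) = (LP (LK LD1_c21 LD2_c15 LD3_c47)) :=
  Lgr Lrot59 (Lpr_cf (f604885 IH) (Lpn (LP (LK LD1_c21 LD2_c15 LD3_c47))))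
theorem f438219 : Led Lsl_bt (LP (LK LD1_c15 LD2_c8 LD3_c9)) = (LP (LK LD1_c8 LD2_c2 LD3_c26)) :=
  Lre_b IH (LK LD1_c15 LD2_c8 LD3_c9) (LK LD1_c8 LD2_c2 LD3_c26) Lrfl Lrfl
theorem f438190 : Led Lsl_et (LP (LK LD1_c11 LD2_c33 LD3_c55)) = (LP (LK LD1_c20 LD2_c31 LD3_c15)) :=
  Lre_e IH (LK LD1_c11 LD2_c33 LD3_c55) (LK LD1_c20 LD2_c31 LD3_c15) Lrfl Lrfl
theorem f438192 : Led Lsl_ct (LP (LK LD1_c20 LD2_c31 LD3_c15)) = (LP (LK LD1_c15 LD2_c8 LD3_c9)) :=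
  Lgr Lrot15 (Lpe (f438190 IH) (Lpr_cf (K32.f438176 IH) (Lpe (K43.f438191 IH) (Lpn (LP (LK LD1_c15 LD2_c8 LD3_c9))))))
theorem f604892 : Led Lsl_bf (LP (LK LD1_c20 LD2_c31 LD3_c15)) = (LP (LK LD1_c21 LD2_c15 LD3_c47)) :=
  Lgr Lrot90 (Lpr_ct (f438192 IH) (Lpr_bt (f438219 IH) (Lpr_ct (K75.f541820 IH) (Lpr_bt (K72.f302014 IH) (Lpr_ct (f604888 IH) (Lpn (LP (LK LD1_c21 LD2_c15 LD3_c47))))))))
theorem f604894 : Led Lsl_bt (LP (LK LD1_c20 LD2_c31 LD3_c15)) = (LP (LK LD1_c21 LD2_c15 LD3_c47)) :=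
  Lgr Lrot127 (Lpr_bf (f604892 IH) (Lpn (LP (LK LD1_c21 LD2_c15 LD3_c47))))
theorem f438220 : Led Lsl_cf (LP (LK LD1_c20 LD2_c31 LD3_c15)) = (LP (LK LD1_c15 LD2_c8 LD3_c9)) :=
  Lgr Lrot11 (Lpr_ct (f438192 IH) (Lpn (LP (LK LD1_c15 LD2_c8 LD3_c9))))
theorem f302021 : Led Lsl_bf (LP (LK LD1_c11 LD2_c27 LD3_c44)) = (LP (LK LD1_c16 LD2_c57 LD3_c32)) :=
  Lgr Lrot24 (Lpr_bt (K72.f302014 IH) (Lpn (LP (LK LD1_c16 LD2_c57 LD3_c32))))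
theorem f604896 : Led Lsl_cf (LP (LK LD1_c8 LD2_c2 LD3_c26)) = (LP (LK LD1_c11 LD2_c27 LD3_c44)) :=
  Lgr Lrot97 (Lpr_bt (K75.f438223 IH) (Lpe (f438220 IH) (Lpr_bt (f604894 IH) (Lpe (f604885 IH) (Lpe (f302021 IH) (Lpn (LP (LK LD1_c11 LD2_c27 LD3_c44))))))))
theorem f604898 : Led Lsl_ct (LP (LK LD1_c11 LD2_c27 LD3_c45)) = (LP (LK LD1_c5 LD2_c49 LD3_c23)) :=
  Lre_c IH (LK LD1_c11 LD2_c27 LD3_c45) (LK LD1_c5 LD2_c49 LD3_c23) Lrfl Lrfl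
theorem f604899 : Led Lsl_at (LP (LK LD1_c8 LD2_c2 LD3_c26)) = (LP (LK LD1_c11 LD2_c27 LD3_c45)) :=
  Lgr Lrot107 (Lpr_cf (f604896 IH) (Lpe (K72.f302016 IH) (Lpe (f604898 IH) (Lpn (LP (LK LD1_c11 LD2_c27 LD3_c45))))))
theorem f499829 : Led Lsl_ft (LP (LK LD1_c15 LD2_c8 LD3_c10)) = (LP (LK LD1_c8 LD2_c2 LD3_c26)) :=
  Lre_f IH (LK LD1_c15 LD2_c8 LD3_c10) (LK LD1_c8 LD2_c2 LD3_c26) Lrfl Lrfl
theorem f964029 : Led Lsl_gt (LP (LK LD1_c15 LD2_c8 LD3_c10)) = v48205 :=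
  Lgr Lrot5 (Lpr_ft (f499829 IH) (Lpr_at (f604899 IH) (Lpr_gf (f964028 IH) (Lpn v48205))))
theorem f302026 : Led Lsl_ft (LP (LK LD1_c5 LD2_c49 LD3_c23)) = (LP (LK LD1_c11 LD2_c27 LD3_c46)) :=
  Lre_f IH (LK LD1_c5 LD2_c49 LD3_c23) (LK LD1_c11 LD2_c27 LD3_c46) Lrfl Lrfl
theorem f931801 : Led Lsl_ft (LP (LK LD1_c12 LD2_c22 LD3_c27)) = (LP (LK LD1_c11 LD2_c27 LD3_c45)) :=
  Lgr Lrot4 (Lpr_cf (K73.f931491 IH) (Lpe (f302026 IH) (Lpe (f604898 IH) (Lpn (LP (LK LD1_c11 LD2_c27 LD3_c45))))))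
theorem f548836 : Led Lsl_et (LP (LK LD1_c5 LD2_c49 LD3_c22)) = (LP (LK LD1_c11 LD2_c27 LD3_c45)) :=
  Lre_e IH (LK LD1_c5 LD2_c49 LD3_c22) (LK LD1_c11 LD2_c27 LD3_c45) Lrfl Lrfl
theorem f438216 : Led Lsl_et (LP (LK LD1_c8 LD2_c2 LD3_c26)) = (LP (LK LD1_c4 LD2_c0 LD3_c50)) :=
  Lre_e IH (LK LD1_c8 LD2_c2 LD3_c26) (LK LD1_c4 LD2_c0 LD3_c50) Lrfl Lrfl
theorem f554399 : Led Lsl_dt (LP (LK LD1_c11 LD2_c27 LD3_c45)) = (LP (LK LD1_c8 LD2_c2 LD3_c26)) :=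
  Lgr Lrot77 (Lpe (f548836 IH) (Lpe (K40.f548823 IH) (Lpr_ef (K39.f554395 IH) (Lpe (K36.f438204 IH) (Lpe (f438216 IH) (Lpn (LP (LK LD1_c8 LD2_c2 LD3_c26))))))))
theorem f499809 : Led Lsl_ft (LP (LK LD1_c8 LD2_c2 LD3_c26)) = (LP (LK LD1_c15 LD2_c8 LD3_c10)) :=
  Lre_f IH (LK LD1_c8 LD2_c2 LD3_c26) (LK LD1_c15 LD2_c8 LD3_c10) Lrfl Lrfl
theorem f931805 : Led Lsl_df (LP (LK LD1_c12 LD2_c22 LD3_c27)) = (LP (LK LD1_c15 LD2_c8 LD3_c10)) :=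
  Lgr Lrot78 (Lpr_ft (f931801 IH) (Lpr_dt (f554399 IH) (Lpr_ft (f499809 IH) (Lpn (LP (LK LD1_c15 LD2_c8 LD3_c10))))))
def v37150 : LQ := Led Lsl_at (LP (LK LD1_c8 LD2_c46 LD3_c30))
theorem f893239 : Led Lsl_at (LP (LK LD1_c8 LD2_c46 LD3_c30)) = v37150 :=
  Lrfl
def v17962 : LQ := Led Lsl_ft (LP (LK LD1_c6 LD2_c24 LD3_c47))
theorem f763002 : Led Lsl_ft (LP (LK LD1_c6 LD2_c24 LD3_c47)) = v17962 :=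
  Lrfl
theorem f763004 : Led Lsl_ff (LP (LK LD1_c6 LD2_c24 LD3_c47)) = v17962 :=
  Lgr Lrot3 (Lpr_ft (f763002 IH) (Lpn v17962))
theorem f763005 : Led Lsl_bt K57.v5558 = v17962 :=
  Lgr Lrot35 (Lpe (K57.f648256 IH) (Lpe (K73.f205681 IH) (Lpr_ff (f763004 IH) (Lpn v17962))))
theorem f544279 : Led Lsl_bt (LP (LK LD1_c4 LD2_c24 LD3_c25)) = (LP (LK LD1_c8 LD2_c46 LD3_c30)) :=
  Lre_b IH (LK LD1_c4 LD2_c24 LD3_c25) (LK LD1_c8 LD2_c46 LD3_c30) Lrfl Lrfl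
theorem f763145 : v17962 = (LP (LK LD1_c8 LD2_c46 LD3_c30)) :=
  Lefun (Lecon (f763005 IH) (K64.f763141 IH)) (f544279 IH)
theorem f893243 : Led Lsl_gt (LP (LK LD1_c12 LD2_c22 LD3_c27)) = v37150 :=
  Lgr Lrot46 (Lpe (K73.f607057 IH) (Lpr_ft (f763002 IH) (Lpqs (f763145 IH) (Lpr_at (f893239 IH) (Lpn v37150)))))
def v47330 : LQ := Led Lsl_ft (LP (LK LD1_c11 LD2_c17 LD3_c51))
theorem f958086 : Led Lsl_ft (LP (LK LD1_c11 LD2_c17 LD3_c51)) = v47330 :=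
  Lrfl
theorem f958090 : Led Lsl_ff (LP (LK LD1_c11 LD2_c17 LD3_c51)) = v47330 :=
  Lgr Lrot3 (Lpr_ft (f958086 IH) (Lpn v47330))
theorem f558665 : Led Lsl_ft (LP (LK LD1_c6 LD2_c8 LD3_c34)) = (LP (LK LD1_c5 LD2_c43 LD3_c54)) :=
  Lgr Lrot54 (Lpe (K36.f428109 IH) (Lpr_ff (K40.f500683 IH) (Lpq (K40.f558656 IH) (Lpe (K40.f541758 IH) (Lpn (LP (LK LD1_c5 LD2_c43 LD3_c54)))))))
theorem f559276 : Led Lsl_af (LP (LK LD1_c3 LD2_c5 LD3_c29)) = (LP (LK LD1_c5 LD2_c43 LD3_c54)) :=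
  Lgr Lrot31 (Lpr_gf (K40.f557404 IH) (Lpr_gf (K42.f559272 IH) (Lpr_ft (f558665 IH) (Lpn (LP (LK LD1_c5 LD2_c43 LD3_c54))))))
theorem f558655 : Led Lsl_et (LP (LK LD1_c11 LD2_c17 LD3_c51)) = (LP (LK LD1_c5 LD2_c43 LD3_c54)) :=
  Lre_e IH (LK LD1_c11 LD2_c17 LD3_c51) (LK LD1_c5 LD2_c43 LD3_c54) Lrfl Lrfl
theorem f559282 : Led Lsl_at (LP (LK LD1_c6 LD2_c16 LD3_c49)) = (LP (LK LD1_c11 LD2_c17 LD3_c51)) :=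
  Lgr Lrot80 (Lpe (K36.f185799 IH) (Lpr_af (f559276 IH) (Lpe (f558655 IH) (Lpn (LP (LK LD1_c11 LD2_c17 LD3_c51))))))
theorem f559284 : Led Lsl_af (LP (LK LD1_c6 LD2_c16 LD3_c49)) = (LP (LK LD1_c11 LD2_c17 LD3_c51)) :=
  Lgr Lrot0 (Lpr_at (f559282 IH) (Lpn (LP (LK LD1_c11 LD2_c17 LD3_c51))))
def v17257 : LQ := Led Lsl_ft (LP (LK LD1_c6 LD2_c16 LD3_c49))
theorem f757969 : Led Lsl_ft (LP (LK LD1_c6 LD2_c16 LD3_c49)) = v17257 :=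
  Lrfl
theorem f958092 : Led Lsl_at v17257 = v47330 :=
  Lgr Lrot66 (Lpe (f757969 IH) (Lpr_af (f559284 IH) (Lpr_ff (f958090 IH) (Lpn v47330))))
theorem f958096 : Led Lsl_gt K73.v17255 = v47330 :=
  Lgr Lrot46 (Lpe (K73.f757967 IH) (Lpr_ft (f757969 IH) (Lpr_at (f958092 IH) (Lpn v47330))))
def v37151 : LQ := Led Lsl_ct (LP (LK LD1_c8 LD2_c46 LD3_c30))
theorem f893248 : Led Lsl_ct (LP (LK LD1_c8 LD2_c46 LD3_c30)) = v37151 :=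
  Lrfl
theorem f893250 : Led Lsl_ff K73.v17960 = v37151 :=
  Lgr Lrot23 (Lpe (K73.f762995 IH) (Lpr_ft (f763002 IH) (Lpqs (f763145 IH) (Lpr_ct (f893248 IH) (Lpn v37151)))))
theorem f893251 : Led Lsl_ft K73.v17960 = v37151 :=
  Lgr Lrot48 (Lpr_ff (f893250 IH) (Lpn v37151))
def v17256 : LQ := Led Lsl_gf (LP (LK LD1_c6 LD2_c16 LD3_c49))
theorem f757968 : Led Lsl_gf (LP (LK LD1_c6 LD2_c16 LD3_c49)) = v17256 :=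
  Lrfl
theorem f958095 : Led Lsl_gf v17256 = v47330 :=
  Lgr Lrot47 (Lpe (f757968 IH) (Lpr_af (f559284 IH) (Lpr_ff (f958090 IH) (Lpn v47330))))
theorem f958097 : Led Lsl_at v37151 = v17256 :=
  Lgr Lrot26 (Lpe (f893251 IH) (Lpqs (K73.f931403 IH) (Lpr_gt (f958096 IH) (Lpe (f958095 IH) (Lpn v17256)))))
theorem f893240 : Led Lsl_af (LP (LK LD1_c8 LD2_c46 LD3_c30)) = v37150 :=
  Lgr Lrot0 (Lpr_at (f893239 IH) (Lpn v37150))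
theorem f958099 : Led Lsl_cf v37150 = v17256 :=
  Lgr Lrot1 (Lpe (f893240 IH) (Lpr_ct (f893248 IH) (Lpr_at (f958097 IH) (Lpn v17256))))
theorem f958100 : Led Lsl_ct v37150 = v17256 :=
  Lgr Lrot59 (Lpr_cf (f958099 IH) (Lpn v17256))
theorem f185813 : Led Lsl_ct (LP (LK LD1_c6 LD2_c16 LD3_c49)) = (LP (LK LD1_c12 LD2_c10 LD3_c34)) :=
  Lre_c IH (LK LD1_c6 LD2_c16 LD3_c49) (LK LD1_c12 LD2_c10 LD3_c34) Lrfl Lrfl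
theorem f558677 : Led Lsl_dt (LP (LK LD1_c12 LD2_c10 LD3_c34)) = (LP (LK LD1_c20 LD2_c14 LD3_c1)) :=
  Lgr Lrot77 (Lpe (K42.f558675 IH) (Lpe (K42.f541818 IH) (Lpe (K45.f554397 IH) (Lpr_df (K40.f558667 IH) (Lpe (K42.f558676 IH) (Lpn (LP (LK LD1_c20 LD2_c14 LD3_c1))))))))
theorem f559286 : Led Lsl_ct (LP (LK LD1_c11 LD2_c17 LD3_c51)) = (LP (LK LD1_c20 LD2_c14 LD3_c1)) :=
  Lre_c IH (LK LD1_c11 LD2_c17 LD3_c51) (LK LD1_c20 LD2_c14 LD3_c1) Lrfl Lrfl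
def v47329 : LQ := Led Lsl_gf (LP (LK LD1_c11 LD2_c17 LD3_c51))
theorem f958082 : Led Lsl_gf (LP (LK LD1_c11 LD2_c17 LD3_c51)) = v47329 :=
  Lrfl
theorem f964030 : Led Lsl_cf v47329 = v48205 :=
  Lgr Lrot169 (Lpe (f958082 IH) (Lpr_ct (f559286 IH) (Lpe (f558677 IH) (Lpe (f185813 IH) (Lpr_gf (f757968 IH) (Lpe (f958100 IH) (Lpe (f893243 IH) (Lpr_df (f931805 IH) (Lpr_gt (f964029 IH) (Lpn v48205))))))))))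
theorem f964031 : Led Lsl_ct v47329 = v48205 :=
  Lgr Lrot59 (Lpr_cf (f964030 IH) (Lpn v48205))
theorem f893249 : Led Lsl_cf (LP (LK LD1_c8 LD2_c46 LD3_c30)) = v37151 :=
  Lgr Lrot11 (Lpr_ct (f893248 IH) (Lpn v37151))
def v50716 : LQ := Led Lsl_gf (LP (LK LD1_c11 LD2_c58 LD3_c40))
theorem f977646 : Led Lsl_gf (LP (LK LD1_c11 LD2_c58 LD3_c40)) = v50716 :=
  Lrfl
def v50676 : LQ := Led Lsl_et (LP (LK LD1_c11 LD2_c58 LD3_c19))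
theorem f977379 : Led Lsl_et (LP (LK LD1_c11 LD2_c58 LD3_c19)) = v50676 :=
  Lrfl
theorem f977381 : Led Lsl_ef (LP (LK LD1_c11 LD2_c58 LD3_c19)) = v50676 :=
  Lgr Lrot88 (Lpr_et (f977379 IH) (Lpn v50676))
theorem f977650 : Led Lsl_dt v50676 = v50716 :=
  Lgr Lrot136 (Lpe (f977381 IH) (Lpe (K75.f68876 IH) (Lpe (K36.f68866 IH) (Lpr_dt (K72.f55962 IH) (Lpe (K36.f427743 IH) (Lpe (K55.f427747 IH) (Lpe (K36.f539656 IH) (Lpe (K36.f427792 IH) (Lpr_dt (K53.f539635 IH) (Lpr_gf (f977646 IH) (Lpn v50716)))))))))))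
theorem f977652 : Led Lsl_df v50676 = v50716 :=
  Lgr Lrot38 (Lpr_dt (f977650 IH) (Lpn v50716))
theorem f977366 : Led Lsl_bf (LP (LK LD1_c11 LD2_c58 LD3_c19)) = v50674 :=
  Lgr Lrot24 (Lpr_bt (f977365 IH) (Lpn v50674))
def v42714 : LQ := Led Lsl_et (LP (LK LD1_c10 LD2_c15 LD3_c25))
theorem f935424 : Led Lsl_et (LP (LK LD1_c10 LD2_c15 LD3_c25)) = v42714 :=
  Lrfl
theorem f935425 : Led Lsl_ef (LP (LK LD1_c10 LD2_c15 LD3_c25)) = v42714 :=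
  Lgr Lrot88 (Lpr_et (f935424 IH) (Lpn v42714))
theorem f977380 : Led Lsl_bf v42714 = v50676 :=
  Lgr Lrot96 (Lpe (f935425 IH) (Lpq (f977370 IH) (Lpe (f977366 IH) (Lpr_et (f977379 IH) (Lpn v50676)))))
theorem f185785 : Led Lsl_bt (LP (LK LD1_c6 LD2_c16 LD3_c49)) = (LP (LK LD1_c3 LD2_c5 LD3_c30)) :=
  Lre_b IH (LK LD1_c6 LD2_c16 LD3_c49) (LK LD1_c3 LD2_c5 LD3_c30) Lrfl Lrfl
theorem f185787 : Led Lsl_df (LP (LK LD1_c6 LD2_c16 LD3_c49)) = (LP (LK LD1_c5 LD2_c13 LD3_c34)) :=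
  Lgr Lrot12 (Lpr_bt (f185785 IH) (Lpr_dt (K36.f185782 IH) (Lpr_bt (K38.f185786 IH) (Lpn (LP (LK LD1_c5 LD2_c13 LD3_c34))))))
theorem f559289 : Led Lsl_df (LP (LK LD1_c5 LD2_c58 LD3_c29)) = (LP (LK LD1_c11 LD2_c17 LD3_c51)) :=
  Lgr Lrot18 (Lpr_at (K38.f386798 IH) (Lpe (f185787 IH) (Lpr_at (f559282 IH) (Lpn (LP (LK LD1_c11 LD2_c17 LD3_c51))))))
theorem f559292 : Led Lsl_dt (LP (LK LD1_c5 LD2_c58 LD3_c29)) = (LP (LK LD1_c11 LD2_c17 LD3_c51)) :=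
  Lgr Lrot42 (Lpr_df (f559289 IH) (Lpn (LP (LK LD1_c11 LD2_c17 LD3_c51))))
theorem f386797 : Led Lsl_et (LP (LK LD1_c5 LD2_c58 LD3_c29)) = (LP (LK LD1_c2 LD2_c55 LD3_c38)) :=
  Lre_e IH (LK LD1_c5 LD2_c58 LD3_c29) (LK LD1_c2 LD2_c55 LD3_c38) Lrfl Lrfl
def v4574 : LQ := Led Lsl_gf (LP (LK LD1_c2 LD2_c30 LD3_c48))
theorem f636206 : Led Lsl_gf (LP (LK LD1_c2 LD2_c30 LD3_c48)) = v4574 :=
  Lrfl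
theorem f636207 : Led Lsl_gt (LP (LK LD1_c2 LD2_c55 LD3_c38)) = v4574 :=
  Lgr Lrot5 (Lpr_ft (K38.f386793 IH) (Lpr_at (K38.f308079 IH) (Lpr_gf (f636206 IH) (Lpn v4574))))
theorem f636209 : Led Lsl_dt (LP (LK LD1_c2 LD2_c33 LD3_c5)) = v4574 :=
  Lgr Lrot57 (Lpr_gf (K72.f302673 IH) (Lpr_cf (K27.f205136 IH) (Lpe (K44.f581978 IH) (Lpr_dt (K40.f563777 IH) (Lpr_gt (K40.f308061 IH) (Lpr_dt (K56.f308057 IH) (Lpe (K32.f194110 IH) (Lpe (K55.f169716 IH) (Lpr_gf (f636206 IH) (Lpn v4574))))))))))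
theorem f636211 : Led Lsl_df (LP (LK LD1_c2 LD2_c33 LD3_c5)) = v4574 :=
  Lgr Lrot38 (Lpr_dt (f636209 IH) (Lpn v4574))
theorem f958084 : Led Lsl_dt v42714 = v47329 :=
  Lgr Lrot136 (Lpe (f935425 IH) (Lpe (K75.f387330 IH) (Lpe (K65.f302654 IH) (Lpr_dt (K27.f289416 IH) (Lpe (K40.f289417 IH) (Lpr_df (f636211 IH) (Lpe (f636207 IH) (Lpe (f386797 IH) (Lpr_dt (f559292 IH) (Lpr_gf (f958082 IH) (Lpn v47329)))))))))))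
theorem f977653 : Led Lsl_bt v47329 = v50716 :=
  Lgr Lrot95 (Lpe (f958084 IH) (Lpr_bf (f977380 IH) (Lpr_df (f977652 IH) (Lpn v50716))))
def v50715 : LQ := Led Lsl_gt (LP (LK LD1_c11 LD2_c58 LD3_c40))
theorem f977638 : Led Lsl_gt (LP (LK LD1_c11 LD2_c58 LD3_c40)) = v50715 :=
  Lrfl
def v20493 : LQ := Led Lsl_dt (LP (LK LD1_c6 LD2_c58 LD3_c18))
theorem f787336 : Led Lsl_dt (LP (LK LD1_c6 LD2_c58 LD3_c18)) = v20493 :=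
  Lrfl
theorem f787340 : Led Lsl_ct (LP (LK LD1_c7 LD2_c19 LD3_c10)) = v20493 :=
  Lgr Lrot7 (Lpr_df (K28.f464189 IH) (Lpe (K47.f455428 IH) (Lpr_df (K47.f511158 IH) (Lpe (K33.f457467 IH) (Lpe (K33.f457470 IH) (Lpr_gt (K61.f457474 IH) (Lpe (K61.f510742 IH) (Lpr_gt (K47.f455153 IH) (Lpr_dt (f787336 IH) (Lpn v20493))))))))))
theorem f787338 : Led Lsl_df (LP (LK LD1_c6 LD2_c58 LD3_c18)) = v20493 :=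
  Lgr Lrot38 (Lpr_dt (f787336 IH) (Lpn v20493))
theorem f790817 : Led Lsl_gf v20493 = K61.v20903 :=
  Lgr Lrot143 (Lpe (f787338 IH) (Lpe (K47.f455283 IH) (Lpe (K47.f455151 IH) (Lpr_gf (K28.f462041 IH) (Lpe (K34.f108035 IH) (Lpe (K28.f108036 IH) (Lpe (K33.f465653 IH) (Lpr_gt (K32.f440174 IH) (Lpr_dt (K61.f790812 IH) (Lpn K61.v20903))))))))))
theorem f590109 : Led Lsl_bf (LP (LK LD1_c12 LD2_c23 LD3_c3)) = (LP (LK LD1_c15 LD2_c8 LD3_c7)) :=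
  Lgr Lrot24 (Lpr_bt (K68.f590107 IH) (Lpn (LP (LK LD1_c15 LD2_c8 LD3_c7))))
theorem f977641 : Led Lsl_ct (LP (LK LD1_c15 LD2_c8 LD3_c7)) = v50715 :=
  Lgr Lrot63 (Lpe (f590109 IH) (Lpr_gt (K55.f608437 IH) (Lpe (K61.f441621 IH) (Lpr_ct (K61.f790818 IH) (Lpe (f790817 IH) (Lpe (f787340 IH) (Lpr_bt (K43.f464193 IH) (Lpe (K43.f574916 IH) (Lpr_ct (K50.f604825 IH) (Lpr_gt (f977638 IH) (Lpn v50715)))))))))))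
theorem f763898 : Led Lsl_ff (LP (LK LD1_c14 LD2_c59 LD3_c31)) = (LP (LK LD1_c8 LD2_c45 LD3_c54)) :=
  Lgr Lrot30 (Lpe (K68.f763890 IH) (Lpr_ft (K68.f763896 IH) (Lpr_at (K68.f763663 IH) (Lpn (LP (LK LD1_c8 LD2_c45 LD3_c54))))))
theorem f763914 : Led Lsl_ft (LP (LK LD1_c14 LD2_c59 LD3_c31)) = (LP (LK LD1_c8 LD2_c45 LD3_c54)) :=
  Lgr Lrot48 (Lpr_ff (f763898 IH) (Lpn (LP (LK LD1_c8 LD2_c45 LD3_c54))))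
theorem f763916 : Led Lsl_af (LP (LK LD1_c15 LD2_c8 LD3_c7)) = (LP (LK LD1_c8 LD2_c45 LD3_c54)) :=
  Lgr Lrot45 (Lpe (K68.f763894 IH) (Lpr_at (K68.f763892 IH) (Lpr_ft (f763914 IH) (Lpn (LP (LK LD1_c8 LD2_c45 LD3_c54))))))
theorem f977642 : Led Lsl_af K73.v37133 = v50715 :=
  Lgr Lrot68 (Lpe (K73.f893160 IH) (Lpe (f763916 IH) (Lpr_ct (f977641 IH) (Lpn v50715))))
theorem f977645 : Led Lsl_at K73.v37133 = v50715 :=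
  Lgr Lrot100 (Lpr_af (f977642 IH) (Lpn v50715))
theorem f977648 : Led Lsl_ff K73.v37133 = v50716 :=
  Lgr Lrot52 (Lpr_at (f977645 IH) (Lpe (f977638 IH) (Lpr_gf (f977646 IH) (Lpn v50716))))
theorem f977654 : v47329 = v37151 :=
  (Llr Lrot61 (Lpr_bt (f977653 IH) (Lpe (f977648 IH) (Lpe (K73.f893159 IH) (Lpr_ft (f893251 IH) (Lpn v37151)))))).symm
theorem f977655 : v48205 = (LP (LK LD1_c8 LD2_c46 LD3_c30)) :=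
  Lefun (Lecon (f964031 IH) (f977654 IH)) (Lfl_cf (f893249 IH))
theorem f977657 : Led Lsl_gt (LP (LK LD1_c8 LD2_c46 LD3_c30)) = (LP (LK LD1_c11 LD2_c27 LD3_c45)) :=
  Leop (Lpr_gf (f964028 IH) (Lpqs (f977655 IH) (Lpn (LP (LK LD1_c8 LD2_c46 LD3_c30)))))
theorem seed_3052 : LEOK LG_g (LK LD1_c8 LD2_c46 LD3_c30) :=
  Leoe_g (LK LD1_c8 LD2_c46 LD3_c30) (f977657 IH)
theorem f497418 : Led Lsl_bt (LP (LK LD1_c24 LD2_c56 LD3_c59)) = (LP (LK LD1_c15 LD2_c8 LD3_c10)) :=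
  Lre_b IH (LK LD1_c24 LD2_c56 LD3_c59) (LK LD1_c15 LD2_c8 LD3_c10) Lrfl Lrfl
theorem f443892 : Led Lsl_ct (LP (LK LD1_c9 LD2_c19 LD3_c29)) = (LP (LK LD1_c17 LD2_c15 LD3_c8)) :=
  Lre_c IH (LK LD1_c9 LD2_c19 LD3_c29) (LK LD1_c17 LD2_c15 LD3_c8) Lrfl Lrfl
theorem f443893 : Led Lsl_gt (LP (LK LD1_c17 LD2_c15 LD3_c8)) = (LP (LK LD1_c27 LD2_c5 LD3_c14)) :=
  Lre_g IH (LK LD1_c17 LD2_c15 LD3_c8) (LK LD1_c27 LD2_c5 LD3_c14) Lrfl Lrfl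
theorem f977663 : Led Lsl_ct (LP (LK LD1_c24 LD2_c56 LD3_c59)) = (LP (LK LD1_c27 LD2_c5 LD3_c14)) :=
  Lgr Lrot63 (Lpr_bt (f497418 IH) (Lpr_gt (f964029 IH) (Lpqs (f977655 IH) (Lpe (f544279 IH) (Lpe (K43.f544280 IH) (Lpr_gt (K37.f210826 IH) (Lpe (K39.f59242 IH) (Lpr_bt (K41.f201964 IH) (Lpr_gt (K37.f138603 IH) (Lpr_ct (f443892 IH) (Lpr_gt (f443893 IH) (Lpn (LP (LK LD1_c27 LD2_c5 LD3_c14))))))))))))))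
theorem f621836 : Led Lsl_bt (LP (LK LD1_c9 LD2_c19 LD3_c29)) = (LP (LK LD1_c17 LD2_c15 LD3_c7)) :=
  Lre_b IH (LK LD1_c9 LD2_c19 LD3_c29) (LK LD1_c17 LD2_c15 LD3_c7) Lrfl Lrfl
theorem f559291 : Led Lsl_ct (LP (LK LD1_c20 LD2_c14 LD3_c1)) = (LP (LK LD1_c11 LD2_c17 LD3_c51)) :=
  Lre_c IH (LK LD1_c20 LD2_c14 LD3_c1) (LK LD1_c11 LD2_c17 LD3_c51) Lrfl Lrfl
theorem f570696 : Led Lsl_bf (LP (LK LD1_c16 LD2_c30 LD3_c19)) = (LP (LK LD1_c20 LD2_c14 LD3_c1)) :=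
  Lgr Lrot24 (Lpr_bt (K42.f570691 IH) (Lpn (LP (LK LD1_c20 LD2_c14 LD3_c1))))
theorem f977665 : Led Lsl_gf (LP (LK LD1_c17 LD2_c15 LD3_c7)) = (LP (LK LD1_c16 LD2_c30 LD3_c19)) :=
  Lgr Lrot124 (Lpe (f621836 IH) (Lpr_ct (f443892 IH) (Lpr_gt (f443893 IH) (Lpe (f977663 IH) (Lpr_bt (f497418 IH) (Lpr_gt (f964029 IH) (Lpqs (f977655 IH) (Lpr_ct (f893248 IH) (Lpq (f977654 IH) (Lpe (f958082 IH) (Lpe (f559291 IH) (Lpe (f570696 IH) (Lpn (LP (LK LD1_c16 LD2_c30 LD3_c19)))))))))))))))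
theorem f977666 : Led Lsl_gt (LP (LK LD1_c16 LD2_c30 LD3_c19)) = (LP (LK LD1_c17 LD2_c15 LD3_c7)) :=
  Leop (Lpr_gf (f977665 IH) (Lpn (LP (LK LD1_c16 LD2_c30 LD3_c19))))
theorem seed_3053 : LEOK LG_g (LK LD1_c16 LD2_c30 LD3_c19) :=
  Leoe_g (LK LD1_c16 LD2_c30 LD3_c19) (f977666 IH)
def v50784 : LQ := Led Lsl_ft (LP (LK LD1_c11 LD2_c59 LD3_c36))
theorem f978006 : Led Lsl_ft (LP (LK LD1_c11 LD2_c59 LD3_c36)) = v50784 :=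
  Lrfl
theorem f978009 : Led Lsl_ff (LP (LK LD1_c11 LD2_c59 LD3_c36)) = v50784 :=
  Lgr Lrot3 (Lpr_ft (f978006 IH) (Lpn v50784))
theorem f38445 : Led Lsl_af (LP (LK LD1_c8 LD2_c48 LD3_c38)) = (LP (LK LD1_c11 LD2_c59 LD3_c36)) :=
  Lgr Lrot0 (Lpr_at (K11.f38439 IH) (Lpn (LP (LK LD1_c11 LD2_c59 LD3_c36))))
theorem f38444 : Led Lsl_gt (LP (LK LD1_c16 LD2_c28 LD3_c58)) = (LP (LK LD1_c8 LD2_c48 LD3_c38)) :=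
  Lre_g IH (LK LD1_c16 LD2_c28 LD3_c58) (LK LD1_c8 LD2_c48 LD3_c38) Lrfl Lrfl
theorem f978012 : Led Lsl_gf (LP (LK LD1_c16 LD2_c28 LD3_c58)) = v50784 :=
  Lgr Lrot47 (Lpr_gt (f38444 IH) (Lpr_af (f38445 IH) (Lpr_ff (f978009 IH) (Lpn v50784))))
theorem f763238 : Led Lsl_ft (LP (LK LD1_c9 LD2_c47 LD3_c0)) = (LP (LK LD1_c8 LD2_c47 LD3_c22)) :=
  Lgr Lrot54 (Lpr_df (K6.f70239 IH) (Lpe (K64.f70269 IH) (Lpr_df (K64.f763197 IH) (Lpn (LP (LK LD1_c8 LD2_c47 LD3_c22))))))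
theorem f763339 : Led Lsl_ff (LP (LK LD1_c9 LD2_c47 LD3_c0)) = (LP (LK LD1_c8 LD2_c47 LD3_c22)) :=
  Lgr Lrot3 (Lpr_ft (f763238 IH) (Lpn (LP (LK LD1_c8 LD2_c47 LD3_c22))))
theorem f38239 : Led Lsl_cf (LP (LK LD1_c2 LD2_c10 LD3_c7)) = (LP (LK LD1_c2 LD2_c9 LD3_c48)) :=
  Lgr Lrot39 (Lpr_et (K1.f38238 IH) (Lpr_ct (K1.f38002 IH) (Lpr_et (K1.f34748 IH) (Lpn (LP (LK LD1_c2 LD2_c9 LD3_c48))))))
theorem f38455 : Led Lsl_ct (LP (LK LD1_c8 LD2_c48 LD3_c38)) = (LP (LK LD1_c4 LD2_c25 LD3_c32)) :=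
  Lre_c IH (LK LD1_c8 LD2_c48 LD3_c38) (LK LD1_c4 LD2_c25 LD3_c32) Lrfl Lrfl
theorem f445080 : Led Lsl_cf (LP (LK LD1_c16 LD2_c28 LD3_c58)) = (LP (LK LD1_c9 LD2_c47 LD3_c0)) :=
  Lgr Lrot169 (Lpr_gt (f38444 IH) (Lpr_ct (f38455 IH) (Lpe (K11.f38276 IH) (Lpr_cf (f38239 IH) (Lpe (K40.f34749 IH) (Lpr_cf (K41.f445069 IH) (Lpe (K41.f101825 IH) (Lpe (K1.f36037 IH) (Lpr_gt (K61.f443113 IH) (Lpn (LP (LK LD1_c9 LD2_c47 LD3_c0))))))))))))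
theorem f408546 : Led Lsl_ct (LP (LK LD1_c16 LD2_c26 LD3_c52)) = (LP (LK LD1_c8 LD2_c47 LD3_c22)) :=
  Lre_c IH (LK LD1_c16 LD2_c26 LD3_c52) (LK LD1_c8 LD2_c47 LD3_c22) Lrfl Lrfl
theorem f763345 : Led Lsl_ft (LP (LK LD1_c16 LD2_c28 LD3_c58)) = (LP (LK LD1_c16 LD2_c26 LD3_c52)) :=
  Lgr Lrot4 (Lpr_cf (f445080 IH) (Lpr_ff (f763339 IH) (Lpe (f408546 IH) (Lpn (LP (LK LD1_c16 LD2_c26 LD3_c52))))))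
theorem f408547 : Led Lsl_ct (LP (LK LD1_c8 LD2_c47 LD3_c22)) = (LP (LK LD1_c16 LD2_c26 LD3_c52)) :=
  Lre_c IH (LK LD1_c8 LD2_c47 LD3_c22) (LK LD1_c16 LD2_c26 LD3_c52) Lrfl Lrfl
theorem f763081 : Led Lsl_at (LP (LK LD1_c16 LD2_c26 LD3_c52)) = (LP (LK LD1_c16 LD2_c28 LD3_c57)) :=
  Lgr Lrot107 (Lpe (f408547 IH) (Lpr_af (K64.f763076 IH) (Lpr_cf (K64.f763058 IH) (Lpn (LP (LK LD1_c16 LD2_c28 LD3_c57))))))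
theorem f763347 : Led Lsl_af (LP (LK LD1_c16 LD2_c28 LD3_c58)) = (LP (LK LD1_c16 LD2_c26 LD3_c55)) :=
  Lgr Lrot45 (Lpr_ft (f763345 IH) (Lpr_at (f763081 IH) (Lpe (K64.f763068 IH) (Lpn (LP (LK LD1_c16 LD2_c26 LD3_c55))))))
theorem f978013 : Led Lsl_gt (LP (LK LD1_c16 LD2_c28 LD3_c57)) = v50784 :=
  Lgr Lrot5 (Lpe (K64.f763068 IH) (Lpe (f763347 IH) (Lpr_gf (f978012 IH) (Lpn v50784))))
theorem f82148 : Led Lsl_et (LP (LK LD1_c2 LD2_c54 LD3_c32)) = (LP (LK LD1_c5 LD2_c56 LD3_c19)) :=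
  Lre_e IH (LK LD1_c2 LD2_c54 LD3_c32) (LK LD1_c5 LD2_c56 LD3_c19) Lrfl Lrfl
theorem f82149 : Led Lsl_bf (LP (LK LD1_c4 LD2_c58 LD3_c2)) = (LP (LK LD1_c5 LD2_c56 LD3_c19)) :=
  Lgr Lrot96 (Lpr_et (K40.f37566 IH) (Lpr_bt (K2.f82129 IH) (Lpr_et (f82148 IH) (Lpn (LP (LK LD1_c5 LD2_c56 LD3_c19))))))
theorem f82166 : Led Lsl_ct (LP (LK LD1_c5 LD2_c56 LD3_c19)) = (LP (LK LD1_c11 LD2_c37 LD3_c59)) :=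
  Lre_c IH (LK LD1_c5 LD2_c56 LD3_c19) (LK LD1_c11 LD2_c37 LD3_c59) Lrfl Lrfl
theorem f82167 : Led Lsl_gt (LP (LK LD1_c20 LD2_c36 LD3_c42)) = (LP (LK LD1_c11 LD2_c37 LD3_c59)) :=
  Lre_g IH (LK LD1_c20 LD2_c36 LD3_c42) (LK LD1_c11 LD2_c37 LD3_c59) Lrfl Lrfl
theorem f978011 : Led Lsl_ct (LP (LK LD1_c11 LD2_c59 LD3_c37)) = v50784 :=
  Lgr Lrot40 (Lpe (K50.f35750 IH) (Lpe (K11.f35689 IH) (Lpr_ff (f978009 IH) (Lpn v50784))))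
theorem f70944 : Led Lsl_dt (LP (LK LD1_c17 LD2_c1 LD3_c9)) = (LP (LK LD1_c9 LD2_c8 LD3_c31)) :=
  Lre_d IH (LK LD1_c17 LD2_c1 LD3_c9) (LK LD1_c9 LD2_c8 LD3_c31) Lrfl Lrfl
theorem f72199 : Led Lsl_bt (LP (LK LD1_c11 LD2_c59 LD3_c37)) = (LP (LK LD1_c17 LD2_c1 LD3_c9)) :=
  Lgr Lrot95 (Lpe (K1.f35745 IH) (Lpr_bf (K2.f72189 IH) (Lpe (f70944 IH) (Lpn (LP (LK LD1_c17 LD2_c1 LD3_c9))))))
theorem f621839 : Led Lsl_et (LP (LK LD1_c27 LD2_c5 LD3_c13)) = (LP (LK LD1_c17 LD2_c15 LD3_c7)) :=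
  Lre_e IH (LK LD1_c27 LD2_c5 LD3_c13) (LK LD1_c17 LD2_c15 LD3_c7) Lrfl Lrfl
theorem f158798 : Led Lsl_gt (LP (LK LD1_c26 LD2_c26 LD3_c41)) = (LP (LK LD1_c16 LD2_c29 LD3_c51)) :=
  Lre_g IH (LK LD1_c26 LD2_c26 LD3_c41) (LK LD1_c16 LD2_c29 LD3_c51) Lrfl Lrfl
theorem f977667 : Led Lsl_dt (LP (LK LD1_c27 LD2_c5 LD3_c13)) = (LP (LK LD1_c26 LD2_c26 LD3_c41)) :=
  Lgr Lrot136 (Lpr_et (f621839 IH) (Lpr_gf (f977665 IH) (Lpr_ef (K42.f570698 IH) (Lpr_dt (K36.f498928 IH) (Lpe (K32.f26872 IH) (Lpe (K8.f36568 IH) (Lpe (K8.f161081 IH) (Lpe (K39.f158743 IH) (Lpr_dt (K41.f158752 IH) (Lpe (f158798 IH) (Lpn (LP (LK LD1_c26 LD2_c26 LD3_c41)))))))))))))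
theorem f138618 : Led Lsl_bt (LP (LK LD1_c17 LD2_c15 LD3_c10)) = (LP (LK LD1_c27 LD2_c5 LD3_c13)) :=
  Lre_b IH (LK LD1_c17 LD2_c15 LD3_c10) (LK LD1_c27 LD2_c5 LD3_c13) Lrfl Lrfl
theorem f138612 : Led Lsl_df (LP (LK LD1_c17 LD2_c15 LD3_c10)) = (LP (LK LD1_c26 LD2_c55 LD3_c41)) :=
  Lgr Lrot38 (Lpr_dt (K37.f138605 IH) (Lpn (LP (LK LD1_c26 LD2_c55 LD3_c41))))
theorem f977669 : Led Lsl_bf (LP (LK LD1_c26 LD2_c55 LD3_c41)) = (LP (LK LD1_c26 LD2_c26 LD3_c41)) :=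
  Lgr Lrot93 (Lpe (f138612 IH) (Lpr_bt (f138618 IH) (Lpr_dt (f977667 IH) (Lpn (LP (LK LD1_c26 LD2_c26 LD3_c41))))))
theorem f978014 : Led Lsl_cf (LP (LK LD1_c20 LD2_c36 LD3_c42)) = (LP (LK LD1_c26 LD2_c26 LD3_c41)) :=
  Lgr Lrot160 (Lpr_gt (f82167 IH) (Lpe (f82166 IH) (Lpe (f82149 IH) (Lpr_gt (K47.f37408 IH) (Lpr_ct (K64.f763061 IH) (Lpr_gt (f978013 IH) (Lpe (f978011 IH) (Lpr_bt (f72199 IH) (Lpr_gt (K37.f70954 IH) (Lpr_bf (f977669 IH) (Lpn (LP (LK LD1_c26 LD2_c26 LD3_c41)))))))))))))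
theorem f978015 : Led Lsl_ct (LP (LK LD1_c26 LD2_c26 LD3_c41)) = (LP (LK LD1_c20 LD2_c36 LD3_c42)) :=
  Leop (Lpr_cf (f978014 IH) (Lpn (LP (LK LD1_c26 LD2_c26 LD3_c41))))
theorem seed_3054 : LEOK LG_c (LK LD1_c26 LD2_c26 LD3_c41) :=
  Leoe_c (LK LD1_c26 LD2_c26 LD3_c41) (f978015 IH)
def v50826 : LQ := Led Lsl_ft (LP (LK LD1_c11 LD2_c59 LD3_c59))
theorem f978186 : Led Lsl_ft (LP (LK LD1_c11 LD2_c59 LD3_c59)) = v50826 :=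
  Lrfl
theorem f25453 : Led Lsl_bt (LP (LK LD1_c6 LD2_c9 LD3_c28)) = (LP (LK LD1_c11 LD2_c59 LD3_c59)) :=
  Lre_b IH (LK LD1_c6 LD2_c9 LD3_c28) (LK LD1_c11 LD2_c59 LD3_c59) Lrfl Lrfl
theorem f702172 : Led Lsl_bt (LP (LK LD1_c4 LD2_c42 LD3_c25)) = (LP (LK LD1_c9 LD2_c19 LD3_c9)) :=
  Lre_b IH (LK LD1_c4 LD2_c42 LD3_c25) (LK LD1_c9 LD2_c19 LD3_c9) Lrfl Lrfl
theorem f783156 : Led Lsl_gt (LP (LK LD1_c17 LD2_c14 LD3_c31)) = (LP (LK LD1_c9 LD2_c19 LD3_c10)) :=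
  Lgr Lrot46 (Lpe (K60.f82798 IH) (Lpr_ft (K60.f783147 IH) (Lpe (K60.f783126 IH) (Lpn (LP (LK LD1_c9 LD2_c19 LD3_c10))))))
theorem f783346 : Led Lsl_gt (LP (LK LD1_c11 LD2_c59 LD3_c59)) = (LP (LK LD1_c12 LD2_c27 LD3_c18)) :=
  Lgr Lrot82 (Lpe (f25453 IH) (Lpr_ct (K60.f25422 IH) (Lpe (K60.f25489 IH) (Lpr_cf (K70.f765912 IH) (Lpe (K60.f783324 IH) (Lpr_gf (K60.f783342 IH) (Lpe (f702172 IH) (Lpr_ct (K60.f154621 IH) (Lpe (f783156 IH) (Lpr_cf (K60.f82799 IH) (Lpn (LP (LK LD1_c12 LD2_c27 LD3_c18)))))))))))))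
def v50824 : LQ := Led Lsl_at (LP (LK LD1_c11 LD2_c59 LD3_c59))
theorem f978175 : Led Lsl_at (LP (LK LD1_c11 LD2_c59 LD3_c59)) = v50824 :=
  Lrfl
theorem f978176 : Led Lsl_af (LP (LK LD1_c11 LD2_c59 LD3_c59)) = v50824 :=
  Lgr Lrot0 (Lpr_at (f978175 IH) (Lpn v50824))
theorem f783781 : Led Lsl_cf (LP (LK LD1_c21 LD2_c4 LD3_c41)) = (LP (LK LD1_c17 LD2_c14 LD3_c32)) :=
  Lgr Lrot11 (Lpr_ct (K60.f783776 IH) (Lpn (LP (LK LD1_c17 LD2_c14 LD3_c32))))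
theorem f25471 : Led Lsl_ct (LP (LK LD1_c6 LD2_c41 LD3_c43)) = (LP (LK LD1_c12 LD2_c48 LD3_c36)) :=
  Lre_c IH (LK LD1_c6 LD2_c41 LD3_c43) (LK LD1_c12 LD2_c48 LD3_c36) Lrfl Lrfl
theorem f143637 : Led Lsl_cf (LP (LK LD1_c12 LD2_c48 LD3_c35)) = (LP (LK LD1_c12 LD2_c23 LD3_c58)) :=
  Lgr Lrot11 (Lpr_ct (K34.f143635 IH) (Lpn (LP (LK LD1_c12 LD2_c23 LD3_c58))))
theorem f783779 : Led Lsl_bf (LP (LK LD1_c12 LD2_c23 LD3_c58)) = (LP (LK LD1_c17 LD2_c14 LD3_c32)) :=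
  Lgr Lrot90 (Lpe (f143637 IH) (Lpr_bt (K34.f25472 IH) (Lpr_ct (f25471 IH) (Lpe (K60.f25467 IH) (Lpr_ct (K60.f783776 IH) (Lpn (LP (LK LD1_c17 LD2_c14 LD3_c32))))))))
theorem f153921 : Led Lsl_dt (LP (LK LD1_c3 LD2_c9 LD3_c23)) = (LP (LK LD1_c6 LD2_c23 LD3_c34)) :=
  Lre_d IH (LK LD1_c3 LD2_c9 LD3_c23) (LK LD1_c6 LD2_c23 LD3_c34) Lrfl Lrfl
theorem f67134 : Led Lsl_ct (LP (LK LD1_c6 LD2_c21 LD3_c1)) = (LP (LK LD1_c12 LD2_c16 LD3_c5)) :=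
  Lre_c IH (LK LD1_c6 LD2_c21 LD3_c1) (LK LD1_c12 LD2_c16 LD3_c5) Lrfl Lrfl
theorem f67135 : Led Lsl_dt (LP (LK LD1_c21 LD2_c21 LD3_c12)) = (LP (LK LD1_c12 LD2_c16 LD3_c5)) :=
  Lre_d IH (LK LD1_c21 LD2_c21 LD3_c12) (LK LD1_c12 LD2_c16 LD3_c5) Lrfl Lrfl
theorem f782961 : Led Lsl_cf (LP (LK LD1_c21 LD2_c21 LD3_c12)) = (LP (LK LD1_c12 LD2_c59 LD3_c54)) :=
  Lgr Lrot175 (Lpr_dt (f67135 IH) (Lpe (f67134 IH) (Lpe (K57.f67124 IH) (Lpe (K60.f67123 IH) (Lpe (K60.f67098 IH) (Lpr_dt (f153921 IH) (Lpr_gt (K60.f762578 IH) (Lpq (K60.f782950 IH) (Lpr_ct (K16.f25431 IH) (Lpr_gt (K65.f152664 IH) (Lpn (LP (LK LD1_c12 LD2_c59 LD3_c54)))))))))))))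
theorem f783789 : Led Lsl_gf (LP (LK LD1_c21 LD2_c4 LD3_c41)) = (LP (LK LD1_c21 LD2_c21 LD3_c12)) :=
  Lgr Lrot129 (Lpr_cf (f783781 IH) (Lpe (f783779 IH) (Lpr_gt (K34.f114307 IH) (Lpe (K6.f114272 IH) (Lpr_ct (K6.f109185 IH) (Lpr_gt (K7.f152628 IH) (Lpe (K60.f104635 IH) (Lpe (K65.f154459 IH) (Lpr_gt (K65.f152664 IH) (Lpe (f782961 IH) (Lpn (LP (LK LD1_c21 LD2_c21 LD3_c12)))))))))))))
theorem f978177 : Led Lsl_ft (LP (LK LD1_c21 LD2_c21 LD3_c12)) = v50824 :=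
  Lgr Lrot2 (Lpe (f783789 IH) (Lpr_gt (K60.f25461 IH) (Lpr_af (f978176 IH) (Lpn v50824))))
theorem f978187 : Led Lsl_af (LP (LK LD1_c21 LD2_c21 LD3_c12)) = v50826 :=
  Lgr Lrot45 (Lpr_ft (f978177 IH) (Lpe (f978176 IH) (Lpr_ft (f978186 IH) (Lpn v50826))))
theorem f978190 : Led Lsl_gt (LP (LK LD1_c12 LD2_c27 LD3_c18)) = (LP (LK LD1_c21 LD2_c21 LD3_c12)) :=
  Lgr Lrot46 (Lpe (f783346 IH) (Lpr_ft (f978186 IH) (Lpe (f978187 IH) (Lpn (LP (LK LD1_c21 LD2_c21 LD3_c12))))))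
theorem f978191 : Led Lsl_gt (LP (LK LD1_c12 LD2_c27 LD3_c18)) = (LP (LK LD1_c21 LD2_c21 LD3_c12)) :=
  Leop (Lpe (f978190 IH) (Lpn (LP (LK LD1_c12 LD2_c27 LD3_c18))))
theorem seed_3055 : LEOK LG_g (LK LD1_c12 LD2_c27 LD3_c18) :=
  Leoe_g (LK LD1_c12 LD2_c27 LD3_c18) (f978191 IH)
theorem f978189 : Led Lsl_ff (LP (LK LD1_c11 LD2_c59 LD3_c59)) = v50826 :=
  Lgr Lrot3 (Lpr_ft (f978186 IH) (Lpn v50826))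
def v16965 : LQ := Led Lsl_ft (LP (LK LD1_c6 LD2_c9 LD3_c28))
theorem f753802 : Led Lsl_ft (LP (LK LD1_c6 LD2_c9 LD3_c28)) = v16965 :=
  Lrfl
theorem f978193 : Led Lsl_bt v16965 = v50826 :=
  Lgr Lrot35 (Lpe (f753802 IH) (Lpe (K60.f25429 IH) (Lpr_ff (f978189 IH) (Lpn v50826))))
theorem f753804 : Led Lsl_ff (LP (LK LD1_c6 LD2_c9 LD3_c28)) = v16965 :=
  Lgr Lrot3 (Lpr_ft (f753802 IH) (Lpn v16965))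
theorem f753798 : Led Lsl_ff (LP (LK LD1_c6 LD2_c9 LD3_c29)) = K60.v16963 :=
  Lgr Lrot3 (Lpr_ft (K60.f753797 IH) (Lpn K60.v16963))
theorem f753805 : Led Lsl_at (LP (LK LD1_c6 LD2_c9 LD3_c29)) = v16965 :=
  Lgr Lrot66 (Lpr_ff (f753798 IH) (Lpe (K60.f753794 IH) (Lpr_ff (f753804 IH) (Lpn v16965))))
theorem f57721 : Led Lsl_at (LP (LK LD1_c21 LD2_c4 LD3_c47)) = (LP (LK LD1_c12 LD2_c0 LD3_c0)) :=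
  Lre_a IH (LK LD1_c21 LD2_c4 LD3_c47) (LK LD1_c12 LD2_c0 LD3_c0) Lrfl Lrfl
theorem f978194 : Led Lsl_bf (LP (LK LD1_c21 LD2_c4 LD3_c47)) = (LP (LK LD1_c21 LD2_c21 LD3_c12)) :=
  Lgr Lrot81 (Lpr_at (f57721 IH) (Lpr_bt (K1.f57664 IH) (Lpr_at (f753805 IH) (Lpr_bt (f978193 IH) (Lpe (f978187 IH) (Lpn (LP (LK LD1_c21 LD2_c21 LD3_c12))))))))
theorem f978195 : Led Lsl_bt (LP (LK LD1_c21 LD2_c21 LD3_c12)) = (LP (LK LD1_c21 LD2_c4 LD3_c47)) :=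
  Leop (Lpr_bf (f978194 IH) (Lpn (LP (LK LD1_c21 LD2_c21 LD3_c12))))
theorem seed_3056 : LEOK LG_b (LK LD1_c21 LD2_c21 LD3_c12) :=
  Leoe_b (LK LD1_c21 LD2_c21 LD3_c12) (f978195 IH)
def v50861 : LQ := Led Lsl_at (LP (LK LD1_c12 LD2_c0 LD3_c31))
theorem f978622 : Led Lsl_at (LP (LK LD1_c12 LD2_c0 LD3_c31)) = v50861 :=
  Lrfl
theorem f978624 : Led Lsl_cf K60.v16972 = v50861 :=
  Lgr Lrot1 (Lpe (K60.f753836 IH) (Lpr_ct (K60.f86400 IH) (Lpr_at (f978622 IH) (Lpn v50861))))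
theorem f753839 : Led Lsl_ff (LP (LK LD1_c6 LD2_c9 LD3_c46)) = K60.v16972 :=
  Lgr Lrot3 (Lpr_ft (K60.f753838 IH) (Lpn K60.v16972))
theorem f978626 : Led Lsl_ft (LP (LK LD1_c12 LD2_c0 LD3_c34)) = v50861 :=
  Lgr Lrot4 (Lpe (K70.f86418 IH) (Lpr_ff (f753839 IH) (Lpr_cf (f978624 IH) (Lpn v50861))))
theorem f978623 : Led Lsl_af (LP (LK LD1_c12 LD2_c0 LD3_c31)) = v50861 :=
  Lgr Lrot0 (Lpr_at (f978622 IH) (Lpn v50861))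
theorem f438869 : Led Lsl_gt (LP (LK LD1_c21 LD2_c5 LD3_c38)) = (LP (LK LD1_c12 LD2_c0 LD3_c31)) :=
  Lre_g IH (LK LD1_c21 LD2_c5 LD3_c38) (LK LD1_c12 LD2_c0 LD3_c31) Lrfl Lrfl
theorem f978628 : Led Lsl_gt (LP (LK LD1_c12 LD2_c0 LD3_c34)) = (LP (LK LD1_c21 LD2_c5 LD3_c38)) :=
  Lgr Lrot5 (Lpr_ft (f978626 IH) (Lpe (f978623 IH) (Lpe (f438869 IH) (Lpn (LP (LK LD1_c21 LD2_c5 LD3_c38))))))
theorem f978629 : Led Lsl_gt (LP (LK LD1_c12 LD2_c0 LD3_c34)) = (LP (LK LD1_c21 LD2_c5 LD3_c38)) :=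
  Leop (Lpe (f978628 IH) (Lpn (LP (LK LD1_c12 LD2_c0 LD3_c34))))
theorem seed_3057 : LEOK LG_g (LK LD1_c12 LD2_c0 LD3_c34) :=
  Leoe_g (LK LD1_c12 LD2_c0 LD3_c34) (f978629 IH)
theorem f432273 : Led Lsl_bf (LP (LK LD1_c6 LD2_c48 LD3_c24)) = (LP (LK LD1_c9 LD2_c32 LD3_c61)) :=
  Lgr Lrot61 (Lpr_ft (K6.f145839 IH) (Lpe (K6.f143951 IH) (Lpr_ft (K70.f432269 IH) (Lpn (LP (LK LD1_c9 LD2_c32 LD3_c61))))))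
theorem f906996 : Led Lsl_bf (LP (LK LD1_c12 LD2_c27 LD3_c19)) = (LP (LK LD1_c17 LD2_c16 LD3_c28)) :=
  Lgr Lrot156 (Lpr_gt (K70.f25869 IH) (Lpe (K70.f25868 IH) (Lpr_ct (K57.f25837 IH) (Lpr_gt (K70.f25838 IH) (Lpe (K70.f25839 IH) (Lpr_bt (K70.f25836 IH) (Lpr_gt (K57.f25835 IH) (Lpr_ct (K49.f25866 IH) (Lpr_gt (K70.f25867 IH) (Lpr_cf (K70.f906988 IH) (Lpn (LP (LK LD1_c17 LD2_c16 LD3_c28)))))))))))))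
theorem f907000 : Led Lsl_dt (LP (LK LD1_c21 LD2_c10 LD3_c11)) = (LP (LK LD1_c17 LD2_c16 LD3_c28)) :=
  Lgr Lrot79 (Lpe (K60.f783857 IH) (Lpr_df (K70.f783745 IH) (Lpr_bf (f906996 IH) (Lpn (LP (LK LD1_c17 LD2_c16 LD3_c28))))))
theorem f907006 : Led Lsl_ff (LP (LK LD1_c22 LD2_c10 LD3_c4)) = (LP (LK LD1_c17 LD2_c16 LD3_c28)) :=
  Lgr Lrot19 (Lpr_dt (K70.f783348 IH) (Lpr_ft (K70.f783859 IH) (Lpr_dt (f907000 IH) (Lpn (LP (LK LD1_c17 LD2_c16 LD3_c28))))))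
theorem f431537 : Led Lsl_at (LP (LK LD1_c22 LD2_c10 LD3_c4)) = (LP (LK LD1_c13 LD2_c0 LD3_c3)) :=
  Lre_a IH (LK LD1_c22 LD2_c10 LD3_c4) (LK LD1_c13 LD2_c0 LD3_c3) Lrfl Lrfl
theorem f907008 : Led Lsl_gf (LP (LK LD1_c22 LD2_c10 LD3_c6)) = (LP (LK LD1_c17 LD2_c16 LD3_c28)) :=
  Lgr Lrot47 (Lpr_gt (K70.f84085 IH) (Lpe (f431537 IH) (Lpr_ff (f907006 IH) (Lpn (LP (LK LD1_c17 LD2_c16 LD3_c28))))))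
theorem f906998 : Led Lsl_bt (LP (LK LD1_c12 LD2_c27 LD3_c19)) = (LP (LK LD1_c17 LD2_c16 LD3_c28)) :=
  Lgr Lrot127 (Lpr_bf (f906996 IH) (Lpn (LP (LK LD1_c17 LD2_c16 LD3_c28))))
theorem f978636 : Led Lsl_ct (LP (LK LD1_c12 LD2_c27 LD3_c19)) = (LP (LK LD1_c21 LD2_c5 LD3_c38)) :=
  Lgr Lrot63 (Lpr_bt (f906998 IH) (Lpe (f907008 IH) (Lpr_bf (K70.f907014 IH) (Lpe (K70.f907020 IH) (Lpr_gt (K70.f432331 IH) (Lpe (K70.f121451 IH) (Lpe (f432273 IH) (Lpr_gt (K6.f145837 IH) (Lpr_ct (K70.f86418 IH) (Lpr_gt (f978628 IH) (Lpn (LP (LK LD1_c21 LD2_c5 LD3_c38)))))))))))))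
theorem f434668 : Led Lsl_ff (LP (LK LD1_c29 LD2_c59 LD3_c1)) = (LP (LK LD1_c24 LD2_c30 LD3_c43)) :=
  Lgr Lrot23 (Lpr_ct (K70.f434662 IH) (Lpr_ft (K70.f429917 IH) (Lpr_ct (K70.f88721 IH) (Lpn (LP (LK LD1_c24 LD2_c30 LD3_c43))))))
theorem f434674 : Led Lsl_ft (LP (LK LD1_c29 LD2_c59 LD3_c1)) = (LP (LK LD1_c24 LD2_c30 LD3_c43)) :=
  Lgr Lrot48 (Lpr_ff (f434668 IH) (Lpn (LP (LK LD1_c24 LD2_c30 LD3_c43))))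
theorem f145800 : Led Lsl_at (LP (LK LD1_c29 LD2_c59 LD3_c1)) = (LP (LK LD1_c21 LD2_c21 LD3_c7)) :=
  Lre_a IH (LK LD1_c29 LD2_c59 LD3_c1) (LK LD1_c21 LD2_c21 LD3_c7) Lrfl Lrfl
theorem f145802 : Led Lsl_at (LP (LK LD1_c21 LD2_c5 LD3_c6)) = (LP (LK LD1_c29 LD2_c50 LD3_c46)) :=
  Lre_a IH (LK LD1_c21 LD2_c5 LD3_c6) (LK LD1_c29 LD2_c50 LD3_c46) Lrfl Lrfl
theorem f145803 : Led Lsl_bf (LP (LK LD1_c29 LD2_c59 LD3_c1)) = (LP (LK LD1_c29 LD2_c50 LD3_c46)) :=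
  Lgr Lrot81 (Lpr_at (f145800 IH) (Lpr_bt (K70.f145533 IH) (Lpr_at (K6.f145793 IH) (Lpr_bt (K6.f145801 IH) (Lpr_at (f145802 IH) (Lpn (LP (LK LD1_c29 LD2_c50 LD3_c46))))))))
theorem f434676 : Led Lsl_ff (LP (LK LD1_c29 LD2_c50 LD3_c46)) = (LP (LK LD1_c29 LD2_c58 LD3_c46)) :=
  Lgr Lrot25 (Lpe (f145803 IH) (Lpr_ft (f434674 IH) (Lpr_bt (K70.f90504 IH) (Lpn (LP (LK LD1_c29 LD2_c58 LD3_c46))))))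
theorem f83892 : Led Lsl_ct (LP (LK LD1_c21 LD2_c20 LD3_c0)) = (LP (LK LD1_c29 LD2_c58 LD3_c46)) :=
  Lre_c IH (LK LD1_c21 LD2_c20 LD3_c0) (LK LD1_c29 LD2_c58 LD3_c46) Lrfl Lrfl
theorem f434683 : Led Lsl_ct (LP (LK LD1_c29 LD2_c50 LD3_c46)) = (LP (LK LD1_c22 LD2_c11 LD3_c50)) :=
  Lgr Lrot40 (Lpr_ff (f434676 IH) (Lpe (f83892 IH) (Lpe (K6.f94179 IH) (Lpn (LP (LK LD1_c22 LD2_c11 LD3_c50))))))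
theorem f94187 : Led Lsl_gt (LP (LK LD1_c22 LD2_c11 LD3_c50)) = (LP (LK LD1_c21 LD2_c19 LD3_c61)) :=
  Lgr Lrot5 (Lpr_ft (K6.f94179 IH) (Lpr_at (K6.f83862 IH) (Lpe (K70.f83861 IH) (Lpn (LP (LK LD1_c21 LD2_c19 LD3_c61))))))
theorem f434693 : Led Lsl_gf (LP (LK LD1_c12 LD2_c0 LD3_c26)) = (LP (LK LD1_c12 LD2_c59 LD3_c13)) :=
  Lgr Lrot181 (Lpr_ct (K70.f62508 IH) (Lpe (K70.f434670 IH) (Lpe (K70.f84278 IH) (Lpr_bt (K70.f431783 IH) (Lpe (K70.f431791 IH) (Lpr_bf (f145803 IH) (Lpr_ct (f434683 IH) (Lpr_gt (f94187 IH) (Lpe (K70.f431206 IH) (Lpr_bt (K70.f431205 IH) (Lpn (LP (LK LD1_c12 LD2_c59 LD3_c13)))))))))))))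
theorem f62517 : Led Lsl_dt (LP (LK LD1_c12 LD2_c0 LD3_c26)) = (LP (LK LD1_c21 LD2_c5 LD3_c30)) :=
  Lre_d IH (LK LD1_c12 LD2_c0 LD3_c26) (LK LD1_c21 LD2_c5 LD3_c30) Lrfl Lrfl
theorem f135196 : Led Lsl_at (LP (LK LD1_c12 LD2_c0 LD3_c27)) = (LP (LK LD1_c21 LD2_c5 LD3_c30)) :=
  Lre_a IH (LK LD1_c12 LD2_c0 LD3_c27) (LK LD1_c21 LD2_c5 LD3_c30) Lrfl Lrfl
theorem f135197 : Led Lsl_at (LP (LK LD1_c22 LD2_c9 LD3_c18)) = (LP (LK LD1_c12 LD2_c59 LD3_c15)) :=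
  Lre_a IH (LK LD1_c22 LD2_c9 LD3_c18) (LK LD1_c12 LD2_c59 LD3_c15) Lrfl Lrfl
theorem f135198 : Led Lsl_ft (LP (LK LD1_c21 LD2_c5 LD3_c30)) = (LP (LK LD1_c22 LD2_c9 LD3_c18)) :=
  Lgr Lrot101 (Lpe (f135196 IH) (Lpr_ff (K5.f135190 IH) (Lpe (f135197 IH) (Lpn (LP (LK LD1_c22 LD2_c9 LD3_c18))))))
theorem f84229 : Led Lsl_gt (LP (LK LD1_c22 LD2_c9 LD3_c21)) = (LP (LK LD1_c12 LD2_c59 LD3_c15)) :=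
  Lre_g IH (LK LD1_c22 LD2_c9 LD3_c21) (LK LD1_c12 LD2_c59 LD3_c15) Lrfl Lrfl
theorem f438861 : Led Lsl_gt (LP (LK LD1_c21 LD2_c5 LD3_c30)) = (LP (LK LD1_c22 LD2_c9 LD3_c21)) :=
  Lgr Lrot5 (Lpr_ft (f135198 IH) (Lpr_at (f135197 IH) (Lpe (f84229 IH) (Lpn (LP (LK LD1_c22 LD2_c9 LD3_c21))))))
theorem f84228 : Led Lsl_dt (LP (LK LD1_c12 LD2_c59 LD3_c15)) = (LP (LK LD1_c6 LD2_c48 LD3_c17)) :=
  Lre_d IH (LK LD1_c12 LD2_c59 LD3_c15) (LK LD1_c6 LD2_c48 LD3_c17) Lrfl Lrfl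
theorem f437583 : Led Lsl_dt (LP (LK LD1_c12 LD2_c59 LD3_c33)) = (LP (LK LD1_c22 LD2_c9 LD3_c21)) :=
  Lgr Lrot57 (Lpe (K60.f145867 IH) (Lpe (K6.f113238 IH) (Lpr_gt (K60.f437581 IH) (Lpr_dt (K60.f57724 IH) (Lpr_gt (K1.f24726 IH) (Lpr_dt (K5.f84204 IH) (Lpe (K5.f84227 IH) (Lpe (f84228 IH) (Lpe (f84229 IH) (Lpn (LP (LK LD1_c22 LD2_c9 LD3_c21))))))))))))
theorem f437591 : Led Lsl_df (LP (LK LD1_c12 LD2_c59 LD3_c33)) = (LP (LK LD1_c22 LD2_c9 LD3_c21)) :=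
  Lgr Lrot38 (Lpr_dt (f437583 IH) (Lpn (LP (LK LD1_c22 LD2_c9 LD3_c21))))
theorem f783066 : Led Lsl_dt (LP (LK LD1_c12 LD2_c20 LD3_c16)) = (LP (LK LD1_c9 LD2_c19 LD3_c6)) :=
  Lgr Lrot60 (Lpe (K60.f762546 IH) (Lpe (K60.f438860 IH) (Lpr_ff (K60.f783047 IH) (Lpn (LP (LK LD1_c9 LD2_c19 LD3_c6))))))
theorem f907217 : Led Lsl_gf (LP (LK LD1_c12 LD2_c27 LD3_c19)) = (LP (LK LD1_c21 LD2_c26 LD3_c44)) :=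
  Lgr Lrot148 (Lpe (K70.f783745 IH) (Lpr_gt (K60.f783739 IH) (Lpr_dt (f783066 IH) (Lpr_ct (K60.f438851 IH) (Lpr_df (f437591 IH) (Lpe (f438861 IH) (Lpe (f62517 IH) (Lpr_gf (f434693 IH) (Lpr_ct (K70.f907165 IH) (Lpn (LP (LK LD1_c21 LD2_c26 LD3_c44))))))))))))
theorem f907045 : Led Lsl_dt (LP (LK LD1_c21 LD2_c26 LD3_c44)) = (LP (LK LD1_c23 LD2_c2 LD3_c44)) :=
  Lgr Lrot60 (Lpr_ff (K70.f907043 IH) (Lpe (K70.f906926 IH) (Lpr_ff (K70.f906936 IH) (Lpn (LP (LK LD1_c23 LD2_c2 LD3_c44))))))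
theorem f906940 : Led Lsl_gf (LP (LK LD1_c17 LD2_c16 LD3_c25)) = (LP (LK LD1_c23 LD2_c2 LD3_c44)) :=
  Lgr Lrot47 (Lpr_gt (K70.f135474 IH) (Lpe (K70.f135475 IH) (Lpr_ff (K70.f906936 IH) (Lpn (LP (LK LD1_c23 LD2_c2 LD3_c44))))))
theorem f153999 : Led Lsl_ct (LP (LK LD1_c12 LD2_c0 LD3_c31)) = (LP (LK LD1_c6 LD2_c9 LD3_c45)) :=
  Lre_c IH (LK LD1_c12 LD2_c0 LD3_c31) (LK LD1_c6 LD2_c9 LD3_c45) Lrfl Lrfl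
theorem f434894 : Led Lsl_ct (LP (LK LD1_c12 LD2_c59 LD3_c1)) = (LP (LK LD1_c6 LD2_c48 LD3_c10)) :=
  Lre_c IH (LK LD1_c12 LD2_c59 LD3_c1) (LK LD1_c6 LD2_c48 LD3_c10) Lrfl Lrfl
theorem f434907 : Led Lsl_gt (LP (LK LD1_c22 LD2_c8 LD3_c57)) = (LP (LK LD1_c12 LD2_c59 LD3_c1)) :=
  Lre_g IH (LK LD1_c22 LD2_c8 LD3_c57) (LK LD1_c12 LD2_c59 LD3_c1) Lrfl Lrfl
theorem f978644 : Led Lsl_ct (LP (LK LD1_c17 LD2_c16 LD3_c25)) = (LP (LK LD1_c22 LD2_c8 LD3_c57)) :=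
  Lgr Lrot152 (Lpr_gf (f906940 IH) (Lpe (f907045 IH) (Lpe (f907217 IH) (Lpr_ct (f978636 IH) (Lpr_gt (f438869 IH) (Lpr_ct (f153999 IH) (Lpr_df (K60.f753843 IH) (Lpqs (K60.f782818 IH) (Lpe (f434894 IH) (Lpe (f434907 IH) (Lpn (LP (LK LD1_c22 LD2_c8 LD3_c57)))))))))))))
theorem f647487 : Led Lsl_bt (LP (LK LD1_c12 LD2_c27 LD3_c28)) = (LP (LK LD1_c17 LD2_c16 LD3_c25)) :=
  Lgr Lrot130 (Lpr_ct (K70.f647481 IH) (Lpe (K70.f430179 IH) (Lpe (K49.f430315 IH) (Lpr_bt (K49.f86413 IH) (Lpr_gf (K6.f135468 IH) (Lpe (K70.f121407 IH) (Lpr_ct (K70.f121439 IH) (Lpe (K70.f121449 IH) (Lpe (K70.f135472 IH) (Lpe (K70.f135474 IH) (Lpn (LP (LK LD1_c17 LD2_c16 LD3_c25)))))))))))))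
theorem f647489 : Led Lsl_bf (LP (LK LD1_c12 LD2_c27 LD3_c28)) = (LP (LK LD1_c17 LD2_c16 LD3_c25)) :=
  Lgr Lrot24 (Lpr_bt (f647487 IH) (Lpn (LP (LK LD1_c17 LD2_c16 LD3_c25))))
theorem f907125 : Led Lsl_cf (LP (LK LD1_c21 LD2_c25 LD3_c44)) = (LP (LK LD1_c21 LD2_c26 LD3_c49)) :=
  Lgr Lrot11 (Lpr_ct (K70.f907123 IH) (Lpn (LP (LK LD1_c21 LD2_c26 LD3_c49))))
theorem f67333 : Led Lsl_bt (LP (LK LD1_c6 LD2_c22 LD3_c59)) = (LP (LK LD1_c12 LD2_c19 LD3_c28)) :=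
  Lre_b IH (LK LD1_c6 LD2_c22 LD3_c59) (LK LD1_c12 LD2_c19 LD3_c28) Lrfl Lrfl
theorem f783446 : Led Lsl_ft (LP (LK LD1_c29 LD2_c56 LD3_c56)) = (LP (LK LD1_c27 LD2_c18 LD3_c29)) :=
  Lgr Lrot54 (Lpr_df (K70.f436174 IH) (Lpr_ff (K60.f783444 IH) (Lpr_df (K70.f444437 IH) (Lpn (LP (LK LD1_c27 LD2_c18 LD3_c29))))))
theorem f783456 : Led Lsl_ff (LP (LK LD1_c29 LD2_c56 LD3_c56)) = (LP (LK LD1_c27 LD2_c18 LD3_c29)) :=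
  Lgr Lrot3 (Lpr_ft (f783446 IH) (Lpn (LP (LK LD1_c27 LD2_c18 LD3_c29))))
theorem f436098 : Led Lsl_cf (LP (LK LD1_c27 LD2_c18 LD3_c29)) = (LP (LK LD1_c21 LD2_c27 LD3_c28)) :=
  Lgr Lrot11 (Lpr_ct (K70.f436093 IH) (Lpn (LP (LK LD1_c21 LD2_c27 LD3_c28))))
theorem f783460 : Led Lsl_ft (LP (LK LD1_c22 LD2_c10 LD3_c28)) = (LP (LK LD1_c21 LD2_c27 LD3_c28)) :=
  Lgr Lrot4 (Lpe (K70.f436189 IH) (Lpr_ff (f783456 IH) (Lpr_cf (f436098 IH) (Lpn (LP (LK LD1_c21 LD2_c27 LD3_c28))))))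
theorem f758828 : Led Lsl_gt (LP (LK LD1_c22 LD2_c10 LD3_c28)) = (LP (LK LD1_c29 LD2_c50 LD3_c33)) :=
  Lgr Lrot94 (Lpe (K70.f436189 IH) (Lpe (K70.f86577 IH) (Lpr_dt (K70.f57816 IH) (Lpr_gt (K70.f57832 IH) (Lpr_dt (K70.f758815 IH) (Lpe (K70.f434959 IH) (Lpe (K70.f434946 IH) (Lpe (K70.f444336 IH) (Lpe (K70.f57719 IH) (Lpn (LP (LK LD1_c29 LD2_c50 LD3_c33))))))))))))
theorem f783466 : Led Lsl_af (LP (LK LD1_c22 LD2_c10 LD3_c39)) = (LP (LK LD1_c21 LD2_c27 LD3_c28)) :=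
  Lgr Lrot31 (Lpe (K70.f444334 IH) (Lpe (f758828 IH) (Lpr_ft (f783460 IH) (Lpn (LP (LK LD1_c21 LD2_c27 LD3_c28))))))
theorem f431099 : Led Lsl_dt (LP (LK LD1_c12 LD2_c21 LD3_c9)) = (LP (LK LD1_c21 LD2_c27 LD3_c28)) :=
  Lre_d IH (LK LD1_c12 LD2_c21 LD3_c9) (LK LD1_c21 LD2_c27 LD3_c28) Lrfl Lrfl
theorem f783470 : Led Lsl_at (LP (LK LD1_c13 LD2_c0 LD3_c23)) = (LP (LK LD1_c12 LD2_c21 LD3_c9)) :=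
  Lgr Lrot51 (Lpe (K70.f436178 IH) (Lpr_af (f783466 IH) (Lpe (f431099 IH) (Lpn (LP (LK LD1_c12 LD2_c21 LD3_c9))))))
theorem f135575 : Led Lsl_dt (LP (LK LD1_c21 LD2_c10 LD3_c15)) = (LP (LK LD1_c12 LD2_c4 LD3_c60)) :=
  Lre_d IH (LK LD1_c21 LD2_c10 LD3_c15) (LK LD1_c12 LD2_c4 LD3_c60) Lrfl Lrfl
theorem f783483 : Led Lsl_ff (LP (LK LD1_c13 LD2_c0 LD3_c23)) = (LP (LK LD1_c12 LD2_c21 LD3_c12)) :=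
  Lgr Lrot103 (Lpr_at (f783470 IH) (Lpe (K60.f153021 IH) (Lpr_df (K60.f431094 IH) (Lpe (K70.f84140 IH) (Lpe (f135575 IH) (Lpe (K60.f431100 IH) (Lpr_df (K60.f436082 IH) (Lpe (K60.f444418 IH) (Lpe (K60.f433833 IH) (Lpn (LP (LK LD1_c12 LD2_c21 LD3_c12))))))))))))
theorem f783491 : Led Lsl_ft (LP (LK LD1_c13 LD2_c0 LD3_c23)) = (LP (LK LD1_c12 LD2_c21 LD3_c12)) :=
  Lgr Lrot48 (Lpr_ff (f783483 IH) (Lpn (LP (LK LD1_c12 LD2_c21 LD3_c12))))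
theorem f431555 : Led Lsl_gt (LP (LK LD1_c22 LD2_c10 LD3_c26)) = (LP (LK LD1_c13 LD2_c0 LD3_c10)) :=
  Lre_g IH (LK LD1_c22 LD2_c10 LD3_c26) (LK LD1_c13 LD2_c0 LD3_c10) Lrfl Lrfl
theorem f432530 : Led Lsl_gt (LP (LK LD1_c27 LD2_c23 LD3_c33)) = (LP (LK LD1_c17 LD2_c35 LD3_c27)) :=
  Lre_g IH (LK LD1_c27 LD2_c23 LD3_c33) (LK LD1_c17 LD2_c35 LD3_c27) Lrfl Lrfl
theorem f444395 : Led Lsl_dt (LP (LK LD1_c22 LD2_c10 LD3_c26)) = (LP (LK LD1_c27 LD2_c23 LD3_c33)) :=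
  Lgr Lrot6 (Lpr_gt (f431555 IH) (Lpr_ct (K49.f57769 IH) (Lpe (K60.f433910 IH) (Lpr_ct (K49.f433644 IH) (Lpe (K60.f433821 IH) (Lpe (K60.f433862 IH) (Lpr_gf (K70.f444379 IH) (Lpe (K70.f432520 IH) (Lpe (f432530 IH) (Lpn (LP (LK LD1_c27 LD2_c23 LD3_c33))))))))))))
theorem f444402 : Led Lsl_gf (LP (LK LD1_c22 LD2_c10 LD3_c26)) = (LP (LK LD1_c13 LD2_c0 LD3_c23)) :=
  Lgr Lrot144 (Lpr_dt (f444395 IH) (Lpr_gt (f432530 IH) (Lpr_dt (K70.f432529 IH) (Lpe (K49.f57897 IH) (Lpr_df (K49.f432515 IH) (Lpe (K49.f154188 IH) (Lpr_df (K60.f154630 IH) (Lpe (K60.f436105 IH) (Lpe (K70.f84247 IH) (Lpn (LP (LK LD1_c13 LD2_c0 LD3_c23))))))))))))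
theorem f783504 : Led Lsl_af (LP (LK LD1_c13 LD2_c0 LD3_c10)) = (LP (LK LD1_c12 LD2_c21 LD3_c12)) :=
  Lgr Lrot31 (Lpe (f431555 IH) (Lpr_gf (f444402 IH) (Lpr_ft (f783491 IH) (Lpn (LP (LK LD1_c12 LD2_c21 LD3_c12))))))
theorem f783478 : Led Lsl_af (LP (LK LD1_c13 LD2_c0 LD3_c23)) = (LP (LK LD1_c12 LD2_c21 LD3_c9)) :=
  Lgr Lrot0 (Lpr_at (f783470 IH) (Lpn (LP (LK LD1_c12 LD2_c21 LD3_c9))))
theorem f783510 : Led Lsl_ft (LP (LK LD1_c13 LD2_c0 LD3_c10)) = (LP (LK LD1_c12 LD2_c21 LD3_c9)) :=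
  Lgr Lrot101 (Lpr_af (f783504 IH) (Lpe (f783491 IH) (Lpr_af (f783478 IH) (Lpn (LP (LK LD1_c12 LD2_c21 LD3_c9))))))
theorem f783514 : Led Lsl_gt (LP (LK LD1_c22 LD2_c8 LD3_c61)) = (LP (LK LD1_c13 LD2_c0 LD3_c23)) :=
  Lgr Lrot46 (Lpr_gf (K60.f431528 IH) (Lpr_ft (f783510 IH) (Lpe (f783478 IH) (Lpn (LP (LK LD1_c13 LD2_c0 LD3_c23))))))
theorem f135615 : Led Lsl_ct (LP (LK LD1_c17 LD2_c28 LD3_c7)) = (LP (LK LD1_c9 LD2_c28 LD3_c20)) :=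
  Lre_c IH (LK LD1_c17 LD2_c28 LD3_c7) (LK LD1_c9 LD2_c28 LD3_c20) Lrfl Lrfl
theorem f444349 : Led Lsl_gf (LP (LK LD1_c17 LD2_c28 LD3_c7)) = (LP (LK LD1_c12 LD2_c0 LD3_c0)) :=
  Lgr Lrot147 (Lpr_ct (f135615 IH) (Lpr_gt (K70.f444347 IH) (Lpr_ct (K1.f57864 IH) (Lpe (K60.f57742 IH) (Lpe (K6.f57846 IH) (Lpe (K6.f85889 IH) (Lpe (K70.f86039 IH) (Lpe (K70.f434947 IH) (Lpr_df (K1.f57713 IH) (Lpn (LP (LK LD1_c12 LD2_c0 LD3_c0))))))))))))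
theorem f433906 : Led Lsl_ct (LP (LK LD1_c9 LD2_c28 LD3_c20)) = (LP (LK LD1_c17 LD2_c28 LD3_c7)) :=
  Lre_c IH (LK LD1_c9 LD2_c28 LD3_c20) (LK LD1_c17 LD2_c28 LD3_c7) Lrfl Lrfl
theorem f155211 : Led Lsl_ct (LP (LK LD1_c12 LD2_c21 LD3_c25)) = (LP (LK LD1_c21 LD2_c27 LD3_c54)) :=
  Lre_c IH (LK LD1_c12 LD2_c21 LD3_c25) (LK LD1_c21 LD2_c27 LD3_c54) Lrfl Lrfl
theorem f435174 : Led Lsl_df (LP (LK LD1_c17 LD2_c28 LD3_c7)) = (LP (LK LD1_c21 LD2_c27 LD3_c54)) :=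
  Lgr Lrot162 (Lpe (f433906 IH) (Lpe (K70.f25012 IH) (Lpe (K3.f57920 IH) (Lpe (K60.f115193 IH) (Lpr_dt (K70.f435161 IH) (Lpr_gt (K70.f155255 IH) (Lpr_ct (K49.f154396 IH) (Lpr_gt (K70.f154397 IH) (Lpr_ct (f155211 IH) (Lpn (LP (LK LD1_c21 LD2_c27 LD3_c54))))))))))))
theorem f435178 : Led Lsl_dt (LP (LK LD1_c17 LD2_c28 LD3_c7)) = (LP (LK LD1_c21 LD2_c27 LD3_c54)) :=
  Lgr Lrot42 (Lpr_df (f435174 IH) (Lpn (LP (LK LD1_c21 LD2_c27 LD3_c54))))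
theorem f154398 : Led Lsl_ct (LP (LK LD1_c21 LD2_c27 LD3_c54)) = (LP (LK LD1_c12 LD2_c21 LD3_c25)) :=
  Lre_c IH (LK LD1_c21 LD2_c27 LD3_c54) (LK LD1_c12 LD2_c21 LD3_c25) Lrfl Lrfl
theorem f432538 : Led Lsl_dt (LP (LK LD1_c21 LD2_c8 LD3_c56)) = (LP (LK LD1_c12 LD2_c21 LD3_c25)) :=
  Lgr Lrot42 (Lpr_df (K70.f432531 IH) (Lpn (LP (LK LD1_c12 LD2_c21 LD3_c25))))
theorem f84132 : Led Lsl_gt (LP (LK LD1_c12 LD2_c3 LD3_c29)) = (LP (LK LD1_c21 LD2_c8 LD3_c56)) :=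
  Lre_g IH (LK LD1_c12 LD2_c3 LD3_c29) (LK LD1_c21 LD2_c8 LD3_c56) Lrfl Lrfl
theorem f444352 : Led Lsl_gt (LP (LK LD1_c12 LD2_c27 LD3_c16)) = (LP (LK LD1_c12 LD2_c59 LD3_c42)) :=
  Lgr Lrot94 (Lpe (K70.f84127 IH) (Lpr_gt (K60.f84131 IH) (Lpr_dt (K1.f57858 IH) (Lpr_gt (f84132 IH) (Lpr_dt (f432538 IH) (Lpe (f154398 IH) (Lpe (f435178 IH) (Lpr_gf (f444349 IH) (Lpe (K1.f57728 IH) (Lpn (LP (LK LD1_c12 LD2_c59 LD3_c42))))))))))))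
theorem f435912 : Led Lsl_dt (LP (LK LD1_c12 LD2_c19 LD3_c28)) = (LP (LK LD1_c12 LD2_c27 LD3_c16)) :=
  Lgr Lrot27 (Lpr_cf (K70.f435907 IH) (Lpr_gf (K70.f433813 IH) (Lpe (K70.f433805 IH) (Lpr_gf (K60.f434112 IH) (Lpr_df (K60.f431094 IH) (Lpr_gt (K60.f84134 IH) (Lpr_ct (K60.f57872 IH) (Lpr_gt (K60.f84122 IH) (Lpr_ct (K70.f84127 IH) (Lpn (LP (LK LD1_c12 LD2_c27 LD3_c16))))))))))))
theorem f783518 : Led Lsl_gf (LP (LK LD1_c12 LD2_c59 LD3_c3)) = (LP (LK LD1_c12 LD2_c19 LD3_c28)) :=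
  Lgr Lrot147 (Lpr_ct (K60.f135515 IH) (Lpr_gt (f783514 IH) (Lpr_ct (K70.f84247 IH) (Lpe (K60.f86480 IH) (Lpe (K34.f89119 IH) (Lpr_gf (K60.f134509 IH) (Lpe (K60.f57726 IH) (Lpe (f444352 IH) (Lpe (f435912 IH) (Lpn (LP (LK LD1_c12 LD2_c19 LD3_c28))))))))))))
theorem f978651 : Led Lsl_gt (LP (LK LD1_c12 LD2_c59 LD3_c4)) = (LP (LK LD1_c22 LD2_c8 LD3_c57)) :=
  Lgr Lrot65 (Lpe (K70.f84555 IH) (Lpr_bt (K60.f435230 IH) (Lpr_gf (f783518 IH) (Lpe (f67333 IH) (Lpr_ct (K70.f67162 IH) (Lpe (K70.f67321 IH) (Lpr_cf (f907125 IH) (Lpe (K70.f907115 IH) (Lpr_bf (f647489 IH) (Lpr_ct (f978644 IH) (Lpn (LP (LK LD1_c22 LD2_c8 LD3_c57)))))))))))))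
theorem f25494 : Led Lsl_dt (LP (LK LD1_c21 LD2_c4 LD3_c44)) = (LP (LK LD1_c11 LD2_c59 LD3_c60)) :=
  Lre_d IH (LK LD1_c21 LD2_c4 LD3_c44) (LK LD1_c11 LD2_c59 LD3_c60) Lrfl Lrfl
theorem f25495 : Led Lsl_gt (LP (LK LD1_c29 LD2_c50 LD3_c30)) = (LP (LK LD1_c21 LD2_c4 LD3_c44)) :=
  Lre_g IH (LK LD1_c29 LD2_c50 LD3_c30) (LK LD1_c21 LD2_c4 LD3_c44) Lrfl Lrfl
theorem f978657 : Led Lsl_df (LP (LK LD1_c29 LD2_c50 LD3_c30)) = (LP (LK LD1_c22 LD2_c8 LD3_c57)) :=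
  Lgr Lrot153 (Lpr_gt (f25495 IH) (Lpr_dt (f25494 IH) (Lpe (K60.f25422 IH) (Lpr_df (K60.f753800 IH) (Lpqs (K60.f782940 IH) (Lpe (K57.f25636 IH) (Lpr_df (K70.f84533 IH) (Lpe (K60.f84545 IH) (Lpe (K70.f84554 IH) (Lpr_gt (f978651 IH) (Lpn (LP (LK LD1_c22 LD2_c8 LD3_c57)))))))))))))
theorem f978659 : Led Lsl_dt (LP (LK LD1_c29 LD2_c50 LD3_c30)) = (LP (LK LD1_c22 LD2_c8 LD3_c57)) :=
  Lgr Lrot42 (Lpr_df (f978657 IH) (Lpn (LP (LK LD1_c22 LD2_c8 LD3_c57))))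
theorem f906156 : Led Lsl_dt (LP (LK LD1_c13 LD2_c0 LD3_c15)) = K70.v39046 :=
  Lgr Lrot60 (Lpe (K60.f765837 IH) (Lpe (K60.f765823 IH) (Lpr_ff (K70.f906152 IH) (Lpn K70.v39046))))
theorem f143577 : Led Lsl_dt (LP (LK LD1_c12 LD2_c0 LD3_c1)) = (LP (LK LD1_c21 LD2_c4 LD3_c51)) :=
  Lre_d IH (LK LD1_c12 LD2_c0 LD3_c1) (LK LD1_c21 LD2_c4 LD3_c51) Lrfl Lrfl
theorem f978661 : Led Lsl_gf (LP (LK LD1_c29 LD2_c50 LD3_c30)) = (LP (LK LD1_c21 LD2_c4 LD3_c51)) :=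
  Lgr Lrot143 (Lpr_dt (f978659 IH) (Lpe (f978644 IH) (Lpe (K70.f914738 IH) (Lpr_gf (K70.f914744 IH) (Lpe (f906156 IH) (Lpe (K60.f25486 IH) (Lpe (K60.f25485 IH) (Lpe (K70.f143575 IH) (Lpr_dt (f143577 IH) (Lpn (LP (LK LD1_c21 LD2_c4 LD3_c51))))))))))))
theorem f978662 : Led Lsl_gt (LP (LK LD1_c21 LD2_c4 LD3_c51)) = (LP (LK LD1_c29 LD2_c50 LD3_c30)) :=
  Leop (Lpr_gf (f978661 IH) (Lpn (LP (LK LD1_c21 LD2_c4 LD3_c51))))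
theorem seed_3058 : LEOK LG_g (LK LD1_c21 LD2_c4 LD3_c51) :=
  Leoe_g (LK LD1_c21 LD2_c4 LD3_c51) (f978662 IH)
def v50892 : LQ := Led Lsl_ct (LP (LK LD1_c12 LD2_c0 LD3_c53))
theorem f978893 : Led Lsl_ct (LP (LK LD1_c12 LD2_c0 LD3_c53)) = v50892 :=
  Lrfl
theorem f978894 : Led Lsl_cf (LP (LK LD1_c12 LD2_c0 LD3_c53)) = v50892 :=
  Lgr Lrot11 (Lpr_ct (f978893 IH) (Lpn v50892))
theorem f78879 : Led Lsl_gt (LP (LK LD1_c12 LD2_c0 LD3_c53)) = (LP (LK LD1_c6 LD2_c10 LD3_c1)) :=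
  Lre_g IH (LK LD1_c12 LD2_c0 LD3_c53) (LK LD1_c6 LD2_c10 LD3_c1) Lrfl Lrfl
theorem f978897 : Led Lsl_bf (LP (LK LD1_c21 LD2_c19 LD3_c13)) = v50892 :=
  Lgr Lrot34 (Lpe (K57.f86466 IH) (Lpe (K5.f67904 IH) (Lpr_ct (K5.f67717 IH) (Lpe (K5.f67691 IH) (Lpe (K2.f25079 IH) (Lpe (K7.f134027 IH) (Lpe (K46.f78811 IH) (Lpr_ct (K46.f78830 IH) (Lpe (f78879 IH) (Lpr_cf (f978894 IH) (Lpn v50892)))))))))))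
theorem f85999 : Led Lsl_bt (LP (LK LD1_c17 LD2_c35 LD3_c26)) = (LP (LK LD1_c9 LD2_c33 LD3_c9)) :=
  Lre_b IH (LK LD1_c17 LD2_c35 LD3_c26) (LK LD1_c9 LD2_c33 LD3_c9) Lrfl Lrfl
theorem f86000 : Led Lsl_ct (LP (LK LD1_c21 LD2_c19 LD3_c21)) = (LP (LK LD1_c17 LD2_c35 LD3_c26)) :=
  Lgr Lrot83 (Lpe (K70.f85997 IH) (Lpr_cf (K3.f85995 IH) (Lpe (K70.f85998 IH) (Lpe (K49.f57902 IH) (Lpe (f85999 IH) (Lpn (LP (LK LD1_c17 LD2_c35 LD3_c26))))))))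
theorem f57911 : Led Lsl_gt (LP (LK LD1_c27 LD2_c23 LD3_c28)) = (LP (LK LD1_c17 LD2_c35 LD3_c26)) :=
  Lre_g IH (LK LD1_c27 LD2_c23 LD3_c28) (LK LD1_c17 LD2_c35 LD3_c26) Lrfl Lrfl
theorem f86467 : Led Lsl_ct (LP (LK LD1_c21 LD2_c19 LD3_c13)) = (LP (LK LD1_c27 LD2_c23 LD3_c28)) :=
  Lgr Lrot91 (Lpe (K57.f86466 IH) (Lpe (K5.f67904 IH) (Lpr_ct (K5.f67717 IH) (Lpe (K5.f67691 IH) (Lpe (K2.f25079 IH) (Lpr_bt (K7.f67560 IH) (Lpe (K3.f67966 IH) (Lpe (K70.f67972 IH) (Lpr_ct (f86000 IH) (Lpe (f57911 IH) (Lpn (LP (LK LD1_c27 LD2_c23 LD3_c28)))))))))))))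
theorem f114075 : Led Lsl_bt (LP (LK LD1_c21 LD2_c6 LD3_c16)) = (LP (LK LD1_c12 LD2_c0 LD3_c53)) :=
  Lre_b IH (LK LD1_c21 LD2_c6 LD3_c16) (LK LD1_c12 LD2_c0 LD3_c53) Lrfl Lrfl
theorem f114076 : Led Lsl_ct (LP (LK LD1_c29 LD2_c51 LD3_c25)) = (LP (LK LD1_c21 LD2_c6 LD3_c16)) :=
  Lre_c IH (LK LD1_c29 LD2_c51 LD3_c25) (LK LD1_c21 LD2_c6 LD3_c16) Lrfl Lrfl
theorem f978899 : Led Lsl_bt (LP (LK LD1_c27 LD2_c23 LD3_c28)) = (LP (LK LD1_c29 LD2_c51 LD3_c25)) :=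
  Lgr Lrot128 (Lpe (f86467 IH) (Lpr_bf (f978897 IH) (Lpe (f978893 IH) (Lpe (f114075 IH) (Lpe (f114076 IH) (Lpn (LP (LK LD1_c29 LD2_c51 LD3_c25))))))))
theorem f978900 : Led Lsl_bt (LP (LK LD1_c27 LD2_c23 LD3_c28)) = (LP (LK LD1_c29 LD2_c51 LD3_c25)) :=
  Leop (Lpe (f978899 IH) (Lpn (LP (LK LD1_c27 LD2_c23 LD3_c28))))
theorem seed_3059 : LEOK LG_b (LK LD1_c27 LD2_c23 LD3_c28) :=
  Leoe_b (LK LD1_c27 LD2_c23 LD3_c28) (f978900 IH)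
theorem f67987 : Led Lsl_bt (LP (LK LD1_c12 LD2_c13 LD3_c40)) = (LP (LK LD1_c21 LD2_c19 LD3_c45)) :=
  Lre_b IH (LK LD1_c12 LD2_c13 LD3_c40) (LK LD1_c21 LD2_c19 LD3_c45) Lrfl Lrfl
theorem f978896 : Led Lsl_gt (LP (LK LD1_c21 LD2_c19 LD3_c45)) = v50892 :=
  Lgr Lrot82 (Lpe (f67987 IH) (Lpr_ct (K70.f67115 IH) (Lpe (K2.f67093 IH) (Lpe (K46.f67592 IH) (Lpr_bt (K2.f67588 IH) (Lpe (K7.f134027 IH) (Lpe (K46.f78811 IH) (Lpr_ct (K46.f78830 IH) (Lpe (f78879 IH) (Lpr_cf (f978894 IH) (Lpn v50892)))))))))))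
theorem f84055 : Led Lsl_bt (LP (LK LD1_c6 LD2_c41 LD3_c44)) = (LP (LK LD1_c12 LD2_c48 LD3_c39)) :=
  Lre_b IH (LK LD1_c6 LD2_c41 LD3_c44) (LK LD1_c12 LD2_c48 LD3_c39) Lrfl Lrfl
theorem f67122 : Led Lsl_bt (LP (LK LD1_c21 LD2_c19 LD3_c45)) = (LP (LK LD1_c12 LD2_c13 LD3_c40)) :=
  Lre_b IH (LK LD1_c21 LD2_c19 LD3_c45) (LK LD1_c12 LD2_c13 LD3_c40) Lrfl Lrfl
theorem f84056 : Led Lsl_ct (LP (LK LD1_c12 LD2_c48 LD3_c39)) = (LP (LK LD1_c21 LD2_c19 LD3_c45)) :=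
  Lgr Lrot83 (Lpe (f84055 IH) (Lpr_cf (K2.f84052 IH) (Lpe (K60.f67126 IH) (Lpe (K70.f67115 IH) (Lpe (f67122 IH) (Lpn (LP (LK LD1_c21 LD2_c19 LD3_c45))))))))
theorem f86555 : Led Lsl_bt (LP (LK LD1_c12 LD2_c48 LD3_c39)) = (LP (LK LD1_c6 LD2_c41 LD3_c44)) :=
  Lre_b IH (LK LD1_c12 LD2_c48 LD3_c39) (LK LD1_c6 LD2_c41 LD3_c44) Lrfl Lrfl
theorem f85831 : Led Lsl_at (LP (LK LD1_c12 LD2_c0 LD3_c44)) = (LP (LK LD1_c21 LD2_c5 LD3_c57)) :=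
  Lre_a IH (LK LD1_c12 LD2_c0 LD3_c44) (LK LD1_c21 LD2_c5 LD3_c57) Lrfl Lrfl
theorem f85832 : Led Lsl_ct (LP (LK LD1_c21 LD2_c5 LD3_c57)) = (LP (LK LD1_c21 LD2_c16 LD3_c36)) :=
  Lgr Lrot111 (Lpe (f85831 IH) (Lpr_cf (K3.f85819 IH) (Lpe (K6.f85803 IH) (Lpn (LP (LK LD1_c21 LD2_c16 LD3_c36))))))
theorem f85822 : Led Lsl_gt (LP (LK LD1_c9 LD2_c21 LD3_c49)) = (LP (LK LD1_c17 LD2_c18 LD3_c1)) :=
  Lre_g IH (LK LD1_c9 LD2_c21 LD3_c49) (LK LD1_c17 LD2_c18 LD3_c1) Lrfl Lrfl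
theorem f85823 : Led Lsl_gt (LP (LK LD1_c17 LD2_c18 LD3_c1)) = (LP (LK LD1_c21 LD2_c16 LD3_c36)) :=
  Lgr Lrot46 (Lpe (f85822 IH) (Lpr_ft (K3.f85808 IH) (Lpr_at (K3.f85781 IH) (Lpn (LP (LK LD1_c21 LD2_c16 LD3_c36))))))
theorem f85827 : Led Lsl_ct (LP (LK LD1_c27 LD2_c7 LD3_c45)) = (LP (LK LD1_c17 LD2_c18 LD3_c1)) :=
  Lre_c IH (LK LD1_c27 LD2_c7 LD3_c45) (LK LD1_c17 LD2_c18 LD3_c1) Lrfl Lrfl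
theorem f783824 : Led Lsl_bt (LP (LK LD1_c12 LD2_c0 LD3_c53)) = (LP (LK LD1_c21 LD2_c6 LD3_c16)) :=
  Lre_b IH (LK LD1_c12 LD2_c0 LD3_c53) (LK LD1_c21 LD2_c6 LD3_c16) Lrfl Lrfl
theorem f978905 : Led Lsl_gf (LP (LK LD1_c27 LD2_c7 LD3_c45)) = (LP (LK LD1_c21 LD2_c6 LD3_c16)) :=
  Lgr Lrot181 (Lpr_ct (f85827 IH) (Lpr_gt (f85823 IH) (Lpe (f85832 IH) (Lpr_bt (K3.f85863 IH) (Lpr_gt (K2.f84066 IH) (Lpe (f86555 IH) (Lpr_ct (f84056 IH) (Lpr_gt (f978896 IH) (Lpe (f978893 IH) (Lpr_bt (f783824 IH) (Lpn (LP (LK LD1_c21 LD2_c6 LD3_c16)))))))))))))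
theorem f978906 : Led Lsl_gt (LP (LK LD1_c21 LD2_c6 LD3_c16)) = (LP (LK LD1_c27 LD2_c7 LD3_c45)) :=
  Leop (Lpr_gf (f978905 IH) (Lpn (LP (LK LD1_c21 LD2_c6 LD3_c16))))
theorem seed_3060 : LEOK LG_g (LK LD1_c21 LD2_c6 LD3_c16) :=
  Leoe_g (LK LD1_c21 LD2_c6 LD3_c16) (f978906 IH)
def v50898 : LQ := Led Lsl_at (LP (LK LD1_c12 LD2_c0 LD3_c59))
theorem f978932 : Led Lsl_at (LP (LK LD1_c12 LD2_c0 LD3_c59)) = v50898 :=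
  Lrfl
theorem f78924 : Led Lsl_et (LP (LK LD1_c6 LD2_c10 LD3_c2)) = (LP (LK LD1_c12 LD2_c0 LD3_c59)) :=
  Lre_e IH (LK LD1_c6 LD2_c10 LD3_c2) (LK LD1_c12 LD2_c0 LD3_c59) Lrfl Lrfl
def v16982 : LQ := Led Lsl_dt (LP (LK LD1_c6 LD2_c9 LD3_c55))
theorem f753987 : Led Lsl_dt (LP (LK LD1_c6 LD2_c9 LD3_c55)) = v16982 :=
  Lrfl
theorem f78949 : Led Lsl_at (LP (LK LD1_c3 LD2_c1 LD3_c36)) = (LP (LK LD1_c6 LD2_c9 LD3_c55)) :=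
  Lre_a IH (LK LD1_c3 LD2_c1 LD3_c36) (LK LD1_c6 LD2_c9 LD3_c55) Lrfl Lrfl
theorem f753988 : Led Lsl_af (LP (LK LD1_c6 LD2_c10 LD3_c2)) = v16982 :=
  Lgr Lrot117 (Lpr_dt (K34.f78893 IH) (Lpr_at (f78949 IH) (Lpr_dt (f753987 IH) (Lpn v16982))))
theorem f978936 : Led Lsl_ef v16982 = v50898 :=
  Lgr Lrot20 (Lpe (f753988 IH) (Lpr_et (f78924 IH) (Lpr_at (f978932 IH) (Lpn v50898))))
theorem f753992 : Led Lsl_gf (LP (LK LD1_c12 LD2_c48 LD3_c12)) = v16982 :=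
  Lgr Lrot143 (Lpr_dt (K11.f126133 IH) (Lpr_cf (K7.f126163 IH) (Lpe (K7.f62661 IH) (Lpe (K7.f62660 IH) (Lpe (K3.f85365 IH) (Lpr_gf (K3.f88972 IH) (Lpe (K5.f88974 IH) (Lpe (K6.f143327 IH) (Lpr_dt (f753987 IH) (Lpn v16982))))))))))
theorem f119256 : Led Lsl_gt (LP (LK LD1_c12 LD2_c48 LD3_c17)) = (LP (LK LD1_c21 LD2_c55 LD3_c51)) :=
  Lre_g IH (LK LD1_c12 LD2_c48 LD3_c17) (LK LD1_c21 LD2_c55 LD3_c51) Lrfl Lrfl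
theorem f119338 : Led Lsl_et (LP (LK LD1_c30 LD2_c13 LD3_c7)) = (LP (LK LD1_c21 LD2_c55 LD3_c51)) :=
  Lre_e IH (LK LD1_c30 LD2_c13 LD3_c7) (LK LD1_c21 LD2_c55 LD3_c51) Lrfl Lrfl
theorem f78872 : Led Lsl_dt (LP (LK LD1_c12 LD2_c40 LD3_c30)) = (LP (LK LD1_c6 LD2_c37 LD3_c20)) :=
  Lre_d IH (LK LD1_c12 LD2_c40 LD3_c30) (LK LD1_c6 LD2_c37 LD3_c20) Lrfl Lrfl
theorem f78873 : Led Lsl_et (LP (LK LD1_c21 LD2_c46 LD3_c58)) = (LP (LK LD1_c12 LD2_c40 LD3_c30)) :=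
  Lre_e IH (LK LD1_c21 LD2_c46 LD3_c58) (LK LD1_c12 LD2_c40 LD3_c30) Lrfl Lrfl
theorem f78858 : Led Lsl_dt (LP (LK LD1_c6 LD2_c10 LD3_c1)) = (LP (LK LD1_c12 LD2_c0 LD3_c55)) :=
  Lre_d IH (LK LD1_c6 LD2_c10 LD3_c1) (LK LD1_c12 LD2_c0 LD3_c55) Lrfl Lrfl
theorem f78874 : Led Lsl_et (LP (LK LD1_c12 LD2_c0 LD3_c55)) = (LP (LK LD1_c21 LD2_c6 LD3_c21)) :=
  Lre_e IH (LK LD1_c12 LD2_c0 LD3_c55) (LK LD1_c21 LD2_c6 LD3_c21) Lrfl Lrfl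
theorem f78875 : Led Lsl_df (LP (LK LD1_c21 LD2_c46 LD3_c58)) = (LP (LK LD1_c21 LD2_c6 LD3_c21)) :=
  Lgr Lrot70 (Lpr_et (f78873 IH) (Lpr_dt (f78872 IH) (Lpr_et (K57.f78853 IH) (Lpr_dt (f78858 IH) (Lpr_et (f78874 IH) (Lpn (LP (LK LD1_c21 LD2_c6 LD3_c21))))))))
theorem f78883 : Led Lsl_bt (LP (LK LD1_c21 LD2_c46 LD3_c58)) = (LP (LK LD1_c12 LD2_c40 LD3_c35)) :=
  Lre_b IH (LK LD1_c21 LD2_c46 LD3_c58) (LK LD1_c12 LD2_c40 LD3_c35) Lrfl Lrfl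
theorem f78884 : Led Lsl_bt (LP (LK LD1_c12 LD2_c0 LD3_c59)) = (LP (LK LD1_c21 LD2_c6 LD3_c21)) :=
  Lre_b IH (LK LD1_c12 LD2_c0 LD3_c59) (LK LD1_c21 LD2_c6 LD3_c21) Lrfl Lrfl
theorem f78885 : Led Lsl_dt (LP (LK LD1_c12 LD2_c40 LD3_c35)) = (LP (LK LD1_c12 LD2_c0 LD3_c59)) :=
  Lgr Lrot79 (Lpe (f78883 IH) (Lpr_df (f78875 IH) (Lpe (f78884 IH) (Lpn (LP (LK LD1_c12 LD2_c0 LD3_c59))))))
theorem f118557 : Led Lsl_at (LP (LK LD1_c12 LD2_c36 LD3_c51)) = (LP (LK LD1_c6 LD2_c37 LD3_c21)) :=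
  Lgr Lrot51 (Lpe (K59.f118434 IH) (Lpr_af (K57.f118552 IH) (Lpe (K65.f78922 IH) (Lpn (LP (LK LD1_c6 LD2_c37 LD3_c21))))))
theorem f118561 : Led Lsl_et (LP (LK LD1_c21 LD2_c43 LD3_c6)) = (LP (LK LD1_c12 LD2_c36 LD3_c51)) :=
  Lre_e IH (LK LD1_c21 LD2_c43 LD3_c6) (LK LD1_c12 LD2_c36 LD3_c51) Lrfl Lrfl
theorem f78891 : Led Lsl_et (LP (LK LD1_c6 LD2_c37 LD3_c21)) = (LP (LK LD1_c12 LD2_c40 LD3_c35)) :=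
  Lre_e IH (LK LD1_c6 LD2_c37 LD3_c21) (LK LD1_c12 LD2_c40 LD3_c35) Lrfl Lrfl
theorem f118575 : Led Lsl_af (LP (LK LD1_c21 LD2_c43 LD3_c6)) = (LP (LK LD1_c12 LD2_c40 LD3_c35)) :=
  Lgr Lrot50 (Lpr_et (f118561 IH) (Lpr_at (f118557 IH) (Lpr_et (f78891 IH) (Lpn (LP (LK LD1_c12 LD2_c40 LD3_c35))))))
theorem f118577 : Led Lsl_at (LP (LK LD1_c21 LD2_c43 LD3_c6)) = (LP (LK LD1_c12 LD2_c40 LD3_c35)) :=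
  Lgr Lrot100 (Lpr_af (f118575 IH) (Lpn (LP (LK LD1_c12 LD2_c40 LD3_c35))))
theorem f978935 : Led Lsl_df (LP (LK LD1_c21 LD2_c43 LD3_c6)) = v50898 :=
  Lgr Lrot18 (Lpr_at (f118577 IH) (Lpr_dt (f78885 IH) (Lpr_at (f978932 IH) (Lpn v50898))))
theorem f118579 : Led Lsl_gt (LP (LK LD1_c30 LD2_c7 LD3_c46)) = (LP (LK LD1_c21 LD2_c43 LD3_c6)) :=
  Lre_g IH (LK LD1_c30 LD2_c7 LD3_c46) (LK LD1_c21 LD2_c43 LD3_c6) Lrfl Lrfl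
theorem f978940 : Led Lsl_dt (LP (LK LD1_c30 LD2_c13 LD3_c7)) = (LP (LK LD1_c30 LD2_c7 LD3_c46)) :=
  Lgr Lrot136 (Lpr_et (f119338 IH) (Lpe (f119256 IH) (Lpe (K7.f119243 IH) (Lpr_dt (K34.f114193 IH) (Lpe (K7.f119228 IH) (Lpe (K11.f126133 IH) (Lpr_gf (f753992 IH) (Lpr_ef (f978936 IH) (Lpe (f978935 IH) (Lpe (f118579 IH) (Lpn (LP (LK LD1_c30 LD2_c7 LD3_c46)))))))))))))
theorem f978941 : Led Lsl_dt (LP (LK LD1_c30 LD2_c13 LD3_c7)) = (LP (LK LD1_c30 LD2_c7 LD3_c46)) :=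
  Leop (Lpe (f978940 IH) (Lpn (LP (LK LD1_c30 LD2_c13 LD3_c7))))
theorem seed_3061 : LEOK LG_d (LK LD1_c30 LD2_c13 LD3_c7) :=
  Leoe_d (LK LD1_c30 LD2_c13 LD3_c7) (f978941 IH)
def v50933 : LQ := Led Lsl_bt (LP (LK LD1_c12 LD2_c1 LD3_c17))
theorem f979082 : Led Lsl_bt (LP (LK LD1_c12 LD2_c1 LD3_c17)) = v50933 :=
  Lrfl
theorem f979083 : Led Lsl_bf (LP (LK LD1_c12 LD2_c1 LD3_c17)) = v50933 :=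
  Lgr Lrot24 (Lpr_bt (f979082 IH) (Lpn v50933))
theorem f151284 : Led Lsl_gt (LP (LK LD1_c6 LD2_c10 LD3_c12)) = (LP (LK LD1_c12 LD2_c1 LD3_c17)) :=
  Lre_g IH (LK LD1_c6 LD2_c10 LD3_c12) (LK LD1_c12 LD2_c1 LD3_c17) Lrfl Lrfl
theorem f508713 : Led Lsl_bt (LP (LK LD1_c3 LD2_c1 LD3_c44)) = (LP (LK LD1_c6 LD2_c10 LD3_c12)) :=
  Lre_b IH (LK LD1_c3 LD2_c1 LD3_c44) (LK LD1_c6 LD2_c10 LD3_c12) Lrfl Lrfl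
def v22107 : LQ := Led Lsl_ft (LP (LK LD1_c7 LD2_c31 LD3_c23))
theorem f801396 : Led Lsl_ft (LP (LK LD1_c7 LD2_c31 LD3_c23)) = v22107 :=
  Lrfl
theorem f801397 : Led Lsl_bf (LP (LK LD1_c7 LD2_c31 LD3_c25)) = v22107 :=
  Lgr Lrot61 (Lpr_ft (K51.f130986 IH) (Lpr_bt (K48.f148579 IH) (Lpr_ft (f801396 IH) (Lpn v22107))))
theorem f649406 : Led Lsl_bt (LP (LK LD1_c6 LD2_c12 LD3_c20)) = (LP (LK LD1_c12 LD2_c4 LD3_c16)) :=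
  Lre_b IH (LK LD1_c6 LD2_c12 LD3_c20) (LK LD1_c12 LD2_c4 LD3_c16) Lrfl Lrfl
theorem f649421 : Led Lsl_ff (LP (LK LD1_c6 LD2_c31 LD3_c49)) = (LP (LK LD1_c12 LD2_c4 LD3_c16)) :=
  Lgr Lrot25 (Lpr_bt (K48.f148577 IH) (Lpr_ft (K48.f649419 IH) (Lpr_bt (f649406 IH) (Lpn (LP (LK LD1_c12 LD2_c4 LD3_c16))))))
theorem f801398 : Led Lsl_cf (LP (LK LD1_c12 LD2_c4 LD3_c16)) = v22107 :=
  Lgr Lrot108 (Lpe (f649421 IH) (Lpe (K48.f148540 IH) (Lpr_ft (f801396 IH) (Lpn v22107))))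
theorem f649430 : Led Lsl_gt (LP (LK LD1_c21 LD2_c9 LD3_c47)) = (LP (LK LD1_c12 LD2_c4 LD3_c16)) :=
  Lre_g IH (LK LD1_c21 LD2_c9 LD3_c47) (LK LD1_c12 LD2_c4 LD3_c16) Lrfl Lrfl
theorem f979084 : Led Lsl_cf (LP (LK LD1_c21 LD2_c9 LD3_c47)) = v50933 :=
  Lgr Lrot160 (Lpr_gt (f649430 IH) (Lpr_cf (f801398 IH) (Lpe (f801397 IH) (Lpe (K51.f527814 IH) (Lpr_ct (K59.f139967 IH) (Lpr_gt (K9.f62168 IH) (Lpe (K46.f453919 IH) (Lpr_bt (f508713 IH) (Lpr_gt (f151284 IH) (Lpr_bf (f979083 IH) (Lpn v50933)))))))))))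
def v50927 : LQ := Led Lsl_ft (LP (LK LD1_c12 LD2_c1 LD3_c15))
theorem f979053 : Led Lsl_ft (LP (LK LD1_c12 LD2_c1 LD3_c15)) = v50927 :=
  Lrfl
theorem f979057 : Led Lsl_ff (LP (LK LD1_c12 LD2_c1 LD3_c15)) = v50927 :=
  Lgr Lrot3 (Lpr_ft (f979053 IH) (Lpn v50927))
theorem f754046 : Led Lsl_at (LP (LK LD1_c12 LD2_c1 LD3_c15)) = (LP (LK LD1_c6 LD2_c10 LD3_c12)) :=
  Lre_a IH (LK LD1_c12 LD2_c1 LD3_c15) (LK LD1_c6 LD2_c10 LD3_c12) Lrfl Lrfl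
theorem f754053 : Led Lsl_ft (LP (LK LD1_c6 LD2_c10 LD3_c12)) = (LP (LK LD1_c12 LD2_c1 LD3_c18)) :=
  Lre_f IH (LK LD1_c6 LD2_c10 LD3_c12) (LK LD1_c12 LD2_c1 LD3_c18) Lrfl Lrfl
theorem f979059 : Led Lsl_at (LP (LK LD1_c12 LD2_c1 LD3_c18)) = v50927 :=
  Lgr Lrot66 (Lpe (f754053 IH) (Lpe (f754046 IH) (Lpr_ff (f979057 IH) (Lpn v50927))))
theorem f979063 : Led Lsl_gt (LP (LK LD1_c12 LD2_c1 LD3_c17)) = v50927 :=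
  Lgr Lrot46 (Lpe (f151284 IH) (Lpr_ft (f754053 IH) (Lpr_at (f979059 IH) (Lpn v50927))))
theorem f61469 : Led Lsl_bt (LP (LK LD1_c12 LD2_c1 LD3_c15)) = (LP (LK LD1_c6 LD2_c10 LD3_c56)) :=
  Lre_b IH (LK LD1_c12 LD2_c1 LD3_c15) (LK LD1_c6 LD2_c10 LD3_c56) Lrfl Lrfl
theorem f979060 : Led Lsl_bt (LP (LK LD1_c12 LD2_c2 LD3_c16)) = v50927 :=
  Lgr Lrot35 (Lpe (K6.f99939 IH) (Lpe (f61469 IH) (Lpr_ff (f979057 IH) (Lpn v50927))))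
def v17128 : LQ := Led Lsl_bt (LP (LK LD1_c6 LD2_c11 LD3_c56))
theorem f756253 : Led Lsl_bt (LP (LK LD1_c6 LD2_c11 LD3_c56)) = v17128 :=
  Lrfl
theorem f801400 : Led Lsl_ff (LP (LK LD1_c7 LD2_c31 LD3_c23)) = v22107 :=
  Lgr Lrot3 (Lpr_ft (f801396 IH) (Lpn v22107))
theorem f130884 : Led Lsl_bt (LP (LK LD1_c7 LD2_c31 LD3_c23)) = (LP (LK LD1_c3 LD2_c45 LD3_c19)) :=
  Lre_b IH (LK LD1_c7 LD2_c31 LD3_c23) (LK LD1_c3 LD2_c45 LD3_c19) Lrfl Lrfl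
theorem f801401 : Led Lsl_bt (LP (LK LD1_c7 LD2_c31 LD3_c25)) = v22107 :=
  Lgr Lrot35 (Lpe (K46.f109336 IH) (Lpe (f130884 IH) (Lpr_ff (f801400 IH) (Lpn v22107))))
theorem f646556 : Led Lsl_bt (LP (LK LD1_c3 LD2_c2 LD3_c7)) = (LP (LK LD1_c1 LD2_c27 LD3_c5)) :=
  Lre_b IH (LK LD1_c3 LD2_c2 LD3_c7) (LK LD1_c1 LD2_c27 LD3_c5) Lrfl Lrfl
theorem f801404 : Led Lsl_gf v17128 = v22107 :=
  Lgr Lrot124 (Lpe (f756253 IH) (Lpr_ct (K69.f568468 IH) (Lpr_gt (K50.f73029 IH) (Lpe (K52.f100272 IH) (Lpr_bt (f646556 IH) (Lpr_gt (K46.f443625 IH) (Lpr_ct (K57.f646561 IH) (Lpqs (K46.f649454 IH) (Lpr_gt (K46.f649363 IH) (Lpe (K46.f130979 IH) (Lpr_bt (f801401 IH) (Lpn v22107))))))))))))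
def v22103 : LQ := Led Lsl_et (LP (LK LD1_c7 LD2_c31 LD3_c22))
theorem f801378 : Led Lsl_et (LP (LK LD1_c7 LD2_c31 LD3_c22)) = v22103 :=
  Lrfl
theorem f801382 : Led Lsl_ef (LP (LK LD1_c7 LD2_c31 LD3_c22)) = v22103 :=
  Lgr Lrot88 (Lpr_et (f801378 IH) (Lpn v22103))
theorem f148581 : Led Lsl_et (LP (LK LD1_c3 LD2_c45 LD3_c18)) = (LP (LK LD1_c7 LD2_c31 LD3_c23)) :=
  Lre_e IH (LK LD1_c3 LD2_c45 LD3_c18) (LK LD1_c7 LD2_c31 LD3_c23) Lrfl Lrfl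
theorem f801383 : Led Lsl_at (LP (LK LD1_c7 LD2_c31 LD3_c23)) = v22103 :=
  Lgr Lrot80 (Lpe (f148581 IH) (Lpe (K30.f148531 IH) (Lpr_ef (f801382 IH) (Lpn v22103))))
theorem f801405 : Led Lsl_gt v17128 = v22103 :=
  Lgr Lrot46 (Lpr_gf (f801404 IH) (Lpe (f801400 IH) (Lpr_at (f801383 IH) (Lpn v22103))))
theorem f148610 : Led Lsl_et (LP (LK LD1_c12 LD2_c31 LD3_c31)) = (LP (LK LD1_c6 LD2_c31 LD3_c47)) :=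
  Lre_e IH (LK LD1_c12 LD2_c31 LD3_c31) (LK LD1_c6 LD2_c31 LD3_c47) Lrfl Lrfl
theorem f801381 : Led Lsl_cf (LP (LK LD1_c12 LD2_c31 LD3_c31)) = v22103 :=
  Lgr Lrot39 (Lpr_et (f148610 IH) (Lpe (K30.f148533 IH) (Lpr_et (f801378 IH) (Lpn v22103))))
theorem f979086 : Led Lsl_gf (LP (LK LD1_c21 LD2_c9 LD3_c47)) = (LP (LK LD1_c12 LD2_c31 LD3_c31)) :=
  Lgr Lrot129 (Lpr_cf (f979084 IH) (Lpe (f979083 IH) (Lpr_gt (f979063 IH) (Lpe (f979060 IH) (Lpr_ct (K53.f100040 IH) (Lpr_gt (K53.f100205 IH) (Lpe (K69.f568468 IH) (Lpr_bt (f756253 IH) (Lpr_gt (f801405 IH) (Lpe (f801381 IH) (Lpn (LP (LK LD1_c12 LD2_c31 LD3_c31)))))))))))))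
theorem f979087 : Led Lsl_gt (LP (LK LD1_c12 LD2_c31 LD3_c31)) = (LP (LK LD1_c21 LD2_c9 LD3_c47)) :=
  Leop (Lpr_gf (f979086 IH) (Lpn (LP (LK LD1_c12 LD2_c31 LD3_c31))))
theorem seed_3062 : LEOK LG_g (LK LD1_c12 LD2_c31 LD3_c31) :=
  Leoe_g (LK LD1_c12 LD2_c31 LD3_c31) (f979087 IH)
def v50938 : LQ := Led Lsl_at (LP (LK LD1_c12 LD2_c1 LD3_c19))
theorem f979103 : Led Lsl_at (LP (LK LD1_c12 LD2_c1 LD3_c19)) = v50938 :=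
  Lrfl
theorem f979104 : Led Lsl_af (LP (LK LD1_c12 LD2_c1 LD3_c19)) = v50938 :=
  Lgr Lrot0 (Lpr_at (f979103 IH) (Lpn v50938))
theorem f63481 : Led Lsl_gt (LP (LK LD1_c6 LD2_c11 LD3_c4)) = (LP (LK LD1_c12 LD2_c1 LD3_c19)) :=
  Lre_g IH (LK LD1_c6 LD2_c11 LD3_c4) (LK LD1_c12 LD2_c1 LD3_c19) Lrfl Lrfl
theorem f979106 : Led Lsl_ft K63.v16993 = v50938 :=
  Lgr Lrot2 (Lpe (K63.f754058 IH) (Lpr_gt (f63481 IH) (Lpr_af (f979104 IH) (Lpn v50938))))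
theorem f979108 : Led Lsl_ff K63.v16993 = v50938 :=
  Lgr Lrot3 (Lpr_ft (f979106 IH) (Lpn v50938))
def v22170 : LQ := Led Lsl_ft (LP (LK LD1_c7 LD2_c32 LD3_c19))
theorem f801754 : Led Lsl_ft (LP (LK LD1_c7 LD2_c32 LD3_c19)) = v22170 :=
  Lrfl
theorem f979109 : Led Lsl_ct v22170 = v50938 :=
  Lgr Lrot40 (Lpe (f801754 IH) (Lpr_cf (K67.f801753 IH) (Lpqs (K63.f804794 IH) (Lpr_ff (f979108 IH) (Lpn v50938)))))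
theorem f801756 : Led Lsl_ff (LP (LK LD1_c7 LD2_c32 LD3_c19)) = v22170 :=
  Lgr Lrot3 (Lpr_ft (f801754 IH) (Lpn v22170))
def v22167 : LQ := Led Lsl_at (LP (LK LD1_c7 LD2_c32 LD3_c19))
theorem f801745 : Led Lsl_at (LP (LK LD1_c7 LD2_c32 LD3_c19)) = v22167 :=
  Lrfl
theorem f801746 : Led Lsl_af (LP (LK LD1_c7 LD2_c32 LD3_c19)) = v22167 :=
  Lgr Lrot0 (Lpr_at (f801745 IH) (Lpn v22167))
theorem f111663 : Led Lsl_gt (LP (LK LD1_c7 LD2_c32 LD3_c20)) = (LP (LK LD1_c3 LD2_c45 LD3_c49)) :=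
  Lre_g IH (LK LD1_c7 LD2_c32 LD3_c20) (LK LD1_c3 LD2_c45 LD3_c49) Lrfl Lrfl
theorem f801747 : Led Lsl_ft (LP (LK LD1_c7 LD2_c32 LD3_c20)) = v22167 :=
  Lgr Lrot2 (Lpr_gt (f111663 IH) (Lpr_gt (K51.f93632 IH) (Lpr_af (f801746 IH) (Lpn v22167))))
theorem f801748 : Led Lsl_ff (LP (LK LD1_c7 LD2_c32 LD3_c20)) = v22167 :=
  Lgr Lrot3 (Lpr_ft (f801747 IH) (Lpn v22167))
theorem f801757 : Led Lsl_at (LP (LK LD1_c7 LD2_c32 LD3_c20)) = v22170 :=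
  Lgr Lrot66 (Lpr_ff (f801748 IH) (Lpe (f801745 IH) (Lpr_ff (f801756 IH) (Lpn v22170))))
def v22172 : LQ := Led Lsl_ct (LP (LK LD1_c7 LD2_c32 LD3_c20))
theorem f801760 : Led Lsl_ct (LP (LK LD1_c7 LD2_c32 LD3_c20)) = v22172 :=
  Lrfl
theorem f801761 : Led Lsl_cf (LP (LK LD1_c7 LD2_c32 LD3_c20)) = v22172 :=
  Lgr Lrot11 (Lpr_ct (f801760 IH) (Lpn v22172))
theorem f979110 : v22172 = (LP (LK LD1_c12 LD2_c1 LD3_c19)) :=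
  (Llr Lrot1 (Lpe (f801761 IH) (Lpr_at (f801757 IH) (Lpr_ct (f979109 IH) (Lpe (f979104 IH) (Lpn (LP (LK LD1_c12 LD2_c1 LD3_c19)))))))).symm
theorem f979111 : Led Lsl_ct (LP (LK LD1_c12 LD2_c1 LD3_c19)) = (LP (LK LD1_c7 LD2_c32 LD3_c20)) :=
  Leop (Lpr_cf (f801761 IH) (Lpqs (f979110 IH) (Lpn (LP (LK LD1_c12 LD2_c1 LD3_c19)))))
theorem seed_3063 : LEOK LG_c (LK LD1_c12 LD2_c1 LD3_c19) :=
  Leoe_c (LK LD1_c12 LD2_c1 LD3_c19) (f979111 IH)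
def v50998 : LQ := Led Lsl_et (LP (LK LD1_c12 LD2_c1 LD3_c58))
theorem f979506 : Led Lsl_et (LP (LK LD1_c12 LD2_c1 LD3_c58)) = v50998 :=
  Lrfl
theorem f979509 : Led Lsl_ef (LP (LK LD1_c12 LD2_c1 LD3_c58)) = v50998 :=
  Lgr Lrot88 (Lpr_et (f979506 IH) (Lpn v50998))
theorem f93851 : Led Lsl_ef (LP (LK LD1_c6 LD2_c38 LD3_c32)) = (LP (LK LD1_c12 LD2_c37 LD3_c23)) :=
  Lgr Lrot88 (Lpr_et (K4.f93848 IH) (Lpn (LP (LK LD1_c12 LD2_c37 LD3_c23))))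
theorem f64857 : Led Lsl_gt (LP (LK LD1_c12 LD2_c43 LD3_c10)) = (LP (LK LD1_c6 LD2_c38 LD3_c45)) :=
  Lre_g IH (LK LD1_c12 LD2_c43 LD3_c10) (LK LD1_c6 LD2_c38 LD3_c45) Lrfl Lrfl
theorem f93791 : Led Lsl_gf (LP (LK LD1_c12 LD2_c43 LD3_c10)) = (LP (LK LD1_c21 LD2_c43 LD3_c47)) :=
  Lgr Lrot47 (Lpr_gt (f64857 IH) (Lpr_af (K58.f93783 IH) (Lpe (K58.f93782 IH) (Lpn (LP (LK LD1_c21 LD2_c43 LD3_c47))))))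
theorem f979512 : Led Lsl_df (LP (LK LD1_c12 LD2_c43 LD3_c10)) = v50998 :=
  Lgr Lrot168 (Lpr_gf (f93791 IH) (Lpe (K4.f93742 IH) (Lpe (f93851 IH) (Lpe (K63.f441229 IH) (Lpe (K52.f441218 IH) (Lpr_dt (K52.f441219 IH) (Lpe (K52.f441880 IH) (Lpe (K3.f105284 IH) (Lpr_gf (K52.f105291 IH) (Lpr_ef (f979509 IH) (Lpn v50998)))))))))))
def v19194 : LQ := Led Lsl_at (LP (LK LD1_c6 LD2_c39 LD3_c40))
theorem f778407 : Led Lsl_at (LP (LK LD1_c6 LD2_c39 LD3_c40)) = v19194 :=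
  Lrfl
theorem f778409 : Led Lsl_cf K63.v7553 = v19194 :=
  Lgr Lrot1 (Lpe (K63.f666709 IH) (Lpr_ct (K52.f666713 IH) (Lpq (K52.f711714 IH) (Lpr_at (f778407 IH) (Lpn v19194)))))
theorem f778410 : Led Lsl_ct K63.v7553 = v19194 :=
  Lgr Lrot59 (Lpr_cf (f778409 IH) (Lpn v19194))
theorem f813833 : v19194 = (LP (LK LD1_c12 LD2_c1 LD3_c58)) :=
  Lefun (Lecon (f778410 IH) (K63.f813807 IH).symm) (Lfl_cf (K52.f713805 IH))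
theorem f778408 : Led Lsl_af (LP (LK LD1_c6 LD2_c39 LD3_c40)) = v19194 :=
  Lgr Lrot0 (Lpr_at (f778407 IH) (Lpn v19194))
theorem f979510 : Led Lsl_at (LP (LK LD1_c12 LD2_c45 LD3_c12)) = v50998 :=
  Lgr Lrot80 (Lpe (K57.f93535 IH) (Lpr_af (f778408 IH) (Lpqs (f813833 IH) (Lpr_ef (f979509 IH) (Lpn v50998)))))
theorem f979513 : Led Lsl_at (LP (LK LD1_c12 LD2_c43 LD3_c10)) = (LP (LK LD1_c21 LD2_c43 LD3_c45)) :=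
  Lgr Lrot51 (Lpr_df (f979512 IH) (Lpe (f979510 IH) (Lpr_df (K52.f93533 IH) (Lpn (LP (LK LD1_c21 LD2_c43 LD3_c45))))))
theorem f979514 : Led Lsl_at (LP (LK LD1_c12 LD2_c43 LD3_c10)) = (LP (LK LD1_c21 LD2_c43 LD3_c45)) :=
  Leop (Lpe (f979513 IH) (Lpn (LP (LK LD1_c12 LD2_c43 LD3_c10))))
theorem seed_3064 : LEOK LG_a (LK LD1_c12 LD2_c43 LD3_c10) :=
  Leoe_a (LK LD1_c12 LD2_c43 LD3_c10) (f979514 IH)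
def v51062 : LQ := Led Lsl_at (LP (LK LD1_c12 LD2_c2 LD3_c28))
theorem f979823 : Led Lsl_at (LP (LK LD1_c12 LD2_c2 LD3_c28)) = v51062 :=
  Lrfl
theorem f63383 : Led Lsl_dt (LP (LK LD1_c6 LD2_c11 LD3_c1)) = (LP (LK LD1_c12 LD2_c2 LD3_c28)) :=
  Lre_d IH (LK LD1_c6 LD2_c11 LD3_c1) (LK LD1_c12 LD2_c2 LD3_c28) Lrfl Lrfl
theorem f979825 : Led Lsl_df K65.v17049 = v51062 :=
  Lgr Lrot18 (Lpe (K65.f754736 IH) (Lpr_dt (f63383 IH) (Lpr_at (f979823 IH) (Lpn v51062))))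
theorem f754740 : Led Lsl_ff (LP (LK LD1_c6 LD2_c11 LD3_c2)) = K65.v17049 :=
  Lgr Lrot3 (Lpr_ft (K65.f754737 IH) (Lpn K65.v17049))
theorem f63385 : Led Lsl_dt (LP (LK LD1_c6 LD2_c11 LD3_c2)) = (LP (LK LD1_c12 LD2_c2 LD3_c30)) :=
  Lre_d IH (LK LD1_c6 LD2_c11 LD3_c2) (LK LD1_c12 LD2_c2 LD3_c30) Lrfl Lrfl
theorem f979827 : Led Lsl_ft (LP (LK LD1_c12 LD2_c2 LD3_c30)) = v51062 :=
  Lgr Lrot54 (Lpe (f63385 IH) (Lpr_ff (f754740 IH) (Lpr_df (f979825 IH) (Lpn v51062))))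
theorem f979824 : Led Lsl_af (LP (LK LD1_c12 LD2_c2 LD3_c28)) = v51062 :=
  Lgr Lrot0 (Lpr_at (f979823 IH) (Lpn v51062))
theorem f754747 : Led Lsl_gt (LP (LK LD1_c21 LD2_c7 LD3_c49)) = (LP (LK LD1_c12 LD2_c2 LD3_c28)) :=
  Lre_g IH (LK LD1_c21 LD2_c7 LD3_c49) (LK LD1_c12 LD2_c2 LD3_c28) Lrfl Lrfl
theorem f979829 : Led Lsl_gt (LP (LK LD1_c12 LD2_c2 LD3_c30)) = (LP (LK LD1_c21 LD2_c7 LD3_c49)) :=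
  Lgr Lrot5 (Lpr_ft (f979827 IH) (Lpe (f979824 IH) (Lpe (f754747 IH) (Lpn (LP (LK LD1_c21 LD2_c7 LD3_c49))))))
theorem f979830 : Led Lsl_gt (LP (LK LD1_c12 LD2_c2 LD3_c30)) = (LP (LK LD1_c21 LD2_c7 LD3_c49)) :=
  Leop (Lpe (f979829 IH) (Lpn (LP (LK LD1_c12 LD2_c2 LD3_c30))))
theorem seed_3065 : LEOK LG_g (LK LD1_c12 LD2_c2 LD3_c30) :=
  Leoe_g (LK LD1_c12 LD2_c2 LD3_c30) (f979830 IH)
def v51066 : LQ := Led Lsl_ft (LP (LK LD1_c12 LD2_c2 LD3_c28))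
theorem f979839 : Led Lsl_ft (LP (LK LD1_c12 LD2_c2 LD3_c28)) = v51066 :=
  Lrfl
def v51061 : LQ := Led Lsl_gt (LP (LK LD1_c12 LD2_c2 LD3_c28))
theorem f979820 : Led Lsl_gt (LP (LK LD1_c12 LD2_c2 LD3_c28)) = v51061 :=
  Lrfl
theorem f979840 : Led Lsl_af (LP (LK LD1_c12 LD2_c2 LD3_c30)) = v51066 :=
  Lgr Lrot45 (Lpr_ft (f979827 IH) (Lpe (f979824 IH) (Lpr_ft (f979839 IH) (Lpn v51066))))
theorem f979843 : Led Lsl_gt v51061 = (LP (LK LD1_c12 LD2_c2 LD3_c30)) :=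
  Lgr Lrot46 (Lpe (f979820 IH) (Lpr_ft (f979839 IH) (Lpe (f979840 IH) (Lpn (LP (LK LD1_c12 LD2_c2 LD3_c30))))))
theorem f87376 : Led Lsl_et (LP (LK LD1_c3 LD2_c2 LD3_c1)) = (LP (LK LD1_c6 LD2_c10 LD3_c48)) :=
  Lre_e IH (LK LD1_c3 LD2_c2 LD3_c1) (LK LD1_c6 LD2_c10 LD3_c48) Lrfl Lrfl
theorem f979822 : Led Lsl_dt (LP (LK LD1_c21 LD2_c7 LD3_c28)) = v51061 :=
  Lgr Lrot56 (Lpr_et (K65.f105349 IH) (Lpr_gt (K65.f87866 IH) (Lpe (f87376 IH) (Lpr_dt (K3.f63500 IH) (Lpr_gt (K3.f59459 IH) (Lpe (K3.f62004 IH) (Lpr_et (K2.f63374 IH) (Lpr_gt (K65.f63382 IH) (Lpr_dt (f63383 IH) (Lpr_gt (f979820 IH) (Lpn v51061)))))))))))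
theorem f66416 : Led Lsl_gt (LP (LK LD1_c6 LD2_c39 LD3_c42)) = (LP (LK LD1_c12 LD2_c45 LD3_c15)) :=
  Lre_g IH (LK LD1_c6 LD2_c39 LD3_c42) (LK LD1_c12 LD2_c45 LD3_c15) Lrfl Lrfl
theorem f105287 : Led Lsl_gt (LP (LK LD1_c12 LD2_c45 LD3_c15)) = (LP (LK LD1_c21 LD2_c7 LD3_c23)) :=
  Lgr Lrot46 (Lpe (f66416 IH) (Lpr_ft (K3.f66414 IH) (Lpr_at (K3.f105275 IH) (Lpn (LP (LK LD1_c21 LD2_c7 LD3_c23))))))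
theorem f754741 : Led Lsl_et (LP (LK LD1_c6 LD2_c11 LD3_c2)) = (LP (LK LD1_c12 LD2_c2 LD3_c31)) :=
  Lre_e IH (LK LD1_c6 LD2_c11 LD3_c2) (LK LD1_c12 LD2_c2 LD3_c31) Lrfl Lrfl
theorem f839853 : Led Lsl_gt (LP (LK LD1_c12 LD2_c2 LD3_c31)) = (LP (LK LD1_c21 LD2_c7 LD3_c52)) :=
  Lre_g IH (LK LD1_c12 LD2_c2 LD3_c31) (LK LD1_c21 LD2_c7 LD3_c52) Lrfl Lrfl
theorem f979844 : Led Lsl_df (LP (LK LD1_c12 LD2_c45 LD3_c15)) = (LP (LK LD1_c21 LD2_c7 LD3_c52)) :=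
  Lgr Lrot135 (Lpr_gt (f105287 IH) (Lpe (K4.f65088 IH) (Lpe (K3.f105320 IH) (Lpr_gt (K75.f105347 IH) (Lpe (K65.f105349 IH) (Lpr_dt (f979822 IH) (Lpr_gt (f979843 IH) (Lpe (f63385 IH) (Lpr_et (f754741 IH) (Lpr_gt (f839853 IH) (Lpn (LP (LK LD1_c21 LD2_c7 LD3_c52)))))))))))))
theorem f979845 : Led Lsl_dt (LP (LK LD1_c21 LD2_c7 LD3_c52)) = (LP (LK LD1_c12 LD2_c45 LD3_c15)) :=
  Leop (Lpr_df (f979844 IH) (Lpn (LP (LK LD1_c21 LD2_c7 LD3_c52))))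
theorem seed_3066 : LEOK LG_d (LK LD1_c21 LD2_c7 LD3_c52) :=
  Leoe_d (LK LD1_c21 LD2_c7 LD3_c52) (f979845 IH)
def v51073 : LQ := Led Lsl_at (LP (LK LD1_c12 LD2_c2 LD3_c31))
theorem f979894 : Led Lsl_at (LP (LK LD1_c12 LD2_c2 LD3_c31)) = v51073 :=
  Lrfl
theorem f754739 : Led Lsl_ft (LP (LK LD1_c21 LD2_c7 LD3_c53)) = (LP (LK LD1_c12 LD2_c2 LD3_c31)) :=
  Lre_f IH (LK LD1_c21 LD2_c7 LD3_c53) (LK LD1_c12 LD2_c2 LD3_c31) Lrfl Lrfl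
def v19125 : LQ := Led Lsl_at (LP (LK LD1_c6 LD2_c38 LD3_c29))
theorem f777947 : Led Lsl_at (LP (LK LD1_c6 LD2_c38 LD3_c29)) = v19125 :=
  Lrfl
theorem f777949 : Led Lsl_cf K63.v7537 = v19125 :=
  Lgr Lrot1 (Lpe (K63.f666450 IH) (Lpr_ct (K63.f666458 IH) (Lpqs (K63.f712565 IH) (Lpr_at (f777947 IH) (Lpn v19125)))))
theorem f777950 : Led Lsl_ct K63.v7537 = v19125 :=
  Lgr Lrot59 (Lpr_cf (f777949 IH) (Lpn v19125))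
theorem f810250 : v19125 = (LP (LK LD1_c12 LD2_c27 LD3_c51)) :=
  Lefun (Lecon (f777950 IH) (K63.f810246 IH)) (Lfl_cf (K63.f713797 IH))
theorem f777948 : Led Lsl_af (LP (LK LD1_c6 LD2_c38 LD3_c29)) = v19125 :=
  Lgr Lrot0 (Lpr_at (f777947 IH) (Lpn v19125))
theorem f810471 : Led Lsl_af (LP (LK LD1_c21 LD2_c35 LD3_c4)) = (LP (LK LD1_c12 LD2_c42 LD3_c44)) :=
  Lgr Lrot50 (Lpr_et (K52.f441218 IH) (Lpq (f810250 IH) (Lpe (f777948 IH) (Lpr_et (K63.f712564 IH) (Lpn (LP (LK LD1_c12 LD2_c42 LD3_c44)))))))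
theorem f810475 : Led Lsl_at (LP (LK LD1_c21 LD2_c7 LD3_c22)) = (LP (LK LD1_c12 LD2_c45 LD3_c16)) :=
  Lgr Lrot51 (Lpe (K52.f441219 IH) (Lpr_af (f810471 IH) (Lpe (K63.f105279 IH) (Lpn (LP (LK LD1_c12 LD2_c45 LD3_c16))))))
theorem f810480 : Led Lsl_ff (LP (LK LD1_c21 LD2_c7 LD3_c22)) = (LP (LK LD1_c12 LD2_c45 LD3_c15)) :=
  Lgr Lrot52 (Lpr_at (f810475 IH) (Lpr_gf (K4.f105277 IH) (Lpe (f105287 IH) (Lpn (LP (LK LD1_c12 LD2_c45 LD3_c15))))))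
theorem f979848 : Led Lsl_ft (LP (LK LD1_c21 LD2_c35 LD3_c4)) = (LP (LK LD1_c21 LD2_c7 LD3_c52)) :=
  Lgr Lrot54 (Lpr_df (K52.f441223 IH) (Lpr_ff (f810480 IH) (Lpr_df (f979844 IH) (Lpn (LP (LK LD1_c21 LD2_c7 LD3_c52))))))
theorem f979857 : Led Lsl_ff (LP (LK LD1_c21 LD2_c35 LD3_c4)) = (LP (LK LD1_c21 LD2_c7 LD3_c52)) :=
  Lgr Lrot3 (Lpr_ft (f979848 IH) (Lpn (LP (LK LD1_c21 LD2_c7 LD3_c52))))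
theorem f810473 : Led Lsl_at (LP (LK LD1_c21 LD2_c35 LD3_c4)) = (LP (LK LD1_c12 LD2_c42 LD3_c44)) :=
  Lgr Lrot100 (Lpr_af (f810471 IH) (Lpn (LP (LK LD1_c12 LD2_c42 LD3_c44))))
theorem f979861 : Led Lsl_gf (LP (LK LD1_c21 LD2_c49 LD3_c60)) = (LP (LK LD1_c21 LD2_c7 LD3_c52)) :=
  Lgr Lrot47 (Lpr_gt (K60.f109763 IH) (Lpe (f810473 IH) (Lpr_ff (f979857 IH) (Lpn (LP (LK LD1_c21 LD2_c7 LD3_c52))))))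
theorem f754742 : Led Lsl_ft (LP (LK LD1_c12 LD2_c2 LD3_c31)) = (LP (LK LD1_c21 LD2_c7 LD3_c53)) :=
  Lre_f IH (LK LD1_c12 LD2_c2 LD3_c31) (LK LD1_c21 LD2_c7 LD3_c53) Lrfl Lrfl
theorem f979863 : Led Lsl_af (LP (LK LD1_c21 LD2_c49 LD3_c60)) = (LP (LK LD1_c21 LD2_c7 LD3_c53)) :=
  Lgr Lrot31 (Lpr_gf (f979861 IH) (Lpe (f839853 IH) (Lpr_ft (f754742 IH) (Lpn (LP (LK LD1_c21 LD2_c7 LD3_c53))))))
theorem f979865 : Led Lsl_at (LP (LK LD1_c21 LD2_c49 LD3_c60)) = (LP (LK LD1_c21 LD2_c7 LD3_c53)) :=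
  Lgr Lrot100 (Lpr_af (f979863 IH) (Lpn (LP (LK LD1_c21 LD2_c7 LD3_c53))))
theorem f979897 : Led Lsl_ff (LP (LK LD1_c21 LD2_c49 LD3_c60)) = v51073 :=
  Lgr Lrot30 (Lpr_at (f979865 IH) (Lpr_ft (f754739 IH) (Lpr_at (f979894 IH) (Lpn v51073))))
theorem f979898 : Led Lsl_ft (LP (LK LD1_c21 LD2_c49 LD3_c60)) = v51073 :=
  Lgr Lrot48 (Lpr_ff (f979897 IH) (Lpn v51073))
def v17052 : LQ := Led Lsl_ft (LP (LK LD1_c6 LD2_c11 LD3_c1))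
theorem f754749 : Led Lsl_ft (LP (LK LD1_c6 LD2_c11 LD3_c1)) = v17052 :=
  Lrfl
theorem f754750 : Led Lsl_af (LP (LK LD1_c6 LD2_c11 LD3_c2)) = v17052 :=
  Lgr Lrot45 (Lpr_ft (K65.f754737 IH) (Lpe (K65.f754736 IH) (Lpr_ft (f754749 IH) (Lpn v17052))))
theorem f979896 : Led Lsl_ef v17052 = v51073 :=
  Lgr Lrot20 (Lpe (f754750 IH) (Lpr_et (f754741 IH) (Lpr_at (f979894 IH) (Lpn v51073))))
theorem f754751 : Led Lsl_ff (LP (LK LD1_c6 LD2_c11 LD3_c1)) = v17052 :=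
  Lgr Lrot3 (Lpr_ft (f754749 IH) (Lpn v17052))
theorem f443310 : Led Lsl_et (LP (LK LD1_c6 LD2_c11 LD3_c1)) = (LP (LK LD1_c12 LD2_c2 LD3_c29)) :=
  Lre_e IH (LK LD1_c6 LD2_c11 LD3_c1) (LK LD1_c12 LD2_c2 LD3_c29) Lrfl Lrfl
def v51069 : LQ := Led Lsl_ft (LP (LK LD1_c12 LD2_c2 LD3_c29))
theorem f979885 : Led Lsl_ft (LP (LK LD1_c12 LD2_c2 LD3_c29)) = v51069 :=
  Lrfl
theorem f979899 : (LP (LK LD1_c12 LD2_c45 LD3_c42)) = v51069 :=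
  (Llr Lrot21 (Lpr_et (K60.f109768 IH) (Lpr_ft (f979898 IH) (Lpe (f979896 IH) (Lpe (f754751 IH) (Lpr_et (f443310 IH) (Lpr_ft (f979885 IH) (Lpn v51069)))))))).symm
theorem f979886 : Led Lsl_ff (LP (LK LD1_c12 LD2_c2 LD3_c29)) = v51069 :=
  Lgr Lrot3 (Lpr_ft (f979885 IH) (Lpn v51069))
theorem f979900 : Led Lsl_ft (LP (LK LD1_c12 LD2_c45 LD3_c42)) = (LP (LK LD1_c12 LD2_c2 LD3_c29)) :=
  Leop (Lpr_ff (f979886 IH) (Lpq (f979899 IH) (Lpn (LP (LK LD1_c12 LD2_c45 LD3_c42)))))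
theorem seed_3067 : LEOK LG_f (LK LD1_c12 LD2_c45 LD3_c42) :=
  Leoe_f (LK LD1_c12 LD2_c45 LD3_c42) (f979900 IH)
def v51152 : LQ := Led Lsl_gf (LP (LK LD1_c12 LD2_c3 LD3_c7))
theorem f980556 : Led Lsl_gf (LP (LK LD1_c12 LD2_c3 LD3_c7)) = v51152 :=
  Lrfl
theorem f130852 : Led Lsl_ct (LP (LK LD1_c12 LD2_c3 LD3_c7)) = (LP (LK LD1_c6 LD2_c11 LD3_c34)) :=
  Lre_c IH (LK LD1_c12 LD2_c3 LD3_c7) (LK LD1_c6 LD2_c11 LD3_c34) Lrfl Lrfl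
theorem f980559 : Led Lsl_ct K61.v20535 = v51152 :=
  Lgr Lrot152 (Lpr_gf (K61.f787773 IH) (Lpr_df (K61.f775999 IH) (Lpe (K60.f681488 IH) (Lpr_ct (K59.f681462 IH) (Lpqs (K59.f776552 IH) (Lpe (K59.f755109 IH) (Lpr_ct (K46.f130842 IH) (Lpe (K5.f130833 IH) (Lpe (f130852 IH) (Lpr_gf (f980556 IH) (Lpn v51152)))))))))))
theorem f62216 : Led Lsl_ct (LP (LK LD1_c3 LD2_c17 LD3_c34)) = (LP (LK LD1_c6 LD2_c38 LD3_c35)) :=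
  Lre_c IH (LK LD1_c3 LD2_c17 LD3_c34) (LK LD1_c6 LD2_c38 LD3_c35) Lrfl Lrfl
def v18832 : LQ := Led Lsl_gt (LP (LK LD1_c6 LD2_c33 LD3_c38))
theorem f775984 : Led Lsl_gt (LP (LK LD1_c6 LD2_c33 LD3_c38)) = v18832 :=
  Lrfl
def v17071 : LQ := Led Lsl_ft (LP (LK LD1_c6 LD2_c11 LD3_c10))
theorem f754916 : Led Lsl_ft (LP (LK LD1_c6 LD2_c11 LD3_c10)) = v17071 :=
  Lrfl
theorem f754917 : Led Lsl_ff (LP (LK LD1_c6 LD2_c11 LD3_c10)) = v17071 :=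
  Lgr Lrot3 (Lpr_ft (f754916 IH) (Lpn v17071))
def v16997 : LQ := Led Lsl_et (LP (LK LD1_c6 LD2_c10 LD3_c14))
theorem f754085 : Led Lsl_et (LP (LK LD1_c6 LD2_c10 LD3_c14)) = v16997 :=
  Lrfl
theorem f754088 : Led Lsl_ef (LP (LK LD1_c6 LD2_c10 LD3_c14)) = v16997 :=
  Lgr Lrot88 (Lpr_et (f754085 IH) (Lpn v16997))
theorem f646568 : Led Lsl_af (LP (LK LD1_c3 LD2_c2 LD3_c11)) = K57.v5214 :=
  Lgr Lrot45 (Lpr_ft (K56.f646562 IH) (Lpe (K56.f646558 IH) (Lpr_ft (K57.f646567 IH) (Lpn K57.v5214))))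
theorem f646564 : Led Lsl_et (LP (LK LD1_c3 LD2_c2 LD3_c11)) = (LP (LK LD1_c6 LD2_c11 LD3_c10)) :=
  Lre_e IH (LK LD1_c3 LD2_c2 LD3_c11) (LK LD1_c6 LD2_c11 LD3_c10) Lrfl Lrfl
theorem f754089 : Led Lsl_at (LP (LK LD1_c6 LD2_c11 LD3_c10)) = v16997 :=
  Lgr Lrot80 (Lpe (f646564 IH) (Lpr_af (f646568 IH) (Lpqs (K57.f709647 IH) (Lpr_ef (f754088 IH) (Lpn v16997)))))
theorem f754898 : Led Lsl_ct (LP (LK LD1_c6 LD2_c11 LD3_c10)) = K59.v17068 :=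
  Lgr Lrot15 (Lpe (f646564 IH) (Lpe (K56.f413549 IH) (Lpr_ef (K61.f754896 IH) (Lpn K59.v17068))))
theorem f775995 : v17071 = K60.v18833 :=
  (Llr Lrot23 (Lpe (f754917 IH) (Lpr_ct (f754898 IH) (Lpr_ft (K61.f775992 IH) (Lpr_ct (K60.f775986 IH) (Lpn K60.v18833)))))).symm
theorem f775996 : v16997 = v18832 :=
  (Llr Lrot26 (Lpe (f754089 IH) (Lpr_ff (f754917 IH) (Lpqs (f775995 IH) (Lpe (K60.f775985 IH) (Lpr_gt (f775984 IH) (Lpn v18832))))))).symm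
theorem f754087 : Led Lsl_cf K65.v7345 = v16997 :=
  Lgr Lrot39 (Lpe (K65.f664670 IH) (Lpe (K46.f651368 IH) (Lpr_et (f754085 IH) (Lpn v16997))))
theorem f787772 : Led Lsl_gt K65.v7345 = K61.v20537 :=
  Lgr Lrot150 (Lpr_cf (f754087 IH) (Lpqs (f775996 IH) (Lpe (f775984 IH) (Lpq (K59.f768800 IH) (Lpe (K56.f675654 IH) (Lpr_gt (K56.f62226 IH) (Lpr_ct (f62216 IH) (Lpr_gt (K65.f675655 IH) (Lpr_ct (K65.f776678 IH) (Lpr_df (K46.f650449 IH) (Lpr_cf (K61.f787767 IH) (Lpn K61.v20537))))))))))))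
theorem f787763 : Led Lsl_df (LP (LK LD1_c6 LD2_c59 LD3_c7)) = K61.v20537 :=
  Lgr Lrot38 (Lpr_dt (K61.f787761 IH) (Lpn K61.v20537))
theorem f130845 : Led Lsl_dt (LP (LK LD1_c12 LD2_c3 LD3_c7)) = (LP (LK LD1_c21 LD2_c8 LD3_c22)) :=
  Lre_d IH (LK LD1_c12 LD2_c3 LD3_c7) (LK LD1_c21 LD2_c8 LD3_c22) Lrfl Lrfl
theorem f980565 : Led Lsl_gf (LP (LK LD1_c21 LD2_c43 LD3_c2)) = (LP (LK LD1_c21 LD2_c8 LD3_c22)) :=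
  Lgr Lrot154 (Lpr_dt (K59.f776721 IH) (Lpr_ct (K60.f776728 IH) (Lpr_df (f787763 IH) (Lpe (f787772 IH) (Lpr_df (K65.f838476 IH) (Lpe (K65.f838479 IH) (Lpr_ct (f980559 IH) (Lpe (f980556 IH) (Lpr_dt (f130845 IH) (Lpn (LP (LK LD1_c21 LD2_c8 LD3_c22))))))))))))
theorem f980566 : Led Lsl_gt (LP (LK LD1_c21 LD2_c8 LD3_c22)) = (LP (LK LD1_c21 LD2_c43 LD3_c2)) :=
  Leop (Lpr_gf (f980565 IH) (Lpn (LP (LK LD1_c21 LD2_c8 LD3_c22))))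
theorem seed_3068 : LEOK LG_g (LK LD1_c21 LD2_c8 LD3_c22) :=
  Leoe_g (LK LD1_c21 LD2_c8 LD3_c22) (f980566 IH)
def v51176 : LQ := Led Lsl_ct (LP (LK LD1_c12 LD2_c3 LD3_c23))
theorem f980678 : Led Lsl_ct (LP (LK LD1_c12 LD2_c3 LD3_c23)) = v51176 :=
  Lrfl
theorem f88989 : Led Lsl_bt (LP (LK LD1_c3 LD2_c18 LD3_c53)) = (LP (LK LD1_c6 LD2_c41 LD3_c37)) :=
  Lre_b IH (LK LD1_c3 LD2_c18 LD3_c53) (LK LD1_c6 LD2_c41 LD3_c37) Lrfl Lrfl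
theorem f90655 : Led Lsl_ff (LP (LK LD1_c12 LD2_c3 LD3_c23)) = (LP (LK LD1_c6 LD2_c41 LD3_c37)) :=
  Lgr Lrot25 (Lpr_bt (K60.f90654 IH) (Lpr_ft (K6.f90652 IH) (Lpr_bt (f88989 IH) (Lpn (LP (LK LD1_c6 LD2_c41 LD3_c37))))))
theorem f133805 : Led Lsl_cf (LP (LK LD1_c6 LD2_c41 LD3_c37)) = (LP (LK LD1_c12 LD2_c33 LD3_c22)) :=
  Lgr Lrot97 (Lpr_bt (K60.f85862 IH) (Lpe (K7.f88990 IH) (Lpr_bt (K3.f89003 IH) (Lpr_ct (K5.f133799 IH) (Lpr_bt (K60.f133804 IH) (Lpn (LP (LK LD1_c12 LD2_c33 LD3_c22))))))))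
theorem f980681 : Led Lsl_ff (LP (LK LD1_c12 LD2_c33 LD3_c22)) = v51176 :=
  Lgr Lrot23 (Lpe (f133805 IH) (Lpe (f90655 IH) (Lpr_ct (f980678 IH) (Lpn v51176))))
def v13442 : LQ := Led Lsl_gf (LP (LK LD1_c4 LD2_c44 LD3_c1))
theorem f702993 : Led Lsl_gf (LP (LK LD1_c4 LD2_c44 LD3_c1)) = v13442 :=
  Lrfl
def v5683 : LQ := Led Lsl_gf (LP (LK LD1_c3 LD2_c11 LD3_c61))
theorem f648822 : Led Lsl_gf (LP (LK LD1_c3 LD2_c11 LD3_c61)) = v5683 :=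
  Lrfl
theorem f702997 : Led Lsl_cf v5683 = v13442 :=
  Lgr Lrot166 (Lpe (f648822 IH) (Lpr_dt (K3.f24357 IH) (Lpr_gt (K5.f126897 IH) (Lpr_dt (K3.f83897 IH) (Lpr_ct (K6.f83882 IH) (Lpr_df (K6.f145563 IH) (Lpe (K6.f125349 IH) (Lpe (K6.f125350 IH) (Lpr_gf (f702993 IH) (Lpn v13442))))))))))
theorem f648824 : Led Lsl_ff (LP (LK LD1_c3 LD2_c28 LD3_c37)) = v5683 :=
  Lgr Lrot52 (Lpr_at (K3.f90384 IH) (Lpe (K6.f134407 IH) (Lpr_gf (f648822 IH) (Lpn v5683))))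
theorem f702999 : Led Lsl_ft (LP (LK LD1_c6 LD2_c33 LD3_c3)) = v13442 :=
  Lgr Lrot4 (Lpe (K5.f133799 IH) (Lpr_ff (f648824 IH) (Lpr_cf (f702997 IH) (Lpn v13442))))
theorem f980682 : Led Lsl_bt v13442 = v51176 :=
  Lgr Lrot35 (Lpe (f702999 IH) (Lpe (K60.f133798 IH) (Lpr_ff (f980681 IH) (Lpn v51176))))
theorem f648823 : Led Lsl_gt (LP (LK LD1_c6 LD2_c9 LD3_c35)) = v5683 :=
  Lgr Lrot5 (Lpr_ft (K46.f143799 IH) (Lpe (K3.f107482 IH) (Lpr_gf (f648822 IH) (Lpn v5683))))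
theorem f135571 : Led Lsl_bt (LP (LK LD1_c13 LD2_c0 LD3_c43)) = (LP (LK LD1_c22 LD2_c10 LD3_c60)) :=
  Lre_b IH (LK LD1_c13 LD2_c0 LD3_c43) (LK LD1_c22 LD2_c10 LD3_c60) Lrfl Lrfl
theorem f980684 : Led Lsl_gf (LP (LK LD1_c22 LD2_c10 LD3_c60)) = v51176 :=
  Lgr Lrot124 (Lpe (f135571 IH) (Lpr_ct (K60.f135563 IH) (Lpr_gt (K60.f113261 IH) (Lpe (K6.f113205 IH) (Lpr_bt (K60.f113203 IH) (Lpr_gt (K6.f113177 IH) (Lpe (K6.f143749 IH) (Lpr_gt (f648823 IH) (Lpr_cf (f702997 IH) (Lpr_bt (f980682 IH) (Lpn v51176)))))))))))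
theorem f980685 : Led Lsl_gt (LP (LK LD1_c22 LD2_c10 LD3_c60)) = (LP (LK LD1_c21 LD2_c39 LD3_c28)) :=
  Lgr Lrot46 (Lpr_gf (f980684 IH) (Lpe (f980681 IH) (Lpr_at (K60.f134495 IH) (Lpn (LP (LK LD1_c21 LD2_c39 LD3_c28))))))
theorem f980686 : Led Lsl_gt (LP (LK LD1_c22 LD2_c10 LD3_c60)) = (LP (LK LD1_c21 LD2_c39 LD3_c28)) :=
  Leop (Lpe (f980685 IH) (Lpn (LP (LK LD1_c22 LD2_c10 LD3_c60))))
theorem seed_3069 : LEOK LG_g (LK LD1_c22 LD2_c10 LD3_c60) :=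
  Leoe_g (LK LD1_c22 LD2_c10 LD3_c60) (f980686 IH)
def v51189 : LQ := Led Lsl_bt (LP (LK LD1_c12 LD2_c3 LD3_c36))
theorem f980757 : Led Lsl_bt (LP (LK LD1_c12 LD2_c3 LD3_c36)) = v51189 :=
  Lrfl
theorem f639786 : Led Lsl_bf (LP (LK LD1_c11 LD2_c22 LD3_c24)) = (LP (LK LD1_c16 LD2_c57 LD3_c4)) :=
  Lgr Lrot24 (Lpr_bt (K54.f639784 IH) (Lpn (LP (LK LD1_c16 LD2_c57 LD3_c4))))
theorem f980762 : Led Lsl_ff (LP (LK LD1_c16 LD2_c57 LD3_c4)) = v51189 :=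
  Lgr Lrot25 (Lpe (f639786 IH) (Lpe (K51.f706279 IH) (Lpr_bt (f980757 IH) (Lpn v51189))))
theorem f23152 : Led Lsl_gt (LP (LK LD1_c16 LD2_c57 LD3_c9)) = (LP (LK LD1_c9 LD2_c5 LD3_c11)) :=
  Lre_g IH (LK LD1_c16 LD2_c57 LD3_c9) (LK LD1_c9 LD2_c5 LD3_c11) Lrfl Lrfl
theorem f980767 : Led Lsl_gf (LP (LK LD1_c16 LD2_c57 LD3_c9)) = v51189 :=
  Lgr Lrot47 (Lpr_gt (f23152 IH) (Lpe (K54.f639783 IH) (Lpr_ff (f980762 IH) (Lpn v51189))))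
def v17124 : LQ := Led Lsl_bt (LP (LK LD1_c6 LD2_c11 LD3_c53))
theorem f755308 : Led Lsl_bt (LP (LK LD1_c6 LD2_c11 LD3_c53)) = v17124 :=
  Lrfl
theorem f755312 : Led Lsl_ff K57.v15745 = v17124 :=
  Lgr Lrot25 (Lpe (K57.f741208 IH) (Lpe (K51.f706265 IH) (Lpr_bt (f755308 IH) (Lpn v17124))))
theorem f755315 : Led Lsl_ft K57.v15745 = v17124 :=
  Lgr Lrot48 (Lpr_ff (f755312 IH) (Lpn v17124))
theorem f980765 : Led Lsl_et v17124 = v51189 :=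
  Lgr Lrot69 (Lpe (f755315 IH) (Lpe (K57.f741206 IH) (Lpe (K54.f640290 IH) (Lpe (K54.f639792 IH) (Lpr_ff (f980762 IH) (Lpn v51189))))))
theorem f755311 : Led Lsl_df K57.v5246 = v17124 :=
  Lgr Lrot12 (Lpe (K57.f646785 IH) (Lpr_dt (K55.f73033 IH) (Lpr_bt (f755308 IH) (Lpn v17124))))
theorem f746894 : Led Lsl_ft K55.v15749 = K57.v16181 :=
  Lgr Lrot48 (Lpr_ff (K57.f746891 IH) (Lpn K57.v16181))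
theorem f746889 : Led Lsl_af K57.v5246 = K57.v16181 :=
  Lgr Lrot0 (Lpr_at (K57.f746888 IH) (Lpn K57.v16181))
theorem f746896 : Led Lsl_gt (LP (LK LD1_c9 LD2_c9 LD3_c29)) = K57.v5246 :=
  Lgr Lrot46 (Lpr_gf (K55.f741230 IH) (Lpr_ft (f746894 IH) (Lpe (f746889 IH) (Lpn K57.v5246))))
theorem f268948 : Led Lsl_et (LP (LK LD1_c2 LD2_c46 LD3_c58)) = (LP (LK LD1_c1 LD2_c19 LD3_c52)) :=
  Lre_e IH (LK LD1_c2 LD2_c46 LD3_c58) (LK LD1_c1 LD2_c19 LD3_c52) Lrfl Lrfl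
theorem f549820 : Led Lsl_dt (LP (LK LD1_c2 LD2_c46 LD3_c58)) = (LP (LK LD1_c5 LD2_c41 LD3_c58)) :=
  Lre_d IH (LK LD1_c2 LD2_c46 LD3_c58) (LK LD1_c5 LD2_c41 LD3_c58) Lrfl Lrfl
def v15551 : LQ := Led Lsl_gf (LP (LK LD1_c5 LD2_c41 LD3_c58))
theorem f737963 : Led Lsl_gf (LP (LK LD1_c5 LD2_c41 LD3_c58)) = v15551 :=
  Lrfl
def v47598 : LQ := Led Lsl_et (LP (LK LD1_c11 LD2_c20 LD3_c45))
theorem f959375 : Led Lsl_et (LP (LK LD1_c11 LD2_c20 LD3_c45)) = v47598 :=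
  Lrfl
theorem f959376 : Led Lsl_ef (LP (LK LD1_c11 LD2_c20 LD3_c45)) = v47598 :=
  Lgr Lrot88 (Lpr_et (f959375 IH) (Lpn v47598))
theorem f172658 : Led Lsl_gt (LP (LK LD1_c5 LD2_c45 LD3_c8)) = (LP (LK LD1_c11 LD2_c20 LD3_c45)) :=
  Lre_g IH (LK LD1_c5 LD2_c45 LD3_c8) (LK LD1_c11 LD2_c20 LD3_c45) Lrfl Lrfl
theorem f172641 : Led Lsl_et (LP (LK LD1_c2 LD2_c48 LD3_c21)) = (LP (LK LD1_c5 LD2_c45 LD3_c8)) :=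
  Lre_e IH (LK LD1_c2 LD2_c48 LD3_c21) (LK LD1_c5 LD2_c45 LD3_c8) Lrfl Lrfl
theorem f959377 : Led Lsl_df v15551 = v47598 :=
  Lgr Lrot170 (Lpe (f737963 IH) (Lpe (f549820 IH) (Lpr_et (f268948 IH) (Lpr_gt (K31.f174115 IH) (Lpe (K38.f549811 IH) (Lpr_gt (K38.f385260 IH) (Lpr_df (K30.f172637 IH) (Lpr_et (f172641 IH) (Lpr_gt (f172658 IH) (Lpr_ef (f959376 IH) (Lpn v47598)))))))))))
theorem f980768 : (LP (LK LD1_c16 LD2_c57 LD3_c9)) = v47598 :=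
  (Llr Lrot137 (Lpr_gf (f980767 IH) (Lpe (f980765 IH) (Lpe (f755311 IH) (Lpe (f746896 IH) (Lpr_df (K55.f595838 IH) (Lpr_et (K40.f411921 IH) (Lpe (K31.f174115 IH) (Lpe (f268948 IH) (Lpr_dt (f549820 IH) (Lpr_gf (f737963 IH) (Lpr_df (f959377 IH) (Lpn v47598))))))))))))).symm
theorem f980769 : Led Lsl_et (LP (LK LD1_c16 LD2_c57 LD3_c9)) = (LP (LK LD1_c11 LD2_c20 LD3_c45)) :=
  Leop (Lpr_ef (f959376 IH) (Lpq (f980768 IH) (Lpn (LP (LK LD1_c16 LD2_c57 LD3_c9)))))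
theorem seed_3070 : LEOK LG_e (LK LD1_c16 LD2_c57 LD3_c9) :=
  Leoe_e (LK LD1_c16 LD2_c57 LD3_c9) (f980769 IH)
def v51264 : LQ := Led Lsl_et (LP (LK LD1_c12 LD2_c4 LD3_c17))
theorem f981101 : Led Lsl_et (LP (LK LD1_c12 LD2_c4 LD3_c17)) = v51264 :=
  Lrfl
theorem f850326 : Led Lsl_gf (LP (LK LD1_c12 LD2_c58 LD3_c12)) = K66.v29676 :=
  Lgr Lrot47 (Lpr_gt (K66.f633933 IH) (Lpe (K66.f760529 IH) (Lpr_ff (K66.f850323 IH) (Lpn K66.v29676))))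
theorem f125613 : Led Lsl_et (LP (LK LD1_c1 LD2_c48 LD3_c2)) = (LP (LK LD1_c3 LD2_c42 LD3_c7)) :=
  Lre_e IH (LK LD1_c1 LD2_c48 LD3_c2) (LK LD1_c3 LD2_c42 LD3_c7) Lrfl Lrfl
theorem f527870 : Led Lsl_ef (LP (LK LD1_c6 LD2_c42 LD3_c7)) = (LP (LK LD1_c3 LD2_c21 LD3_c16)) :=
  Lgr Lrot21 (Lpr_ft (K56.f66480 IH) (Lpr_et (K56.f66493 IH) (Lpe (K5.f125607 IH) (Lpr_et (f125613 IH) (Lpr_ft (K46.f527863 IH) (Lpn (LP (LK LD1_c3 LD2_c21 LD3_c16))))))))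
def v6393 : LQ := Led Lsl_dt (LP (LK LD1_c3 LD2_c21 LD3_c16))
theorem f653193 : Led Lsl_dt (LP (LK LD1_c3 LD2_c21 LD3_c16)) = v6393 :=
  Lrfl
def v5267 : LQ := Led Lsl_ct (LP (LK LD1_c3 LD2_c2 LD3_c46))
def v25130 : LQ := Led Lsl_dt v5267
theorem f827169 : Led Lsl_dt v5267 = v25130 :=
  Lrfl
theorem f646851 : Led Lsl_ct (LP (LK LD1_c3 LD2_c2 LD3_c46)) = v5267 :=
  Lrfl
theorem f646852 : Led Lsl_cf (LP (LK LD1_c3 LD2_c2 LD3_c46)) = v5267 :=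
  Lgr Lrot11 (Lpr_ct (f646851 IH) (Lpn v5267))
theorem f756346 : Led Lsl_ef v5267 = K57.v17146 :=
  Lgr Lrot28 (Lpe (f646852 IH) (Lpr_et (K57.f416131 IH) (Lpr_ct (K57.f756344 IH) (Lpn K57.v17146))))
theorem f756354 : Led Lsl_et v5267 = K57.v17146 :=
  Lgr Lrot87 (Lpr_ef (f756346 IH) (Lpn K57.v17146))
def v6205 : LQ := Led Lsl_dt (LP (LK LD1_c3 LD2_c19 LD3_c4))
theorem f652069 : Led Lsl_dt (LP (LK LD1_c3 LD2_c19 LD3_c4)) = v6205 :=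
  Lrfl
theorem f827171 : Led Lsl_gt v6205 = v25130 :=
  Lgr Lrot112 (Lpe (f652069 IH) (Lpr_et (K46.f129248 IH) (Lpr_gf (K6.f143186 IH) (Lpe (K57.f143191 IH) (Lpr_dt (K57.f143192 IH) (Lpe (K57.f437802 IH) (Lpe (K57.f437801 IH) (Lpr_gf (K57.f756348 IH) (Lpe (f756354 IH) (Lpr_dt (f827169 IH) (Lpn v25130)))))))))))
def v24046 : LQ := Led Lsl_dt K35.v4506
theorem f822207 : Led Lsl_dt K35.v4506 = v24046 :=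
  Lrfl
theorem f634277 : Led Lsl_ft (LP (LK LD1_c3 LD2_c19 LD3_c4)) = K35.v4506 :=
  Lgr Lrot48 (Lpr_ff (K35.f634275 IH) (Lpn K35.v4506))
theorem f652070 : Led Lsl_df (LP (LK LD1_c3 LD2_c19 LD3_c4)) = v6205 :=
  Lgr Lrot38 (Lpr_dt (f652069 IH) (Lpn v6205))
theorem f822210 : Led Lsl_ff v6205 = v24046 :=
  Lgr Lrot19 (Lpe (f652070 IH) (Lpr_ft (f634277 IH) (Lpr_dt (f822207 IH) (Lpn v24046))))
theorem f822212 : Led Lsl_ft v6205 = v24046 :=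
  Lgr Lrot48 (Lpr_ff (f822210 IH) (Lpn v24046))
theorem f634276 : Led Lsl_at (LP (LK LD1_c3 LD2_c21 LD3_c16)) = K35.v4506 :=
  Lgr Lrot66 (Lpe (K46.f527863 IH) (Lpr_af (K35.f129244 IH) (Lpr_ff (K35.f634275 IH) (Lpn K35.v4506))))
theorem f653194 : Led Lsl_df (LP (LK LD1_c3 LD2_c21 LD3_c16)) = v6393 :=
  Lgr Lrot38 (Lpr_dt (f653193 IH) (Lpn v6393))
theorem f822208 : Led Lsl_af v6393 = v24046 :=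
  Lgr Lrot117 (Lpe (f653194 IH) (Lpr_at (f634276 IH) (Lpr_dt (f822207 IH) (Lpn v24046))))
theorem f827172 : Led Lsl_gf v6393 = v25130 :=
  Lgr Lrot76 (Lpr_af (f822208 IH) (Lpe (f822212 IH) (Lpr_gt (f827171 IH) (Lpn v25130))))
theorem f981106 : Led Lsl_gf K57.v17146 = v51264 :=
  Lgr Lrot141 (Lpe (f756354 IH) (Lpr_dt (f827169 IH) (Lpe (f827172 IH) (Lpe (f653193 IH) (Lpe (f527870 IH) (Lpr_gt (K57.f674762 IH) (Lpr_dt (K66.f850320 IH) (Lpe (f850326 IH) (Lpe (K66.f782510 IH) (Lpqs (K66.f850334 IH) (Lpr_et (f981101 IH) (Lpn v51264))))))))))))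
def v39915 : LQ := Led Lsl_gf (LP (LK LD1_c9 LD2_c29 LD3_c20))
theorem f912082 : Led Lsl_gf (LP (LK LD1_c9 LD2_c29 LD3_c20)) = v39915 :=
  Lrfl
theorem f437449 : Led Lsl_dt (LP (LK LD1_c4 LD2_c48 LD3_c17)) = (LP (LK LD1_c9 LD2_c29 LD3_c20)) :=
  Lre_d IH (LK LD1_c4 LD2_c48 LD3_c17) (LK LD1_c9 LD2_c29 LD3_c20) Lrfl Lrfl
def v13804 : LQ := Led Lsl_et (LP (LK LD1_c4 LD2_c48 LD3_c17))
theorem f704997 : Led Lsl_et (LP (LK LD1_c4 LD2_c48 LD3_c17)) = v13804 :=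
  Lrfl
def v29677 : LQ := Led Lsl_et K57.v9227
theorem f850339 : Led Lsl_et K57.v9227 = v29677 :=
  Lrfl
theorem f504407 : Led Lsl_et (LP (LK LD1_c3 LD2_c2 LD3_c45)) = (LP (LK LD1_c6 LD2_c12 LD3_c22)) :=
  Lre_e IH (LK LD1_c3 LD2_c2 LD3_c45) (LK LD1_c6 LD2_c12 LD3_c22) Lrfl Lrfl
def v5265 : LQ := Led Lsl_dt (LP (LK LD1_c3 LD2_c2 LD3_c45))
theorem f646843 : Led Lsl_dt (LP (LK LD1_c3 LD2_c2 LD3_c45)) = v5265 :=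
  Lrfl
def v25125 : LQ := Led Lsl_gf v5265
theorem f827153 : Led Lsl_gf v5265 = v25125 :=
  Lrfl
theorem f646844 : Led Lsl_df (LP (LK LD1_c3 LD2_c2 LD3_c45)) = v5265 :=
  Lgr Lrot38 (Lpr_dt (f646843 IH) (Lpn v5265))
theorem f502937 : Led Lsl_ct (LP (LK LD1_c3 LD2_c2 LD3_c45)) = (LP (LK LD1_c1 LD2_c27 LD3_c19)) :=
  Lre_c IH (LK LD1_c3 LD2_c2 LD3_c45) (LK LD1_c1 LD2_c27 LD3_c19) Lrfl Lrfl
def v6394 : LQ := Led Lsl_gf (LP (LK LD1_c3 LD2_c21 LD3_c17))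
theorem f653195 : Led Lsl_gf (LP (LK LD1_c3 LD2_c21 LD3_c17)) = v6394 :=
  Lrfl
theorem f653196 : Led Lsl_gt K60.v6391 = v6394 :=
  Lgr Lrot5 (Lpe (K60.f653178 IH) (Lpe (K60.f653160 IH) (Lpr_gf (f653195 IH) (Lpn v6394))))
theorem f827155 : Led Lsl_dt v6394 = v25125 :=
  Lgr Lrot57 (Lpe (f653196 IH) (Lpe (K60.f653175 IH) (Lpr_gt (K48.f509498 IH) (Lpr_dt (K49.f662777 IH) (Lpqs (K49.f663541 IH) (Lpe (K49.f646850 IH) (Lpr_dt (K48.f416115 IH) (Lpe (f502937 IH) (Lpr_df (f646844 IH) (Lpr_gf (f827153 IH) (Lpn v25125)))))))))))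
def v26201 : LQ := Led Lsl_et v6394
theorem f832510 : Led Lsl_et v6394 = v26201 :=
  Lrfl
theorem f850343 : Led Lsl_gf v26201 = v29677 :=
  Lgr Lrot141 (Lpe (f832510 IH) (Lpr_dt (f827155 IH) (Lpe (f827153 IH) (Lpe (f646843 IH) (Lpr_et (f504407 IH) (Lpr_gt (K66.f756327 IH) (Lpq (K66.f850328 IH) (Lpr_dt (K66.f782505 IH) (Lpr_gt (K66.f850327 IH) (Lpe (K66.f850320 IH) (Lpr_et (f850339 IH) (Lpn v29677))))))))))))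
def v6405 : LQ := Led Lsl_gt (LP (LK LD1_c3 LD2_c21 LD3_c20))
def v26214 : LQ := Led Lsl_et v6405
theorem f832607 : Led Lsl_et v6405 = v26214 :=
  Lrfl
theorem f148510 : Led Lsl_dt (LP (LK LD1_c17 LD2_c29 LD3_c51)) = (LP (LK LD1_c9 LD2_c29 LD3_c11)) :=
  Lre_d IH (LK LD1_c17 LD2_c29 LD3_c51) (LK LD1_c9 LD2_c29 LD3_c11) Lrfl Lrfl
theorem f677481 : Led Lsl_dt (LP (LK LD1_c4 LD2_c48 LD3_c18)) = (LP (LK LD1_c9 LD2_c29 LD3_c21)) :=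
  Lre_d IH (LK LD1_c4 LD2_c48 LD3_c18) (LK LD1_c9 LD2_c29 LD3_c21) Lrfl Lrfl
theorem f769206 : Led Lsl_af (LP (LK LD1_c17 LD2_c29 LD3_c51)) = (LP (LK LD1_c9 LD2_c29 LD3_c21)) :=
  Lgr Lrot117 (Lpr_dt (f148510 IH) (Lpq (K58.f769191 IH) (Lpe (K58.f705000 IH) (Lpr_dt (f677481 IH) (Lpn (LP (LK LD1_c9 LD2_c29 LD3_c21)))))))

end

end K76

end

end Cfsg.Agent.Helper28.S1692
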