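import Cfsg.Agent.Lib.Helper28.S1692.Seeds76

set_option autoImplicit false
set_option maxRecDepth 100000
set_option linter.all false

namespace Cfsg.Agent.Helper28.S1692

open Cfsg.Agent.Helper28
open Cfsg.Spor.ON (Gen)

noncomputable section

namespace K77
abbrev LD1_c0 := D1.c0
abbrev LD1_c1 := D1.c1
abbrev LD1_c2 := D1.c2
abbrev LD1_c3 := D1.c3
abbrev LD1_c4 := D1.c4
abbrev LD1_c5 := D1.c5
abbrev LD1_c6 := D1.c6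
abbrev LD1_c7 := D1.c7
abbrev LD1_c8 := D1.c8
abbrev LD1_c9 := D1.c9
abbrev LD1_c10 := D1.c10
abbrev LD1_c11 := D1.c11
abbrev LD1_c12 := D1.c12
abbrev LD1_c13 := D1.c13
abbrev LD1_c14 := D1.c14
abbrev LD1_c15 := D1.c15
abbrev LD1_c16 := D1.c16
abbrev LD1_c17 := D1.c17
abbrev LD1_c18 := D1.c18
abbrev LD1_c19 := D1.c19
abbrev LD1_c20 := D1.c20
abbrev LD1_c21 := D1.c21
abbrev LD1_c22 := D1.c22
abbrev LD1_c23 := D1.c23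
abbrev LD1_c24 := D1.c24
abbrev LD1_c25 := D1.c25
abbrev LD1_c26 := D1.c26
abbrev LD1_c27 := D1.c27
abbrev LD1_c28 := D1.c28
abbrev LD1_c29 := D1.c29
abbrev LD1_c30 := D1.c30
abbrev LD1_c31 := D1.c31
abbrev LD1_c32 := D1.c32
abbrev LD2_c0 := D2.c0
abbrev LD2_c1 := D2.c1
abbrev LD2_c2 := D2.c2
abbrev LD2_c3 := D2.c3
abbrev LD2_c4 := D2.c4
abbrev LD2_c5 := D2.c5
abbrev LD2_c6 := D2.c6
abbrev LD2_c7 := D2.c7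
abbrev LD2_c8 := D2.c8
abbrev LD2_c9 := D2.c9
abbrev LD2_c10 := D2.c10
abbrev LD2_c11 := D2.c11
abbrev LD2_c12 := D2.c12
abbrev LD2_c13 := D2.c13
abbrev LD2_c14 := D2.c14
abbrev LD2_c15 := D2.c15
abbrev LD2_c16 := D2.c16
abbrev LD2_c17 := D2.c17
abbrev LD2_c18 := D2.c18
abbrev LD2_c19 := D2.c19
abbrev LD2_c20 := D2.c20
abbrev LD2_c21 := D2.c21
abbrev LD2_c22 := D2.c22
abbrev LD2_c23 := D2.c23
abbrev LD2_c24 := D2.c24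
abbrev LD2_c25 := D2.c25
abbrev LD2_c26 := D2.c26
abbrev LD2_c27 := D2.c27
abbrev LD2_c28 := D2.c28
abbrev LD2_c29 := D2.c29
abbrev LD2_c30 := D2.c30
abbrev LD2_c31 := D2.c31
abbrev LD2_c32 := D2.c32
abbrev LD2_c33 := D2.c33
abbrev LD2_c34 := D2.c34
abbrev LD2_c35 := D2.c35
abbrev LD2_c36 := D2.c36
abbrev LD2_c37 := D2.c37
abbrev LD2_c38 := D2.c38
abbrev LD2_c39 := D2.c39
abbrev LD2_c40 := D2.c40
abbrev LD2_c41 := D2.c41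
abbrev LD2_c42 := D2.c42
abbrev LD2_c43 := D2.c43
abbrev LD2_c44 := D2.c44
abbrev LD2_c45 := D2.c45
abbrev LD2_c46 := D2.c46
abbrev LD2_c47 := D2.c47
abbrev LD2_c48 := D2.c48
abbrev LD2_c49 := D2.c49
abbrev LD2_c50 := D2.c50
abbrev LD2_c51 := D2.c51
abbrev LD2_c52 := D2.c52
abbrev LD2_c53 := D2.c53
abbrev LD2_c54 := D2.c54
abbrev LD2_c55 := D2.c55
abbrev LD2_c56 := D2.c56
abbrev LD2_c57 := D2.c57
abbrev LD2_c58 := D2.c58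
abbrev LD2_c59 := D2.c59
abbrev LD3_c0 := D3.c0
abbrev LD3_c1 := D3.c1
abbrev LD3_c2 := D3.c2
abbrev LD3_c3 := D3.c3
abbrev LD3_c4 := D3.c4
abbrev LD3_c5 := D3.c5
abbrev LD3_c6 := D3.c6
abbrev LD3_c7 := D3.c7
abbrev LD3_c8 := D3.c8
abbrev LD3_c9 := D3.c9
abbrev LD3_c10 := D3.c10
abbrev LD3_c11 := D3.c11
abbrev LD3_c12 := D3.c12
abbrev LD3_c13 := D3.c13
abbrev LD3_c14 := D3.c14
abbrev LD3_c15 := D3.c15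
abbrev LD3_c16 := D3.c16
abbrev LD3_c17 := D3.c17
abbrev LD3_c18 := D3.c18
abbrev LD3_c19 := D3.c19
abbrev LD3_c20 := D3.c20
abbrev LD3_c21 := D3.c21
abbrev LD3_c22 := D3.c22
abbrev LD3_c23 := D3.c23
abbrev LD3_c24 := D3.c24
abbrev LD3_c25 := D3.c25
abbrev LD3_c26 := D3.c26
abbrev LD3_c27 := D3.c27
abbrev LD3_c28 := D3.c28
abbrev LD3_c29 := D3.c29
abbrev LD3_c30 := D3.c30
abbrev LD3_c31 := D3.c31
abbrev LD3_c32 := D3.c32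
abbrev LD3_c33 := D3.c33
abbrev LD3_c34 := D3.c34
abbrev LD3_c35 := D3.c35
abbrev LD3_c36 := D3.c36
abbrev LD3_c37 := D3.c37
abbrev LD3_c38 := D3.c38
abbrev LD3_c39 := D3.c39
abbrev LD3_c40 := D3.c40
abbrev LD3_c41 := D3.c41
abbrev LD3_c42 := D3.c42
abbrev LD3_c43 := D3.c43
abbrev LD3_c44 := D3.c44
abbrev LD3_c45 := D3.c45
abbrev LD3_c46 := D3.c46
abbrev LD3_c47 := D3.c47
abbrev LD3_c48 := D3.c48
abbrev LD3_c49 := D3.c49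
abbrev LD3_c50 := D3.c50
abbrev LD3_c51 := D3.c51
abbrev LD3_c52 := D3.c52
abbrev LD3_c53 := D3.c53
abbrev LD3_c54 := D3.c54
abbrev LD3_c55 := D3.c55
abbrev LD3_c56 := D3.c56
abbrev LD3_c57 := D3.c57
abbrev LD3_c58 := D3.c58
abbrev LD3_c59 := D3.c59
abbrev LD3_c60 := D3.c60
abbrev LD3_c61 := D3.c61
abbrev LG_g := Gen.g
abbrev Lsl_gt : Gen × Bool := sl_gt
alias Lfl_gt := fl_gt
alias Lpr_gt := pr_gt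
abbrev Lsl_gf : Gen × Bool := sl_gf
alias Lfl_gf := fl_gf
alias Lpr_gf := pr_gf
alias Lre_g := re_g
alias Leoe_g := eoe_g
abbrev LG_a := Gen.a
abbrev Lsl_at : Gen × Bool := sl_at
alias Lfl_at := fl_at
alias Lpr_at := pr_at
abbrev Lsl_af : Gen × Bool := sl_af
alias Lfl_af := fl_af
alias Lpr_af := pr_af
alias Lre_a := re_a
alias Leoe_a := eoe_a
abbrev LG_b := Gen.b
abbrev Lsl_bt : Gen × Bool := sl_bt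
alias Lfl_bt := fl_bt
alias Lpr_bt := pr_bt
abbrev Lsl_bf : Gen × Bool := sl_bf
alias Lfl_bf := fl_bf
alias Lpr_bf := pr_bf
alias Lre_b := re_b
alias Leoe_b := eoe_b
abbrev LG_c := Gen.c
abbrev Lsl_ct : Gen × Bool := sl_ct
alias Lfl_ct := fl_ct
alias Lpr_ct := pr_ct
abbrev Lsl_cf : Gen × Bool := sl_cf
alias Lfl_cf := fl_cf
alias Lpr_cf := pr_cf
alias Lre_c := re_c
alias Leoe_c := eoe_c
abbrev LG_d := Gen.d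
abbrev Lsl_dt : Gen × Bool := sl_dt
alias Lfl_dt := fl_dt
alias Lpr_dt := pr_dt
abbrev Lsl_df : Gen × Bool := sl_df
alias Lfl_df := fl_df
alias Lpr_df := pr_df
alias Lre_d := re_d
alias Leoe_d := eoe_d
abbrev LG_e := Gen.e
abbrev Lsl_et : Gen × Bool := sl_et
alias Lfl_et := fl_et
alias Lpr_et := pr_et
abbrev Lsl_ef : Gen × Bool := sl_ef
alias Lfl_ef := fl_ef
alias Lpr_ef := pr_ef
alias Lre_e := re_e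
alias Leoe_e := eoe_e
abbrev LG_f := Gen.f
abbrev Lsl_ft : Gen × Bool := sl_ft
alias Lfl_ft := fl_ft
alias Lpr_ft := pr_ft
abbrev Lsl_ff : Gen × Bool := sl_ff
alias Lfl_ff := fl_ff
alias Lpr_ff := pr_ff
alias Lre_f := re_f
alias Leoe_f := eoe_f
abbrev LK := Pt.mk
abbrev LQ : Type := Qt rels S
abbrev LP (p : Pt) : LQ := P p
abbrev Led (l : Gen × Bool) (c : LQ) : LQ := ed l c
abbrev LEOK (x : Gen) (p : Pt) : Prop := EntryOK rels S fwd inv o plet idx x p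
alias Lpe := pe
alias Lpn := pn
alias Lgr := gr
alias Lpq := pq
alias Lpqs := pqs
alias Llr := lr
alias Leop := eop
alias Lefun := efun
alias Lecon := econ
theorem Lrfl {α : Sort _} {a : α} : a = a := rfl
alias Lrot0 := rot0
alias Lrot1 := rot1
alias Lrot2 := rot2
alias Lrot3 := rot3
alias Lrot4 := rot4
alias Lrot5 := rot5
alias Lrot6 := rot6
alias Lrot7 := rot7
alias Lrot8 := rot8
alias Lrot9 := rot9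
alias Lrot10 := rot10
alias Lrot11 := rot11
alias Lrot12 := rot12
alias Lrot14 := rot14
alias Lrot15 := rot15
alias Lrot17 := rot17
alias Lrot18 := rot18
alias Lrot19 := rot19
alias Lrot20 := rot20
alias Lrot21 := rot21
alias Lrot22 := rot22
alias Lrot23 := rot23
alias Lrot24 := rot24
alias Lrot25 := rot25
alias Lrot26 := rot26
alias Lrot28 := rot28
alias Lrot29 := rot29
alias Lrot30 := rot30
alias Lrot31 := rot31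
alias Lrot35 := rot35
alias Lrot36 := rot36
alias Lrot38 := rot38
alias Lrot39 := rot39
alias Lrot40 := rot40
alias Lrot42 := rot42
alias Lrot45 := rot45
alias Lrot46 := rot46
alias Lrot47 := rot47
alias Lrot48 := rot48
alias Lrot49 := rot49
alias Lrot50 := rot50
alias Lrot51 := rot51
alias Lrot52 := rot52
alias Lrot54 := rot54
alias Lrot56 := rot56
alias Lrot57 := rot57
alias Lrot58 := rot58
alias Lrot59 := rot59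
alias Lrot60 := rot60
alias Lrot61 := rot61
alias Lrot62 := rot62
alias Lrot63 := rot63
alias Lrot64 := rot64
alias Lrot65 := rot65
alias Lrot66 := rot66
alias Lrot67 := rot67
alias Lrot68 := rot68
alias Lrot69 := rot69
alias Lrot70 := rot70
alias Lrot71 := rot71
alias Lrot72 := rot72
alias Lrot73 := rot73
alias Lrot74 := rot74
alias Lrot75 := rot75
alias Lrot76 := rot76
alias Lrot77 := rot77
alias Lrot78 := rot78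
alias Lrot79 := rot79
alias Lrot80 := rot80
alias Lrot81 := rot81
alias Lrot82 := rot82
alias Lrot86 := rot86
alias Lrot87 := rot87
alias Lrot88 := rot88
alias Lrot90 := rot90
alias Lrot91 := rot91
alias Lrot92 := rot92
alias Lrot93 := rot93
alias Lrot94 := rot94
alias Lrot95 := rot95
alias Lrot96 := rot96
alias Lrot97 := rot97
alias Lrot100 := rot100
alias Lrot101 := rot101
alias Lrot105 := rot105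
alias Lrot107 := rot107
alias Lrot108 := rot108
alias Lrot110 := rot110
alias Lrot111 := rot111
alias Lrot113 := rot113
alias Lrot114 := rot114
alias Lrot117 := rot117
alias Lrot119 := rot119
alias Lrot121 := rot121
alias Lrot124 := rot124
alias Lrot126 := rot126
alias Lrot127 := rot127
alias Lrot128 := rot128
alias Lrot129 := rot129
alias Lrot131 := rot131
alias Lrot132 := rot132
alias Lrot134 := rot134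
alias Lrot135 := rot135
alias Lrot136 := rot136
alias Lrot137 := rot137
alias Lrot138 := rot138
alias Lrot139 := rot139
alias Lrot141 := rot141
alias Lrot143 := rot143
alias Lrot144 := rot144
alias Lrot145 := rot145
alias Lrot147 := rot147
alias Lrot148 := rot148
alias Lrot149 := rot149
alias Lrot150 := rot150
alias Lrot152 := rot152
alias Lrot153 := rot153
alias Lrot155 := rot155
alias Lrot156 := rot156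
alias Lrot158 := rot158
alias Lrot160 := rot160
alias Lrot163 := rot163
alias Lrot165 := rot165
alias Lrot169 := rot169
alias Lrot170 := rot170
alias Lrot185 := rot185
alias Lrot187 := rot187

section
variable (IH : IHT)
include IH

theorem f769208 : Led Lsl_at (LP (LK LD1_c17 LD2_c29 LD3_c51)) = (LP (LK LD1_c9 LD2_c29 LD3_c21)) :=
  Lgr Lrot100 (Lpr_af (K76.f769206 IH) (Lpn (LP (LK LD1_c9 LD2_c29 LD3_c21))))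
theorem f704931 : Led Lsl_dt (LP (LK LD1_c9 LD2_c29 LD3_c20)) = (LP (LK LD1_c4 LD2_c48 LD3_c17)) :=
  Lre_d IH (LK LD1_c9 LD2_c29 LD3_c20) (LK LD1_c4 LD2_c48 LD3_c17) Lrfl Lrfl
theorem f432230 : Led Lsl_dt (LP (LK LD1_c9 LD2_c29 LD3_c11)) = (LP (LK LD1_c17 LD2_c29 LD3_c51)) :=
  Lre_d IH (LK LD1_c9 LD2_c29 LD3_c11) (LK LD1_c17 LD2_c29 LD3_c51) Lrfl Lrfl
theorem f769199 : Led Lsl_ff (LP (LK LD1_c9 LD2_c29 LD3_c20)) = (LP (LK LD1_c17 LD2_c29 LD3_c51)) :=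
  Lgr Lrot19 (Lpr_dt (f704931 IH) (Lpr_ft (K58.f704999 IH) (Lpqs (K58.f769191 IH) (Lpr_dt (f432230 IH) (Lpn (LP (LK LD1_c17 LD2_c29 LD3_c51)))))))
theorem f769202 : Led Lsl_ft (LP (LK LD1_c9 LD2_c29 LD3_c20)) = (LP (LK LD1_c17 LD2_c29 LD3_c51)) :=
  Lgr Lrot48 (Lpr_ff (f769199 IH) (Lpn (LP (LK LD1_c17 LD2_c29 LD3_c51))))
theorem f440045 : Led Lsl_gt (LP (LK LD1_c9 LD2_c29 LD3_c20)) = (LP (LK LD1_c17 LD2_c30 LD3_c3)) :=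
  Lre_g IH (LK LD1_c9 LD2_c29 LD3_c20) (LK LD1_c17 LD2_c30 LD3_c3) Lrfl Lrfl
theorem f769210 : Led Lsl_gt (LP (LK LD1_c17 LD2_c30 LD3_c3)) = (LP (LK LD1_c9 LD2_c29 LD3_c21)) :=
  Lgr Lrot46 (Lpe (f440045 IH) (Lpr_ft (f769202 IH) (Lpr_at (f769208 IH) (Lpn (LP (LK LD1_c9 LD2_c29 LD3_c21))))))
theorem f662884 : Led Lsl_et (LP (LK LD1_c12 LD2_c31 LD3_c20)) = (LP (LK LD1_c6 LD2_c31 LD3_c40)) :=
  Lre_e IH (LK LD1_c12 LD2_c31 LD3_c20) (LK LD1_c6 LD2_c31 LD3_c40) Lrfl Lrfl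
theorem f143178 : Led Lsl_et (LP (LK LD1_c1 LD2_c8 LD3_c11)) = (LP (LK LD1_c2 LD2_c22 LD3_c3)) :=
  Lre_e IH (LK LD1_c1 LD2_c8 LD3_c11) (LK LD1_c2 LD2_c22 LD3_c3) Lrfl Lrfl
theorem f670906 : Led Lsl_dt (LP (LK LD1_c12 LD2_c31 LD3_c20)) = (LP (LK LD1_c17 LD2_c30 LD3_c3)) :=
  Lgr Lrot56 (Lpr_et (f662884 IH) (Lpqs (K49.f670902 IH) (Lpe (K49.f649804 IH) (Lpe (K8.f68467 IH) (Lpr_dt (K6.f68466 IH) (Lpe (K6.f129265 IH) (Lpe (K6.f124138 IH) (Lpr_et (f143178 IH) (Lpr_gt (K58.f160761 IH) (Lpr_dt (K76.f437449 IH) (Lpr_gt (f440045 IH) (Lpn (LP (LK LD1_c17 LD2_c30 LD3_c3))))))))))))))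
def v18678 : LQ := Led Lsl_gf (LP (LK LD1_c6 LD2_c32 LD3_c6))
theorem f768015 : Led Lsl_gf (LP (LK LD1_c6 LD2_c32 LD3_c6)) = v18678 :=
  Lrfl
def v13917 : LQ := Led Lsl_dt (LP (LK LD1_c4 LD2_c49 LD3_c60))
theorem f705898 : Led Lsl_dt (LP (LK LD1_c4 LD2_c49 LD3_c60)) = v13917 :=
  Lrfl
theorem f705899 : Led Lsl_df (LP (LK LD1_c4 LD2_c49 LD3_c60)) = v13917 :=
  Lgr Lrot38 (Lpr_dt (f705898 IH) (Lpn v13917))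
theorem f768013 : Led Lsl_af v13917 = K62.v18677 :=
  Lgr Lrot117 (Lpe (f705899 IH) (Lpr_at (K62.f454738 IH) (Lpr_dt (K62.f768012 IH) (Lpn K62.v18677))))
theorem f768014 : Led Lsl_at v13917 = K62.v18677 :=
  Lgr Lrot100 (Lpr_af (f768013 IH) (Lpn K62.v18677))
theorem f768016 : Led Lsl_ff v13917 = v18678 :=
  Lgr Lrot52 (Lpr_at (f768014 IH) (Lpe (K62.f768007 IH) (Lpr_gf (f768015 IH) (Lpn v18678))))
theorem f768017 : Led Lsl_dt (LP (LK LD1_c6 LD2_c46 LD3_c23)) = v18678 :=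
  Lgr Lrot60 (Lpr_ff (K46.f454742 IH) (Lpr_df (f705899 IH) (Lpr_ff (f768016 IH) (Lpn v18678))))
def v6406 : LQ := Led Lsl_gf (LP (LK LD1_c3 LD2_c21 LD3_c20))
theorem f653233 : Led Lsl_gf (LP (LK LD1_c3 LD2_c21 LD3_c20)) = v6406 :=
  Lrfl
def v13807 : LQ := Led Lsl_et (LP (LK LD1_c4 LD2_c48 LD3_c18))
theorem f705005 : Led Lsl_et (LP (LK LD1_c4 LD2_c48 LD3_c18)) = v13807 :=
  Lrfl
theorem f769212 : v6406 = v13807 :=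
  (Llr Lrot141 (Lpe (f653233 IH) (Lpe (K46.f454744 IH) (Lpr_dt (f768017 IH) (Lpe (f768015 IH) (Lpe (K50.f22596 IH) (Lpr_et (K59.f649818 IH) (Lpr_gt (K57.f756349 IH) (Lpr_dt (f670906 IH) (Lpr_gt (f769210 IH) (Lpe (K76.f677481 IH) (Lpr_et (f705005 IH) (Lpn v13807))))))))))))).symm
theorem f781918 : Led Lsl_ef K58.v6766 = K60.v19748 :=
  Lgr Lrot88 (Lpr_et (K60.f781915 IH) (Lpn K60.v19748))
theorem f781919 : Led Lsl_et K58.v13805 = (LP (LK LD1_c6 LD2_c46 LD3_c18)) :=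
  Lgr Lrot158 (Lpr_cf (K58.f769190 IH) (Lpr_ef (f781918 IH) (Lpe (K60.f781909 IH) (Lpn (LP (LK LD1_c6 LD2_c46 LD3_c18))))))
theorem f704989 : Led Lsl_ff (LP (LK LD1_c4 LD2_c48 LD3_c18)) = K58.v13802 :=
  Lgr Lrot3 (Lpr_ft (K58.f704988 IH) (Lpn K58.v13802))
theorem f705002 : Led Lsl_at (LP (LK LD1_c4 LD2_c48 LD3_c18)) = K58.v13805 :=
  Lgr Lrot66 (Lpr_ff (f704989 IH) (Lpe (K58.f704985 IH) (Lpr_ff (K58.f705001 IH) (Lpn K58.v13805))))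
theorem f705006 : Led Lsl_ef (LP (LK LD1_c4 LD2_c48 LD3_c18)) = v13807 :=
  Lgr Lrot88 (Lpr_et (f705005 IH) (Lpn v13807))
def v19747 : LQ := Led Lsl_at (LP (LK LD1_c6 LD2_c46 LD3_c18))
theorem f781904 : Led Lsl_at (LP (LK LD1_c6 LD2_c46 LD3_c18)) = v19747 :=
  Lrfl
theorem f781923 : v13807 = v19747 :=
  (Llr Lrot20 (Lpe (f705006 IH) (Lpr_at (f705002 IH) (Lpr_et (f781919 IH) (Lpr_at (f781904 IH) (Lpn v19747)))))).symm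
theorem f781905 : Led Lsl_af (LP (LK LD1_c6 LD2_c46 LD3_c18)) = v19747 :=
  Lgr Lrot0 (Lpr_at (f781904 IH) (Lpn v19747))
theorem f781907 : Led Lsl_ft K76.v6394 = v19747 :=
  Lgr Lrot2 (Lpe (K76.f653195 IH) (Lpr_gt (K60.f454770 IH) (Lpr_af (f781905 IH) (Lpn v19747))))
theorem f781908 : Led Lsl_ff K76.v6394 = v19747 :=
  Lgr Lrot3 (Lpr_ft (f781907 IH) (Lpn v19747))
theorem f653231 : Led Lsl_gt (LP (LK LD1_c3 LD2_c21 LD3_c20)) = K76.v6405 :=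
  Lrfl
theorem f781924 : Led Lsl_at K76.v6394 = K76.v6405 :=
  Lgr Lrot26 (Lpr_ff (f781908 IH) (Lpq (f781923 IH) (Lpq (f769212 IH) (Lpe (f653233 IH) (Lpr_gt (f653231 IH) (Lpn K76.v6405))))))
theorem f832511 : Led Lsl_ef K76.v6394 = K76.v26201 :=
  Lgr Lrot88 (Lpr_et (K76.f832510 IH) (Lpn K76.v26201))
theorem f832608 : Led Lsl_af K76.v26201 = K76.v26214 :=
  Lgr Lrot50 (Lpe (f832511 IH) (Lpr_at (f781924 IH) (Lpr_et (K76.f832607 IH) (Lpn K76.v26214))))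
theorem f781926 : Led Lsl_ff (LP (LK LD1_c6 LD2_c46 LD3_c18)) = K76.v6405 :=
  Lgr Lrot30 (Lpr_at (f781904 IH) (Lpe (f781908 IH) (Lpr_at (f781924 IH) (Lpn K76.v6405))))
theorem f781927 : Led Lsl_ft (LP (LK LD1_c6 LD2_c46 LD3_c18)) = K76.v6405 :=
  Lgr Lrot48 (Lpr_ff (f781926 IH) (Lpn K76.v6405))
theorem f704998 : Led Lsl_ef (LP (LK LD1_c4 LD2_c48 LD3_c17)) = K76.v13804 :=
  Lgr Lrot88 (Lpr_et (K76.f704997 IH) (Lpn K76.v13804))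
theorem f832610 : Led Lsl_ff K76.v13804 = K76.v26214 :=
  Lgr Lrot72 (Lpe (f704998 IH) (Lpr_ft (K58.f704999 IH) (Lpr_et (f781919 IH) (Lpr_ft (f781927 IH) (Lpr_et (K76.f832607 IH) (Lpn K76.v26214))))))
theorem f832612 : Led Lsl_ft K76.v13804 = K76.v26214 :=
  Lgr Lrot48 (Lpr_ff (f832610 IH) (Lpn K76.v26214))
theorem f850344 : Led Lsl_gt K76.v13804 = K76.v29677 :=
  Lgr Lrot5 (Lpr_ft (f832612 IH) (Lpe (f832608 IH) (Lpr_gf (K76.f850343 IH) (Lpn K76.v29677))))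
def v9261 : LQ := Led Lsl_dt K58.v2567
def v29709 : LQ := Led Lsl_gt v9261
theorem f850663 : Led Lsl_gt v9261 = v29709 :=
  Lrfl
theorem f674939 : Led Lsl_dt K58.v2567 = v9261 :=
  Lrfl
theorem f850342 : Led Lsl_ef K57.v9227 = K76.v29677 :=
  Lgr Lrot88 (Lpr_et (K76.f850339 IH) (Lpn K76.v29677))
theorem f850666 : Led Lsl_dt K76.v29677 = v29709 :=
  Lgr Lrot56 (Lpe (f850342 IH) (Lpe (K57.f674761 IH) (Lpe (K56.f527303 IH) (Lpe (K6.f125594 IH) (Lpe (K8.f147689 IH) (Lpe (K7.f128340 IH) (Lpr_et (K58.f148434 IH) (Lpr_gt (K58.f527525 IH) (Lpr_dt (f674939 IH) (Lpr_gt (f850663 IH) (Lpn v29709)))))))))))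
def v29696 : LQ := Led Lsl_dt K58.v9242
theorem f850582 : Led Lsl_dt K58.v9242 = v29696 :=
  Lrfl
theorem f674940 : Led Lsl_df K58.v2567 = v9261 :=
  Lgr Lrot38 (Lpr_dt (f674939 IH) (Lpn v9261))
theorem f850585 : Led Lsl_ff v9261 = v29696 :=
  Lgr Lrot19 (Lpe (f674940 IH) (Lpr_ft (K58.f674943 IH) (Lpqs (K58.f769123 IH) (Lpr_dt (f850582 IH) (Lpn v29696)))))
theorem f850587 : Led Lsl_ft v9261 = v29696 :=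
  Lgr Lrot48 (Lpr_ff (f850585 IH) (Lpn v29696))
def v9266 : LQ := Led Lsl_dt K58.v2568
theorem f674953 : Led Lsl_dt K58.v2568 = v9266 :=
  Lrfl
theorem f674954 : Led Lsl_df K58.v2568 = v9266 :=
  Lgr Lrot38 (Lpr_dt (f674953 IH) (Lpn v9266))
theorem f850583 : Led Lsl_af v9266 = v29696 :=
  Lgr Lrot117 (Lpe (f674954 IH) (Lpr_at (K58.f674946 IH) (Lpqs (K58.f769123 IH) (Lpr_dt (f850582 IH) (Lpn v29696)))))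
theorem f850664 : Led Lsl_gf v9266 = v29709 :=
  Lgr Lrot76 (Lpr_af (f850583 IH) (Lpe (f850587 IH) (Lpr_gt (f850663 IH) (Lpn v29709))))
def v9267 : LQ := Led Lsl_et K58.v2568
theorem f674955 : Led Lsl_et K58.v2568 = v9267 :=
  Lrfl
def v25124 : LQ := Led Lsl_ct K49.v5263
theorem f827146 : Led Lsl_ct K49.v5263 = v25124 :=
  Lrfl
def v21824 : LQ := Led Lsl_et (LP (LK LD1_c7 LD2_c27 LD3_c4))
theorem f799500 : Led Lsl_et (LP (LK LD1_c7 LD2_c27 LD3_c4)) = v21824 :=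
  Lrfl
theorem f799501 : Led Lsl_cf K48.v7248 = v21824 :=
  Lgr Lrot39 (Lpe (K48.f662652 IH) (Lpr_ct (K51.f208777 IH) (Lpr_et (f799500 IH) (Lpn v21824))))
theorem f827149 : Led Lsl_ff v21824 = v25124 :=
  Lgr Lrot23 (Lpe (f799501 IH) (Lpe (K49.f663518 IH) (Lpr_ct (f827146 IH) (Lpn v25124))))
theorem f827151 : Led Lsl_ft v21824 = v25124 :=
  Lgr Lrot48 (Lpr_ff (f827149 IH) (Lpn v25124))
def v4508 : LQ := Led Lsl_dt (LP (LK LD1_c2 LD2_c22 LD3_c44))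
def v24050 : LQ := Led Lsl_gf v4508
theorem f822229 : Led Lsl_gf v4508 = v24050 :=
  Lrfl
theorem f634305 : Led Lsl_dt (LP (LK LD1_c2 LD2_c22 LD3_c44)) = v4508 :=
  Lrfl
theorem f148428 : Led Lsl_ft (LP (LK LD1_c1 LD2_c48 LD3_c27)) = (LP (LK LD1_c1 LD2_c33 LD3_c28)) :=
  Lgr Lrot101 (Lpe (K7.f148427 IH) (Lpr_ff (K7.f148425 IH) (Lpe (K8.f22607 IH) (Lpn (LP (LK LD1_c1 LD2_c33 LD3_c28))))))
theorem f674873 : Led Lsl_et K50.v5822 = K58.v9243 :=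
  Lgr Lrot69 (Lpe (K50.f649576 IH) (Lpe (K59.f148350 IH) (Lpe (f148428 IH) (Lpr_ef (K58.f527437 IH) (Lpr_ff (K66.f674867 IH) (Lpn K58.v9243))))))
theorem f674956 : Led Lsl_ef K58.v2568 = v9267 :=
  Lgr Lrot88 (Lpr_et (f674955 IH) (Lpn v9267))
theorem f822231 : Led Lsl_dt v9267 = v24050 :=
  Lgr Lrot136 (Lpe (f674956 IH) (Lpr_gf (K66.f674874 IH) (Lpe (f674873 IH) (Lpr_dt (K62.f767670 IH) (Lpe (K58.f767672 IH) (Lpr_df (K58.f767673 IH) (Lpe (K58.f446150 IH) (Lpe (K46.f454746 IH) (Lpr_dt (f634305 IH) (Lpr_gf (f822229 IH) (Lpn v24050)))))))))))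
theorem f634306 : Led Lsl_df (LP (LK LD1_c2 LD2_c22 LD3_c44)) = v4508 :=
  Lgr Lrot38 (Lpr_dt (f634305 IH) (Lpn v4508))
theorem f822233 : Led Lsl_gf v9267 = v21824 :=
  Lgr Lrot144 (Lpr_dt (f822231 IH) (Lpe (f822229 IH) (Lpe (f634306 IH) (Lpe (K35.f140006 IH) (Lpr_df (K48.f446257 IH) (Lpr_gf (K48.f509497 IH) (Lpr_df (K48.f662776 IH) (Lpqs (K49.f663541 IH) (Lpr_gf (K49.f663519 IH) (Lpr_cf (f799501 IH) (Lpn v21824)))))))))))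
theorem f827147 : Led Lsl_af K76.v5267 = v25124 :=
  Lgr Lrot68 (Lpe (K76.f646852 IH) (Lpr_at (K49.f646841 IH) (Lpr_ct (f827146 IH) (Lpn v25124))))
theorem f827152 : Led Lsl_gt v9267 = K76.v5267 :=
  Lgr Lrot46 (Lpr_gf (f822233 IH) (Lpr_ft (f827151 IH) (Lpe (f827147 IH) (Lpn K76.v5267))))
theorem f912084 : Led Lsl_dt K57.v17146 = K76.v39915 :=
  Lgr Lrot136 (Lpe (K76.f756346 IH) (Lpe (f827152 IH) (Lpe (f674955 IH) (Lpr_dt (f674953 IH) (Lpr_gf (f850664 IH) (Lpe (f850666 IH) (Lpe (f850344 IH) (Lpe (K76.f704997 IH) (Lpr_dt (K76.f437449 IH) (Lpr_gf (K76.f912082 IH) (Lpn K76.v39915)))))))))))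
def v27085 : LQ := Led Lsl_dt K65.v7203
theorem f837556 : Led Lsl_dt K65.v7203 = v27085 :=
  Lrfl
theorem f837559 : Led Lsl_df K65.v7203 = v27085 :=
  Lgr Lrot38 (Lpr_dt (f837556 IH) (Lpn v27085))
def v10547 : LQ := Led Lsl_et K56.v3376
def v31719 : LQ := Led Lsl_dt v10547
theorem f859937 : Led Lsl_dt v10547 = v31719 :=
  Lrfl
def v9381 : LQ := Led Lsl_dt K58.v2633
def v29818 : LQ := Led Lsl_gf v9381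
theorem f851300 : Led Lsl_gf v9381 = v29818 :=
  Lrfl
theorem f675618 : Led Lsl_dt K58.v2633 = v9381 :=
  Lrfl
def v5835 : LQ := Led Lsl_dt (LP (LK LD1_c3 LD2_c13 LD3_c58))
theorem f649735 : Led Lsl_dt (LP (LK LD1_c3 LD2_c13 LD3_c58)) = v5835 :=
  Lrfl
theorem f649738 : Led Lsl_gf (LP (LK LD1_c3 LD2_c23 LD3_c23)) = v5835 :=
  Lgr Lrot143 (Lpr_dt (K2.f83726 IH) (Lpe (K2.f77324 IH) (Lpe (K2.f83727 IH) (Lpe (K2.f90843 IH) (Lpe (K2.f66658 IH) (Lpe (K3.f68350 IH) (Lpe (K2.f23364 IH) (Lpe (K2.f68338 IH) (Lpr_dt (f649735 IH) (Lpn v5835))))))))))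
theorem f90545 : Led Lsl_et (LP (LK LD1_c1 LD2_c38 LD3_c3)) = (LP (LK LD1_c3 LD2_c23 LD3_c24)) :=
  Lre_e IH (LK LD1_c1 LD2_c38 LD3_c3) (LK LD1_c3 LD2_c23 LD3_c24) Lrfl Lrfl
def v6544 : LQ := Led Lsl_gt (LP (LK LD1_c3 LD2_c23 LD3_c24))
theorem f653869 : Led Lsl_gt (LP (LK LD1_c3 LD2_c23 LD3_c24)) = v6544 :=
  Lrfl
def v26296 : LQ := Led Lsl_et v6544
theorem f833002 : Led Lsl_et v6544 = v26296 :=
  Lrfl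
theorem f833003 : Led Lsl_ef v6544 = v26296 :=
  Lgr Lrot88 (Lpr_et (f833002 IH) (Lpn v26296))
theorem f851302 : Led Lsl_dt v26296 = v29818 :=
  Lgr Lrot136 (Lpe (f833003 IH) (Lpe (f653869 IH) (Lpe (f90545 IH) (Lpr_dt (K2.f83914 IH) (Lpr_gf (f649738 IH) (Lpe (f649735 IH) (Lpr_gf (K2.f68338 IH) (Lpr_ef (K60.f529937 IH) (Lpr_dt (f675618 IH) (Lpr_gf (f851300 IH) (Lpn v29818)))))))))))
theorem f675620 : Led Lsl_df K58.v2633 = v9381 :=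
  Lgr Lrot38 (Lpr_dt (f675618 IH) (Lpn v9381))
def v10684 : LQ := Led Lsl_gf K58.v3433
theorem f681376 : Led Lsl_gf K58.v3433 = v10684 :=
  Lrfl
def v8838 : LQ := Led Lsl_et K58.v2225
theorem f672452 : Led Lsl_et K58.v2225 = v8838 :=
  Lrfl
theorem f672453 : Led Lsl_ef K58.v2225 = v8838 :=
  Lgr Lrot88 (Lpr_et (f672452 IH) (Lpn v8838))
theorem f681378 : Led Lsl_dt v8838 = v10684 :=
  Lgr Lrot136 (Lpe (f672453 IH) (Lpe (K58.f509746 IH) (Lpe (K59.f83738 IH) (Lpe (K2.f83720 IH) (Lpe (K2.f90843 IH) (Lpe (K2.f66658 IH) (Lpe (K3.f68350 IH) (Lpr_ef (K58.f459604 IH) (Lpr_dt (K58.f625628 IH) (Lpr_gf (f681376 IH) (Lpn v10684)))))))))))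
theorem f768676 : v8838 = K58.v1948 :=
  Lefun (Lecon (f672452 IH) (K58.f768669 IH)) (K58.f506531 IH)
theorem f768698 : v10684 = K58.v8266 :=
  Lefun (Lecon (f681378 IH) (f768676 IH)) (K58.f670558 IH)
def v28592 : LQ := Led Lsl_ct K59.v8265
theorem f845133 : Led Lsl_ct K59.v8265 = v28592 :=
  Lrfl
theorem f845134 : Led Lsl_cf K59.v8265 = v28592 :=
  Lgr Lrot11 (Lpr_ct (f845133 IH) (Lpn v28592))
theorem f851304 : Led Lsl_gf v26296 = v28592 :=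
  Lgr Lrot144 (Lpr_dt (f851302 IH) (Lpe (f851300 IH) (Lpe (f675620 IH) (Lpe (K60.f529939 IH) (Lpr_df (K58.f625631 IH) (Lpr_gf (f681376 IH) (Lpqs (f768698 IH) (Lpe (K58.f670558 IH) (Lpr_gf (K59.f670557 IH) (Lpr_cf (f845134 IH) (Lpn v28592)))))))))))
def v20134 : LQ := Led Lsl_et (LP (LK LD1_c6 LD2_c50 LD3_c55))
theorem f784955 : Led Lsl_et (LP (LK LD1_c6 LD2_c50 LD3_c55)) = v20134 :=
  Lrfl
theorem f83527 : Led Lsl_ct (LP (LK LD1_c3 LD2_c23 LD3_c57)) = (LP (LK LD1_c6 LD2_c50 LD3_c55)) :=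
  Lre_c IH (LK LD1_c3 LD2_c23 LD3_c57) (LK LD1_c6 LD2_c50 LD3_c55) Lrfl Lrfl
theorem f654347 : Led Lsl_ef (LP (LK LD1_c3 LD2_c23 LD3_c57)) = K59.v6593 :=
  Lgr Lrot88 (Lpr_et (K59.f654346 IH) (Lpn K59.v6593))
theorem f784956 : Led Lsl_cf K59.v6593 = v20134 :=
  Lgr Lrot39 (Lpe (f654347 IH) (Lpr_ct (f83527 IH) (Lpr_et (f784955 IH) (Lpn v20134))))
theorem f845135 : Led Lsl_ff v20134 = v28592 :=
  Lgr Lrot23 (Lpe (f784956 IH) (Lpr_ft (K59.f773838 IH) (Lpr_ct (f845133 IH) (Lpn v28592))))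
def v28590 : LQ := Led Lsl_ct K59.v8264
theorem f845123 : Led Lsl_ct K59.v8264 = v28590 :=
  Lrfl
theorem f773834 : Led Lsl_et K57.v6505 = K59.v8264 :=
  Lgr Lrot87 (Lpr_ef (K59.f773832 IH) (Lpn K59.v8264))
def v20022 : LQ := Led Lsl_gf (LP (LK LD1_c6 LD2_c49 LD3_c47))
theorem f784383 : Led Lsl_gf (LP (LK LD1_c6 LD2_c49 LD3_c47)) = v20022 :=
  Lrfl
theorem f439970 : Led Lsl_bt (LP (LK LD1_c3 LD2_c43 LD3_c5)) = (LP (LK LD1_c7 LD2_c26 LD3_c51)) :=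
  Lre_b IH (LK LD1_c3 LD2_c43 LD3_c5) (LK LD1_c7 LD2_c26 LD3_c51) Lrfl Lrfl
theorem f439971 : Led Lsl_bt (LP (LK LD1_c13 LD2_c1 LD3_c4)) = (LP (LK LD1_c6 LD2_c49 LD3_c47)) :=
  Lre_b IH (LK LD1_c13 LD2_c1 LD3_c4) (LK LD1_c6 LD2_c49 LD3_c47) Lrfl Lrfl
theorem f439972 : Led Lsl_cf (LP (LK LD1_c3 LD2_c43 LD3_c1)) = (LP (LK LD1_c6 LD2_c49 LD3_c47)) :=
  Lgr Lrot97 (Lpr_bt (K57.f128992 IH) (Lpr_ct (K3.f107022 IH) (Lpr_bt (f439970 IH) (Lpr_ct (K57.f439956 IH) (Lpr_bt (f439971 IH) (Lpn (LP (LK LD1_c6 LD2_c49 LD3_c47))))))))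
theorem f439983 : Led Lsl_ct (LP (LK LD1_c14 LD2_c4 LD3_c22)) = (LP (LK LD1_c7 LD2_c26 LD3_c46)) :=
  Lre_c IH (LK LD1_c14 LD2_c4 LD3_c22) (LK LD1_c7 LD2_c26 LD3_c46) Lrfl Lrfl
theorem f441736 : Led Lsl_bt (LP (LK LD1_c7 LD2_c26 LD3_c46)) = (LP (LK LD1_c3 LD2_c43 LD3_c6)) :=
  Lre_b IH (LK LD1_c7 LD2_c26 LD3_c46) (LK LD1_c3 LD2_c43 LD3_c6) Lrfl Lrfl
theorem f439985 : Led Lsl_ct (LP (LK LD1_c7 LD2_c26 LD3_c46)) = (LP (LK LD1_c14 LD2_c4 LD3_c22)) :=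
  Lre_c IH (LK LD1_c7 LD2_c26 LD3_c46) (LK LD1_c14 LD2_c4 LD3_c22) Lrfl Lrfl
theorem f663952 : Led Lsl_gt (LP (LK LD1_c21 LD2_c20 LD3_c5)) = (LP (LK LD1_c14 LD2_c4 LD3_c22)) :=
  Lgr Lrot149 (Lpe (K60.f83718 IH) (Lpr_gf (K2.f83713 IH) (Lpe (K70.f83252 IH) (Lpr_ct (K2.f83246 IH) (Lpe (K52.f415751 IH) (Lpe (K32.f415750 IH) (Lpr_bt (K58.f415761 IH) (Lpr_gf (K48.f653514 IH) (Lpqs (K48.f662911 IH) (Lpe (f441736 IH) (Lpr_ct (f439985 IH) (Lpn (LP (LK LD1_c14 LD2_c4 LD3_c22))))))))))))))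
theorem f784385 : Led Lsl_ct K57.v6505 = v20022 :=
  Lgr Lrot152 (Lpe (K57.f653686 IH) (Lpr_df (K59.f83565 IH) (Lpe (K2.f83713 IH) (Lpr_ct (K60.f83718 IH) (Lpr_gt (f663952 IH) (Lpr_ct (f439983 IH) (Lpe (K62.f108895 IH) (Lpr_cf (f439972 IH) (Lpr_gf (f784383 IH) (Lpn v20022))))))))))
theorem f784388 : Led Lsl_cf K57.v6505 = v20022 :=
  Lgr Lrot11 (Lpr_ct (f784385 IH) (Lpn v20022))
theorem f845126 : Led Lsl_ef v20022 = v28590 :=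
  Lgr Lrot28 (Lpe (f784388 IH) (Lpr_et (f773834 IH) (Lpr_ct (f845123 IH) (Lpn v28590))))
theorem f784386 : Led Lsl_af (LP (LK LD1_c6 LD2_c50 LD3_c55)) = v20022 :=
  Lgr Lrot68 (Lpr_ct (K71.f40444 IH) (Lpr_at (K57.f654342 IH) (Lpqs (K57.f761529 IH) (Lpr_ct (f784385 IH) (Lpn v20022)))))
theorem f845127 : Led Lsl_at v20134 = v28590 :=
  Lgr Lrot80 (Lpe (f784955 IH) (Lpr_af (f784386 IH) (Lpr_ef (f845126 IH) (Lpn v28590))))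
theorem f851305 : Led Lsl_gt v26296 = v28590 :=
  Lgr Lrot46 (Lpr_gf (f851304 IH) (Lpe (f845135 IH) (Lpr_at (f845127 IH) (Lpn v28590))))
def v28857 : LQ := Led Lsl_et K58.v8535
theorem f846485 : Led Lsl_et K58.v8535 = v28857 :=
  Lrfl
def v18105 : LQ := Led Lsl_gf (LP (LK LD1_c6 LD2_c26 LD3_c26))
theorem f765070 : Led Lsl_gf (LP (LK LD1_c6 LD2_c26 LD3_c26)) = v18105 :=
  Lrfl
theorem f765078 : Led Lsl_gt K58.v8260 = v18105 :=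
  Lgr Lrot5 (Lpr_ft (K58.f765076 IH) (Lpe (K58.f765073 IH) (Lpr_gf (f765070 IH) (Lpn v18105))))
theorem f768731 : v18105 = v6544 :=
  Lefun (Lecon (f765078 IH) (K58.f768695 IH)) (f653869 IH)
theorem f769254 : Led Lsl_ct K58.v8535 = v18105 :=
  Lgr Lrot64 (Lpe (K58.f671542 IH) (Lpe (K58.f508736 IH) (Lpe (K58.f119396 IH) (Lpr_ct (K4.f66062 IH) (Lpe (K49.f103818 IH) (Lpq (K58.f769018 IH) (Lpe (K58.f677648 IH) (Lpr_gf (K58.f677645 IH) (Lpq (K58.f768757 IH) (Lpr_bf (K58.f653769 IH) (Lpqs (K58.f768670 IH) (Lpr_ct (K58.f438563 IH) (Lpr_gf (f765070 IH) (Lpn v18105))))))))))))))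
theorem f769282 : Led Lsl_cf K58.v8535 = v6544 :=
  Lgr Lrot11 (Lpr_ct (f769254 IH) (Lpqs (f768731 IH) (Lpn v6544)))
theorem f846488 : Led Lsl_cf v26296 = v28857 :=
  Lgr Lrot39 (Lpe (f833003 IH) (Lpe (f769282 IH) (Lpr_et (f846485 IH) (Lpn v28857))))
def v8538 : LQ := Led Lsl_et K58.v2083
theorem f671547 : Led Lsl_et K58.v2083 = v8538 :=
  Lrfl
theorem f671548 : Led Lsl_ef K58.v2083 = v8538 :=
  Lgr Lrot88 (Lpr_et (f671547 IH) (Lpn v8538))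
theorem f846487 : Led Lsl_bf v8538 = v28857 :=
  Lgr Lrot96 (Lpe (f671548 IH) (Lpr_bt (K58.f671541 IH) (Lpr_et (f846485 IH) (Lpn v28857))))
def v28861 : LQ := Led Lsl_gf v8538
theorem f846507 : Led Lsl_gf v8538 = v28861 :=
  Lrfl
def v25974 : LQ := Led Lsl_et K57.v6138
theorem f831427 : Led Lsl_et K57.v6138 = v25974 :=
  Lrfl
theorem f831431 : Led Lsl_ef K57.v6138 = v25974 :=
  Lgr Lrot88 (Lpr_et (f831427 IH) (Lpn v25974))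
theorem f831435 : Led Lsl_bt K59.v8264 = v25974 :=
  Lgr Lrot119 (Lpe (f773834 IH) (Lpe (K57.f653687 IH) (Lpr_ef (f831431 IH) (Lpn v25974))))
def v25973 : LQ := Led Lsl_dt K57.v6138
theorem f831418 : Led Lsl_dt K57.v6138 = v25973 :=
  Lrfl
def v9334 : LQ := Led Lsl_dt K56.v2610
theorem f675429 : Led Lsl_dt K56.v2610 = v9334 :=
  Lrfl
theorem f675430 : Led Lsl_df K56.v2610 = v9334 :=
  Lgr Lrot38 (Lpr_dt (f675429 IH) (Lpn v9334))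
theorem f831422 : Led Lsl_ff v9334 = v25973 :=
  Lgr Lrot19 (Lpe (f675430 IH) (Lpr_ft (K57.f675436 IH) (Lpqs (K57.f761528 IH) (Lpr_dt (f831418 IH) (Lpn v25973)))))
def v25970 : LQ := Led Lsl_dt K51.v6135
theorem f831372 : Led Lsl_dt K51.v6135 = v25970 :=
  Lrfl
theorem f831374 : Led Lsl_df K51.v6135 = v25970 :=
  Lgr Lrot38 (Lpr_dt (f831372 IH) (Lpn v25970))
theorem f831378 : Led Lsl_at v9334 = v25970 :=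
  Lgr Lrot51 (Lpe (f675429 IH) (Lpr_af (K57.f675422 IH) (Lpqs (K57.f761526 IH) (Lpr_df (f831374 IH) (Lpn v25970)))))
def v9339 : LQ := Led Lsl_dt K57.v2611
theorem f675444 : Led Lsl_dt K57.v2611 = v9339 :=
  Lrfl
theorem f675445 : Led Lsl_df K57.v2611 = v9339 :=
  Lgr Lrot38 (Lpr_dt (f675444 IH) (Lpn v9339))
theorem f831375 : Led Lsl_ff v9339 = v25970 :=
  Lgr Lrot19 (Lpe (f675445 IH) (Lpr_ft (K57.f675423 IH) (Lpqs (K57.f761526 IH) (Lpr_dt (f831372 IH) (Lpn v25970)))))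
theorem f831423 : Led Lsl_at v9339 = v25973 :=
  Lgr Lrot66 (Lpr_ff (f831375 IH) (Lpe (f831378 IH) (Lpr_ff (f831422 IH) (Lpn v25973))))
theorem f754175 : Led Lsl_dt (LP (LK LD1_c12 LD2_c35 LD3_c46)) = (LP (LK LD1_c6 LD2_c34 LD3_c40)) :=
  Lre_d IH (LK LD1_c12 LD2_c35 LD3_c46) (LK LD1_c6 LD2_c34 LD3_c40) Lrfl Lrfl
theorem f769515 : Led Lsl_ct (LP (LK LD1_c6 LD2_c34 LD3_c40)) = K60.v9319 :=
  Lgr Lrot59 (Lpr_cf (K60.f769513 IH) (Lpn K60.v9319))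
def v20536 : LQ := Led Lsl_et (LP (LK LD1_c6 LD2_c59 LD3_c5))
theorem f787755 : Led Lsl_et (LP (LK LD1_c6 LD2_c59 LD3_c5)) = v20536 :=
  Lrfl
theorem f675371 : Led Lsl_ef K58.v2604 = K60.v9319 :=
  Lgr Lrot88 (Lpr_et (K60.f675370 IH) (Lpn K60.v9319))
theorem f787757 : Led Lsl_df K60.v9319 = v20536 :=
  Lgr Lrot70 (Lpe (f675371 IH) (Lpr_dt (K61.f658222 IH) (Lpe (K58.f658220 IH) (Lpr_dt (K59.f62224 IH) (Lpr_et (f787755 IH) (Lpn v20536))))))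
theorem f831376 : Led Lsl_gf v20536 = v25970 :=
  Lgr Lrot143 (Lpe (f787757 IH) (Lpe (f769515 IH) (Lpe (f754175 IH) (Lpe (K57.f754173 IH) (Lpe (K57.f650125 IH) (Lpqs (K56.f754167 IH) (Lpe (K56.f650638 IH) (Lpr_cf (K56.f506457 IH) (Lpr_gt (K62.f670446 IH) (Lpqs (K62.f761554 IH) (Lpr_dt (f831372 IH) (Lpn v25970))))))))))))
theorem f831426 : Led Lsl_gt v20536 = v25973 :=
  Lgr Lrot46 (Lpr_gf (f831376 IH) (Lpe (f831375 IH) (Lpr_at (f831423 IH) (Lpn v25973))))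
theorem f787758 : Led Lsl_ef (LP (LK LD1_c6 LD2_c59 LD3_c5)) = v20536 :=
  Lgr Lrot88 (Lpr_et (f787755 IH) (Lpn v20536))
theorem f787760 : Led Lsl_dt K60.v9319 = v20536 :=
  Lgr Lrot77 (Lpe (K60.f675370 IH) (Lpr_df (K58.f658221 IH) (Lpe (K58.f658219 IH) (Lpe (K61.f88988 IH) (Lpr_ef (f787758 IH) (Lpn v20536))))))
theorem f754817 : Led Lsl_at K59.v7340 = K59.v17065 :=
  Lgr Lrot51 (Lpe (K59.f664639 IH) (Lpr_af (K51.f664636 IH) (Lpq (K57.f709652 IH) (Lpr_df (K60.f754812 IH) (Lpn K59.v17065)))))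
theorem f769160 : Led Lsl_gf K59.v17065 = K59.v10661 :=
  Lgr Lrot76 (Lpe (f754817 IH) (Lpr_ff (K60.f754885 IH) (Lpr_gt (K59.f769158 IH) (Lpn K59.v10661))))
def v25961 : LQ := Led Lsl_gf K46.v6116
theorem f831331 : Led Lsl_gf K46.v6116 = v25961 :=
  Lrfl
def v25108 : LQ := Led Lsl_ct K46.v5234
theorem f827065 : Led Lsl_ct K46.v5234 = v25108 :=
  Lrfl
theorem f827067 : Led Lsl_cf K46.v5234 = v25108 :=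
  Lgr Lrot11 (Lpr_ct (f827065 IH) (Lpn v25108))
theorem f414288 : Led Lsl_gt (LP (LK LD1_c12 LD2_c38 LD3_c9)) = (LP (LK LD1_c6 LD2_c36 LD3_c1)) :=
  Lre_g IH (LK LD1_c12 LD2_c38 LD3_c9) (LK LD1_c6 LD2_c36 LD3_c1) Lrfl Lrfl
theorem f654145 : Led Lsl_gf (LP (LK LD1_c12 LD2_c38 LD3_c9)) = (LP (LK LD1_c6 LD2_c36 LD3_c3)) :=
  Lgr Lrot47 (Lpr_gt (f414288 IH) (Lpq (K69.f654014 IH) (Lpe (K46.f651295 IH) (Lpr_ff (K59.f651339 IH) (Lpqs (K59.f654035 IH) (Lpn (LP (LK LD1_c6 LD2_c36 LD3_c3))))))))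
theorem f827071 : Led Lsl_dt (LP (LK LD1_c12 LD2_c38 LD3_c9)) = v25108 :=
  Lgr Lrot113 (Lpr_gf (f654145 IH) (Lpe (K59.f453928 IH) (Lpe (K46.f453927 IH) (Lpr_ct (K46.f414289 IH) (Lpr_gt (K24.f140003 IH) (Lpr_dt (K46.f453913 IH) (Lpq (K49.f678501 IH) (Lpe (K49.f650973 IH) (Lpr_dt (K46.f646716 IH) (Lpr_ct (f827065 IH) (Lpn v25108)))))))))))
theorem f827072 : Led Lsl_df (LP (LK LD1_c12 LD2_c38 LD3_c9)) = v25108 :=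
  Lgr Lrot38 (Lpr_dt (f827071 IH) (Lpn v25108))
theorem f414287 : Led Lsl_dt (LP (LK LD1_c6 LD2_c36 LD3_c1)) = (LP (LK LD1_c3 LD2_c16 LD3_c19)) :=
  Lre_d IH (LK LD1_c6 LD2_c36 LD3_c1) (LK LD1_c3 LD2_c16 LD3_c19) Lrfl Lrfl
theorem f754815 : Led Lsl_cf K60.v6131 = K59.v17065 :=
  Lgr Lrot14 (Lpe (K60.f651413 IH) (Lpe (K46.f508816 IH) (Lpe (K56.f87379 IH) (Lpe (K46.f65263 IH) (Lpr_ct (K46.f416431 IH) (Lpq (K56.f634285 IH) (Lpe (K56.f527787 IH) (Lpr_dt (K5.f105630 IH) (Lpr_gt (K46.f649353 IH) (Lpq (K46.f649454 IH) (Lpr_dt (K59.f754810 IH) (Lpn K59.v17065))))))))))))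
theorem f827075 : Led Lsl_gt K60.v6131 = v25108 :=
  Lgr Lrot94 (Lpr_cf (f754815 IH) (Lpr_gt (K59.f769161 IH) (Lpe (K61.f769163 IH) (Lpe (K60.f777827 IH) (Lpe (K56.f653963 IH) (Lpr_cf (K46.f414284 IH) (Lpe (f414287 IH) (Lpe (f414288 IH) (Lpr_df (f827072 IH) (Lpn v25108))))))))))
theorem f831337 : Led Lsl_df K59.v10661 = v25961 :=
  Lgr Lrot155 (Lpe (f769160 IH) (Lpe (f754815 IH) (Lpr_gt (f827075 IH) (Lpe (f827067 IH) (Lpe (K49.f646714 IH) (Lpe (K49.f646717 IH) (Lpqs (K49.f678625 IH) (Lpe (K49.f651351 IH) (Lpr_cf (K49.f651284 IH) (Lpr_gf (f831331 IH) (Lpn v25961)))))))))))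
def v10733 : LQ := Led Lsl_dt K58.v3446
theorem f681538 : Led Lsl_dt K58.v3446 = v10733 :=
  Lrfl
theorem f681539 : Led Lsl_df K58.v3446 = v10733 :=
  Lgr Lrot38 (Lpr_dt (f681538 IH) (Lpn v10733))
theorem f831338 : Led Lsl_et v10733 = v25961 :=
  Lgr Lrot121 (Lpe (f681539 IH) (Lpe (K58.f625676 IH) (Lpe (K58.f459620 IH) (Lpr_et (K56.f441539 IH) (Lpe (K3.f5767 IH) (Lpe (K5.f85136 IH) (Lpr_dt (K5.f105615 IH) (Lpe (K46.f651366 IH) (Lpr_df (K46.f651365 IH) (Lpr_gf (f831331 IH) (Lpn v25961)))))))))))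
theorem f831339 : Led Lsl_ef v10733 = v25961 :=
  Lgr Lrot88 (Lpr_et (f831338 IH) (Lpn v25961))
theorem f831432 : Led Lsl_gf v10733 = v25974 :=
  Lgr Lrot141 (Lpr_ef (f831339 IH) (Lpe (f831337 IH) (Lpe (f769160 IH) (Lpe (K59.f754810 IH) (Lpr_et (K58.f649457 IH) (Lpe (K61.f787776 IH) (Lpr_dt (f787760 IH) (Lpr_gt (f831426 IH) (Lpe (f831418 IH) (Lpr_et (f831427 IH) (Lpn v25974)))))))))))
def v6153 : LQ := Led Lsl_gt (LP (LK LD1_c3 LD2_c18 LD3_c28))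
def v25993 : LQ := Led Lsl_et v6153
theorem f831524 : Led Lsl_et v6153 = v25993 :=
  Lrfl
def v25992 : LQ := Led Lsl_dt v6153
theorem f831516 : Led Lsl_dt v6153 = v25992 :=
  Lrfl
theorem f651537 : Led Lsl_gt (LP (LK LD1_c3 LD2_c18 LD3_c28)) = v6153 :=
  Lrfl
theorem f646476 : Led Lsl_dt (LP (LK LD1_c12 LD2_c1 LD3_c23)) = (LP (LK LD1_c6 LD2_c10 LD3_c17)) :=
  Lre_d IH (LK LD1_c12 LD2_c1 LD3_c23) (LK LD1_c6 LD2_c10 LD3_c17) Lrfl Lrfl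
theorem f831520 : Led Lsl_gf (LP (LK LD1_c12 LD2_c1 LD3_c23)) = v25992 :=
  Lgr Lrot143 (Lpr_dt (f646476 IH) (Lpe (K46.f453929 IH) (Lpe (K56.f441161 IH) (Lpe (K59.f651734 IH) (Lpe (K56.f624504 IH) (Lpe (K32.f453865 IH) (Lpe (K57.f130877 IH) (Lpr_gt (f651537 IH) (Lpr_dt (f831516 IH) (Lpn v25992))))))))))
theorem f651211 : Led Lsl_dt (LP (LK LD1_c6 LD2_c10 LD3_c17)) = (LP (LK LD1_c12 LD2_c1 LD3_c23)) :=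
  Lre_d IH (LK LD1_c6 LD2_c10 LD3_c17) (LK LD1_c12 LD2_c1 LD3_c23) Lrfl Lrfl
theorem f651212 : Led Lsl_et (LP (LK LD1_c6 LD2_c10 LD3_c17)) = (LP (LK LD1_c12 LD2_c1 LD3_c24)) :=
  Lre_e IH (LK LD1_c6 LD2_c10 LD3_c17) (LK LD1_c12 LD2_c1 LD3_c24) Lrfl Lrfl
def v18839 : LQ := Led Lsl_et (LP (LK LD1_c6 LD2_c33 LD3_c46))
theorem f776055 : Led Lsl_et (LP (LK LD1_c6 LD2_c33 LD3_c46)) = v18839 :=
  Lrfl
theorem f831529 : Led Lsl_gt v18839 = v25993 :=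
  Lgr Lrot131 (Lpe (f776055 IH) (Lpr_dt (K57.f650118 IH) (Lpe (K57.f760799 IH) (Lpe (K57.f103938 IH) (Lpr_gf (K57.f760801 IH) (Lpe (f651212 IH) (Lpr_dt (f651211 IH) (Lpr_gf (f831520 IH) (Lpe (f831516 IH) (Lpr_et (f831524 IH) (Lpn v25993)))))))))))
def v5942 : LQ := Led Lsl_et (LP (LK LD1_c3 LD2_c15 LD3_c10))
theorem f650152 : Led Lsl_et (LP (LK LD1_c3 LD2_c15 LD3_c10)) = v5942 :=
  Lrfl
theorem f650153 : Led Lsl_ef (LP (LK LD1_c3 LD2_c15 LD3_c10)) = v5942 :=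
  Lgr Lrot88 (Lpr_et (f650152 IH) (Lpn v5942))
theorem f776057 : Led Lsl_cf v5942 = v18839 :=
  Lgr Lrot39 (Lpe (f650153 IH) (Lpr_ct (K56.f62071 IH) (Lpr_et (f776055 IH) (Lpn v18839))))
theorem f678389 : Led Lsl_gt v5942 = K49.v6149 :=
  Lgr Lrot137 (Lpe (f650152 IH) (Lpr_dt (K60.f634014 IH) (Lpr_gf (K57.f678388 IH) (Lpe (K57.f678379 IH) (Lpe (K46.f624039 IH) (Lpe (K49.f453809 IH) (Lpr_ef (K49.f453871 IH) (Lpr_dt (K49.f624514 IH) (Lpr_gf (K49.f677251 IH) (Lpe (K49.f677247 IH) (Lpn K49.v6149)))))))))))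
def v5988 : LQ := Led Lsl_ft (LP (LK LD1_c3 LD2_c15 LD3_c56))
theorem f650406 : Led Lsl_ft (LP (LK LD1_c3 LD2_c15 LD3_c56)) = v5988 :=
  Lrfl
theorem f96740 : Led Lsl_dt (LP (LK LD1_c1 LD2_c34 LD3_c43)) = (LP (LK LD1_c3 LD2_c15 LD3_c56)) :=
  Lre_d IH (LK LD1_c1 LD2_c34 LD3_c43) (LK LD1_c3 LD2_c15 LD3_c56) Lrfl Lrfl
theorem f650407 : Led Lsl_df K59.v2070 = v5988 :=
  Lgr Lrot78 (Lpe (K60.f508681 IH) (Lpr_dt (f96740 IH) (Lpr_ft (f650406 IH) (Lpn v5988))))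
def v5984 : LQ := Led Lsl_gt (LP (LK LD1_c3 LD2_c15 LD3_c56))
def v25865 : LQ := Led Lsl_ft v5984
theorem f830899 : Led Lsl_ft v5984 = v25865 :=
  Lrfl
theorem f830902 : Led Lsl_ff v5984 = v25865 :=
  Lgr Lrot3 (Lpr_ft (f830899 IH) (Lpn v25865))
def v25863 : LQ := Led Lsl_dt v5984
theorem f830890 : Led Lsl_dt v5984 = v25863 :=
  Lrfl
theorem f830891 : Led Lsl_df v5984 = v25863 :=
  Lgr Lrot38 (Lpr_dt (f830890 IH) (Lpn v25863))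
def v25859 : LQ := Led Lsl_gt v5984
theorem f830874 : Led Lsl_gt v5984 = v25859 :=
  Lrfl
theorem f650391 : Led Lsl_gt (LP (LK LD1_c3 LD2_c15 LD3_c56)) = v5984 :=
  Lrfl
theorem f830875 : Led Lsl_at v5988 = v25859 :=
  Lgr Lrot26 (Lpe (f650406 IH) (Lpr_gt (f650391 IH) (Lpr_gt (f830874 IH) (Lpn v25859))))
def v5986 : LQ := Led Lsl_at (LP (LK LD1_c3 LD2_c15 LD3_c56))
theorem f650398 : Led Lsl_at (LP (LK LD1_c3 LD2_c15 LD3_c56)) = v5986 :=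
  Lrfl
theorem f650399 : Led Lsl_af (LP (LK LD1_c3 LD2_c15 LD3_c56)) = v5986 :=
  Lgr Lrot0 (Lpr_at (f650398 IH) (Lpn v5986))
theorem f830878 : Led Lsl_ff v5986 = v25859 :=
  Lgr Lrot30 (Lpe (f650399 IH) (Lpr_ft (f650406 IH) (Lpr_at (f830875 IH) (Lpn v25859))))
theorem f650400 : Led Lsl_df K59.v1785 = v5986 :=
  Lgr Lrot18 (Lpe (K59.f502880 IH) (Lpr_dt (f96740 IH) (Lpr_at (f650398 IH) (Lpn v5986))))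
theorem f830879 : Led Lsl_dt K59.v8082 = v25859 :=
  Lgr Lrot60 (Lpe (K59.f669905 IH) (Lpr_df (f650400 IH) (Lpr_ff (f830878 IH) (Lpn v25859))))
theorem f130680 : Led Lsl_ff (LP (LK LD1_c1 LD2_c26 LD3_c59)) = (LP (LK LD1_c0 LD2_c43 LD3_c56)) :=
  Lgr Lrot19 (Lpr_dt (K3.f96042 IH) (Lpr_ft (K5.f130678 IH) (Lpr_dt (K2.f65271 IH) (Lpn (LP (LK LD1_c0 LD2_c43 LD3_c56))))))
theorem f96764 : Led Lsl_et (LP (LK LD1_c1 LD2_c34 LD3_c33)) = (LP (LK LD1_c0 LD2_c43 LD3_c56)) :=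
  Lre_e IH (LK LD1_c1 LD2_c34 LD3_c33) (LK LD1_c0 LD2_c43 LD3_c56) Lrfl Lrfl
theorem f669908 : Led Lsl_ef K32.v2057 = K59.v8082 :=
  Lgr Lrot21 (Lpe (K46.f508616 IH) (Lpr_et (f96764 IH) (Lpe (f130680 IH) (Lpr_et (K59.f502879 IH) (Lpr_ft (K59.f669905 IH) (Lpn K59.v8082))))))
def v5203 : LQ := Led Lsl_gf (LP (LK LD1_c3 LD2_c1 LD3_c56))
theorem f646519 : Led Lsl_gf (LP (LK LD1_c3 LD2_c1 LD3_c56)) = v5203 :=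
  Lrfl
theorem f646520 : Led Lsl_gt K32.v2057 = v5203 :=
  Lgr Lrot5 (Lpe (K46.f508616 IH) (Lpr_at (K46.f150946 IH) (Lpr_gf (f646519 IH) (Lpn v5203))))
theorem f664718 : Led Lsl_af K59.v3419 = K59.v7360 :=
  Lgr Lrot45 (Lpr_ft (K59.f664712 IH) (Lpe (K59.f664708 IH) (Lpr_ft (K59.f664717 IH) (Lpn K59.v7360))))
theorem f664721 : Led Lsl_gt K58.v7357 = K59.v3419 :=
  Lgr Lrot46 (Lpe (K58.f664703 IH) (Lpr_ft (K59.f664717 IH) (Lpe (f664718 IH) (Lpn K59.v3419))))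
theorem f769442 : K59.v3419 = v5203 :=
  Lefun (Lecon (f664721 IH) (K58.f769440 IH)) (f646520 IH)
def v19353 : LQ := Led Lsl_ft (LP (LK LD1_c6 LD2_c41 LD3_c9))
theorem f779244 : Led Lsl_ft (LP (LK LD1_c6 LD2_c41 LD3_c9)) = v19353 :=
  Lrfl
theorem f779247 : Led Lsl_ff (LP (LK LD1_c6 LD2_c41 LD3_c9)) = v19353 :=
  Lgr Lrot3 (Lpr_ft (f779244 IH) (Lpn v19353))
theorem f777102 : Led Lsl_df (LP (LK LD1_c6 LD2_c36 LD3_c15)) = K66.v18991 :=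
  Lgr Lrot38 (Lpr_dt (K66.f777100 IH) (Lpn K66.v18991))
theorem f777107 : Led Lsl_at (LP (LK LD1_c6 LD2_c41 LD3_c9)) = K66.v18991 :=
  Lgr Lrot51 (Lpe (K5.f66021 IH) (Lpr_af (K46.f624280 IH) (Lpr_df (f777102 IH) (Lpn K66.v18991))))
theorem f509017 : Led Lsl_et (LP (LK LD1_c6 LD2_c36 LD3_c15)) = (LP (LK LD1_c3 LD2_c16 LD3_c26)) :=
  Lre_e IH (LK LD1_c6 LD2_c36 LD3_c15) (LK LD1_c3 LD2_c16 LD3_c26) Lrfl Lrfl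
theorem f777105 : Led Lsl_gt (LP (LK LD1_c7 LD2_c31 LD3_c51)) = K66.v18991 :=
  Lgr Lrot139 (Lpe (K58.f527904 IH) (Lpqs (K58.f769443 IH) (Lpe (K58.f646517 IH) (Lpe (K58.f96308 IH) (Lpr_dt (K3.f63846 IH) (Lpr_gf (K5.f96120 IH) (Lpe (K3.f93365 IH) (Lpr_et (K5.f96069 IH) (Lpe (K34.f527810 IH) (Lpe (f509017 IH) (Lpr_dt (K66.f777100 IH) (Lpn K66.v18991))))))))))))
theorem f779250 : Led Lsl_gf (LP (LK LD1_c7 LD2_c31 LD3_c51)) = v19353 :=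
  Lgr Lrot47 (Lpr_gt (f777105 IH) (Lpe (f777107 IH) (Lpr_ff (f779247 IH) (Lpn v19353))))
theorem f779251 : Led Lsl_gt K61.v10645 = v19353 :=
  Lgr Lrot5 (Lpr_ft (K61.f773547 IH) (Lpe (K61.f773548 IH) (Lpr_gf (f779250 IH) (Lpn v19353))))
theorem f66087 : Led Lsl_dt (LP (LK LD1_c6 LD2_c41 LD3_c9)) = (LP (LK LD1_c3 LD2_c18 LD3_c37)) :=
  Lre_d IH (LK LD1_c6 LD2_c41 LD3_c9) (LK LD1_c3 LD2_c18 LD3_c37) Lrfl Lrfl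
theorem f779249 : Led Lsl_dt (LP (LK LD1_c6 LD2_c41 LD3_c10)) = v19353 :=
  Lgr Lrot60 (Lpe (K35.f508875 IH) (Lpe (f66087 IH) (Lpr_ff (f779247 IH) (Lpn v19353))))
theorem f830893 : Led Lsl_ef K59.v8583 = v25863 :=
  Lgr Lrot17 (Lpe (K59.f671676 IH) (Lpr_ef (K46.f624165 IH) (Lpr_dt (f779249 IH) (Lpe (f779251 IH) (Lpe (K61.f681239 IH) (Lpqs (f769442 IH) (Lpe (f646520 IH) (Lpr_ef (f669908 IH) (Lpr_dt (f830879 IH) (Lpe (f830874 IH) (Lpr_df (f830891 IH) (Lpn v25863))))))))))))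
theorem f776780 : Led Lsl_ff K59.v8583 = K60.v18950 :=
  Lgr Lrot23 (Lpr_ct (K59.f681525 IH) (Lpe (K59.f769164 IH) (Lpr_ct (K60.f776779 IH) (Lpn K60.v18950))))
theorem f776781 : Led Lsl_ft K59.v8583 = K60.v18950 :=
  Lgr Lrot48 (Lpr_ff (f776780 IH) (Lpn K60.v18950))
def v6075 : LQ := Led Lsl_et (LP (LK LD1_c3 LD2_c17 LD3_c14))
theorem f650844 : Led Lsl_et (LP (LK LD1_c3 LD2_c17 LD3_c14)) = v6075 :=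
  Lrfl
theorem f830895 : Led Lsl_ft v6075 = v25863 :=
  Lgr Lrot86 (Lpe (f650844 IH) (Lpr_ff (K58.f650848 IH) (Lpqs (K58.f769332 IH) (Lpr_ef (K60.f776777 IH) (Lpe (f776781 IH) (Lpr_ef (f830893 IH) (Lpn v25863)))))))
theorem f830896 : Led Lsl_ff v6075 = v25863 :=
  Lgr Lrot3 (Lpr_ft (f830895 IH) (Lpn v25863))
theorem f830904 : Led Lsl_dt v6075 = v25865 :=
  Lgr Lrot60 (Lpr_ff (f830896 IH) (Lpe (f830890 IH) (Lpr_ff (f830902 IH) (Lpn v25865))))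
theorem f650845 : Led Lsl_ef (LP (LK LD1_c3 LD2_c17 LD3_c14)) = v6075 :=
  Lgr Lrot88 (Lpr_et (f650844 IH) (Lpn v6075))
theorem f650401 : Led Lsl_dt K59.v1785 = v5986 :=
  Lgr Lrot42 (Lpr_df (f650400 IH) (Lpn v5986))
theorem f830906 : Led Lsl_gf v5986 = v25865 :=
  Lgr Lrot145 (Lpe (f650401 IH) (Lpe (K59.f502882 IH) (Lpr_gt (K3.f96064 IH) (Lpe (K3.f96190 IH) (Lpr_gt (K3.f96188 IH) (Lpe (K3.f66093 IH) (Lpr_et (K49.f96196 IH) (Lpr_gt (K58.f66081 IH) (Lpr_ef (f650845 IH) (Lpr_dt (f830904 IH) (Lpn v25865)))))))))))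
def v25860 : LQ := Led Lsl_at v5984
theorem f830882 : Led Lsl_at v5984 = v25860 :=
  Lrfl
theorem f830907 : Led Lsl_gt v5986 = v25860 :=
  Lgr Lrot46 (Lpr_gf (f830906 IH) (Lpe (f830902 IH) (Lpr_at (f830882 IH) (Lpn v25860))))
theorem f830880 : Led Lsl_ft v5986 = v25859 :=
  Lgr Lrot48 (Lpr_ff (f830878 IH) (Lpn v25859))
theorem f830876 : Led Lsl_af v5988 = v25859 :=
  Lgr Lrot0 (Lpr_at (f830875 IH) (Lpn v25859))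
theorem f830908 : Led Lsl_gf v5988 = v25860 :=
  Lgr Lrot76 (Lpr_af (f830876 IH) (Lpe (f830880 IH) (Lpr_gt (f830907 IH) (Lpn v25860))))
theorem f831531 : Led Lsl_df v25860 = v25993 :=
  Lgr Lrot153 (Lpe (f830908 IH) (Lpe (f650407 IH) (Lpe (K60.f508682 IH) (Lpr_df (K49.f624512 IH) (Lpr_gf (K49.f677251 IH) (Lpe (K49.f677247 IH) (Lpe (f678389 IH) (Lpr_cf (f776057 IH) (Lpr_gt (f831529 IH) (Lpn v25993))))))))))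
theorem f831532 : Led Lsl_dt v25860 = v25993 :=
  Lgr Lrot42 (Lpr_df (f831531 IH) (Lpn v25993))
theorem f831537 : Led Lsl_ct v10733 = v25993 :=
  Lgr Lrot7 (Lpe (f681538 IH) (Lpe (K58.f625676 IH) (Lpe (K58.f459620 IH) (Lpr_gf (K56.f459619 IH) (Lpr_cf (K59.f625671 IH) (Lpqs (K59.f769137 IH) (Lpqs (K59.f769115 IH) (Lpe (K59.f669903 IH) (Lpr_dt (f650401 IH) (Lpr_gt (f830907 IH) (Lpr_dt (f831532 IH) (Lpn v25993))))))))))))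
def v19086 : LQ := Led Lsl_ft (LP (LK LD1_c6 LD2_c37 LD3_c54))
theorem f777747 : Led Lsl_ft (LP (LK LD1_c6 LD2_c37 LD3_c54)) = v19086 :=
  Lrfl
theorem f777749 : Led Lsl_ff (LP (LK LD1_c6 LD2_c37 LD3_c54)) = v19086 :=
  Lgr Lrot3 (Lpr_ft (f777747 IH) (Lpn v19086))
theorem f646648 : Led Lsl_et (LP (LK LD1_c3 LD2_c17 LD3_c15)) = (LP (LK LD1_c6 LD2_c37 LD3_c54)) :=
  Lre_e IH (LK LD1_c3 LD2_c17 LD3_c15) (LK LD1_c6 LD2_c37 LD3_c54) Lrfl Lrfl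
theorem f776778 : Led Lsl_at (LP (LK LD1_c6 LD2_c37 LD3_c54)) = K60.v18950 :=
  Lgr Lrot80 (Lpe (f646648 IH) (Lpr_af (K58.f650847 IH) (Lpqs (K58.f769332 IH) (Lpr_ef (K60.f776777 IH) (Lpn K60.v18950)))))
theorem f777750 : Led Lsl_at K59.v8583 = v19086 :=
  Lgr Lrot66 (Lpr_ff (f776780 IH) (Lpe (f776778 IH) (Lpr_ff (f777749 IH) (Lpn v19086))))
theorem f777834 : v19086 = v6153 :=
  (Llr Lrot26 (Lpe (f777750 IH) (Lpr_ff (f776780 IH) (Lpq (K60.f777829 IH) (Lpr_gt (K60.f508840 IH) (Lpr_gt (f651537 IH) (Lpn v6153))))))).symm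
def v8927 : LQ := Led Lsl_ct K58.v2291
theorem f672787 : Led Lsl_ct K58.v2291 = v8927 :=
  Lrfl
theorem f769180 : K58.v6073 = v8927 :=
  Lefun (Lecon (K58.f769022 IH) ((K58.f769085 IH).trans (K58.f769178 IH).symm)) (f672787 IH)
def v5985 : LQ := Led Lsl_gf (LP (LK LD1_c3 LD2_c15 LD3_c56))
def v25868 : LQ := Led Lsl_dt v5985
theorem f830914 : Led Lsl_dt v5985 = v25868 :=
  Lrfl
theorem f650394 : Led Lsl_gf (LP (LK LD1_c3 LD2_c15 LD3_c56)) = v5985 :=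
  Lrfl
theorem f830881 : Led Lsl_gf v5985 = v25859 :=
  Lgr Lrot47 (Lpe (f650394 IH) (Lpr_af (f650399 IH) (Lpr_ff (f830878 IH) (Lpn v25859))))
theorem f625685 : Led Lsl_dt K58.v833 = K58.v3449 :=
  Lgr Lrot60 (Lpe (K58.f459624 IH) (Lpr_df (K58.f459621 IH) (Lpr_ff (K58.f625684 IH) (Lpn K58.v3449))))
theorem f681287 : Led Lsl_df K58.v8929 = K58.v10663 :=
  Lgr Lrot38 (Lpr_dt (K58.f681286 IH) (Lpn K58.v10663))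
theorem f830918 : Led Lsl_cf K58.v8929 = v25868 :=
  Lgr Lrot14 (Lpr_df (f681287 IH) (Lpe (K58.f681285 IH) (Lpe (f625685 IH) (Lpr_gf (K58.f625585 IH) (Lpq (K59.f769111 IH) (Lpe (K59.f671454 IH) (Lpr_gt (K59.f669915 IH) (Lpr_dt (f830879 IH) (Lpe (f830881 IH) (Lpr_dt (f830914 IH) (Lpn v25868)))))))))))
theorem f830920 : Led Lsl_et v8927 = v25868 :=
  Lgr Lrot158 (Lpe (f672787 IH) (Lpr_ef (K58.f672792 IH) (Lpr_cf (f830918 IH) (Lpn v25868))))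
theorem f830921 : Led Lsl_ef v8927 = v25868 :=
  Lgr Lrot88 (Lpr_et (f830920 IH) (Lpn v25868))
theorem f831528 : Led Lsl_ff v25868 = v25993 :=
  Lgr Lrot72 (Lpe (f830921 IH) (Lpq (f769180 IH) (Lpe (K58.f650836 IH) (Lpr_et (f646648 IH) (Lpr_ft (f777747 IH) (Lpqs (f777834 IH) (Lpr_et (f831524 IH) (Lpn v25993))))))))
theorem f830883 : Led Lsl_af v5984 = v25860 :=
  Lgr Lrot0 (Lpr_at (f830882 IH) (Lpn v25860))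
theorem f830884 : Led Lsl_ft v5985 = v25860 :=
  Lgr Lrot2 (Lpe (f650394 IH) (Lpr_gt (f650391 IH) (Lpr_af (f830883 IH) (Lpn v25860))))
theorem f830900 : Led Lsl_af v5985 = v25865 :=
  Lgr Lrot45 (Lpr_ft (f830884 IH) (Lpe (f830883 IH) (Lpr_ft (f830899 IH) (Lpn v25865))))
theorem f830915 : Led Lsl_af v6075 = v25868 :=
  Lgr Lrot117 (Lpr_dt (f830904 IH) (Lpe (f830900 IH) (Lpr_dt (f830914 IH) (Lpn v25868))))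
def v25924 : LQ := Led Lsl_gf v6075
theorem f831208 : Led Lsl_gf v6075 = v25924 :=
  Lrfl
theorem f831538 : Led Lsl_gf v25924 = v25993 :=
  Lgr Lrot47 (Lpe (f831208 IH) (Lpr_af (f830915 IH) (Lpr_ff (f831528 IH) (Lpn v25993))))
theorem f622620 : Led Lsl_df K35.v460 = K49.v3045 :=
  Lgr Lrot38 (Lpr_dt (K49.f622618 IH) (Lpn K49.v3045))
theorem f62020 : Led Lsl_et (LP (LK LD1_c0 LD2_c19 LD3_c44)) = (LP (LK LD1_c0 LD2_c44 LD3_c16)) :=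
  Lre_e IH (LK LD1_c0 LD2_c19 LD3_c44) (LK LD1_c0 LD2_c44 LD3_c16) Lrfl Lrfl
theorem f671580 : Led Lsl_gf K49.v3045 = K49.v8551 :=
  Lgr Lrot145 (Lpe (K49.f622618 IH) (Lpe (K35.f452999 IH) (Lpr_gt (K3.f18897 IH) (Lpr_dt (K3.f18896 IH) (Lpr_gt (K2.f18902 IH) (Lpr_df (K1.f61987 IH) (Lpr_et (f62020 IH) (Lpr_gt (K46.f62023 IH) (Lpr_ef (K49.f508753 IH) (Lpr_dt (K49.f671577 IH) (Lpn K49.v8551)))))))))))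
def v8550 : LQ := Led Lsl_gf K49.v2086
theorem f671576 : Led Lsl_gf K49.v2086 = v8550 :=
  Lrfl
theorem f831209 : Led Lsl_ct v8550 = v25924 :=
  Lgr Lrot8 (Lpe (f671576 IH) (Lpr_dt (K49.f671577 IH) (Lpe (f671580 IH) (Lpe (f622620 IH) (Lpr_cf (K59.f502881 IH) (Lpr_df (f650400 IH) (Lpr_gf (f830906 IH) (Lpe (f830904 IH) (Lpr_gf (f831208 IH) (Lpn v25924))))))))))
def v28863 : LQ := Led Lsl_bt v8550
theorem f846520 : Led Lsl_bt v8550 = v28863 :=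
  Lrfl
theorem f851306 : v28861 = v28863 :=
  (Llr Lrot124 (Lpe (f846507 IH) (Lpr_bf (f846487 IH) (Lpe (f846488 IH) (Lpr_gt (f851305 IH) (Lpe (f845123 IH) (Lpr_bt (f831435 IH) (Lpe (f831432 IH) (Lpr_ct (f831537 IH) (Lpe (f831538 IH) (Lpe (f831209 IH) (Lpr_bt (f846520 IH) (Lpn v28863))))))))))))).symm
def v10737 : LQ := Led Lsl_dt K58.v3447
theorem f681548 : Led Lsl_dt K58.v3447 = v10737 :=
  Lrfl
theorem f681549 : Led Lsl_df K58.v3447 = v10737 :=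
  Lgr Lrot38 (Lpr_dt (f681548 IH) (Lpn v10737))
theorem f109218 : Led Lsl_gt (LP (LK LD1_c0 LD2_c42 LD3_c21)) = (LP (LK LD1_c0 LD2_c47 LD3_c4)) :=
  Lgr Lrot150 (Lpr_cf (K3.f109200 IH) (Lpr_gf (K3.f109212 IH) (Lpr_df (K2.f84963 IH) (Lpe (K3.f65960 IH) (Lpr_ct (K3.f96127 IH) (Lpe (K3.f96132 IH) (Lpr_ct (K2.f11958 IH) (Lpr_df (K2.f87608 IH) (Lpe (K3.f87615 IH) (Lpn (LP (LK LD1_c0 LD2_c47 LD3_c4))))))))))))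
theorem f681550 : Led Lsl_ef K58.v6757 = v10737 :=
  Lgr Lrot17 (Lpe (K58.f658247 IH) (Lpe (K65.f88694 IH) (Lpr_dt (K3.f87616 IH) (Lpe (f109218 IH) (Lpr_df (K3.f109202 IH) (Lpe (K3.f65668 IH) (Lpe (K56.f441539 IH) (Lpr_dt (K58.f459620 IH) (Lpr_gf (K58.f625677 IH) (Lpr_df (f681549 IH) (Lpn v10737)))))))))))
theorem f769030 : Led Lsl_cf v10737 = v6075 :=
  Lgr Lrot39 (Lpe (f681550 IH) (Lpqs (K58.f769029 IH) (Lpe (K58.f650838 IH) (Lpr_et (f650844 IH) (Lpn v6075)))))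
theorem f769031 : Led Lsl_ct v10737 = v6075 :=
  Lgr Lrot59 (Lpr_cf (f769030 IH) (Lpn v6075))
def v27086 : LQ := Led Lsl_et K65.v7203
theorem f837564 : Led Lsl_et K65.v7203 = v27086 :=
  Lrfl
theorem f837568 : Led Lsl_ef K65.v7203 = v27086 :=
  Lgr Lrot88 (Lpr_et (f837564 IH) (Lpn v27086))
theorem f681551 : Led Lsl_et K58.v6757 = v10737 :=
  Lgr Lrot87 (Lpr_ef (f681550 IH) (Lpn v10737))
theorem f837570 : Led Lsl_bt v10737 = v27086 :=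
  Lgr Lrot119 (Lpe (f681551 IH) (Lpqs (K58.f769029 IH) (Lpe (K58.f769024 IH) (Lpqs (K58.f769073 IH) (Lpq (K65.f774153 IH) (Lpr_ef (f837568 IH) (Lpn v27086)))))))
def v24040 : LQ := Led Lsl_et K50.v4470
theorem f822160 : Led Lsl_et K50.v4470 = v24040 :=
  Lrfl
theorem f822161 : Led Lsl_af v8538 = v24040 :=
  Lgr Lrot50 (Lpe (f671548 IH) (Lpr_at (K58.f650814 IH) (Lpq (K58.f769266 IH) (Lpr_et (f822160 IH) (Lpn v24040)))))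
def v26009 : LQ := Led Lsl_et K60.v6167
theorem f831638 : Led Lsl_et K60.v6167 = v26009 :=
  Lrfl
theorem f822163 : Led Lsl_ef K50.v4470 = v24040 :=
  Lgr Lrot88 (Lpr_et (f822160 IH) (Lpn v24040))
theorem f831642 : Led Lsl_ff v24040 = v26009 :=
  Lgr Lrot72 (Lpe (f822163 IH) (Lpqs (K58.f769266 IH) (Lpe (K58.f650813 IH) (Lpr_et (K65.f650809 IH) (Lpq (K66.f769265 IH) (Lpe (K60.f675186 IH) (Lpqs (K60.f772364 IH) (Lpr_et (f831638 IH) (Lpn v26009)))))))))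
theorem f846508 : Led Lsl_gt v26009 = v28861 :=
  Lgr Lrot5 (Lpe (f831642 IH) (Lpe (f822161 IH) (Lpr_gf (f846507 IH) (Lpn v28861))))
theorem f634070 : Led Lsl_ef (LP (LK LD1_c2 LD2_c22 LD3_c4)) = K49.v4471 :=
  Lgr Lrot88 (Lpr_et (K49.f634069 IH) (Lpn K49.v4471))
theorem f822162 : Led Lsl_bf K49.v4471 = v24040 :=
  Lgr Lrot96 (Lpe (f634070 IH) (Lpr_bt (K50.f634066 IH) (Lpr_et (f822160 IH) (Lpn v24040))))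
theorem f831643 : Led Lsl_bt K48.v6400 = v26009 :=
  Lgr Lrot35 (Lpr_ff (K49.f675189 IH) (Lpr_bf (f822162 IH) (Lpr_ff (f831642 IH) (Lpn v26009))))
def v19753 : LQ := Led Lsl_et (LP (LK LD1_c6 LD2_c46 LD3_c19))
theorem f781948 : Led Lsl_et (LP (LK LD1_c6 LD2_c46 LD3_c19)) = v19753 :=
  Lrfl
theorem f675100 : Led Lsl_ft (LP (LK LD1_c4 LD2_c48 LD3_c21)) = (LP (LK LD1_c9 LD2_c29 LD3_c13)) :=
  Lgr Lrot48 (Lpr_ff (K58.f675083 IH) (Lpn (LP (LK LD1_c9 LD2_c29 LD3_c13))))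
def v13812 : LQ := Led Lsl_et (LP (LK LD1_c4 LD2_c48 LD3_c21))
theorem f705021 : Led Lsl_et (LP (LK LD1_c4 LD2_c48 LD3_c21)) = v13812 :=
  Lrfl
theorem f705023 : Led Lsl_ef (LP (LK LD1_c4 LD2_c48 LD3_c21)) = v13812 :=
  Lgr Lrot88 (Lpr_et (f705021 IH) (Lpn v13812))
theorem f781951 : Led Lsl_ff v13812 = v19753 :=
  Lgr Lrot72 (Lpe (f705023 IH) (Lpr_ft (f675100 IH) (Lpe (K60.f675106 IH) (Lpe (K60.f675187 IH) (Lpr_et (f781948 IH) (Lpn v19753))))))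
theorem f705022 : Led Lsl_cf K49.v4471 = v13812 :=
  Lgr Lrot39 (Lpe (f634070 IH) (Lpr_ct (K58.f416358 IH) (Lpr_et (f705021 IH) (Lpn v13812))))
theorem f781952 : Led Lsl_ct K48.v6400 = v19753 :=
  Lgr Lrot40 (Lpr_ff (K49.f675189 IH) (Lpr_cf (f705022 IH) (Lpr_ff (f781951 IH) (Lpn v19753))))
def v27142 : LQ := Led Lsl_dt K57.v7241
theorem f837943 : Led Lsl_dt K57.v7241 = v27142 :=
  Lrfl
def v25740 : LQ := Led Lsl_dt K57.v5803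
theorem f830225 : Led Lsl_dt K57.v5803 = v25740 :=
  Lrfl
theorem f830226 : Led Lsl_df K57.v5803 = v25740 :=
  Lgr Lrot38 (Lpr_dt (f830225 IH) (Lpn v25740))
theorem f837946 : Led Lsl_ff v25740 = v27142 :=
  Lgr Lrot19 (Lpe (f830226 IH) (Lpqs (K57.f761408 IH) (Lpr_ft (K57.f761377 IH) (Lpr_dt (f837943 IH) (Lpn v27142)))))
theorem f837948 : Led Lsl_ft v25740 = v27142 :=
  Lgr Lrot48 (Lpr_ff (f837946 IH) (Lpn v27142))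
def v18724 : LQ := Led Lsl_dt (LP (LK LD1_c6 LD2_c32 LD3_c26))
theorem f768199 : Led Lsl_dt (LP (LK LD1_c6 LD2_c32 LD3_c26)) = v18724 :=
  Lrfl
theorem f768200 : Led Lsl_df (LP (LK LD1_c6 LD2_c32 LD3_c26)) = v18724 :=
  Lgr Lrot38 (Lpr_dt (f768199 IH) (Lpn v18724))
theorem f830227 : Led Lsl_gf v18724 = v25740 :=
  Lgr Lrot143 (Lpe (f768200 IH) (Lpe (K66.f649513 IH) (Lpe (K48.f438903 IH) (Lpe (K66.f23742 IH) (Lpe (K66.f23629 IH) (Lpe (K57.f23628 IH) (Lpe (K57.f23643 IH) (Lpr_gt (K57.f649512 IH) (Lpr_dt (f830225 IH) (Lpn v25740))))))))))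
theorem f761406 : Led Lsl_at K57.v10545 = K57.v7241 :=
  Lgr Lrot100 (Lpr_af (K57.f761387 IH) (Lpn K57.v7241))
def v25743 : LQ := Led Lsl_dt K57.v5804
theorem f830237 : Led Lsl_dt K57.v5804 = v25743 :=
  Lrfl
theorem f830238 : Led Lsl_df K57.v5804 = v25743 :=
  Lgr Lrot38 (Lpr_dt (f830237 IH) (Lpn v25743))
theorem f837944 : Led Lsl_af v25743 = v27142 :=
  Lgr Lrot117 (Lpe (f830238 IH) (Lpq (K57.f760542 IH) (Lpr_at (f761406 IH) (Lpr_dt (f837943 IH) (Lpn v27142)))))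
theorem f837949 : Led Lsl_gt v18724 = v25743 :=
  Lgr Lrot46 (Lpr_gf (f830227 IH) (Lpr_ft (f837948 IH) (Lpe (f837944 IH) (Lpn v25743))))
def v25744 : LQ := Led Lsl_et K57.v5804
theorem f830239 : Led Lsl_et K57.v5804 = v25744 :=
  Lrfl
theorem f837950 : Led Lsl_gf v19753 = v25744 :=
  Lgr Lrot141 (Lpe (f781948 IH) (Lpr_dt (K60.f781945 IH) (Lpr_gt (K60.f782024 IH) (Lpe (K60.f767775 IH) (Lpr_et (K60.f147539 IH) (Lpq (K60.f782025 IH) (Lpe (K60.f768198 IH) (Lpr_dt (f768199 IH) (Lpr_gt (f837949 IH) (Lpe (f830237 IH) (Lpr_et (f830239 IH) (Lpn v25744))))))))))))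
theorem f830241 : Led Lsl_ef K57.v5804 = v25744 :=
  Lgr Lrot88 (Lpr_et (f830239 IH) (Lpn v25744))
theorem f680820 : Led Lsl_et K56.v3376 = v10547 :=
  Lrfl
theorem f830242 : Led Lsl_ct v10547 = v25744 :=
  Lgr Lrot15 (Lpe (f680820 IH) (Lpr_cf (K57.f680817 IH) (Lpqs (K57.f760542 IH) (Lpr_ef (f830241 IH) (Lpn v25744)))))
theorem f851311 : Led Lsl_gt v27086 = v10547 :=
  Lgr Lrot82 (Lpe (f837570 IH) (Lpr_ct (f769031 IH) (Lpr_gf (f831208 IH) (Lpe (f831209 IH) (Lpr_bt (f846520 IH) (Lpq (f851306 IH) (Lpe (f846508 IH) (Lpe (f831643 IH) (Lpr_ct (f781952 IH) (Lpr_gf (f837950 IH) (Lpe (f830242 IH) (Lpn v10547))))))))))))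
theorem f837567 : Led Lsl_cf K76.v13804 = v27086 :=
  Lgr Lrot39 (Lpe (f704998 IH) (Lpr_ct (K58.f704990 IH) (Lpq (K65.f774153 IH) (Lpr_et (f837564 IH) (Lpn v27086)))))
def v23994 : LQ := Led Lsl_et K58.v4393
theorem f821818 : Led Lsl_et K58.v4393 = v23994 :=
  Lrfl
theorem f821821 : Led Lsl_cf K60.v18729 = v23994 :=
  Lgr Lrot39 (Lpe (K60.f768225 IH) (Lpqs (K58.f769999 IH) (Lpe (K58.f703390 IH) (Lpr_et (f821818 IH) (Lpn v23994)))))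
def v7854 : LQ := Led Lsl_gf K58.v1334
theorem f668734 : Led Lsl_gf K58.v1334 = v7854 :=
  Lrfl
theorem f770969 : K58.v355 = v7854 :=
  Lefun (Lecon (Lfl_gt (K58.f535898 IH)) (K58.f770964 IH)) (f668734 IH)
theorem f677037 : Led Lsl_ef K60.v2834 = K60.v9643 :=
  Lgr Lrot88 (Lpr_et (K60.f677034 IH) (Lpn K60.v9643))
theorem f677039 : Led Lsl_ct K60.v2835 = K60.v9643 :=
  Lgr Lrot15 (Lpe (K60.f535889 IH) (Lpr_cf (K60.f535883 IH) (Lpr_ef (f677037 IH) (Lpn K60.v9643))))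
theorem f646542 : Led Lsl_ct K56.v2624 = K58.v5209 :=
  Lgr Lrot40 (Lpe (K58.f527925 IH) (Lpe (K58.f459560 IH) (Lpr_ff (K66.f646539 IH) (Lpn K58.v5209))))
theorem f527927 : Led Lsl_gt K58.v830 = K56.v2624 :=
  Lgr Lrot46 (Lpe (K58.f459618 IH) (Lpr_ft (K58.f459624 IH) (Lpr_at (K58.f527924 IH) (Lpn K56.v2624))))
theorem f625657 : Led Lsl_bf K58.v830 = K59.v3437 :=
  Lgr Lrot24 (Lpr_bt (K59.f625656 IH) (Lpn K59.v3437))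
def v10698 : LQ := Led Lsl_ct K59.v3437
theorem f681438 : Led Lsl_ct K59.v3437 = v10698 :=
  Lrfl
theorem f775418 : Led Lsl_gf v10698 = K60.v9643 :=
  Lgr Lrot126 (Lpe (f681438 IH) (Lpe (f625657 IH) (Lpr_gt (f527927 IH) (Lpr_ct (f646542 IH) (Lpe (K66.f646544 IH) (Lpq (K56.f675674 IH) (Lpe (K56.f624105 IH) (Lpr_bt (K59.f624103 IH) (Lpq (K59.f768810 IH) (Lpqs (K58.f770977 IH) (Lpe (K58.f535899 IH) (Lpr_bf (K60.f535890 IH) (Lpr_ct (f677039 IH) (Lpn K60.v9643))))))))))))))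
def v10982 : LQ := Led Lsl_ct K58.v3570
theorem f682733 : Led Lsl_ct K58.v3570 = v10982 :=
  Lrfl
theorem f769145 : v10982 = v10698 :=
  Lefun (Lecon (f682733 IH) ((K58.f769102 IH).symm.trans (K59.f769135 IH))) (f681438 IH)
theorem f769104 : K58.v11027 = v10982 :=
  Lefun (Lecon (K58.f682874 IH) (K58.f769102 IH)) (f682733 IH)
theorem f682876 : Led Lsl_cf K58.v3584 = K58.v11027 :=
  Lgr Lrot11 (Lpr_ct (K58.f682874 IH) (Lpn K58.v11027))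
theorem f682879 : Led Lsl_at K58.v3586 = K58.v11027 :=
  Lgr Lrot107 (Lpe (K58.f626357 IH) (Lpr_af (K58.f626352 IH) (Lpr_cf (f682876 IH) (Lpn K58.v11027))))
theorem f682922 : Led Lsl_ff K58.v3586 = K58.v11041 :=
  Lgr Lrot3 (Lpr_ft (K58.f682919 IH) (Lpn K58.v11041))
theorem f775419 : Led Lsl_gt K58.v11041 = K60.v9643 :=
  Lgr Lrot5 (Lpe (f682922 IH) (Lpr_at (f682879 IH) (Lpqs (f769104 IH) (Lpqs (f769145 IH) (Lpr_gf (f775418 IH) (Lpn K60.v9643))))))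
theorem f682925 : Led Lsl_ct K58.v3589 = K58.v11041 :=
  Lgr Lrot40 (Lpe (K58.f626363 IH) (Lpr_cf (K58.f626358 IH) (Lpr_ff (f682922 IH) (Lpn K58.v11041))))
def v10986 : LQ := Led Lsl_ct K58.v3571
theorem f682745 : Led Lsl_ct K58.v3571 = v10986 :=
  Lrfl
theorem f769099 : K58.v11041 = v10986 :=
  Lefun (Lecon (f682925 IH) (K58.f769094 IH)) (f682745 IH)
theorem f674952 : Led Lsl_bt K58.v3571 = K66.v9265 :=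
  Lgr Lrot127 (Lpr_bf (K66.f674951 IH) (Lpn K66.v9265))
theorem f674407 : Led Lsl_bf K58.v4393 = K58.v9215 :=
  Lgr Lrot61 (Lpe (K58.f633113 IH) (Lpr_bt (K65.f527239 IH) (Lpr_ft (K58.f674405 IH) (Lpn K58.v9215))))
theorem f455052 : Led Lsl_ft (LP (LK LD1_c1 LD2_c47 LD3_c59)) = K49.v587 :=
  Lgr Lrot48 (Lpr_ff (K60.f455047 IH) (Lpn K49.v587))
theorem f679229 : Led Lsl_ef K58.v9215 = K60.v10203 :=
  Lgr Lrot21 (Lpe (K58.f674408 IH) (Lpe (K60.f527237 IH) (Lpr_ft (f455052 IH) (Lpr_et (K60.f624695 IH) (Lpr_ft (K60.f679227 IH) (Lpn K60.v10203))))))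
theorem f821820 : Led Lsl_bf K60.v10203 = v23994 :=
  Lgr Lrot96 (Lpe (f679229 IH) (Lpe (f674407 IH) (Lpr_et (f821818 IH) (Lpn v23994))))
theorem f679230 : Led Lsl_ff K60.v3228 = K60.v10203 :=
  Lgr Lrot3 (Lpr_ft (K60.f679227 IH) (Lpn K60.v10203))
theorem f436734 : Led Lsl_ft (LP (LK LD1_c1 LD2_c46 LD3_c55)) = (LP (LK LD1_c1 LD2_c47 LD3_c60)) :=
  Lgr Lrot4 (Lpe (K4.f107289 IH) (Lpr_ff (K58.f436730 IH) (Lpr_cf (K7.f147566 IH) (Lpn (LP (LK LD1_c1 LD2_c47 LD3_c60))))))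
theorem f455051 : Led Lsl_at (LP (LK LD1_c1 LD2_c47 LD3_c60)) = K49.v587 :=
  Lgr Lrot26 (Lpe (f436734 IH) (Lpr_gt (K5.f128325 IH) (Lpr_gt (K49.f455049 IH) (Lpn K49.v587))))
theorem f624696 : Led Lsl_af K60.v2538 = K60.v3228 :=
  Lgr Lrot50 (Lpe (K60.f527242 IH) (Lpr_at (f455051 IH) (Lpr_et (K60.f624695 IH) (Lpn K60.v3228))))
def v9217 : LQ := Led Lsl_gf K60.v2538
theorem f674416 : Led Lsl_gf K60.v2538 = v9217 :=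
  Lrfl
theorem f679234 : Led Lsl_gf v9217 = K60.v10203 :=
  Lgr Lrot47 (Lpe (f674416 IH) (Lpr_af (f624696 IH) (Lpr_ff (f679230 IH) (Lpn K60.v10203))))
theorem f821837 : K66.v9265 = v9217 :=
  (Llr Lrot92 (Lpe (f674952 IH) (Lpr_ct (f682745 IH) (Lpq (f769099 IH) (Lpr_gt (f775419 IH) (Lpe (f677039 IH) (Lpe (K60.f535890 IH) (Lpqs (f770969 IH) (Lpe (f668734 IH) (Lpr_ct (K60.f668744 IH) (Lpr_gt (K60.f771204 IH) (Lpr_cf (f821821 IH) (Lpe (f821820 IH) (Lpe (f679234 IH) (Lpn v9217))))))))))))))).symm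
def v29667 : LQ := Led Lsl_dt v9217
theorem f850243 : Led Lsl_dt v9217 = v29667 :=
  Lrfl
theorem f850246 : Led Lsl_df v9217 = v29667 :=
  Lgr Lrot38 (Lpr_dt (f850243 IH) (Lpn v29667))
theorem f859940 : Led Lsl_gf v29667 = v31719 :=
  Lgr Lrot143 (Lpe (f850246 IH) (Lpq (f821837 IH) (Lpe (K66.f674949 IH) (Lpr_df (f674954 IH) (Lpr_gf (f850664 IH) (Lpe (f850666 IH) (Lpe (f850344 IH) (Lpr_cf (f837567 IH) (Lpr_gt (f851311 IH) (Lpr_dt (f859937 IH) (Lpn v31719)))))))))))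
def v29668 : LQ := Led Lsl_et v9217
theorem f850254 : Led Lsl_et v9217 = v29668 :=
  Lrfl
theorem f850258 : Led Lsl_ef v9217 = v29668 :=
  Lgr Lrot88 (Lpr_et (f850254 IH) (Lpn v29668))
def v26200 : LQ := Led Lsl_ct K76.v6394
theorem f832506 : Led Lsl_ct K76.v6394 = v26200 :=
  Lrfl
def v6396 : LQ := Led Lsl_dt (LP (LK LD1_c3 LD2_c21 LD3_c17))
theorem f653205 : Led Lsl_dt (LP (LK LD1_c3 LD2_c21 LD3_c17)) = v6396 :=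
  Lrfl
theorem f148450 : Led Lsl_dt (LP (LK LD1_c3 LD2_c14 LD3_c6)) = (LP (LK LD1_c6 LD2_c31 LD3_c51)) :=
  Lre_d IH (LK LD1_c3 LD2_c14 LD3_c6) (LK LD1_c6 LD2_c31 LD3_c51) Lrfl Lrfl
theorem f653208 : Led Lsl_gf (LP (LK LD1_c6 LD2_c31 LD3_c51)) = v6396 :=
  Lgr Lrot145 (Lpe (f148450 IH) (Lpr_et (K48.f148449 IH) (Lpe (K7.f148435 IH) (Lpr_dt (K7.f148438 IH) (Lpr_gt (K8.f159525 IH) (Lpr_df (K6.f144139 IH) (Lpr_et (K35.f129243 IH) (Lpq (K46.f527842 IH) (Lpe (K46.f509489 IH) (Lpe (K46.f454745 IH) (Lpr_dt (f653205 IH) (Lpn v6396))))))))))))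
theorem f209018 : Led Lsl_dt (LP (LK LD1_c6 LD2_c31 LD3_c51)) = (LP (LK LD1_c3 LD2_c14 LD3_c6)) :=
  Lre_d IH (LK LD1_c6 LD2_c31 LD3_c51) (LK LD1_c3 LD2_c14 LD3_c6) Lrfl Lrfl
theorem f832508 : Led Lsl_gf K49.v9201 = v26200 :=
  Lgr Lrot148 (Lpe (K49.f674237 IH) (Lpe (K49.f527257 IH) (Lpr_dt (K34.f209014 IH) (Lpe (K48.f209089 IH) (Lpe (f209018 IH) (Lpr_gf (f653208 IH) (Lpe (f653205 IH) (Lpr_gf (K76.f653195 IH) (Lpr_ct (f832506 IH) (Lpn v26200))))))))))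
theorem f832509 : Led Lsl_gt K50.v9222 = v26200 :=
  Lgr Lrot5 (Lpe (K50.f674735 IH) (Lpe (K60.f674546 IH) (Lpr_gf (f832508 IH) (Lpn v26200))))
theorem f850262 : Led Lsl_df v26200 = v29668 :=
  Lgr Lrot132 (Lpe (f832509 IH) (Lpe (K50.f674732 IH) (Lpe (K49.f527248 IH) (Lpe (K6.f26228 IH) (Lpr_dt (K4.f26216 IH) (Lpe (K3.f26250 IH) (Lpe (K7.f107217 IH) (Lpr_et (K60.f527241 IH) (Lpr_gf (f674416 IH) (Lpr_ef (f850258 IH) (Lpn v29668)))))))))))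
theorem f832507 : Led Lsl_cf K76.v6394 = v26200 :=
  Lgr Lrot11 (Lpr_ct (f832506 IH) (Lpn v26200))
theorem f827156 : Led Lsl_df K76.v6394 = K76.v25125 :=
  Lgr Lrot38 (Lpr_dt (K76.f827155 IH) (Lpn K76.v25125))
def v25123 : LQ := Led Lsl_dt K48.v5262
theorem f827140 : Led Lsl_dt K48.v5262 = v25123 :=
  Lrfl
theorem f827141 : Led Lsl_af K76.v5265 = v25123 :=
  Lgr Lrot117 (Lpe (K76.f646844 IH) (Lpr_at (K48.f646835 IH) (Lpr_dt (f827140 IH) (Lpn v25123))))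
theorem f646833 : Led Lsl_af (LP (LK LD1_c3 LD2_c2 LD3_c45)) = K48.v5262 :=
  Lgr Lrot68 (Lpr_ct (K76.f502937 IH) (Lpr_at (K48.f453012 IH) (Lpr_ct (K48.f646832 IH) (Lpn K48.v5262))))
theorem f662715 : Led Lsl_ff K48.v5262 = K48.v7261 :=
  Lgr Lrot52 (Lpe (f646833 IH) (Lpr_gf (K46.f646842 IH) (Lpqs (K46.f649400 IH) (Lpr_gf (K48.f662713 IH) (Lpn K48.v7261)))))
def v21847 : LQ := Led Lsl_dt (LP (LK LD1_c7 LD2_c27 LD3_c17))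
theorem f799615 : Led Lsl_dt (LP (LK LD1_c7 LD2_c27 LD3_c17)) = v21847 :=
  Lrfl
theorem f799617 : Led Lsl_df (LP (LK LD1_c7 LD2_c27 LD3_c17)) = v21847 :=
  Lgr Lrot38 (Lpr_dt (f799615 IH) (Lpn v21847))
theorem f827143 : Led Lsl_ff v21847 = v25123 :=
  Lgr Lrot19 (Lpe (f799617 IH) (Lpq (K51.f662802 IH) (Lpe (f662715 IH) (Lpr_dt (f827140 IH) (Lpn v25123)))))
theorem f827145 : Led Lsl_ft v21847 = v25123 :=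
  Lgr Lrot48 (Lpr_ff (f827143 IH) (Lpn v25123))
theorem f827154 : Led Lsl_gt v21847 = K76.v25125 :=
  Lgr Lrot5 (Lpr_ft (f827145 IH) (Lpe (f827141 IH) (Lpr_gf (K76.f827153 IH) (Lpn K76.v25125))))
def v25454 : LQ := Led Lsl_dt K48.v5566
theorem f828755 : Led Lsl_dt K48.v5566 = v25454 :=
  Lrfl
theorem f850264 : Led Lsl_gt v25454 = v29668 :=
  Lgr Lrot49 (Lpe (f828755 IH) (Lpe (K48.f648282 IH) (Lpr_cf (K46.f649407 IH) (Lpr_gt (K51.f662714 IH) (Lpqs (K51.f662802 IH) (Lpr_dt (f799615 IH) (Lpr_gt (f827154 IH) (Lpe (f827156 IH) (Lpr_cf (f832507 IH) (Lpr_df (f850262 IH) (Lpn v29668)))))))))))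
theorem f663147 : Led Lsl_ct (LP (LK LD1_c7 LD2_c27 LD3_c13)) = (LP (LK LD1_c6 LD2_c52 LD3_c44)) :=
  Lgr Lrot59 (Lpr_cf (K50.f663144 IH) (Lpn (LP (LK LD1_c6 LD2_c52 LD3_c44))))
theorem f759299 : Led Lsl_ft (LP (LK LD1_c6 LD2_c52 LD3_c44)) = K48.v5566 :=
  Lgr Lrot4 (Lpe (f663147 IH) (Lpr_ff (K57.f759297 IH) (Lpe (K48.f663116 IH) (Lpn K48.v5566))))
def v20242 : LQ := Led Lsl_dt (LP (LK LD1_c6 LD2_c52 LD3_c44))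
theorem f785852 : Led Lsl_dt (LP (LK LD1_c6 LD2_c52 LD3_c44)) = v20242 :=
  Lrfl
theorem f785854 : Led Lsl_df (LP (LK LD1_c6 LD2_c52 LD3_c44)) = v20242 :=
  Lgr Lrot38 (Lpr_dt (f785852 IH) (Lpn v20242))
theorem f828759 : Led Lsl_ff v20242 = v25454 :=
  Lgr Lrot19 (Lpe (f785854 IH) (Lpr_ft (f759299 IH) (Lpr_dt (f828755 IH) (Lpn v25454))))
def v25453 : LQ := Led Lsl_dt K51.v5565
theorem f828741 : Led Lsl_dt K51.v5565 = v25453 :=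
  Lrfl
theorem f828744 : Led Lsl_df K51.v5565 = v25453 :=
  Lgr Lrot38 (Lpr_dt (f828741 IH) (Lpn v25453))
theorem f828754 : Led Lsl_at v20242 = v25453 :=
  Lgr Lrot51 (Lpe (f785852 IH) (Lpr_af (K57.f759304 IH) (Lpr_df (f828744 IH) (Lpn v25453))))
theorem f850265 : Led Lsl_gf v25453 = v29668 :=
  Lgr Lrot76 (Lpe (f828754 IH) (Lpr_ff (f828759 IH) (Lpr_gt (f850264 IH) (Lpn v29668))))
theorem f828746 : Led Lsl_ff K66.v18423 = v25453 :=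
  Lgr Lrot19 (Lpe (K66.f766909 IH) (Lpqs (K49.f674240 IH) (Lpr_ft (K57.f759310 IH) (Lpr_dt (f828741 IH) (Lpn v25453)))))
def v18485 : LQ := Led Lsl_bt (LP (LK LD1_c6 LD2_c30 LD3_c0))
theorem f767151 : Led Lsl_bt (LP (LK LD1_c6 LD2_c30 LD3_c0)) = v18485 :=
  Lrfl
theorem f775707 : Led Lsl_ff K65.v17387 = v18485 :=
  Lgr Lrot25 (Lpe (K65.f759559 IH) (Lpqs (K58.f770043 IH) (Lpe (K58.f767138 IH) (Lpr_bt (f767151 IH) (Lpn v18485)))))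
theorem f775710 : Led Lsl_ft K65.v17387 = v18485 :=
  Lgr Lrot48 (Lpr_ff (f775707 IH) (Lpn v18485))
theorem f828748 : Led Lsl_et v18485 = v25453 :=
  Lgr Lrot69 (Lpe (f775710 IH) (Lpe (K65.f759558 IH) (Lpr_ff (K66.f759137 IH) (Lpq (K66.f759151 IH) (Lpr_ef (K66.f766911 IH) (Lpr_ff (f828746 IH) (Lpn v25453)))))))
def v21470 : LQ := Led Lsl_et (LP (LK LD1_c7 LD2_c20 LD3_c4))
theorem f797395 : Led Lsl_et (LP (LK LD1_c7 LD2_c20 LD3_c4)) = v21470 :=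
  Lrfl
theorem f797397 : Led Lsl_ef (LP (LK LD1_c7 LD2_c20 LD3_c4)) = v21470 :=
  Lgr Lrot88 (Lpr_et (f797395 IH) (Lpn v21470))
theorem f797398 : Led Lsl_bt K58.v17677 = v21470 :=
  Lgr Lrot119 (Lpe (K58.f761696 IH) (Lpe (K58.f761395 IH) (Lpr_ef (f797397 IH) (Lpn v21470))))
theorem f797400 : Led Lsl_ff K65.v18165 = v21470 :=
  Lgr Lrot25 (Lpe (K65.f765355 IH) (Lpqs (K58.f769861 IH) (Lpr_ft (K58.f766839 IH) (Lpr_bt (f797398 IH) (Lpn v21470)))))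
theorem f775716 : Led Lsl_dt K65.v18165 = K65.v17387 :=
  Lgr Lrot42 (Lpr_df (K65.f775715 IH) (Lpn K65.v17387))
theorem f797401 : Led Lsl_dt v18485 = v21470 :=
  Lgr Lrot60 (Lpe (f775710 IH) (Lpe (f775716 IH) (Lpr_ff (f797400 IH) (Lpn v21470))))
theorem f859942 : Led Lsl_gf v27085 = v21470 :=
  Lgr Lrot145 (Lpe (f837556 IH) (Lpr_et (f837564 IH) (Lpr_gt (f851311 IH) (Lpr_dt (f859937 IH) (Lpe (f859940 IH) (Lpe (f850243 IH) (Lpr_et (f850254 IH) (Lpe (f850265 IH) (Lpe (f828748 IH) (Lpr_dt (f797401 IH) (Lpn v21470)))))))))))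
theorem f767152 : Led Lsl_bf (LP (LK LD1_c6 LD2_c30 LD3_c0)) = v18485 :=
  Lgr Lrot24 (Lpr_bt (f767151 IH) (Lpn v18485))
theorem f797399 : Led Lsl_df v18485 = v21470 :=
  Lgr Lrot12 (Lpe (f767152 IH) (Lpqs (K58.f770053 IH) (Lpr_dt (K58.f766836 IH) (Lpr_bt (f797398 IH) (Lpn v21470)))))
theorem f797403 : Led Lsl_gf v18485 = K65.v18054 :=
  Lgr Lrot134 (Lpr_df (f797399 IH) (Lpe (f797397 IH) (Lpr_gt (K57.f12471 IH) (Lpe (K66.f12542 IH) (Lpr_dt (K7.f12550 IH) (Lpr_gt (K4.f12436 IH) (Lpe (K7.f114176 IH) (Lpr_et (K59.f661566 IH) (Lpq (K59.f769826 IH) (Lpe (K59.f764814 IH) (Lpr_dt (K65.f764817 IH) (Lpn K65.v18054))))))))))))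
theorem f981107 : Led Lsl_ct K65.v18054 = K76.v51264 :=
  Lgr Lrot8 (Lpe (f797403 IH) (Lpr_dt (f797401 IH) (Lpe (f859942 IH) (Lpe (f837559 IH) (Lpqs (K65.f774153 IH) (Lpe (K58.f704990 IH) (Lpe (f704931 IH) (Lpr_gf (K76.f912082 IH) (Lpe (f912084 IH) (Lpr_gf (K76.f981106 IH) (Lpn K76.v51264)))))))))))
def v9184 : LQ := Led Lsl_gf K58.v2507
theorem f673935 : Led Lsl_gf K58.v2507 = v9184 :=
  Lrfl
theorem f673936 : Led Lsl_gt K58.v7205 = v9184 :=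
  Lgr Lrot5 (Lpe (K58.f662270 IH) (Lpr_at (K58.f523679 IH) (Lpr_gf (f673935 IH) (Lpn v9184))))
theorem f769822 : v9184 = K58.v6766 :=
  Lefun (Lecon (f673936 IH) ((K58.f769820 IH).trans (K58.f769215 IH))) (Lfl_gf (K58.f769214 IH))
theorem f143193 : Led Lsl_gt (LP (LK LD1_c9 LD2_c29 LD3_c12)) = (LP (LK LD1_c17 LD2_c29 LD3_c52)) :=
  Lre_g IH (LK LD1_c9 LD2_c29 LD3_c12) (LK LD1_c17 LD2_c29 LD3_c52) Lrfl Lrfl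
theorem f981108 : Led Lsl_dt (LP (LK LD1_c17 LD2_c29 LD3_c52)) = K76.v51264 :=
  Lgr Lrot113 (Lpe (f143193 IH) (Lpe (K57.f143192 IH) (Lpe (K58.f148509 IH) (Lpq (K58.f769191 IH) (Lpr_ct (K60.f769186 IH) (Lpq (f769822 IH) (Lpe (f673935 IH) (Lpr_dt (K59.f661573 IH) (Lpq (K59.f769826 IH) (Lpe (K59.f764814 IH) (Lpr_dt (K65.f764817 IH) (Lpr_ct (f981107 IH) (Lpn K76.v51264)))))))))))))
theorem f832153 : Led Lsl_ft (LP (LK LD1_c12 LD2_c32 LD3_c4)) = (LP (LK LD1_c9 LD2_c29 LD3_c22)) :=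
  Lgr Lrot54 (Lpe (K57.f437801 IH) (Lpe (K65.f649829 IH) (Lpr_df (K65.f832147 IH) (Lpn (LP (LK LD1_c9 LD2_c29 LD3_c22))))))
theorem f832163 : Led Lsl_af (LP (LK LD1_c17 LD2_c29 LD3_c52)) = (LP (LK LD1_c9 LD2_c29 LD3_c22)) :=
  Lgr Lrot31 (Lpe (f143193 IH) (Lpe (K57.f437802 IH) (Lpr_ft (f832153 IH) (Lpn (LP (LK LD1_c9 LD2_c29 LD3_c22))))))
theorem f832167 : Led Lsl_ft (LP (LK LD1_c17 LD2_c29 LD3_c52)) = (LP (LK LD1_c9 LD2_c29 LD3_c23)) :=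
  Lgr Lrot101 (Lpr_af (f832163 IH) (Lpe (f832153 IH) (Lpr_af (K59.f773098 IH) (Lpn (LP (LK LD1_c9 LD2_c29 LD3_c23))))))
theorem f148490 : Led Lsl_at (LP (LK LD1_c4 LD2_c48 LD3_c19)) = (LP (LK LD1_c9 LD2_c29 LD3_c12)) :=
  Lre_a IH (LK LD1_c4 LD2_c48 LD3_c19) (LK LD1_c9 LD2_c29 LD3_c12) Lrfl Lrfl
theorem f437394 : Led Lsl_ft (LP (LK LD1_c9 LD2_c29 LD3_c25)) = (LP (LK LD1_c4 LD2_c48 LD3_c19)) :=
  Lre_f IH (LK LD1_c9 LD2_c29 LD3_c25) (LK LD1_c4 LD2_c48 LD3_c19) Lrfl Lrfl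
theorem f437804 : Led Lsl_gf (LP (LK LD1_c12 LD2_c32 LD3_c4)) = (LP (LK LD1_c9 LD2_c29 LD3_c25)) :=
  Lgr Lrot47 (Lpr_gt (K57.f437802 IH) (Lpe (f148490 IH) (Lpe (f437394 IH) (Lpn (LP (LK LD1_c9 LD2_c29 LD3_c25))))))
theorem f832171 : Led Lsl_gt (LP (LK LD1_c17 LD2_c29 LD3_c52)) = (LP (LK LD1_c9 LD2_c29 LD3_c25)) :=
  Lgr Lrot5 (Lpr_ft (f832167 IH) (Lpe (K59.f773098 IH) (Lpr_gf (f437804 IH) (Lpn (LP (LK LD1_c9 LD2_c29 LD3_c25))))))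
theorem f432209 : Led Lsl_ct (LP (LK LD1_c9 LD2_c29 LD3_c25)) = (LP (LK LD1_c17 LD2_c30 LD3_c15)) :=
  Lre_c IH (LK LD1_c9 LD2_c29 LD3_c25) (LK LD1_c17 LD2_c30 LD3_c15) Lrfl Lrfl
theorem f756345 : Led Lsl_cf (LP (LK LD1_c6 LD2_c12 LD3_c24)) = K57.v17146 :=
  Lgr Lrot11 (Lpr_ct (K57.f756344 IH) (Lpn K57.v17146))
theorem f649896 : Led Lsl_ct (LP (LK LD1_c21 LD2_c38 LD3_c21)) = (LP (LK LD1_c12 LD2_c32 LD3_c21)) :=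
  Lre_c IH (LK LD1_c21 LD2_c38 LD3_c21) (LK LD1_c12 LD2_c32 LD3_c21) Lrfl Lrfl
theorem f981110 : Led Lsl_gt (LP (LK LD1_c17 LD2_c30 LD3_c15)) = (LP (LK LD1_c21 LD2_c38 LD3_c21)) :=
  Lgr Lrot187 (Lpe (f432209 IH) (Lpe (f832171 IH) (Lpr_dt (f981108 IH) (Lpe (K76.f981106 IH) (Lpe (f756345 IH) (Lpq (K57.f663884 IH) (Lpe (K57.f649895 IH) (Lpr_ct (K65.f437792 IH) (Lpr_dt (K58.f649852 IH) (Lpe (f649896 IH) (Lpn (LP (LK LD1_c21 LD2_c38 LD3_c21)))))))))))))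
theorem f981111 : Led Lsl_gt (LP (LK LD1_c17 LD2_c30 LD3_c15)) = (LP (LK LD1_c21 LD2_c38 LD3_c21)) :=
  Leop (Lpe (f981110 IH) (Lpn (LP (LK LD1_c17 LD2_c30 LD3_c15))))
theorem seed_3071 : LEOK LG_g (LK LD1_c17 LD2_c30 LD3_c15) :=
  Leoe_g (LK LD1_c17 LD2_c30 LD3_c15) (f981111 IH)
def v51306 : LQ := Led Lsl_at (LP (LK LD1_c12 LD2_c4 LD3_c40))
theorem f981354 : Led Lsl_at (LP (LK LD1_c12 LD2_c4 LD3_c40)) = v51306 :=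
  Lrfl
theorem f435730 : Led Lsl_bt (LP (LK LD1_c12 LD2_c17 LD3_c13)) = (LP (LK LD1_c6 LD2_c21 LD3_c45)) :=
  Lre_b IH (LK LD1_c12 LD2_c17 LD3_c13) (LK LD1_c6 LD2_c21 LD3_c45) Lrfl Lrfl
theorem f24650 : Led Lsl_bt (LP (LK LD1_c6 LD2_c12 LD3_c45)) = (LP (LK LD1_c12 LD2_c4 LD3_c40)) :=
  Lre_b IH (LK LD1_c6 LD2_c12 LD3_c45) (LK LD1_c12 LD2_c4 LD3_c40) Lrfl Lrfl
theorem f504219 : Led Lsl_ff (LP (LK LD1_c12 LD2_c17 LD3_c13)) = (LP (LK LD1_c12 LD2_c4 LD3_c40)) :=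
  Lgr Lrot25 (Lpr_bt (f435730 IH) (Lpr_ft (K35.f503543 IH) (Lpr_bt (f24650 IH) (Lpn (LP (LK LD1_c12 LD2_c4 LD3_c40))))))
theorem f504363 : Led Lsl_ft (LP (LK LD1_c12 LD2_c17 LD3_c13)) = (LP (LK LD1_c12 LD2_c4 LD3_c40)) :=
  Lgr Lrot48 (Lpr_ff (f504219 IH) (Lpn (LP (LK LD1_c12 LD2_c4 LD3_c40))))
theorem f503603 : Led Lsl_at (LP (LK LD1_c21 LD2_c22 LD3_c36)) = (LP (LK LD1_c12 LD2_c17 LD3_c13)) :=
  Lre_a IH (LK LD1_c21 LD2_c22 LD3_c36) (LK LD1_c12 LD2_c17 LD3_c13) Lrfl Lrfl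
theorem f981357 : Led Lsl_ff (LP (LK LD1_c21 LD2_c22 LD3_c36)) = v51306 :=
  Lgr Lrot30 (Lpr_at (f503603 IH) (Lpr_ft (f504363 IH) (Lpr_at (f981354 IH) (Lpn v51306))))
theorem f981360 : Led Lsl_ft (LP (LK LD1_c21 LD2_c22 LD3_c36)) = v51306 :=
  Lgr Lrot48 (Lpr_ff (f981357 IH) (Lpn v51306))
theorem f981355 : Led Lsl_af (LP (LK LD1_c12 LD2_c4 LD3_c40)) = v51306 :=
  Lgr Lrot0 (Lpr_at (f981354 IH) (Lpn v51306))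
theorem f444164 : Led Lsl_gt (LP (LK LD1_c21 LD2_c9 LD3_c60)) = (LP (LK LD1_c12 LD2_c4 LD3_c40)) :=
  Lre_g IH (LK LD1_c21 LD2_c9 LD3_c60) (LK LD1_c12 LD2_c4 LD3_c40) Lrfl Lrfl
theorem f981362 : Led Lsl_gt (LP (LK LD1_c21 LD2_c22 LD3_c36)) = (LP (LK LD1_c21 LD2_c9 LD3_c60)) :=
  Lgr Lrot5 (Lpr_ft (f981360 IH) (Lpe (f981355 IH) (Lpe (f444164 IH) (Lpn (LP (LK LD1_c21 LD2_c9 LD3_c60))))))
theorem f981363 : Led Lsl_gt (LP (LK LD1_c21 LD2_c22 LD3_c36)) = (LP (LK LD1_c21 LD2_c9 LD3_c60)) :=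
  Leop (Lpe (f981362 IH) (Lpn (LP (LK LD1_c21 LD2_c22 LD3_c36))))
theorem seed_3072 : LEOK LG_g (LK LD1_c21 LD2_c22 LD3_c36) :=
  Leoe_g (LK LD1_c21 LD2_c22 LD3_c36) (f981363 IH)
def v51370 : LQ := Led Lsl_ct (LP (LK LD1_c12 LD2_c5 LD3_c27))
theorem f981618 : Led Lsl_ct (LP (LK LD1_c12 LD2_c5 LD3_c27)) = v51370 :=
  Lrfl
theorem f202291 : Led Lsl_dt (LP (LK LD1_c9 LD2_c8 LD3_c61)) = (LP (LK LD1_c17 LD2_c1 LD3_c57)) :=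
  Lre_d IH (LK LD1_c9 LD2_c8 LD3_c61) (LK LD1_c17 LD2_c1 LD3_c57) Lrfl Lrfl
theorem f595975 : Led Lsl_ft (LP (LK LD1_c17 LD2_c1 LD3_c57)) = (LP (LK LD1_c26 LD2_c55 LD3_c52)) :=
  Lgr Lrot54 (Lpe (f202291 IH) (Lpr_ff (K46.f595969 IH) (Lpe (K42.f556384 IH) (Lpn (LP (LK LD1_c26 LD2_c55 LD3_c52))))))
theorem f595952 : Led Lsl_af (LP (LK LD1_c17 LD2_c1 LD3_c53)) = (LP (LK LD1_c26 LD2_c55 LD3_c52)) :=
  Lgr Lrot0 (Lpr_at (K46.f595950 IH) (Lpn (LP (LK LD1_c26 LD2_c55 LD3_c52))))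
theorem f582083 : Led Lsl_gt (LP (LK LD1_c26 LD2_c57 LD3_c1)) = (LP (LK LD1_c17 LD2_c1 LD3_c53)) :=
  Lre_g IH (LK LD1_c26 LD2_c57 LD3_c1) (LK LD1_c17 LD2_c1 LD3_c53) Lrfl Lrfl
theorem f599582 : Led Lsl_gt (LP (LK LD1_c17 LD2_c1 LD3_c57)) = (LP (LK LD1_c26 LD2_c57 LD3_c1)) :=
  Lgr Lrot5 (Lpr_ft (f595975 IH) (Lpe (f595952 IH) (Lpe (f582083 IH) (Lpn (LP (LK LD1_c26 LD2_c57 LD3_c1))))))
theorem f981624 : Led Lsl_dt (LP (LK LD1_c26 LD2_c57 LD3_c1)) = v51370 :=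
  Lgr Lrot113 (Lpe (f599582 IH) (Lpe (f202291 IH) (Lpe (K42.f569097 IH) (Lpr_ct (K42.f546841 IH) (Lpr_gt (K38.f546839 IH) (Lpr_dt (K38.f450371 IH) (Lpe (K43.f575869 IH) (Lpe (K43.f539783 IH) (Lpr_ct (f981618 IH) (Lpn v51370))))))))))
theorem f582008 : Led Lsl_at (LP (LK LD1_c6 LD2_c13 LD3_c25)) = (LP (LK LD1_c12 LD2_c5 LD3_c27)) :=
  Lgr Lrot51 (Lpr_df (K39.f548964 IH) (Lpr_af (K44.f582000 IH) (Lpr_df (K43.f575929 IH) (Lpn (LP (LK LD1_c12 LD2_c5 LD3_c27))))))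
theorem f981619 : Led Lsl_af (LP (LK LD1_c12 LD2_c5 LD3_c38)) = v51370 :=
  Lgr Lrot68 (Lpr_ct (K42.f539920 IH) (Lpr_at (f582008 IH) (Lpr_ct (f981618 IH) (Lpn v51370))))
theorem f981627 : Led Lsl_af (LP (LK LD1_c26 LD2_c57 LD3_c1)) = (LP (LK LD1_c21 LD2_c11 LD3_c22)) :=
  Lgr Lrot117 (Lpr_dt (f981624 IH) (Lpe (f981619 IH) (Lpr_dt (K44.f548966 IH) (Lpn (LP (LK LD1_c21 LD2_c11 LD3_c22))))))
theorem f981628 : Led Lsl_at (LP (LK LD1_c21 LD2_c11 LD3_c22)) = (LP (LK LD1_c26 LD2_c57 LD3_c1)) :=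
  Leop (Lpr_af (f981627 IH) (Lpn (LP (LK LD1_c21 LD2_c11 LD3_c22))))
theorem seed_3073 : LEOK LG_a (LK LD1_c21 LD2_c11 LD3_c22) :=
  Leoe_a (LK LD1_c21 LD2_c11 LD3_c22) (f981628 IH)
def v51379 : LQ := Led Lsl_et (LP (LK LD1_c12 LD2_c5 LD3_c39))
theorem f981707 : Led Lsl_et (LP (LK LD1_c12 LD2_c5 LD3_c39)) = v51379 :=
  Lrfl
theorem f981712 : Led Lsl_ef (LP (LK LD1_c12 LD2_c5 LD3_c39)) = v51379 :=
  Lgr Lrot88 (Lpr_et (f981707 IH) (Lpn v51379))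
theorem f138943 : Led Lsl_et (LP (LK LD1_c16 LD2_c29 LD3_c61)) = (LP (LK LD1_c26 LD2_c26 LD3_c49)) :=
  Lre_e IH (LK LD1_c16 LD2_c29 LD3_c61) (LK LD1_c26 LD2_c26 LD3_c49) Lrfl Lrfl
theorem f423650 : Led Lsl_et (LP (LK LD1_c16 LD2_c55 LD3_c10)) = (LP (LK LD1_c9 LD2_c3 LD3_c54)) :=
  Lre_e IH (LK LD1_c16 LD2_c55 LD3_c10) (LK LD1_c9 LD2_c3 LD3_c54) Lrfl Lrfl
theorem f981711 : Led Lsl_df (LP (LK LD1_c16 LD2_c55 LD3_c10)) = v51379 :=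
  Lgr Lrot70 (Lpr_et (f423650 IH) (Lpr_dt (K39.f556149 IH) (Lpr_et (K42.f557741 IH) (Lpe (K43.f573307 IH) (Lpr_et (f981707 IH) (Lpn v51379))))))
theorem f638751 : Led Lsl_dt (LP (LK LD1_c20 LD2_c1 LD3_c34)) = (LP (LK LD1_c11 LD2_c7 LD3_c58)) :=
  Lre_d IH (LK LD1_c20 LD2_c1 LD3_c34) (LK LD1_c11 LD2_c7 LD3_c58) Lrfl Lrfl
theorem f638741 : Led Lsl_et (LP (LK LD1_c11 LD2_c51 LD3_c46)) = (LP (LK LD1_c11 LD2_c7 LD3_c60)) :=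
  Lgr Lrot87 (Lpr_ef (K38.f638731 IH) (Lpn (LP (LK LD1_c11 LD2_c7 LD3_c60))))
theorem f621175 : Led Lsl_bt (LP (LK LD1_c20 LD2_c54 LD3_c21)) = (LP (LK LD1_c11 LD2_c51 LD3_c46)) :=
  Lre_b IH (LK LD1_c20 LD2_c54 LD3_c21) (LK LD1_c11 LD2_c51 LD3_c46) Lrfl Lrfl
theorem f638743 : Led Lsl_bt (LP (LK LD1_c11 LD2_c7 LD3_c60)) = (LP (LK LD1_c20 LD2_c1 LD3_c34)) :=
  Lre_b IH (LK LD1_c11 LD2_c7 LD3_c60) (LK LD1_c20 LD2_c1 LD3_c34) Lrfl Lrfl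
theorem f638744 : Led Lsl_ef (LP (LK LD1_c20 LD2_c54 LD3_c21)) = (LP (LK LD1_c20 LD2_c1 LD3_c34)) :=
  Lgr Lrot29 (Lpr_bt (f621175 IH) (Lpr_et (f638741 IH) (Lpr_bt (f638743 IH) (Lpn (LP (LK LD1_c20 LD2_c1 LD3_c34))))))
theorem f981717 : Led Lsl_gt (LP (LK LD1_c26 LD2_c26 LD3_c49)) = (LP (LK LD1_c20 LD2_c54 LD3_c21)) :=
  Lgr Lrot131 (Lpe (f138943 IH) (Lpr_dt (K44.f138931 IH) (Lpe (K42.f570742 IH) (Lpe (K38.f137832 IH) (Lpe (K44.f573309 IH) (Lpr_ef (f981712 IH) (Lpe (f981711 IH) (Lpq (K75.f961641 IH) (Lpe (K75.f953991 IH) (Lpe (f638751 IH) (Lpe (f638744 IH) (Lpn (LP (LK LD1_c20 LD2_c54 LD3_c21))))))))))))))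
theorem f981718 : Led Lsl_gt (LP (LK LD1_c26 LD2_c26 LD3_c49)) = (LP (LK LD1_c20 LD2_c54 LD3_c21)) :=
  Leop (Lpe (f981717 IH) (Lpn (LP (LK LD1_c26 LD2_c26 LD3_c49))))
theorem seed_3074 : LEOK LG_g (LK LD1_c26 LD2_c26 LD3_c49) :=
  Leoe_g (LK LD1_c26 LD2_c26 LD3_c49) (f981718 IH)
def v51393 : LQ := Led Lsl_gf (LP (LK LD1_c12 LD2_c5 LD3_c50))
theorem f981757 : Led Lsl_gf (LP (LK LD1_c12 LD2_c5 LD3_c50)) = v51393 :=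
  Lrfl
theorem f33733 : Led Lsl_et (LP (LK LD1_c25 LD2_c2 LD3_c6)) = (LP (LK LD1_c15 LD2_c13 LD3_c8)) :=
  Lre_e IH (LK LD1_c25 LD2_c2 LD3_c6) (LK LD1_c15 LD2_c13 LD3_c8) Lrfl Lrfl
theorem f981761 : Led Lsl_dt (LP (LK LD1_c25 LD2_c2 LD3_c6)) = v51393 :=
  Lgr Lrot136 (Lpr_et (f33733 IH) (Lpe (K64.f33727 IH) (Lpe (K38.f33726 IH) (Lpr_dt (K13.f33725 IH) (Lpr_gf (K10.f33720 IH) (Lpe (K0.f33723 IH) (Lpe (K13.f240579 IH) (Lpe (K35.f81237 IH) (Lpr_dt (K67.f538629 IH) (Lpr_gf (f981757 IH) (Lpn v51393)))))))))))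
theorem f610169 : Led Lsl_et (LP (LK LD1_c15 LD2_c13 LD3_c8)) = (LP (LK LD1_c25 LD2_c2 LD3_c6)) :=
  Lre_e IH (LK LD1_c15 LD2_c13 LD3_c8) (LK LD1_c25 LD2_c2 LD3_c6) Lrfl Lrfl
theorem f80373 : Led Lsl_et (LP (LK LD1_c8 LD2_c47 LD3_c23)) = (LP (LK LD1_c16 LD2_c26 LD3_c56)) :=
  Lre_e IH (LK LD1_c8 LD2_c47 LD3_c23) (LK LD1_c16 LD2_c26 LD3_c56) Lrfl Lrfl
theorem f80388 : Led Lsl_ft (LP (LK LD1_c16 LD2_c26 LD3_c56)) = (LP (LK LD1_c26 LD2_c24 LD3_c12)) :=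
  Lre_f IH (LK LD1_c16 LD2_c26 LD3_c56) (LK LD1_c26 LD2_c24 LD3_c12) Lrfl Lrfl
theorem f763107 : Led Lsl_ef (LP (LK LD1_c25 LD2_c2 LD3_c5)) = (LP (LK LD1_c26 LD2_c24 LD3_c12)) :=
  Lgr Lrot21 (Lpr_ft (K64.f763103 IH) (Lpr_et (K47.f37625 IH) (Lpr_ft (K64.f763052 IH) (Lpr_et (f80373 IH) (Lpr_ft (f80388 IH) (Lpn (LP (LK LD1_c26 LD2_c24 LD3_c12))))))))
theorem f80372 : Led Lsl_et (LP (LK LD1_c12 LD2_c22 LD3_c33)) = (LP (LK LD1_c6 LD2_c24 LD3_c48)) :=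
  Lre_e IH (LK LD1_c12 LD2_c22 LD3_c33) (LK LD1_c6 LD2_c24 LD3_c48) Lrfl Lrfl
theorem f80374 : Led Lsl_df (LP (LK LD1_c12 LD2_c22 LD3_c33)) = (LP (LK LD1_c16 LD2_c26 LD3_c56)) :=
  Lgr Lrot70 (Lpr_et (f80372 IH) (Lpr_dt (K46.f80371 IH) (Lpr_et (K57.f80370 IH) (Lpr_dt (K64.f80364 IH) (Lpr_et (f80373 IH) (Lpn (LP (LK LD1_c16 LD2_c26 LD3_c56))))))))
theorem f80384 : Led Lsl_ft (LP (LK LD1_c12 LD2_c22 LD3_c33)) = (LP (LK LD1_c21 LD2_c29 LD3_c20)) :=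
  Lre_f IH (LK LD1_c12 LD2_c22 LD3_c33) (LK LD1_c21 LD2_c29 LD3_c20) Lrfl Lrfl
theorem f80385 : Led Lsl_ft (LP (LK LD1_c26 LD2_c24 LD3_c12)) = (LP (LK LD1_c16 LD2_c26 LD3_c56)) :=
  Lre_f IH (LK LD1_c26 LD2_c24 LD3_c12) (LK LD1_c16 LD2_c26 LD3_c56) Lrfl Lrfl
theorem f80386 : Led Lsl_dt (LP (LK LD1_c21 LD2_c29 LD3_c20)) = (LP (LK LD1_c26 LD2_c24 LD3_c12)) :=
  Lgr Lrot60 (Lpe (f80384 IH) (Lpr_df (f80374 IH) (Lpe (f80385 IH) (Lpn (LP (LK LD1_c26 LD2_c24 LD3_c12))))))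
theorem f981763 : Led Lsl_ef (LP (LK LD1_c21 LD2_c29 LD3_c20)) = v51393 :=
  Lgr Lrot73 (Lpr_dt (f80386 IH) (Lpe (f763107 IH) (Lpr_dt (K64.f81219 IH) (Lpr_et (f610169 IH) (Lpr_dt (f981761 IH) (Lpn v51393))))))
theorem f80396 : Led Lsl_ft (LP (LK LD1_c21 LD2_c29 LD3_c20)) = (LP (LK LD1_c12 LD2_c22 LD3_c33)) :=
  Lre_f IH (LK LD1_c21 LD2_c29 LD3_c20) (LK LD1_c12 LD2_c22 LD3_c33) Lrfl Lrfl
def v17964 : LQ := Led Lsl_ft (LP (LK LD1_c6 LD2_c24 LD3_c48))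
theorem f763012 : Led Lsl_ft (LP (LK LD1_c6 LD2_c24 LD3_c48)) = v17964 :=
  Lrfl
theorem f763015 : Led Lsl_ff (LP (LK LD1_c6 LD2_c24 LD3_c48)) = v17964 :=
  Lgr Lrot3 (Lpr_ft (f763012 IH) (Lpn v17964))
theorem f763017 : Led Lsl_dt K57.v5558 = v17964 :=
  Lgr Lrot60 (Lpe (K57.f648256 IH) (Lpe (K46.f80371 IH) (Lpr_ff (f763015 IH) (Lpn v17964))))
theorem f763157 : v17964 = (LP (LK LD1_c8 LD2_c46 LD3_c31)) :=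
  Lefun (Lecon (f763017 IH) (K64.f763141 IH)) (K61.f75769 IH)
theorem f981764 : Led Lsl_ft (LP (LK LD1_c15 LD2_c6 LD3_c6)) = v51393 :=
  Lgr Lrot86 (Lpr_ef (K64.f554014 IH) (Lpq (f763157 IH) (Lpe (f763012 IH) (Lpe (f80372 IH) (Lpe (f80396 IH) (Lpr_ef (f981763 IH) (Lpn v51393)))))))
theorem f205660 : Led Lsl_ct (LP (LK LD1_c8 LD2_c46 LD3_c31)) = (LP (LK LD1_c16 LD2_c25 LD3_c5)) :=
  Lre_c IH (LK LD1_c8 LD2_c46 LD3_c31) (LK LD1_c16 LD2_c25 LD3_c5) Lrfl Lrfl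
theorem f608264 : Led Lsl_ct (LP (LK LD1_c23 LD2_c34 LD3_c40)) = (LP (LK LD1_c15 LD2_c6 LD3_c6)) :=
  Lgr Lrot15 (Lpr_ef (K64.f608194 IH) (Lpe (f205660 IH) (Lpe (K64.f554019 IH) (Lpn (LP (LK LD1_c15 LD2_c6 LD3_c6))))))
theorem f443879 : Led Lsl_gt (LP (LK LD1_c14 LD2_c1 LD3_c58)) = (LP (LK LD1_c7 LD2_c25 LD3_c14)) :=
  Lre_g IH (LK LD1_c14 LD2_c1 LD3_c58) (LK LD1_c7 LD2_c25 LD3_c14) Lrfl Lrfl
theorem f763414 : Led Lsl_ft (LP (LK LD1_c14 LD2_c1 LD3_c58)) = (LP (LK LD1_c23 LD2_c34 LD3_c40)) :=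
  Lgr Lrot2 (Lpr_gt (f443879 IH) (Lpr_gt (K39.f554247 IH) (Lpr_af (K64.f763408 IH) (Lpn (LP (LK LD1_c23 LD2_c34 LD3_c40))))))
theorem f981766 : Led Lsl_cf (LP (LK LD1_c14 LD2_c1 LD3_c58)) = v51393 :=
  Lgr Lrot108 (Lpr_ft (f763414 IH) (Lpr_ct (f608264 IH) (Lpr_ft (f981764 IH) (Lpn v51393))))
theorem f159677 : Led Lsl_dt (LP (LK LD1_c7 LD2_c25 LD3_c14)) = (LP (LK LD1_c14 LD2_c1 LD3_c59)) :=
  Lre_d IH (LK LD1_c7 LD2_c25 LD3_c14) (LK LD1_c14 LD2_c1 LD3_c59) Lrfl Lrfl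
theorem f608407 : Led Lsl_gt (LP (LK LD1_c14 LD2_c1 LD3_c59)) = (LP (LK LD1_c23 LD2_c34 LD3_c50)) :=
  Lre_g IH (LK LD1_c14 LD2_c1 LD3_c59) (LK LD1_c23 LD2_c34 LD3_c50) Lrfl Lrfl
theorem f617795 : Led Lsl_et (LP (LK LD1_c13 LD2_c55 LD3_c20)) = (LP (LK LD1_c23 LD2_c26 LD3_c0)) :=
  Lre_e IH (LK LD1_c13 LD2_c55 LD3_c20) (LK LD1_c23 LD2_c26 LD3_c0) Lrfl Lrfl
theorem f617796 : Led Lsl_ct (LP (LK LD1_c23 LD2_c26 LD3_c0)) = (LP (LK LD1_c23 LD2_c3 LD3_c30)) :=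
  Lgr Lrot15 (Lpe (f617795 IH) (Lpr_cf (K55.f617723 IH) (Lpe (K64.f544178 IH) (Lpn (LP (LK LD1_c23 LD2_c3 LD3_c30))))))
theorem f617798 : Led Lsl_cf (LP (LK LD1_c23 LD2_c26 LD3_c0)) = (LP (LK LD1_c23 LD2_c3 LD3_c30)) :=
  Lgr Lrot11 (Lpr_ct (f617796 IH) (Lpn (LP (LK LD1_c23 LD2_c3 LD3_c30))))
theorem f617802 : Led Lsl_ft (LP (LK LD1_c23 LD2_c26 LD3_c0)) = (LP (LK LD1_c31 LD2_c2 LD3_c51)) :=
  Lre_f IH (LK LD1_c23 LD2_c26 LD3_c0) (LK LD1_c31 LD2_c2 LD3_c51) Lrfl Lrfl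
theorem f763641 : Led Lsl_cf (LP (LK LD1_c24 LD2_c54 LD3_c28)) = (LP (LK LD1_c31 LD2_c2 LD3_c51)) :=
  Lgr Lrot108 (Lpr_ft (K64.f763639 IH) (Lpe (f617798 IH) (Lpr_ft (f617802 IH) (Lpn (LP (LK LD1_c31 LD2_c2 LD3_c51))))))
theorem f981768 : Led Lsl_dt (LP (LK LD1_c23 LD2_c34 LD3_c50)) = (LP (LK LD1_c31 LD2_c2 LD3_c51)) :=
  Lgr Lrot105 (Lpe (f608407 IH) (Lpe (f159677 IH) (Lpe (f443879 IH) (Lpr_cf (f981766 IH) (Lpe (f981757 IH) (Lpe (K35.f538637 IH) (Lpr_gt (K47.f193421 IH) (Lpr_dt (K64.f607950 IH) (Lpr_cf (f763641 IH) (Lpn (LP (LK LD1_c31 LD2_c2 LD3_c51))))))))))))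
theorem f981769 : Led Lsl_dt (LP (LK LD1_c23 LD2_c34 LD3_c50)) = (LP (LK LD1_c31 LD2_c2 LD3_c51)) :=
  Leop (Lpe (f981768 IH) (Lpn (LP (LK LD1_c23 LD2_c34 LD3_c50))))
theorem seed_3075 : LEOK LG_d (LK LD1_c23 LD2_c34 LD3_c50) :=
  Leoe_d (LK LD1_c23 LD2_c34 LD3_c50) (f981769 IH)
def v51403 : LQ := Led Lsl_at (LP (LK LD1_c12 LD2_c5 LD3_c57))
theorem f981814 : Led Lsl_at (LP (LK LD1_c12 LD2_c5 LD3_c57)) = v51403 :=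
  Lrfl
theorem f697341 : Led Lsl_gt (LP (LK LD1_c8 LD2_c51 LD3_c4)) = (LP (LK LD1_c16 LD2_c32 LD3_c52)) :=
  Lre_g IH (LK LD1_c8 LD2_c51 LD3_c4) (LK LD1_c16 LD2_c32 LD3_c52) Lrfl Lrfl
theorem f981819 : Led Lsl_gt (LP (LK LD1_c16 LD2_c32 LD3_c52)) = v51403 :=
  Lgr Lrot46 (Lpe (f697341 IH) (Lpe (K75.f697333 IH) (Lpr_at (f981814 IH) (Lpn v51403))))
theorem f202966 : Led Lsl_dt (LP (LK LD1_c9 LD2_c49 LD3_c58)) = (LP (LK LD1_c5 LD2_c58 LD3_c51)) :=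
  Lre_d IH (LK LD1_c9 LD2_c49 LD3_c58) (LK LD1_c5 LD2_c58 LD3_c51) Lrfl Lrfl
theorem f427394 : Led Lsl_at (LP (LK LD1_c8 LD2_c48 LD3_c7)) = (LP (LK LD1_c9 LD2_c49 LD3_c58)) :=
  Lgr Lrot51 (Lpr_df (K36.f426481 IH) (Lpe (K28.f426471 IH) (Lpe (f202966 IH) (Lpn (LP (LK LD1_c9 LD2_c49 LD3_c58))))))
theorem f427400 : Led Lsl_et (LP (LK LD1_c16 LD2_c28 LD3_c12)) = (LP (LK LD1_c8 LD2_c48 LD3_c7)) :=
  Lre_e IH (LK LD1_c16 LD2_c28 LD3_c12) (LK LD1_c8 LD2_c48 LD3_c7) Lrfl Lrfl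
theorem f202967 : Led Lsl_et (LP (LK LD1_c9 LD2_c49 LD3_c58)) = (LP (LK LD1_c18 LD2_c0 LD3_c34)) :=
  Lre_e IH (LK LD1_c9 LD2_c49 LD3_c58) (LK LD1_c18 LD2_c0 LD3_c34) Lrfl Lrfl
theorem f427416 : Led Lsl_af (LP (LK LD1_c16 LD2_c28 LD3_c12)) = (LP (LK LD1_c18 LD2_c0 LD3_c34)) :=
  Lgr Lrot50 (Lpr_et (f427400 IH) (Lpr_at (f427394 IH) (Lpr_et (f202967 IH) (Lpn (LP (LK LD1_c18 LD2_c0 LD3_c34))))))
theorem f427420 : Led Lsl_ct (LP (LK LD1_c16 LD2_c28 LD3_c12)) = (LP (LK LD1_c8 LD2_c48 LD3_c8)) :=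
  Lre_c IH (LK LD1_c16 LD2_c28 LD3_c12) (LK LD1_c8 LD2_c48 LD3_c8) Lrfl Lrfl
theorem f202956 : Led Lsl_et (LP (LK LD1_c18 LD2_c0 LD3_c34)) = (LP (LK LD1_c9 LD2_c49 LD3_c58)) :=
  Lre_e IH (LK LD1_c18 LD2_c0 LD3_c34) (LK LD1_c9 LD2_c49 LD3_c58) Lrfl Lrfl
theorem f202957 : Led Lsl_ct (LP (LK LD1_c12 LD2_c6 LD3_c17)) = (LP (LK LD1_c18 LD2_c0 LD3_c34)) :=
  Lgr Lrot15 (Lpe (K53.f202955 IH) (Lpr_cf (K28.f202950 IH) (Lpe (f202956 IH) (Lpn (LP (LK LD1_c18 LD2_c0 LD3_c34))))))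
theorem f427421 : Led Lsl_at (LP (LK LD1_c8 LD2_c48 LD3_c8)) = (LP (LK LD1_c12 LD2_c6 LD3_c17)) :=
  Lgr Lrot107 (Lpe (f427420 IH) (Lpr_af (f427416 IH) (Lpe (f202957 IH) (Lpn (LP (LK LD1_c12 LD2_c6 LD3_c17))))))
theorem f719197 : Led Lsl_gt (LP (LK LD1_c8 LD2_c51 LD3_c30)) = (LP (LK LD1_c12 LD2_c6 LD3_c17)) :=
  Lgr Lrot46 (Lpr_gf (K53.f719195 IH) (Lpr_ft (K53.f427424 IH) (Lpr_at (f427421 IH) (Lpn (LP (LK LD1_c12 LD2_c6 LD3_c17))))))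
theorem f444903 : Led Lsl_bt (LP (LK LD1_c8 LD2_c51 LD3_c4)) = (LP (LK LD1_c4 LD2_c26 LD3_c44)) :=
  Lre_b IH (LK LD1_c8 LD2_c51 LD3_c4) (LK LD1_c4 LD2_c26 LD3_c44) Lrfl Lrfl
theorem f420324 : Led Lsl_et (LP (LK LD1_c16 LD2_c28 LD3_c11)) = (LP (LK LD1_c8 LD2_c48 LD3_c6)) :=
  Lre_e IH (LK LD1_c16 LD2_c28 LD3_c11) (LK LD1_c8 LD2_c48 LD3_c6) Lrfl Lrfl
theorem f420435 : Led Lsl_et (LP (LK LD1_c5 LD2_c58 LD3_c19)) = (LP (LK LD1_c11 LD2_c41 LD3_c18)) :=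
  Lre_e IH (LK LD1_c5 LD2_c58 LD3_c19) (LK LD1_c11 LD2_c41 LD3_c18) Lrfl Lrfl
theorem f420618 : Led Lsl_cf (LP (LK LD1_c16 LD2_c28 LD3_c11)) = (LP (LK LD1_c11 LD2_c41 LD3_c18)) :=
  Lgr Lrot39 (Lpr_et (f420324 IH) (Lpr_ct (K36.f420615 IH) (Lpr_et (f420435 IH) (Lpn (LP (LK LD1_c11 LD2_c41 LD3_c18))))))
theorem f203370 : Led Lsl_bt (LP (LK LD1_c5 LD2_c58 LD3_c24)) = (LP (LK LD1_c11 LD2_c41 LD3_c18)) :=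
  Lre_b IH (LK LD1_c5 LD2_c58 LD3_c24) (LK LD1_c11 LD2_c41 LD3_c18) Lrfl Lrfl
theorem f203369 : Led Lsl_ct (LP (LK LD1_c9 LD2_c49 LD3_c59)) = (LP (LK LD1_c5 LD2_c58 LD3_c24)) :=
  Lre_c IH (LK LD1_c9 LD2_c49 LD3_c59) (LK LD1_c5 LD2_c58 LD3_c24) Lrfl Lrfl
theorem f203368 : Led Lsl_bt (LP (LK LD1_c18 LD2_c0 LD3_c34)) = (LP (LK LD1_c9 LD2_c49 LD3_c59)) :=
  Lre_b IH (LK LD1_c18 LD2_c0 LD3_c34) (LK LD1_c9 LD2_c49 LD3_c59) Lrfl Lrfl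
theorem f420621 : Led Lsl_bt (LP (LK LD1_c16 LD2_c28 LD3_c11)) = (LP (LK LD1_c12 LD2_c6 LD3_c17)) :=
  Lgr Lrot128 (Lpr_cf (f420618 IH) (Lpe (f203370 IH) (Lpe (f203369 IH) (Lpe (f203368 IH) (Lpe (f202957 IH) (Lpn (LP (LK LD1_c12 LD2_c6 LD3_c17))))))))
theorem f420623 : Led Lsl_ct (LP (LK LD1_c16 LD2_c28 LD3_c11)) = (LP (LK LD1_c11 LD2_c41 LD3_c18)) :=
  Lgr Lrot59 (Lpr_cf (f420618 IH) (Lpn (LP (LK LD1_c11 LD2_c41 LD3_c18))))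
theorem f719245 : Led Lsl_gf (LP (LK LD1_c16 LD2_c32 LD3_c42)) = (LP (LK LD1_c11 LD2_c41 LD3_c18)) :=
  Lgr Lrot126 (Lpe (K75.f444905 IH) (Lpr_bt (f444903 IH) (Lpe (K37.f444897 IH) (Lpr_ct (K37.f36842 IH) (Lpr_gt (K37.f30054 IH) (Lpe (K37.f35710 IH) (Lpr_bt (K53.f35706 IH) (Lpr_gt (f719197 IH) (Lpe (f420621 IH) (Lpr_ct (f420623 IH) (Lpn (LP (LK LD1_c11 LD2_c41 LD3_c18)))))))))))))
theorem f445036 : Led Lsl_gt (LP (LK LD1_c16 LD2_c32 LD3_c42)) = (LP (LK LD1_c26 LD2_c29 LD3_c24)) :=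
  Lre_g IH (LK LD1_c16 LD2_c32 LD3_c42) (LK LD1_c26 LD2_c29 LD3_c24) Lrfl Lrfl
theorem f420628 : Led Lsl_ft (LP (LK LD1_c11 LD2_c41 LD3_c18)) = (LP (LK LD1_c20 LD2_c41 LD3_c8)) :=
  Lre_f IH (LK LD1_c11 LD2_c41 LD3_c18) (LK LD1_c20 LD2_c41 LD3_c8) Lrfl Lrfl
theorem f719249 : Led Lsl_af (LP (LK LD1_c26 LD2_c29 LD3_c24)) = (LP (LK LD1_c20 LD2_c41 LD3_c8)) :=
  Lgr Lrot31 (Lpe (f445036 IH) (Lpr_gf (f719245 IH) (Lpr_ft (f420628 IH) (Lpn (LP (LK LD1_c20 LD2_c41 LD3_c8))))))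
theorem f420620 : Led Lsl_at (LP (LK LD1_c20 LD2_c41 LD3_c5)) = (LP (LK LD1_c11 LD2_c41 LD3_c18)) :=
  Lre_a IH (LK LD1_c20 LD2_c41 LD3_c5) (LK LD1_c11 LD2_c41 LD3_c18) Lrfl Lrfl
theorem f719255 : Led Lsl_ft (LP (LK LD1_c26 LD2_c29 LD3_c24)) = (LP (LK LD1_c20 LD2_c41 LD3_c5)) :=
  Lgr Lrot101 (Lpr_af (f719249 IH) (Lpe (f420628 IH) (Lpe (f420620 IH) (Lpn (LP (LK LD1_c20 LD2_c41 LD3_c5))))))
theorem f420626 : Led Lsl_gt (LP (LK LD1_c20 LD2_c41 LD3_c7)) = (LP (LK LD1_c11 LD2_c41 LD3_c18)) :=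
  Lre_g IH (LK LD1_c20 LD2_c41 LD3_c7) (LK LD1_c11 LD2_c41 LD3_c18) Lrfl Lrfl
theorem f719259 : Led Lsl_gt (LP (LK LD1_c26 LD2_c29 LD3_c24)) = (LP (LK LD1_c20 LD2_c41 LD3_c7)) :=
  Lgr Lrot5 (Lpr_ft (f719255 IH) (Lpr_at (f420620 IH) (Lpe (f420626 IH) (Lpn (LP (LK LD1_c20 LD2_c41 LD3_c7))))))
theorem f719261 : Led Lsl_at (LP (LK LD1_c21 LD2_c11 LD3_c49)) = (LP (LK LD1_c20 LD2_c41 LD3_c7)) :=
  Lgr Lrot26 (Lpr_ff (K75.f697343 IH) (Lpr_gt (f445036 IH) (Lpr_gt (f719259 IH) (Lpn (LP (LK LD1_c20 LD2_c41 LD3_c7))))))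
theorem f719263 : Led Lsl_af (LP (LK LD1_c21 LD2_c11 LD3_c49)) = (LP (LK LD1_c20 LD2_c41 LD3_c7)) :=
  Lgr Lrot0 (Lpr_at (f719261 IH) (Lpn (LP (LK LD1_c20 LD2_c41 LD3_c7))))
theorem f981817 : Led Lsl_cf (LP (LK LD1_c20 LD2_c41 LD3_c7)) = v51403 :=
  Lgr Lrot1 (Lpe (f719263 IH) (Lpr_ct (K71.f70313 IH) (Lpr_at (f981814 IH) (Lpn v51403))))
theorem f569898 : Led Lsl_dt (LP (LK LD1_c16 LD2_c28 LD3_c37)) = (LP (LK LD1_c16 LD2_c28 LD3_c11)) :=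
  Lgr Lrot77 (Lpe (K53.f569897 IH) (Lpe (K43.f38490 IH) (Lpr_ef (K42.f569891 IH) (Lpe (K28.f38536 IH) (Lpe (f420324 IH) (Lpn (LP (LK LD1_c16 LD2_c28 LD3_c11))))))))
theorem f596838 : Led Lsl_ct (LP (LK LD1_c26 LD2_c25 LD3_c39)) = (LP (LK LD1_c16 LD2_c28 LD3_c37)) :=
  Lre_c IH (LK LD1_c26 LD2_c25 LD3_c39) (LK LD1_c16 LD2_c28 LD3_c37) Lrfl Lrfl
theorem f576027 : Led Lsl_bt (LP (LK LD1_c13 LD2_c28 LD3_c43)) = (LP (LK LD1_c15 LD2_c8 LD3_c24)) :=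
  Lgr Lrot119 (Lpe (K47.f467128 IH) (Lpe (K47.f515376 IH) (Lpr_ef (K43.f576023 IH) (Lpn (LP (LK LD1_c15 LD2_c8 LD3_c24))))))
theorem f519201 : Led Lsl_ct (LP (LK LD1_c13 LD2_c28 LD3_c43)) = (LP (LK LD1_c22 LD2_c48 LD3_c34)) :=
  Lre_c IH (LK LD1_c13 LD2_c28 LD3_c43) (LK LD1_c22 LD2_c48 LD3_c34) Lrfl Lrfl
theorem f596839 : Led Lsl_ct (LP (LK LD1_c16 LD2_c28 LD3_c37)) = (LP (LK LD1_c26 LD2_c25 LD3_c39)) :=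
  Lre_c IH (LK LD1_c16 LD2_c28 LD3_c37) (LK LD1_c26 LD2_c25 LD3_c39) Lrfl Lrfl
theorem f617626 : Led Lsl_gf (LP (LK LD1_c22 LD2_c48 LD3_c34)) = (LP (LK LD1_c26 LD2_c25 LD3_c39)) :=
  Lgr Lrot126 (Lpe (f519201 IH) (Lpr_bt (f576027 IH) (Lpr_gt (K37.f445098 IH) (Lpr_ct (K1.f36844 IH) (Lpr_gt (K71.f445743 IH) (Lpe (K40.f16473 IH) (Lpr_bt (K71.f617288 IH) (Lpr_gt (K55.f614182 IH) (Lpr_bf (K53.f607293 IH) (Lpr_ct (f596839 IH) (Lpn (LP (LK LD1_c26 LD2_c25 LD3_c39)))))))))))))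
theorem f519200 : Led Lsl_ft (LP (LK LD1_c22 LD2_c56 LD3_c51)) = (LP (LK LD1_c13 LD2_c33 LD3_c51)) :=
  Lre_f IH (LK LD1_c22 LD2_c56 LD3_c51) (LK LD1_c13 LD2_c33 LD3_c51) Lrfl Lrfl
theorem f617628 : Led Lsl_gt (LP (LK LD1_c22 LD2_c56 LD3_c51)) = (LP (LK LD1_c26 LD2_c25 LD3_c39)) :=
  Lgr Lrot5 (Lpr_ft (f519200 IH) (Lpe (K61.f519188 IH) (Lpr_gf (f617626 IH) (Lpn (LP (LK LD1_c26 LD2_c25 LD3_c39))))))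
theorem f519244 : Led Lsl_ct (LP (LK LD1_c13 LD2_c33 LD3_c55)) = (LP (LK LD1_c22 LD2_c56 LD3_c51)) :=
  Lre_c IH (LK LD1_c13 LD2_c33 LD3_c55) (LK LD1_c22 LD2_c56 LD3_c51) Lrfl Lrfl
theorem f576066 : Led Lsl_af (LP (LK LD1_c12 LD2_c5 LD3_c61)) = (LP (LK LD1_c15 LD2_c8 LD3_c25)) :=
  Lgr Lrot68 (Lpr_ct (K43.f445303 IH) (Lpr_at (K43.f576061 IH) (Lpe (K37.f444953 IH) (Lpn (LP (LK LD1_c15 LD2_c8 LD3_c25))))))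
theorem f519229 : Led Lsl_bt (LP (LK LD1_c13 LD2_c33 LD3_c46)) = (LP (LK LD1_c7 LD2_c9 LD3_c41)) :=
  Lre_b IH (LK LD1_c13 LD2_c33 LD3_c46) (LK LD1_c7 LD2_c9 LD3_c41) Lrfl Lrfl
theorem f577971 : Led Lsl_bt (LP (LK LD1_c13 LD2_c33 LD3_c55)) = (LP (LK LD1_c20 LD2_c35 LD3_c56)) :=
  Lgr Lrot35 (Lpe (K47.f519190 IH) (Lpe (f519229 IH) (Lpr_ff (K43.f577967 IH) (Lpn (LP (LK LD1_c20 LD2_c35 LD3_c56))))))
theorem f577993 : Led Lsl_at (LP (LK LD1_c21 LD2_c11 LD3_c55)) = (LP (LK LD1_c13 LD2_c33 LD3_c55)) :=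
  Lgr Lrot67 (Lpe (K47.f59741 IH) (Lpr_af (f576066 IH) (Lpe (K43.f30798 IH) (Lpr_af (K43.f577977 IH) (Lpe (f577971 IH) (Lpn (LP (LK LD1_c13 LD2_c33 LD3_c55))))))))
theorem f467959 : Led Lsl_gt (LP (LK LD1_c13 LD2_c28 LD3_c43)) = (LP (LK LD1_c22 LD2_c48 LD3_c35)) :=
  Lre_g IH (LK LD1_c13 LD2_c28 LD3_c43) (LK LD1_c22 LD2_c48 LD3_c35) Lrfl Lrfl
theorem f606849 : Led Lsl_gf (LP (LK LD1_c13 LD2_c33 LD3_c55)) = (LP (LK LD1_c22 LD2_c48 LD3_c35)) :=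
  Lgr Lrot76 (Lpe (f577993 IH) (Lpr_ff (K47.f606845 IH) (Lpr_gt (f467959 IH) (Lpn (LP (LK LD1_c22 LD2_c48 LD3_c35))))))
theorem f981820 : Led Lsl_dt (LP (LK LD1_c16 LD2_c32 LD3_c52)) = (LP (LK LD1_c22 LD2_c48 LD3_c35)) :=
  Lgr Lrot6 (Lpr_gt (f981819 IH) (Lpe (f981817 IH) (Lpr_gt (f420626 IH) (Lpe (f420618 IH) (Lpe (f569898 IH) (Lpe (f596838 IH) (Lpe (f617628 IH) (Lpe (f519244 IH) (Lpr_gf (f606849 IH) (Lpn (LP (LK LD1_c22 LD2_c48 LD3_c35))))))))))))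
theorem f981821 : Led Lsl_dt (LP (LK LD1_c16 LD2_c32 LD3_c52)) = (LP (LK LD1_c22 LD2_c48 LD3_c35)) :=
  Leop (Lpe (f981820 IH) (Lpn (LP (LK LD1_c16 LD2_c32 LD3_c52))))
theorem seed_3076 : LEOK LG_d (LK LD1_c16 LD2_c32 LD3_c52) :=
  Leoe_d (LK LD1_c16 LD2_c32 LD3_c52) (f981821 IH)
def v37332 : LQ := Led Lsl_gf (LP (LK LD1_c8 LD2_c51 LD3_c4))
theorem f894103 : Led Lsl_gf (LP (LK LD1_c8 LD2_c51 LD3_c4)) = v37332 :=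
  Lrfl
theorem f420613 : Led Lsl_bf (LP (LK LD1_c16 LD2_c28 LD3_c11)) = (LP (LK LD1_c12 LD2_c6 LD3_c17)) :=
  Lgr Lrot96 (Lpr_et (f420324 IH) (Lpr_bt (K28.f420607 IH) (Lpr_et (K53.f202955 IH) (Lpn (LP (LK LD1_c12 LD2_c6 LD3_c17))))))
theorem f607295 : Led Lsl_dt (LP (LK LD1_c16 LD2_c28 LD3_c11)) = (LP (LK LD1_c16 LD2_c28 LD3_c37)) :=
  Lgr Lrot79 (Lpr_bf (f420613 IH) (Lpe (K53.f203373 IH) (Lpr_bf (K53.f607293 IH) (Lpn (LP (LK LD1_c16 LD2_c28 LD3_c37))))))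
theorem f981822 : Led Lsl_df (LP (LK LD1_c16 LD2_c32 LD3_c52)) = (LP (LK LD1_c22 LD2_c48 LD3_c35)) :=
  Lgr Lrot155 (Lpr_gt (f981819 IH) (Lpe (f981817 IH) (Lpr_gt (f420626 IH) (Lpe (f420618 IH) (Lpr_dt (f607295 IH) (Lpe (f596838 IH) (Lpe (f617628 IH) (Lpe (f519244 IH) (Lpr_gf (f606849 IH) (Lpn (LP (LK LD1_c22 LD2_c48 LD3_c35))))))))))))
theorem f442132 : Led Lsl_gt (LP (LK LD1_c30 LD2_c43 LD3_c37)) = (LP (LK LD1_c22 LD2_c48 LD3_c22)) :=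
  Lre_g IH (LK LD1_c30 LD2_c43 LD3_c37) (LK LD1_c22 LD2_c48 LD3_c22) Lrfl Lrfl
theorem f35930 : Led Lsl_et (LP (LK LD1_c2 LD2_c9 LD3_c52)) = (LP (LK LD1_c4 LD2_c24 LD3_c49)) :=
  Lre_e IH (LK LD1_c2 LD2_c9 LD3_c52) (LK LD1_c4 LD2_c24 LD3_c49) Lrfl Lrfl
theorem f70475 : Led Lsl_gt (LP (LK LD1_c16 LD2_c24 LD3_c37)) = (LP (LK LD1_c8 LD2_c46 LD3_c18)) :=
  Lre_g IH (LK LD1_c16 LD2_c24 LD3_c37) (LK LD1_c8 LD2_c46 LD3_c18) Lrfl Lrfl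
theorem f70528 : Led Lsl_et (LP (LK LD1_c26 LD2_c22 LD3_c14)) = (LP (LK LD1_c16 LD2_c24 LD3_c37)) :=
  Lre_e IH (LK LD1_c26 LD2_c22 LD3_c14) (LK LD1_c16 LD2_c24 LD3_c37) Lrfl Lrfl
theorem f478179 : Led Lsl_gt (LP (LK LD1_c13 LD2_c43 LD3_c41)) = (LP (LK LD1_c23 LD2_c10 LD3_c15)) :=
  Lre_g IH (LK LD1_c13 LD2_c43 LD3_c41) (LK LD1_c23 LD2_c10 LD3_c15) Lrfl Lrfl
theorem f578566 : Led Lsl_dt (LP (LK LD1_c26 LD2_c22 LD3_c14)) = (LP (LK LD1_c23 LD2_c10 LD3_c15)) :=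
  Lgr Lrot56 (Lpr_et (f70528 IH) (Lpr_gt (f70475 IH) (Lpe (K39.f70493 IH) (Lpe (K28.f70490 IH) (Lpr_gt (K6.f36004 IH) (Lpe (K2.f35982 IH) (Lpr_et (f35930 IH) (Lpr_gt (K43.f70527 IH) (Lpr_dt (K75.f578558 IH) (Lpr_gt (f478179 IH) (Lpn (LP (LK LD1_c23 LD2_c10 LD3_c15)))))))))))))
theorem f578570 : Led Lsl_et (LP (LK LD1_c16 LD2_c24 LD3_c37)) = (LP (LK LD1_c26 LD2_c22 LD3_c14)) :=
  Lre_e IH (LK LD1_c16 LD2_c24 LD3_c37) (LK LD1_c26 LD2_c22 LD3_c14) Lrfl Lrfl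
theorem f70520 : Led Lsl_dt (LP (LK LD1_c26 LD2_c22 LD3_c13)) = (LP (LK LD1_c16 LD2_c24 LD3_c37)) :=
  Lre_d IH (LK LD1_c26 LD2_c22 LD3_c13) (LK LD1_c16 LD2_c24 LD3_c37) Lrfl Lrfl
theorem f486527 : Led Lsl_et (LP (LK LD1_c23 LD2_c10 LD3_c15)) = (LP (LK LD1_c30 LD2_c55 LD3_c34)) :=
  Lre_e IH (LK LD1_c23 LD2_c10 LD3_c15) (LK LD1_c30 LD2_c55 LD3_c34) Lrfl Lrfl
theorem f478163 : Led Lsl_et (LP (LK LD1_c7 LD2_c15 LD3_c13)) = (LP (LK LD1_c13 LD2_c43 LD3_c41)) :=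
  Lre_e IH (LK LD1_c7 LD2_c15 LD3_c13) (LK LD1_c13 LD2_c43 LD3_c41) Lrfl Lrfl
theorem f478180 : Led Lsl_et (LP (LK LD1_c30 LD2_c55 LD3_c34)) = (LP (LK LD1_c23 LD2_c10 LD3_c15)) :=
  Lre_e IH (LK LD1_c30 LD2_c55 LD3_c34) (LK LD1_c23 LD2_c10 LD3_c15) Lrfl Lrfl
theorem f486523 : Led Lsl_df (LP (LK LD1_c30 LD2_c43 LD3_c37)) = (LP (LK LD1_c30 LD2_c55 LD3_c34)) :=
  Lgr Lrot170 (Lpr_gt (f442132 IH) (Lpe (K43.f442129 IH) (Lpr_et (K43.f442103 IH) (Lpe (K28.f442096 IH) (Lpr_dt (K28.f97298 IH) (Lpr_gt (K75.f486520 IH) (Lpe (K41.f478161 IH) (Lpr_et (f478163 IH) (Lpr_gt (f478179 IH) (Lpe (f478180 IH) (Lpn (LP (LK LD1_c30 LD2_c55 LD3_c34)))))))))))))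
theorem f578571 : Led Lsl_ef (LP (LK LD1_c26 LD2_c22 LD3_c13)) = (LP (LK LD1_c30 LD2_c43 LD3_c37)) :=
  Lgr Lrot73 (Lpr_dt (f70520 IH) (Lpr_et (f578570 IH) (Lpr_dt (f578566 IH) (Lpr_et (f486527 IH) (Lpe (f486523 IH) (Lpn (LP (LK LD1_c30 LD2_c43 LD3_c37))))))))
theorem f578573 : Led Lsl_et (LP (LK LD1_c26 LD2_c22 LD3_c13)) = (LP (LK LD1_c30 LD2_c43 LD3_c37)) :=
  Lgr Lrot87 (Lpr_ef (f578571 IH) (Lpn (LP (LK LD1_c30 LD2_c43 LD3_c37))))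
theorem f981824 : (LP (LK LD1_c16 LD2_c24 LD3_c37)) = v51403 :=
  (Llr Lrot56 (Lpe (f70520 IH) (Lpr_et (f578573 IH) (Lpr_gt (f442132 IH) (Lpe (K43.f442121 IH) (Lpr_dt (K34.f442127 IH) (Lpr_gt (K29.f467953 IH) (Lpe (K68.f467126 IH) (Lpr_et (K47.f467128 IH) (Lpr_gt (f467959 IH) (Lpe (f981822 IH) (Lpr_gt (f981819 IH) (Lpn v51403))))))))))))).symm
theorem f696732 : Led Lsl_at (LP (LK LD1_c16 LD2_c32 LD3_c53)) = (LP (LK LD1_c8 LD2_c51 LD3_c4)) :=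
  Lre_a IH (LK LD1_c16 LD2_c32 LD3_c53) (LK LD1_c8 LD2_c51 LD3_c4) Lrfl Lrfl
theorem f981818 : Led Lsl_ff (LP (LK LD1_c16 LD2_c32 LD3_c53)) = v51403 :=
  Lgr Lrot30 (Lpr_at (f696732 IH) (Lpe (K75.f697333 IH) (Lpr_at (f981814 IH) (Lpn v51403))))
theorem f981836 : v37332 = (LP (LK LD1_c8 LD2_c46 LD3_c18)) :=
  (Llr Lrot76 (Lpe (f894103 IH) (Lpe (f696732 IH) (Lpr_ff (f981818 IH) (Lpq (f981824 IH) (Lpr_gt (f70475 IH) (Lpn (LP (LK LD1_c8 LD2_c46 LD3_c18))))))))).symm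
theorem f150103 : Led Lsl_ft (LP (LK LD1_c8 LD2_c46 LD3_c18)) = (LP (LK LD1_c16 LD2_c24 LD3_c39)) :=
  Lre_f IH (LK LD1_c8 LD2_c46 LD3_c18) (LK LD1_c16 LD2_c24 LD3_c39) Lrfl Lrfl
theorem f981839 : Led Lsl_at (LP (LK LD1_c16 LD2_c24 LD3_c39)) = (LP (LK LD1_c16 LD2_c32 LD3_c52)) :=
  Lgr Lrot26 (Lpe (f150103 IH) (Lpq (f981836 IH) (Lpe (f894103 IH) (Lpr_gt (f697341 IH) (Lpn (LP (LK LD1_c16 LD2_c32 LD3_c52)))))))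
theorem f150091 : Led Lsl_af (LP (LK LD1_c8 LD2_c46 LD3_c18)) = (LP (LK LD1_c14 LD2_c59 LD3_c26)) :=
  Lgr Lrot50 (Lpr_et (K68.f70523 IH) (Lpr_at (K7.f150078 IH) (Lpr_et (K41.f150041 IH) (Lpn (LP (LK LD1_c14 LD2_c59 LD3_c26))))))
theorem f981847 : Led Lsl_ff (LP (LK LD1_c14 LD2_c59 LD3_c26)) = (LP (LK LD1_c16 LD2_c32 LD3_c52)) :=
  Lgr Lrot30 (Lpe (f150091 IH) (Lpr_ft (f150103 IH) (Lpr_at (f981839 IH) (Lpn (LP (LK LD1_c16 LD2_c32 LD3_c52))))))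
def v39669 : LQ := Led Lsl_ft (LP (LK LD1_c9 LD2_c26 LD3_c30))
theorem f910700 : Led Lsl_ft (LP (LK LD1_c9 LD2_c26 LD3_c30)) = v39669 :=
  Lrfl
theorem f981851 : Led Lsl_ct v39669 = (LP (LK LD1_c16 LD2_c32 LD3_c52)) :=
  Lgr Lrot40 (Lpe (f910700 IH) (Lpe (K71.f208675 IH) (Lpr_ff (f981847 IH) (Lpn (LP (LK LD1_c16 LD2_c32 LD3_c52))))))
theorem f910701 : Led Lsl_bf (LP (LK LD1_c9 LD2_c26 LD3_c33)) = v39669 :=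
  Lgr Lrot61 (Lpr_ft (K7.f103072 IH) (Lpr_bt (K71.f103087 IH) (Lpr_ft (f910700 IH) (Lpn v39669))))
def v38835 : LQ := Led Lsl_gf (LP (LK LD1_c9 LD2_c16 LD3_c25))
theorem f904838 : Led Lsl_gf (LP (LK LD1_c9 LD2_c16 LD3_c25)) = v38835 :=
  Lrfl
theorem f904839 : Led Lsl_gt (LP (LK LD1_c9 LD2_c26 LD3_c33)) = v38835 :=
  Lgr Lrot5 (Lpr_ft (K7.f103072 IH) (Lpe (K7.f110818 IH) (Lpr_gf (f904838 IH) (Lpn v38835))))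
theorem f444904 : Led Lsl_ct (LP (LK LD1_c16 LD2_c32 LD3_c42)) = (LP (LK LD1_c8 LD2_c51 LD3_c4)) :=
  Lre_c IH (LK LD1_c16 LD2_c32 LD3_c42) (LK LD1_c8 LD2_c51 LD3_c4) Lrfl Lrfl
theorem f697357 : Led Lsl_bt (LP (LK LD1_c16 LD2_c32 LD3_c42)) = (LP (LK LD1_c8 LD2_c51 LD3_c1)) :=
  Lre_b IH (LK LD1_c16 LD2_c32 LD3_c42) (LK LD1_c8 LD2_c51 LD3_c1) Lrfl Lrfl
theorem f110591 : Led Lsl_gt (LP (LK LD1_c17 LD2_c11 LD3_c6)) = (LP (LK LD1_c9 LD2_c16 LD3_c29)) :=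
  Lre_g IH (LK LD1_c17 LD2_c11 LD3_c6) (LK LD1_c9 LD2_c16 LD3_c29) Lrfl Lrfl
theorem f981859 : Led Lsl_ct v38835 = (LP (LK LD1_c17 LD2_c11 LD3_c6)) :=
  Lgr Lrot91 (Lpe (f904839 IH) (Lpr_bf (f910701 IH) (Lpr_ct (f981851 IH) (Lpe (f697341 IH) (Lpe (f444904 IH) (Lpr_bt (f697357 IH) (Lpr_gf (K75.f894102 IH) (Lpqs (K75.f964898 IH) (Lpr_bf (K6.f104354 IH) (Lpr_ct (K6.f110514 IH) (Lpe (f110591 IH) (Lpn (LP (LK LD1_c17 LD2_c11 LD3_c6))))))))))))))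
theorem f981862 : Led Lsl_cf v38835 = (LP (LK LD1_c17 LD2_c11 LD3_c6)) :=
  Lgr Lrot11 (Lpr_ct (f981859 IH) (Lpn (LP (LK LD1_c17 LD2_c11 LD3_c6))))
theorem f78689 : Led Lsl_et (LP (LK LD1_c4 LD2_c40 LD3_c27)) = (LP (LK LD1_c9 LD2_c16 LD3_c18)) :=
  Lre_e IH (LK LD1_c4 LD2_c40 LD3_c27) (LK LD1_c9 LD2_c16 LD3_c18) Lrfl Lrfl
theorem f103280 : Led Lsl_at (LP (LK LD1_c9 LD2_c16 LD3_c18)) = (LP (LK LD1_c4 LD2_c44 LD3_c53)) :=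
  Lgr Lrot80 (Lpe (f78689 IH) (Lpr_af (K3.f103268 IH) (Lpe (K7.f102961 IH) (Lpn (LP (LK LD1_c4 LD2_c44 LD3_c53))))))
theorem f110823 : Led Lsl_ct (LP (LK LD1_c9 LD2_c16 LD3_c25)) = (LP (LK LD1_c9 LD2_c16 LD3_c18)) :=
  Lgr Lrot111 (Lpr_af (K7.f110818 IH) (Lpr_cf (K71.f103068 IH) (Lpe (f103280 IH) (Lpn (LP (LK LD1_c9 LD2_c16 LD3_c18))))))
theorem f103382 : Led Lsl_ct (LP (LK LD1_c27 LD2_c2 LD3_c12)) = (LP (LK LD1_c17 LD2_c10 LD3_c50)) :=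
  Lre_c IH (LK LD1_c27 LD2_c2 LD3_c12) (LK LD1_c17 LD2_c10 LD3_c50) Lrfl Lrfl
theorem f103430 : Led Lsl_gt (LP (LK LD1_c32 LD2_c19 LD3_c26)) = (LP (LK LD1_c27 LD2_c2 LD3_c12)) :=
  Lre_g IH (LK LD1_c32 LD2_c19 LD3_c26) (LK LD1_c27 LD2_c2 LD3_c12) Lrfl Lrfl
theorem f110592 : Led Lsl_gt (LP (LK LD1_c9 LD2_c26 LD3_c29)) = (LP (LK LD1_c17 LD2_c11 LD3_c6)) :=
  Lgr Lrot5 (Lpr_ft (K7.f99026 IH) (Lpr_at (K37.f110580 IH) (Lpe (f110591 IH) (Lpn (LP (LK LD1_c17 LD2_c11 LD3_c6))))))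
theorem f99041 : Led Lsl_dt (LP (LK LD1_c17 LD2_c24 LD3_c31)) = (LP (LK LD1_c9 LD2_c26 LD3_c29)) :=
  Lre_d IH (LK LD1_c17 LD2_c24 LD3_c31) (LK LD1_c9 LD2_c26 LD3_c29) Lrfl Lrfl
theorem f110528 : Led Lsl_gt (LP (LK LD1_c27 LD2_c2 LD3_c23)) = (LP (LK LD1_c17 LD2_c11 LD3_c7)) :=
  Lre_g IH (LK LD1_c27 LD2_c2 LD3_c23) (LK LD1_c17 LD2_c11 LD3_c7) Lrfl Lrfl
theorem f110628 : Led Lsl_gt (LP (LK LD1_c17 LD2_c24 LD3_c31)) = (LP (LK LD1_c27 LD2_c2 LD3_c23)) :=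
  Lgr Lrot5 (Lpr_ft (K37.f99046 IH) (Lpr_at (K37.f110616 IH) (Lpe (f110528 IH) (Lpn (LP (LK LD1_c27 LD2_c2 LD3_c23))))))
theorem f981863 : Led Lsl_cf (LP (LK LD1_c32 LD2_c19 LD3_c26)) = (LP (LK LD1_c27 LD2_c2 LD3_c23)) :=
  Lgr Lrot169 (Lpr_gt (f103430 IH) (Lpr_ct (f103382 IH) (Lpe (K24.f103273 IH) (Lpe (f110823 IH) (Lpr_gf (f904838 IH) (Lpr_cf (f981862 IH) (Lpe (f110592 IH) (Lpe (f99041 IH) (Lpr_gt (f110628 IH) (Lpn (LP (LK LD1_c27 LD2_c2 LD3_c23))))))))))))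
theorem f981864 : Led Lsl_ct (LP (LK LD1_c27 LD2_c2 LD3_c23)) = (LP (LK LD1_c32 LD2_c19 LD3_c26)) :=
  Leop (Lpr_cf (f981863 IH) (Lpn (LP (LK LD1_c27 LD2_c2 LD3_c23))))
theorem seed_3077 : LEOK LG_c (LK LD1_c27 LD2_c2 LD3_c23) :=
  Leoe_c (LK LD1_c27 LD2_c2 LD3_c23) (f981864 IH)
theorem f208656 : Led Lsl_ft (LP (LK LD1_c9 LD2_c8 LD3_c3)) = (LP (LK LD1_c17 LD2_c0 LD3_c28)) :=
  Lre_f IH (LK LD1_c9 LD2_c8 LD3_c3) (LK LD1_c17 LD2_c0 LD3_c28) Lrfl Lrfl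
theorem f981849 : Led Lsl_bt (LP (LK LD1_c17 LD2_c0 LD3_c28)) = (LP (LK LD1_c16 LD2_c32 LD3_c52)) :=
  Lgr Lrot35 (Lpe (f208656 IH) (Lpr_bf (K71.f150042 IH) (Lpr_ff (f981847 IH) (Lpn (LP (LK LD1_c16 LD2_c32 LD3_c52))))))
theorem f208654 : Led Lsl_ef (LP (LK LD1_c17 LD2_c0 LD3_c28)) = (LP (LK LD1_c11 LD2_c33 LD3_c27)) :=
  Lgr Lrot88 (Lpr_et (K71.f208648 IH) (Lpn (LP (LK LD1_c11 LD2_c33 LD3_c27))))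
theorem f104574 : Led Lsl_ct (LP (LK LD1_c20 LD2_c30 LD3_c40)) = (LP (LK LD1_c11 LD2_c33 LD3_c27)) :=
  Lre_c IH (LK LD1_c20 LD2_c30 LD3_c40) (LK LD1_c11 LD2_c33 LD3_c27) Lrfl Lrfl
theorem f104371 : Led Lsl_ef (LP (LK LD1_c20 LD2_c30 LD3_c40)) = (LP (LK LD1_c17 LD2_c18 LD3_c35)) :=
  Lgr Lrot21 (Lpr_ft (K71.f104368 IH) (Lpr_et (K6.f104353 IH) (Lpr_ft (K6.f104366 IH) (Lpr_et (K71.f104369 IH) (Lpr_ft (K6.f104370 IH) (Lpn (LP (LK LD1_c17 LD2_c18 LD3_c35))))))))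
theorem f208659 : Led Lsl_ct (LP (LK LD1_c17 LD2_c0 LD3_c28)) = (LP (LK LD1_c17 LD2_c18 LD3_c35)) :=
  Lgr Lrot15 (Lpr_ef (f208654 IH) (Lpe (f104574 IH) (Lpr_ef (f104371 IH) (Lpn (LP (LK LD1_c17 LD2_c18 LD3_c35))))))
theorem f104403 : Led Lsl_at (LP (LK LD1_c20 LD2_c30 LD3_c10)) = (LP (LK LD1_c17 LD2_c18 LD3_c35)) :=
  Lgr Lrot100 (Lpr_af (K6.f104393 IH) (Lpn (LP (LK LD1_c17 LD2_c18 LD3_c35))))
theorem f104507 : Led Lsl_ft (LP (LK LD1_c11 LD2_c33 LD3_c2)) = (LP (LK LD1_c20 LD2_c30 LD3_c10)) :=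
  Lre_f IH (LK LD1_c11 LD2_c33 LD3_c2) (LK LD1_c20 LD2_c30 LD3_c10) Lrfl Lrfl
theorem f72332 : Led Lsl_gt (LP (LK LD1_c11 LD2_c33 LD3_c2)) = (LP (LK LD1_c20 LD2_c30 LD3_c8)) :=
  Lre_g IH (LK LD1_c11 LD2_c33 LD3_c2) (LK LD1_c20 LD2_c30 LD3_c8) Lrfl Lrfl
theorem f104508 : Led Lsl_gt (LP (LK LD1_c20 LD2_c30 LD3_c8)) = (LP (LK LD1_c17 LD2_c18 LD3_c35)) :=
  Lgr Lrot46 (Lpe (f72332 IH) (Lpr_ft (f104507 IH) (Lpr_at (f104403 IH) (Lpn (LP (LK LD1_c17 LD2_c18 LD3_c35))))))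
theorem f696711 : Led Lsl_at (LP (LK LD1_c8 LD2_c50 LD3_c51)) = (LP (LK LD1_c16 LD2_c32 LD3_c10)) :=
  Lre_a IH (LK LD1_c8 LD2_c50 LD3_c51) (LK LD1_c16 LD2_c32 LD3_c10) Lrfl Lrfl
theorem f877717 : Led Lsl_gt (LP (LK LD1_c12 LD2_c6 LD3_c17)) = (LP (LK LD1_c16 LD2_c32 LD3_c10)) :=
  Lgr Lrot46 (Lpe (f719197 IH) (Lpr_ft (K69.f877710 IH) (Lpr_at (f696711 IH) (Lpn (LP (LK LD1_c16 LD2_c32 LD3_c10))))))
def v37348 : LQ := Led Lsl_at (LP (LK LD1_c8 LD2_c51 LD3_c27))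
theorem f894196 : Led Lsl_at (LP (LK LD1_c8 LD2_c51 LD3_c27)) = v37348 :=
  Lrfl
theorem f444832 : Led Lsl_bt (LP (LK LD1_c4 LD2_c26 LD3_c52)) = (LP (LK LD1_c8 LD2_c51 LD3_c27)) :=
  Lre_b IH (LK LD1_c4 LD2_c26 LD3_c52) (LK LD1_c8 LD2_c51 LD3_c27) Lrfl Lrfl
def v12686 : LQ := Led Lsl_at (LP (LK LD1_c4 LD2_c26 LD3_c52))
theorem f697614 : Led Lsl_at (LP (LK LD1_c4 LD2_c26 LD3_c52)) = v12686 :=
  Lrfl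
theorem f697615 : Led Lsl_af (LP (LK LD1_c4 LD2_c26 LD3_c52)) = v12686 :=
  Lgr Lrot0 (Lpr_at (f697614 IH) (Lpn v12686))
theorem f697616 : Led Lsl_cf K67.v12310 = v12686 :=
  Lgr Lrot1 (Lpe (K67.f689302 IH) (Lpr_ct (K37.f444830 IH) (Lpr_at (f697614 IH) (Lpn v12686))))
theorem f697618 : Led Lsl_ft (LP (LK LD1_c4 LD2_c26 LD3_c53)) = v12686 :=
  Lgr Lrot4 (Lpr_cf (K37.f35702 IH) (Lpr_ff (K67.f689306 IH) (Lpr_cf (f697616 IH) (Lpn v12686))))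
theorem f877121 : (LP (LK LD1_c4 LD2_c26 LD3_c39)) = v12686 :=
  Lefun (Lecon (Lfl_ff (K68.f696715 IH)) (K68.f877104 IH)) (f697618 IH)
theorem f16459 : Led Lsl_bt (LP (LK LD1_c8 LD2_c50 LD3_c51)) = (LP (LK LD1_c4 LD2_c26 LD3_c39)) :=
  Lre_b IH (LK LD1_c8 LD2_c50 LD3_c51) (LK LD1_c4 LD2_c26 LD3_c39) Lrfl Lrfl
theorem f894198 : Led Lsl_bf (LP (LK LD1_c16 LD2_c32 LD3_c10)) = v37348 :=
  Lgr Lrot81 (Lpr_at (K69.f696706 IH) (Lpr_bt (f16459 IH) (Lpqs (f877121 IH) (Lpe (f697615 IH) (Lpr_bt (f444832 IH) (Lpr_at (f894196 IH) (Lpn v37348)))))))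
theorem f981868 : Led Lsl_cf (LP (LK LD1_c20 LD2_c30 LD3_c8)) = v37348 :=
  Lgr Lrot160 (Lpr_gt (f104508 IH) (Lpe (f208659 IH) (Lpr_bt (f981849 IH) (Lpr_gt (f981819 IH) (Lpe (f981817 IH) (Lpr_gt (f420626 IH) (Lpe (f420623 IH) (Lpr_bt (f420621 IH) (Lpr_gt (f877717 IH) (Lpr_bf (f894198 IH) (Lpn v37348)))))))))))
def v37327 : LQ := Led Lsl_gt (LP (LK LD1_c8 LD2_c50 LD3_c54))
theorem f894055 : Led Lsl_gt (LP (LK LD1_c8 LD2_c50 LD3_c54)) = v37327 :=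
  Lrfl
theorem f894200 : Led Lsl_gt v37327 = v37348 :=
  Lgr Lrot46 (Lpe (f894055 IH) (Lpe (K71.f877744 IH) (Lpr_at (f894196 IH) (Lpn v37348))))
theorem f76359 : Led Lsl_gt (LP (LK LD1_c5 LD2_c54 LD3_c5)) = (LP (LK LD1_c11 LD2_c33 LD3_c58)) :=
  Lre_g IH (LK LD1_c5 LD2_c54 LD3_c5) (LK LD1_c11 LD2_c33 LD3_c58) Lrfl Lrfl
theorem f70686 : Led Lsl_et (LP (LK LD1_c26 LD2_c28 LD3_c60)) = (LP (LK LD1_c16 LD2_c32 LD3_c20)) :=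
  Lre_e IH (LK LD1_c26 LD2_c28 LD3_c60) (LK LD1_c16 LD2_c32 LD3_c20) Lrfl Lrfl
theorem f70708 : Led Lsl_dt (LP (LK LD1_c26 LD2_c28 LD3_c60)) = (LP (LK LD1_c32 LD2_c9 LD3_c30)) :=
  Lre_d IH (LK LD1_c26 LD2_c28 LD3_c60) (LK LD1_c32 LD2_c9 LD3_c30) Lrfl Lrfl
def v48629 : LQ := Led Lsl_gf (LP (LK LD1_c11 LD2_c33 LD3_c2))
theorem f966563 : Led Lsl_gf (LP (LK LD1_c11 LD2_c33 LD3_c2)) = v48629 :=
  Lrfl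
theorem f104385 : Led Lsl_af (LP (LK LD1_c11 LD2_c33 LD3_c2)) = (LP (LK LD1_c9 LD2_c22 LD3_c15)) :=
  Lgr Lrot0 (Lpr_at (K6.f104383 IH) (Lpn (LP (LK LD1_c9 LD2_c22 LD3_c15))))
theorem f966564 : Led Lsl_gt (LP (LK LD1_c17 LD2_c18 LD3_c35)) = v48629 :=
  Lgr Lrot5 (Lpr_ft (K71.f104363 IH) (Lpe (f104385 IH) (Lpr_gf (f966563 IH) (Lpn v48629))))
theorem f443779 : Led Lsl_bt (LP (LK LD1_c4 LD2_c26 LD3_c44)) = (LP (LK LD1_c8 LD2_c51 LD3_c4)) :=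
  Lre_b IH (LK LD1_c4 LD2_c26 LD3_c44) (LK LD1_c8 LD2_c51 LD3_c4) Lrfl Lrfl
theorem f16559 : Led Lsl_bt (LP (LK LD1_c8 LD2_c50 LD3_c54)) = (LP (LK LD1_c4 LD2_c26 LD3_c40)) :=
  Lre_b IH (LK LD1_c8 LD2_c50 LD3_c54) (LK LD1_c4 LD2_c26 LD3_c40) Lrfl Lrfl
theorem f981869 : v48629 = (LP (LK LD1_c16 LD2_c32 LD3_c20)) :=
  (Llr Lrot65 (Lpe (f966564 IH) (Lpe (f208659 IH) (Lpr_bt (f981849 IH) (Lpe (f697341 IH) (Lpe (f443779 IH) (Lpr_ct (K37.f408174 IH) (Lpe (K8.f69509 IH) (Lpe (K1.f16330 IH) (Lpe (K37.f16504 IH) (Lpe (f16559 IH) (Lpr_ct (K71.f16560 IH) (Lpn (LP (LK LD1_c16 LD2_c32 LD3_c20))))))))))))))).symm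
theorem f408110 : Led Lsl_dt (LP (LK LD1_c26 LD2_c23 LD3_c41)) = (LP (LK LD1_c32 LD2_c8 LD3_c21)) :=
  Lre_d IH (LK LD1_c26 LD2_c23 LD3_c41) (LK LD1_c32 LD2_c8 LD3_c21) Lrfl Lrfl
theorem f981899 : Led Lsl_gf (LP (LK LD1_c32 LD2_c9 LD3_c30)) = (LP (LK LD1_c32 LD2_c8 LD3_c21)) :=
  Lgr Lrot134 (Lpe (f70708 IH) (Lpr_et (f70686 IH) (Lpq (f981869 IH) (Lpe (f966563 IH) (Lpe (K6.f104382 IH) (Lpr_dt (K6.f104380 IH) (Lpe (K43.f138400 IH) (Lpe (K8.f70872 IH) (Lpr_et (K43.f71191 IH) (Lpe (K43.f408106 IH) (Lpr_dt (f408110 IH) (Lpn (LP (LK LD1_c32 LD2_c8 LD3_c21))))))))))))))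
theorem f70701 : Led Lsl_dt (LP (LK LD1_c32 LD2_c9 LD3_c30)) = (LP (LK LD1_c26 LD2_c28 LD3_c60)) :=
  Lre_d IH (LK LD1_c32 LD2_c9 LD3_c30) (LK LD1_c26 LD2_c28 LD3_c60) Lrfl Lrfl
theorem f70698 : Led Lsl_ct (LP (LK LD1_c26 LD2_c28 LD3_c60)) = (LP (LK LD1_c16 LD2_c32 LD3_c22)) :=
  Lre_c IH (LK LD1_c26 LD2_c28 LD3_c60) (LK LD1_c16 LD2_c32 LD3_c22) Lrfl Lrfl
theorem f70565 : Led Lsl_bt (LP (LK LD1_c16 LD2_c32 LD3_c22)) = (LP (LK LD1_c8 LD2_c50 LD3_c56)) :=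
  Lre_b IH (LK LD1_c16 LD2_c32 LD3_c22) (LK LD1_c8 LD2_c50 LD3_c56) Lrfl Lrfl
theorem f70566 : Led Lsl_bt (LP (LK LD1_c16 LD2_c28 LD3_c47)) = (LP (LK LD1_c26 LD2_c25 LD3_c51)) :=
  Lre_b IH (LK LD1_c16 LD2_c28 LD3_c47) (LK LD1_c26 LD2_c25 LD3_c51) Lrfl Lrfl
theorem f70567 : Led Lsl_df (LP (LK LD1_c16 LD2_c32 LD3_c22)) = (LP (LK LD1_c26 LD2_c25 LD3_c51)) :=
  Lgr Lrot12 (Lpr_bt (f70565 IH) (Lpr_dt (K37.f70563 IH) (Lpr_bt (f70566 IH) (Lpn (LP (LK LD1_c26 LD2_c25 LD3_c51))))))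
theorem f72171 : Led Lsl_ct (LP (LK LD1_c9 LD2_c8 LD3_c11)) = (LP (LK LD1_c17 LD2_c0 LD3_c37)) :=
  Lre_c IH (LK LD1_c9 LD2_c8 LD3_c11) (LK LD1_c17 LD2_c0 LD3_c37) Lrfl Lrfl
theorem f981901 : Led Lsl_gf (LP (LK LD1_c26 LD2_c25 LD3_c51)) = (LP (LK LD1_c22 LD2_c53 LD3_c5)) :=
  Lgr Lrot143 (Lpe (f70567 IH) (Lpe (f70698 IH) (Lpe (f70701 IH) (Lpr_gf (f981899 IH) (Lpe (f408110 IH) (Lpr_gf (K43.f408106 IH) (Lpe (f72171 IH) (Lpr_gt (K37.f72172 IH) (Lpe (K63.f577019 IH) (Lpn (LP (LK LD1_c22 LD2_c53 LD3_c5))))))))))))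
theorem f70591 : Led Lsl_bt (LP (LK LD1_c8 LD2_c50 LD3_c56)) = (LP (LK LD1_c16 LD2_c32 LD3_c22)) :=
  Lre_b IH (LK LD1_c8 LD2_c50 LD3_c56) (LK LD1_c16 LD2_c32 LD3_c22) Lrfl Lrfl
theorem f70592 : Led Lsl_bt (LP (LK LD1_c26 LD2_c25 LD3_c51)) = (LP (LK LD1_c16 LD2_c28 LD3_c47)) :=
  Lre_b IH (LK LD1_c26 LD2_c25 LD3_c51) (LK LD1_c16 LD2_c28 LD3_c47) Lrfl Lrfl
theorem f70593 : Led Lsl_dt (LP (LK LD1_c16 LD2_c32 LD3_c22)) = (LP (LK LD1_c26 LD2_c25 LD3_c51)) :=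
  Lgr Lrot79 (Lpe (f70591 IH) (Lpr_df (K37.f70569 IH) (Lpe (f70592 IH) (Lpn (LP (LK LD1_c26 LD2_c25 LD3_c51))))))
theorem f70706 : Led Lsl_et (LP (LK LD1_c16 LD2_c32 LD3_c22)) = (LP (LK LD1_c8 LD2_c50 LD3_c54)) :=
  Lre_e IH (LK LD1_c16 LD2_c32 LD3_c22) (LK LD1_c8 LD2_c50 LD3_c54) Lrfl Lrfl
theorem f81934 : Led Lsl_et (LP (LK LD1_c5 LD2_c54 LD3_c5)) = (LP (LK LD1_c2 LD2_c53 LD3_c25)) :=
  Lre_e IH (LK LD1_c5 LD2_c54 LD3_c5) (LK LD1_c2 LD2_c53 LD3_c25) Lrfl Lrfl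
theorem f901188 : Led Lsl_et (LP (LK LD1_c29 LD2_c29 LD3_c16)) = (LP (LK LD1_c22 LD2_c14 LD3_c33)) :=
  Lgr Lrot121 (Lpr_dt (K69.f901178 IH) (Lpe (K69.f81939 IH) (Lpe (K69.f81873 IH) (Lpr_et (f81934 IH) (Lpr_gf (K11.f137508 IH) (Lpe (K37.f137504 IH) (Lpr_dt (K37.f137505 IH) (Lpe (K37.f75668 IH) (Lpe (K37.f438178 IH) (Lpe (K63.f611783 IH) (Lpn (LP (LK LD1_c22 LD2_c14 LD3_c33)))))))))))))
theorem f981903 : v37327 = (LP (LK LD1_c5 LD2_c54 LD3_c5)) :=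
  (Llr Lrot137 (Lpe (f894055 IH) (Lpe (f70706 IH) (Lpr_dt (f70593 IH) (Lpr_gf (f981901 IH) (Lpr_df (K63.f577019 IH) (Lpr_et (K61.f438184 IH) (Lpe (K63.f611783 IH) (Lpe (f901188 IH) (Lpr_dt (K69.f901178 IH) (Lpe (K69.f81939 IH) (Lpe (K69.f81873 IH) (Lpn (LP (LK LD1_c5 LD2_c54 LD3_c5))))))))))))))).symm
theorem f981904 : v37348 = (LP (LK LD1_c11 LD2_c33 LD3_c58)) :=
  Lefun (Lecon (f894200 IH) (f981903 IH)) (f76359 IH)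
def v48700 : LQ := Led Lsl_bt (LP (LK LD1_c11 LD2_c33 LD3_c58))
theorem f966924 : Led Lsl_bt (LP (LK LD1_c11 LD2_c33 LD3_c58)) = v48700 :=
  Lrfl
theorem f981920 : (LP (LK LD1_c16 LD2_c32 LD3_c10)) = v48700 :=
  Lefun (Lecon (Lfl_bf (f894198 IH)) (f981904 IH)) (f966924 IH)
def v40909 : LQ := Led Lsl_gf (LP (LK LD1_c9 LD2_c48 LD3_c52))
theorem f921070 : Led Lsl_gf (LP (LK LD1_c9 LD2_c48 LD3_c52)) = v40909 :=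
  Lrfl
theorem f75491 : Led Lsl_ft (LP (LK LD1_c9 LD2_c49 LD3_c24)) = (LP (LK LD1_c4 LD2_c59 LD3_c28)) :=
  Lre_f IH (LK LD1_c9 LD2_c49 LD3_c24) (LK LD1_c4 LD2_c59 LD3_c28) Lrfl Lrfl
theorem f921071 : Led Lsl_gt (LP (LK LD1_c9 LD2_c49 LD3_c24)) = v40909 :=
  Lgr Lrot5 (Lpr_ft (f75491 IH) (Lpr_at (K69.f499345 IH) (Lpr_gf (f921070 IH) (Lpn v40909))))
theorem f437486 : Led Lsl_ct (LP (LK LD1_c5 LD2_c48 LD3_c50)) = (LP (LK LD1_c11 LD2_c27 LD3_c6)) :=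
  Lre_c IH (LK LD1_c5 LD2_c48 LD3_c50) (LK LD1_c11 LD2_c27 LD3_c6) Lrfl Lrfl
theorem f30791 : Led Lsl_dt (LP (LK LD1_c8 LD2_c2 LD3_c30)) = (LP (LK LD1_c15 LD2_c8 LD3_c20)) :=
  Lre_d IH (LK LD1_c8 LD2_c2 LD3_c30) (LK LD1_c15 LD2_c8 LD3_c20) Lrfl Lrfl
theorem f30794 : Led Lsl_gt (LP (LK LD1_c15 LD2_c8 LD3_c19)) = (LP (LK LD1_c8 LD2_c2 LD3_c30)) :=
  Lre_g IH (LK LD1_c15 LD2_c8 LD3_c19) (LK LD1_c8 LD2_c2 LD3_c30) Lrfl Lrfl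
theorem f921073 : Led Lsl_ct (LP (LK LD1_c15 LD2_c8 LD3_c19)) = v40909 :=
  Lgr Lrot8 (Lpr_gt (f30794 IH) (Lpr_dt (f30791 IH) (Lpr_gt (K55.f719284 IH) (Lpr_dt (K55.f57634 IH) (Lpe (f437486 IH) (Lpe (K51.f623183 IH) (Lpr_gf (K48.f640533 IH) (Lpq (K48.f669344 IH) (Lpe (K48.f104903 IH) (Lpr_gf (f921070 IH) (Lpn v40909)))))))))))
theorem f72353 : Led Lsl_gt (LP (LK LD1_c11 LD2_c33 LD3_c4)) = (LP (LK LD1_c5 LD2_c53 LD3_c32)) :=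
  Lre_g IH (LK LD1_c11 LD2_c33 LD3_c4) (LK LD1_c5 LD2_c53 LD3_c32) Lrfl Lrfl
def v48633 : LQ := Led Lsl_bt (LP (LK LD1_c11 LD2_c33 LD3_c4))
theorem f966578 : Led Lsl_bt (LP (LK LD1_c11 LD2_c33 LD3_c4)) = v48633 :=
  Lrfl
theorem f966579 : Led Lsl_bf (LP (LK LD1_c11 LD2_c33 LD3_c4)) = v48633 :=
  Lgr Lrot24 (Lpr_bt (f966578 IH) (Lpn v48633))
theorem f981966 : (LP (LK LD1_c15 LD2_c8 LD3_c19)) = v48633 :=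
  (Llr Lrot58 (Lpr_ct (f921073 IH) (Lpe (f921071 IH) (Lpe (K53.f613973 IH) (Lpr_bt (K53.f614002 IH) (Lpe (K69.f894213 IH) (Lpqs (f981920 IH) (Lpe (f966924 IH) (Lpq (f981904 IH) (Lpe (f981868 IH) (Lpe (f72332 IH) (Lpe (K71.f72330 IH) (Lpe (f72353 IH) (Lpr_bf (f966579 IH) (Lpn v48633))))))))))))))).symm
theorem f981967 : Led Lsl_bt (LP (LK LD1_c15 LD2_c8 LD3_c19)) = (LP (LK LD1_c11 LD2_c33 LD3_c4)) :=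
  Leop (Lpr_bf (f966579 IH) (Lpq (f981966 IH) (Lpn (LP (LK LD1_c15 LD2_c8 LD3_c19)))))
theorem seed_3078 : LEOK LG_b (LK LD1_c15 LD2_c8 LD3_c19) :=
  Leoe_b (LK LD1_c15 LD2_c8 LD3_c19) (f981967 IH)
theorem f894212 : Led Lsl_gf K75.v37325 = K69.v37349 :=
  Lgr Lrot47 (Lpe (K75.f894047 IH) (Lpe (K69.f696706 IH) (Lpr_ff (K69.f894208 IH) (Lpn K69.v37349))))
theorem f427425 : Led Lsl_gt (LP (LK LD1_c16 LD2_c28 LD3_c13)) = (LP (LK LD1_c8 LD2_c48 LD3_c8)) :=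
  Lre_g IH (LK LD1_c16 LD2_c28 LD3_c13) (LK LD1_c8 LD2_c48 LD3_c8) Lrfl Lrfl
theorem f963647 : K69.v37349 = (LP (LK LD1_c16 LD2_c28 LD3_c13)) :=
  Lefun (Lecon (f894212 IH) (K75.f963644 IH)) (Lfl_gt (f427425 IH))
theorem f894204 : Led Lsl_bt (LP (LK LD1_c16 LD2_c32 LD3_c10)) = v37348 :=
  Lgr Lrot127 (Lpr_bf (f894198 IH) (Lpn v37348))
theorem f696718 : Led Lsl_at (LP (LK LD1_c16 LD2_c32 LD3_c19)) = (LP (LK LD1_c8 LD2_c50 LD3_c54)) :=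
  Lre_a IH (LK LD1_c16 LD2_c32 LD3_c19) (LK LD1_c8 LD2_c50 LD3_c54) Lrfl Lrfl
theorem f894199 : Led Lsl_ff (LP (LK LD1_c16 LD2_c32 LD3_c19)) = v37348 :=
  Lgr Lrot30 (Lpr_at (f696718 IH) (Lpe (K71.f877744 IH) (Lpr_at (f894196 IH) (Lpn v37348))))
theorem f894210 : Led Lsl_bt (LP (LK LD1_c16 LD2_c32 LD3_c19)) = K69.v37349 :=
  Lgr Lrot35 (Lpr_ff (f894199 IH) (Lpe (f894204 IH) (Lpr_ff (K69.f894208 IH) (Lpn K69.v37349))))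
theorem f70618 : Led Lsl_ct (LP (LK LD1_c16 LD2_c32 LD3_c20)) = (LP (LK LD1_c8 LD2_c50 LD3_c54)) :=
  Lre_c IH (LK LD1_c16 LD2_c32 LD3_c20) (LK LD1_c8 LD2_c50 LD3_c54) Lrfl Lrfl
theorem f877751 : Led Lsl_ft (LP (LK LD1_c16 LD2_c33 LD3_c32)) = (LP (LK LD1_c16 LD2_c32 LD3_c20)) :=
  Lgr Lrot4 (Lpe (K71.f16442 IH) (Lpr_ff (K71.f877744 IH) (Lpe (f70618 IH) (Lpn (LP (LK LD1_c16 LD2_c32 LD3_c20))))))
theorem f103108 : Led Lsl_gt (LP (LK LD1_c17 LD2_c18 LD3_c33)) = (LP (LK LD1_c9 LD2_c22 LD3_c15)) :=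
  Lre_g IH (LK LD1_c17 LD2_c18 LD3_c33) (LK LD1_c9 LD2_c22 LD3_c15) Lrfl Lrfl
theorem f104395 : Led Lsl_gt (LP (LK LD1_c20 LD2_c30 LD3_c10)) = (LP (LK LD1_c17 LD2_c18 LD3_c33)) :=
  Lgr Lrot5 (Lpr_ft (K6.f104392 IH) (Lpr_at (K6.f104383 IH) (Lpe (f103108 IH) (Lpn (LP (LK LD1_c17 LD2_c18 LD3_c33))))))
theorem f920304 : Led Lsl_at (LP (LK LD1_c16 LD2_c32 LD3_c20)) = (LP (LK LD1_c17 LD2_c18 LD3_c33)) :=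
  Lgr Lrot26 (Lpe (f877751 IH) (Lpq (K71.f920301 IH) (Lpe (K71.f908644 IH) (Lpr_gt (f104395 IH) (Lpn (LP (LK LD1_c17 LD2_c18 LD3_c33)))))))
theorem f920312 : Led Lsl_et (LP (LK LD1_c17 LD2_c18 LD3_c33)) = (LP (LK LD1_c27 LD2_c8 LD3_c16)) :=
  Lre_e IH (LK LD1_c17 LD2_c18 LD3_c33) (LK LD1_c27 LD2_c8 LD3_c16) Lrfl Lrfl
theorem f920313 : Led Lsl_af (LP (LK LD1_c26 LD2_c28 LD3_c60)) = (LP (LK LD1_c27 LD2_c8 LD3_c16)) :=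
  Lgr Lrot50 (Lpr_et (f70686 IH) (Lpr_at (f920304 IH) (Lpr_et (f920312 IH) (Lpn (LP (LK LD1_c27 LD2_c8 LD3_c16))))))
theorem f70707 : Led Lsl_at (LP (LK LD1_c16 LD2_c32 LD3_c22)) = (LP (LK LD1_c26 LD2_c28 LD3_c58)) :=
  Lre_a IH (LK LD1_c16 LD2_c32 LD3_c22) (LK LD1_c26 LD2_c28 LD3_c58) Lrfl Lrfl
theorem f920317 : Led Lsl_ct (LP (LK LD1_c26 LD2_c28 LD3_c58)) = (LP (LK LD1_c27 LD2_c8 LD3_c16)) :=
  Lgr Lrot111 (Lpe (f70707 IH) (Lpe (f70698 IH) (Lpr_af (f920313 IH) (Lpn (LP (LK LD1_c27 LD2_c8 LD3_c16))))))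
theorem f920319 : Led Lsl_cf (LP (LK LD1_c26 LD2_c28 LD3_c58)) = (LP (LK LD1_c27 LD2_c8 LD3_c16)) :=
  Lgr Lrot11 (Lpr_ct (f920317 IH) (Lpn (LP (LK LD1_c27 LD2_c8 LD3_c16))))
theorem f894194 : Led Lsl_et (LP (LK LD1_c26 LD2_c28 LD3_c58)) = (LP (LK LD1_c16 LD2_c32 LD3_c19)) :=
  Lre_e IH (LK LD1_c26 LD2_c28 LD3_c58) (LK LD1_c16 LD2_c32 LD3_c19) Lrfl Lrfl
theorem f920321 : Led Lsl_ct (LP (LK LD1_c16 LD2_c32 LD3_c19)) = (LP (LK LD1_c17 LD2_c18 LD3_c33)) :=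
  Lgr Lrot15 (Lpe (f894194 IH) (Lpr_cf (f920319 IH) (Lpe (f920312 IH) (Lpn (LP (LK LD1_c17 LD2_c18 LD3_c33))))))
theorem f149169 : Led Lsl_et (LP (LK LD1_c17 LD2_c0 LD3_c21)) = (LP (LK LD1_c11 LD2_c33 LD3_c6)) :=
  Lgr Lrot69 (Lpe (K71.f149060 IH) (Lpe (K7.f149039 IH) (Lpr_ff (K7.f149165 IH) (Lpe (K71.f72347 IH) (Lpe (K71.f72323 IH) (Lpn (LP (LK LD1_c11 LD2_c33 LD3_c6))))))))
theorem f149286 : Led Lsl_ef (LP (LK LD1_c17 LD2_c0 LD3_c21)) = (LP (LK LD1_c11 LD2_c33 LD3_c6)) :=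
  Lgr Lrot88 (Lpr_et (f149169 IH) (Lpn (LP (LK LD1_c11 LD2_c33 LD3_c6))))
theorem f208657 : Led Lsl_at (LP (LK LD1_c17 LD2_c0 LD3_c28)) = (LP (LK LD1_c11 LD2_c33 LD3_c6)) :=
  Lgr Lrot80 (Lpr_ef (f208654 IH) (Lpe (K71.f149055 IH) (Lpr_ef (f149286 IH) (Lpn (LP (LK LD1_c11 LD2_c33 LD3_c6))))))
theorem f37828 : Led Lsl_gt (LP (LK LD1_c9 LD2_c8 LD3_c3)) = (LP (LK LD1_c17 LD2_c0 LD3_c25)) :=
  Lre_g IH (LK LD1_c9 LD2_c8 LD3_c3) (LK LD1_c17 LD2_c0 LD3_c25) Lrfl Lrfl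
theorem f208662 : Led Lsl_gt (LP (LK LD1_c17 LD2_c0 LD3_c25)) = (LP (LK LD1_c11 LD2_c33 LD3_c6)) :=
  Lgr Lrot46 (Lpe (f37828 IH) (Lpr_ft (f208656 IH) (Lpr_at (f208657 IH) (Lpn (LP (LK LD1_c11 LD2_c33 LD3_c6))))))
theorem f563829 : Led Lsl_ct (LP (LK LD1_c17 LD2_c59 LD3_c50)) = (LP (LK LD1_c9 LD2_c49 LD3_c22)) :=
  Lre_c IH (LK LD1_c17 LD2_c59 LD3_c50) (LK LD1_c9 LD2_c49 LD3_c22) Lrfl Lrfl
theorem f963820 : Led Lsl_bf (LP (LK LD1_c17 LD2_c0 LD3_c25)) = (LP (LK LD1_c17 LD2_c59 LD3_c50)) :=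
  Lgr Lrot165 (Lpr_gt (f208662 IH) (Lpr_ct (K71.f72335 IH) (Lpr_gt (f104395 IH) (Lpe (f920321 IH) (Lpr_bt (f894210 IH) (Lpqs (f963647 IH) (Lpr_gt (f427425 IH) (Lpe (K53.f613993 IH) (Lpr_ct (K75.f75489 IH) (Lpr_gt (K52.f75482 IH) (Lpe (f563829 IH) (Lpn (LP (LK LD1_c17 LD2_c59 LD3_c50))))))))))))))
theorem f963822 : Led Lsl_bt (LP (LK LD1_c17 LD2_c0 LD3_c25)) = (LP (LK LD1_c17 LD2_c59 LD3_c50)) :=
  Lgr Lrot127 (Lpr_bf (f963820 IH) (Lpn (LP (LK LD1_c17 LD2_c59 LD3_c50))))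
theorem f76353 : Led Lsl_ct (LP (LK LD1_c5 LD2_c54 LD3_c5)) = (LP (LK LD1_c11 LD2_c33 LD3_c57)) :=
  Lre_c IH (LK LD1_c5 LD2_c54 LD3_c5) (LK LD1_c11 LD2_c33 LD3_c57) Lrfl Lrfl
theorem f76325 : Led Lsl_gt (LP (LK LD1_c11 LD2_c33 LD3_c57)) = (LP (LK LD1_c20 LD2_c31 LD3_c17)) :=
  Lre_g IH (LK LD1_c11 LD2_c33 LD3_c57) (LK LD1_c20 LD2_c31 LD3_c17) Lrfl Lrfl
theorem f982003 : Led Lsl_cf (LP (LK LD1_c20 LD2_c31 LD3_c17)) = (LP (LK LD1_c17 LD2_c0 LD3_c25)) :=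
  Lgr Lrot163 (Lpe (f76325 IH) (Lpe (f76353 IH) (Lpq (f981903 IH) (Lpe (f894055 IH) (Lpe (K71.f70628 IH) (Lpr_ct (K37.f70607 IH) (Lpr_gf (K37.f30105 IH) (Lpe (K1.f29973 IH) (Lpe (K75.f30780 IH) (Lpr_gf (K65.f699092 IH) (Lpe (f963822 IH) (Lpn (LP (LK LD1_c17 LD2_c0 LD3_c25))))))))))))))
theorem f81908 : Led Lsl_gt (LP (LK LD1_c11 LD2_c36 LD3_c33)) = (LP (LK LD1_c5 LD2_c55 LD3_c40)) :=
  Lre_g IH (LK LD1_c11 LD2_c36 LD3_c33) (LK LD1_c5 LD2_c55 LD3_c40) Lrfl Lrfl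
theorem f81909 : Led Lsl_bt (LP (LK LD1_c20 LD2_c34 LD3_c45)) = (LP (LK LD1_c11 LD2_c36 LD3_c33)) :=
  Lre_b IH (LK LD1_c20 LD2_c34 LD3_c45) (LK LD1_c11 LD2_c36 LD3_c33) Lrfl Lrfl
theorem f964209 : Led Lsl_gt (LP (LK LD1_c11 LD2_c43 LD3_c58)) = K76.v48244 :=
  Lgr Lrot5 (Lpr_ft (K40.f75843 IH) (Lpe (K53.f559304 IH) (Lpr_gf (K76.f964208 IH) (Lpn K76.v48244))))
theorem f982016 : Led Lsl_ct (LP (LK LD1_c20 LD2_c34 LD3_c45)) = K76.v48244 :=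
  Lgr Lrot63 (Lpr_bt (f81909 IH) (Lpr_gt (f81908 IH) (Lpe (K6.f81898 IH) (Lpr_ct (f76353 IH) (Lpr_gt (f76325 IH) (Lpr_cf (f982003 IH) (Lpr_bt (f963822 IH) (Lpe (K65.f699092 IH) (Lpe (K53.f618491 IH) (Lpr_gt (f964209 IH) (Lpn K76.v48244)))))))))))
theorem f964213 : Led Lsl_df (LP (LK LD1_c11 LD2_c42 LD3_c11)) = K76.v48244 :=
  Lgr Lrot38 (Lpr_dt (K76.f964211 IH) (Lpn K76.v48244))
theorem f700760 : Led Lsl_et (LP (LK LD1_c5 LD2_c55 LD3_c54)) = (LP (LK LD1_c11 LD2_c36 LD3_c59)) :=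
  Lre_e IH (LK LD1_c5 LD2_c55 LD3_c54) (LK LD1_c11 LD2_c36 LD3_c59) Lrfl Lrfl
theorem f747858 : Led Lsl_bf (LP (LK LD1_c11 LD2_c42 LD3_c11)) = (LP (LK LD1_c11 LD2_c36 LD3_c59)) :=
  Lgr Lrot96 (Lpr_et (K76.f426184 IH) (Lpqs (K55.f747826 IH) (Lpe (K60.f747390 IH) (Lpr_et (f700760 IH) (Lpn (LP (LK LD1_c11 LD2_c36 LD3_c59)))))))
theorem f747860 : Led Lsl_bt (LP (LK LD1_c11 LD2_c42 LD3_c11)) = (LP (LK LD1_c11 LD2_c36 LD3_c59)) :=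
  Lgr Lrot127 (Lpr_bf (f747858 IH) (Lpn (LP (LK LD1_c11 LD2_c36 LD3_c59))))
def v13055 : LQ := Led Lsl_gf (LP (LK LD1_c4 LD2_c38 LD3_c36))
theorem f700755 : Led Lsl_gf (LP (LK LD1_c4 LD2_c38 LD3_c36)) = v13055 :=
  Lrfl
theorem f700756 : Led Lsl_dt (LP (LK LD1_c11 LD2_c36 LD3_c59)) = v13055 :=
  Lgr Lrot136 (Lpr_et (K56.f117003 IH) (Lpe (K55.f161437 IH) (Lpe (K51.f71848 IH) (Lpr_dt (K4.f71845 IH) (Lpr_gf (K8.f161427 IH) (Lpe (K8.f117016 IH) (Lpe (K8.f161435 IH) (Lpe (K76.f26921 IH) (Lpr_dt (K8.f26840 IH) (Lpr_gf (f700755 IH) (Lpn v13055)))))))))))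
theorem f964214 : Led Lsl_bt v13055 = K76.v48244 :=
  Lgr Lrot95 (Lpe (f700756 IH) (Lpe (f747860 IH) (Lpr_df (f964213 IH) (Lpn K76.v48244))))
theorem f425727 : Led Lsl_dt (LP (LK LD1_c5 LD2_c56 LD3_c52)) = (LP (LK LD1_c11 LD2_c39 LD3_c0)) :=
  Lre_d IH (LK LD1_c5 LD2_c56 LD3_c52) (LK LD1_c11 LD2_c39 LD3_c0) Lrfl Lrfl
theorem f700759 : Led Lsl_df (LP (LK LD1_c11 LD2_c36 LD3_c59)) = v13055 :=
  Lgr Lrot38 (Lpr_dt (f700756 IH) (Lpn v13055))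
theorem f747809 : Led Lsl_at (LP (LK LD1_c11 LD2_c39 LD3_c0)) = v13055 :=
  Lgr Lrot51 (Lpe (f425727 IH) (Lpr_af (K56.f747804 IH) (Lpr_df (f700759 IH) (Lpn v13055))))
theorem f758053 : Led Lsl_at (LP (LK LD1_c6 LD2_c16 LD3_c59)) = K57.v17271 :=
  Lgr Lrot66 (Lpr_ff (K69.f758039 IH) (Lpe (K57.f758036 IH) (Lpr_ff (K69.f758052 IH) (Lpn K57.v17271))))
theorem f75856 : Led Lsl_gt (LP (LK LD1_c11 LD2_c43 LD3_c57)) = (LP (LK LD1_c5 LD2_c59 LD3_c41)) :=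
  Lre_g IH (LK LD1_c11 LD2_c43 LD3_c57) (LK LD1_c5 LD2_c59 LD3_c41) Lrfl Lrfl
theorem f559312 : Led Lsl_gt (LP (LK LD1_c17 LD2_c31 LD3_c46)) = (LP (LK LD1_c11 LD2_c43 LD3_c57)) :=
  Lgr Lrot5 (Lpe (K42.f559310 IH) (Lpr_at (K42.f559302 IH) (Lpe (f75856 IH) (Lpn (LP (LK LD1_c11 LD2_c43 LD3_c57))))))
theorem f499387 : Led Lsl_gt (LP (LK LD1_c17 LD2_c59 LD3_c53)) = (LP (LK LD1_c9 LD2_c49 LD3_c23)) :=
  Lre_g IH (LK LD1_c17 LD2_c59 LD3_c53) (LK LD1_c9 LD2_c49 LD3_c23) Lrfl Lrfl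
theorem f743810 : Led Lsl_ct (LP (LK LD1_c11 LD2_c43 LD3_c57)) = (LP (LK LD1_c17 LD2_c59 LD3_c53)) :=
  Lgr Lrot152 (Lpe (f559312 IH) (Lpe (K48.f559314 IH) (Lpr_gt (K55.f501922 IH) (Lpr_ct (K55.f743806 IH) (Lpr_gt (K55.f57095 IH) (Lpr_ct (K74.f57055 IH) (Lpe (K8.f75444 IH) (Lpe (K75.f75489 IH) (Lpe (f499387 IH) (Lpn (LP (LK LD1_c17 LD2_c59 LD3_c53))))))))))))
theorem f743836 : Led Lsl_bt (LP (LK LD1_c11 LD2_c43 LD3_c57)) = (LP (LK LD1_c6 LD2_c16 LD3_c59)) :=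
  Lgr Lrot92 (Lpr_ct (f743810 IH) (Lpr_gt (f499387 IH) (Lpe (K53.f75477 IH) (Lpr_bt (K57.f75473 IH) (Lpr_gt (K57.f75498 IH) (Lpe (K57.f743800 IH) (Lpr_gt (K57.f207170 IH) (Lpe (K35.f207145 IH) (Lpr_bt (K56.f615745 IH) (Lpr_gt (K69.f419076 IH) (Lpn (LP (LK LD1_c6 LD2_c16 LD3_c59)))))))))))))
theorem f964215 : Led Lsl_af (LP (LK LD1_c11 LD2_c43 LD3_c57)) = K76.v48244 :=
  Lgr Lrot36 (Lpr_bt (f743836 IH) (Lpr_at (f758053 IH) (Lpq (K57.f758062 IH) (Lpr_bt (K55.f747535 IH) (Lpr_at (f747809 IH) (Lpr_bt (f964214 IH) (Lpn K76.v48244)))))))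
theorem f982017 : Led Lsl_af (LP (LK LD1_c20 LD2_c34 LD3_c45)) = (LP (LK LD1_c17 LD2_c59 LD3_c53)) :=
  Lgr Lrot68 (Lpr_ct (f982016 IH) (Lpe (f964215 IH) (Lpr_ct (f743810 IH) (Lpn (LP (LK LD1_c17 LD2_c59 LD3_c53))))))
theorem f982018 : Led Lsl_at (LP (LK LD1_c17 LD2_c59 LD3_c53)) = (LP (LK LD1_c20 LD2_c34 LD3_c45)) :=
  Leop (Lpr_af (f982017 IH) (Lpn (LP (LK LD1_c17 LD2_c59 LD3_c53))))
theorem seed_3079 : LEOK LG_a (LK LD1_c17 LD2_c59 LD3_c53) :=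
  Leoe_a (LK LD1_c17 LD2_c59 LD3_c53) (f982018 IH)
theorem f81900 : Led Lsl_ct (LP (LK LD1_c5 LD2_c55 LD3_c40)) = (LP (LK LD1_c11 LD2_c36 LD3_c31)) :=
  Lre_c IH (LK LD1_c5 LD2_c55 LD3_c40) (LK LD1_c11 LD2_c36 LD3_c31) Lrfl Lrfl
theorem f81924 : Led Lsl_gt (LP (LK LD1_c11 LD2_c36 LD3_c31)) = (LP (LK LD1_c20 LD2_c34 LD3_c42)) :=
  Lre_g IH (LK LD1_c11 LD2_c36 LD3_c31) (LK LD1_c20 LD2_c34 LD3_c42) Lrfl Lrfl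
def v17197 : LQ := Led Lsl_bt (LP (LK LD1_c6 LD2_c13 LD3_c34))
theorem f756636 : Led Lsl_bt (LP (LK LD1_c6 LD2_c13 LD3_c34)) = v17197 :=
  Lrfl
theorem f756637 : Led Lsl_bf (LP (LK LD1_c6 LD2_c13 LD3_c34)) = v17197 :=
  Lgr Lrot24 (Lpr_bt (f756636 IH) (Lpn v17197))
theorem f982023 : Led Lsl_cf (LP (LK LD1_c20 LD2_c34 LD3_c42)) = v17197 :=
  Lgr Lrot163 (Lpe (f81924 IH) (Lpe (f81900 IH) (Lpe (f81908 IH) (Lpe (f81909 IH) (Lpr_ct (f982016 IH) (Lpe (f964209 IH) (Lpr_cf (K53.f618491 IH) (Lpr_bt (K40.f30731 IH) (Lpr_gf (K75.f445374 IH) (Lpr_bf (f756637 IH) (Lpn v17197)))))))))))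
def v12678 : LQ := Led Lsl_at (LP (LK LD1_c4 LD2_c26 LD3_c44))
theorem f696730 : Led Lsl_at (LP (LK LD1_c4 LD2_c26 LD3_c44)) = v12678 :=
  Lrfl
theorem f696733 : Led Lsl_cf K50.v4147 = v12678 :=
  Lgr Lrot1 (Lpe (K50.f631459 IH) (Lpr_ct (K37.f443772 IH) (Lpr_at (f696730 IH) (Lpn v12678))))
theorem f696734 : Led Lsl_ct K50.v4147 = v12678 :=
  Lgr Lrot59 (Lpr_cf (f696733 IH) (Lpn v12678))
theorem f696827 : v12678 = (LP (LK LD1_c6 LD2_c13 LD3_c34)) :=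
  Lefun (Lecon (f696734 IH) (K57.f696820 IH)) (K64.f445368 IH)
theorem f696735 : Led Lsl_ft (LP (LK LD1_c4 LD2_c26 LD3_c48)) = v12678 :=
  Lgr Lrot4 (Lpe (K37.f99344 IH) (Lpr_ff (K57.f631463 IH) (Lpr_cf (f696733 IH) (Lpn v12678))))
theorem f99350 : Led Lsl_bt (LP (LK LD1_c8 LD2_c51 LD3_c18)) = (LP (LK LD1_c4 LD2_c26 LD3_c48)) :=
  Lre_b IH (LK LD1_c8 LD2_c51 LD3_c18) (LK LD1_c4 LD2_c26 LD3_c48) Lrfl Lrfl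
theorem f756638 : Led Lsl_ff (LP (LK LD1_c8 LD2_c51 LD3_c18)) = v17197 :=
  Lgr Lrot25 (Lpr_bt (f99350 IH) (Lpr_ft (f696735 IH) (Lpqs (f696827 IH) (Lpr_bt (f756636 IH) (Lpn v17197)))))
theorem f756639 : Led Lsl_ft (LP (LK LD1_c8 LD2_c51 LD3_c18)) = v17197 :=
  Lgr Lrot48 (Lpr_ff (f756638 IH) (Lpn v17197))
theorem f99351 : Led Lsl_ct (LP (LK LD1_c16 LD2_c33 LD3_c14)) = (LP (LK LD1_c8 LD2_c51 LD3_c18)) :=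
  Lre_c IH (LK LD1_c16 LD2_c33 LD3_c14) (LK LD1_c8 LD2_c51 LD3_c18) Lrfl Lrfl
theorem f982026 : Led Lsl_ft (LP (LK LD1_c20 LD2_c34 LD3_c42)) = (LP (LK LD1_c16 LD2_c33 LD3_c14)) :=
  Lgr Lrot4 (Lpr_cf (f982023 IH) (Lpe (f756639 IH) (Lpe (f99351 IH) (Lpn (LP (LK LD1_c16 LD2_c33 LD3_c14))))))
theorem f982027 : Led Lsl_ft (LP (LK LD1_c20 LD2_c34 LD3_c42)) = (LP (LK LD1_c16 LD2_c33 LD3_c14)) :=
  Leop (Lpe (f982026 IH) (Lpn (LP (LK LD1_c20 LD2_c34 LD3_c42))))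
theorem seed_3080 : LEOK LG_f (LK LD1_c20 LD2_c34 LD3_c42) :=
  Leoe_f (LK LD1_c20 LD2_c34 LD3_c42) (f982027 IH)
theorem f982009 : Led Lsl_ct (LP (LK LD1_c20 LD2_c31 LD3_c17)) = (LP (LK LD1_c17 LD2_c0 LD3_c25)) :=
  Lgr Lrot59 (Lpr_cf (f982003 IH) (Lpn (LP (LK LD1_c17 LD2_c0 LD3_c25))))
theorem f711441 : Led Lsl_ct (LP (LK LD1_c21 LD2_c16 LD3_c10)) = (LP (LK LD1_c15 LD2_c5 LD3_c9)) :=
  Lgr Lrot59 (Lpr_cf (K65.f711286 IH) (Lpn (LP (LK LD1_c15 LD2_c5 LD3_c9))))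
theorem f982007 : Led Lsl_bt (LP (LK LD1_c20 LD2_c31 LD3_c17)) = (LP (LK LD1_c21 LD2_c16 LD3_c10)) :=
  Lgr Lrot128 (Lpr_cf (f982003 IH) (Lpr_bf (f963820 IH) (Lpe (K65.f563822 IH) (Lpr_bf (K65.f711445 IH) (Lpe (f711441 IH) (Lpn (LP (LK LD1_c21 LD2_c16 LD3_c10))))))))
theorem f645245 : Led Lsl_ct (LP (LK LD1_c20 LD2_c25 LD3_c23)) = (LP (LK LD1_c17 LD2_c4 LD3_c44)) :=
  Lgr Lrot59 (Lpr_cf (K46.f645228 IH) (Lpn (LP (LK LD1_c17 LD2_c4 LD3_c44))))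
def v17246 : LQ := Led Lsl_gf (LP (LK LD1_c6 LD2_c16 LD3_c43))
theorem f757943 : Led Lsl_gf (LP (LK LD1_c6 LD2_c16 LD3_c43)) = v17246 :=
  Lrfl
theorem f757944 : Led Lsl_gt (LP (LK LD1_c17 LD2_c4 LD3_c44)) = v17246 :=
  Lgr Lrot5 (Lpr_ft (K56.f615740 IH) (Lpr_at (K56.f615736 IH) (Lpr_gf (f757943 IH) (Lpn v17246))))
def v49264 : LQ := Led Lsl_gf (LP (LK LD1_c11 LD2_c42 LD3_c24))
theorem f970107 : Led Lsl_gf (LP (LK LD1_c11 LD2_c42 LD3_c24)) = v49264 :=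
  Lrfl
theorem f207866 : Led Lsl_dt (LP (LK LD1_c9 LD2_c11 LD3_c13)) = (LP (LK LD1_c17 LD2_c4 LD3_c44)) :=
  Lre_d IH (LK LD1_c9 LD2_c11 LD3_c13) (LK LD1_c17 LD2_c4 LD3_c44) Lrfl Lrfl
theorem f970109 : Led Lsl_ct v17246 = v49264 :=
  Lgr Lrot152 (Lpe (f757944 IH) (Lpe (f207866 IH) (Lpqs (K56.f749897 IH) (Lpe (K56.f749890 IH) (Lpr_ct (K56.f749891 IH) (Lpe (K56.f749894 IH) (Lpr_ct (K69.f425755 IH) (Lpe (K75.f149227 IH) (Lpe (K65.f568418 IH) (Lpr_gf (f970107 IH) (Lpn v49264)))))))))))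
theorem f970112 : Led Lsl_cf v17246 = v49264 :=
  Lgr Lrot11 (Lpr_ct (f970109 IH) (Lpn v49264))
theorem f103088 : Led Lsl_gt (LP (LK LD1_c9 LD2_c22 LD3_c24)) = (LP (LK LD1_c4 LD2_c44 LD3_c53)) :=
  Lre_g IH (LK LD1_c9 LD2_c22 LD3_c24) (LK LD1_c4 LD2_c44 LD3_c53) Lrfl Lrfl
theorem f103107 : Led Lsl_bt (LP (LK LD1_c17 LD2_c18 LD3_c54)) = (LP (LK LD1_c9 LD2_c22 LD3_c24)) :=
  Lre_b IH (LK LD1_c17 LD2_c18 LD3_c54) (LK LD1_c9 LD2_c22 LD3_c24) Lrfl Lrfl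
theorem f982099 : v49264 = (LP (LK LD1_c17 LD2_c18 LD3_c54)) :=
  (Llr Lrot163 (Lpe (f970112 IH) (Lpe (f757944 IH) (Lpe (f645245 IH) (Lpr_gf (K65.f645266 IH) (Lpe (f982007 IH) (Lpr_ct (f982009 IH) (Lpe (f37828 IH) (Lpe (K71.f149339 IH) (Lpr_bt (K24.f103100 IH) (Lpe (f103088 IH) (Lpe (f103107 IH) (Lpn (LP (LK LD1_c17 LD2_c18 LD3_c54))))))))))))))).symm
theorem f982100 : Led Lsl_gt (LP (LK LD1_c17 LD2_c18 LD3_c54)) = (LP (LK LD1_c11 LD2_c42 LD3_c24)) :=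
  Leop (Lpr_gf (f970107 IH) (Lpqs (f982099 IH) (Lpn (LP (LK LD1_c17 LD2_c18 LD3_c54)))))
theorem seed_3081 : LEOK LG_g (LK LD1_c17 LD2_c18 LD3_c54) :=
  Leoe_g (LK LD1_c17 LD2_c18 LD3_c54) (f982100 IH)
theorem f756184 : Led Lsl_df (LP (LK LD1_c20 LD2_c23 LD3_c13)) = K57.v15845 :=
  Lgr Lrot78 (Lpr_ft (K70.f756178 IH) (Lpr_dt (K7.f151590 IH) (Lpr_ft (K57.f743873 IH) (Lpn K57.v15845))))
theorem f756196 : Led Lsl_gf (LP (LK LD1_c11 LD2_c59 LD3_c0)) = (LP (LK LD1_c17 LD2_c1 LD3_c27)) :=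
  Lgr Lrot147 (Lpr_ct (K56.f712524 IH) (Lpr_gt (K57.f669444 IH) (Lpe (K70.f756182 IH) (Lpr_df (f756184 IH) (Lpqs (K57.f755497 IH) (Lpe (K57.f613093 IH) (Lpr_gf (K57.f704983 IH) (Lpe (K50.f136292 IH) (Lpe (K56.f136280 IH) (Lpr_df (K56.f642534 IH) (Lpn (LP (LK LD1_c17 LD2_c1 LD3_c27)))))))))))))
theorem f753038 : Led Lsl_et (LP (LK LD1_c11 LD2_c25 LD3_c34)) = (LP (LK LD1_c20 LD2_c22 LD3_c61)) :=
  Lre_e IH (LK LD1_c11 LD2_c25 LD3_c34) (LK LD1_c20 LD2_c22 LD3_c61) Lrfl Lrfl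
theorem f112213 : Led Lsl_et (LP (LK LD1_c20 LD2_c26 LD3_c56)) = (LP (LK LD1_c11 LD2_c29 LD3_c48)) :=
  Lre_e IH (LK LD1_c20 LD2_c26 LD3_c56) (LK LD1_c11 LD2_c29 LD3_c48) Lrfl Lrfl
theorem f753065 : Led Lsl_ct (LP (LK LD1_c20 LD2_c22 LD3_c61)) = (LP (LK LD1_c20 LD2_c26 LD3_c56)) :=
  Lgr Lrot15 (Lpe (f753038 IH) (Lpq (K56.f753031 IH) (Lpr_cf (K57.f753057 IH) (Lpe (f112213 IH) (Lpn (LP (LK LD1_c20 LD2_c26 LD3_c56)))))))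
theorem f753184 : Led Lsl_at (LP (LK LD1_c11 LD2_c59 LD3_c0)) = (LP (LK LD1_c20 LD2_c22 LD3_c61)) :=
  Lgr Lrot107 (Lpr_cf (K75.f712519 IH) (Lpr_af (K57.f753180 IH) (Lpe (f753065 IH) (Lpn (LP (LK LD1_c20 LD2_c22 LD3_c61))))))
theorem f753198 : Led Lsl_af (LP (LK LD1_c11 LD2_c59 LD3_c0)) = (LP (LK LD1_c20 LD2_c22 LD3_c61)) :=
  Lgr Lrot0 (Lpr_at (f753184 IH) (Lpn (LP (LK LD1_c20 LD2_c22 LD3_c61))))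
theorem f445640 : Led Lsl_gt (LP (LK LD1_c26 LD2_c56 LD3_c37)) = (LP (LK LD1_c17 LD2_c1 LD3_c27)) :=
  Lre_g IH (LK LD1_c26 LD2_c56 LD3_c37) (LK LD1_c17 LD2_c1 LD3_c27) Lrfl Lrfl
theorem f756198 : Led Lsl_ff (LP (LK LD1_c20 LD2_c22 LD3_c61)) = (LP (LK LD1_c26 LD2_c56 LD3_c37)) :=
  Lgr Lrot52 (Lpe (f753198 IH) (Lpr_gf (f756196 IH) (Lpe (f445640 IH) (Lpn (LP (LK LD1_c26 LD2_c56 LD3_c37))))))
theorem f756208 : Led Lsl_ft (LP (LK LD1_c20 LD2_c22 LD3_c61)) = (LP (LK LD1_c26 LD2_c56 LD3_c37)) :=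
  Lgr Lrot48 (Lpr_ff (f756198 IH) (Lpn (LP (LK LD1_c26 LD2_c56 LD3_c37))))
theorem f442903 : Led Lsl_bt (LP (LK LD1_c20 LD2_c39 LD3_c59)) = (LP (LK LD1_c11 LD2_c39 LD3_c55)) :=
  Lre_b IH (LK LD1_c20 LD2_c39 LD3_c59) (LK LD1_c11 LD2_c39 LD3_c55) Lrfl Lrfl
theorem f752998 : Led Lsl_ff (LP (LK LD1_c20 LD2_c39 LD3_c59)) = (LP (LK LD1_c11 LD2_c59 LD3_c0)) :=
  Lgr Lrot25 (Lpr_bt (f442903 IH) (Lpr_ft (K70.f752988 IH) (Lpr_bt (K56.f76056 IH) (Lpn (LP (LK LD1_c11 LD2_c59 LD3_c0))))))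
theorem f753002 : Led Lsl_ft (LP (LK LD1_c20 LD2_c39 LD3_c59)) = (LP (LK LD1_c11 LD2_c59 LD3_c0)) :=
  Lgr Lrot48 (Lpr_ff (f752998 IH) (Lpn (LP (LK LD1_c11 LD2_c59 LD3_c0))))
theorem f756210 : Led Lsl_af (LP (LK LD1_c20 LD2_c39 LD3_c59)) = (LP (LK LD1_c26 LD2_c56 LD3_c37)) :=
  Lgr Lrot45 (Lpr_ft (f753002 IH) (Lpr_at (f753184 IH) (Lpr_ft (f756208 IH) (Lpn (LP (LK LD1_c26 LD2_c56 LD3_c37))))))
theorem f66355 : Led Lsl_ct (LP (LK LD1_c20 LD2_c24 LD3_c35)) = (LP (LK LD1_c11 LD2_c26 LD3_c39)) :=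
  Lre_c IH (LK LD1_c20 LD2_c24 LD3_c35) (LK LD1_c11 LD2_c26 LD3_c39) Lrfl Lrfl
theorem f753190 : Led Lsl_ff (LP (LK LD1_c26 LD2_c53 LD3_c61)) = (LP (LK LD1_c20 LD2_c26 LD3_c56)) :=
  Lgr Lrot3 (Lpr_ft (K57.f753186 IH) (Lpn (LP (LK LD1_c20 LD2_c26 LD3_c56))))
theorem f753182 : Led Lsl_at (LP (LK LD1_c20 LD2_c23 LD3_c5)) = (LP (LK LD1_c20 LD2_c26 LD3_c56)) :=
  Lgr Lrot100 (Lpr_af (K57.f753180 IH) (Lpn (LP (LK LD1_c20 LD2_c26 LD3_c56))))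
theorem f669441 : Led Lsl_ft (LP (LK LD1_c29 LD2_c25 LD3_c46)) = (LP (LK LD1_c20 LD2_c23 LD3_c5)) :=
  Lre_f IH (LK LD1_c29 LD2_c25 LD3_c46) (LK LD1_c20 LD2_c23 LD3_c5) Lrfl Lrfl
theorem f753192 : Led Lsl_at (LP (LK LD1_c26 LD2_c53 LD3_c61)) = (LP (LK LD1_c29 LD2_c25 LD3_c46)) :=
  Lgr Lrot66 (Lpr_ff (f753190 IH) (Lpe (f753182 IH) (Lpe (f669441 IH) (Lpn (LP (LK LD1_c29 LD2_c25 LD3_c46))))))
theorem f753000 : Led Lsl_ct (LP (LK LD1_c20 LD2_c39 LD3_c59)) = (LP (LK LD1_c29 LD2_c25 LD3_c46)) :=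
  Lgr Lrot40 (Lpr_ff (f752998 IH) (Lpr_cf (K75.f712519 IH) (Lpe (f669441 IH) (Lpn (LP (LK LD1_c29 LD2_c25 LD3_c46))))))
theorem f442899 : Led Lsl_bt (LP (LK LD1_c2 LD2_c54 LD3_c54)) = (LP (LK LD1_c5 LD2_c57 LD3_c17)) :=
  Lre_b IH (LK LD1_c2 LD2_c54 LD3_c54) (LK LD1_c5 LD2_c57 LD3_c17) Lrfl Lrfl
theorem f545011 : Led Lsl_gf (LP (LK LD1_c11 LD2_c29 LD3_c54)) = (LP (LK LD1_c11 LD2_c30 LD3_c22)) :=
  Lgr Lrot138 (Lpr_dt (K55.f132471 IH) (Lpr_gt (K52.f24129 IH) (Lpr_df (K38.f544993 IH) (Lpr_et (K56.f22370 IH) (Lpr_gt (K38.f3254 IH) (Lpe (K53.f22293 IH) (Lpe (K53.f22234 IH) (Lpr_gt (K50.f22303 IH) (Lpe (K53.f22356 IH) (Lpr_et (K55.f22358 IH) (Lpn (LP (LK LD1_c11 LD2_c30 LD3_c22)))))))))))))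
theorem f615512 : Led Lsl_gt (LP (LK LD1_c11 LD2_c29 LD3_c55)) = (LP (LK LD1_c11 LD2_c26 LD3_c39)) :=
  Lgr Lrot137 (Lpe (K53.f545019 IH) (Lpr_dt (K55.f132467 IH) (Lpr_gf (f545011 IH) (Lpr_df (K55.f615506 IH) (Lpr_et (K55.f112939 IH) (Lpe (K63.f438266 IH) (Lpr_ef (K45.f135916 IH) (Lpr_dt (K7.f66364 IH) (Lpe (K55.f438267 IH) (Lpe (K57.f438268 IH) (Lpn (LP (LK LD1_c11 LD2_c26 LD3_c39)))))))))))))
theorem f66359 : Led Lsl_ct (LP (LK LD1_c11 LD2_c26 LD3_c39)) = (LP (LK LD1_c20 LD2_c24 LD3_c35)) :=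
  Lre_c IH (LK LD1_c11 LD2_c26 LD3_c39) (LK LD1_c20 LD2_c24 LD3_c35) Lrfl Lrfl
theorem f753006 : Led Lsl_gt (LP (LK LD1_c20 LD2_c24 LD3_c35)) = (LP (LK LD1_c29 LD2_c25 LD3_c46)) :=
  Lgr Lrot149 (Lpe (f66359 IH) (Lpe (f615512 IH) (Lpe (K75.f711777 IH) (Lpe (K32.f438584 IH) (Lpr_gf (K32.f446162 IH) (Lpe (K32.f442877 IH) (Lpr_bt (f442899 IH) (Lpe (K53.f442902 IH) (Lpe (f442903 IH) (Lpr_ct (f753000 IH) (Lpn (LP (LK LD1_c29 LD2_c25 LD3_c46)))))))))))))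
theorem f753194 : Led Lsl_gf (LP (LK LD1_c20 LD2_c24 LD3_c35)) = (LP (LK LD1_c20 LD2_c26 LD3_c56)) :=
  Lgr Lrot47 (Lpr_gt (f753006 IH) (Lpe (f753192 IH) (Lpr_ff (f753190 IH) (Lpn (LP (LK LD1_c20 LD2_c26 LD3_c56))))))
theorem f755530 : Led Lsl_gt (LP (LK LD1_c11 LD2_c41 LD3_c54)) = (LP (LK LD1_c20 LD2_c22 LD3_c61)) :=
  Lgr Lrot9 (Lpe (K55.f502693 IH) (Lpr_gt (K55.f502689 IH) (Lpr_ct (K69.f755520 IH) (Lpr_gt (K64.f615553 IH) (Lpr_ct (K57.f615517 IH) (Lpe (K57.f438268 IH) (Lpe (f66355 IH) (Lpr_gf (f753194 IH) (Lpe (f753065 IH) (Lpn (LP (LK LD1_c20 LD2_c22 LD3_c61))))))))))))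
theorem f755534 : Led Lsl_gf (LP (LK LD1_c11 LD2_c41 LD3_c54)) = (LP (LK LD1_c20 LD2_c39 LD3_c59)) :=
  Lgr Lrot47 (Lpr_gt (f755530 IH) (Lpe (f753184 IH) (Lpe (f753002 IH) (Lpn (LP (LK LD1_c20 LD2_c39 LD3_c59))))))
theorem f753004 : Led Lsl_cf (LP (LK LD1_c20 LD2_c39 LD3_c59)) = (LP (LK LD1_c29 LD2_c25 LD3_c46)) :=
  Lgr Lrot108 (Lpr_ft (f753002 IH) (Lpr_ct (K56.f712524 IH) (Lpr_ft (K57.f669442 IH) (Lpn (LP (LK LD1_c29 LD2_c25 LD3_c46))))))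
theorem f755536 : Led Lsl_gf (LP (LK LD1_c20 LD2_c24 LD3_c39)) = (LP (LK LD1_c29 LD2_c25 LD3_c46)) :=
  Lgr Lrot144 (Lpe (K75.f643606 IH) (Lpr_gt (K75.f137173 IH) (Lpr_dt (K41.f66370 IH) (Lpr_cf (K41.f501874 IH) (Lpe (K55.f501897 IH) (Lpe (K55.f502689 IH) (Lpe (K55.f425992 IH) (Lpr_gf (f755534 IH) (Lpr_cf (f753004 IH) (Lpn (LP (LK LD1_c29 LD2_c25 LD3_c46))))))))))))
theorem f755612 : Led Lsl_gt (LP (LK LD1_c20 LD2_c50 LD3_c58)) = (LP (LK LD1_c20 LD2_c39 LD3_c59)) :=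
  Lgr Lrot9 (Lpe (K69.f669771 IH) (Lpr_gt (K64.f741791 IH) (Lpe (K48.f669171 IH) (Lpr_gt (K64.f755610 IH) (Lpr_ct (K64.f615551 IH) (Lpe (K7.f151590 IH) (Lpe (K57.f151720 IH) (Lpr_gf (f755536 IH) (Lpe (f753000 IH) (Lpn (LP (LK LD1_c20 LD2_c39 LD3_c59))))))))))))
theorem f756214 : Led Lsl_gt (LP (LK LD1_c20 LD2_c22 LD3_c61)) = (LP (LK LD1_c20 LD2_c50 LD3_c58)) :=
  Lgr Lrot5 (Lpr_ft (f756208 IH) (Lpe (f756210 IH) (Lpe (f755612 IH) (Lpn (LP (LK LD1_c20 LD2_c50 LD3_c58))))))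
theorem f643029 : Led Lsl_ft (LP (LK LD1_c11 LD2_c41 LD3_c54)) = (LP (LK LD1_c20 LD2_c41 LD3_c61)) :=
  Lre_f IH (LK LD1_c11 LD2_c41 LD3_c54) (LK LD1_c20 LD2_c41 LD3_c61) Lrfl Lrfl
theorem f756216 : Led Lsl_at (LP (LK LD1_c20 LD2_c41 LD3_c61)) = (LP (LK LD1_c20 LD2_c50 LD3_c58)) :=
  Lgr Lrot26 (Lpe (f643029 IH) (Lpr_gt (f755530 IH) (Lpr_gt (f756214 IH) (Lpn (LP (LK LD1_c20 LD2_c50 LD3_c58))))))
theorem f900864 : Led Lsl_df (LP (LK LD1_c20 LD2_c41 LD3_c61)) = (LP (LK LD1_c17 LD2_c31 LD3_c32)) :=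
  Lgr Lrot18 (Lpr_at (f756216 IH) (Lpr_dt (K69.f669770 IH) (Lpr_at (K75.f900767 IH) (Lpn (LP (LK LD1_c17 LD2_c31 LD3_c32))))))
theorem f57335 : Led Lsl_gt (LP (LK LD1_c5 LD2_c48 LD3_c24)) = (LP (LK LD1_c11 LD2_c26 LD3_c14)) :=
  Lre_g IH (LK LD1_c5 LD2_c48 LD3_c24) (LK LD1_c11 LD2_c26 LD3_c14) Lrfl Lrfl
theorem f57336 : Led Lsl_dt (LP (LK LD1_c11 LD2_c26 LD3_c14)) = (LP (LK LD1_c20 LD2_c23 LD3_c52)) :=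
  Lre_d IH (LK LD1_c11 LD2_c26 LD3_c14) (LK LD1_c20 LD2_c23 LD3_c52) Lrfl Lrfl
theorem f900872 : Led Lsl_cf (LP (LK LD1_c20 LD2_c41 LD3_c61)) = (LP (LK LD1_c20 LD2_c23 LD3_c52)) :=
  Lgr Lrot14 (Lpr_df (f900864 IH) (Lpe (K56.f136296 IH) (Lpe (K56.f136279 IH) (Lpe (K76.f136289 IH) (Lpe (K48.f669283 IH) (Lpr_gt (K48.f57240 IH) (Lpr_dt (K69.f57227 IH) (Lpr_gt (f57335 IH) (Lpr_dt (f57336 IH) (Lpn (LP (LK LD1_c20 LD2_c23 LD3_c52))))))))))))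
theorem f643031 : Led Lsl_ft (LP (LK LD1_c20 LD2_c41 LD3_c61)) = (LP (LK LD1_c11 LD2_c41 LD3_c54)) :=
  Lre_f IH (LK LD1_c20 LD2_c41 LD3_c61) (LK LD1_c11 LD2_c41 LD3_c54) Lrfl Lrfl
theorem f643027 : Led Lsl_cf (LP (LK LD1_c16 LD2_c58 LD3_c14)) = (LP (LK LD1_c11 LD2_c41 LD3_c54)) :=
  Lgr Lrot11 (Lpr_ct (K55.f642984 IH) (Lpn (LP (LK LD1_c11 LD2_c41 LD3_c54))))
theorem f900880 : Led Lsl_ft (LP (LK LD1_c16 LD2_c58 LD3_c14)) = (LP (LK LD1_c20 LD2_c23 LD3_c52)) :=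
  Lgr Lrot4 (Lpr_cf (f643027 IH) (Lpe (f643031 IH) (Lpr_cf (f900872 IH) (Lpn (LP (LK LD1_c20 LD2_c23 LD3_c52))))))
theorem f900884 : Led Lsl_ff (LP (LK LD1_c16 LD2_c58 LD3_c14)) = (LP (LK LD1_c20 LD2_c23 LD3_c52)) :=
  Lgr Lrot3 (Lpr_ft (f900880 IH) (Lpn (LP (LK LD1_c20 LD2_c23 LD3_c52))))
theorem f900886 : Led Lsl_ft (LP (LK LD1_c20 LD2_c23 LD3_c23)) = (LP (LK LD1_c11 LD2_c26 LD3_c14)) :=
  Lgr Lrot54 (Lpe (K55.f146590 IH) (Lpr_ff (f900884 IH) (Lpe (f57336 IH) (Lpn (LP (LK LD1_c11 LD2_c26 LD3_c14))))))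
theorem f146487 : Led Lsl_gt (LP (LK LD1_c11 LD2_c25 LD3_c51)) = (LP (LK LD1_c20 LD2_c23 LD3_c22)) :=
  Lre_g IH (LK LD1_c11 LD2_c25 LD3_c51) (LK LD1_c20 LD2_c23 LD3_c22) Lrfl Lrfl
theorem f900892 : Led Lsl_af (LP (LK LD1_c20 LD2_c23 LD3_c22)) = (LP (LK LD1_c11 LD2_c26 LD3_c14)) :=
  Lgr Lrot31 (Lpe (f146487 IH) (Lpe (K55.f146510 IH) (Lpr_ft (f900886 IH) (Lpn (LP (LK LD1_c11 LD2_c26 LD3_c14))))))
theorem f900895 : Led Lsl_at (LP (LK LD1_c20 LD2_c23 LD3_c22)) = (LP (LK LD1_c11 LD2_c26 LD3_c14)) :=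
  Lgr Lrot100 (Lpr_af (f900892 IH) (Lpn (LP (LK LD1_c11 LD2_c26 LD3_c14))))
theorem f900903 : Led Lsl_ff (LP (LK LD1_c20 LD2_c23 LD3_c22)) = (LP (LK LD1_c11 LD2_c26 LD3_c15)) :=
  Lgr Lrot52 (Lpr_at (f900895 IH) (Lpe (f57335 IH) (Lpe (K69.f57339 IH) (Lpn (LP (LK LD1_c11 LD2_c26 LD3_c15))))))
theorem f900909 : Led Lsl_ft (LP (LK LD1_c20 LD2_c23 LD3_c22)) = (LP (LK LD1_c11 LD2_c26 LD3_c15)) :=
  Lgr Lrot48 (Lpr_ff (f900903 IH) (Lpn (LP (LK LD1_c11 LD2_c26 LD3_c15))))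
theorem f900894 : Led Lsl_ct (LP (LK LD1_c29 LD2_c25 LD3_c53)) = (LP (LK LD1_c20 LD2_c23 LD3_c22)) :=
  Lre_c IH (LK LD1_c29 LD2_c25 LD3_c53) (LK LD1_c20 LD2_c23 LD3_c22) Lrfl Lrfl
theorem f445643 : Led Lsl_ct (LP (LK LD1_c11 LD2_c26 LD3_c15)) = (LP (LK LD1_c20 LD2_c23 LD3_c54)) :=
  Lre_c IH (LK LD1_c11 LD2_c26 LD3_c15) (LK LD1_c20 LD2_c23 LD3_c54) Lrfl Lrfl
theorem f900913 : Led Lsl_ff (LP (LK LD1_c29 LD2_c25 LD3_c53)) = (LP (LK LD1_c20 LD2_c23 LD3_c54)) :=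
  Lgr Lrot23 (Lpr_ct (f900894 IH) (Lpr_ft (f900909 IH) (Lpr_ct (f445643 IH) (Lpn (LP (LK LD1_c20 LD2_c23 LD3_c54))))))
theorem f741740 : Led Lsl_ct (LP (LK LD1_c20 LD2_c23 LD3_c22)) = (LP (LK LD1_c29 LD2_c25 LD3_c53)) :=
  Lre_c IH (LK LD1_c20 LD2_c23 LD3_c22) (LK LD1_c29 LD2_c25 LD3_c53) Lrfl Lrfl
theorem f900877 : Led Lsl_ct (LP (LK LD1_c20 LD2_c23 LD3_c51)) = (LP (LK LD1_c11 LD2_c26 LD3_c14)) :=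
  Lre_c IH (LK LD1_c20 LD2_c23 LD3_c51) (LK LD1_c11 LD2_c26 LD3_c14) Lrfl Lrfl
theorem f900898 : Led Lsl_at (LP (LK LD1_c29 LD2_c25 LD3_c53)) = (LP (LK LD1_c20 LD2_c23 LD3_c51)) :=
  Lgr Lrot107 (Lpe (f741740 IH) (Lpr_af (f900892 IH) (Lpe (f900877 IH) (Lpn (LP (LK LD1_c20 LD2_c23 LD3_c51))))))
theorem f146598 : Led Lsl_ct (LP (LK LD1_c29 LD2_c25 LD3_c55)) = (LP (LK LD1_c20 LD2_c23 LD3_c23)) :=
  Lre_c IH (LK LD1_c29 LD2_c25 LD3_c55) (LK LD1_c20 LD2_c23 LD3_c23) Lrfl Lrfl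
theorem f57343 : Led Lsl_ct (LP (LK LD1_c11 LD2_c26 LD3_c14)) = (LP (LK LD1_c20 LD2_c23 LD3_c51)) :=
  Lre_c IH (LK LD1_c11 LD2_c26 LD3_c14) (LK LD1_c20 LD2_c23 LD3_c51) Lrfl Lrfl
theorem f900890 : Led Lsl_ff (LP (LK LD1_c29 LD2_c25 LD3_c55)) = (LP (LK LD1_c20 LD2_c23 LD3_c51)) :=
  Lgr Lrot23 (Lpr_ct (f146598 IH) (Lpr_ft (f900886 IH) (Lpr_ct (f57343 IH) (Lpn (LP (LK LD1_c20 LD2_c23 LD3_c51))))))
theorem f900917 : Led Lsl_at (LP (LK LD1_c29 LD2_c25 LD3_c55)) = (LP (LK LD1_c20 LD2_c23 LD3_c54)) :=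
  Lgr Lrot66 (Lpr_ff (f900890 IH) (Lpe (f900898 IH) (Lpr_ff (f900913 IH) (Lpn (LP (LK LD1_c20 LD2_c23 LD3_c54))))))
theorem f57344 : Led Lsl_gt (LP (LK LD1_c20 LD2_c23 LD3_c51)) = (LP (LK LD1_c29 LD2_c26 LD3_c21)) :=
  Lre_g IH (LK LD1_c20 LD2_c23 LD3_c51) (LK LD1_c29 LD2_c26 LD3_c21) Lrfl Lrfl
theorem f900923 : Led Lsl_gt (LP (LK LD1_c29 LD2_c26 LD3_c21)) = (LP (LK LD1_c20 LD2_c23 LD3_c54)) :=
  Lgr Lrot46 (Lpe (f57344 IH) (Lpe (f900890 IH) (Lpr_at (f900917 IH) (Lpn (LP (LK LD1_c20 LD2_c23 LD3_c54))))))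
theorem f700828 : Led Lsl_ct (LP (LK LD1_c5 LD2_c48 LD3_c22)) = (LP (LK LD1_c9 LD2_c30 LD3_c12)) :=
  Lgr Lrot59 (Lpr_cf (K56.f700821 IH) (Lpn (LP (LK LD1_c9 LD2_c30 LD3_c12))))
theorem f501913 : Led Lsl_gt (LP (LK LD1_c9 LD2_c30 LD3_c12)) = (LP (LK LD1_c17 LD2_c31 LD3_c28)) :=
  Lre_g IH (LK LD1_c9 LD2_c30 LD3_c12) (LK LD1_c17 LD2_c31 LD3_c28) Lrfl Lrfl
theorem f502535 : Led Lsl_dt (LP (LK LD1_c24 LD2_c12 LD3_c3)) = (LP (LK LD1_c14 LD2_c30 LD3_c42)) :=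
  Lre_d IH (LK LD1_c24 LD2_c12 LD3_c3) (LK LD1_c14 LD2_c30 LD3_c42) Lrfl Lrfl
theorem f700836 : Led Lsl_ct (LP (LK LD1_c29 LD2_c26 LD3_c21)) = (LP (LK LD1_c24 LD2_c12 LD3_c3)) :=
  Lgr Lrot110 (Lpe (f57344 IH) (Lpe (f57343 IH) (Lpe (f57335 IH) (Lpe (K69.f57227 IH) (Lpr_gt (K52.f57236 IH) (Lpr_ct (f700828 IH) (Lpr_gt (f501913 IH) (Lpe (K55.f502526 IH) (Lpe (f502535 IH) (Lpn (LP (LK LD1_c24 LD2_c12 LD3_c3))))))))))))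
theorem f700838 : Led Lsl_cf (LP (LK LD1_c29 LD2_c26 LD3_c21)) = (LP (LK LD1_c24 LD2_c12 LD3_c3)) :=
  Lgr Lrot11 (Lpr_ct (f700836 IH) (Lpn (LP (LK LD1_c24 LD2_c12 LD3_c3))))
theorem f445639 : Led Lsl_ct (LP (LK LD1_c20 LD2_c23 LD3_c54)) = (LP (LK LD1_c11 LD2_c26 LD3_c15)) :=
  Lre_c IH (LK LD1_c20 LD2_c23 LD3_c54) (LK LD1_c11 LD2_c26 LD3_c15) Lrfl Lrfl
theorem f756206 : Led Lsl_ct (LP (LK LD1_c26 LD2_c53 LD3_c61)) = (LP (LK LD1_c26 LD2_c56 LD3_c37)) :=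
  Lgr Lrot40 (Lpr_ff (f753190 IH) (Lpe (f753065 IH) (Lpr_ff (f756198 IH) (Lpn (LP (LK LD1_c26 LD2_c56 LD3_c37))))))
theorem f755723 : Led Lsl_df (LP (LK LD1_c29 LD2_c25 LD3_c45)) = (LP (LK LD1_c27 LD2_c21 LD3_c9)) :=
  Lgr Lrot38 (Lpr_dt (K57.f755721 IH) (Lpn (LP (LK LD1_c27 LD2_c21 LD3_c9))))
theorem f900927 : Led Lsl_gf (LP (LK LD1_c24 LD2_c12 LD3_c3)) = (LP (LK LD1_c27 LD2_c21 LD3_c9)) :=
  Lgr Lrot147 (Lpe (f700838 IH) (Lpr_gt (f900923 IH) (Lpr_ct (f445639 IH) (Lpe (K69.f151686 IH) (Lpr_cf (K69.f445637 IH) (Lpe (f445640 IH) (Lpe (f756206 IH) (Lpr_gf (K57.f753196 IH) (Lpr_df (f755723 IH) (Lpn (LP (LK LD1_c27 LD2_c21 LD3_c9))))))))))))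
theorem f502530 : Led Lsl_ct (LP (LK LD1_c14 LD2_c30 LD3_c42)) = (LP (LK LD1_c17 LD2_c31 LD3_c28)) :=
  Lgr Lrot59 (Lpr_cf (K55.f502526 IH) (Lpn (LP (LK LD1_c17 LD2_c31 LD3_c28))))
theorem f501967 : Led Lsl_gt (LP (LK LD1_c17 LD2_c31 LD3_c32)) = (LP (LK LD1_c27 LD2_c21 LD3_c6)) :=
  Lre_g IH (LK LD1_c17 LD2_c31 LD3_c32) (LK LD1_c27 LD2_c21 LD3_c6) Lrfl Lrfl
theorem f900866 : Led Lsl_dt (LP (LK LD1_c20 LD2_c41 LD3_c61)) = (LP (LK LD1_c17 LD2_c31 LD3_c32)) :=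
  Lgr Lrot42 (Lpr_df (f900864 IH) (Lpn (LP (LK LD1_c17 LD2_c31 LD3_c32))))
theorem f900929 : Led Lsl_gf (LP (LK LD1_c20 LD2_c41 LD3_c61)) = (LP (LK LD1_c11 LD2_c59 LD3_c0)) :=
  Lgr Lrot144 (Lpr_dt (f900866 IH) (Lpr_gt (f501967 IH) (Lpr_dt (K48.f501919 IH) (Lpe (f502530 IH) (Lpe (f502535 IH) (Lpr_gf (f900927 IH) (Lpe (K57.f755721 IH) (Lpe (K57.f669444 IH) (Lpe (K56.f712524 IH) (Lpn (LP (LK LD1_c11 LD2_c59 LD3_c0))))))))))))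
theorem f756204 : Led Lsl_at (LP (LK LD1_c20 LD2_c39 LD3_c59)) = (LP (LK LD1_c26 LD2_c56 LD3_c37)) :=
  Lgr Lrot66 (Lpr_ff (f752998 IH) (Lpr_af (f753198 IH) (Lpr_ff (f756198 IH) (Lpn (LP (LK LD1_c26 LD2_c56 LD3_c37))))))
theorem f900931 : Led Lsl_gt (LP (LK LD1_c20 LD2_c41 LD3_c61)) = (LP (LK LD1_c26 LD2_c56 LD3_c37)) :=
  Lgr Lrot46 (Lpr_gf (f900929 IH) (Lpe (f752998 IH) (Lpr_at (f756204 IH) (Lpn (LP (LK LD1_c26 LD2_c56 LD3_c37))))))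
theorem f900933 : Led Lsl_at (LP (LK LD1_c11 LD2_c41 LD3_c54)) = (LP (LK LD1_c17 LD2_c1 LD3_c27)) :=
  Lgr Lrot26 (Lpe (f643031 IH) (Lpr_gt (f900931 IH) (Lpr_gt (f445640 IH) (Lpn (LP (LK LD1_c17 LD2_c1 LD3_c27))))))
theorem f900937 : Led Lsl_af (LP (LK LD1_c20 LD2_c41 LD3_c60)) = (LP (LK LD1_c17 LD2_c31 LD3_c33)) :=
  Lgr Lrot117 (Lpr_dt (K55.f502693 IH) (Lpr_at (f900933 IH) (Lpe (K56.f642534 IH) (Lpn (LP (LK LD1_c17 LD2_c31 LD3_c33))))))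
theorem f669305 : Led Lsl_ct (LP (LK LD1_c11 LD2_c26 LD3_c45)) = (LP (LK LD1_c17 LD2_c31 LD3_c33)) :=
  Lgr Lrot59 (Lpr_cf (K48.f669291 IH) (Lpn (LP (LK LD1_c17 LD2_c31 LD3_c33))))
theorem f900942 : Led Lsl_at (LP (LK LD1_c14 LD2_c48 LD3_c54)) = (LP (LK LD1_c11 LD2_c26 LD3_c45)) :=
  Lgr Lrot107 (Lpr_cf (K56.f698888 IH) (Lpr_af (f900937 IH) (Lpe (f669305 IH) (Lpn (LP (LK LD1_c11 LD2_c26 LD3_c45))))))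
theorem f900946 : Led Lsl_ff (LP (LK LD1_c14 LD2_c48 LD3_c54)) = (LP (LK LD1_c11 LD2_c26 LD3_c44)) :=
  Lgr Lrot52 (Lpr_at (f900942 IH) (Lpr_gf (K56.f615614 IH) (Lpe (K56.f615649 IH) (Lpn (LP (LK LD1_c11 LD2_c26 LD3_c44))))))
theorem f900948 : Led Lsl_ft (LP (LK LD1_c14 LD2_c48 LD3_c54)) = (LP (LK LD1_c11 LD2_c26 LD3_c44)) :=
  Lgr Lrot48 (Lpr_ff (f900946 IH) (Lpn (LP (LK LD1_c11 LD2_c26 LD3_c44))))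
theorem f700817 : Led Lsl_ct (LP (LK LD1_c11 LD2_c26 LD3_c44)) = (LP (LK LD1_c17 LD2_c31 LD3_c32)) :=
  Lgr Lrot59 (Lpr_cf (K56.f700814 IH) (Lpn (LP (LK LD1_c17 LD2_c31 LD3_c32))))
theorem f900950 : Led Lsl_ff (LP (LK LD1_c20 LD2_c41 LD3_c60)) = (LP (LK LD1_c17 LD2_c31 LD3_c32)) :=
  Lgr Lrot23 (Lpe (K56.f698888 IH) (Lpr_ft (f900948 IH) (Lpr_ct (f700817 IH) (Lpn (LP (LK LD1_c17 LD2_c31 LD3_c32))))))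
theorem f207165 : Led Lsl_bt (LP (LK LD1_c9 LD2_c11 LD3_c27)) = (LP (LK LD1_c17 LD2_c4 LD3_c44)) :=
  Lre_b IH (LK LD1_c9 LD2_c11 LD3_c27) (LK LD1_c17 LD2_c4 LD3_c44) Lrfl Lrfl
theorem f615747 : Led Lsl_gf (LP (LK LD1_c17 LD2_c4 LD3_c44)) = (LP (LK LD1_c12 LD2_c10 LD3_c30)) :=
  Lgr Lrot76 (Lpr_af (K56.f615741 IH) (Lpr_ff (K56.f204669 IH) (Lpr_gt (K69.f204686 IH) (Lpn (LP (LK LD1_c12 LD2_c10 LD3_c30))))))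
theorem f700823 : Led Lsl_bf (LP (LK LD1_c12 LD2_c10 LD3_c30)) = (LP (LK LD1_c17 LD2_c31 LD3_c32)) :=
  Lgr Lrot156 (Lpe (f615747 IH) (Lpe (f207165 IH) (Lpr_ct (K35.f207100 IH) (Lpr_gt (K46.f207254 IH) (Lpe (K46.f645230 IH) (Lpr_bt (K46.f57522 IH) (Lpr_gt (K7.f57521 IH) (Lpr_ct (K48.f496162 IH) (Lpr_gt (K56.f544125 IH) (Lpr_cf (K56.f700814 IH) (Lpn (LP (LK LD1_c17 LD2_c31 LD3_c32)))))))))))))
theorem f700825 : Led Lsl_bt (LP (LK LD1_c12 LD2_c10 LD3_c30)) = (LP (LK LD1_c17 LD2_c31 LD3_c32)) :=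
  Lgr Lrot127 (Lpr_bf (f700823 IH) (Lpn (LP (LK LD1_c17 LD2_c31 LD3_c32))))
theorem f900952 : Led Lsl_ft (LP (LK LD1_c17 LD2_c4 LD3_c42)) = (LP (LK LD1_c12 LD2_c10 LD3_c30)) :=
  Lgr Lrot75 (Lpe (K57.f749942 IH) (Lpr_ff (f900950 IH) (Lpe (f700825 IH) (Lpn (LP (LK LD1_c12 LD2_c10 LD3_c30))))))
theorem f99569 : Led Lsl_gt (LP (LK LD1_c9 LD2_c11 LD3_c12)) = (LP (LK LD1_c17 LD2_c4 LD3_c41)) :=
  Lre_g IH (LK LD1_c9 LD2_c11 LD3_c12) (LK LD1_c17 LD2_c4 LD3_c41) Lrfl Lrfl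
theorem f900956 : Led Lsl_af (LP (LK LD1_c17 LD2_c4 LD3_c41)) = (LP (LK LD1_c12 LD2_c10 LD3_c30)) :=
  Lgr Lrot31 (Lpe (f99569 IH) (Lpe (K57.f40623 IH) (Lpr_ft (f900952 IH) (Lpn (LP (LK LD1_c12 LD2_c10 LD3_c30))))))
theorem f669766 : Led Lsl_bt (LP (LK LD1_c6 LD2_c1 LD3_c59)) = (LP (LK LD1_c11 LD2_c48 LD3_c29)) :=
  Lre_b IH (LK LD1_c6 LD2_c1 LD3_c59) (LK LD1_c11 LD2_c48 LD3_c29) Lrfl Lrfl
theorem f900960 : Led Lsl_bt (LP (LK LD1_c17 LD2_c4 LD3_c41)) = K69.v16515 :=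
  Lgr Lrot62 (Lpr_af (f900956 IH) (Lpr_bf (f700823 IH) (Lpe (K75.f900767 IH) (Lpe (f669766 IH) (Lpr_af (K69.f750141 IH) (Lpn K69.v16515))))))
def v5072 : LQ := Led Lsl_gf (LP (LK LD1_c2 LD2_c57 LD3_c4))
theorem f645189 : Led Lsl_gf (LP (LK LD1_c2 LD2_c57 LD3_c4)) = v5072 :=
  Lrfl
theorem f750142 : Led Lsl_ft v5072 = K69.v16515 :=
  Lgr Lrot2 (Lpe (f645189 IH) (Lpr_gt (K48.f204738 IH) (Lpr_af (K69.f750141 IH) (Lpn K69.v16515))))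
theorem f750143 : Led Lsl_ff v5072 = K69.v16515 :=
  Lgr Lrot3 (Lpr_ft (f750142 IH) (Lpn K69.v16515))
def v24901 : LQ := Led Lsl_bt v5072
theorem f826147 : Led Lsl_bt v5072 = v24901 :=
  Lrfl
theorem f900962 : Led Lsl_ff (LP (LK LD1_c17 LD2_c4 LD3_c41)) = v24901 :=
  Lgr Lrot25 (Lpr_bt (f900960 IH) (Lpqs (K69.f900772 IH) (Lpq (K69.f900772 IH) (Lpe (f750143 IH) (Lpr_bt (f826147 IH) (Lpn v24901))))))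
theorem f900958 : Led Lsl_at (LP (LK LD1_c17 LD2_c4 LD3_c41)) = (LP (LK LD1_c12 LD2_c10 LD3_c30)) :=
  Lgr Lrot100 (Lpr_af (f900956 IH) (Lpn (LP (LK LD1_c12 LD2_c10 LD3_c30))))
theorem f900964 : v17246 = v24901 :=
  (Llr Lrot47 (Lpe (f757943 IH) (Lpr_gt (K69.f204686 IH) (Lpe (f900958 IH) (Lpr_ff (f900962 IH) (Lpn v24901)))))).symm
def v24902 : LQ := Led Lsl_ct v5072
theorem f826149 : Led Lsl_ct v5072 = v24902 :=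
  Lrfl
theorem f826150 : Led Lsl_cf v5072 = v24902 :=
  Lgr Lrot11 (Lpr_ct (f826149 IH) (Lpn v24902))
def v49740 : LQ := Led Lsl_ft (LP (LK LD1_c11 LD2_c48 LD3_c8))
theorem f972364 : Led Lsl_ft (LP (LK LD1_c11 LD2_c48 LD3_c8)) = v49740 :=
  Lrfl
theorem f972368 : Led Lsl_ff (LP (LK LD1_c11 LD2_c48 LD3_c8)) = v49740 :=
  Lgr Lrot3 (Lpr_ft (f972364 IH) (Lpn v49740))
theorem f972372 : Led Lsl_gf (LP (LK LD1_c11 LD2_c48 LD3_c33)) = v49740 :=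
  Lgr Lrot47 (Lpr_gt (K50.f204770 IH) (Lpe (K69.f204712 IH) (Lpr_ff (f972368 IH) (Lpn v49740))))
theorem f972373 : Led Lsl_gt (LP (LK LD1_c11 LD2_c48 LD3_c32)) = v49740 :=
  Lgr Lrot5 (Lpr_ft (K57.f749760 IH) (Lpe (K57.f749762 IH) (Lpr_gf (f972372 IH) (Lpn v49740))))
theorem f749952 : Led Lsl_gf (LP (LK LD1_c12 LD2_c53 LD3_c51)) = (LP (LK LD1_c20 LD2_c51 LD3_c15)) :=
  Lgr Lrot129 (Lpe (K65.f207243 IH) (Lpr_bt (K46.f642410 IH) (Lpr_gt (K41.f427466 IH) (Lpe (K40.f136291 IH) (Lpr_ct (K50.f136292 IH) (Lpe (K57.f704983 IH) (Lpe (K64.f613085 IH) (Lpr_bt (K57.f749948 IH) (Lpe (K57.f499311 IH) (Lpr_ct (K69.f651077 IH) (Lpn (LP (LK LD1_c20 LD2_c51 LD3_c15)))))))))))))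
theorem f645190 : Led Lsl_ct (LP (LK LD1_c11 LD2_c48 LD3_c32)) = (LP (LK LD1_c20 LD2_c50 LD3_c60)) :=
  Lre_c IH (LK LD1_c11 LD2_c48 LD3_c32) (LK LD1_c20 LD2_c50 LD3_c60) Lrfl Lrfl
theorem f749748 : Led Lsl_at (LP (LK LD1_c20 LD2_c50 LD3_c60)) = (LP (LK LD1_c16 LD2_c57 LD3_c29)) :=
  Lgr Lrot107 (Lpe (f645190 IH) (Lpr_af (K57.f749744 IH) (Lpe (K56.f749736 IH) (Lpn (LP (LK LD1_c16 LD2_c57 LD3_c29))))))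
theorem f764271 : Led Lsl_ff (LP (LK LD1_c20 LD2_c50 LD3_c60)) = (LP (LK LD1_c20 LD2_c25 LD3_c27)) :=
  Lgr Lrot30 (Lpr_at (f749748 IH) (Lpe (K57.f746227 IH) (Lpr_at (K57.f764265 IH) (Lpn (LP (LK LD1_c20 LD2_c25 LD3_c27))))))
theorem f764275 : Led Lsl_ft (LP (LK LD1_c20 LD2_c50 LD3_c60)) = (LP (LK LD1_c20 LD2_c25 LD3_c27)) :=
  Lgr Lrot48 (Lpr_ff (f764271 IH) (Lpn (LP (LK LD1_c20 LD2_c25 LD3_c27))))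
theorem f615656 : Led Lsl_bt (LP (LK LD1_c11 LD2_c31 LD3_c23)) = (LP (LK LD1_c5 LD2_c52 LD3_c26)) :=
  Lre_b IH (LK LD1_c11 LD2_c31 LD3_c23) (LK LD1_c5 LD2_c52 LD3_c26) Lrfl Lrfl
theorem f615658 : Led Lsl_df (LP (LK LD1_c11 LD2_c31 LD3_c23)) = (LP (LK LD1_c11 LD2_c27 LD3_c59)) :=
  Lgr Lrot12 (Lpr_bt (f615656 IH) (Lpr_dt (K42.f615654 IH) (Lpr_bt (K57.f615657 IH) (Lpn (LP (LK LD1_c11 LD2_c27 LD3_c59))))))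
theorem f764261 : Led Lsl_af (LP (LK LD1_c11 LD2_c27 LD3_c59)) = (LP (LK LD1_c20 LD2_c25 LD3_c27)) :=
  Lgr Lrot117 (Lpe (f615658 IH) (Lpe (K57.f748258 IH) (Lpr_dt (K57.f764259 IH) (Lpn (LP (LK LD1_c20 LD2_c25 LD3_c27))))))
theorem f764279 : Led Lsl_gt (LP (LK LD1_c20 LD2_c50 LD3_c60)) = (LP (LK LD1_c20 LD2_c25 LD3_c7)) :=
  Lgr Lrot5 (Lpr_ft (f764275 IH) (Lpe (f764261 IH) (Lpr_gf (K69.f711327 IH) (Lpn (LP (LK LD1_c20 LD2_c25 LD3_c7))))))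
theorem f825911 : Led Lsl_bt (LP (LK LD1_c20 LD2_c25 LD3_c25)) = (LP (LK LD1_c20 LD2_c50 LD3_c60)) :=
  Lgr Lrot22 (Lpr_ct (K65.f825903 IH) (Lpe (K57.f37074 IH) (Lpr_cf (K40.f558557 IH) (Lpe (K41.f427466 IH) (Lpe (K46.f642410 IH) (Lpr_ct (K65.f207243 IH) (Lpr_gf (f749952 IH) (Lpe (K69.f651077 IH) (Lpr_bt (K69.f711321 IH) (Lpe (f764279 IH) (Lpn (LP (LK LD1_c20 LD2_c50 LD3_c60)))))))))))))
theorem f825913 : Led Lsl_bf (LP (LK LD1_c20 LD2_c25 LD3_c25)) = (LP (LK LD1_c20 LD2_c50 LD3_c60)) :=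
  Lgr Lrot24 (Lpr_bt (f825911 IH) (Lpn (LP (LK LD1_c20 LD2_c50 LD3_c60))))
theorem f137527 : Led Lsl_ct (LP (LK LD1_c11 LD2_c33 LD3_c25)) = (LP (LK LD1_c20 LD2_c30 LD3_c41)) :=
  Lre_c IH (LK LD1_c11 LD2_c33 LD3_c25) (LK LD1_c20 LD2_c30 LD3_c41) Lrfl Lrfl
theorem f965000 : Led Lsl_bf (LP (LK LD1_c11 LD2_c48 LD3_c32)) = (LP (LK LD1_c20 LD2_c30 LD3_c41)) :=
  Lgr Lrot90 (Lpr_ct (f645190 IH) (Lpe (f825913 IH) (Lpr_ct (K65.f825903 IH) (Lpr_bt (K75.f964996 IH) (Lpr_ct (f137527 IH) (Lpn (LP (LK LD1_c20 LD2_c30 LD3_c41))))))))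
theorem f104581 : Led Lsl_ct (LP (LK LD1_c20 LD2_c30 LD3_c41)) = (LP (LK LD1_c11 LD2_c33 LD3_c25)) :=
  Lre_c IH (LK LD1_c20 LD2_c30 LD3_c41) (LK LD1_c11 LD2_c33 LD3_c25) Lrfl Lrfl
theorem f104579 : Led Lsl_ct (LP (LK LD1_c11 LD2_c33 LD3_c24)) = (LP (LK LD1_c5 LD2_c53 LD3_c45)) :=
  Lre_c IH (LK LD1_c11 LD2_c33 LD3_c24) (LK LD1_c5 LD2_c53 LD3_c45) Lrfl Lrfl
def v38820 : LQ := Led Lsl_gf (LP (LK LD1_c9 LD2_c16 LD3_c13))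
theorem f904732 : Led Lsl_gf (LP (LK LD1_c9 LD2_c16 LD3_c13)) = v38820 :=
  Lrfl
theorem f972366 : Led Lsl_cf K56.v16487 = v49740 :=
  Lgr Lrot108 (Lpe (K56.f749770 IH) (Lpr_ct (K56.f204753 IH) (Lpr_ft (f972364 IH) (Lpn v49740))))
theorem f749775 : Led Lsl_gf v5072 = K56.v16487 :=
  Lgr Lrot47 (Lpe (f645189 IH) (Lpe (K56.f204760 IH) (Lpr_ff (K56.f749770 IH) (Lpn K56.v16487))))
theorem f972374 : Led Lsl_bf v38820 = v24902 :=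
  Lgr Lrot156 (Lpe (f904732 IH) (Lpe (K6.f104577 IH) (Lpr_ct (f104579 IH) (Lpr_gt (K75.f101754 IH) (Lpe (f104581 IH) (Lpe (f965000 IH) (Lpr_gt (f972373 IH) (Lpe (f972366 IH) (Lpe (f749775 IH) (Lpr_cf (f826150 IH) (Lpn v24902)))))))))))
theorem f972375 : Led Lsl_bt v38820 = v24902 :=
  Lgr Lrot127 (Lpr_bf (f972374 IH) (Lpn v24902))
def v39334 : LQ := Led Lsl_ct (LP (LK LD1_c9 LD2_c22 LD3_c24))
theorem f908701 : Led Lsl_ct (LP (LK LD1_c9 LD2_c22 LD3_c24)) = v39334 :=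
  Lrfl
theorem f982110 : v38820 = v39334 :=
  (Llr Lrot90 (Lpr_bt (f972375 IH) (Lpe (f826150 IH) (Lpr_bt (f826147 IH) (Lpq (f900964 IH) (Lpr_ct (f970109 IH) (Lpqs (f982099 IH) (Lpr_bt (f103107 IH) (Lpr_ct (f908701 IH) (Lpn v39334)))))))))).symm
theorem f441944 : Led Lsl_gt (LP (LK LD1_c17 LD2_c10 LD3_c51)) = (LP (LK LD1_c9 LD2_c22 LD3_c24)) :=
  Lgr Lrot5 (Lpr_ft (K7.f103288 IH) (Lpr_at (f103280 IH) (Lpe (f103088 IH) (Lpn (LP (LK LD1_c9 LD2_c22 LD3_c24))))))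
theorem f103322 : Led Lsl_dt (LP (LK LD1_c17 LD2_c10 LD3_c51)) = (LP (LK LD1_c27 LD2_c2 LD3_c13)) :=
  Lre_d IH (LK LD1_c17 LD2_c10 LD3_c51) (LK LD1_c27 LD2_c2 LD3_c13) Lrfl Lrfl
theorem f102992 : Led Lsl_gt (LP (LK LD1_c17 LD2_c18 LD3_c58)) = (LP (LK LD1_c9 LD2_c22 LD3_c25)) :=
  Lre_g IH (LK LD1_c17 LD2_c18 LD3_c58) (LK LD1_c9 LD2_c22 LD3_c25) Lrfl Lrfl
theorem f103390 : Led Lsl_gt (LP (LK LD1_c27 LD2_c2 LD3_c13)) = (LP (LK LD1_c17 LD2_c18 LD3_c58)) :=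
  Lgr Lrot5 (Lpr_ft (K7.f103387 IH) (Lpr_at (K7.f103377 IH) (Lpe (f102992 IH) (Lpn (LP (LK LD1_c17 LD2_c18 LD3_c58))))))
theorem f103392 : Led Lsl_ct (LP (LK LD1_c17 LD2_c18 LD3_c58)) = (LP (LK LD1_c27 LD2_c8 LD3_c53)) :=
  Lre_c IH (LK LD1_c17 LD2_c18 LD3_c58) (LK LD1_c27 LD2_c8 LD3_c53) Lrfl Lrfl
theorem f110620 : Led Lsl_dt (LP (LK LD1_c17 LD2_c11 LD3_c7)) = (LP (LK LD1_c9 LD2_c16 LD3_c29)) :=
  Lre_d IH (LK LD1_c17 LD2_c11 LD3_c7) (LK LD1_c9 LD2_c16 LD3_c29) Lrfl Lrfl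
theorem f110630 : Led Lsl_ct (LP (LK LD1_c27 LD2_c2 LD3_c24)) = (LP (LK LD1_c17 LD2_c11 LD3_c7)) :=
  Lre_c IH (LK LD1_c27 LD2_c2 LD3_c24) (LK LD1_c17 LD2_c11 LD3_c7) Lrfl Lrfl
theorem f982111 : Led Lsl_gt (LP (LK LD1_c27 LD2_c8 LD3_c53)) = (LP (LK LD1_c27 LD2_c2 LD3_c24)) :=
  Lgr Lrot150 (Lpe (f103392 IH) (Lpe (f103390 IH) (Lpe (f103322 IH) (Lpr_gt (f441944 IH) (Lpr_ct (f908701 IH) (Lpq (f982110 IH) (Lpe (f904732 IH) (Lpr_ct (K6.f110514 IH) (Lpe (f110620 IH) (Lpe (f110630 IH) (Lpn (LP (LK LD1_c27 LD2_c2 LD3_c24)))))))))))))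
theorem f982112 : Led Lsl_gt (LP (LK LD1_c27 LD2_c8 LD3_c53)) = (LP (LK LD1_c27 LD2_c2 LD3_c24)) :=
  Leop (Lpe (f982111 IH) (Lpn (LP (LK LD1_c27 LD2_c8 LD3_c53))))
theorem seed_3082 : LEOK LG_g (LK LD1_c27 LD2_c8 LD3_c53) :=
  Leoe_g (LK LD1_c27 LD2_c8 LD3_c53) (f982112 IH)
theorem f908690 : Led Lsl_bt (LP (LK LD1_c9 LD2_c22 LD3_c24)) = (LP (LK LD1_c17 LD2_c18 LD3_c54)) :=
  Lre_b IH (LK LD1_c9 LD2_c22 LD3_c24) (LK LD1_c17 LD2_c18 LD3_c54) Lrfl Lrfl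
theorem f970108 : Led Lsl_gt (LP (LK LD1_c21 LD2_c31 LD3_c57)) = v49264 :=
  Lgr Lrot5 (Lpe (K69.f749968 IH) (Lpe (K69.f568369 IH) (Lpr_gf (f970107 IH) (Lpn v49264))))
theorem f30635 : Led Lsl_ct (LP (LK LD1_c15 LD2_c8 LD3_c30)) = (LP (LK LD1_c8 LD2_c2 LD3_c34)) :=
  Lre_c IH (LK LD1_c15 LD2_c8 LD3_c30) (LK LD1_c8 LD2_c2 LD3_c34) Lrfl Lrfl
theorem f444833 : Led Lsl_bf (LP (LK LD1_c15 LD2_c8 LD3_c30)) = (LP (LK LD1_c16 LD2_c33 LD3_c32)) :=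
  Lgr Lrot90 (Lpr_ct (f30635 IH) (Lpr_bt (K71.f30634 IH) (Lpr_ct (K37.f444830 IH) (Lpr_bt (f444832 IH) (Lpr_ct (K71.f16442 IH) (Lpn (LP (LK LD1_c16 LD2_c33 LD3_c32))))))))
theorem f30113 : Led Lsl_ct (LP (LK LD1_c8 LD2_c1 LD3_c24)) = (LP (LK LD1_c15 LD2_c6 LD3_c31)) :=
  Lre_c IH (LK LD1_c8 LD2_c1 LD3_c24) (LK LD1_c15 LD2_c6 LD3_c31) Lrfl Lrfl
theorem f70620 : Led Lsl_bf (LP (LK LD1_c16 LD2_c32 LD3_c20)) = (LP (LK LD1_c15 LD2_c6 LD3_c31)) :=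
  Lgr Lrot90 (Lpr_ct (f70618 IH) (Lpr_bt (f16559 IH) (Lpr_ct (K37.f70607 IH) (Lpr_bt (K71.f70619 IH) (Lpr_ct (f30113 IH) (Lpn (LP (LK LD1_c15 LD2_c6 LD3_c31))))))))
theorem f877758 : Led Lsl_ft (LP (LK LD1_c15 LD2_c8 LD3_c30)) = (LP (LK LD1_c15 LD2_c6 LD3_c31)) :=
  Lgr Lrot75 (Lpr_bf (f444833 IH) (Lpr_ff (K71.f877756 IH) (Lpr_bf (f70620 IH) (Lpn (LP (LK LD1_c15 LD2_c6 LD3_c31))))))
theorem f445472 : Led Lsl_gt (LP (LK LD1_c15 LD2_c8 LD3_c30)) = (LP (LK LD1_c24 LD2_c57 LD3_c23)) :=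
  Lre_g IH (LK LD1_c15 LD2_c8 LD3_c30) (LK LD1_c24 LD2_c57 LD3_c23) Lrfl Lrfl
theorem f70681 : Led Lsl_at (LP (LK LD1_c15 LD2_c6 LD3_c31)) = (LP (LK LD1_c24 LD2_c54 LD3_c38)) :=
  Lre_a IH (LK LD1_c15 LD2_c6 LD3_c31) (LK LD1_c24 LD2_c54 LD3_c38) Lrfl Lrfl
theorem f877789 : Led Lsl_gt (LP (LK LD1_c24 LD2_c57 LD3_c23)) = (LP (LK LD1_c24 LD2_c54 LD3_c38)) :=
  Lgr Lrot46 (Lpe (f445472 IH) (Lpr_ft (f877758 IH) (Lpr_at (f70681 IH) (Lpn (LP (LK LD1_c24 LD2_c54 LD3_c38))))))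
theorem f445018 : Led Lsl_at (LP (LK LD1_c24 LD2_c57 LD3_c21)) = (LP (LK LD1_c15 LD2_c8 LD3_c30)) :=
  Lre_a IH (LK LD1_c24 LD2_c57 LD3_c21) (LK LD1_c15 LD2_c8 LD3_c30) Lrfl Lrfl
theorem f426452 : Led Lsl_bt (LP (LK LD1_c16 LD2_c28 LD3_c8)) = (LP (LK LD1_c8 LD2_c48 LD3_c3)) :=
  Lre_b IH (LK LD1_c16 LD2_c28 LD3_c8) (LK LD1_c8 LD2_c48 LD3_c3) Lrfl Lrfl
theorem f30637 : Led Lsl_ct (LP (LK LD1_c8 LD2_c2 LD3_c34)) = (LP (LK LD1_c15 LD2_c8 LD3_c30)) :=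
  Lre_c IH (LK LD1_c8 LD2_c2 LD3_c34) (LK LD1_c15 LD2_c8 LD3_c30) Lrfl Lrfl
theorem f764551 : Led Lsl_gt (LP (LK LD1_c20 LD2_c41 LD3_c9)) = (LP (LK LD1_c15 LD2_c8 LD3_c30)) :=
  Lgr Lrot65 (Lpe (K69.f427432 IH) (Lpr_bt (f426452 IH) (Lpqs (K69.f764315 IH) (Lpe (K69.f696764 IH) (Lpe (K69.f99354 IH) (Lpr_ct (K37.f99344 IH) (Lpe (K37.f99346 IH) (Lpr_cf (K1.f36817 IH) (Lpr_gf (K37.f30628 IH) (Lpe (K71.f30634 IH) (Lpr_ct (f30637 IH) (Lpn (LP (LK LD1_c15 LD2_c8 LD3_c30))))))))))))))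
theorem f877784 : Led Lsl_gf (LP (LK LD1_c20 LD2_c41 LD3_c9)) = (LP (LK LD1_c24 LD2_c54 LD3_c38)) :=
  Lgr Lrot47 (Lpr_gt (f764551 IH) (Lpe (f445018 IH) (Lpr_ff (K75.f877778 IH) (Lpn (LP (LK LD1_c24 LD2_c54 LD3_c38))))))
theorem f877791 : Led Lsl_ft (LP (LK LD1_c24 LD2_c57 LD3_c23)) = (LP (LK LD1_c16 LD2_c24 LD3_c40)) :=
  Lgr Lrot2 (Lpr_gt (f877789 IH) (Lpe (f877784 IH) (Lpr_af (K65.f137564 IH) (Lpn (LP (LK LD1_c16 LD2_c24 LD3_c40))))))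
theorem f877799 : Led Lsl_ff (LP (LK LD1_c24 LD2_c57 LD3_c23)) = (LP (LK LD1_c16 LD2_c24 LD3_c40)) :=
  Lgr Lrot3 (Lpr_ft (f877791 IH) (Lpn (LP (LK LD1_c16 LD2_c24 LD3_c40))))
theorem f877801 : Led Lsl_bt (LP (LK LD1_c24 LD2_c57 LD3_c23)) = (LP (LK LD1_c21 LD2_c31 LD3_c57)) :=
  Lgr Lrot35 (Lpr_ff (f877799 IH) (Lpr_bf (K52.f568371 IH) (Lpr_ff (K69.f749968 IH) (Lpn (LP (LK LD1_c21 LD2_c31 LD3_c57))))))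
theorem f38558 : Led Lsl_ft (LP (LK LD1_c26 LD2_c25 LD3_c20)) = (LP (LK LD1_c16 LD2_c28 LD3_c9)) :=
  Lre_f IH (LK LD1_c26 LD2_c25 LD3_c20) (LK LD1_c16 LD2_c28 LD3_c9) Lrfl Lrfl
theorem f877803 : Led Lsl_ct (LP (LK LD1_c24 LD2_c57 LD3_c23)) = (LP (LK LD1_c26 LD2_c25 LD3_c20)) :=
  Lgr Lrot40 (Lpr_ff (f877799 IH) (Lpe (K52.f70506 IH) (Lpe (f38558 IH) (Lpn (LP (LK LD1_c26 LD2_c25 LD3_c20))))))
theorem f137529 : Led Lsl_gt (LP (LK LD1_c16 LD2_c24 LD3_c34)) = (LP (LK LD1_c26 LD2_c22 LD3_c10)) :=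
  Lre_g IH (LK LD1_c16 LD2_c24 LD3_c34) (LK LD1_c26 LD2_c22 LD3_c10) Lrfl Lrfl
theorem f137528 : Led Lsl_ct (LP (LK LD1_c8 LD2_c46 LD3_c15)) = (LP (LK LD1_c16 LD2_c24 LD3_c34)) :=
  Lre_c IH (LK LD1_c8 LD2_c46 LD3_c15) (LK LD1_c16 LD2_c24 LD3_c34) Lrfl Lrfl
theorem f70652 : Led Lsl_gt (LP (LK LD1_c15 LD2_c0 LD3_c1)) = (LP (LK LD1_c7 LD2_c57 LD3_c24)) :=
  Lre_g IH (LK LD1_c15 LD2_c0 LD3_c1) (LK LD1_c7 LD2_c57 LD3_c24) Lrfl Lrfl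
theorem f70653 : Led Lsl_bt (LP (LK LD1_c24 LD2_c47 LD3_c20)) = (LP (LK LD1_c15 LD2_c0 LD3_c1)) :=
  Lre_b IH (LK LD1_c24 LD2_c47 LD3_c20) (LK LD1_c15 LD2_c0 LD3_c1) Lrfl Lrfl
theorem f964991 : Led Lsl_cf (LP (LK LD1_c26 LD2_c22 LD3_c10)) = (LP (LK LD1_c24 LD2_c47 LD3_c20)) :=
  Lgr Lrot163 (Lpe (f137529 IH) (Lpe (f137528 IH) (Lpr_gf (K75.f893192 IH) (Lpqs (K75.f964900 IH) (Lpe (K71.f70619 IH) (Lpe (K37.f70622 IH) (Lpe (K37.f16551 IH) (Lpe (K37.f38715 IH) (Lpr_bt (K64.f39971 IH) (Lpe (f70652 IH) (Lpe (f70653 IH) (Lpn (LP (LK LD1_c24 LD2_c47 LD3_c20))))))))))))))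
theorem f964994 : Led Lsl_ct (LP (LK LD1_c26 LD2_c22 LD3_c10)) = (LP (LK LD1_c24 LD2_c47 LD3_c20)) :=
  Lgr Lrot59 (Lpr_cf (f964991 IH) (Lpn (LP (LK LD1_c24 LD2_c47 LD3_c20))))
theorem f982113 : Led Lsl_gf (LP (LK LD1_c26 LD2_c25 LD3_c20)) = (LP (LK LD1_c24 LD2_c47 LD3_c20)) :=
  Lgr Lrot129 (Lpe (f877803 IH) (Lpr_bt (f877801 IH) (Lpr_gt (f970108 IH) (Lpqs (f982099 IH) (Lpe (f908690 IH) (Lpr_ct (f908701 IH) (Lpq (f982110 IH) (Lpe (f904732 IH) (Lpr_cf (K71.f110585 IH) (Lpr_bt (K6.f137524 IH) (Lpr_gt (f137529 IH) (Lpr_ct (f964994 IH) (Lpn (LP (LK LD1_c24 LD2_c47 LD3_c20)))))))))))))))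
theorem f982114 : Led Lsl_gt (LP (LK LD1_c24 LD2_c47 LD3_c20)) = (LP (LK LD1_c26 LD2_c25 LD3_c20)) :=
  Leop (Lpr_gf (f982113 IH) (Lpn (LP (LK LD1_c24 LD2_c47 LD3_c20))))
theorem seed_3083 : LEOK LG_g (LK LD1_c24 LD2_c47 LD3_c20) :=
  Leoe_g (LK LD1_c24 LD2_c47 LD3_c20) (f982114 IH)
theorem f645253 : Led Lsl_ff (LP (LK LD1_c20 LD2_c25 LD3_c23)) = (LP (LK LD1_c17 LD2_c4 LD3_c43)) :=
  Lgr Lrot3 (Lpr_ft (K57.f645247 IH) (Lpn (LP (LK LD1_c17 LD2_c4 LD3_c43))))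
theorem f80182 : Led Lsl_bt (LP (LK LD1_c9 LD2_c11 LD3_c12)) = (LP (LK LD1_c4 LD2_c37 LD3_c53)) :=
  Lre_b IH (LK LD1_c9 LD2_c11 LD3_c12) (LK LD1_c4 LD2_c37 LD3_c53) Lrfl Lrfl
theorem f615707 : Led Lsl_bf (LP (LK LD1_c17 LD2_c4 LD3_c43)) = (LP (LK LD1_c17 LD2_c19 LD3_c55)) :=
  Lgr Lrot90 (Lpr_ct (K57.f40624 IH) (Lpr_bt (f80182 IH) (Lpr_ct (K35.f80174 IH) (Lpr_bt (K56.f80192 IH) (Lpr_ct (K56.f615703 IH) (Lpn (LP (LK LD1_c17 LD2_c19 LD3_c55))))))))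
theorem f419509 : Led Lsl_ft (LP (LK LD1_c27 LD2_c9 LD3_c30)) = (LP (LK LD1_c17 LD2_c19 LD3_c55)) :=
  Lre_f IH (LK LD1_c27 LD2_c9 LD3_c30) (LK LD1_c17 LD2_c19 LD3_c55) Lrfl Lrfl
theorem f645268 : Led Lsl_bt (LP (LK LD1_c20 LD2_c25 LD3_c23)) = (LP (LK LD1_c27 LD2_c9 LD3_c30)) :=
  Lgr Lrot35 (Lpr_ff (f645253 IH) (Lpr_bf (f615707 IH) (Lpe (f419509 IH) (Lpn (LP (LK LD1_c27 LD2_c9 LD3_c30))))))
theorem f910681 : Led Lsl_bt (LP (LK LD1_c9 LD2_c26 LD3_c26)) = (LP (LK LD1_c17 LD2_c24 LD3_c24)) :=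
  Lre_b IH (LK LD1_c9 LD2_c26 LD3_c26) (LK LD1_c17 LD2_c24 LD3_c24) Lrfl Lrfl
theorem f982116 : Led Lsl_gf (LP (LK LD1_c27 LD2_c9 LD3_c30)) = (LP (LK LD1_c17 LD2_c24 LD3_c24)) :=
  Lgr Lrot124 (Lpe (f645268 IH) (Lpr_ct (f645245 IH) (Lpr_gt (f757944 IH) (Lpr_cf (f970112 IH) (Lpqs (f982099 IH) (Lpr_bt (f103107 IH) (Lpr_gt (f103088 IH) (Lpe (K71.f103068 IH) (Lpr_gt (K70.f103076 IH) (Lpq (K70.f910710 IH) (Lpe (K70.f910684 IH) (Lpr_bt (f910681 IH) (Lpn (LP (LK LD1_c17 LD2_c24 LD3_c24)))))))))))))))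
theorem f982117 : Led Lsl_gt (LP (LK LD1_c17 LD2_c24 LD3_c24)) = (LP (LK LD1_c27 LD2_c9 LD3_c30)) :=
  Leop (Lpr_gf (f982116 IH) (Lpn (LP (LK LD1_c17 LD2_c24 LD3_c24))))
theorem seed_3084 : LEOK LG_g (LK LD1_c17 LD2_c24 LD3_c24) :=
  Leoe_g (LK LD1_c17 LD2_c24 LD3_c24) (f982117 IH)
theorem f755549 : Led Lsl_gt (LP (LK LD1_c24 LD2_c36 LD3_c47)) = (LP (LK LD1_c14 LD2_c50 LD3_c32)) :=
  Lre_g IH (LK LD1_c24 LD2_c36 LD3_c47) (LK LD1_c14 LD2_c50 LD3_c32) Lrfl Lrfl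
theorem f445484 : Led Lsl_at (LP (LK LD1_c16 LD2_c29 LD3_c11)) = (LP (LK LD1_c8 LD2_c50 LD3_c9)) :=
  Lre_a IH (LK LD1_c16 LD2_c29 LD3_c11) (LK LD1_c8 LD2_c50 LD3_c9) Lrfl Lrfl
theorem f755564 : Led Lsl_ff (LP (LK LD1_c16 LD2_c29 LD3_c11)) = (LP (LK LD1_c24 LD2_c36 LD3_c47)) :=
  Lgr Lrot52 (Lpr_at (f445484 IH) (Lpr_gf (K67.f755562 IH) (Lpe (f755549 IH) (Lpn (LP (LK LD1_c24 LD2_c36 LD3_c47))))))
theorem f16169 : Led Lsl_ct (LP (LK LD1_c16 LD2_c29 LD3_c11)) = (LP (LK LD1_c8 LD2_c48 LD3_c51)) :=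
  Lre_c IH (LK LD1_c16 LD2_c29 LD3_c11) (LK LD1_c8 LD2_c48 LD3_c51) Lrfl Lrfl
theorem f16591 : Led Lsl_ft (LP (LK LD1_c8 LD2_c48 LD3_c51)) = (LP (LK LD1_c16 LD2_c29 LD3_c15)) :=
  Lre_f IH (LK LD1_c8 LD2_c48 LD3_c51) (LK LD1_c16 LD2_c29 LD3_c15) Lrfl Lrfl
theorem f755581 : Led Lsl_ct (LP (LK LD1_c16 LD2_c29 LD3_c15)) = (LP (LK LD1_c24 LD2_c36 LD3_c47)) :=
  Lgr Lrot40 (Lpe (f16591 IH) (Lpe (f16169 IH) (Lpr_ff (f755564 IH) (Lpn (LP (LK LD1_c24 LD2_c36 LD3_c47))))))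
theorem f621395 : Led Lsl_gt (LP (LK LD1_c8 LD2_c50 LD3_c16)) = (LP (LK LD1_c16 LD2_c29 LD3_c15)) :=
  Lre_g IH (LK LD1_c8 LD2_c50 LD3_c16) (LK LD1_c16 LD2_c29 LD3_c15) Lrfl Lrfl
theorem f38736 : Led Lsl_bt (LP (LK LD1_c16 LD2_c31 LD3_c2)) = (LP (LK LD1_c8 LD2_c50 LD3_c16)) :=
  Lre_b IH (LK LD1_c16 LD2_c31 LD3_c2) (LK LD1_c8 LD2_c50 LD3_c16) Lrfl Lrfl
theorem f899495 : Led Lsl_ct (LP (LK LD1_c16 LD2_c31 LD3_c2)) = (LP (LK LD1_c17 LD2_c13 LD3_c10)) :=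
  Lgr Lrot10 (Lpr_bt (f38736 IH) (Lpr_gt (f621395 IH) (Lpr_ct (f755581 IH) (Lpr_gt (f755549 IH) (Lpe (K67.f755548 IH) (Lpr_bt (K67.f755546 IH) (Lpe (K67.f755540 IH) (Lpe (K67.f553984 IH) (Lpe (K53.f618513 IH) (Lpr_gt (K69.f899491 IH) (Lpn (LP (LK LD1_c17 LD2_c13 LD3_c10)))))))))))))
theorem f899498 : Led Lsl_cf (LP (LK LD1_c16 LD2_c31 LD3_c2)) = (LP (LK LD1_c17 LD2_c13 LD3_c10)) :=
  Lgr Lrot11 (Lpr_ct (f899495 IH) (Lpn (LP (LK LD1_c17 LD2_c13 LD3_c10))))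
theorem f645232 : Led Lsl_bt (LP (LK LD1_c5 LD2_c48 LD3_c35)) = (LP (LK LD1_c11 LD2_c26 LD3_c41)) :=
  Lre_b IH (LK LD1_c5 LD2_c48 LD3_c35) (LK LD1_c11 LD2_c26 LD3_c41) Lrfl Lrfl
theorem f499310 : Led Lsl_bt (LP (LK LD1_c9 LD2_c49 LD3_c24)) = (LP (LK LD1_c17 LD2_c59 LD3_c33)) :=
  Lre_b IH (LK LD1_c9 LD2_c49 LD3_c24) (LK LD1_c17 LD2_c59 LD3_c33) Lrfl Lrfl
theorem f899595 : Led Lsl_gt (LP (LK LD1_c16 LD2_c31 LD3_c2)) = (LP (LK LD1_c17 LD2_c59 LD3_c55)) :=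
  Lgr Lrot149 (Lpr_cf (f899498 IH) (Lpe (K69.f899491 IH) (Lpr_bf (K48.f559306 IH) (Lpr_ct (K69.f755520 IH) (Lpe (K64.f755512 IH) (Lpe (K64.f66363 IH) (Lpr_bt (f645232 IH) (Lpe (K52.f700526 IH) (Lpe (f499310 IH) (Lpr_ct (K69.f499360 IH) (Lpn (LP (LK LD1_c17 LD2_c59 LD3_c55)))))))))))))
theorem f893940 : Led Lsl_bt (LP (LK LD1_c8 LD2_c50 LD3_c16)) = (LP (LK LD1_c16 LD2_c31 LD3_c2)) :=
  Lre_b IH (LK LD1_c8 LD2_c50 LD3_c16) (LK LD1_c16 LD2_c31 LD3_c2) Lrfl Lrfl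
theorem f38737 : Led Lsl_ct (LP (LK LD1_c8 LD2_c50 LD3_c16)) = (LP (LK LD1_c16 LD2_c31 LD3_c3)) :=
  Lre_c IH (LK LD1_c8 LD2_c50 LD3_c16) (LK LD1_c16 LD2_c31 LD3_c3) Lrfl Lrfl
theorem f72317 : Led Lsl_ct (LP (LK LD1_c9 LD2_c9 LD3_c33)) = (LP (LK LD1_c17 LD2_c2 LD3_c27)) :=
  Lre_c IH (LK LD1_c9 LD2_c9 LD3_c33) (LK LD1_c17 LD2_c2 LD3_c27) Lrfl Lrfl
theorem f982142 : Led Lsl_gf (LP (LK LD1_c16 LD2_c31 LD3_c3)) = (LP (LK LD1_c17 LD2_c2 LD3_c27)) :=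
  Lgr Lrot126 (Lpe (f38737 IH) (Lpr_bt (f893940 IH) (Lpr_gt (f899595 IH) (Lpr_ct (K53.f613973 IH) (Lpr_gt (f921071 IH) (Lpe (f921073 IH) (Lpqs (f981966 IH) (Lpe (f966579 IH) (Lpr_gt (f72353 IH) (Lpe (K71.f72315 IH) (Lpr_ct (f72317 IH) (Lpn (LP (LK LD1_c17 LD2_c2 LD3_c27))))))))))))))
theorem f982143 : Led Lsl_gt (LP (LK LD1_c17 LD2_c2 LD3_c27)) = (LP (LK LD1_c16 LD2_c31 LD3_c3)) :=
  Leop (Lpr_gf (f982142 IH) (Lpn (LP (LK LD1_c17 LD2_c2 LD3_c27))))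
theorem seed_3085 : LEOK LG_g (LK LD1_c17 LD2_c2 LD3_c27) :=
  Leoe_g (LK LD1_c17 LD2_c2 LD3_c27) (f982143 IH)
theorem f103096 : Led Lsl_bt (LP (LK LD1_c9 LD2_c22 LD3_c26)) = (LP (LK LD1_c17 LD2_c18 LD3_c35)) :=
  Lre_b IH (LK LD1_c9 LD2_c22 LD3_c26) (LK LD1_c17 LD2_c18 LD3_c35) Lrfl Lrfl
theorem f79463 : Led Lsl_gt (LP (LK LD1_c9 LD2_c16 LD3_c25)) = (LP (LK LD1_c17 LD2_c11 LD3_c1)) :=
  Lre_g IH (LK LD1_c9 LD2_c16 LD3_c25) (LK LD1_c17 LD2_c11 LD3_c1) Lrfl Lrfl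
theorem f110833 : Led Lsl_gt (LP (LK LD1_c17 LD2_c11 LD3_c1)) = (LP (LK LD1_c9 LD2_c26 LD3_c33)) :=
  Lgr Lrot46 (Lpe (f79463 IH) (Lpr_ft (K7.f110825 IH) (Lpr_at (K7.f110826 IH) (Lpn (LP (LK LD1_c9 LD2_c26 LD3_c33))))))
theorem f76308 : Led Lsl_dt (LP (LK LD1_c27 LD2_c2 LD3_c28)) = (LP (LK LD1_c17 LD2_c11 LD3_c11)) :=
  Lre_d IH (LK LD1_c27 LD2_c2 LD3_c28) (LK LD1_c17 LD2_c11 LD3_c11) Lrfl Lrfl
theorem f76309 : Led Lsl_et (LP (LK LD1_c5 LD2_c54 LD3_c4)) = (LP (LK LD1_c11 LD2_c33 LD3_c57)) :=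
  Lre_e IH (LK LD1_c5 LD2_c54 LD3_c4) (LK LD1_c11 LD2_c33 LD3_c57) Lrfl Lrfl
theorem f76310 : Led Lsl_dt (LP (LK LD1_c11 LD2_c33 LD3_c57)) = (LP (LK LD1_c20 LD2_c31 LD3_c19)) :=
  Lre_d IH (LK LD1_c11 LD2_c33 LD3_c57) (LK LD1_c20 LD2_c31 LD3_c19) Lrfl Lrfl
theorem f76311 : Led Lsl_ef (LP (LK LD1_c27 LD2_c2 LD3_c28)) = (LP (LK LD1_c20 LD2_c31 LD3_c19)) :=
  Lgr Lrot73 (Lpr_dt (f76308 IH) (Lpr_et (K4.f76307 IH) (Lpr_dt (K6.f74524 IH) (Lpr_et (f76309 IH) (Lpr_dt (f76310 IH) (Lpn (LP (LK LD1_c20 LD2_c31 LD3_c19))))))))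
theorem f76319 : Led Lsl_et (LP (LK LD1_c27 LD2_c2 LD3_c28)) = (LP (LK LD1_c20 LD2_c31 LD3_c19)) :=
  Lgr Lrot87 (Lpr_ef (f76311 IH) (Lpn (LP (LK LD1_c20 LD2_c31 LD3_c19))))
theorem f76279 : Led Lsl_bt (LP (LK LD1_c17 LD2_c11 LD3_c12)) = (LP (LK LD1_c27 LD2_c2 LD3_c28)) :=
  Lre_b IH (LK LD1_c17 LD2_c11 LD3_c12) (LK LD1_c27 LD2_c2 LD3_c28) Lrfl Lrfl
theorem f74529 : Led Lsl_dt (LP (LK LD1_c9 LD2_c16 LD3_c32)) = (LP (LK LD1_c17 LD2_c11 LD3_c12)) :=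
  Lre_d IH (LK LD1_c9 LD2_c16 LD3_c32) (LK LD1_c17 LD2_c11 LD3_c12) Lrfl Lrfl
theorem f74316 : Led Lsl_et (LP (LK LD1_c6 LD2_c0 LD3_c46)) = (LP (LK LD1_c2 LD2_c56 LD3_c39)) :=
  Lre_e IH (LK LD1_c6 LD2_c0 LD3_c46) (LK LD1_c2 LD2_c56 LD3_c39) Lrfl Lrfl
theorem f74338 : Led Lsl_dt (LP (LK LD1_c11 LD2_c45 LD3_c54)) = (LP (LK LD1_c6 LD2_c0 LD3_c46)) :=
  Lre_d IH (LK LD1_c11 LD2_c45 LD3_c54) (LK LD1_c6 LD2_c0 LD3_c46) Lrfl Lrfl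
theorem f74530 : Led Lsl_et (LP (LK LD1_c17 LD2_c11 LD3_c12)) = (LP (LK LD1_c11 LD2_c45 LD3_c54)) :=
  Lgr Lrot71 (Lpe (f74529 IH) (Lpe (K4.f74528 IH) (Lpr_df (K2.f74504 IH) (Lpe (f74316 IH) (Lpe (f74338 IH) (Lpn (LP (LK LD1_c11 LD2_c45 LD3_c54))))))))
theorem f76276 : Led Lsl_ef (LP (LK LD1_c17 LD2_c11 LD3_c12)) = (LP (LK LD1_c11 LD2_c45 LD3_c54)) :=
  Lgr Lrot88 (Lpr_et (f74530 IH) (Lpn (LP (LK LD1_c11 LD2_c45 LD3_c54))))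
theorem f76327 : Led Lsl_bf (LP (LK LD1_c11 LD2_c45 LD3_c54)) = (LP (LK LD1_c20 LD2_c31 LD3_c19)) :=
  Lgr Lrot96 (Lpe (f76276 IH) (Lpr_bt (f76279 IH) (Lpr_et (f76319 IH) (Lpn (LP (LK LD1_c20 LD2_c31 LD3_c19))))))
theorem f74354 : Led Lsl_ft (LP (LK LD1_c11 LD2_c45 LD3_c54)) = (LP (LK LD1_c20 LD2_c47 LD3_c22)) :=
  Lre_f IH (LK LD1_c11 LD2_c45 LD3_c54) (LK LD1_c20 LD2_c47 LD3_c22) Lrfl Lrfl
theorem f76321 : Led Lsl_ft (LP (LK LD1_c29 LD2_c29 LD3_c33)) = (LP (LK LD1_c20 LD2_c31 LD3_c19)) :=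
  Lre_f IH (LK LD1_c29 LD2_c29 LD3_c33) (LK LD1_c20 LD2_c31 LD3_c19) Lrfl Lrfl
theorem f76336 : Led Lsl_bt (LP (LK LD1_c20 LD2_c47 LD3_c22)) = (LP (LK LD1_c29 LD2_c29 LD3_c33)) :=
  Lgr Lrot35 (Lpe (f74354 IH) (Lpr_bf (f76327 IH) (Lpe (f76321 IH) (Lpn (LP (LK LD1_c29 LD2_c29 LD3_c33))))))
theorem f74349 : Led Lsl_dt (LP (LK LD1_c11 LD2_c45 LD3_c55)) = (LP (LK LD1_c20 LD2_c47 LD3_c22)) :=
  Lre_d IH (LK LD1_c11 LD2_c45 LD3_c55) (LK LD1_c20 LD2_c47 LD3_c22) Lrfl Lrfl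
theorem f76340 : Led Lsl_dt (LP (LK LD1_c29 LD2_c29 LD3_c33)) = (LP (LK LD1_c20 LD2_c31 LD3_c20)) :=
  Lre_d IH (LK LD1_c29 LD2_c29 LD3_c33) (LK LD1_c20 LD2_c31 LD3_c20) Lrfl Lrfl
theorem f76341 : Led Lsl_bf (LP (LK LD1_c11 LD2_c45 LD3_c55)) = (LP (LK LD1_c20 LD2_c31 LD3_c20)) :=
  Lgr Lrot93 (Lpr_dt (f74349 IH) (Lpr_bt (f76336 IH) (Lpr_dt (f76340 IH) (Lpn (LP (LK LD1_c20 LD2_c31 LD3_c20))))))
theorem f76343 : Led Lsl_bt (LP (LK LD1_c11 LD2_c45 LD3_c55)) = (LP (LK LD1_c20 LD2_c31 LD3_c20)) :=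
  Lgr Lrot127 (Lpr_bf (f76341 IH) (Lpn (LP (LK LD1_c20 LD2_c31 LD3_c20))))
theorem f74330 : Led Lsl_ft (LP (LK LD1_c6 LD2_c0 LD3_c46)) = (LP (LK LD1_c11 LD2_c45 LD3_c55)) :=
  Lre_f IH (LK LD1_c6 LD2_c0 LD3_c46) (LK LD1_c11 LD2_c45 LD3_c55) Lrfl Lrfl
theorem f76350 : Led Lsl_ft (LP (LK LD1_c20 LD2_c31 LD3_c20)) = (LP (LK LD1_c11 LD2_c33 LD3_c57)) :=
  Lre_f IH (LK LD1_c20 LD2_c31 LD3_c20) (LK LD1_c11 LD2_c33 LD3_c57) Lrfl Lrfl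
theorem f76351 : Led Lsl_bf (LP (LK LD1_c6 LD2_c0 LD3_c46)) = (LP (LK LD1_c11 LD2_c33 LD3_c57)) :=
  Lgr Lrot61 (Lpr_ft (f74330 IH) (Lpr_bt (f76343 IH) (Lpr_ft (f76350 IH) (Lpn (LP (LK LD1_c11 LD2_c33 LD3_c57))))))
theorem f74335 : Led Lsl_gt (LP (LK LD1_c6 LD2_c0 LD3_c46)) = (LP (LK LD1_c11 LD2_c45 LD3_c52)) :=
  Lre_g IH (LK LD1_c6 LD2_c0 LD3_c46) (LK LD1_c11 LD2_c45 LD3_c52) Lrfl Lrfl
def v49542 : LQ := Led Lsl_bt (LP (LK LD1_c11 LD2_c45 LD3_c52))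
theorem f971419 : Led Lsl_bt (LP (LK LD1_c11 LD2_c45 LD3_c52)) = v49542 :=
  Lrfl
theorem f971420 : Led Lsl_bf (LP (LK LD1_c11 LD2_c45 LD3_c52)) = v49542 :=
  Lgr Lrot24 (Lpr_bt (f971419 IH) (Lpn v49542))
theorem f982152 : Led Lsl_cf (LP (LK LD1_c17 LD2_c11 LD3_c1)) = v49542 :=
  Lgr Lrot160 (Lpr_gt (f110833 IH) (Lpr_cf (K7.f103074 IH) (Lpr_bt (f103096 IH) (Lpr_gt (f966564 IH) (Lpqs (f981869 IH) (Lpr_ct (f70618 IH) (Lpr_gt (f894055 IH) (Lpqs (f981903 IH) (Lpe (K69.f76358 IH) (Lpe (f76351 IH) (Lpr_gt (f74335 IH) (Lpr_bf (f971420 IH) (Lpn v49542)))))))))))))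
def v38841 : LQ := Led Lsl_gt (LP (LK LD1_c9 LD2_c16 LD3_c29))
theorem f904861 : Led Lsl_gt (LP (LK LD1_c9 LD2_c16 LD3_c29)) = v38841 :=
  Lrfl
theorem f982154 : v38841 = v49542 :=
  (Llr Lrot82 (Lpe (f904861 IH) (Lpr_bf (K6.f137530 IH) (Lpr_ct (K6.f137523 IH) (Lpqs (K75.f964901 IH) (Lpe (K75.f876986 IH) (Lpe (K71.f70644 IH) (Lpe (f70620 IH) (Lpq (f981869 IH) (Lpe (f966564 IH) (Lpe (f103096 IH) (Lpe (K7.f103074 IH) (Lpe (f110833 IH) (Lpr_cf (f982152 IH) (Lpn v49542))))))))))))))).symm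
def v49543 : LQ := Led Lsl_ct (LP (LK LD1_c11 LD2_c45 LD3_c52))
theorem f971421 : Led Lsl_ct (LP (LK LD1_c11 LD2_c45 LD3_c52)) = v49543 :=
  Lrfl
theorem f904862 : Led Lsl_gf (LP (LK LD1_c9 LD2_c26 LD3_c29)) = v38841 :=
  Lgr Lrot76 (Lpr_af (K37.f110589 IH) (Lpe (K37.f110570 IH) (Lpr_gt (f904861 IH) (Lpn v38841))))
theorem f102954 : Led Lsl_af (LP (LK LD1_c9 LD2_c16 LD3_c13)) = (LP (LK LD1_c4 LD2_c44 LD3_c60)) :=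
  Lgr Lrot0 (Lpr_at (K71.f102952 IH) (Lpn (LP (LK LD1_c4 LD2_c44 LD3_c60))))
theorem f99044 : Led Lsl_ft (LP (LK LD1_c9 LD2_c22 LD3_c42)) = (LP (LK LD1_c4 LD2_c44 LD3_c60)) :=
  Lre_f IH (LK LD1_c9 LD2_c22 LD3_c42) (LK LD1_c4 LD2_c44 LD3_c60) Lrfl Lrfl
theorem f904733 : Led Lsl_gt (LP (LK LD1_c9 LD2_c22 LD3_c42)) = v38820 :=
  Lgr Lrot5 (Lpr_ft (f99044 IH) (Lpe (f102954 IH) (Lpr_gf (f904732 IH) (Lpn v38820))))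
theorem f72635 : Led Lsl_et (LP (LK LD1_c5 LD2_c59 LD3_c0)) = (LP (LK LD1_c2 LD2_c55 LD3_c55)) :=
  Lre_e IH (LK LD1_c5 LD2_c59 LD3_c0) (LK LD1_c2 LD2_c55 LD3_c55) Lrfl Lrfl
theorem f72545 : Led Lsl_et (LP (LK LD1_c4 LD2_c59 LD3_c45)) = (LP (LK LD1_c9 LD2_c49 LD3_c57)) :=
  Lre_e IH (LK LD1_c4 LD2_c59 LD3_c45) (LK LD1_c9 LD2_c49 LD3_c57) Lrfl Lrfl
theorem f72636 : Led Lsl_cf (LP (LK LD1_c5 LD2_c59 LD3_c0)) = (LP (LK LD1_c9 LD2_c49 LD3_c57)) :=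
  Lgr Lrot39 (Lpr_et (f72635 IH) (Lpr_ct (K2.f72567 IH) (Lpr_et (f72545 IH) (Lpn (LP (LK LD1_c9 LD2_c49 LD3_c57))))))
theorem f72754 : Led Lsl_ct (LP (LK LD1_c5 LD2_c59 LD3_c0)) = (LP (LK LD1_c9 LD2_c49 LD3_c57)) :=
  Lgr Lrot59 (Lpr_cf (f72636 IH) (Lpn (LP (LK LD1_c9 LD2_c49 LD3_c57))))
theorem f72584 : Led Lsl_gt (LP (LK LD1_c9 LD2_c49 LD3_c57)) = (LP (LK LD1_c18 LD2_c0 LD3_c31)) :=
  Lre_g IH (LK LD1_c9 LD2_c49 LD3_c57) (LK LD1_c18 LD2_c0 LD3_c31) Lrfl Lrfl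
theorem f982155 : v49543 = (LP (LK LD1_c18 LD2_c0 LD3_c31)) :=
  (Llr Lrot10 (Lpe (f971421 IH) (Lpr_bt (f971419 IH) (Lpq (f982154 IH) (Lpe (f904862 IH) (Lpe (K7.f99038 IH) (Lpr_gt (f904733 IH) (Lpqs (f982110 IH) (Lpe (f908701 IH) (Lpr_bt (f908690 IH) (Lpq (f982099 IH) (Lpe (f970107 IH) (Lpe (K65.f72753 IH) (Lpr_ct (f72754 IH) (Lpr_gt (f72584 IH) (Lpn (LP (LK LD1_c18 LD2_c0 LD3_c31)))))))))))))))))).symm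
theorem f971422 : Led Lsl_cf (LP (LK LD1_c11 LD2_c45 LD3_c52)) = v49543 :=
  Lgr Lrot11 (Lpr_ct (f971421 IH) (Lpn v49543))
theorem f982156 : Led Lsl_ct (LP (LK LD1_c18 LD2_c0 LD3_c31)) = (LP (LK LD1_c11 LD2_c45 LD3_c52)) :=
  Leop (Lpr_cf (f971422 IH) (Lpqs (f982155 IH) (Lpn (LP (LK LD1_c18 LD2_c0 LD3_c31)))))
theorem seed_3086 : LEOK LG_c (LK LD1_c18 LD2_c0 LD3_c31) :=
  Leoe_c (LK LD1_c18 LD2_c0 LD3_c31) (f982156 IH)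
def v12679 : LQ := Led Lsl_ft (LP (LK LD1_c4 LD2_c26 LD3_c44))
theorem f696738 : Led Lsl_ft (LP (LK LD1_c4 LD2_c26 LD3_c44)) = v12679 :=
  Lrfl
theorem f696741 : Led Lsl_ff (LP (LK LD1_c4 LD2_c26 LD3_c44)) = v12679 :=
  Lgr Lrot3 (Lpr_ft (f696738 IH) (Lpn v12679))
theorem f696743 : Led Lsl_ct K50.v4148 = v12679 :=
  Lgr Lrot40 (Lpe (K50.f631464 IH) (Lpe (K37.f408174 IH) (Lpr_ff (f696741 IH) (Lpn v12679))))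
theorem f696848 : v12679 = (LP (LK LD1_c6 LD2_c13 LD3_c35)) :=
  Lefun (Lecon (f696743 IH) (K57.f696840 IH).symm) (K37.f70296 IH)
theorem f696736 : Led Lsl_ff (LP (LK LD1_c4 LD2_c26 LD3_c48)) = v12678 :=
  Lgr Lrot3 (Lpr_ft (f696735 IH) (Lpn v12678))
theorem f696742 : Led Lsl_at (LP (LK LD1_c4 LD2_c26 LD3_c48)) = v12679 :=
  Lgr Lrot66 (Lpr_ff (f696736 IH) (Lpe (f696730 IH) (Lpr_ff (f696741 IH) (Lpn v12679))))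
def v37344 : LQ := Led Lsl_at (LP (LK LD1_c8 LD2_c51 LD3_c18))
theorem f894188 : Led Lsl_at (LP (LK LD1_c8 LD2_c51 LD3_c18)) = v37344 :=
  Lrfl
theorem f894189 : Led Lsl_af (LP (LK LD1_c8 LD2_c51 LD3_c18)) = v37344 :=
  Lgr Lrot0 (Lpr_at (f894188 IH) (Lpn v37344))
theorem f981816 : Led Lsl_bf v37344 = v51403 :=
  Lgr Lrot81 (Lpe (f894189 IH) (Lpr_bt (f99350 IH) (Lpr_at (f696742 IH) (Lpqs (f696848 IH) (Lpr_bt (K71.f70300 IH) (Lpr_at (f981814 IH) (Lpn v51403)))))))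
theorem f982221 : Led Lsl_bt v37344 = (LP (LK LD1_c16 LD2_c24 LD3_c37)) :=
  Lgr Lrot127 (Lpr_bf (f981816 IH) (Lpq (f981824 IH) (Lpn (LP (LK LD1_c16 LD2_c24 LD3_c37)))))
theorem f81874 : Led Lsl_dt (LP (LK LD1_c11 LD2_c36 LD3_c34)) = (LP (LK LD1_c5 LD2_c55 LD3_c40)) :=
  Lre_d IH (LK LD1_c11 LD2_c36 LD3_c34) (LK LD1_c5 LD2_c55 LD3_c40) Lrfl Lrfl
theorem f81875 : Led Lsl_bf (LP (LK LD1_c5 LD2_c54 LD3_c5)) = (LP (LK LD1_c5 LD2_c55 LD3_c40)) :=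
  Lgr Lrot93 (Lpr_dt (K69.f81873 IH) (Lpr_bt (K6.f81865 IH) (Lpr_dt (f81874 IH) (Lpn (LP (LK LD1_c5 LD2_c55 LD3_c40))))))
theorem f81923 : Led Lsl_gt (LP (LK LD1_c20 LD2_c34 LD3_c43)) = (LP (LK LD1_c11 LD2_c36 LD3_c31)) :=
  Lre_g IH (LK LD1_c20 LD2_c34 LD3_c43) (LK LD1_c11 LD2_c36 LD3_c31) Lrfl Lrfl
theorem f982222 : Led Lsl_ct v37344 = (LP (LK LD1_c20 LD2_c34 LD3_c43)) :=
  Lgr Lrot64 (Lpr_bt (f982221 IH) (Lpqs (f981824 IH) (Lpe (f981819 IH) (Lpe (f981849 IH) (Lpr_ct (f208659 IH) (Lpe (f104508 IH) (Lpr_cf (f981868 IH) (Lpqs (f981904 IH) (Lpe (f76359 IH) (Lpr_bf (f81875 IH) (Lpr_ct (f81900 IH) (Lpe (f81923 IH) (Lpn (LP (LK LD1_c20 LD2_c34 LD3_c43)))))))))))))))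
theorem f982223 : Led Lsl_af (LP (LK LD1_c16 LD2_c33 LD3_c14)) = (LP (LK LD1_c20 LD2_c34 LD3_c43)) :=
  Lgr Lrot68 (Lpr_ct (f99351 IH) (Lpr_at (f894188 IH) (Lpr_ct (f982222 IH) (Lpn (LP (LK LD1_c20 LD2_c34 LD3_c43))))))
theorem f982224 : Led Lsl_at (LP (LK LD1_c20 LD2_c34 LD3_c43)) = (LP (LK LD1_c16 LD2_c33 LD3_c14)) :=
  Leop (Lpr_af (f982223 IH) (Lpn (LP (LK LD1_c20 LD2_c34 LD3_c43))))
theorem seed_3087 : LEOK LG_a (LK LD1_c20 LD2_c34 LD3_c43) :=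
  Leoe_a (LK LD1_c20 LD2_c34 LD3_c43) (f982224 IH)
def v51408 : LQ := Led Lsl_bt (LP (LK LD1_c12 LD2_c6 LD3_c21))
theorem f982268 : Led Lsl_bt (LP (LK LD1_c12 LD2_c6 LD3_c21)) = v51408 :=
  Lrfl
def v17213 : LQ := Led Lsl_at (LP (LK LD1_c6 LD2_c14 LD3_c50))
theorem f756734 : Led Lsl_at (LP (LK LD1_c6 LD2_c14 LD3_c50)) = v17213 :=
  Lrfl
theorem f756736 : Led Lsl_df K57.v5297 = v17213 :=
  Lgr Lrot18 (Lpe (K57.f646941 IH) (Lpr_dt (K37.f59369 IH) (Lpr_at (f756734 IH) (Lpn v17213))))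
theorem f756737 : Led Lsl_dt K57.v5297 = v17213 :=
  Lgr Lrot42 (Lpr_df (f756736 IH) (Lpn v17213))
theorem f756806 : v17213 = (LP (LK LD1_c12 LD2_c6 LD3_c21)) :=
  Lefun (Lecon (f756737 IH) (K57.f756790 IH).symm) (K47.f75737 IH)
theorem f756738 : Led Lsl_ft (LP (LK LD1_c6 LD2_c14 LD3_c53)) = v17213 :=
  Lgr Lrot54 (Lpe (K47.f38144 IH) (Lpr_ff (K57.f646944 IH) (Lpr_df (f756736 IH) (Lpn v17213))))
theorem f982271 : Led Lsl_ff (LP (LK LD1_c12 LD2_c8 LD3_c2)) = v51408 :=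
  Lgr Lrot25 (Lpr_bt (K57.f552934 IH) (Lpr_ft (f756738 IH) (Lpqs (f756806 IH) (Lpr_bt (f982268 IH) (Lpn v51408)))))
theorem f982275 : Led Lsl_ft (LP (LK LD1_c12 LD2_c8 LD3_c2)) = v51408 :=
  Lgr Lrot48 (Lpr_ff (f982271 IH) (Lpn v51408))
theorem f606776 : Led Lsl_ft (LP (LK LD1_c12 LD2_c8 LD3_c0)) = (LP (LK LD1_c8 LD2_c49 LD3_c48)) :=
  Lgr Lrot48 (Lpr_ff (K57.f606771 IH) (Lpn (LP (LK LD1_c8 LD2_c49 LD3_c48))))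
theorem f80242 : Led Lsl_dt (LP (LK LD1_c8 LD2_c49 LD3_c48)) = (LP (LK LD1_c16 LD2_c30 LD3_c30)) :=
  Lre_d IH (LK LD1_c8 LD2_c49 LD3_c48) (LK LD1_c16 LD2_c30 LD3_c30) Lrfl Lrfl
theorem f606780 : Led Lsl_ff (LP (LK LD1_c21 LD2_c14 LD3_c17)) = (LP (LK LD1_c16 LD2_c30 LD3_c30)) :=
  Lgr Lrot19 (Lpr_dt (K62.f606779 IH) (Lpr_ft (f606776 IH) (Lpr_dt (f80242 IH) (Lpn (LP (LK LD1_c16 LD2_c30 LD3_c30))))))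
theorem f982276 : Led Lsl_af (LP (LK LD1_c16 LD2_c30 LD3_c30)) = v51408 :=
  Lgr Lrot45 (Lpe (f606780 IH) (Lpr_at (K62.f552966 IH) (Lpr_ft (f982275 IH) (Lpn v51408))))
theorem f982278 : Led Lsl_gt (LP (LK LD1_c21 LD2_c14 LD3_c18)) = (LP (LK LD1_c16 LD2_c30 LD3_c30)) :=
  Lgr Lrot46 (Lpe (K63.f552957 IH) (Lpr_ft (f982275 IH) (Lpe (f982276 IH) (Lpn (LP (LK LD1_c16 LD2_c30 LD3_c30))))))
theorem f982279 : Led Lsl_gt (LP (LK LD1_c21 LD2_c14 LD3_c18)) = (LP (LK LD1_c16 LD2_c30 LD3_c30)) :=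
  Leop (Lpe (f982278 IH) (Lpn (LP (LK LD1_c21 LD2_c14 LD3_c18))))
theorem seed_3088 : LEOK LG_g (LK LD1_c21 LD2_c14 LD3_c18) :=
  Leoe_g (LK LD1_c21 LD2_c14 LD3_c18) (f982279 IH)
def v51409 : LQ := Led Lsl_et (LP (LK LD1_c12 LD2_c6 LD3_c21))
theorem f982287 : Led Lsl_et (LP (LK LD1_c12 LD2_c6 LD3_c21)) = v51409 :=
  Lrfl
theorem f982292 : Led Lsl_gt K63.v21665 = v51409 :=
  Lgr Lrot131 (Lpe (K63.f798553 IH) (Lpr_dt (K63.f526908 IH) (Lpe (K64.f554179 IH) (Lpe (K55.f439575 IH) (Lpr_gf (K47.f576652 IH) (Lpe (K37.f210900 IH) (Lpr_dt (K46.f75724 IH) (Lpe (K37.f75735 IH) (Lpe (K43.f75736 IH) (Lpr_et (f982287 IH) (Lpn v51409)))))))))))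
theorem f756650 : Led Lsl_ef (LP (LK LD1_c6 LD2_c13 LD3_c52)) = K57.v17200 :=
  Lgr Lrot88 (Lpr_et (K57.f756648 IH) (Lpn K57.v17200))
theorem f756658 : Led Lsl_ef (LP (LK LD1_c8 LD2_c47 LD3_c57)) = (LP (LK LD1_c13 LD2_c48 LD3_c13)) :=
  Lgr Lrot88 (Lpr_et (K57.f756656 IH) (Lpn (LP (LK LD1_c13 LD2_c48 LD3_c13))))
theorem f982289 : Led Lsl_df (LP (LK LD1_c13 LD2_c48 LD3_c13)) = v51409 :=
  Lgr Lrot70 (Lpe (f756658 IH) (Lpr_dt (K57.f756654 IH) (Lpe (f756650 IH) (Lpr_dt (K47.f75737 IH) (Lpr_et (f982287 IH) (Lpn v51409))))))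
theorem f982296 : Led Lsl_gf (LP (LK LD1_c13 LD2_c47 LD3_c21)) = (LP (LK LD1_c21 LD2_c14 LD3_c48)) :=
  Lgr Lrot141 (Lpe (K47.f469402 IH) (Lpr_dt (K55.f439575 IH) (Lpr_gt (K64.f554179 IH) (Lpe (K63.f526908 IH) (Lpr_et (K63.f798553 IH) (Lpr_gt (f982292 IH) (Lpe (f982289 IH) (Lpr_gt (K57.f612166 IH) (Lpe (K47.f424507 IH) (Lpr_et (K47.f608950 IH) (Lpn (LP (LK LD1_c21 LD2_c14 LD3_c48)))))))))))))
theorem f982297 : Led Lsl_gt (LP (LK LD1_c21 LD2_c14 LD3_c48)) = (LP (LK LD1_c13 LD2_c47 LD3_c21)) :=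
  Leop (Lpr_gf (f982296 IH) (Lpn (LP (LK LD1_c21 LD2_c14 LD3_c48))))
theorem seed_3089 : LEOK LG_g (LK LD1_c21 LD2_c14 LD3_c48) :=
  Leoe_g (LK LD1_c21 LD2_c14 LD3_c48) (f982297 IH)
def v51411 : LQ := Led Lsl_dt (LP (LK LD1_c12 LD2_c6 LD3_c26))
theorem f982308 : Led Lsl_dt (LP (LK LD1_c12 LD2_c6 LD3_c26)) = v51411 :=
  Lrfl
theorem f742521 : Led Lsl_et (LP (LK LD1_c12 LD2_c6 LD3_c26)) = (LP (LK LD1_c21 LD2_c12 LD3_c30)) :=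
  Lre_e IH (LK LD1_c12 LD2_c6 LD3_c26) (LK LD1_c21 LD2_c12 LD3_c30) Lrfl Lrfl
def v1811 : LQ := Led Lsl_gf (LP (LK LD1_c1 LD2_c27 LD3_c57))
theorem f503044 : Led Lsl_gf (LP (LK LD1_c1 LD2_c27 LD3_c57)) = v1811 :=
  Lrfl
theorem f205423 : Led Lsl_ft (LP (LK LD1_c2 LD2_c9 LD3_c42)) = (LP (LK LD1_c1 LD2_c1 LD3_c57)) :=
  Lre_f IH (LK LD1_c2 LD2_c9 LD3_c42) (LK LD1_c1 LD2_c1 LD3_c57) Lrfl Lrfl
theorem f205618 : Led Lsl_at (LP (LK LD1_c1 LD2_c1 LD3_c57)) = (LP (LK LD1_c0 LD2_c42 LD3_c3)) :=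
  Lgr Lrot66 (Lpe (f205423 IH) (Lpr_af (K11.f205613 IH) (Lpe (K13.f205452 IH) (Lpn (LP (LK LD1_c0 LD2_c42 LD3_c3))))))
theorem f453523 : Led Lsl_gt (LP (LK LD1_c2 LD2_c9 LD3_c42)) = K35.v472 :=
  Lgr Lrot5 (Lpr_ft (f205423 IH) (Lpr_at (f205618 IH) (Lpr_gf (K35.f453522 IH) (Lpn K35.v472))))
theorem f537192 : (LP (LK LD1_c2 LD2_c9 LD3_c42)) = v1811 :=
  Lefun (Lecon (Lfl_gt (f453523 IH)) (K35.f537049 IH)) (f503044 IH)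
theorem f982311 : Led Lsl_gf (LP (LK LD1_c24 LD2_c56 LD3_c32)) = v51411 :=
  Lgr Lrot134 (Lpe (K61.f554573 IH) (Lpr_et (K61.f544177 IH) (Lpr_gt (K40.f116174 IH) (Lpe (K37.f544171 IH) (Lpr_dt (K11.f80657 IH) (Lpqs (f537192 IH) (Lpe (f503044 IH) (Lpe (K35.f81584 IH) (Lpr_et (K61.f81580 IH) (Lpr_gt (K55.f81152 IH) (Lpr_dt (f982308 IH) (Lpn v51411))))))))))))
theorem f982312 : Led Lsl_gf (LP (LK LD1_c21 LD2_c12 LD3_c30)) = (LP (LK LD1_c23 LD2_c3 LD3_c25)) :=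
  Lgr Lrot141 (Lpe (f742521 IH) (Lpr_dt (f982308 IH) (Lpe (f982311 IH) (Lpe (K61.f554573 IH) (Lpr_et (K61.f544177 IH) (Lpr_gt (K40.f116174 IH) (Lpr_dt (K55.f116160 IH) (Lpr_gt (K37.f106229 IH) (Lpe (K61.f469364 IH) (Lpr_et (K61.f489409 IH) (Lpn (LP (LK LD1_c23 LD2_c3 LD3_c25)))))))))))))
theorem f982313 : Led Lsl_gt (LP (LK LD1_c23 LD2_c3 LD3_c25)) = (LP (LK LD1_c21 LD2_c12 LD3_c30)) :=
  Leop (Lpr_gf (f982312 IH) (Lpn (LP (LK LD1_c23 LD2_c3 LD3_c25))))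
theorem seed_3090 : LEOK LG_g (LK LD1_c23 LD2_c3 LD3_c25) :=
  Leoe_g (LK LD1_c23 LD2_c3 LD3_c25) (f982313 IH)
def v51430 : LQ := Led Lsl_ft (LP (LK LD1_c12 LD2_c6 LD3_c38))
theorem f982420 : Led Lsl_ft (LP (LK LD1_c12 LD2_c6 LD3_c38)) = v51430 :=
  Lrfl
theorem f982425 : Led Lsl_ff (LP (LK LD1_c12 LD2_c6 LD3_c38)) = v51430 :=
  Lgr Lrot3 (Lpr_ft (f982420 IH) (Lpn v51430))
theorem f241739 : Led Lsl_af (LP (LK LD1_c8 LD2_c43 LD3_c47)) = (LP (LK LD1_c12 LD2_c6 LD3_c38)) :=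
  Lgr Lrot0 (Lpr_at (K13.f241727 IH) (Lpn (LP (LK LD1_c12 LD2_c6 LD3_c38))))
def v37043 : LQ := Led Lsl_ft (LP (LK LD1_c8 LD2_c43 LD3_c47))
theorem f892150 : Led Lsl_ft (LP (LK LD1_c8 LD2_c43 LD3_c47)) = v37043 :=
  Lrfl
theorem f982429 : Led Lsl_at v37043 = v51430 :=
  Lgr Lrot66 (Lpe (f892150 IH) (Lpr_af (f241739 IH) (Lpr_ff (f982425 IH) (Lpn v51430))))
theorem f346882 : Led Lsl_gt (LP (LK LD1_c8 LD2_c43 LD3_c47)) = (LP (LK LD1_c16 LD2_c20 LD3_c57)) :=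
  Lre_g IH (LK LD1_c8 LD2_c43 LD3_c47) (LK LD1_c16 LD2_c20 LD3_c57) Lrfl Lrfl
theorem f982434 : Led Lsl_gt (LP (LK LD1_c16 LD2_c20 LD3_c57)) = v51430 :=
  Lgr Lrot46 (Lpe (f346882 IH) (Lpr_ft (f892150 IH) (Lpr_at (f982429 IH) (Lpn v51430))))
theorem f982431 : Led Lsl_dt (LP (LK LD1_c14 LD2_c58 LD3_c32)) = v51430 :=
  Lgr Lrot60 (Lpe (K13.f241350 IH) (Lpe (K13.f241346 IH) (Lpr_ff (f982425 IH) (Lpn v51430))))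
theorem f792745 : Led Lsl_df (LP (LK LD1_c17 LD2_c57 LD3_c6)) = (LP (LK LD1_c15 LD2_c6 LD3_c26)) :=
  Lgr Lrot12 (Lpr_bt (K61.f792735 IH) (Lpe (K61.f613243 IH) (Lpr_bt (K61.f613258 IH) (Lpn (LP (LK LD1_c15 LD2_c6 LD3_c26))))))
theorem f792753 : Led Lsl_gt (LP (LK LD1_c17 LD2_c57 LD3_c6)) = (LP (LK LD1_c12 LD2_c6 LD3_c29)) :=
  Lgr Lrot137 (Lpr_ef (K61.f792747 IH) (Lpr_dt (K61.f489411 IH) (Lpe (K37.f147278 IH) (Lpe (K39.f544191 IH) (Lpr_et (K37.f59241 IH) (Lpe (K1.f37907 IH) (Lpe (K1.f30048 IH) (Lpr_dt (K1.f29995 IH) (Lpe (K37.f30142 IH) (Lpr_df (K37.f81523 IH) (Lpn (LP (LK LD1_c12 LD2_c6 LD3_c29)))))))))))))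
theorem f38761 : Led Lsl_et (LP (LK LD1_c8 LD2_c2 LD3_c0)) = (LP (LK LD1_c15 LD2_c7 LD3_c44)) :=
  Lre_e IH (LK LD1_c8 LD2_c2 LD3_c0) (LK LD1_c15 LD2_c7 LD3_c44) Lrfl Lrfl
theorem f81528 : Led Lsl_gt (LP (LK LD1_c15 LD2_c7 LD3_c44)) = (LP (LK LD1_c24 LD2_c56 LD3_c34)) :=
  Lre_g IH (LK LD1_c15 LD2_c7 LD3_c44) (LK LD1_c24 LD2_c56 LD3_c34) Lrfl Lrfl
theorem f982435 : Led Lsl_df (LP (LK LD1_c16 LD2_c20 LD3_c57)) = (LP (LK LD1_c24 LD2_c56 LD3_c34)) :=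
  Lgr Lrot135 (Lpr_gt (f982434 IH) (Lpe (f982431 IH) (Lpr_et (K13.f241607 IH) (Lpe (K39.f417983 IH) (Lpr_ef (K61.f610642 IH) (Lpe (f792745 IH) (Lpr_gt (f792753 IH) (Lpe (K37.f81525 IH) (Lpr_et (f38761 IH) (Lpr_gt (f81528 IH) (Lpn (LP (LK LD1_c24 LD2_c56 LD3_c34)))))))))))))
theorem f982436 : Led Lsl_dt (LP (LK LD1_c24 LD2_c56 LD3_c34)) = (LP (LK LD1_c16 LD2_c20 LD3_c57)) :=
  Leop (Lpr_df (f982435 IH) (Lpn (LP (LK LD1_c24 LD2_c56 LD3_c34))))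
theorem seed_3091 : LEOK LG_d (LK LD1_c24 LD2_c56 LD3_c34) :=
  Leoe_d (LK LD1_c24 LD2_c56 LD3_c34) (f982436 IH)
def v51435 : LQ := Led Lsl_gf (LP (LK LD1_c12 LD2_c6 LD3_c49))
theorem f982451 : Led Lsl_gf (LP (LK LD1_c12 LD2_c6 LD3_c49)) = v51435 :=
  Lrfl
def v35715 : LQ := Led Lsl_ft (LP (LK LD1_c8 LD2_c2 LD3_c14))
theorem f877030 : Led Lsl_ft (LP (LK LD1_c8 LD2_c2 LD3_c14)) = v35715 :=
  Lrfl
theorem f877032 : Led Lsl_ff (LP (LK LD1_c8 LD2_c2 LD3_c14)) = v35715 :=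
  Lgr Lrot3 (Lpr_ft (f877030 IH) (Lpn v35715))
theorem f982452 : Led Lsl_gt v35715 = v51435 :=
  Lgr Lrot5 (Lpe (f877032 IH) (Lpe (K39.f158653 IH) (Lpr_gf (f982451 IH) (Lpn v51435))))
def v4851 : LQ := Led Lsl_gf (LP (LK LD1_c2 LD2_c50 LD3_c44))
def v24595 : LQ := Led Lsl_ct v4851
theorem f824737 : Led Lsl_ct v4851 = v24595 :=
  Lrfl
def v5313 : LQ := Led Lsl_ft (LP (LK LD1_c3 LD2_c5 LD3_c47))
theorem f647002 : Led Lsl_ft (LP (LK LD1_c3 LD2_c5 LD3_c47)) = v5313 :=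
  Lrfl
theorem f647004 : Led Lsl_ff (LP (LK LD1_c3 LD2_c5 LD3_c47)) = v5313 :=
  Lgr Lrot3 (Lpr_ft (f647002 IH) (Lpn v5313))
theorem f186041 : Led Lsl_et (LP (LK LD1_c3 LD2_c5 LD3_c47)) = (LP (LK LD1_c1 LD2_c28 LD3_c56)) :=
  Lre_e IH (LK LD1_c3 LD2_c5 LD3_c47) (LK LD1_c1 LD2_c28 LD3_c56) Lrfl Lrfl
theorem f450144 : Led Lsl_af (LP (LK LD1_c3 LD2_c5 LD3_c47)) = (LP (LK LD1_c2 LD2_c50 LD3_c44)) :=
  Lgr Lrot50 (Lpr_et (f186041 IH) (Lpr_at (K37.f450132 IH) (Lpr_et (K71.f450143 IH) (Lpn (LP (LK LD1_c2 LD2_c50 LD3_c44))))))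
theorem f450146 : Led Lsl_at (LP (LK LD1_c3 LD2_c5 LD3_c47)) = (LP (LK LD1_c2 LD2_c50 LD3_c44)) :=
  Lgr Lrot100 (Lpr_af (f450144 IH) (Lpn (LP (LK LD1_c2 LD2_c50 LD3_c44))))
theorem f640585 : Led Lsl_gf (LP (LK LD1_c2 LD2_c50 LD3_c44)) = v4851 :=
  Lrfl
theorem f647007 : Led Lsl_gf v4851 = v5313 :=
  Lgr Lrot47 (Lpe (f640585 IH) (Lpe (f450146 IH) (Lpr_ff (f647004 IH) (Lpn v5313))))
def v17276 : LQ := Led Lsl_ft (LP (LK LD1_c6 LD2_c17 LD3_c11))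
theorem f758102 : Led Lsl_ft (LP (LK LD1_c6 LD2_c17 LD3_c11)) = v17276 :=
  Lrfl
theorem f450148 : Led Lsl_bt (LP (LK LD1_c3 LD2_c5 LD3_c47)) = (LP (LK LD1_c6 LD2_c17 LD3_c11)) :=
  Lre_b IH (LK LD1_c3 LD2_c5 LD3_c47) (LK LD1_c6 LD2_c17 LD3_c11) Lrfl Lrfl
theorem f758103 : Led Lsl_bf v5313 = v17276 :=
  Lgr Lrot61 (Lpe (f647004 IH) (Lpr_bt (f450148 IH) (Lpr_ft (f758102 IH) (Lpn v17276))))
theorem f450122 : Led Lsl_et (LP (LK LD1_c3 LD2_c5 LD3_c44)) = (LP (LK LD1_c6 LD2_c17 LD3_c11)) :=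
  Lre_e IH (LK LD1_c3 LD2_c5 LD3_c44) (LK LD1_c6 LD2_c17 LD3_c11) Lrfl Lrfl
theorem f618551 : Led Lsl_ct (LP (LK LD1_c6 LD2_c17 LD3_c11)) = (LP (LK LD1_c8 LD2_c2 LD3_c14)) :=
  Lgr Lrot15 (Lpe (f450122 IH) (Lpr_cf (K40.f558262 IH) (Lpe (K39.f69429 IH) (Lpn (LP (LK LD1_c8 LD2_c2 LD3_c14))))))
theorem f618555 : Led Lsl_cf (LP (LK LD1_c6 LD2_c17 LD3_c11)) = (LP (LK LD1_c8 LD2_c2 LD3_c14)) :=
  Lgr Lrot11 (Lpr_ct (f618551 IH) (Lpn (LP (LK LD1_c8 LD2_c2 LD3_c14))))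
theorem f877033 : Led Lsl_ct v17276 = v35715 :=
  Lgr Lrot40 (Lpe (f758102 IH) (Lpr_cf (f618555 IH) (Lpr_ff (f877032 IH) (Lpn v35715))))
def v40805 : LQ := Led Lsl_gt (LP (LK LD1_c9 LD2_c46 LD3_c55))
theorem f920225 : Led Lsl_gt (LP (LK LD1_c9 LD2_c46 LD3_c55)) = v40805 :=
  Lrfl
theorem f544261 : Led Lsl_bt (LP (LK LD1_c27 LD2_c41 LD3_c36)) = (LP (LK LD1_c17 LD2_c56 LD3_c61)) :=
  Lre_b IH (LK LD1_c27 LD2_c41 LD3_c36) (LK LD1_c17 LD2_c56 LD3_c61) Lrfl Lrfl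
theorem f544262 : Led Lsl_bt (LP (LK LD1_c13 LD2_c26 LD3_c43)) = (LP (LK LD1_c22 LD2_c46 LD3_c16)) :=
  Lre_b IH (LK LD1_c13 LD2_c26 LD3_c43) (LK LD1_c22 LD2_c46 LD3_c16) Lrfl Lrfl
theorem f544263 : Led Lsl_df (LP (LK LD1_c27 LD2_c41 LD3_c36)) = (LP (LK LD1_c22 LD2_c46 LD3_c16)) :=
  Lgr Lrot12 (Lpr_bt (f544261 IH) (Lpr_dt (K62.f544259 IH) (Lpr_bt (f544262 IH) (Lpn (LP (LK LD1_c22 LD2_c46 LD3_c16))))))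
theorem f544265 : Led Lsl_et (LP (LK LD1_c27 LD2_c41 LD3_c36)) = (LP (LK LD1_c17 LD2_c56 LD3_c56)) :=
  Lre_e IH (LK LD1_c27 LD2_c41 LD3_c36) (LK LD1_c17 LD2_c56 LD3_c56) Lrfl Lrfl
theorem f544266 : Led Lsl_dt (LP (LK LD1_c17 LD2_c56 LD3_c56)) = (LP (LK LD1_c9 LD2_c46 LD3_c55)) :=
  Lre_d IH (LK LD1_c17 LD2_c56 LD3_c56) (LK LD1_c9 LD2_c46 LD3_c55) Lrfl Lrfl
theorem f544268 : Led Lsl_et (LP (LK LD1_c13 LD2_c26 LD3_c42)) = (LP (LK LD1_c22 LD2_c46 LD3_c16)) :=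
  Lre_e IH (LK LD1_c13 LD2_c26 LD3_c42) (LK LD1_c22 LD2_c46 LD3_c16) Lrfl Lrfl
theorem f544269 : Led Lsl_dt (LP (LK LD1_c17 LD2_c56 LD3_c57)) = (LP (LK LD1_c13 LD2_c26 LD3_c42)) :=
  Lgr Lrot77 (Lpe (K75.f544267 IH) (Lpe (f544266 IH) (Lpe (f544265 IH) (Lpr_df (f544263 IH) (Lpe (f544268 IH) (Lpn (LP (LK LD1_c13 LD2_c26 LD3_c42))))))))
theorem f544276 : Led Lsl_et (LP (LK LD1_c17 LD2_c56 LD3_c57)) = (LP (LK LD1_c9 LD2_c46 LD3_c55)) :=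
  Lre_e IH (LK LD1_c17 LD2_c56 LD3_c57) (LK LD1_c9 LD2_c46 LD3_c55) Lrfl Lrfl
theorem f590030 : Led Lsl_gt (LP (LK LD1_c8 LD2_c2 LD3_c19)) = (LP (LK LD1_c9 LD2_c46 LD3_c55)) :=
  Lgr Lrot131 (Lpe (K44.f149435 IH) (Lpr_dt (K39.f29503 IH) (Lpe (K42.f29481 IH) (Lpe (K39.f29475 IH) (Lpe (K40.f29483 IH) (Lpe (K44.f425770 IH) (Lpr_dt (K50.f570650 IH) (Lpr_gf (K69.f590028 IH) (Lpe (f544269 IH) (Lpr_et (f544276 IH) (Lpn (LP (LK LD1_c9 LD2_c46 LD3_c55)))))))))))))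
def v35717 : LQ := Led Lsl_ft (LP (LK LD1_c8 LD2_c2 LD3_c19))
theorem f877035 : Led Lsl_ft (LP (LK LD1_c8 LD2_c2 LD3_c19)) = v35717 :=
  Lrfl
theorem f920226 : Led Lsl_at v35717 = v40805 :=
  Lgr Lrot26 (Lpe (f877035 IH) (Lpr_gt (f590030 IH) (Lpr_gt (f920225 IH) (Lpn v40805))))
def v15869 : LQ := Led Lsl_et (LP (LK LD1_c5 LD2_c49 LD3_c6))
theorem f744000 : Led Lsl_et (LP (LK LD1_c5 LD2_c49 LD3_c6)) = v15869 :=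
  Lrfl
theorem f208410 : Led Lsl_ff (LP (LK LD1_c3 LD2_c59 LD3_c32)) = (LP (LK LD1_c6 LD2_c13 LD3_c16)) :=
  Lgr Lrot3 (Lpr_ft (K40.f208408 IH) (Lpn (LP (LK LD1_c6 LD2_c13 LD3_c16))))
theorem f208412 : Led Lsl_at (LP (LK LD1_c3 LD2_c59 LD3_c32)) = (LP (LK LD1_c6 LD2_c13 LD3_c14)) :=
  Lgr Lrot66 (Lpr_ff (f208410 IH) (Lpe (K8.f158649 IH) (Lpe (K8.f158293 IH) (Lpn (LP (LK LD1_c6 LD2_c13 LD3_c14))))))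
theorem f101757 : Led Lsl_bf (LP (LK LD1_c4 LD2_c58 LD3_c54)) = (LP (LK LD1_c6 LD2_c13 LD3_c14)) :=
  Lgr Lrot24 (Lpr_bt (K8.f101746 IH) (Lpn (LP (LK LD1_c6 LD2_c13 LD3_c14))))
theorem f558252 : Led Lsl_af (LP (LK LD1_c5 LD2_c49 LD3_c6)) = (LP (LK LD1_c4 LD2_c0 LD3_c46)) :=
  Lgr Lrot36 (Lpr_bt (K40.f558250 IH) (Lpr_at (f208412 IH) (Lpe (f101757 IH) (Lpr_at (K8.f158281 IH) (Lpr_bt (K39.f149431 IH) (Lpn (LP (LK LD1_c4 LD2_c0 LD3_c46))))))))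
theorem f149442 : Led Lsl_et (LP (LK LD1_c8 LD2_c2 LD3_c19)) = (LP (LK LD1_c4 LD2_c0 LD3_c46)) :=
  Lre_e IH (LK LD1_c8 LD2_c2 LD3_c19) (LK LD1_c4 LD2_c0 LD3_c46) Lrfl Lrfl
theorem f744001 : Led Lsl_af (LP (LK LD1_c8 LD2_c2 LD3_c19)) = v15869 :=
  Lgr Lrot50 (Lpr_et (f149442 IH) (Lpe (f558252 IH) (Lpr_et (f744000 IH) (Lpn v15869))))
theorem f920229 : Led Lsl_ff v15869 = v40805 :=
  Lgr Lrot30 (Lpe (f744001 IH) (Lpr_ft (f877035 IH) (Lpr_at (f920226 IH) (Lpn v40805))))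
def v4849 : LQ := Led Lsl_et (LP (LK LD1_c2 LD2_c50 LD3_c37))
theorem f640580 : Led Lsl_et (LP (LK LD1_c2 LD2_c50 LD3_c37)) = v4849 :=
  Lrfl
theorem f640582 : Led Lsl_ef (LP (LK LD1_c2 LD2_c50 LD3_c37)) = v4849 :=
  Lgr Lrot88 (Lpr_et (f640580 IH) (Lpn v4849))
theorem f744003 : Led Lsl_cf v4849 = v15869 :=
  Lgr Lrot39 (Lpe (f640582 IH) (Lpr_ct (K40.f419042 IH) (Lpr_et (f744000 IH) (Lpn v15869))))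
def v24589 : LQ := Led Lsl_ft v4849
theorem f824715 : Led Lsl_ft v4849 = v24589 :=
  Lrfl
theorem f920230 : Led Lsl_ct v24589 = v40805 :=
  Lgr Lrot40 (Lpe (f824715 IH) (Lpr_cf (f744003 IH) (Lpr_ff (f920229 IH) (Lpn v40805))))
theorem f450131 : Led Lsl_bt (LP (LK LD1_c2 LD2_c50 LD3_c37)) = (LP (LK LD1_c1 LD2_c21 LD3_c19)) :=
  Lre_b IH (LK LD1_c2 LD2_c50 LD3_c37) (LK LD1_c1 LD2_c21 LD3_c19) Lrfl Lrfl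
def v1538 : LQ := Led Lsl_et (LP (LK LD1_c1 LD2_c21 LD3_c19))
theorem f496171 : Led Lsl_et (LP (LK LD1_c1 LD2_c21 LD3_c19)) = v1538 :=
  Lrfl
theorem f640583 : Led Lsl_bt v1538 = v4849 :=
  Lgr Lrot119 (Lpe (f496171 IH) (Lpe (f450131 IH) (Lpr_ef (f640582 IH) (Lpn v4849))))
def v7979 : LQ := Led Lsl_ft v1538
theorem f669488 : Led Lsl_ft v1538 = v7979 :=
  Lrfl
theorem f669490 : Led Lsl_ff v1538 = v7979 :=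
  Lgr Lrot3 (Lpr_ft (f669488 IH) (Lpn v7979))
theorem f824716 : Led Lsl_bf v7979 = v24589 :=
  Lgr Lrot61 (Lpe (f669490 IH) (Lpr_bt (f640583 IH) (Lpr_ft (f824715 IH) (Lpn v24589))))
def v1831 : LQ := Led Lsl_et (LP (LK LD1_c1 LD2_c28 LD3_c52))
def v8097 : LQ := Led Lsl_gf v1831
theorem f669969 : Led Lsl_gf v1831 = v8097 :=
  Lrfl
theorem f503206 : Led Lsl_et (LP (LK LD1_c1 LD2_c28 LD3_c52)) = v1831 :=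
  Lrfl
theorem f503208 : Led Lsl_ef (LP (LK LD1_c1 LD2_c28 LD3_c52)) = v1831 :=
  Lgr Lrot88 (Lpr_et (f503206 IH) (Lpn v1831))
theorem f171803 : Led Lsl_dt (LP (LK LD1_c2 LD2_c50 LD3_c36)) = (LP (LK LD1_c5 LD2_c49 LD3_c3)) :=
  Lre_d IH (LK LD1_c2 LD2_c50 LD3_c36) (LK LD1_c5 LD2_c49 LD3_c3) Lrfl Lrfl
theorem f450250 : Led Lsl_bf (LP (LK LD1_c6 LD2_c17 LD3_c0)) = (LP (LK LD1_c5 LD2_c49 LD3_c3)) :=
  Lgr Lrot93 (Lpr_dt (K37.f450199 IH) (Lpr_bt (K38.f450245 IH) (Lpr_dt (f171803 IH) (Lpn (LP (LK LD1_c5 LD2_c49 LD3_c3))))))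
theorem f450450 : Led Lsl_at (LP (LK LD1_c1 LD2_c28 LD3_c52)) = (LP (LK LD1_c1 LD2_c21 LD3_c19)) :=
  Lgr Lrot67 (Lpe (K37.f227766 IH) (Lpe (K37.f450206 IH) (Lpr_bf (f450250 IH) (Lpe (K43.f450449 IH) (Lpe (K37.f450119 IH) (Lpn (LP (LK LD1_c1 LD2_c21 LD3_c19))))))))
theorem f503209 : Led Lsl_at v1538 = v1831 :=
  Lgr Lrot80 (Lpe (f496171 IH) (Lpe (f450450 IH) (Lpr_ef (f503208 IH) (Lpn v1831))))
theorem f669970 : Led Lsl_gt v7979 = v8097 :=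
  Lgr Lrot5 (Lpe (f669490 IH) (Lpr_at (f503209 IH) (Lpr_gf (f669969 IH) (Lpn v8097))))
def v5311 : LQ := Led Lsl_gt (LP (LK LD1_c3 LD2_c5 LD3_c47))
def v25167 : LQ := Led Lsl_bt v5311
theorem f827325 : Led Lsl_bt v5311 = v25167 :=
  Lrfl
def v5646 : LQ := Led Lsl_gf (LP (LK LD1_c3 LD2_c11 LD3_c11))
theorem f648659 : Led Lsl_gf (LP (LK LD1_c3 LD2_c11 LD3_c11)) = v5646 :=
  Lrfl
theorem f648662 : Led Lsl_dt (LP (LK LD1_c5 LD2_c52 LD3_c46)) = v5646 :=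
  Lgr Lrot57 (Lpr_gf (K50.f503452 IH) (Lpe (K65.f505126 IH) (Lpe (K32.f505475 IH) (Lpe (K32.f503943 IH) (Lpr_gt (K32.f153683 IH) (Lpr_dt (K17.f25850 IH) (Lpe (K56.f69118 IH) (Lpe (K74.f69109 IH) (Lpr_gf (f648659 IH) (Lpn v5646))))))))))
theorem f648664 : Led Lsl_df (LP (LK LD1_c5 LD2_c52 LD3_c46)) = v5646 :=
  Lgr Lrot38 (Lpr_dt (f648662 IH) (Lpn v5646))
theorem f648667 : Led Lsl_ef v4851 = v5646 :=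
  Lgr Lrot114 (Lpe (f640585 IH) (Lpe (K71.f450143 IH) (Lpr_dt (K37.f176640 IH) (Lpr_gt (K10.f56687 IH) (Lpe (K46.f61310 IH) (Lpr_et (K37.f186064 IH) (Lpr_gt (K32.f146425 IH) (Lpr_dt (K50.f146429 IH) (Lpe (K50.f503452 IH) (Lpr_df (f648664 IH) (Lpn v5646)))))))))))
theorem f648669 : Led Lsl_et v4851 = v5646 :=
  Lgr Lrot87 (Lpr_ef (f648667 IH) (Lpn v5646))
theorem f648663 : Led Lsl_af (LP (LK LD1_c5 LD2_c48 LD3_c52)) = v5646 :=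
  Lgr Lrot117 (Lpe (K35.f503443 IH) (Lpr_at (K35.f503447 IH) (Lpr_dt (f648662 IH) (Lpn v5646))))
def v5312 : LQ := Led Lsl_gf (LP (LK LD1_c3 LD2_c5 LD3_c47))
theorem f646998 : Led Lsl_gf (LP (LK LD1_c3 LD2_c5 LD3_c47)) = v5312 :=
  Lrfl
theorem f211013 : Led Lsl_et (LP (LK LD1_c1 LD2_c28 LD3_c56)) = (LP (LK LD1_c3 LD2_c5 LD3_c47)) :=
  Lre_e IH (LK LD1_c1 LD2_c28 LD3_c56) (LK LD1_c3 LD2_c5 LD3_c47) Lrfl Lrfl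
theorem f647000 : Led Lsl_et (LP (LK LD1_c5 LD2_c48 LD3_c52)) = v5312 :=
  Lgr Lrot185 (Lpe (K35.f503443 IH) (Lpr_gf (K48.f505142 IH) (Lpe (K32.f505153 IH) (Lpe (K32.f211022 IH) (Lpe (K6.f146392 IH) (Lpr_dt (K6.f68551 IH) (Lpr_gf (K11.f211010 IH) (Lpe (K16.f59023 IH) (Lpr_et (f211013 IH) (Lpr_gf (f646998 IH) (Lpn v5312)))))))))))
theorem f648670 : Led Lsl_af v4851 = v5312 :=
  Lgr Lrot50 (Lpr_et (f648669 IH) (Lpe (f648663 IH) (Lpr_et (f647000 IH) (Lpn v5312))))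
def v4854 : LQ := Led Lsl_ft (LP (LK LD1_c2 LD2_c50 LD3_c44))
theorem f640594 : Led Lsl_ft (LP (LK LD1_c2 LD2_c50 LD3_c44)) = v4854 :=
  Lrfl
theorem f647006 : Led Lsl_at v4854 = v5313 :=
  Lgr Lrot66 (Lpe (f640594 IH) (Lpe (f450146 IH) (Lpr_ff (f647004 IH) (Lpn v5313))))
def v4850 : LQ := Led Lsl_gt (LP (LK LD1_c2 LD2_c50 LD3_c44))
theorem f640584 : Led Lsl_gt (LP (LK LD1_c2 LD2_c50 LD3_c44)) = v4850 :=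
  Lrfl
theorem f647008 : Led Lsl_gt v4850 = v5313 :=
  Lgr Lrot46 (Lpe (f640584 IH) (Lpr_ft (f640594 IH) (Lpr_at (f647006 IH) (Lpn v5313))))
theorem f648671 : Led Lsl_ft v4850 = v5312 :=
  Lgr Lrot2 (Lpr_gt (f647008 IH) (Lpe (f647007 IH) (Lpr_af (f648670 IH) (Lpn v5312))))
theorem f648672 : Led Lsl_ff v4850 = v5312 :=
  Lgr Lrot3 (Lpr_ft (f648671 IH) (Lpn v5312))
theorem f646997 : Led Lsl_gt (LP (LK LD1_c3 LD2_c5 LD3_c47)) = v5311 :=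
  Lrfl
theorem f648673 : Led Lsl_at v4850 = v5311 :=
  Lgr Lrot26 (Lpr_ff (f648672 IH) (Lpe (f646998 IH) (Lpr_gt (f646997 IH) (Lpn v5311))))
theorem f648665 : Led Lsl_at (LP (LK LD1_c5 LD2_c48 LD3_c52)) = v5646 :=
  Lgr Lrot51 (Lpe (K35.f503450 IH) (Lpr_af (K48.f503455 IH) (Lpr_df (f648664 IH) (Lpn v5646))))
theorem f647001 : Led Lsl_ef (LP (LK LD1_c5 LD2_c48 LD3_c52)) = v5312 :=
  Lgr Lrot88 (Lpr_et (f647000 IH) (Lpn v5312))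
theorem f648668 : Led Lsl_at v4851 = v5312 :=
  Lgr Lrot80 (Lpr_ef (f648667 IH) (Lpe (f648665 IH) (Lpr_ef (f647001 IH) (Lpn v5312))))
theorem f648675 : Led Lsl_ff v4851 = v5311 :=
  Lgr Lrot30 (Lpr_at (f648668 IH) (Lpe (f648672 IH) (Lpr_at (f648673 IH) (Lpn v5311))))
theorem f648676 : Led Lsl_ft v4851 = v5311 :=
  Lgr Lrot48 (Lpr_ff (f648675 IH) (Lpn v5311))
def v24594 : LQ := Led Lsl_bt v4851
theorem f824735 : Led Lsl_bt v4851 = v24594 :=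
  Lrfl
theorem f824736 : Led Lsl_bf v4851 = v24594 :=
  Lgr Lrot24 (Lpr_bt (f824735 IH) (Lpn v24594))
theorem f827327 : Led Lsl_ff v24594 = v25167 :=
  Lgr Lrot25 (Lpe (f824736 IH) (Lpr_ft (f648676 IH) (Lpr_bt (f827325 IH) (Lpn v25167))))
def v4577 : LQ := Led Lsl_gf (LP (LK LD1_c2 LD2_c30 LD3_c56))
def v24142 : LQ := Led Lsl_dt v4577
theorem f822607 : Led Lsl_dt v4577 = v24142 :=
  Lrfl
theorem f822609 : Led Lsl_df v4577 = v24142 :=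
  Lgr Lrot38 (Lpr_dt (f822607 IH) (Lpn v24142))
theorem f636220 : Led Lsl_gf (LP (LK LD1_c2 LD2_c30 LD3_c56)) = v4577 :=
  Lrfl
def v8096 : LQ := Led Lsl_gt v1831
theorem f669968 : Led Lsl_gt v1831 = v8096 :=
  Lrfl
theorem f822614 : Led Lsl_ef v8096 = v24142 :=
  Lgr Lrot17 (Lpe (f669968 IH) (Lpe (f503206 IH) (Lpr_dt (K55.f186329 IH) (Lpr_gf (K12.f227761 IH) (Lpe (K6.f68551 IH) (Lpe (K18.f68539 IH) (Lpr_ef (K53.f631747 IH) (Lpe (K53.f631746 IH) (Lpr_gf (f636220 IH) (Lpr_df (f822609 IH) (Lpn v24142)))))))))))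
theorem f822616 : Led Lsl_et v8096 = v24142 :=
  Lgr Lrot87 (Lpr_ef (f822614 IH) (Lpn v24142))
theorem f722167 : Led Lsl_ft v4577 = K56.v14357 :=
  Lgr Lrot2 (Lpe (f636220 IH) (Lpr_gt (K41.f165679 IH) (Lpr_af (K56.f722166 IH) (Lpn K56.v14357))))
theorem f722175 : Led Lsl_af v4577 = K56.v14360 :=
  Lgr Lrot45 (Lpr_ft (f722167 IH) (Lpe (K56.f722166 IH) (Lpr_ft (K56.f722174 IH) (Lpn K56.v14360))))
def v14574 : LQ := Led Lsl_dt (LP (LK LD1_c5 LD2_c14 LD3_c8))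
theorem f723822 : Led Lsl_dt (LP (LK LD1_c5 LD2_c14 LD3_c8)) = v14574 :=
  Lrfl
theorem f723823 : Led Lsl_df (LP (LK LD1_c5 LD2_c14 LD3_c8)) = v14574 :=
  Lgr Lrot38 (Lpr_dt (f723822 IH) (Lpn v14574))
theorem f822608 : Led Lsl_af v14574 = v24142 :=
  Lgr Lrot117 (Lpe (f723823 IH) (Lpqs (K56.f739532 IH) (Lpe (f722175 IH) (Lpr_dt (f822607 IH) (Lpn v24142)))))
def v7977 : LQ := Led Lsl_gt v1538
theorem f669486 : Led Lsl_gt v1538 = v7977 :=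
  Lrfl
theorem f723825 : Led Lsl_ef v7977 = v14574 :=
  Lgr Lrot17 (Lpe (f669486 IH) (Lpe (f496171 IH) (Lpr_dt (K24.f61334 IH) (Lpe (K11.f61333 IH) (Lpe (K46.f61310 IH) (Lpe (K18.f61294 IH) (Lpe (K53.f61329 IH) (Lpe (K36.f61308 IH) (Lpe (K56.f61330 IH) (Lpr_df (f723823 IH) (Lpn v14574)))))))))))
theorem f822617 : Led Lsl_af v8096 = v7977 :=
  Lgr Lrot50 (Lpr_et (f822616 IH) (Lpe (f822608 IH) (Lpe (f723825 IH) (Lpn v7977))))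
theorem f822618 : Led Lsl_ft v8097 = v7977 :=
  Lgr Lrot2 (Lpe (f669969 IH) (Lpr_gt (f669968 IH) (Lpr_af (f822617 IH) (Lpn v7977))))
theorem f822619 : Led Lsl_ff v8097 = v7977 :=
  Lgr Lrot3 (Lpr_ft (f822618 IH) (Lpn v7977))
def v25170 : LQ := Led Lsl_et v5311
theorem f827344 : Led Lsl_et v5311 = v25170 :=
  Lrfl
theorem f648666 : Led Lsl_ft (LP (LK LD1_c5 LD2_c48 LD3_c51)) = v5646 :=
  Lgr Lrot54 (Lpe (K32.f57653 IH) (Lpr_ff (K35.f503225 IH) (Lpr_df (f648664 IH) (Lpn v5646))))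
def v15856 : LQ := Led Lsl_et (LP (LK LD1_c5 LD2_c48 LD3_c51))
theorem f743912 : Led Lsl_et (LP (LK LD1_c5 LD2_c48 LD3_c51)) = v15856 :=
  Lrfl
theorem f743916 : Led Lsl_ef (LP (LK LD1_c5 LD2_c48 LD3_c51)) = v15856 :=
  Lgr Lrot88 (Lpr_et (f743912 IH) (Lpn v15856))
theorem f827347 : Led Lsl_ff v15856 = v25170 :=
  Lgr Lrot72 (Lpe (f743916 IH) (Lpr_ft (f648666 IH) (Lpe (f648667 IH) (Lpr_ft (f648676 IH) (Lpr_et (f827344 IH) (Lpn v25170))))))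
theorem f827351 : Led Lsl_ft v15856 = v25170 :=
  Lgr Lrot48 (Lpr_ff (f827347 IH) (Lpn v25170))
def v15855 : LQ := Led Lsl_bt (LP (LK LD1_c5 LD2_c48 LD3_c51))
theorem f743905 : Led Lsl_bt (LP (LK LD1_c5 LD2_c48 LD3_c51)) = v15855 :=
  Lrfl
def v15814 : LQ := Led Lsl_et (LP (LK LD1_c5 LD2_c47 LD3_c39))
theorem f741726 : Led Lsl_et (LP (LK LD1_c5 LD2_c47 LD3_c39)) = v15814 :=
  Lrfl
theorem f741727 : Led Lsl_bf (LP (LK LD1_c5 LD2_c47 LD3_c41)) = v15814 :=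
  Lgr Lrot96 (Lpr_et (K32.f57650 IH) (Lpr_bt (K55.f57637 IH) (Lpr_et (f741726 IH) (Lpn v15814))))
theorem f743907 : Led Lsl_df v15814 = v15855 :=
  Lgr Lrot12 (Lpe (f741727 IH) (Lpr_dt (K32.f57653 IH) (Lpr_bt (f743905 IH) (Lpn v15855))))
theorem f741728 : Led Lsl_ef (LP (LK LD1_c5 LD2_c47 LD3_c39)) = v15814 :=
  Lgr Lrot88 (Lpr_et (f741726 IH) (Lpn v15814))
theorem f640647 : Led Lsl_df (LP (LK LD1_c10 LD2_c4 LD3_c60)) = K38.v4867 :=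
  Lgr Lrot38 (Lpr_dt (K41.f640643 IH) (Lpn K38.v4867))
def v14359 : LQ := Led Lsl_dt (LP (LK LD1_c5 LD2_c7 LD3_c10))
theorem f722171 : Led Lsl_dt (LP (LK LD1_c5 LD2_c7 LD3_c10)) = v14359 :=
  Lrfl
theorem f743909 : Led Lsl_et v14359 = v15855 :=
  Lgr Lrot71 (Lpe (f722171 IH) (Lpe (K41.f301782 IH) (Lpr_df (f640647 IH) (Lpq (K55.f720181 IH) (Lpr_ef (f741728 IH) (Lpr_df (f743907 IH) (Lpn v15855)))))))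
theorem f743910 : Led Lsl_ef v14359 = v15855 :=
  Lgr Lrot88 (Lpr_et (f743909 IH) (Lpn v15855))
theorem f743918 : Led Lsl_bt v14359 = v15856 :=
  Lgr Lrot119 (Lpr_ef (f743910 IH) (Lpe (f743905 IH) (Lpr_ef (f743916 IH) (Lpn v15856))))
theorem f722172 : Led Lsl_df (LP (LK LD1_c5 LD2_c7 LD3_c10)) = v14359 :=
  Lgr Lrot38 (Lpr_dt (f722171 IH) (Lpn v14359))
theorem f739543 : Led Lsl_ff v14359 = v14574 :=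
  Lgr Lrot19 (Lpe (f722172 IH) (Lpqs (K56.f739528 IH) (Lpe (K56.f723809 IH) (Lpr_dt (f723822 IH) (Lpn v14574)))))
theorem f827352 : Led Lsl_bf v14574 = v25170 :=
  Lgr Lrot61 (Lpe (f739543 IH) (Lpr_bt (f743918 IH) (Lpr_ft (f827351 IH) (Lpn v25170))))
theorem f827326 : Led Lsl_bf v5311 = v25167 :=
  Lgr Lrot24 (Lpr_bt (f827325 IH) (Lpn v25167))
theorem f827354 : v7977 = v25167 :=
  (Llr Lrot74 (Lpr_ef (f723825 IH) (Lpr_bf (f827352 IH) (Lpe (f827344 IH) (Lpr_bf (f827326 IH) (Lpn v25167)))))).symm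
theorem f827355 : v24594 = v8097 :=
  Lefun (Lecon (Lfl_ff (f827327 IH)) (f827354 IH).symm) (Lfl_ff (f822619 IH))
theorem f450498 : Led Lsl_bt (LP (LK LD1_c2 LD2_c51 LD3_c4)) = (LP (LK LD1_c5 LD2_c49 LD3_c51)) :=
  Lre_b IH (LK LD1_c2 LD2_c51 LD3_c4) (LK LD1_c5 LD2_c49 LD3_c51) Lrfl Lrfl
def v4863 : LQ := Led Lsl_et (LP (LK LD1_c2 LD2_c51 LD3_c3))
theorem f640629 : Led Lsl_et (LP (LK LD1_c2 LD2_c51 LD3_c3)) = v4863 :=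
  Lrfl
theorem f640631 : Led Lsl_ef (LP (LK LD1_c2 LD2_c51 LD3_c3)) = v4863 :=
  Lgr Lrot88 (Lpr_et (f640629 IH) (Lpn v4863))
theorem f640632 : Led Lsl_ct (LP (LK LD1_c2 LD2_c51 LD3_c4)) = v4863 :=
  Lgr Lrot15 (Lpe (K37.f186340 IH) (Lpe (K38.f146335 IH) (Lpr_ef (f640631 IH) (Lpn v4863))))
def v24625 : LQ := Led Lsl_gf v4863
theorem f824808 : Led Lsl_gf v4863 = v24625 :=
  Lrfl
theorem f964278 : v24595 = v24625 :=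
  (Llr Lrot64 (Lpe (f824737 IH) (Lpr_bt (f824735 IH) (Lpqs (f827355 IH) (Lpe (f669970 IH) (Lpr_bf (f824716 IH) (Lpr_ct (f920230 IH) (Lpe (f920225 IH) (Lpr_cf (K75.f920248 IH) (Lpqs (K75.f964252 IH) (Lpe (K75.f559278 IH) (Lpe (f450498 IH) (Lpr_ct (f640632 IH) (Lpr_gf (f824808 IH) (Lpn v24625))))))))))))))).symm
theorem f561091 : Led Lsl_ct (LP (LK LD1_c4 LD2_c58 LD3_c0)) = (LP (LK LD1_c4 LD2_c24 LD3_c38)) :=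
  Lgr Lrot15 (Lpe (K40.f37333 IH) (Lpr_cf (K40.f561087 IH) (Lpe (K40.f35361 IH) (Lpn (LP (LK LD1_c4 LD2_c24 LD3_c38))))))
theorem f617221 : Led Lsl_bt (LP (LK LD1_c4 LD2_c24 LD3_c38)) = (LP (LK LD1_c8 LD2_c46 LD3_c49)) :=
  Lre_b IH (LK LD1_c4 LD2_c24 LD3_c38) (LK LD1_c8 LD2_c46 LD3_c49) Lrfl Lrfl
def v37160 : LQ := Led Lsl_ct (LP (LK LD1_c8 LD2_c46 LD3_c49))
theorem f893286 : Led Lsl_ct (LP (LK LD1_c8 LD2_c46 LD3_c49)) = v37160 :=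
  Lrfl
theorem f920251 : Led Lsl_bt v37160 = K75.v40807 :=
  Lgr Lrot128 (Lpe (f893286 IH) (Lpe (f617221 IH) (Lpe (f561091 IH) (Lpe (K76.f81772 IH) (Lpr_cf (K75.f920248 IH) (Lpn K75.v40807))))))
theorem f893287 : Led Lsl_cf (LP (LK LD1_c8 LD2_c46 LD3_c49)) = v37160 :=
  Lgr Lrot11 (Lpr_ct (f893286 IH) (Lpn v37160))
def v37157 : LQ := Led Lsl_gt (LP (LK LD1_c8 LD2_c46 LD3_c49))
theorem f893281 : Led Lsl_gt (LP (LK LD1_c8 LD2_c46 LD3_c49)) = v37157 :=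
  Lrfl
theorem f964280 : v35715 = v37157 :=
  (Llr Lrot10 (Lpe (f877033 IH) (Lpe (f758103 IH) (Lpe (f647007 IH) (Lpr_ct (f824737 IH) (Lpqs (f964278 IH) (Lpe (f824808 IH) (Lpe (f640632 IH) (Lpr_bt (f450498 IH) (Lpr_gt (K75.f559278 IH) (Lpq (K75.f964252 IH) (Lpe (f920251 IH) (Lpe (f893287 IH) (Lpr_gt (f893281 IH) (Lpn v37157))))))))))))))).symm
def v35560 : LQ := Led Lsl_bt (LP (LK LD1_c7 LD2_c56 LD3_c54))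
theorem f875856 : Led Lsl_bt (LP (LK LD1_c7 LD2_c56 LD3_c54)) = v35560 :=
  Lrfl
theorem f36201 : Led Lsl_bt (LP (LK LD1_c8 LD2_c46 LD3_c49)) = (LP (LK LD1_c4 LD2_c24 LD3_c38)) :=
  Lre_b IH (LK LD1_c8 LD2_c46 LD3_c49) (LK LD1_c4 LD2_c24 LD3_c38) Lrfl Lrfl
theorem f875858 : Led Lsl_ff (LP (LK LD1_c8 LD2_c46 LD3_c49)) = v35560 :=
  Lgr Lrot25 (Lpr_bt (f36201 IH) (Lpr_ft (K61.f696596 IH) (Lpqs (K61.f792774 IH) (Lpr_bt (f875856 IH) (Lpn v35560)))))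
theorem f875860 : Led Lsl_ft (LP (LK LD1_c8 LD2_c46 LD3_c49)) = v35560 :=
  Lgr Lrot48 (Lpr_ff (f875858 IH) (Lpn v35560))
theorem f982453 : Led Lsl_at v35560 = v51435 :=
  Lgr Lrot26 (Lpe (f875860 IH) (Lpr_gt (f893281 IH) (Lpq (f964280 IH) (Lpr_gt (f982452 IH) (Lpn v51435)))))
def v37159 : LQ := Led Lsl_at (LP (LK LD1_c8 LD2_c46 LD3_c49))
theorem f893284 : Led Lsl_at (LP (LK LD1_c8 LD2_c46 LD3_c49)) = v37159 :=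
  Lrfl
theorem f893285 : Led Lsl_af (LP (LK LD1_c8 LD2_c46 LD3_c49)) = v37159 :=
  Lgr Lrot0 (Lpr_at (f893284 IH) (Lpn v37159))
theorem f982456 : Led Lsl_ff v37159 = v51435 :=
  Lgr Lrot30 (Lpe (f893285 IH) (Lpr_ft (f875860 IH) (Lpr_at (f982453 IH) (Lpn v51435))))
def v37158 : LQ := Led Lsl_gf (LP (LK LD1_c8 LD2_c46 LD3_c49))
theorem f893283 : Led Lsl_gf (LP (LK LD1_c8 LD2_c46 LD3_c49)) = v37158 :=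
  Lrfl
theorem f982458 : v37158 = (LP (LK LD1_c12 LD2_c6 LD3_c49)) :=
  (Llr Lrot76 (Lpe (f893283 IH) (Lpr_af (f893285 IH) (Lpr_ff (f982456 IH) (Lpe (f982451 IH) (Lpn (LP (LK LD1_c12 LD2_c6 LD3_c49)))))))).symm
theorem f982460 : Led Lsl_gt (LP (LK LD1_c12 LD2_c6 LD3_c49)) = (LP (LK LD1_c8 LD2_c46 LD3_c49)) :=
  Leop (Lpr_gf (f893283 IH) (Lpqs (f982458 IH) (Lpn (LP (LK LD1_c12 LD2_c6 LD3_c49)))))
theorem seed_3092 : LEOK LG_g (LK LD1_c12 LD2_c6 LD3_c49) :=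
  Leoe_g (LK LD1_c12 LD2_c6 LD3_c49) (f982460 IH)
def v17968 : LQ := Led Lsl_at (LP (LK LD1_c6 LD2_c24 LD3_c50))
theorem f763027 : Led Lsl_at (LP (LK LD1_c6 LD2_c24 LD3_c50)) = v17968 :=
  Lrfl
def v37152 : LQ := Led Lsl_bt (LP (LK LD1_c8 LD2_c46 LD3_c33))
theorem f893252 : Led Lsl_bt (LP (LK LD1_c8 LD2_c46 LD3_c33)) = v37152 :=
  Lrfl
theorem f893253 : Led Lsl_bf (LP (LK LD1_c8 LD2_c46 LD3_c33)) = v37152 :=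
  Lgr Lrot24 (Lpr_bt (f893252 IH) (Lpn v37152))
theorem f696585 : Led Lsl_af (LP (LK LD1_c4 LD2_c24 LD3_c25)) = K64.v12648 :=
  Lgr Lrot45 (Lpr_ft (K64.f696582 IH) (Lpe (K64.f696581 IH) (Lpr_ft (K64.f696584 IH) (Lpn K64.v12648))))
theorem f81283 : Led Lsl_bt (LP (LK LD1_c6 LD2_c24 LD3_c50)) = (LP (LK LD1_c3 LD2_c10 LD3_c1)) :=
  Lre_b IH (LK LD1_c6 LD2_c24 LD3_c50) (LK LD1_c3 LD2_c10 LD3_c1) Lrfl Lrfl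
theorem f763028 : Led Lsl_af (LP (LK LD1_c6 LD2_c24 LD3_c50)) = v17968 :=
  Lgr Lrot0 (Lpr_at (f763027 IH) (Lpn v17968))
theorem f893241 : Led Lsl_bf v17968 = K76.v37150 :=
  Lgr Lrot81 (Lpe (f763028 IH) (Lpr_bt (f81283 IH) (Lpqs (K64.f763142 IH) (Lpe (f696585 IH) (Lpr_bt (K76.f544279 IH) (Lpr_at (K76.f893239 IH) (Lpn K76.v37150)))))))
def v37161 : LQ := Led Lsl_et (LP (LK LD1_c8 LD2_c46 LD3_c49))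
theorem f893288 : Led Lsl_et (LP (LK LD1_c8 LD2_c46 LD3_c49)) = v37161 :=
  Lrfl
theorem f893291 : Led Lsl_ef (LP (LK LD1_c8 LD2_c46 LD3_c49)) = v37161 :=
  Lgr Lrot88 (Lpr_et (f893288 IH) (Lpn v37161))
theorem f893292 : Led Lsl_bt (LP (LK LD1_c8 LD2_c46 LD3_c51)) = v37161 :=
  Lgr Lrot119 (Lpe (K40.f35361 IH) (Lpe (f36201 IH) (Lpr_ef (f893291 IH) (Lpn v37161))))
theorem f893293 : Led Lsl_df v37152 = v37161 :=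
  Lgr Lrot12 (Lpe (f893253 IH) (Lpe (K40.f443106 IH) (Lpr_bt (f893292 IH) (Lpn v37161))))
theorem f29464 : Led Lsl_dt (LP (LK LD1_c4 LD2_c0 LD3_c48)) = (LP (LK LD1_c1 LD2_c57 LD3_c10)) :=
  Lre_d IH (LK LD1_c4 LD2_c0 LD3_c48) (LK LD1_c1 LD2_c57 LD3_c10) Lrfl Lrfl
theorem f548829 : Led Lsl_et (LP (LK LD1_c11 LD2_c27 LD3_c45)) = (LP (LK LD1_c5 LD2_c49 LD3_c22)) :=
  Lre_e IH (LK LD1_c11 LD2_c27 LD3_c45) (LK LD1_c5 LD2_c49 LD3_c22) Lrfl Lrfl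
def v35719 : LQ := Led Lsl_gf (LP (LK LD1_c8 LD2_c2 LD3_c26))
theorem f877039 : Led Lsl_gf (LP (LK LD1_c8 LD2_c2 LD3_c26)) = v35719 :=
  Lrfl
theorem f982461 : v37152 = v35719 :=
  (Llr Lrot136 (Lpr_df (f893293 IH) (Lpe (f893291 IH) (Lpr_gf (f893283 IH) (Lpqs (f982458 IH) (Lpe (K39.f158603 IH) (Lpr_dt (K8.f158601 IH) (Lpe (K39.f158210 IH) (Lpe (f29464 IH) (Lpr_gf (K42.f548837 IH) (Lpe (f548829 IH) (Lpr_dt (K76.f554399 IH) (Lpr_gf (f877039 IH) (Lpn v35719)))))))))))))).symm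
theorem f648252 : Led Lsl_at (LP (LK LD1_c12 LD2_c22 LD3_c28)) = (LP (LK LD1_c6 LD2_c24 LD3_c47)) :=
  Lre_a IH (LK LD1_c12 LD2_c22 LD3_c28) (LK LD1_c6 LD2_c24 LD3_c47) Lrfl Lrfl
theorem f893242 : Led Lsl_ff (LP (LK LD1_c12 LD2_c22 LD3_c28)) = K76.v37150 :=
  Lgr Lrot30 (Lpr_at (f648252 IH) (Lpr_ft (K76.f763002 IH) (Lpqs (K76.f763145 IH) (Lpr_at (K76.f893239 IH) (Lpn K76.v37150)))))
def v17959 : LQ := Led Lsl_gf (LP (LK LD1_c6 LD2_c24 LD3_c47))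
theorem f762991 : Led Lsl_gf (LP (LK LD1_c6 LD2_c24 LD3_c47)) = v17959 :=
  Lrfl
theorem f893246 : Led Lsl_gf v17959 = K76.v37150 :=
  Lgr Lrot47 (Lpe (f762991 IH) (Lpe (f648252 IH) (Lpr_ff (f893242 IH) (Lpn K76.v37150))))
theorem f604902 : Led Lsl_af (LP (LK LD1_c8 LD2_c2 LD3_c26)) = (LP (LK LD1_c11 LD2_c27 LD3_c45)) :=
  Lgr Lrot0 (Lpr_at (K76.f604899 IH) (Lpn (LP (LK LD1_c11 LD2_c27 LD3_c45))))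
theorem f931811 : v17959 = (LP (LK LD1_c8 LD2_c2 LD3_c26)) :=
  (Llr Lrot46 (Lpr_gf (f893246 IH) (Lpe (K76.f893243 IH) (Lpr_ft (K76.f931801 IH) (Lpe (f604902 IH) (Lpn (LP (LK LD1_c8 LD2_c2 LD3_c26)))))))).symm
theorem f931814 : K76.v37150 = v35719 :=
  Lefun (Lecon (f893246 IH) (f931811 IH)) (f877039 IH)
theorem f982462 : (LP (LK LD1_c8 LD2_c46 LD3_c33)) = v17968 :=
  Lefun (Lecon (Lfl_bf (f893253 IH)) ((f982461 IH).trans (f931814 IH).symm)) (Lfl_bf (f893241 IH))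
theorem f982467 : Led Lsl_at (LP (LK LD1_c6 LD2_c24 LD3_c50)) = (LP (LK LD1_c8 LD2_c46 LD3_c33)) :=
  Leop (Lpqs (f982462 IH) (Lpe (f763027 IH) (Lpn (LP (LK LD1_c6 LD2_c24 LD3_c50)))))
theorem seed_3093 : LEOK LG_a (LK LD1_c6 LD2_c24 LD3_c50) :=
  Leoe_a (LK LD1_c6 LD2_c24 LD3_c50) (f982467 IH)

end

end K77

end

end Cfsg.Agent.Helper28.S1692
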