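import Cfsg.Agent.Lib.Helper28.S1692.Seeds7

set_option autoImplicit false
set_option maxRecDepth 100000
set_option linter.all false

namespace Cfsg.Agent.Helper28.S1692

open Cfsg.Agent.Helper28
open Cfsg.Spor.ON (Gen)

noncomputable section

namespace K8
abbrev LD1_c0 := D1.c0
abbrev LD1_c1 := D1.c1
abbrev LD1_c2 := D1.c2
abbrev LD1_c3 := D1.c3
abbrev LD1_c4 := D1.c4
abbrev LD1_c5 := D1.c5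
abbrev LD1_c6 := D1.c6
abbrev LD1_c7 := D1.c7
abbrev LD1_c8 := D1.c8
abbrev LD1_c9 := D1.c9
abbrev LD1_c10 := D1.c10
abbrev LD1_c11 := D1.c11
abbrev LD1_c12 := D1.c12
abbrev LD1_c13 := D1.c13
abbrev LD1_c14 := D1.c14
abbrev LD1_c15 := D1.c15
abbrev LD1_c16 := D1.c16
abbrev LD1_c17 := D1.c17
abbrev LD1_c18 := D1.c18
abbrev LD1_c19 := D1.c19
abbrev LD1_c20 := D1.c20
abbrev LD1_c21 := D1.c21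
abbrev LD1_c22 := D1.c22
abbrev LD1_c23 := D1.c23
abbrev LD1_c24 := D1.c24
abbrev LD1_c25 := D1.c25
abbrev LD1_c26 := D1.c26
abbrev LD1_c27 := D1.c27
abbrev LD1_c28 := D1.c28
abbrev LD1_c29 := D1.c29
abbrev LD1_c30 := D1.c30
abbrev LD1_c31 := D1.c31
abbrev LD1_c32 := D1.c32
abbrev LD2_c0 := D2.c0
abbrev LD2_c1 := D2.c1
abbrev LD2_c2 := D2.c2
abbrev LD2_c3 := D2.c3
abbrev LD2_c4 := D2.c4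
abbrev LD2_c5 := D2.c5
abbrev LD2_c6 := D2.c6
abbrev LD2_c7 := D2.c7
abbrev LD2_c8 := D2.c8
abbrev LD2_c9 := D2.c9
abbrev LD2_c10 := D2.c10
abbrev LD2_c11 := D2.c11
abbrev LD2_c12 := D2.c12
abbrev LD2_c13 := D2.c13
abbrev LD2_c14 := D2.c14
abbrev LD2_c15 := D2.c15
abbrev LD2_c16 := D2.c16
abbrev LD2_c17 := D2.c17
abbrev LD2_c18 := D2.c18
abbrev LD2_c19 := D2.c19
abbrev LD2_c20 := D2.c20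
abbrev LD2_c21 := D2.c21
abbrev LD2_c22 := D2.c22
abbrev LD2_c23 := D2.c23
abbrev LD2_c24 := D2.c24
abbrev LD2_c25 := D2.c25
abbrev LD2_c26 := D2.c26
abbrev LD2_c27 := D2.c27
abbrev LD2_c28 := D2.c28
abbrev LD2_c29 := D2.c29
abbrev LD2_c30 := D2.c30
abbrev LD2_c31 := D2.c31
abbrev LD2_c32 := D2.c32
abbrev LD2_c33 := D2.c33
abbrev LD2_c34 := D2.c34
abbrev LD2_c35 := D2.c35
abbrev LD2_c36 := D2.c36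
abbrev LD2_c37 := D2.c37
abbrev LD2_c38 := D2.c38
abbrev LD2_c39 := D2.c39
abbrev LD2_c40 := D2.c40
abbrev LD2_c41 := D2.c41
abbrev LD2_c42 := D2.c42
abbrev LD2_c43 := D2.c43
abbrev LD2_c44 := D2.c44
abbrev LD2_c45 := D2.c45
abbrev LD2_c46 := D2.c46
abbrev LD2_c47 := D2.c47
abbrev LD2_c48 := D2.c48
abbrev LD2_c49 := D2.c49
abbrev LD2_c50 := D2.c50
abbrev LD2_c51 := D2.c51
abbrev LD2_c52 := D2.c52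
abbrev LD2_c53 := D2.c53
abbrev LD2_c54 := D2.c54
abbrev LD2_c55 := D2.c55
abbrev LD2_c56 := D2.c56
abbrev LD2_c57 := D2.c57
abbrev LD2_c58 := D2.c58
abbrev LD2_c59 := D2.c59
abbrev LD3_c0 := D3.c0
abbrev LD3_c1 := D3.c1
abbrev LD3_c2 := D3.c2
abbrev LD3_c3 := D3.c3
abbrev LD3_c4 := D3.c4
abbrev LD3_c5 := D3.c5
abbrev LD3_c6 := D3.c6
abbrev LD3_c7 := D3.c7
abbrev LD3_c8 := D3.c8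
abbrev LD3_c9 := D3.c9
abbrev LD3_c10 := D3.c10
abbrev LD3_c11 := D3.c11
abbrev LD3_c12 := D3.c12
abbrev LD3_c13 := D3.c13
abbrev LD3_c14 := D3.c14
abbrev LD3_c15 := D3.c15
abbrev LD3_c16 := D3.c16
abbrev LD3_c17 := D3.c17
abbrev LD3_c18 := D3.c18
abbrev LD3_c19 := D3.c19
abbrev LD3_c20 := D3.c20
abbrev LD3_c21 := D3.c21
abbrev LD3_c22 := D3.c22
abbrev LD3_c23 := D3.c23
abbrev LD3_c24 := D3.c24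
abbrev LD3_c25 := D3.c25
abbrev LD3_c26 := D3.c26
abbrev LD3_c27 := D3.c27
abbrev LD3_c28 := D3.c28
abbrev LD3_c29 := D3.c29
abbrev LD3_c30 := D3.c30
abbrev LD3_c31 := D3.c31
abbrev LD3_c32 := D3.c32
abbrev LD3_c33 := D3.c33
abbrev LD3_c34 := D3.c34
abbrev LD3_c35 := D3.c35
abbrev LD3_c36 := D3.c36
abbrev LD3_c37 := D3.c37
abbrev LD3_c38 := D3.c38
abbrev LD3_c39 := D3.c39
abbrev LD3_c40 := D3.c40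
abbrev LD3_c41 := D3.c41
abbrev LD3_c42 := D3.c42
abbrev LD3_c43 := D3.c43
abbrev LD3_c44 := D3.c44
abbrev LD3_c45 := D3.c45
abbrev LD3_c46 := D3.c46
abbrev LD3_c47 := D3.c47
abbrev LD3_c48 := D3.c48
abbrev LD3_c49 := D3.c49
abbrev LD3_c50 := D3.c50
abbrev LD3_c51 := D3.c51
abbrev LD3_c52 := D3.c52
abbrev LD3_c53 := D3.c53
abbrev LD3_c54 := D3.c54
abbrev LD3_c55 := D3.c55
abbrev LD3_c56 := D3.c56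
abbrev LD3_c57 := D3.c57
abbrev LD3_c58 := D3.c58
abbrev LD3_c59 := D3.c59
abbrev LD3_c60 := D3.c60
abbrev LD3_c61 := D3.c61
abbrev LG_g := Gen.g
abbrev Lsl_gt : Gen × Bool := sl_gt
alias Lfl_gt := fl_gt
alias Lpr_gt := pr_gt
abbrev Lsl_gf : Gen × Bool := sl_gf
alias Lfl_gf := fl_gf
alias Lpr_gf := pr_gf
alias Lre_g := re_g
alias Leoe_g := eoe_g
abbrev LG_a := Gen.a
abbrev Lsl_at : Gen × Bool := sl_at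
alias Lfl_at := fl_at
alias Lpr_at := pr_at
abbrev Lsl_af : Gen × Bool := sl_af
alias Lfl_af := fl_af
alias Lpr_af := pr_af
alias Lre_a := re_a
alias Leoe_a := eoe_a
abbrev LG_b := Gen.b
abbrev Lsl_bt : Gen × Bool := sl_bt
alias Lfl_bt := fl_bt
alias Lpr_bt := pr_bt
abbrev Lsl_bf : Gen × Bool := sl_bf
alias Lfl_bf := fl_bf
alias Lpr_bf := pr_bf
alias Lre_b := re_b
alias Leoe_b := eoe_b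
abbrev LG_c := Gen.c
abbrev Lsl_ct : Gen × Bool := sl_ct
alias Lfl_ct := fl_ct
alias Lpr_ct := pr_ct
abbrev Lsl_cf : Gen × Bool := sl_cf
alias Lfl_cf := fl_cf
alias Lpr_cf := pr_cf
alias Lre_c := re_c
alias Leoe_c := eoe_c
abbrev LG_d := Gen.d
abbrev Lsl_dt : Gen × Bool := sl_dt
alias Lfl_dt := fl_dt
alias Lpr_dt := pr_dt
abbrev Lsl_df : Gen × Bool := sl_df
alias Lfl_df := fl_df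
alias Lpr_df := pr_df
alias Lre_d := re_d
alias Leoe_d := eoe_d
abbrev LG_e := Gen.e
abbrev Lsl_et : Gen × Bool := sl_et
alias Lfl_et := fl_et
alias Lpr_et := pr_et
abbrev Lsl_ef : Gen × Bool := sl_ef
alias Lfl_ef := fl_ef
alias Lpr_ef := pr_ef
alias Lre_e := re_e
alias Leoe_e := eoe_e
abbrev LG_f := Gen.f
abbrev Lsl_ft : Gen × Bool := sl_ft
alias Lfl_ft := fl_ft
alias Lpr_ft := pr_ft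
abbrev Lsl_ff : Gen × Bool := sl_ff
alias Lfl_ff := fl_ff
alias Lpr_ff := pr_ff
alias Lre_f := re_f
alias Leoe_f := eoe_f
abbrev LK := Pt.mk
abbrev LQ : Type := Qt rels S
abbrev LP (p : Pt) : LQ := P p
abbrev Led (l : Gen × Bool) (c : LQ) : LQ := ed l c
abbrev LEOK (x : Gen) (p : Pt) : Prop := EntryOK rels S fwd inv o plet idx x p
alias Lpe := pe
alias Lpn := pn
alias Lgr := gr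
alias Lpq := pq
alias Lpqs := pqs
alias Llr := lr
alias Leop := eop
alias Lefun := efun
alias Lecon := econ
theorem Lrfl {α : Sort _} {a : α} : a = a := rfl
alias Lrot0 := rot0
alias Lrot1 := rot1
alias Lrot2 := rot2
alias Lrot3 := rot3
alias Lrot4 := rot4
alias Lrot5 := rot5
alias Lrot6 := rot6
alias Lrot7 := rot7
alias Lrot8 := rot8
alias Lrot9 := rot9
alias Lrot10 := rot10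
alias Lrot11 := rot11
alias Lrot12 := rot12
alias Lrot13 := rot13
alias Lrot14 := rot14
alias Lrot15 := rot15
alias Lrot16 := rot16
alias Lrot18 := rot18
alias Lrot19 := rot19
alias Lrot20 := rot20
alias Lrot21 := rot21
alias Lrot22 := rot22
alias Lrot23 := rot23
alias Lrot24 := rot24
alias Lrot25 := rot25
alias Lrot26 := rot26
alias Lrot27 := rot27
alias Lrot28 := rot28
alias Lrot29 := rot29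
alias Lrot30 := rot30
alias Lrot31 := rot31
alias Lrot32 := rot32
alias Lrot33 := rot33
alias Lrot34 := rot34
alias Lrot35 := rot35
alias Lrot36 := rot36
alias Lrot38 := rot38
alias Lrot39 := rot39
alias Lrot40 := rot40
alias Lrot41 := rot41
alias Lrot42 := rot42
alias Lrot43 := rot43
alias Lrot44 := rot44
alias Lrot45 := rot45
alias Lrot46 := rot46
alias Lrot47 := rot47
alias Lrot48 := rot48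
alias Lrot49 := rot49
alias Lrot50 := rot50
alias Lrot51 := rot51
alias Lrot52 := rot52
alias Lrot53 := rot53
alias Lrot54 := rot54
alias Lrot55 := rot55
alias Lrot56 := rot56
alias Lrot57 := rot57
alias Lrot58 := rot58
alias Lrot59 := rot59
alias Lrot60 := rot60
alias Lrot61 := rot61
alias Lrot62 := rot62
alias Lrot63 := rot63
alias Lrot64 := rot64
alias Lrot65 := rot65
alias Lrot66 := rot66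
alias Lrot67 := rot67
alias Lrot68 := rot68
alias Lrot69 := rot69
alias Lrot70 := rot70
alias Lrot71 := rot71
alias Lrot73 := rot73
alias Lrot74 := rot74
alias Lrot75 := rot75
alias Lrot76 := rot76
alias Lrot77 := rot77
alias Lrot78 := rot78
alias Lrot79 := rot79
alias Lrot80 := rot80
alias Lrot81 := rot81
alias Lrot82 := rot82
alias Lrot83 := rot83
alias Lrot84 := rot84
alias Lrot85 := rot85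
alias Lrot86 := rot86
alias Lrot87 := rot87
alias Lrot88 := rot88
alias Lrot90 := rot90
alias Lrot91 := rot91
alias Lrot92 := rot92
alias Lrot93 := rot93
alias Lrot94 := rot94
alias Lrot95 := rot95
alias Lrot96 := rot96
alias Lrot97 := rot97
alias Lrot98 := rot98
alias Lrot99 := rot99
alias Lrot100 := rot100
alias Lrot101 := rot101
alias Lrot102 := rot102
alias Lrot103 := rot103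
alias Lrot104 := rot104
alias Lrot105 := rot105
alias Lrot106 := rot106
alias Lrot107 := rot107
alias Lrot108 := rot108
alias Lrot109 := rot109
alias Lrot110 := rot110
alias Lrot111 := rot111
alias Lrot113 := rot113
alias Lrot115 := rot115
alias Lrot116 := rot116
alias Lrot117 := rot117
alias Lrot118 := rot118
alias Lrot119 := rot119
alias Lrot120 := rot120
alias Lrot123 := rot123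
alias Lrot124 := rot124
alias Lrot125 := rot125
alias Lrot126 := rot126
alias Lrot127 := rot127
alias Lrot128 := rot128
alias Lrot129 := rot129
alias Lrot130 := rot130
alias Lrot132 := rot132
alias Lrot133 := rot133
alias Lrot134 := rot134
alias Lrot136 := rot136
alias Lrot139 := rot139
alias Lrot142 := rot142
alias Lrot143 := rot143
alias Lrot144 := rot144
alias Lrot146 := rot146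
alias Lrot147 := rot147
alias Lrot148 := rot148
alias Lrot149 := rot149
alias Lrot150 := rot150
alias Lrot151 := rot151
alias Lrot152 := rot152
alias Lrot153 := rot153
alias Lrot154 := rot154
alias Lrot155 := rot155
alias Lrot156 := rot156
alias Lrot157 := rot157
alias Lrot158 := rot158
alias Lrot159 := rot159
alias Lrot160 := rot160
alias Lrot161 := rot161
alias Lrot162 := rot162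
alias Lrot163 := rot163
alias Lrot164 := rot164
alias Lrot165 := rot165
alias Lrot166 := rot166
alias Lrot169 := rot169
alias Lrot172 := rot172
alias Lrot173 := rot173
alias Lrot174 := rot174
alias Lrot175 := rot175
alias Lrot176 := rot176
alias Lrot177 := rot177
alias Lrot178 := rot178
alias Lrot179 := rot179
alias Lrot180 := rot180
alias Lrot181 := rot181
alias Lrot182 := rot182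
alias Lrot183 := rot183
alias Lrot184 := rot184
alias Lrot186 := rot186
alias Lrot187 := rot187
alias Lrot189 := rot189
alias Lrot190 := rot190
alias Lrot191 := rot191

section
variable (IH : IHT)
include IH

theorem f141831 : Led Lsl_gt (LP (LK LD1_c4 LD2_c38 LD3_c5)) = (LP (LK LD1_c4 LD2_c39 LD3_c60)) :=
  Lgr Lrot164 (Lpr_bf (K7.f141829 IH) (Lpr_ct (K7.f83004 IH) (Lpe (K7.f59559 IH) (Lpe (K2.f23921 IH) (Lpe (K4.f23923 IH) (Lpr_bf (K7.f112104 IH) (Lpe (K3.f96624 IH) (Lpe (K3.f93466 IH) (Lpe (K3.f62842 IH) (Lpr_bt (K7.f62843 IH) (Lpn (LP (LK LD1_c4 LD2_c39 LD3_c60)))))))))))))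
theorem f156932 : Led Lsl_gt (LP (LK LD1_c7 LD2_c26 LD3_c60)) = (LP (LK LD1_c3 LD2_c43 LD3_c10)) :=
  Lre_g IH (LK LD1_c7 LD2_c26 LD3_c60) (LK LD1_c3 LD2_c43 LD3_c10) Lrfl Lrfl
theorem f156933 : Led Lsl_ct (LP (LK LD1_c4 LD2_c39 LD3_c60)) = (LP (LK LD1_c7 LD2_c26 LD3_c60)) :=
  Lgr Lrot152 (Lpe (f141831 IH) (Lpe (K7.f14020 IH) (Lpr_gt (K0.f26380 IH) (Lpr_ct (K6.f36591 IH) (Lpr_gt (K5.f40608 IH) (Lpr_ct (K5.f40639 IH) (Lpr_df (K7.f152532 IH) (Lpr_cf (K7.f156923 IH) (Lpe (f156932 IH) (Lpn (LP (LK LD1_c7 LD2_c26 LD3_c60))))))))))))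
theorem f73007 : Led Lsl_ct (LP (LK LD1_c1 LD2_c27 LD3_c13)) = (LP (LK LD1_c3 LD2_c2 LD3_c5)) :=
  Lre_c IH (LK LD1_c1 LD2_c27 LD3_c13) (LK LD1_c3 LD2_c2 LD3_c5) Lrfl Lrfl
theorem f72995 : Led Lsl_dt (LP (LK LD1_c6 LD2_c10 LD3_c55)) = (LP (LK LD1_c3 LD2_c2 LD3_c5)) :=
  Lre_d IH (LK LD1_c6 LD2_c10 LD3_c55) (LK LD1_c3 LD2_c2 LD3_c5) Lrfl Lrfl
theorem f79961 : Led Lsl_dt (LP (LK LD1_c2 LD2_c16 LD3_c8)) = (LP (LK LD1_c4 LD2_c38 LD3_c1)) :=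
  Lre_d IH (LK LD1_c2 LD2_c16 LD3_c8) (LK LD1_c4 LD2_c38 LD3_c1) Lrfl Lrfl
theorem f79962 : Led Lsl_gf (LP (LK LD1_c6 LD2_c10 LD3_c55)) = (LP (LK LD1_c4 LD2_c38 LD3_c1)) :=
  Lgr Lrot143 (Lpr_dt (f72995 IH) (Lpe (f73007 IH) (Lpe (K4.f72996 IH) (Lpe (K4.f73421 IH) (Lpr_df (K4.f79947 IH) (Lpe (K5.f40608 IH) (Lpe (K6.f36591 IH) (Lpr_gt (K6.f58895 IH) (Lpr_dt (f79961 IH) (Lpn (LP (LK LD1_c4 LD2_c38 LD3_c1))))))))))))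
theorem f80047 : Led Lsl_at (LP (LK LD1_c3 LD2_c2 LD3_c6)) = (LP (LK LD1_c6 LD2_c10 LD3_c55)) :=
  Lre_a IH (LK LD1_c3 LD2_c2 LD3_c6) (LK LD1_c6 LD2_c10 LD3_c55) Lrfl Lrfl
theorem f80048 : Led Lsl_ft (LP (LK LD1_c4 LD2_c39 LD3_c60)) = (LP (LK LD1_c3 LD2_c2 LD3_c6)) :=
  Lre_f IH (LK LD1_c4 LD2_c39 LD3_c60) (LK LD1_c3 LD2_c2 LD3_c6) Lrfl Lrfl
theorem f80049 : Led Lsl_gt (LP (LK LD1_c4 LD2_c39 LD3_c60)) = (LP (LK LD1_c4 LD2_c38 LD3_c1)) :=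
  Lgr Lrot5 (Lpr_ft (f80048 IH) (Lpr_at (f80047 IH) (Lpr_gf (f79962 IH) (Lpn (LP (LK LD1_c4 LD2_c38 LD3_c1))))))
theorem f80055 : Led Lsl_dt (LP (LK LD1_c4 LD2_c38 LD3_c1)) = (LP (LK LD1_c2 LD2_c16 LD3_c8)) :=
  Lre_d IH (LK LD1_c4 LD2_c38 LD3_c1) (LK LD1_c2 LD2_c16 LD3_c8) Lrfl Lrfl
theorem f80097 : Led Lsl_dt (LP (LK LD1_c2 LD2_c10 LD3_c24)) = (LP (LK LD1_c4 LD2_c26 LD3_c19)) :=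
  Lre_d IH (LK LD1_c2 LD2_c10 LD3_c24) (LK LD1_c4 LD2_c26 LD3_c19) Lrfl Lrfl
theorem f156943 : Led Lsl_df (LP (LK LD1_c4 LD2_c26 LD3_c17)) = (LP (LK LD1_c3 LD2_c43 LD3_c10)) :=
  Lgr Lrot16 (Lpr_gt (K7.f38022 IH) (Lpr_dt (f80097 IH) (Lpr_ct (K6.f15585 IH) (Lpe (K6.f80096 IH) (Lpe (K6.f80051 IH) (Lpe (f80055 IH) (Lpe (f80049 IH) (Lpr_ct (f156933 IH) (Lpr_gt (f156932 IH) (Lpn (LP (LK LD1_c3 LD2_c43 LD3_c10))))))))))))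
theorem f147478 : Led Lsl_dt (LP (LK LD1_c6 LD2_c31 LD3_c23)) = (LP (LK LD1_c3 LD2_c13 LD3_c55)) :=
  Lre_d IH (LK LD1_c6 LD2_c31 LD3_c23) (LK LD1_c3 LD2_c13 LD3_c55) Lrfl Lrfl
theorem f156946 : Led Lsl_ft (LP (LK LD1_c3 LD2_c13 LD3_c55)) = (LP (LK LD1_c3 LD2_c43 LD3_c10)) :=
  Lgr Lrot54 (Lpe (f147478 IH) (Lpr_ff (K7.f156899 IH) (Lpr_df (f156943 IH) (Lpn (LP (LK LD1_c3 LD2_c43 LD3_c10))))))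
theorem f147487 : Led Lsl_at (LP (LK LD1_c6 LD2_c31 LD3_c22)) = (LP (LK LD1_c3 LD2_c13 LD3_c55)) :=
  Lre_a IH (LK LD1_c6 LD2_c31 LD3_c22) (LK LD1_c3 LD2_c13 LD3_c55) Lrfl Lrfl
theorem f141875 : Led Lsl_dt (LP (LK LD1_c4 LD2_c37 LD3_c8)) = (LP (LK LD1_c6 LD2_c44 LD3_c23)) :=
  Lgr Lrot42 (Lpr_df (K6.f141755 IH) (Lpn (LP (LK LD1_c6 LD2_c44 LD3_c23))))
theorem f72977 : Led Lsl_at (LP (LK LD1_c1 LD2_c20 LD3_c42)) = (LP (LK LD1_c0 LD2_c37 LD3_c16)) :=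
  Lre_a IH (LK LD1_c1 LD2_c20 LD3_c42) (LK LD1_c0 LD2_c37 LD3_c16) Lrfl Lrfl
theorem f72984 : Led Lsl_gf (LP (LK LD1_c1 LD2_c20 LD3_c41)) = (LP (LK LD1_c1 LD2_c5 LD3_c27)) :=
  Lgr Lrot47 (Lpr_gt (K5.f56599 IH) (Lpe (f72977 IH) (Lpr_ff (K4.f72975 IH) (Lpn (LP (LK LD1_c1 LD2_c5 LD3_c27))))))
theorem f116892 : Led Lsl_dt (LP (LK LD1_c3 LD2_c20 LD3_c25)) = (LP (LK LD1_c1 LD2_c36 LD3_c35)) :=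
  Lre_d IH (LK LD1_c3 LD2_c20 LD3_c25) (LK LD1_c1 LD2_c36 LD3_c35) Lrfl Lrfl
theorem f141881 : Led Lsl_gf (LP (LK LD1_c3 LD2_c20 LD3_c25)) = (LP (LK LD1_c6 LD2_c44 LD3_c23)) :=
  Lgr Lrot143 (Lpr_dt (f116892 IH) (Lpe (K7.f116965 IH) (Lpr_df (K6.f116894 IH) (Lpr_gf (f72984 IH) (Lpr_df (K5.f99624 IH) (Lpe (K4.f99613 IH) (Lpe (K6.f100173 IH) (Lpr_gt (K4.f100249 IH) (Lpr_dt (f141875 IH) (Lpn (LP (LK LD1_c6 LD2_c44 LD3_c23))))))))))))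
theorem f116967 : Led Lsl_ct (LP (LK LD1_c3 LD2_c20 LD3_c25)) = (LP (LK LD1_c6 LD2_c44 LD3_c34)) :=
  Lre_c IH (LK LD1_c3 LD2_c20 LD3_c25) (LK LD1_c6 LD2_c44 LD3_c34) Lrfl Lrfl
theorem f141883 : Led Lsl_gf (LP (LK LD1_c6 LD2_c10 LD3_c57)) = (LP (LK LD1_c6 LD2_c44 LD3_c34)) :=
  Lgr Lrot172 (Lpr_ct (K5.f63514 IH) (Lpr_dt (K5.f27158 IH) (Lpe (K6.f23039 IH) (Lpr_gf (K4.f99651 IH) (Lpe (K4.f99657 IH) (Lpe (K4.f99664 IH) (Lpr_dt (f141875 IH) (Lpe (f141881 IH) (Lpr_ct (f116967 IH) (Lpn (LP (LK LD1_c6 LD2_c44 LD3_c34))))))))))))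
theorem f147488 : Led Lsl_ft (LP (LK LD1_c6 LD2_c44 LD3_c34)) = (LP (LK LD1_c6 LD2_c31 LD3_c22)) :=
  Lgr Lrot2 (Lpe (f141883 IH) (Lpr_gt (K6.f147485 IH) (Lpe (f147487 IH) (Lpn (LP (LK LD1_c6 LD2_c31 LD3_c22))))))
theorem f156951 : Led Lsl_af (LP (LK LD1_c6 LD2_c44 LD3_c34)) = (LP (LK LD1_c3 LD2_c43 LD3_c10)) :=
  Lgr Lrot45 (Lpr_ft (f147488 IH) (Lpr_at (f147487 IH) (Lpr_ft (f156946 IH) (Lpn (LP (LK LD1_c3 LD2_c43 LD3_c10))))))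
theorem f156958 : Led Lsl_gt (LP (LK LD1_c6 LD2_c31 LD3_c21)) = (LP (LK LD1_c6 LD2_c44 LD3_c34)) :=
  Lgr Lrot46 (Lpe (K6.f22624 IH) (Lpr_ft (f156946 IH) (Lpe (f156951 IH) (Lpn (LP (LK LD1_c6 LD2_c44 LD3_c34))))))
theorem f116893 : Led Lsl_ct (LP (LK LD1_c6 LD2_c44 LD3_c34)) = (LP (LK LD1_c3 LD2_c20 LD3_c25)) :=
  Lre_c IH (LK LD1_c6 LD2_c44 LD3_c34) (LK LD1_c3 LD2_c20 LD3_c25) Lrfl Lrfl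
theorem f116966 : Led Lsl_dt (LP (LK LD1_c1 LD2_c36 LD3_c35)) = (LP (LK LD1_c3 LD2_c20 LD3_c25)) :=
  Lre_d IH (LK LD1_c1 LD2_c36 LD3_c35) (LK LD1_c3 LD2_c20 LD3_c25) Lrfl Lrfl
theorem f132527 : Led Lsl_dt (LP (LK LD1_c3 LD2_c17 LD3_c43)) = (LP (LK LD1_c1 LD2_c35 LD3_c24)) :=
  Lre_d IH (LK LD1_c3 LD2_c17 LD3_c43) (LK LD1_c1 LD2_c35 LD3_c24) Lrfl Lrfl
theorem f156960 : Led Lsl_gt (LP (LK LD1_c3 LD2_c17 LD3_c43)) = (LP (LK LD1_c6 LD2_c38 LD3_c56)) :=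
  Lre_g IH (LK LD1_c3 LD2_c17 LD3_c43) (LK LD1_c6 LD2_c38 LD3_c56) Lrfl Lrfl
theorem f156961 : Led Lsl_cf (LP (LK LD1_c6 LD2_c31 LD3_c21)) = (LP (LK LD1_c6 LD2_c38 LD3_c56)) :=
  Lgr Lrot169 (Lpr_gt (f156958 IH) (Lpr_ct (f116893 IH) (Lpe (f116966 IH) (Lpe (K7.f116965 IH) (Lpe (K6.f96652 IH) (Lpe (K6.f96651 IH) (Lpe (K7.f94128 IH) (Lpe (f132527 IH) (Lpr_gt (f156960 IH) (Lpn (LP (LK LD1_c6 LD2_c38 LD3_c56))))))))))))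
theorem f156966 : Led Lsl_dt (LP (LK LD1_c4 LD2_c37 LD3_c6)) = (LP (LK LD1_c6 LD2_c38 LD3_c56)) :=
  Lgr Lrot173 (Lpe (K6.f99616 IH) (Lpe (K6.f99642 IH) (Lpe (K2.f56259 IH) (Lpr_df (K6.f99820 IH) (Lpe (K6.f99787 IH) (Lpe (K6.f99808 IH) (Lpe (K6.f60365 IH) (Lpe (K6.f60364 IH) (Lpe (K6.f23039 IH) (Lpr_df (K5.f59875 IH) (Lpe (K5.f56598 IH) (Lpe (K5.f60254 IH) (Lpe (K6.f60350 IH) (Lpr_df (K6.f147499 IH) (Lpr_cf (f156961 IH) (Lpn (LP (LK LD1_c6 LD2_c38 LD3_c56))))))))))))))))))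
theorem f156964 : Led Lsl_ct (LP (LK LD1_c6 LD2_c31 LD3_c21)) = (LP (LK LD1_c6 LD2_c38 LD3_c56)) :=
  Lgr Lrot59 (Lpr_cf (f156961 IH) (Lpn (LP (LK LD1_c6 LD2_c38 LD3_c56))))
theorem f141983 : Led Lsl_gt (LP (LK LD1_c6 LD2_c44 LD3_c24)) = (LP (LK LD1_c3 LD2_c20 LD3_c20)) :=
  Lre_g IH (LK LD1_c6 LD2_c44 LD3_c24) (LK LD1_c3 LD2_c20 LD3_c20) Lrfl Lrfl
theorem f156976 : Led Lsl_df (LP (LK LD1_c4 LD2_c37 LD3_c9)) = (LP (LK LD1_c6 LD2_c44 LD3_c24)) :=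
  Lgr Lrot155 (Lpr_gt (K6.f100174 IH) (Lpr_ct (K6.f100173 IH) (Lpr_gt (K4.f99613 IH) (Lpr_ct (K6.f99616 IH) (Lpr_dt (f156966 IH) (Lpe (f156964 IH) (Lpe (K6.f22624 IH) (Lpe (K7.f147495 IH) (Lpe (f141983 IH) (Lpn (LP (LK LD1_c6 LD2_c44 LD3_c24))))))))))))
theorem f138970 : Led Lsl_gt (LP (LK LD1_c4 LD2_c58 LD3_c22)) = (LP (LK LD1_c2 LD2_c27 LD3_c2)) :=
  Lre_g IH (LK LD1_c4 LD2_c58 LD3_c22) (LK LD1_c2 LD2_c27 LD3_c2) Lrfl Lrfl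
theorem f148942 : Led Lsl_cf (LP (LK LD1_c4 LD2_c37 LD3_c9)) = (LP (LK LD1_c4 LD2_c58 LD3_c22)) :=
  Lgr Lrot166 (Lpr_gt (K6.f100174 IH) (Lpr_dt (K6.f100019 IH) (Lpr_gt (K7.f100291 IH) (Lpr_dt (K7.f148792 IH) (Lpe (K5.f130558 IH) (Lpr_df (K6.f130548 IH) (Lpr_gf (K7.f148936 IH) (Lpe (K6.f138921 IH) (Lpe (f138970 IH) (Lpn (LP (LK LD1_c4 LD2_c58 LD3_c22))))))))))))
theorem f99728 : Led Lsl_gt (LP (LK LD1_c4 LD2_c25 LD3_c51)) = (LP (LK LD1_c2 LD2_c10 LD3_c19)) :=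
  Lre_g IH (LK LD1_c4 LD2_c25 LD3_c51) (LK LD1_c2 LD2_c10 LD3_c19) Lrfl Lrfl
theorem f139773 : Led Lsl_df (LP (LK LD1_c3 LD2_c13 LD3_c35)) = (LP (LK LD1_c4 LD2_c37 LD3_c26)) :=
  Lgr Lrot153 (Lpr_gt (K6.f139769 IH) (Lpr_dt (K7.f38019 IH) (Lpe (K7.f38021 IH) (Lpe (K6.f70484 IH) (Lpe (K5.f26590 IH) (Lpe (K6.f99727 IH) (Lpe (f99728 IH) (Lpe (K6.f99787 IH) (Lpr_gt (K6.f99803 IH) (Lpn (LP (LK LD1_c4 LD2_c37 LD3_c26))))))))))))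
theorem f157004 : Led Lsl_gt (LP (LK LD1_c3 LD2_c20 LD3_c25)) = (LP (LK LD1_c6 LD2_c44 LD3_c24)) :=
  Lgr Lrot94 (Lpe (f116893 IH) (Lpe (f141883 IH) (Lpr_dt (K6.f99808 IH) (Lpr_gt (K6.f99803 IH) (Lpe (f139773 IH) (Lpr_cf (K6.f141189 IH) (Lpe (K6.f100019 IH) (Lpe (K6.f100174 IH) (Lpr_df (f156976 IH) (Lpn (LP (LK LD1_c6 LD2_c44 LD3_c24))))))))))))
theorem f132406 : Led Lsl_gt (LP (LK LD1_c1 LD2_c21 LD3_c2)) = (LP (LK LD1_c2 LD2_c49 LD3_c57)) :=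
  Lre_g IH (LK LD1_c1 LD2_c21 LD3_c2) (LK LD1_c2 LD2_c49 LD3_c57) Lrfl Lrfl
theorem f142036 : Led Lsl_dt (LP (LK LD1_c2 LD2_c49 LD3_c57)) = (LP (LK LD1_c4 LD2_c38 LD3_c0)) :=
  Lgr Lrot57 (Lpe (f132406 IH) (Lpe (K4.f57258 IH) (Lpr_gt (K5.f132574 IH) (Lpr_dt (K6.f72987 IH) (Lpr_gt (K7.f142033 IH) (Lpe (K6.f70485 IH) (Lpe (K6.f70481 IH) (Lpr_df (K6.f141735 IH) (Lpe (K6.f141733 IH) (Lpn (LP (LK LD1_c4 LD2_c38 LD3_c0))))))))))))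
theorem f142039 : Led Lsl_df (LP (LK LD1_c2 LD2_c49 LD3_c57)) = (LP (LK LD1_c4 LD2_c38 LD3_c0)) :=
  Lgr Lrot38 (Lpr_dt (f142036 IH) (Lpn (LP (LK LD1_c4 LD2_c38 LD3_c0))))
theorem f138901 : Led Lsl_af (LP (LK LD1_c2 LD2_c10 LD3_c13)) = (LP (LK LD1_c1 LD2_c10 LD3_c48)) :=
  Lgr Lrot45 (Lpr_ft (K6.f99725 IH) (Lpr_at (K6.f99726 IH) (Lpr_ft (K6.f138897 IH) (Lpn (LP (LK LD1_c1 LD2_c10 LD3_c48))))))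
theorem f141956 : Led Lsl_gt (LP (LK LD1_c2 LD2_c10 LD3_c18)) = (LP (LK LD1_c1 LD2_c21 LD3_c56)) :=
  Lgr Lrot5 (Lpr_ft (K6.f138897 IH) (Lpe (f138901 IH) (Lpr_gf (K6.f141954 IH) (Lpn (LP (LK LD1_c1 LD2_c21 LD3_c56))))))
theorem f40599 : Led Lsl_bt (LP (LK LD1_c1 LD2_c4 LD3_c61)) = (LP (LK LD1_c2 LD2_c16 LD3_c3)) :=
  Lre_b IH (LK LD1_c1 LD2_c4 LD3_c61) (LK LD1_c2 LD2_c16 LD3_c3) Lrfl Lrfl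
theorem f79943 : Led Lsl_dt (LP (LK LD1_c1 LD2_c5 LD3_c26)) = (LP (LK LD1_c1 LD2_c4 LD3_c61)) :=
  Lgr Lrot79 (Lpe (K4.f59650 IH) (Lpr_df (K4.f79933 IH) (Lpe (f40599 IH) (Lpn (LP (LK LD1_c1 LD2_c4 LD3_c61))))))
theorem f27054 : Led Lsl_gt (LP (LK LD1_c1 LD2_c5 LD3_c20)) = (LP (LK LD1_c2 LD2_c16 LD3_c47)) :=
  Lre_g IH (LK LD1_c1 LD2_c5 LD3_c20) (LK LD1_c2 LD2_c16 LD3_c47) Lrfl Lrfl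
theorem f80210 : Led Lsl_dt (LP (LK LD1_c2 LD2_c16 LD3_c47)) = (LP (LK LD1_c2 LD2_c10 LD3_c22)) :=
  Lgr Lrot57 (Lpe (f27054 IH) (Lpe (K4.f27053 IH) (Lpr_gt (K4.f22447 IH) (Lpr_dt (f79943 IH) (Lpr_gt (K4.f26401 IH) (Lpr_dt (K6.f40640 IH) (Lpe (K5.f80209 IH) (Lpe (K7.f16148 IH) (Lpe (K7.f16159 IH) (Lpn (LP (LK LD1_c2 LD2_c10 LD3_c22))))))))))))
theorem f80223 : Led Lsl_df (LP (LK LD1_c2 LD2_c16 LD3_c47)) = (LP (LK LD1_c2 LD2_c10 LD3_c22)) :=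
  Lgr Lrot38 (Lpr_dt (f80210 IH) (Lpn (LP (LK LD1_c2 LD2_c10 LD3_c22))))
theorem f142076 : Led Lsl_cf (LP (LK LD1_c2 LD2_c49 LD3_c57)) = (LP (LK LD1_c2 LD2_c16 LD3_c47)) :=
  Lgr Lrot14 (Lpr_df (f142039 IH) (Lpr_gf (K6.f135944 IH) (Lpr_df (K6.f141951 IH) (Lpe (f141956 IH) (Lpr_ct (K6.f26591 IH) (Lpr_gt (K5.f26590 IH) (Lpr_dt (K6.f70484 IH) (Lpr_gt (K6.f38100 IH) (Lpe (f80223 IH) (Lpn (LP (LK LD1_c2 LD2_c16 LD3_c47))))))))))))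
theorem f142081 : Led Lsl_gt (LP (LK LD1_c2 LD2_c49 LD3_c57)) = (LP (LK LD1_c4 LD2_c34 LD3_c24)) :=
  Lgr Lrot149 (Lpr_cf (f142076 IH) (Lpe (f27054 IH) (Lpe (K1.f35426 IH) (Lpr_ct (K1.f13643 IH) (Lpe (K1.f59351 IH) (Lpe (K2.f59354 IH) (Lpr_bt (K4.f59359 IH) (Lpe (K5.f59360 IH) (Lpe (K5.f59361 IH) (Lpe (K5.f132568 IH) (Lpn (LP (LK LD1_c4 LD2_c34 LD3_c24)))))))))))))
theorem f157006 : Led Lsl_df (LP (LK LD1_c4 LD2_c58 LD3_c22)) = (LP (LK LD1_c4 LD2_c34 LD3_c24)) :=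
  Lgr Lrot174 (Lpe (f148942 IH) (Lpr_df (f156976 IH) (Lpe (f157004 IH) (Lpe (f116966 IH) (Lpr_gf (K6.f141963 IH) (Lpr_ct (K7.f56806 IH) (Lpe (K6.f135944 IH) (Lpe (f142039 IH) (Lpr_gt (f142081 IH) (Lpn (LP (LK LD1_c4 LD2_c34 LD3_c24))))))))))))
theorem f59362 : Led Lsl_dt (LP (LK LD1_c1 LD2_c5 LD3_c28)) = (LP (LK LD1_c0 LD2_c29 LD3_c57)) :=
  Lre_d IH (LK LD1_c1 LD2_c5 LD3_c28) (LK LD1_c0 LD2_c29 LD3_c57) Lrfl Lrfl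
theorem f23909 : Led Lsl_ct (LP (LK LD1_c2 LD2_c17 LD3_c2)) = (LP (LK LD1_c1 LD2_c5 LD3_c28)) :=
  Lre_c IH (LK LD1_c2 LD2_c17 LD3_c2) (LK LD1_c1 LD2_c5 LD3_c28) Lrfl Lrfl
theorem f23911 : Led Lsl_gt (LP (LK LD1_c4 LD2_c39 LD3_c59)) = (LP (LK LD1_c2 LD2_c17 LD3_c2)) :=
  Lre_g IH (LK LD1_c4 LD2_c39 LD3_c59) (LK LD1_c2 LD2_c17 LD3_c2) Lrfl Lrfl
theorem f157020 : Led Lsl_ct (LP (LK LD1_c2 LD2_c27 LD3_c2)) = (LP (LK LD1_c4 LD2_c39 LD3_c59)) :=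
  Lgr Lrot152 (Lpe (f138970 IH) (Lpr_df (f157006 IH) (Lpr_gt (K6.f132544 IH) (Lpr_ct (K4.f60933 IH) (Lpr_gt (K4.f36424 IH) (Lpr_ct (K7.f26778 IH) (Lpe (f59362 IH) (Lpe (f23909 IH) (Lpe (f23911 IH) (Lpn (LP (LK LD1_c4 LD2_c39 LD3_c59))))))))))))
theorem f148940 : Led Lsl_ct (LP (LK LD1_c4 LD2_c37 LD3_c9)) = (LP (LK LD1_c4 LD2_c58 LD3_c22)) :=
  Lgr Lrot8 (Lpr_gt (K6.f100174 IH) (Lpr_dt (K6.f100019 IH) (Lpr_gt (K7.f100291 IH) (Lpr_dt (K7.f148792 IH) (Lpe (K5.f130562 IH) (Lpr_df (K6.f130548 IH) (Lpr_gf (K7.f148936 IH) (Lpe (K6.f138921 IH) (Lpe (f138970 IH) (Lpn (LP (LK LD1_c4 LD2_c58 LD3_c22))))))))))))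
theorem f99636 : Led Lsl_gt (LP (LK LD1_c2 LD2_c15 LD3_c58)) = (LP (LK LD1_c4 LD2_c37 LD3_c9)) :=
  Lre_g IH (LK LD1_c2 LD2_c15 LD3_c58) (LK LD1_c4 LD2_c37 LD3_c9) Lrfl Lrfl
theorem f99930 : Led Lsl_dt (LP (LK LD1_c4 LD2_c37 LD3_c31)) = (LP (LK LD1_c2 LD2_c15 LD3_c58)) :=
  Lre_d IH (LK LD1_c4 LD2_c37 LD3_c31) (LK LD1_c2 LD2_c15 LD3_c58) Lrfl Lrfl
theorem f149890 : Led Lsl_cf (LP (LK LD1_c12 LD2_c44 LD3_c6)) = (LP (LK LD1_c9 LD2_c10 LD3_c4)) :=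
  Lgr Lrot11 (Lpr_ct (K7.f149884 IH) (Lpn (LP (LK LD1_c9 LD2_c10 LD3_c4))))
theorem f82038 : Led Lsl_dt (LP (LK LD1_c1 LD2_c10 LD3_c48)) = (LP (LK LD1_c2 LD2_c27 LD3_c2)) :=
  Lre_d IH (LK LD1_c1 LD2_c10 LD3_c48) (LK LD1_c2 LD2_c27 LD3_c2) Lrfl Lrfl
theorem f57097 : Led Lsl_dt (LP (LK LD1_c2 LD2_c16 LD3_c1)) = (LP (LK LD1_c4 LD2_c37 LD3_c41)) :=
  Lre_d IH (LK LD1_c2 LD2_c16 LD3_c1) (LK LD1_c4 LD2_c37 LD3_c41) Lrfl Lrfl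
theorem f14097 : Led Lsl_gt (LP (LK LD1_c4 LD2_c37 LD3_c41)) = (LP (LK LD1_c3 LD2_c17 LD3_c51)) :=
  Lre_g IH (LK LD1_c4 LD2_c37 LD3_c41) (LK LD1_c3 LD2_c17 LD3_c51) Lrfl Lrfl
theorem f157035 : Led Lsl_dt (LP (LK LD1_c3 LD2_c17 LD3_c51)) = (LP (LK LD1_c4 LD2_c39 LD3_c59)) :=
  Lgr Lrot113 (Lpe (f14097 IH) (Lpe (f57097 IH) (Lpe (K7.f94128 IH) (Lpr_ct (K7.f103921 IH) (Lpr_gt (K7.f149878 IH) (Lpr_dt (K7.f82049 IH) (Lpr_gt (K7.f82030 IH) (Lpr_dt (f82038 IH) (Lpr_ct (f157020 IH) (Lpn (LP (LK LD1_c4 LD2_c39 LD3_c59))))))))))))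
theorem f139736 : Led Lsl_ct (LP (LK LD1_c6 LD2_c39 LD3_c14)) = (LP (LK LD1_c3 LD2_c17 LD3_c51)) :=
  Lre_c IH (LK LD1_c6 LD2_c39 LD3_c14) (LK LD1_c3 LD2_c17 LD3_c51) Lrfl Lrfl
theorem f157037 : Led Lsl_gt (LP (LK LD1_c12 LD2_c44 LD3_c6)) = (LP (LK LD1_c6 LD2_c39 LD3_c14)) :=
  Lgr Lrot150 (Lpr_cf (f149890 IH) (Lpe (K7.f100290 IH) (Lpe (K6.f99929 IH) (Lpr_gt (f99636 IH) (Lpr_ct (f148940 IH) (Lpr_gt (f138970 IH) (Lpr_ct (f157020 IH) (Lpe (f157035 IH) (Lpe (f139736 IH) (Lpn (LP (LK LD1_c6 LD2_c39 LD3_c14))))))))))))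
theorem f157039 : Led Lsl_df (LP (LK LD1_c3 LD2_c17 LD3_c51)) = (LP (LK LD1_c4 LD2_c39 LD3_c59)) :=
  Lgr Lrot162 (Lpe (f139736 IH) (Lpe (f157037 IH) (Lpr_cf (f149890 IH) (Lpe (K7.f100290 IH) (Lpr_dt (f99930 IH) (Lpr_gt (f99636 IH) (Lpr_ct (f148940 IH) (Lpr_gt (f138970 IH) (Lpr_ct (f157020 IH) (Lpn (LP (LK LD1_c4 LD2_c39 LD3_c59))))))))))))
theorem f65995 : Led Lsl_gt (LP (LK LD1_c3 LD2_c17 LD3_c51)) = (LP (LK LD1_c1 LD2_c35 LD3_c27)) :=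
  Lre_g IH (LK LD1_c3 LD2_c17 LD3_c51) (LK LD1_c1 LD2_c35 LD3_c27) Lrfl Lrfl
theorem f157154 : Led Lsl_gf (LP (LK LD1_c2 LD2_c15 LD3_c48)) = (LP (LK LD1_c1 LD2_c5 LD3_c28)) :=
  Lgr Lrot104 (Lpr_ct (K7.f141269 IH) (Lpe (K6.f141250 IH) (Lpe (K6.f128948 IH) (Lpr_gf (K7.f139668 IH) (Lpe (K6.f57071 IH) (Lpe (f65995 IH) (Lpr_df (f157039 IH) (Lpr_gt (f23911 IH) (Lpr_ct (f23909 IH) (Lpn (LP (LK LD1_c1 LD2_c5 LD3_c28))))))))))))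
theorem f20084 : Led Lsl_bt (LP (LK LD1_c0 LD2_c29 LD3_c58)) = (LP (LK LD1_c1 LD2_c5 LD3_c28)) :=
  Lre_b IH (LK LD1_c0 LD2_c29 LD3_c58) (LK LD1_c1 LD2_c5 LD3_c28) Lrfl Lrfl
theorem f8360 : Led Lsl_gt (LP (LK LD1_c1 LD2_c21 LD3_c60)) = (LP (LK LD1_c0 LD2_c37 LD3_c57)) :=
  Lre_g IH (LK LD1_c1 LD2_c21 LD3_c60) (LK LD1_c0 LD2_c37 LD3_c57) Lrfl Lrfl
theorem f8367 : Led Lsl_bt (LP (LK LD1_c2 LD2_c51 LD3_c53)) = (LP (LK LD1_c1 LD2_c21 LD3_c60)) :=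
  Lre_b IH (LK LD1_c2 LD2_c51 LD3_c53) (LK LD1_c1 LD2_c21 LD3_c60) Lrfl Lrfl
theorem f24060 : Led Lsl_ct (LP (LK LD1_c2 LD2_c51 LD3_c53)) = (LP (LK LD1_c5 LD2_c51 LD3_c14)) :=
  Lre_c IH (LK LD1_c2 LD2_c51 LD3_c53) (LK LD1_c5 LD2_c51 LD3_c14) Lrfl Lrfl
theorem f157168 : Led Lsl_gt (LP (LK LD1_c4 LD2_c37 LD3_c13)) = (LP (LK LD1_c5 LD2_c51 LD3_c14)) :=
  Lgr Lrot149 (Lpe (K7.f141269 IH) (Lpr_gf (f157154 IH) (Lpe (f20084 IH) (Lpr_ct (K1.f20072 IH) (Lpe (K1.f58776 IH) (Lpe (K0.f24020 IH) (Lpr_bt (K4.f24016 IH) (Lpe (f8360 IH) (Lpe (f8367 IH) (Lpr_ct (f24060 IH) (Lpn (LP (LK LD1_c5 LD2_c51 LD3_c14)))))))))))))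
theorem f60956 : Led Lsl_dt (LP (LK LD1_c0 LD2_c29 LD3_c57)) = (LP (LK LD1_c1 LD2_c5 LD3_c28)) :=
  Lre_d IH (LK LD1_c0 LD2_c29 LD3_c57) (LK LD1_c1 LD2_c5 LD3_c28) Lrfl Lrfl
theorem f132511 : Led Lsl_gt (LP (LK LD1_c2 LD2_c17 LD3_c0)) = (LP (LK LD1_c3 LD2_c4 LD3_c56)) :=
  Lgr Lrot149 (Lpe (K7.f60862 IH) (Lpe (K4.f22447 IH) (Lpe (K4.f21217 IH) (Lpr_ct (K3.f21212 IH) (Lpe (K0.f20186 IH) (Lpe (K1.f20206 IH) (Lpr_bt (K4.f20207 IH) (Lpe (K5.f92058 IH) (Lpe (K5.f92247 IH) (Lpr_ct (K5.f132499 IH) (Lpn (LP (LK LD1_c3 LD2_c4 LD3_c56)))))))))))))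
theorem f8368 : Led Lsl_ct (LP (LK LD1_c5 LD2_c51 LD3_c14)) = (LP (LK LD1_c2 LD2_c51 LD3_c53)) :=
  Lre_c IH (LK LD1_c5 LD2_c51 LD3_c14) (LK LD1_c2 LD2_c51 LD3_c53) Lrfl Lrfl
theorem f157194 : Led Lsl_df (LP (LK LD1_c2 LD2_c14 LD3_c10)) = (LP (LK LD1_c2 LD2_c51 LD3_c53)) :=
  Lgr Lrot162 (Lpr_cf (K5.f132495 IH) (Lpe (f132511 IH) (Lpe (K7.f60862 IH) (Lpe (K4.f22447 IH) (Lpr_dt (f60956 IH) (Lpe (f157154 IH) (Lpr_ct (K7.f141269 IH) (Lpr_gt (f157168 IH) (Lpr_ct (f8368 IH) (Lpn (LP (LK LD1_c2 LD2_c51 LD3_c53))))))))))))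
theorem f132501 : Led Lsl_dt (LP (LK LD1_c6 LD2_c15 LD3_c38)) = (LP (LK LD1_c3 LD2_c4 LD3_c56)) :=
  Lre_d IH (LK LD1_c6 LD2_c15 LD3_c38) (LK LD1_c3 LD2_c4 LD3_c56) Lrfl Lrfl
theorem f132497 : Led Lsl_gt (LP (LK LD1_c2 LD2_c14 LD3_c10)) = (LP (LK LD1_c4 LD2_c34 LD3_c23)) :=
  Lre_g IH (LK LD1_c2 LD2_c14 LD3_c10) (LK LD1_c4 LD2_c34 LD3_c23) Lrfl Lrfl
theorem f132517 : Led Lsl_gt (LP (LK LD1_c4 LD2_c34 LD3_c23)) = (LP (LK LD1_c2 LD2_c49 LD3_c58)) :=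
  Lgr Lrot46 (Lpe (f132497 IH) (Lpr_ft (K5.f132491 IH) (Lpr_at (K5.f132330 IH) (Lpn (LP (LK LD1_c2 LD2_c49 LD3_c58))))))
theorem f132433 : Led Lsl_dt (LP (LK LD1_c2 LD2_c49 LD3_c58)) = (LP (LK LD1_c5 LD2_c47 LD3_c52)) :=
  Lre_d IH (LK LD1_c2 LD2_c49 LD3_c58) (LK LD1_c5 LD2_c47 LD3_c52) Lrfl Lrfl
theorem f36553 : Led Lsl_bt (LP (LK LD1_c2 LD2_c14 LD3_c9)) = (LP (LK LD1_c4 LD2_c34 LD3_c20)) :=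
  Lre_b IH (LK LD1_c2 LD2_c14 LD3_c9) (LK LD1_c4 LD2_c34 LD3_c20) Lrfl Lrfl
theorem f117559 : Led Lsl_et (LP (LK LD1_c3 LD2_c9 LD3_c53)) = (LP (LK LD1_c1 LD2_c31 LD3_c4)) :=
  Lre_e IH (LK LD1_c3 LD2_c9 LD3_c53) (LK LD1_c1 LD2_c31 LD3_c4) Lrfl Lrfl
theorem f36542 : Led Lsl_et (LP (LK LD1_c2 LD2_c9 LD3_c23)) = (LP (LK LD1_c4 LD2_c23 LD3_c57)) :=
  Lre_e IH (LK LD1_c2 LD2_c9 LD3_c23) (LK LD1_c4 LD2_c23 LD3_c57) Lrfl Lrfl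
theorem f117560 : Led Lsl_af (LP (LK LD1_c3 LD2_c9 LD3_c53)) = (LP (LK LD1_c4 LD2_c23 LD3_c57)) :=
  Lgr Lrot50 (Lpr_et (f117559 IH) (Lpr_at (K4.f117554 IH) (Lpr_et (f36542 IH) (Lpn (LP (LK LD1_c4 LD2_c23 LD3_c57))))))
theorem f117565 : Led Lsl_ct (LP (LK LD1_c3 LD2_c9 LD3_c53)) = (LP (LK LD1_c6 LD2_c24 LD3_c26)) :=
  Lre_c IH (LK LD1_c3 LD2_c9 LD3_c53) (LK LD1_c6 LD2_c24 LD3_c26) Lrfl Lrfl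
theorem f36541 : Led Lsl_et (LP (LK LD1_c4 LD2_c34 LD3_c20)) = (LP (LK LD1_c2 LD2_c14 LD3_c7)) :=
  Lre_e IH (LK LD1_c4 LD2_c34 LD3_c20) (LK LD1_c2 LD2_c14 LD3_c7) Lrfl Lrfl
theorem f36543 : Led Lsl_cf (LP (LK LD1_c4 LD2_c34 LD3_c20)) = (LP (LK LD1_c4 LD2_c23 LD3_c57)) :=
  Lgr Lrot39 (Lpr_et (f36541 IH) (Lpr_ct (K4.f36533 IH) (Lpr_et (f36542 IH) (Lpn (LP (LK LD1_c4 LD2_c23 LD3_c57))))))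
theorem f36548 : Led Lsl_ct (LP (LK LD1_c4 LD2_c34 LD3_c20)) = (LP (LK LD1_c4 LD2_c23 LD3_c57)) :=
  Lgr Lrot59 (Lpr_cf (f36543 IH) (Lpn (LP (LK LD1_c4 LD2_c23 LD3_c57))))
theorem f117566 : Led Lsl_at (LP (LK LD1_c6 LD2_c24 LD3_c26)) = (LP (LK LD1_c4 LD2_c34 LD3_c20)) :=
  Lgr Lrot107 (Lpe (f117565 IH) (Lpr_af (f117560 IH) (Lpe (f36548 IH) (Lpn (LP (LK LD1_c4 LD2_c34 LD3_c20))))))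
theorem f117596 : Led Lsl_af (LP (LK LD1_c6 LD2_c24 LD3_c26)) = (LP (LK LD1_c4 LD2_c34 LD3_c20)) :=
  Lgr Lrot0 (Lpr_at (f117566 IH) (Lpn (LP (LK LD1_c4 LD2_c34 LD3_c20))))
theorem f132339 : Led Lsl_bt (LP (LK LD1_c2 LD2_c49 LD3_c61)) = (LP (LK LD1_c1 LD2_c21 LD3_c5)) :=
  Lre_b IH (LK LD1_c2 LD2_c49 LD3_c61) (LK LD1_c1 LD2_c21 LD3_c5) Lrfl Lrfl
theorem f132340 : Led Lsl_at (LP (LK LD1_c5 LD2_c47 LD3_c53)) = (LP (LK LD1_c2 LD2_c49 LD3_c61)) :=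
  Lre_a IH (LK LD1_c5 LD2_c47 LD3_c53) (LK LD1_c2 LD2_c49 LD3_c61) Lrfl Lrfl
theorem f132341 : Led Lsl_bt (LP (LK LD1_c6 LD2_c24 LD3_c26)) = (LP (LK LD1_c5 LD2_c47 LD3_c53)) :=
  Lgr Lrot62 (Lpr_af (f117596 IH) (Lpe (f36553 IH) (Lpr_af (K5.f132335 IH) (Lpe (f132339 IH) (Lpe (f132340 IH) (Lpn (LP (LK LD1_c5 LD2_c47 LD3_c53))))))))
theorem f132422 : Led Lsl_bf (LP (LK LD1_c6 LD2_c24 LD3_c26)) = (LP (LK LD1_c5 LD2_c47 LD3_c53)) :=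
  Lgr Lrot24 (Lpr_bt (f132341 IH) (Lpn (LP (LK LD1_c5 LD2_c47 LD3_c53))))
theorem f117510 : Led Lsl_et (LP (LK LD1_c6 LD2_c24 LD3_c26)) = (LP (LK LD1_c3 LD2_c9 LD3_c51)) :=
  Lre_e IH (LK LD1_c6 LD2_c24 LD3_c26) (LK LD1_c3 LD2_c9 LD3_c51) Lrfl Lrfl
theorem f132429 : Led Lsl_et (LP (LK LD1_c2 LD2_c49 LD3_c58)) = (LP (LK LD1_c5 LD2_c47 LD3_c53)) :=
  Lre_e IH (LK LD1_c2 LD2_c49 LD3_c58) (LK LD1_c5 LD2_c47 LD3_c53) Lrfl Lrfl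
theorem f132430 : Led Lsl_bt (LP (LK LD1_c3 LD2_c9 LD3_c51)) = (LP (LK LD1_c2 LD2_c49 LD3_c58)) :=
  Lgr Lrot119 (Lpe (f117510 IH) (Lpr_bf (f132422 IH) (Lpe (f132429 IH) (Lpn (LP (LK LD1_c2 LD2_c49 LD3_c58))))))
theorem f132434 : Led Lsl_bf (LP (LK LD1_c5 LD2_c51 LD3_c7)) = (LP (LK LD1_c5 LD2_c47 LD3_c52)) :=
  Lgr Lrot93 (Lpe (K4.f117508 IH) (Lpr_bt (f132430 IH) (Lpr_dt (f132433 IH) (Lpn (LP (LK LD1_c5 LD2_c47 LD3_c52))))))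
theorem f132438 : Led Lsl_bt (LP (LK LD1_c5 LD2_c51 LD3_c7)) = (LP (LK LD1_c5 LD2_c47 LD3_c52)) :=
  Lgr Lrot127 (Lpr_bf (f132434 IH) (Lpn (LP (LK LD1_c5 LD2_c47 LD3_c52))))
theorem f25188 : Led Lsl_ct (LP (LK LD1_c1 LD2_c4 LD3_c35)) = (LP (LK LD1_c2 LD2_c14 LD3_c55)) :=
  Lre_c IH (LK LD1_c1 LD2_c4 LD3_c35) (LK LD1_c2 LD2_c14 LD3_c55) Lrfl Lrfl
theorem f132473 : Led Lsl_gf (LP (LK LD1_c4 LD2_c25 LD3_c61)) = (LP (LK LD1_c5 LD2_c47 LD3_c52)) :=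
  Lgr Lrot181 (Lpr_ct (K6.f99968 IH) (Lpr_gt (K6.f27159 IH) (Lpe (K6.f23039 IH) (Lpr_bt (K5.f23038 IH) (Lpe (K0.f27150 IH) (Lpe (K4.f25187 IH) (Lpr_ct (f25188 IH) (Lpr_gt (K4.f27162 IH) (Lpr_cf (K4.f117501 IH) (Lpr_bt (f132438 IH) (Lpn (LP (LK LD1_c5 LD2_c47 LD3_c52)))))))))))))
theorem f59604 : Led Lsl_gt (LP (LK LD1_c1 LD2_c20 LD3_c34)) = (LP (LK LD1_c2 LD2_c48 LD3_c55)) :=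
  Lre_g IH (LK LD1_c1 LD2_c20 LD3_c34) (LK LD1_c2 LD2_c48 LD3_c55) Lrfl Lrfl
theorem f60261 : Led Lsl_gf (LP (LK LD1_c2 LD2_c16 LD3_c49)) = (LP (LK LD1_c2 LD2_c48 LD3_c55)) :=
  Lgr Lrot76 (Lpe (K2.f56180 IH) (Lpr_ff (K1.f60247 IH) (Lpr_gt (f59604 IH) (Lpn (LP (LK LD1_c2 LD2_c48 LD3_c55))))))
theorem f132521 : Led Lsl_cf (LP (LK LD1_c4 LD2_c34 LD3_c23)) = (LP (LK LD1_c2 LD2_c48 LD3_c55)) :=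
  Lgr Lrot166 (Lpr_gt (f132517 IH) (Lpr_dt (f132433 IH) (Lpe (f132473 IH) (Lpr_dt (K6.f99825 IH) (Lpr_ct (K6.f26591 IH) (Lpe (K6.f99727 IH) (Lpe (f99728 IH) (Lpe (K5.f99811 IH) (Lpr_gf (f60261 IH) (Lpn (LP (LK LD1_c2 LD2_c48 LD3_c55))))))))))))
theorem f132523 : Led Lsl_dt (LP (LK LD1_c4 LD2_c34 LD3_c23)) = (LP (LK LD1_c3 LD2_c17 LD3_c42)) :=
  Lgr Lrot27 (Lpr_cf (f132521 IH) (Lpe (f59604 IH) (Lpe (K5.f56597 IH) (Lpe (K5.f56599 IH) (Lpe (K6.f116865 IH) (Lpr_gt (K6.f26492 IH) (Lpr_ct (K6.f26507 IH) (Lpr_gt (K7.f26508 IH) (Lpr_ct (K7.f103921 IH) (Lpn (LP (LK LD1_c3 LD2_c17 LD3_c42))))))))))))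
theorem f26509 : Led Lsl_ct (LP (LK LD1_c3 LD2_c17 LD3_c42)) = (LP (LK LD1_c1 LD2_c35 LD3_c24)) :=
  Lre_c IH (LK LD1_c3 LD2_c17 LD3_c42) (LK LD1_c1 LD2_c35 LD3_c24) Lrfl Lrfl
theorem f147490 : Led Lsl_gt (LP (LK LD1_c3 LD2_c2 LD3_c6)) = (LP (LK LD1_c3 LD2_c17 LD3_c43)) :=
  Lgr Lrot94 (Lpe (K5.f63514 IH) (Lpr_gt (K6.f147485 IH) (Lpr_dt (K6.f147484 IH) (Lpe (K7.f147482 IH) (Lpe (K7.f139566 IH) (Lpr_cf (K7.f139563 IH) (Lpe (f57097 IH) (Lpe (K7.f94128 IH) (Lpe (f132527 IH) (Lpn (LP (LK LD1_c3 LD2_c17 LD3_c43))))))))))))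
theorem f157207 : Led Lsl_gt (LP (LK LD1_c4 LD2_c25 LD3_c61)) = (LP (LK LD1_c2 LD2_c51 LD3_c53)) :=
  Lgr Lrot94 (Lpr_cf (K6.f99948 IH) (Lpr_gt (K6.f27159 IH) (Lpr_dt (K6.f60364 IH) (Lpr_gt (f147490 IH) (Lpr_dt (f132527 IH) (Lpe (f26509 IH) (Lpe (f132523 IH) (Lpe (f132497 IH) (Lpr_df (f157194 IH) (Lpn (LP (LK LD1_c2 LD2_c51 LD3_c53))))))))))))
theorem f157209 : Led Lsl_gf (LP (LK LD1_c6 LD2_c15 LD3_c38)) = (LP (LK LD1_c4 LD2_c37 LD3_c0)) :=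
  Lgr Lrot154 (Lpr_dt (f132501 IH) (Lpe (K5.f132495 IH) (Lpr_df (f157194 IH) (Lpe (f157207 IH) (Lpe (K6.f99947 IH) (Lpe (K6.f35239 IH) (Lpr_ct (K6.f70481 IH) (Lpe (K7.f142130 IH) (Lpr_dt (K6.f141246 IH) (Lpn (LP (LK LD1_c4 LD2_c37 LD3_c0))))))))))))
theorem f99720 : Led Lsl_ct (LP (LK LD1_c4 LD2_c25 LD3_c52)) = (LP (LK LD1_c2 LD2_c10 LD3_c14)) :=
  Lre_c IH (LK LD1_c4 LD2_c25 LD3_c52) (LK LD1_c2 LD2_c10 LD3_c14) Lrfl Lrfl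
theorem f99817 : Led Lsl_gt (LP (LK LD1_c8 LD2_c49 LD3_c8)) = (LP (LK LD1_c4 LD2_c25 LD3_c52)) :=
  Lre_g IH (LK LD1_c8 LD2_c49 LD3_c8) (LK LD1_c4 LD2_c25 LD3_c52) Lrfl Lrfl
theorem f157220 : Led Lsl_ct (LP (LK LD1_c6 LD2_c15 LD3_c38)) = (LP (LK LD1_c8 LD2_c49 LD3_c8)) :=
  Lgr Lrot152 (Lpr_gf (f157209 IH) (Lpe (K6.f141246 IH) (Lpr_gt (K7.f148994 IH) (Lpr_ct (K7.f24201 IH) (Lpe (K6.f141954 IH) (Lpr_ct (K6.f80135 IH) (Lpe (K6.f99719 IH) (Lpe (f99720 IH) (Lpe (f99817 IH) (Lpn (LP (LK LD1_c8 LD2_c49 LD3_c8))))))))))))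
theorem f157227 : Led Lsl_cf (LP (LK LD1_c6 LD2_c15 LD3_c38)) = (LP (LK LD1_c8 LD2_c49 LD3_c8)) :=
  Lgr Lrot11 (Lpr_ct (f157220 IH) (Lpn (LP (LK LD1_c8 LD2_c49 LD3_c8))))
theorem f157217 : Led Lsl_ft (LP (LK LD1_c4 LD2_c37 LD3_c0)) = (LP (LK LD1_c2 LD2_c15 LD3_c42)) :=
  Lre_f IH (LK LD1_c4 LD2_c37 LD3_c0) (LK LD1_c2 LD2_c15 LD3_c42) Lrfl Lrfl
theorem f142247 : Led Lsl_at (LP (LK LD1_c2 LD2_c15 LD3_c42)) = (LP (LK LD1_c4 LD2_c36 LD3_c38)) :=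
  Lre_a IH (LK LD1_c2 LD2_c15 LD3_c42) (LK LD1_c4 LD2_c36 LD3_c38) Lrfl Lrfl
theorem f157218 : Led Lsl_gt (LP (LK LD1_c6 LD2_c15 LD3_c38)) = (LP (LK LD1_c4 LD2_c36 LD3_c38)) :=
  Lgr Lrot46 (Lpr_gf (f157209 IH) (Lpr_ft (f157217 IH) (Lpr_at (f142247 IH) (Lpn (LP (LK LD1_c4 LD2_c36 LD3_c38))))))
theorem f129198 : Led Lsl_bt (LP (LK LD1_c3 LD2_c14 LD3_c10)) = (LP (LK LD1_c6 LD2_c31 LD3_c60)) :=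
  Lre_b IH (LK LD1_c3 LD2_c14 LD3_c10) (LK LD1_c6 LD2_c31 LD3_c60) Lrfl Lrfl
theorem f96107 : Led Lsl_bt (LP (LK LD1_c3 LD2_c1 LD3_c54)) = (LP (LK LD1_c1 LD2_c26 LD3_c61)) :=
  Lre_b IH (LK LD1_c3 LD2_c1 LD3_c54) (LK LD1_c1 LD2_c26 LD3_c61) Lrfl Lrfl
theorem f148543 : Led Lsl_gt (LP (LK LD1_c3 LD2_c14 LD3_c4)) = (LP (LK LD1_c6 LD2_c31 LD3_c45)) :=
  Lre_g IH (LK LD1_c3 LD2_c14 LD3_c4) (LK LD1_c6 LD2_c31 LD3_c45) Lrfl Lrfl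
theorem f148551 : Led Lsl_ct (LP (LK LD1_c12 LD2_c31 LD3_c25)) = (LP (LK LD1_c6 LD2_c31 LD3_c45)) :=
  Lre_c IH (LK LD1_c12 LD2_c31 LD3_c25) (LK LD1_c6 LD2_c31 LD3_c45) Lrfl Lrfl
theorem f149826 : Led Lsl_bt (LP (LK LD1_c12 LD2_c31 LD3_c25)) = (LP (LK LD1_c12 LD2_c36 LD3_c4)) :=
  Lgr Lrot130 (Lpr_ct (f148551 IH) (Lpe (f148543 IH) (Lpe (K7.f148445 IH) (Lpr_bt (K7.f96091 IH) (Lpe (K5.f96103 IH) (Lpe (f96107 IH) (Lpr_ct (K4.f96237 IH) (Lpe (K7.f117042 IH) (Lpr_cf (K7.f149820 IH) (Lpe (K7.f108689 IH) (Lpn (LP (LK LD1_c12 LD2_c36 LD3_c4)))))))))))))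
theorem f148546 : Led Lsl_ct (LP (LK LD1_c6 LD2_c31 LD3_c45)) = (LP (LK LD1_c12 LD2_c31 LD3_c25)) :=
  Lre_c IH (LK LD1_c6 LD2_c31 LD3_c45) (LK LD1_c12 LD2_c31 LD3_c25) Lrfl Lrfl
theorem f148620 : Led Lsl_dt (LP (LK LD1_c12 LD2_c31 LD3_c26)) = (LP (LK LD1_c6 LD2_c31 LD3_c45)) :=
  Lre_d IH (LK LD1_c12 LD2_c31 LD3_c26) (LK LD1_c6 LD2_c31 LD3_c45) Lrfl Lrfl
theorem f107310 : Led Lsl_dt (LP (LK LD1_c3 LD2_c26 LD3_c49)) = (LP (LK LD1_c1 LD2_c40 LD3_c2)) :=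
  Lre_d IH (LK LD1_c3 LD2_c26 LD3_c49) (LK LD1_c1 LD2_c40 LD3_c2) Lrfl Lrfl
theorem f107309 : Led Lsl_bt (LP (LK LD1_c3 LD2_c26 LD3_c40)) = (LP (LK LD1_c1 LD2_c40 LD3_c0)) :=
  Lre_b IH (LK LD1_c3 LD2_c26 LD3_c40) (LK LD1_c1 LD2_c40 LD3_c0) Lrfl Lrfl
theorem f149833 : Led Lsl_gf (LP (LK LD1_c12 LD2_c31 LD3_c26)) = (LP (LK LD1_c6 LD2_c31 LD3_c60)) :=
  Lgr Lrot85 (Lpr_dt (f148620 IH) (Lpr_ct (f148546 IH) (Lpr_bt (f149826 IH) (Lpr_gt (K7.f108689 IH) (Lpr_dt (K7.f108688 IH) (Lpr_ct (K4.f108687 IH) (Lpr_bt (K7.f96735 IH) (Lpe (K3.f108685 IH) (Lpr_dt (K3.f65643 IH) (Lpr_ct (K3.f108679 IH) (Lpr_bt (K4.f64626 IH) (Lpe (K4.f108736 IH) (Lpr_dt (f107310 IH) (Lpr_ct (K6.f95131 IH) (Lpr_bt (f107309 IH) (Lpe (K3.f107303 IH) (Lpr_dt (K5.f107308 IH) (Lpe (K5.f129145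 IH) (Lpr_bt (f129198 IH) (Lpn (LP (LK LD1_c6 LD2_c31 LD3_c60))))))))))))))))))))))
theorem f157266 : Led Lsl_bf (LP (LK LD1_c12 LD2_c31 LD3_c26)) = (LP (LK LD1_c8 LD2_c49 LD3_c8)) :=
  Lgr Lrot34 (Lpr_gf (f149833 IH) (Lpe (f129198 IH) (Lpr_ct (K5.f129199 IH) (Lpr_gf (K5.f129147 IH) (Lpe (K5.f12586 IH) (Lpe (K5.f125676 IH) (Lpe (K7.f129163 IH) (Lpr_ct (K6.f141288 IH) (Lpe (f157218 IH) (Lpr_cf (f157227 IH) (Lpn (LP (LK LD1_c8 LD2_c49 LD3_c8)))))))))))))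
theorem f112744 : Led Lsl_bt (LP (LK LD1_c3 LD2_c4 LD3_c57)) = (LP (LK LD1_c6 LD2_c15 LD3_c38)) :=
  Lre_b IH (LK LD1_c3 LD2_c4 LD3_c57) (LK LD1_c6 LD2_c15 LD3_c38) Lrfl Lrfl
theorem f112754 : Led Lsl_bt (LP (LK LD1_c12 LD2_c9 LD3_c8)) = (LP (LK LD1_c6 LD2_c15 LD3_c41)) :=
  Lre_b IH (LK LD1_c12 LD2_c9 LD3_c8) (LK LD1_c6 LD2_c15 LD3_c41) Lrfl Lrfl
theorem f157270 : Led Lsl_ct (LP (LK LD1_c12 LD2_c31 LD3_c26)) = (LP (LK LD1_c12 LD2_c9 LD3_c8)) :=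
  Lgr Lrot83 (Lpr_bf (f157266 IH) (Lpe (f157220 IH) (Lpe (f112744 IH) (Lpe (K5.f83802 IH) (Lpe (f112754 IH) (Lpn (LP (LK LD1_c12 LD2_c9 LD3_c8))))))))
theorem f148544 : Led Lsl_dt (LP (LK LD1_c6 LD2_c31 LD3_c45)) = (LP (LK LD1_c12 LD2_c31 LD3_c26)) :=
  Lre_d IH (LK LD1_c6 LD2_c31 LD3_c45) (LK LD1_c12 LD2_c31 LD3_c26) Lrfl Lrfl
theorem f149830 : Led Lsl_bt (LP (LK LD1_c6 LD2_c37 LD3_c26)) = (LP (LK LD1_c12 LD2_c40 LD3_c41)) :=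
  Lre_b IH (LK LD1_c6 LD2_c37 LD3_c26) (LK LD1_c12 LD2_c40 LD3_c41) Lrfl Lrfl
theorem f149831 : Led Lsl_df (LP (LK LD1_c12 LD2_c31 LD3_c25)) = (LP (LK LD1_c12 LD2_c40 LD3_c41)) :=
  Lgr Lrot12 (Lpr_bt (f149826 IH) (Lpe (K7.f149818 IH) (Lpr_bt (f149830 IH) (Lpn (LP (LK LD1_c12 LD2_c40 LD3_c41))))))
theorem f78392 : Led Lsl_dt (LP (LK LD1_c4 LD2_c46 LD3_c28)) = (LP (LK LD1_c2 LD2_c21 LD3_c11)) :=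
  Lre_d IH (LK LD1_c4 LD2_c46 LD3_c28) (LK LD1_c2 LD2_c21 LD3_c11) Lrfl Lrfl
theorem f112436 : Led Lsl_ct (LP (LK LD1_c8 LD2_c48 LD3_c19)) = (LP (LK LD1_c6 LD2_c24 LD3_c24)) :=
  Lgr Lrot83 (Lpr_bf (K4.f112432 IH) (Lpe (K2.f78730 IH) (Lpe (K4.f79052 IH) (Lpe (K4.f36323 IH) (Lpe (K5.f79060 IH) (Lpn (LP (LK LD1_c6 LD2_c24 LD3_c24))))))))
theorem f133013 : Led Lsl_ct (LP (LK LD1_c3 LD2_c9 LD3_c50)) = (LP (LK LD1_c3 LD2_c57 LD3_c38)) :=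
  Lgr Lrot40 (Lpe (K5.f118902 IH) (Lpr_cf (K5.f80691 IH) (Lpr_ff (K6.f133011 IH) (Lpn (LP (LK LD1_c3 LD2_c57 LD3_c38))))))
theorem f133023 : Led Lsl_at (LP (LK LD1_c2 LD2_c9 LD3_c34)) = (LP (LK LD1_c3 LD2_c57 LD3_c38)) :=
  Lgr Lrot107 (Lpe (K5.f80688 IH) (Lpr_af (K5.f118906 IH) (Lpr_cf (K6.f133020 IH) (Lpn (LP (LK LD1_c3 LD2_c57 LD3_c38))))))
theorem f133039 : Led Lsl_ff (LP (LK LD1_c2 LD2_c9 LD3_c34)) = (LP (LK LD1_c3 LD2_c57 LD3_c37)) :=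
  Lgr Lrot30 (Lpr_at (f133023 IH) (Lpe (K6.f133011 IH) (Lpr_at (K6.f133003 IH) (Lpn (LP (LK LD1_c3 LD2_c57 LD3_c37))))))
theorem f137947 : Led Lsl_df (LP (LK LD1_c4 LD2_c24 LD3_c46)) = (LP (LK LD1_c3 LD2_c57 LD3_c37)) :=
  Lgr Lrot157 (Lpr_ct (K6.f137936 IH) (Lpr_dt (f78392 IH) (Lpr_ct (K7.f78391 IH) (Lpe (K5.f112576 IH) (Lpr_ct (f112436 IH) (Lpr_dt (K5.f112460 IH) (Lpr_ct (f133013 IH) (Lpe (f133023 IH) (Lpr_ff (f133039 IH) (Lpn (LP (LK LD1_c3 LD2_c57 LD3_c37))))))))))))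
theorem f132854 : Led Lsl_ft (LP (LK LD1_c2 LD2_c9 LD3_c34)) = (LP (LK LD1_c3 LD2_c57 LD3_c37)) :=
  Lgr Lrot75 (Lpr_bf (K5.f80913 IH) (Lpr_ff (K5.f132837 IH) (Lpr_bf (K6.f59397 IH) (Lpn (LP (LK LD1_c3 LD2_c57 LD3_c37))))))
theorem f138026 : Led Lsl_ft (LP (LK LD1_c4 LD2_c24 LD3_c46)) = (LP (LK LD1_c4 LD2_c24 LD3_c12)) :=
  Lgr Lrot54 (Lpr_df (f137947 IH) (Lpe (f132854 IH) (Lpe (K5.f81057 IH) (Lpn (LP (LK LD1_c4 LD2_c24 LD3_c12))))))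
theorem f138033 : Led Lsl_ff (LP (LK LD1_c4 LD2_c24 LD3_c46)) = (LP (LK LD1_c4 LD2_c24 LD3_c12)) :=
  Lgr Lrot3 (Lpr_ft (f138026 IH) (Lpn (LP (LK LD1_c4 LD2_c24 LD3_c12))))
theorem f138025 : Led Lsl_et (LP (LK LD1_c4 LD2_c24 LD3_c46)) = (LP (LK LD1_c8 LD2_c47 LD3_c0)) :=
  Lre_e IH (LK LD1_c4 LD2_c24 LD3_c46) (LK LD1_c8 LD2_c47 LD3_c0) Lrfl Lrfl
theorem f138039 : Led Lsl_ft (LP (LK LD1_c8 LD2_c47 LD3_c0)) = (LP (LK LD1_c16 LD2_c26 LD3_c6)) :=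
  Lre_f IH (LK LD1_c8 LD2_c47 LD3_c0) (LK LD1_c16 LD2_c26 LD3_c6) Lrfl Lrfl
theorem f81036 : Led Lsl_et (LP (LK LD1_c8 LD2_c46 LD3_c5)) = (LP (LK LD1_c4 LD2_c24 LD3_c12)) :=
  Lre_e IH (LK LD1_c8 LD2_c46 LD3_c5) (LK LD1_c4 LD2_c24 LD3_c12) Lrfl Lrfl
theorem f81047 : Led Lsl_ft (LP (LK LD1_c16 LD2_c24 LD3_c21)) = (LP (LK LD1_c8 LD2_c46 LD3_c5)) :=
  Lre_f IH (LK LD1_c16 LD2_c24 LD3_c21) (LK LD1_c8 LD2_c46 LD3_c5) Lrfl Lrfl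
theorem f138040 : Led Lsl_et (LP (LK LD1_c16 LD2_c26 LD3_c6)) = (LP (LK LD1_c16 LD2_c24 LD3_c21)) :=
  Lgr Lrot69 (Lpe (f138039 IH) (Lpe (f138025 IH) (Lpr_ff (f138033 IH) (Lpe (f81036 IH) (Lpe (f81047 IH) (Lpn (LP (LK LD1_c16 LD2_c24 LD3_c21))))))))
theorem f81037 : Led Lsl_ft (LP (LK LD1_c8 LD2_c46 LD3_c5)) = (LP (LK LD1_c16 LD2_c24 LD3_c21)) :=
  Lre_f IH (LK LD1_c8 LD2_c46 LD3_c5) (LK LD1_c16 LD2_c24 LD3_c21) Lrfl Lrfl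
theorem f81039 : Led Lsl_bt (LP (LK LD1_c16 LD2_c24 LD3_c21)) = (LP (LK LD1_c12 LD2_c9 LD3_c38)) :=
  Lgr Lrot35 (Lpe (f81037 IH) (Lpr_bf (K5.f81026 IH) (Lpe (K6.f81038 IH) (Lpn (LP (LK LD1_c12 LD2_c9 LD3_c38))))))
theorem f138042 : Led Lsl_bf (LP (LK LD1_c16 LD2_c26 LD3_c6)) = (LP (LK LD1_c17 LD2_c15 LD3_c41)) :=
  Lgr Lrot96 (Lpr_et (f138040 IH) (Lpr_bt (f81039 IH) (Lpr_et (K6.f132879 IH) (Lpn (LP (LK LD1_c17 LD2_c15 LD3_c41))))))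
theorem f138030 : Led Lsl_ft (LP (LK LD1_c16 LD2_c26 LD3_c6)) = (LP (LK LD1_c8 LD2_c47 LD3_c0)) :=
  Lre_f IH (LK LD1_c16 LD2_c26 LD3_c6) (LK LD1_c8 LD2_c47 LD3_c0) Lrfl Lrfl
theorem f138048 : Led Lsl_bt (LP (LK LD1_c8 LD2_c47 LD3_c0)) = (LP (LK LD1_c9 LD2_c19 LD3_c47)) :=
  Lgr Lrot35 (Lpe (f138030 IH) (Lpr_bf (f138042 IH) (Lpe (K6.f132867 IH) (Lpn (LP (LK LD1_c9 LD2_c19 LD3_c47))))))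
theorem f138050 : Led Lsl_bf (LP (LK LD1_c8 LD2_c47 LD3_c0)) = (LP (LK LD1_c9 LD2_c19 LD3_c47)) :=
  Lgr Lrot24 (Lpr_bt (f138048 IH) (Lpn (LP (LK LD1_c9 LD2_c19 LD3_c47))))
theorem f132860 : Led Lsl_et (LP (LK LD1_c4 LD2_c42 LD3_c52)) = (LP (LK LD1_c9 LD2_c19 LD3_c47)) :=
  Lre_e IH (LK LD1_c4 LD2_c42 LD3_c52) (LK LD1_c9 LD2_c19 LD3_c47) Lrfl Lrfl
theorem f133103 : Led Lsl_et (LP (LK LD1_c9 LD2_c23 LD3_c61)) = (LP (LK LD1_c4 LD2_c45 LD3_c41)) :=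
  Lre_e IH (LK LD1_c9 LD2_c23 LD3_c61) (LK LD1_c4 LD2_c45 LD3_c41) Lrfl Lrfl
theorem f133111 : Led Lsl_ct (LP (LK LD1_c9 LD2_c19 LD3_c47)) = (LP (LK LD1_c9 LD2_c23 LD3_c61)) :=
  Lgr Lrot15 (Lpe (f132860 IH) (Lpr_cf (K6.f133108 IH) (Lpe (f133103 IH) (Lpn (LP (LK LD1_c9 LD2_c23 LD3_c61))))))
theorem f133116 : Led Lsl_cf (LP (LK LD1_c9 LD2_c19 LD3_c47)) = (LP (LK LD1_c9 LD2_c23 LD3_c61)) :=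
  Lgr Lrot11 (Lpr_ct (f133111 IH) (Lpn (LP (LK LD1_c9 LD2_c23 LD3_c61))))
theorem f78631 : Led Lsl_bt (LP (LK LD1_c4 LD2_c45 LD3_c45)) = (LP (LK LD1_c9 LD2_c23 LD3_c61)) :=
  Lre_b IH (LK LD1_c4 LD2_c45 LD3_c45) (LK LD1_c9 LD2_c23 LD3_c61) Lrfl Lrfl
theorem f78584 : Led Lsl_et (LP (LK LD1_c4 LD2_c46 LD3_c30)) = (LP (LK LD1_c2 LD2_c21 LD3_c12)) :=
  Lre_e IH (LK LD1_c4 LD2_c46 LD3_c30) (LK LD1_c2 LD2_c21 LD3_c12) Lrfl Lrfl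
theorem f78585 : Led Lsl_et (LP (LK LD1_c2 LD2_c20 LD3_c56)) = (LP (LK LD1_c4 LD2_c45 LD3_c45)) :=
  Lre_e IH (LK LD1_c2 LD2_c20 LD3_c56) (LK LD1_c4 LD2_c45 LD3_c45) Lrfl Lrfl
theorem f78586 : Led Lsl_cf (LP (LK LD1_c4 LD2_c46 LD3_c30)) = (LP (LK LD1_c4 LD2_c45 LD3_c45)) :=
  Lgr Lrot39 (Lpr_et (f78584 IH) (Lpr_ct (K3.f78519 IH) (Lpr_et (f78585 IH) (Lpn (LP (LK LD1_c4 LD2_c45 LD3_c45))))))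
theorem f78623 : Led Lsl_ct (LP (LK LD1_c4 LD2_c46 LD3_c30)) = (LP (LK LD1_c4 LD2_c45 LD3_c45)) :=
  Lgr Lrot59 (Lpr_cf (f78586 IH) (Lpn (LP (LK LD1_c4 LD2_c45 LD3_c45))))
theorem f78641 : Led Lsl_bt (LP (LK LD1_c9 LD2_c25 LD3_c37)) = (LP (LK LD1_c4 LD2_c46 LD3_c30)) :=
  Lre_b IH (LK LD1_c9 LD2_c25 LD3_c37) (LK LD1_c4 LD2_c46 LD3_c30) Lrfl Lrfl
theorem f138059 : Led Lsl_ct (LP (LK LD1_c8 LD2_c47 LD3_c0)) = (LP (LK LD1_c9 LD2_c25 LD3_c37)) :=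
  Lgr Lrot83 (Lpr_bf (f138050 IH) (Lpr_cf (f133116 IH) (Lpe (f78631 IH) (Lpe (f78623 IH) (Lpe (f78641 IH) (Lpn (LP (LK LD1_c9 LD2_c25 LD3_c37))))))))
theorem f119059 : Led Lsl_ft (LP (LK LD1_c9 LD2_c25 LD3_c37)) = (LP (LK LD1_c17 LD2_c23 LD3_c5)) :=
  Lre_f IH (LK LD1_c9 LD2_c25 LD3_c37) (LK LD1_c17 LD2_c23 LD3_c5) Lrfl Lrfl
theorem f138065 : Led Lsl_cf (LP (LK LD1_c16 LD2_c26 LD3_c6)) = (LP (LK LD1_c17 LD2_c23 LD3_c5)) :=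
  Lgr Lrot108 (Lpr_ft (f138030 IH) (Lpr_ct (f138059 IH) (Lpr_ft (f119059 IH) (Lpn (LP (LK LD1_c17 LD2_c23 LD3_c5))))))
theorem f118956 : Led Lsl_et (LP (LK LD1_c8 LD2_c46 LD3_c7)) = (LP (LK LD1_c16 LD2_c24 LD3_c23)) :=
  Lre_e IH (LK LD1_c8 LD2_c46 LD3_c7) (LK LD1_c16 LD2_c24 LD3_c23) Lrfl Lrfl
theorem f119003 : Led Lsl_et (LP (LK LD1_c9 LD2_c25 LD3_c37)) = (LP (LK LD1_c4 LD2_c46 LD3_c28)) :=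
  Lre_e IH (LK LD1_c9 LD2_c25 LD3_c37) (LK LD1_c4 LD2_c46 LD3_c28) Lrfl Lrfl
theorem f119004 : Led Lsl_at (LP (LK LD1_c16 LD2_c24 LD3_c23)) = (LP (LK LD1_c9 LD2_c25 LD3_c37)) :=
  Lgr Lrot80 (Lpe (f118956 IH) (Lpr_af (K5.f118951 IH) (Lpe (f119003 IH) (Lpn (LP (LK LD1_c9 LD2_c25 LD3_c37))))))
theorem f119058 : Led Lsl_ft (LP (LK LD1_c26 LD2_c22 LD3_c3)) = (LP (LK LD1_c16 LD2_c24 LD3_c23)) :=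
  Lre_f IH (LK LD1_c26 LD2_c22 LD3_c3) (LK LD1_c16 LD2_c24 LD3_c23) Lrfl Lrfl
theorem f119060 : Led Lsl_af (LP (LK LD1_c26 LD2_c22 LD3_c3)) = (LP (LK LD1_c17 LD2_c23 LD3_c5)) :=
  Lgr Lrot45 (Lpr_ft (f119058 IH) (Lpr_at (f119004 IH) (Lpr_ft (f119059 IH) (Lpn (LP (LK LD1_c17 LD2_c23 LD3_c5))))))
theorem f119065 : Led Lsl_at (LP (LK LD1_c26 LD2_c22 LD3_c3)) = (LP (LK LD1_c17 LD2_c23 LD3_c5)) :=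
  Lgr Lrot100 (Lpr_af (f119060 IH) (Lpn (LP (LK LD1_c17 LD2_c23 LD3_c5))))
theorem f119030 : Led Lsl_ct (LP (LK LD1_c16 LD2_c24 LD3_c26)) = (LP (LK LD1_c26 LD2_c22 LD3_c3)) :=
  Lre_c IH (LK LD1_c16 LD2_c24 LD3_c26) (LK LD1_c26 LD2_c22 LD3_c3) Lrfl Lrfl
theorem f138067 : Led Lsl_at (LP (LK LD1_c16 LD2_c26 LD3_c6)) = (LP (LK LD1_c16 LD2_c24 LD3_c26)) :=
  Lgr Lrot107 (Lpr_cf (f138065 IH) (Lpe (f119065 IH) (Lpe (f119030 IH) (Lpn (LP (LK LD1_c16 LD2_c24 LD3_c26))))))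
theorem f132884 : Led Lsl_at (LP (LK LD1_c12 LD2_c9 LD3_c13)) = (LP (LK LD1_c17 LD2_c15 LD3_c41)) :=
  Lgr Lrot100 (Lpr_af (K6.f132881 IH) (Lpn (LP (LK LD1_c17 LD2_c15 LD3_c41))))
theorem f132745 : Led Lsl_bt (LP (LK LD1_c21 LD2_c15 LD3_c22)) = (LP (LK LD1_c12 LD2_c9 LD3_c13)) :=
  Lre_b IH (LK LD1_c21 LD2_c15 LD3_c22) (LK LD1_c12 LD2_c9 LD3_c13) Lrfl Lrfl
theorem f112912 : Led Lsl_et (LP (LK LD1_c8 LD2_c46 LD3_c8)) = (LP (LK LD1_c4 LD2_c24 LD3_c15)) :=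
  Lre_e IH (LK LD1_c8 LD2_c46 LD3_c8) (LK LD1_c4 LD2_c24 LD3_c15) Lrfl Lrfl
theorem f119015 : Led Lsl_et (LP (LK LD1_c4 LD2_c36 LD3_c59)) = (LP (LK LD1_c9 LD2_c9 LD3_c46)) :=
  Lre_e IH (LK LD1_c4 LD2_c36 LD3_c59) (LK LD1_c9 LD2_c9 LD3_c46) Lrfl Lrfl
theorem f119016 : Led Lsl_bf (LP (LK LD1_c8 LD2_c46 LD3_c8)) = (LP (LK LD1_c9 LD2_c9 LD3_c46)) :=
  Lgr Lrot96 (Lpr_et (f112912 IH) (Lpr_bt (K5.f119008 IH) (Lpr_et (f119015 IH) (Lpn (LP (LK LD1_c9 LD2_c9 LD3_c46))))))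
theorem f119022 : Led Lsl_ft (LP (LK LD1_c8 LD2_c46 LD3_c8)) = (LP (LK LD1_c16 LD2_c24 LD3_c26)) :=
  Lre_f IH (LK LD1_c8 LD2_c46 LD3_c8) (LK LD1_c16 LD2_c24 LD3_c26) Lrfl Lrfl
theorem f119023 : Led Lsl_ft (LP (LK LD1_c17 LD2_c2 LD3_c48)) = (LP (LK LD1_c9 LD2_c9 LD3_c46)) :=
  Lre_f IH (LK LD1_c17 LD2_c2 LD3_c48) (LK LD1_c9 LD2_c9 LD3_c46) Lrfl Lrfl
theorem f119024 : Led Lsl_bt (LP (LK LD1_c16 LD2_c24 LD3_c26)) = (LP (LK LD1_c17 LD2_c2 LD3_c48)) :=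
  Lgr Lrot35 (Lpe (f119022 IH) (Lpr_bf (f119016 IH) (Lpe (f119023 IH) (Lpn (LP (LK LD1_c17 LD2_c2 LD3_c48))))))
theorem f138071 : Led Lsl_af (LP (LK LD1_c21 LD2_c15 LD3_c22)) = (LP (LK LD1_c17 LD2_c2 LD3_c48)) :=
  Lgr Lrot36 (Lpr_bt (f132745 IH) (Lpr_at (f132884 IH) (Lpe (f138042 IH) (Lpr_at (f138067 IH) (Lpr_bt (f119024 IH) (Lpn (LP (LK LD1_c17 LD2_c2 LD3_c48))))))))
theorem f138078 : Led Lsl_ft (LP (LK LD1_c21 LD2_c15 LD3_c22)) = (LP (LK LD1_c12 LD2_c9 LD3_c5)) :=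
  Lre_f IH (LK LD1_c21 LD2_c15 LD3_c22) (LK LD1_c12 LD2_c9 LD3_c5) Lrfl Lrfl
theorem f119032 : Led Lsl_ft (LP (LK LD1_c9 LD2_c9 LD3_c46)) = (LP (LK LD1_c17 LD2_c2 LD3_c48)) :=
  Lre_f IH (LK LD1_c9 LD2_c9 LD3_c46) (LK LD1_c17 LD2_c2 LD3_c48) Lrfl Lrfl
theorem f138079 : Led Lsl_at (LP (LK LD1_c12 LD2_c9 LD3_c5)) = (LP (LK LD1_c9 LD2_c9 LD3_c46)) :=
  Lgr Lrot66 (Lpe (f138078 IH) (Lpr_af (f138071 IH) (Lpe (f119032 IH) (Lpn (LP (LK LD1_c9 LD2_c9 LD3_c46))))))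
theorem f138083 : Led Lsl_af (LP (LK LD1_c12 LD2_c9 LD3_c5)) = (LP (LK LD1_c9 LD2_c9 LD3_c46)) :=
  Lgr Lrot0 (Lpr_at (f138079 IH) (Lpn (LP (LK LD1_c9 LD2_c9 LD3_c46))))
theorem f138089 : Led Lsl_et (LP (LK LD1_c12 LD2_c9 LD3_c5)) = (LP (LK LD1_c6 LD2_c15 LD3_c38)) :=
  Lre_e IH (LK LD1_c12 LD2_c9 LD3_c5) (LK LD1_c6 LD2_c15 LD3_c38) Lrfl Lrfl
theorem f138090 : Led Lsl_at (LP (LK LD1_c6 LD2_c15 LD3_c38)) = (LP (LK LD1_c4 LD2_c36 LD3_c59)) :=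
  Lgr Lrot80 (Lpe (f138089 IH) (Lpr_af (f138083 IH) (Lpe (f119015 IH) (Lpn (LP (LK LD1_c4 LD2_c36 LD3_c59))))))
theorem f99814 : Led Lsl_gt (LP (LK LD1_c2 LD2_c15 LD3_c56)) = (LP (LK LD1_c4 LD2_c36 LD3_c59)) :=
  Lre_g IH (LK LD1_c2 LD2_c15 LD3_c56) (LK LD1_c4 LD2_c36 LD3_c59) Lrfl Lrfl
theorem f138096 : Led Lsl_ff (LP (LK LD1_c6 LD2_c15 LD3_c38)) = (LP (LK LD1_c4 LD2_c36 LD3_c58)) :=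
  Lgr Lrot52 (Lpr_at (f138090 IH) (Lpe (f99814 IH) (Lpe (K6.f100227 IH) (Lpn (LP (LK LD1_c4 LD2_c36 LD3_c58))))))
theorem f132681 : Led Lsl_bt (LP (LK LD1_c6 LD2_c15 LD3_c38)) = (LP (LK LD1_c3 LD2_c4 LD3_c57)) :=
  Lre_b IH (LK LD1_c6 LD2_c15 LD3_c38) (LK LD1_c3 LD2_c4 LD3_c57) Lrfl Lrfl
theorem f138098 : Led Lsl_bt (LP (LK LD1_c4 LD2_c42 LD3_c48)) = (LP (LK LD1_c4 LD2_c36 LD3_c58)) :=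
  Lgr Lrot35 (Lpe (K6.f132679 IH) (Lpe (f132681 IH) (Lpr_ff (f138096 IH) (Lpn (LP (LK LD1_c4 LD2_c36 LD3_c58))))))
theorem f72236 : Led Lsl_bf (LP (LK LD1_c1 LD2_c2 LD3_c6)) = (LP (LK LD1_c1 LD2_c22 LD3_c49)) :=
  Lgr Lrot24 (Lpr_bt (K2.f72223 IH) (Lpn (LP (LK LD1_c1 LD2_c22 LD3_c49))))
theorem f70901 : Led Lsl_gt (LP (LK LD1_c2 LD2_c53 LD3_c31)) = (LP (LK LD1_c5 LD2_c54 LD3_c13)) :=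
  Lre_g IH (LK LD1_c2 LD2_c53 LD3_c31) (LK LD1_c5 LD2_c54 LD3_c13) Lrfl Lrfl
theorem f138121 : Led Lsl_ct (LP (LK LD1_c4 LD2_c42 LD3_c48)) = (LP (LK LD1_c5 LD2_c54 LD3_c13)) :=
  Lgr Lrot10 (Lpr_bt (f138098 IH) (Lpr_gt (K6.f100227 IH) (Lpr_ct (K6.f72270 IH) (Lpe (K6.f99804 IH) (Lpe (K5.f60264 IH) (Lpr_bt (K6.f60400 IH) (Lpr_gt (K2.f70559 IH) (Lpr_bf (f72236 IH) (Lpr_ct (K2.f70863 IH) (Lpr_gt (f70901 IH) (Lpn (LP (LK LD1_c5 LD2_c54 LD3_c13)))))))))))))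
theorem f70902 : Led Lsl_gf (LP (LK LD1_c9 LD2_c8 LD3_c10)) = (LP (LK LD1_c5 LD2_c54 LD3_c13)) :=
  Lgr Lrot76 (Lpe (K2.f70884 IH) (Lpr_ff (K2.f70885 IH) (Lpr_gt (f70901 IH) (Lpn (LP (LK LD1_c5 LD2_c54 LD3_c13))))))
theorem f71211 : Led Lsl_gt (LP (LK LD1_c2 LD2_c53 LD3_c4)) = (LP (LK LD1_c1 LD2_c22 LD3_c38)) :=
  Lre_g IH (LK LD1_c2 LD2_c53 LD3_c4) (LK LD1_c1 LD2_c22 LD3_c38) Lrfl Lrfl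
theorem f71212 : Led Lsl_dt (LP (LK LD1_c5 LD2_c53 LD3_c27)) = (LP (LK LD1_c2 LD2_c53 LD3_c4)) :=
  Lre_d IH (LK LD1_c5 LD2_c53 LD3_c27) (LK LD1_c2 LD2_c53 LD3_c4) Lrfl Lrfl
theorem f138138 : Led Lsl_gf (LP (LK LD1_c4 LD2_c42 LD3_c48)) = (LP (LK LD1_c5 LD2_c53 LD3_c27)) :=
  Lgr Lrot147 (Lpr_ct (f138121 IH) (Lpe (f70902 IH) (Lpr_ct (K2.f70904 IH) (Lpe (K2.f70869 IH) (Lpe (K2.f70858 IH) (Lpr_gf (K6.f71206 IH) (Lpe (K2.f71208 IH) (Lpe (f71211 IH) (Lpe (f71212 IH) (Lpn (LP (LK LD1_c5 LD2_c53 LD3_c27))))))))))))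
theorem f138143 : Led Lsl_gt (LP (LK LD1_c4 LD2_c42 LD3_c52)) = (LP (LK LD1_c5 LD2_c53 LD3_c27)) :=
  Lgr Lrot5 (Lpe (K5.f132870 IH) (Lpr_at (K5.f132612 IH) (Lpr_gf (f138138 IH) (Lpn (LP (LK LD1_c5 LD2_c53 LD3_c27))))))
theorem f75328 : Led Lsl_bt (LP (LK LD1_c1 LD2_c5 LD3_c38)) = (LP (LK LD1_c2 LD2_c17 LD3_c22)) :=
  Lre_b IH (LK LD1_c1 LD2_c5 LD3_c38) (LK LD1_c2 LD2_c17 LD3_c22) Lrfl Lrfl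
theorem f99482 : Led Lsl_gt (LP (LK LD1_c4 LD2_c40 LD3_c24)) = (LP (LK LD1_c5 LD2_c54 LD3_c14)) :=
  Lgr Lrot82 (Lpe (K3.f58772 IH) (Lpr_ct (K3.f58770 IH) (Lpe (K2.f23924 IH) (Lpe (K1.f13658 IH) (Lpr_bt (f75328 IH) (Lpe (K2.f22841 IH) (Lpe (K4.f74557 IH) (Lpr_ct (K4.f99472 IH) (Lpe (K4.f71174 IH) (Lpr_cf (K2.f70865 IH) (Lpn (LP (LK LD1_c5 LD2_c54 LD3_c14)))))))))))))
theorem f102924 : Led Lsl_at (LP (LK LD1_c2 LD2_c20 LD3_c32)) = (LP (LK LD1_c4 LD2_c44 LD3_c48)) :=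
  Lre_a IH (LK LD1_c2 LD2_c20 LD3_c32) (LK LD1_c4 LD2_c44 LD3_c48) Lrfl Lrfl
theorem f102931 : Led Lsl_gt (LP (LK LD1_c5 LD2_c54 LD3_c14)) = (LP (LK LD1_c4 LD2_c44 LD3_c48)) :=
  Lgr Lrot46 (Lpe (f99482 IH) (Lpr_ft (K3.f102919 IH) (Lpr_at (f102924 IH) (Lpn (LP (LK LD1_c4 LD2_c44 LD3_c48))))))
theorem f138154 : Led Lsl_gt (LP (LK LD1_c4 LD2_c45 LD3_c41)) = (LP (LK LD1_c2 LD2_c53 LD3_c31)) :=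
  Lgr Lrot94 (Lpr_cf (K5.f132865 IH) (Lpr_gt (f138143 IH) (Lpr_dt (f71212 IH) (Lpr_gt (f71211 IH) (Lpr_dt (K6.f72358 IH) (Lpe (K6.f72356 IH) (Lpr_df (K6.f104456 IH) (Lpe (f102931 IH) (Lpe (K2.f70864 IH) (Lpn (LP (LK LD1_c2 LD2_c53 LD3_c31))))))))))))
theorem f138159 : Led Lsl_at (LP (LK LD1_c6 LD2_c15 LD3_c59)) = (LP (LK LD1_c5 LD2_c54 LD3_c13)) :=
  Lgr Lrot26 (Lpr_ff (K5.f113772 IH) (Lpr_gt (f138154 IH) (Lpr_gt (f70901 IH) (Lpn (LP (LK LD1_c5 LD2_c54 LD3_c13))))))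
theorem f138127 : Led Lsl_et (LP (LK LD1_c5 LD2_c54 LD3_c13)) = (LP (LK LD1_c11 LD2_c34 LD3_c15)) :=
  Lre_e IH (LK LD1_c5 LD2_c54 LD3_c13) (LK LD1_c11 LD2_c34 LD3_c15) Lrfl Lrfl
theorem f138322 : Led Lsl_af (LP (LK LD1_c12 LD2_c9 LD3_c34)) = (LP (LK LD1_c11 LD2_c34 LD3_c15)) :=
  Lgr Lrot50 (Lpr_et (K5.f102092 IH) (Lpr_at (f138159 IH) (Lpr_et (f138127 IH) (Lpn (LP (LK LD1_c11 LD2_c34 LD3_c15))))))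
theorem f81035 : Led Lsl_ct (LP (LK LD1_c12 LD2_c9 LD3_c34)) = (LP (LK LD1_c6 LD2_c15 LD3_c60)) :=
  Lre_c IH (LK LD1_c12 LD2_c9 LD3_c34) (LK LD1_c6 LD2_c15 LD3_c60) Lrfl Lrfl
theorem f138328 : Led Lsl_ct (LP (LK LD1_c9 LD2_c19 LD3_c44)) = (LP (LK LD1_c11 LD2_c34 LD3_c15)) :=
  Lgr Lrot111 (Lpe (K6.f132664 IH) (Lpe (f81035 IH) (Lpr_af (f138322 IH) (Lpn (LP (LK LD1_c11 LD2_c34 LD3_c15))))))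
theorem f132657 : Led Lsl_ft (LP (LK LD1_c17 LD2_c15 LD3_c36)) = (LP (LK LD1_c9 LD2_c19 LD3_c44)) :=
  Lre_f IH (LK LD1_c17 LD2_c15 LD3_c36) (LK LD1_c9 LD2_c19 LD3_c44) Lrfl Lrfl
theorem f138331 : Led Lsl_ft (LP (LK LD1_c11 LD2_c34 LD3_c15)) = (LP (LK LD1_c20 LD2_c31 LD3_c51)) :=
  Lre_f IH (LK LD1_c11 LD2_c34 LD3_c15) (LK LD1_c20 LD2_c31 LD3_c51) Lrfl Lrfl
theorem f138332 : Led Lsl_cf (LP (LK LD1_c17 LD2_c15 LD3_c36)) = (LP (LK LD1_c20 LD2_c31 LD3_c51)) :=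
  Lgr Lrot108 (Lpr_ft (f132657 IH) (Lpr_ct (f138328 IH) (Lpr_ft (f138331 IH) (Lpn (LP (LK LD1_c20 LD2_c31 LD3_c51))))))
theorem f132740 : Led Lsl_ct (LP (LK LD1_c12 LD2_c9 LD3_c13)) = (LP (LK LD1_c21 LD2_c15 LD3_c24)) :=
  Lre_c IH (LK LD1_c12 LD2_c9 LD3_c13) (LK LD1_c21 LD2_c15 LD3_c24) Lrfl Lrfl
theorem f138336 : Led Lsl_et (LP (LK LD1_c21 LD2_c15 LD3_c24)) = (LP (LK LD1_c20 LD2_c31 LD3_c51)) :=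
  Lgr Lrot158 (Lpe (f132740 IH) (Lpr_ef (K6.f132685 IH) (Lpr_cf (f138332 IH) (Lpn (LP (LK LD1_c20 LD2_c31 LD3_c51))))))
theorem f138338 : Led Lsl_ef (LP (LK LD1_c21 LD2_c15 LD3_c24)) = (LP (LK LD1_c20 LD2_c31 LD3_c51)) :=
  Lgr Lrot88 (Lpr_et (f138336 IH) (Lpn (LP (LK LD1_c20 LD2_c31 LD3_c51))))
theorem f133120 : Led Lsl_ft (LP (LK LD1_c21 LD2_c15 LD3_c24)) = (LP (LK LD1_c12 LD2_c9 LD3_c9)) :=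
  Lre_f IH (LK LD1_c21 LD2_c15 LD3_c24) (LK LD1_c12 LD2_c9 LD3_c9) Lrfl Lrfl
theorem f112755 : Led Lsl_et (LP (LK LD1_c12 LD2_c9 LD3_c9)) = (LP (LK LD1_c6 LD2_c15 LD3_c41)) :=
  Lre_e IH (LK LD1_c12 LD2_c9 LD3_c9) (LK LD1_c6 LD2_c15 LD3_c41) Lrfl Lrfl
theorem f138340 : Led Lsl_ft (LP (LK LD1_c6 LD2_c15 LD3_c41)) = (LP (LK LD1_c5 LD2_c54 LD3_c13)) :=
  Lgr Lrot86 (Lpe (f112755 IH) (Lpe (f133120 IH) (Lpr_ef (f138338 IH) (Lpe (f138331 IH) (Lpe (f138127 IH) (Lpn (LP (LK LD1_c5 LD2_c54 LD3_c13))))))))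
theorem f113721 : Led Lsl_af (LP (LK LD1_c4 LD2_c45 LD3_c1)) = (LP (LK LD1_c2 LD2_c20 LD3_c56)) :=
  Lgr Lrot117 (Lpr_dt (K3.f101919 IH) (Lpr_at (K4.f113713 IH) (Lpr_dt (K3.f78243 IH) (Lpn (LP (LK LD1_c2 LD2_c20 LD3_c56))))))
theorem f113727 : Led Lsl_ft (LP (LK LD1_c4 LD2_c45 LD3_c1)) = (LP (LK LD1_c2 LD2_c21 LD3_c3)) :=
  Lgr Lrot54 (Lpe (K3.f101916 IH) (Lpr_ff (K4.f113723 IH) (Lpe (K3.f77993 IH) (Lpn (LP (LK LD1_c2 LD2_c21 LD3_c3))))))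
theorem f113770 : Led Lsl_af (LP (LK LD1_c4 LD2_c45 LD3_c7)) = (LP (LK LD1_c2 LD2_c21 LD3_c3)) :=
  Lgr Lrot45 (Lpr_ft (K4.f113768 IH) (Lpe (f113721 IH) (Lpr_ft (f113727 IH) (Lpn (LP (LK LD1_c2 LD2_c21 LD3_c3))))))
theorem f78571 : Led Lsl_bt (LP (LK LD1_c4 LD2_c46 LD3_c2)) = (LP (LK LD1_c2 LD2_c21 LD3_c3)) :=
  Lre_b IH (LK LD1_c4 LD2_c46 LD3_c2) (LK LD1_c2 LD2_c21 LD3_c3) Lrfl Lrfl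
theorem f138319 : Led Lsl_at (LP (LK LD1_c9 LD2_c24 LD3_c37)) = (LP (LK LD1_c4 LD2_c46 LD3_c2)) :=
  Lre_a IH (LK LD1_c9 LD2_c24 LD3_c37) (LK LD1_c4 LD2_c46 LD3_c2) Lrfl Lrfl
theorem f138320 : Led Lsl_bf (LP (LK LD1_c9 LD2_c24 LD3_c37)) = (LP (LK LD1_c5 LD2_c54 LD3_c13)) :=
  Lgr Lrot81 (Lpr_at (f138319 IH) (Lpr_bt (f78571 IH) (Lpe (f113770 IH) (Lpr_bt (K6.f102078 IH) (Lpr_at (f138159 IH) (Lpn (LP (LK LD1_c5 LD2_c54 LD3_c13))))))))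
theorem f138342 : Led Lsl_ff (LP (LK LD1_c12 LD2_c9 LD3_c8)) = (LP (LK LD1_c9 LD2_c24 LD3_c37)) :=
  Lgr Lrot25 (Lpr_bt (f112754 IH) (Lpr_ft (f138340 IH) (Lpe (f138320 IH) (Lpn (LP (LK LD1_c9 LD2_c24 LD3_c37))))))
theorem f125740 : Led Lsl_dt (LP (LK LD1_c4 LD2_c46 LD3_c1)) = (LP (LK LD1_c9 LD2_c24 LD3_c37)) :=
  Lre_d IH (LK LD1_c4 LD2_c46 LD3_c1) (LK LD1_c9 LD2_c24 LD3_c37) Lrfl Lrfl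
theorem f138345 : Led Lsl_dt (LP (LK LD1_c12 LD2_c9 LD3_c8)) = (LP (LK LD1_c9 LD2_c22 LD3_c45)) :=
  Lgr Lrot60 (Lpr_ff (f138342 IH) (Lpe (f125740 IH) (Lpe (K5.f125737 IH) (Lpn (LP (LK LD1_c9 LD2_c22 LD3_c45))))))
theorem f125701 : Led Lsl_dt (LP (LK LD1_c4 LD2_c45 LD3_c0)) = (LP (LK LD1_c9 LD2_c22 LD3_c46)) :=
  Lre_d IH (LK LD1_c4 LD2_c45 LD3_c0) (LK LD1_c9 LD2_c22 LD3_c46) Lrfl Lrfl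
theorem f138354 : Led Lsl_af (LP (LK LD1_c12 LD2_c9 LD3_c8)) = (LP (LK LD1_c9 LD2_c22 LD3_c46)) :=
  Lgr Lrot117 (Lpr_dt (f138345 IH) (Lpr_at (K5.f113717 IH) (Lpr_dt (f125701 IH) (Lpn (LP (LK LD1_c9 LD2_c22 LD3_c46))))))
theorem f138348 : Led Lsl_ft (LP (LK LD1_c12 LD2_c9 LD3_c8)) = (LP (LK LD1_c9 LD2_c24 LD3_c37)) :=
  Lgr Lrot48 (Lpr_ff (f138342 IH) (Lpn (LP (LK LD1_c9 LD2_c24 LD3_c37))))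
theorem f138359 : Led Lsl_ft (LP (LK LD1_c4 LD2_c46 LD3_c2)) = (LP (LK LD1_c9 LD2_c22 LD3_c46)) :=
  Lgr Lrot101 (Lpe (f138319 IH) (Lpe (f138348 IH) (Lpr_af (f138354 IH) (Lpn (LP (LK LD1_c9 LD2_c22 LD3_c46))))))
theorem f124438 : Led Lsl_dt (LP (LK LD1_c4 LD2_c46 LD3_c2)) = (LP (LK LD1_c2 LD2_c21 LD3_c2)) :=
  Lre_d IH (LK LD1_c4 LD2_c46 LD3_c2) (LK LD1_c2 LD2_c21 LD3_c2) Lrfl Lrfl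
theorem f103064 : Led Lsl_ct (LP (LK LD1_c2 LD2_c21 LD3_c2)) = (LP (LK LD1_c4 LD2_c45 LD3_c59)) :=
  Lre_c IH (LK LD1_c2 LD2_c21 LD3_c2) (LK LD1_c4 LD2_c45 LD3_c59) Lrfl Lrfl
theorem f124447 : Led Lsl_dt (LP (LK LD1_c4 LD2_c45 LD3_c59)) = (LP (LK LD1_c9 LD2_c24 LD3_c31)) :=
  Lre_d IH (LK LD1_c4 LD2_c45 LD3_c59) (LK LD1_c9 LD2_c24 LD3_c31) Lrfl Lrfl
theorem f157274 : Led Lsl_cf (LP (LK LD1_c12 LD2_c40 LD3_c41)) = (LP (LK LD1_c9 LD2_c24 LD3_c31)) :=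
  Lgr Lrot116 (Lpe (f149831 IH) (Lpr_ct (f148551 IH) (Lpr_dt (f148544 IH) (Lpr_ct (f157270 IH) (Lpr_af (f138354 IH) (Lpe (f138359 IH) (Lpr_dt (f124438 IH) (Lpr_ct (f103064 IH) (Lpr_dt (f124447 IH) (Lpn (LP (LK LD1_c9 LD2_c24 LD3_c31))))))))))))
theorem f157276 : Led Lsl_ct (LP (LK LD1_c12 LD2_c40 LD3_c41)) = (LP (LK LD1_c9 LD2_c24 LD3_c31)) :=
  Lgr Lrot59 (Lpr_cf (f157274 IH) (Lpn (LP (LK LD1_c9 LD2_c24 LD3_c31))))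
theorem f131600 : Led Lsl_bt (LP (LK LD1_c9 LD2_c24 LD3_c31)) = (LP (LK LD1_c4 LD2_c45 LD3_c60)) :=
  Lre_b IH (LK LD1_c9 LD2_c24 LD3_c31) (LK LD1_c4 LD2_c45 LD3_c60) Lrfl Lrfl
theorem f131612 : Led Lsl_cf (LP (LK LD1_c6 LD2_c28 LD3_c22)) = (LP (LK LD1_c4 LD2_c45 LD3_c60)) :=
  Lgr Lrot11 (Lpr_ct (K5.f131598 IH) (Lpn (LP (LK LD1_c4 LD2_c45 LD3_c60))))
theorem f157278 : Led Lsl_cf (LP (LK LD1_c6 LD2_c37 LD3_c26)) = (LP (LK LD1_c12 LD2_c27 LD3_c54)) :=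
  Lgr Lrot97 (Lpr_bt (f149830 IH) (Lpr_ct (f157276 IH) (Lpr_bt (f131600 IH) (Lpe (f131612 IH) (Lpr_bt (K7.f131601 IH) (Lpn (LP (LK LD1_c12 LD2_c27 LD3_c54))))))))
theorem f118775 : Led Lsl_ct (LP (LK LD1_c12 LD2_c38 LD3_c39)) = (LP (LK LD1_c11 LD2_c36 LD3_c37)) :=
  Lgr Lrot40 (Lpr_ff (K6.f79430 IH) (Lpe (K4.f79370 IH) (Lpr_ff (K6.f118771 IH) (Lpn (LP (LK LD1_c11 LD2_c36 LD3_c37))))))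
theorem f118789 : Led Lsl_bf (LP (LK LD1_c3 LD2_c16 LD3_c43)) = (LP (LK LD1_c6 LD2_c35 LD3_c14)) :=
  Lgr Lrot90 (Lpr_ct (K4.f79434 IH) (Lpr_bt (K4.f79428 IH) (Lpr_ct (f118775 IH) (Lpe (K7.f118764 IH) (Lpr_ct (K6.f118663 IH) (Lpn (LP (LK LD1_c6 LD2_c35 LD3_c14))))))))
theorem f71865 : Led Lsl_dt (LP (LK LD1_c2 LD2_c54 LD3_c28)) = (LP (LK LD1_c5 LD2_c56 LD3_c15)) :=
  Lre_d IH (LK LD1_c2 LD2_c54 LD3_c28) (LK LD1_c5 LD2_c56 LD3_c15) Lrfl Lrfl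
theorem f20969 : Led Lsl_bt (LP (LK LD1_c0 LD2_c8 LD3_c7)) = (LP (LK LD1_c0 LD2_c18 LD3_c3)) :=
  Lre_b IH (LK LD1_c0 LD2_c8 LD3_c7) (LK LD1_c0 LD2_c18 LD3_c3) Lrfl Lrfl
theorem f26866 : Led Lsl_dt (LP (LK LD1_c4 LD2_c38 LD3_c32)) = (LP (LK LD1_c2 LD2_c16 LD3_c18)) :=
  Lre_d IH (LK LD1_c4 LD2_c38 LD3_c32) (LK LD1_c2 LD2_c16 LD3_c18) Lrfl Lrfl
theorem f113992 : Led Lsl_gt (LP (LK LD1_c3 LD2_c16 LD3_c4)) = (LP (LK LD1_c4 LD2_c38 LD3_c32)) :=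
  Lgr Lrot190 (Lpe (K4.f112263 IH) (Lpe (K3.f60975 IH) (Lpr_df (K4.f113970 IH) (Lpe (K4.f113990 IH) (Lpe (f20969 IH) (Lpe (K0.f11027 IH) (Lpe (K0.f20078 IH) (Lpe (K0.f181 IH) (Lpr_bf (K1.f26742 IH) (Lpe (K0.f20610 IH) (Lpe (K0.f20609 IH) (Lpr_gf (K0.f26021 IH) (Lpe (K0.f26592 IH) (Lpe (K2.f21207 IH) (Lpe (K0.f21208 IH) (Lpe (K0.f21209 IH) (Lpe (K6.f26360 IH) (Lpe (K6.f26361 IH) (Lpe (f26866 IH) (Lpn (LP (LK LD1_c4 LD2_c38 LD3_c32))))))))))))))))))))))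
theorem f26864 : Led Lsl_ct (LP (LK LD1_c4 LD2_c38 LD3_c32)) = (LP (LK LD1_c9 LD2_c12 LD3_c56)) :=
  Lre_c IH (LK LD1_c4 LD2_c38 LD3_c32) (LK LD1_c9 LD2_c12 LD3_c56) Lrfl Lrfl
theorem f141779 : Led Lsl_gf (LP (LK LD1_c9 LD2_c11 LD3_c49)) = (LP (LK LD1_c9 LD2_c12 LD3_c56)) :=
  Lgr Lrot104 (Lpr_ct (K4.f26388 IH) (Lpr_df (K7.f141766 IH) (Lpe (K7.f59560 IH) (Lpe (K7.f59559 IH) (Lpe (K2.f23921 IH) (Lpe (K4.f23923 IH) (Lpr_df (K4.f112264 IH) (Lpr_gt (f113992 IH) (Lpr_ct (f26864 IH) (Lpn (LP (LK LD1_c9 LD2_c12 LD3_c56))))))))))))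
theorem f36522 : Led Lsl_ct (LP (LK LD1_c9 LD2_c12 LD3_c56)) = (LP (LK LD1_c4 LD2_c38 LD3_c32)) :=
  Lre_c IH (LK LD1_c9 LD2_c12 LD3_c56) (LK LD1_c4 LD2_c38 LD3_c32) Lrfl Lrfl
theorem f119899 : Led Lsl_df (LP (LK LD1_c2 LD2_c54 LD3_c39)) = (LP (LK LD1_c3 LD2_c16 LD3_c43)) :=
  Lgr Lrot38 (Lpr_dt (K4.f119891 IH) (Lpn (LP (LK LD1_c3 LD2_c16 LD3_c43))))
theorem f149576 : Led Lsl_gt (LP (LK LD1_c4 LD2_c38 LD3_c32)) = (LP (LK LD1_c3 LD2_c16 LD3_c43)) :=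
  Lgr Lrot94 (Lpe (f36522 IH) (Lpe (f141779 IH) (Lpe (K6.f112873 IH) (Lpr_gt (K4.f69448 IH) (Lpr_dt (f71865 IH) (Lpr_cf (K7.f149547 IH) (Lpe (K7.f149569 IH) (Lpe (K4.f83029 IH) (Lpr_df (f119899 IH) (Lpn (LP (LK LD1_c3 LD2_c16 LD3_c43))))))))))))
theorem f139165 : Led Lsl_df (LP (LK LD1_c4 LD2_c58 LD3_c18)) = (LP (LK LD1_c9 LD2_c26 LD3_c3)) :=
  Lgr Lrot38 (Lpr_dt (K6.f139159 IH) (Lpn (LP (LK LD1_c9 LD2_c26 LD3_c3))))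
theorem f139177 : Led Lsl_ct (LP (LK LD1_c4 LD2_c58 LD3_c18)) = (LP (LK LD1_c2 LD2_c26 LD3_c61)) :=
  Lre_c IH (LK LD1_c4 LD2_c58 LD3_c18) (LK LD1_c2 LD2_c26 LD3_c61) Lrfl Lrfl
theorem f100588 : Led Lsl_at (LP (LK LD1_c1 LD2_c10 LD3_c46)) = (LP (LK LD1_c0 LD2_c32 LD3_c55)) :=
  Lre_a IH (LK LD1_c1 LD2_c10 LD3_c46) (LK LD1_c0 LD2_c32 LD3_c55) Lrfl Lrfl
theorem f101596 : Led Lsl_ft (LP (LK LD1_c0 LD2_c32 LD3_c53)) = (LP (LK LD1_c1 LD2_c10 LD3_c46)) :=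
  Lre_f IH (LK LD1_c0 LD2_c32 LD3_c53) (LK LD1_c1 LD2_c10 LD3_c46) Lrfl Lrfl
theorem f139355 : Led Lsl_gt (LP (LK LD1_c0 LD2_c32 LD3_c53)) = (LP (LK LD1_c1 LD2_c10 LD3_c47)) :=
  Lgr Lrot5 (Lpr_ft (f101596 IH) (Lpr_at (f100588 IH) (Lpr_gf (K6.f139339 IH) (Lpn (LP (LK LD1_c1 LD2_c10 LD3_c47))))))
theorem f150222 : Led Lsl_gt (LP (LK LD1_c4 LD2_c59 LD3_c13)) = (LP (LK LD1_c5 LD2_c57 LD3_c51)) :=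
  Lgr Lrot94 (Lpe (K4.f26268 IH) (Lpr_gt (K0.f26396 IH) (Lpr_dt (K1.f26397 IH) (Lpr_gt (f139355 IH) (Lpr_dt (K6.f139157 IH) (Lpe (f139177 IH) (Lpr_df (f139165 IH) (Lpr_gf (K7.f150218 IH) (Lpe (K7.f72589 IH) (Lpn (LP (LK LD1_c5 LD2_c57 LD3_c51))))))))))))
theorem f26377 : Led Lsl_bt (LP (LK LD1_c0 LD2_c29 LD3_c44)) = (LP (LK LD1_c1 LD2_c5 LD3_c4)) :=
  Lre_b IH (LK LD1_c0 LD2_c29 LD3_c44) (LK LD1_c1 LD2_c5 LD3_c4) Lrfl Lrfl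
theorem f150446 : Led Lsl_gf (LP (LK LD1_c1 LD2_c5 LD3_c4)) = (LP (LK LD1_c2 LD2_c14 LD3_c52)) :=
  Lgr Lrot124 (Lpe (f26377 IH) (Lpr_ct (K0.f26357 IH) (Lpr_gt (K0.f26253 IH) (Lpe (K0.f20278 IH) (Lpr_bt (K0.f23454 IH) (Lpr_gt (K0.f23455 IH) (Lpr_ct (K4.f26268 IH) (Lpr_gt (f150222 IH) (Lpe (K7.f72588 IH) (Lpe (K7.f101614 IH) (Lpn (LP (LK LD1_c2 LD2_c14 LD3_c52)))))))))))))
theorem f37063 : Led Lsl_ct (LP (LK LD1_c4 LD2_c35 LD3_c19)) = (LP (LK LD1_c2 LD2_c14 LD3_c52)) :=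
  Lre_c IH (LK LD1_c4 LD2_c35 LD3_c19) (LK LD1_c2 LD2_c14 LD3_c52) Lrfl Lrfl
theorem f150449 : Led Lsl_bt (LP (LK LD1_c2 LD2_c16 LD3_c18)) = (LP (LK LD1_c1 LD2_c6 LD3_c46)) :=
  Lgr Lrot130 (Lpr_ct (K6.f26361 IH) (Lpr_gf (f150446 IH) (Lpe (f37063 IH) (Lpr_bt (K7.f101620 IH) (Lpe (K7.f150210 IH) (Lpe (K6.f118704 IH) (Lpe (K7.f125509 IH) (Lpe (K7.f125521 IH) (Lpr_cf (K5.f124538 IH) (Lpe (K5.f26257 IH) (Lpn (LP (LK LD1_c1 LD2_c6 LD3_c46)))))))))))))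
theorem f150455 : Led Lsl_bf (LP (LK LD1_c4 LD2_c38 LD3_c32)) = (LP (LK LD1_c2 LD2_c19 LD3_c18)) :=
  Lgr Lrot93 (Lpr_dt (f26866 IH) (Lpr_bt (f150449 IH) (Lpr_dt (K7.f124082 IH) (Lpn (LP (LK LD1_c2 LD2_c19 LD3_c18))))))
theorem f128401 : Led Lsl_dt (LP (LK LD1_c0 LD2_c30 LD3_c31)) = (LP (LK LD1_c0 LD2_c42 LD3_c55)) :=
  Lgr Lrot6 (Lpr_gt (K3.f61637 IH) (Lpe (K2.f82388 IH) (Lpr_gt (K5.f16666 IH) (Lpr_ct (K5.f82399 IH) (Lpe (K5.f82402 IH) (Lpr_cf (K5.f128371 IH) (Lpe (K5.f82364 IH) (Lpe (K5.f26145 IH) (Lpe (K4.f26086 IH) (Lpn (LP (LK LD1_c0 LD2_c42 LD3_c55))))))))))))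
theorem f82334 : Led Lsl_dt (LP (LK LD1_c3 LD2_c12 LD3_c18)) = (LP (LK LD1_c1 LD2_c32 LD3_c38)) :=
  Lre_d IH (LK LD1_c3 LD2_c12 LD3_c18) (LK LD1_c1 LD2_c32 LD3_c38) Lrfl Lrfl
theorem f120184 : Led Lsl_gt (LP (LK LD1_c2 LD2_c19 LD3_c11)) = (LP (LK LD1_c3 LD2_c15 LD3_c57)) :=
  Lgr Lrot46 (Lpr_gf (K4.f120182 IH) (Lpe (K6.f118749 IH) (Lpr_at (K5.f118734 IH) (Lpn (LP (LK LD1_c3 LD2_c15 LD3_c57))))))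
theorem f155803 : Led Lsl_gf (LP (LK LD1_c3 LD2_c12 LD3_c18)) = (LP (LK LD1_c6 LD2_c28 LD3_c22)) :=
  Lgr Lrot143 (Lpr_dt (f82334 IH) (Lpe (K4.f82333 IH) (Lpe (f128401 IH) (Lpr_gf (K7.f155505 IH) (Lpe (K7.f104685 IH) (Lpe (K7.f152484 IH) (Lpe (K4.f120119 IH) (Lpr_gt (f120184 IH) (Lpe (K5.f131617 IH) (Lpn (LP (LK LD1_c6 LD2_c28 LD3_c22))))))))))))
theorem f82368 : Led Lsl_dt (LP (LK LD1_c1 LD2_c32 LD3_c40)) = (LP (LK LD1_c3 LD2_c12 LD3_c25)) :=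
  Lre_d IH (LK LD1_c1 LD2_c32 LD3_c40) (LK LD1_c3 LD2_c12 LD3_c25) Lrfl Lrfl
theorem f104687 : Led Lsl_dt (LP (LK LD1_c3 LD2_c7 LD3_c18)) = (LP (LK LD1_c1 LD2_c29 LD3_c53)) :=
  Lre_d IH (LK LD1_c3 LD2_c7 LD3_c18) (LK LD1_c1 LD2_c29 LD3_c53) Lrfl Lrfl
theorem f155507 : Led Lsl_gt (LP (LK LD1_c3 LD2_c12 LD3_c25)) = (LP (LK LD1_c3 LD2_c7 LD3_c18)) :=
  Lgr Lrot49 (Lpe (f82368 IH) (Lpe (K5.f82364 IH) (Lpe (K5.f26145 IH) (Lpr_gt (K7.f62876 IH) (Lpr_dt (K5.f113064 IH) (Lpr_gt (K7.f155501 IH) (Lpr_dt (K7.f104714 IH) (Lpe (K7.f104686 IH) (Lpe (f104687 IH) (Lpn (LP (LK LD1_c3 LD2_c7 LD3_c18))))))))))))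
theorem f82367 : Led Lsl_dt (LP (LK LD1_c3 LD2_c12 LD3_c25)) = (LP (LK LD1_c1 LD2_c32 LD3_c40)) :=
  Lre_d IH (LK LD1_c3 LD2_c12 LD3_c25) (LK LD1_c1 LD2_c32 LD3_c40) Lrfl Lrfl
theorem f82335 : Led Lsl_dt (LP (LK LD1_c1 LD2_c32 LD3_c38)) = (LP (LK LD1_c3 LD2_c12 LD3_c18)) :=
  Lre_d IH (LK LD1_c1 LD2_c32 LD3_c38) (LK LD1_c3 LD2_c12 LD3_c18) Lrfl Lrfl
theorem f69151 : Led Lsl_gt (LP (LK LD1_c1 LD2_c31 LD3_c50)) = (LP (LK LD1_c3 LD2_c10 LD3_c49)) :=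
  Lre_g IH (LK LD1_c1 LD2_c31 LD3_c50) (LK LD1_c3 LD2_c10 LD3_c49) Lrfl Lrfl
theorem f155514 : Led Lsl_cf (LP (LK LD1_c3 LD2_c12 LD3_c18)) = (LP (LK LD1_c3 LD2_c10 LD3_c49)) :=
  Lgr Lrot99 (Lpe (f82335 IH) (Lpe (K4.f82333 IH) (Lpe (K5.f82331 IH) (Lpe (K2.f23576 IH) (Lpr_gf (K5.f82365 IH) (Lpe (f82367 IH) (Lpr_gt (f155507 IH) (Lpe (K7.f152451 IH) (Lpr_gt (f69151 IH) (Lpn (LP (LK LD1_c3 LD2_c10 LD3_c49))))))))))))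
theorem f155521 : Led Lsl_ct (LP (LK LD1_c3 LD2_c12 LD3_c18)) = (LP (LK LD1_c3 LD2_c10 LD3_c49)) :=
  Lgr Lrot59 (Lpr_cf (f155514 IH) (Lpn (LP (LK LD1_c3 LD2_c10 LD3_c49))))
theorem f157295 : Led Lsl_gf (LP (LK LD1_c4 LD2_c41 LD3_c41)) = (LP (LK LD1_c3 LD2_c10 LD3_c49)) :=
  Lgr Lrot129 (Lpe (K7.f152459 IH) (Lpe (f150455 IH) (Lpr_gt (f149576 IH) (Lpr_bf (f118789 IH) (Lpr_ct (K7.f118664 IH) (Lpe (K7.f118785 IH) (Lpr_cf (f157278 IH) (Lpr_bt (K7.f131610 IH) (Lpe (f155803 IH) (Lpr_ct (f155521 IH) (Lpn (LP (LK LD1_c3 LD2_c10 LD3_c49)))))))))))))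
theorem f24199 : Led Lsl_bt (LP (LK LD1_c1 LD2_c33 LD3_c58)) = (LP (LK LD1_c3 LD2_c14 LD3_c49)) :=
  Lre_b IH (LK LD1_c1 LD2_c33 LD3_c58) (LK LD1_c3 LD2_c14 LD3_c49) Lrfl Lrfl
theorem f156462 : Led Lsl_gt (LP (LK LD1_c3 LD2_c14 LD3_c49)) = (LP (LK LD1_c6 LD2_c33 LD3_c7)) :=
  Lre_g IH (LK LD1_c3 LD2_c14 LD3_c49) (LK LD1_c6 LD2_c33 LD3_c7) Lrfl Lrfl
theorem f69153 : Led Lsl_bt (LP (LK LD1_c6 LD2_c25 LD3_c61)) = (LP (LK LD1_c3 LD2_c10 LD3_c49)) :=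
  Lre_b IH (LK LD1_c6 LD2_c25 LD3_c61) (LK LD1_c3 LD2_c10 LD3_c49) Lrfl Lrfl
theorem f137486 : Led Lsl_ct (LP (LK LD1_c12 LD2_c24 LD3_c12)) = (LP (LK LD1_c6 LD2_c25 LD3_c61)) :=
  Lre_c IH (LK LD1_c12 LD2_c24 LD3_c12) (LK LD1_c6 LD2_c25 LD3_c61) Lrfl Lrfl
theorem f128832 : Led Lsl_bt (LP (LK LD1_c6 LD2_c28 LD3_c40)) = (LP (LK LD1_c3 LD2_c12 LD3_c18)) :=
  Lre_b IH (LK LD1_c6 LD2_c28 LD3_c40) (LK LD1_c3 LD2_c12 LD3_c18) Lrfl Lrfl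
theorem f155526 : Led Lsl_bt (LP (LK LD1_c3 LD2_c10 LD3_c49)) = (LP (LK LD1_c6 LD2_c25 LD3_c61)) :=
  Lre_b IH (LK LD1_c3 LD2_c10 LD3_c49) (LK LD1_c6 LD2_c25 LD3_c61) Lrfl Lrfl
theorem f69154 : Led Lsl_ct (LP (LK LD1_c6 LD2_c25 LD3_c61)) = (LP (LK LD1_c12 LD2_c24 LD3_c12)) :=
  Lre_c IH (LK LD1_c6 LD2_c25 LD3_c61) (LK LD1_c12 LD2_c24 LD3_c12) Lrfl Lrfl
theorem f155537 : Led Lsl_bf (LP (LK LD1_c7 LD2_c1 LD3_c22)) = (LP (LK LD1_c12 LD2_c24 LD3_c12)) :=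
  Lgr Lrot90 (Lpe (K7.f148776 IH) (Lpr_bt (f128832 IH) (Lpr_ct (f155521 IH) (Lpr_bt (f155526 IH) (Lpr_ct (f69154 IH) (Lpn (LP (LK LD1_c12 LD2_c24 LD3_c12))))))))
theorem f151406 : Led Lsl_df (LP (LK LD1_c3 LD2_c47 LD3_c23)) = (LP (LK LD1_c7 LD2_c1 LD3_c22)) :=
  Lgr Lrot38 (Lpr_dt (K7.f151402 IH) (Lpn (LP (LK LD1_c7 LD2_c1 LD3_c22))))
theorem f155541 : Led Lsl_dt (LP (LK LD1_c7 LD2_c35 LD3_c36)) = (LP (LK LD1_c12 LD2_c24 LD3_c12)) :=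
  Lgr Lrot79 (Lpe (K7.f114436 IH) (Lpr_df (f151406 IH) (Lpr_bf (f155537 IH) (Lpn (LP (LK LD1_c12 LD2_c24 LD3_c12))))))
theorem f157297 : Led Lsl_dt (LP (LK LD1_c6 LD2_c33 LD3_c7)) = (LP (LK LD1_c3 LD2_c47 LD3_c30)) :=
  Lgr Lrot182 (Lpe (f156462 IH) (Lpe (f24199 IH) (Lpe (K7.f24302 IH) (Lpe (K7.f24301 IH) (Lpr_gf (K7.f156454 IH) (Lpe (K2.f23468 IH) (Lpe (K2.f23472 IH) (Lpr_df (K5.f124508 IH) (Lpr_gf (K7.f152489 IH) (Lpe (K7.f152384 IH) (Lpe (K7.f104689 IH) (Lpe (K7.f104713 IH) (Lpr_gf (f157295 IH) (Lpe (f69153 IH) (Lpe (f137486 IH) (Lpe (f155541 IH) (Lpr_gf (K6.f145031 IH) (Lpe (K6.f64441 IH) (Lpe (K6.f16765 IH) (Lpn (LP (LK LD1_c3 LD2_c47 LD3_c30))))))))))))))))))))))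
theorem f24200 : Led Lsl_dt (LP (LK LD1_c6 LD2_c33 LD3_c9)) = (LP (LK LD1_c3 LD2_c14 LD3_c49)) :=
  Lre_d IH (LK LD1_c6 LD2_c33 LD3_c9) (LK LD1_c3 LD2_c14 LD3_c49) Lrfl Lrfl
theorem f16764 : Led Lsl_dt (LP (LK LD1_c3 LD2_c47 LD3_c31)) = (LP (LK LD1_c1 LD2_c50 LD3_c51)) :=
  Lre_d IH (LK LD1_c3 LD2_c47 LD3_c31) (LK LD1_c1 LD2_c50 LD3_c51) Lrfl Lrfl
theorem f129396 : Led Lsl_ft (LP (LK LD1_c13 LD2_c57 LD3_c13)) = (LP (LK LD1_c14 LD2_c6 LD3_c48)) :=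
  Lgr Lrot48 (Lpr_ff (K5.f129392 IH) (Lpn (LP (LK LD1_c14 LD2_c6 LD3_c48))))
theorem f127888 : Led Lsl_dt (LP (LK LD1_c6 LD2_c55 LD3_c12)) = (LP (LK LD1_c13 LD2_c8 LD3_c49)) :=
  Lre_d IH (LK LD1_c6 LD2_c55 LD3_c12) (LK LD1_c13 LD2_c8 LD3_c49) Lrfl Lrfl
theorem f127973 : Led Lsl_ff (LP (LK LD1_c13 LD2_c55 LD3_c32)) = (LP (LK LD1_c13 LD2_c8 LD3_c49)) :=
  Lgr Lrot19 (Lpr_dt (K5.f123527 IH) (Lpr_ft (K5.f127969 IH) (Lpr_dt (f127888 IH) (Lpn (LP (LK LD1_c13 LD2_c8 LD3_c49))))))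
theorem f129398 : Led Lsl_cf (LP (LK LD1_c13 LD2_c8 LD3_c49)) = (LP (LK LD1_c14 LD2_c6 LD3_c48)) :=
  Lgr Lrot108 (Lpe (f127973 IH) (Lpe (K5.f129388 IH) (Lpr_ft (f129396 IH) (Lpn (LP (LK LD1_c14 LD2_c6 LD3_c48))))))
theorem f129372 : Led Lsl_ct (LP (LK LD1_c3 LD2_c54 LD3_c60)) = (LP (LK LD1_c3 LD2_c48 LD3_c27)) :=
  Lgr Lrot59 (Lpr_cf (K5.f129370 IH) (Lpn (LP (LK LD1_c3 LD2_c48 LD3_c27))))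
theorem f129351 : Led Lsl_gf (LP (LK LD1_c3 LD2_c54 LD3_c60)) = (LP (LK LD1_c3 LD2_c54 LD3_c2)) :=
  Lgr Lrot76 (Lpe (K5.f121124 IH) (Lpr_ff (K5.f129341 IH) (Lpr_gt (K6.f95859 IH) (Lpn (LP (LK LD1_c3 LD2_c54 LD3_c2))))))
theorem f123904 : Led Lsl_ft (LP (LK LD1_c13 LD2_c57 LD3_c8)) = (LP (LK LD1_c14 LD2_c6 LD3_c41)) :=
  Lgr Lrot48 (Lpr_ff (K5.f123894 IH) (Lpn (LP (LK LD1_c14 LD2_c6 LD3_c41))))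
theorem f123908 : Led Lsl_at (LP (LK LD1_c14 LD2_c6 LD3_c41)) = (LP (LK LD1_c7 LD2_c28 LD3_c37)) :=
  Lre_a IH (LK LD1_c14 LD2_c6 LD3_c41) (LK LD1_c7 LD2_c28 LD3_c37) Lrfl Lrfl
theorem f123910 : Led Lsl_gt (LP (LK LD1_c13 LD2_c57 LD3_c8)) = (LP (LK LD1_c14 LD2_c6 LD3_c48)) :=
  Lgr Lrot5 (Lpr_ft (f123904 IH) (Lpr_at (f123908 IH) (Lpe (K5.f123909 IH) (Lpn (LP (LK LD1_c14 LD2_c6 LD3_c48))))))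
theorem f116460 : Led Lsl_ct (LP (LK LD1_c7 LD2_c22 LD3_c46)) = (LP (LK LD1_c13 LD2_c57 LD3_c8)) :=
  Lre_c IH (LK LD1_c7 LD2_c22 LD3_c46) (LK LD1_c13 LD2_c57 LD3_c8) Lrfl Lrfl
theorem f116506 : Led Lsl_dt (LP (LK LD1_c3 LD2_c41 LD3_c13)) = (LP (LK LD1_c1 LD2_c47 LD3_c32)) :=
  Lre_d IH (LK LD1_c3 LD2_c41 LD3_c13) (LK LD1_c1 LD2_c47 LD3_c32) Lrfl Lrfl
theorem f123664 : Led Lsl_ff (LP (LK LD1_c3 LD2_c41 LD3_c13)) = (LP (LK LD1_c3 LD2_c43 LD3_c57)) :=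
  Lgr Lrot19 (Lpr_dt (f116506 IH) (Lpr_ft (K4.f123654 IH) (Lpr_dt (K5.f123608 IH) (Lpn (LP (LK LD1_c3 LD2_c43 LD3_c57))))))
theorem f123892 : Led Lsl_at (LP (LK LD1_c3 LD2_c41 LD3_c13)) = (LP (LK LD1_c7 LD2_c22 LD3_c46)) :=
  Lre_a IH (LK LD1_c3 LD2_c41 LD3_c13) (LK LD1_c7 LD2_c22 LD3_c46) Lrfl Lrfl
theorem f123607 : Led Lsl_gt (LP (LK LD1_c3 LD2_c43 LD3_c57)) = (LP (LK LD1_c7 LD2_c28 LD3_c35)) :=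
  Lre_g IH (LK LD1_c3 LD2_c43 LD3_c57) (LK LD1_c7 LD2_c28 LD3_c35) Lrfl Lrfl
theorem f124008 : Led Lsl_gf (LP (LK LD1_c7 LD2_c22 LD3_c46)) = (LP (LK LD1_c7 LD2_c28 LD3_c35)) :=
  Lgr Lrot76 (Lpe (f123892 IH) (Lpr_ff (f123664 IH) (Lpr_gt (f123607 IH) (Lpn (LP (LK LD1_c7 LD2_c28 LD3_c35))))))
theorem f129401 : Led Lsl_dt (LP (LK LD1_c3 LD2_c54 LD3_c2)) = (LP (LK LD1_c7 LD2_c28 LD3_c35)) :=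
  Lgr Lrot6 (Lpe (f129351 IH) (Lpr_ct (f129372 IH) (Lpr_gt (K5.f127870 IH) (Lpr_ct (K6.f114455 IH) (Lpe (K5.f127887 IH) (Lpr_cf (f129398 IH) (Lpe (f123910 IH) (Lpe (f116460 IH) (Lpr_gf (f124008 IH) (Lpn (LP (LK LD1_c7 LD2_c28 LD3_c35))))))))))))
theorem f96140 : Led Lsl_dt (LP (LK LD1_c1 LD2_c54 LD3_c30)) = (LP (LK LD1_c3 LD2_c55 LD3_c46)) :=
  Lre_d IH (LK LD1_c1 LD2_c54 LD3_c30) (LK LD1_c3 LD2_c55 LD3_c46) Lrfl Lrfl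
theorem f129417 : Led Lsl_gt (LP (LK LD1_c3 LD2_c55 LD3_c46)) = (LP (LK LD1_c6 LD2_c53 LD3_c57)) :=
  Lgr Lrot49 (Lpe (f96140 IH) (Lpr_gf (K4.f96138 IH) (Lpe (K4.f96125 IH) (Lpr_gt (K6.f95859 IH) (Lpr_dt (f129401 IH) (Lpe (f124008 IH) (Lpr_dt (K5.f116454 IH) (Lpr_cf (K4.f116452 IH) (Lpe (K4.f96316 IH) (Lpn (LP (LK LD1_c6 LD2_c53 LD3_c57))))))))))))
theorem f9803 : Led Lsl_ct (LP (LK LD1_c6 LD2_c53 LD3_c57)) = (LP (LK LD1_c13 LD2_c6 LD3_c35)) :=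
  Lre_c IH (LK LD1_c6 LD2_c53 LD3_c57) (LK LD1_c13 LD2_c6 LD3_c35) Lrfl Lrfl
theorem f111383 : Led Lsl_ft (LP (LK LD1_c13 LD2_c6 LD3_c35)) = (LP (LK LD1_c13 LD2_c9 LD3_c1)) :=
  Lgr Lrot4 (Lpe (f9803 IH) (Lpr_ff (K4.f111379 IH) (Lpe (K4.f111359 IH) (Lpn (LP (LK LD1_c13 LD2_c9 LD3_c1))))))
theorem f111442 : Led Lsl_gf (LP (LK LD1_c14 LD2_c12 LD3_c51)) = (LP (LK LD1_c13 LD2_c6 LD3_c35)) :=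
  Lgr Lrot47 (Lpr_gt (K5.f93624 IH) (Lpr_af (K4.f111436 IH) (Lpe (f111383 IH) (Lpn (LP (LK LD1_c13 LD2_c6 LD3_c35))))))
theorem f129424 : Led Lsl_bt (LP (LK LD1_c7 LD2_c35 LD3_c53)) = (LP (LK LD1_c3 LD2_c47 LD3_c31)) :=
  Lre_b IH (LK LD1_c7 LD2_c35 LD3_c53) (LK LD1_c3 LD2_c47 LD3_c31) Lrfl Lrfl
theorem f129425 : Led Lsl_gf (LP (LK LD1_c6 LD2_c51 LD3_c32)) = (LP (LK LD1_c3 LD2_c47 LD3_c31)) :=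
  Lgr Lrot124 (Lpe (K7.f19126 IH) (Lpe (K2.f66670 IH) (Lpe (K5.f97714 IH) (Lpe (K5.f90257 IH) (Lpr_bt (K5.f97721 IH) (Lpr_gt (f129417 IH) (Lpr_ct (f9803 IH) (Lpe (f111442 IH) (Lpe (K5.f126492 IH) (Lpr_bt (f129424 IH) (Lpn (LP (LK LD1_c3 LD2_c47 LD3_c31)))))))))))))
theorem f63410 : Led Lsl_af (LP (LK LD1_c6 LD2_c51 LD3_c32)) = (LP (LK LD1_c3 LD2_c50 LD3_c13)) :=
  Lgr Lrot0 (Lpr_at (K7.f63406 IH) (Lpn (LP (LK LD1_c3 LD2_c50 LD3_c13))))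
theorem f63196 : Led Lsl_bt (LP (LK LD1_c1 LD2_c41 LD3_c16)) = (LP (LK LD1_c3 LD2_c29 LD3_c3)) :=
  Lre_b IH (LK LD1_c1 LD2_c41 LD3_c16) (LK LD1_c3 LD2_c29 LD3_c3) Lrfl Lrfl
theorem f63197 : Led Lsl_ft (LP (LK LD1_c3 LD2_c29 LD3_c3)) = (LP (LK LD1_c3 LD2_c50 LD3_c13)) :=
  Lgr Lrot75 (Lpe (f63196 IH) (Lpr_ff (K1.f63136 IH) (Lpe (K7.f63111 IH) (Lpn (LP (LK LD1_c3 LD2_c50 LD3_c13))))))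
theorem f129435 : Led Lsl_gt (LP (LK LD1_c3 LD2_c29 LD3_c3)) = (LP (LK LD1_c3 LD2_c47 LD3_c31)) :=
  Lgr Lrot5 (Lpr_ft (f63197 IH) (Lpe (f63410 IH) (Lpr_gf (f129425 IH) (Lpn (LP (LK LD1_c3 LD2_c47 LD3_c31))))))
theorem f18631 : Led Lsl_dt (LP (LK LD1_c1 LD2_c41 LD3_c15)) = (LP (LK LD1_c3 LD2_c29 LD3_c3)) :=
  Lre_d IH (LK LD1_c1 LD2_c41 LD3_c15) (LK LD1_c3 LD2_c29 LD3_c3) Lrfl Lrfl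
theorem f157308 : Led Lsl_gf (LP (LK LD1_c6 LD2_c33 LD3_c9)) = (LP (LK LD1_c6 LD2_c59 LD3_c46)) :=
  Lgr Lrot144 (Lpr_dt (f24200 IH) (Lpr_gt (f156462 IH) (Lpr_dt (f157297 IH) (Lpe (K6.f16763 IH) (Lpe (f16764 IH) (Lpe (f129435 IH) (Lpe (f18631 IH) (Lpe (K2.f18647 IH) (Lpe (K2.f18651 IH) (Lpn (LP (LK LD1_c6 LD2_c59 LD3_c46))))))))))))
theorem f18650 : Led Lsl_ct (LP (LK LD1_c3 LD2_c29 LD3_c1)) = (LP (LK LD1_c6 LD2_c59 LD3_c46)) :=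
  Lre_c IH (LK LD1_c3 LD2_c29 LD3_c1) (LK LD1_c6 LD2_c59 LD3_c46) Lrfl Lrfl
theorem f95238 : Led Lsl_bt (LP (LK LD1_c6 LD2_c53 LD3_c14)) = (LP (LK LD1_c3 LD2_c25 LD3_c40)) :=
  Lre_b IH (LK LD1_c6 LD2_c53 LD3_c14) (LK LD1_c3 LD2_c25 LD3_c40) Lrfl Lrfl
theorem f157319 : Led Lsl_cf (LP (LK LD1_c6 LD2_c33 LD3_c9)) = (LP (LK LD1_c6 LD2_c53 LD3_c14)) :=
  Lgr Lrot163 (Lpr_gf (f157308 IH) (Lpe (f18650 IH) (Lpr_gf (K2.f18648 IH) (Lpe (K2.f15852 IH) (Lpr_ct (K1.f15853 IH) (Lpr_gf (K2.f94216 IH) (Lpe (K2.f94225 IH) (Lpr_bt (K4.f20203 IH) (Lpe (K4.f95237 IH) (Lpe (f95238 IH) (Lpn (LP (LK LD1_c6 LD2_c53 LD3_c14)))))))))))))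
theorem f95628 : Led Lsl_ft (LP (LK LD1_c13 LD2_c0 LD3_c53)) = (LP (LK LD1_c7 LD2_c30 LD3_c43)) :=
  Lgr Lrot48 (Lpr_ff (K4.f95623 IH) (Lpn (LP (LK LD1_c7 LD2_c30 LD3_c43))))
theorem f111163 : Led Lsl_at (LP (LK LD1_c7 LD2_c30 LD3_c43)) = (LP (LK LD1_c12 LD2_c34 LD3_c51)) :=
  Lgr Lrot67 (Lpe (K4.f93206 IH) (Lpe (K4.f95606 IH) (Lpr_bf (K4.f111155 IH) (Lpe (K4.f111136 IH) (Lpe (K4.f65363 IH) (Lpn (LP (LK LD1_c12 LD2_c34 LD3_c51))))))))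
theorem f123966 : Led Lsl_gt (LP (LK LD1_c6 LD2_c59 LD3_c42)) = (LP (LK LD1_c12 LD2_c34 LD3_c51)) :=
  Lgr Lrot46 (Lpr_gf (K5.f123964 IH) (Lpr_ft (f95628 IH) (Lpr_at (f111163 IH) (Lpn (LP (LK LD1_c12 LD2_c34 LD3_c51))))))
theorem f123955 : Led Lsl_bt (LP (LK LD1_c3 LD2_c29 LD3_c0)) = (LP (LK LD1_c6 LD2_c59 LD3_c42)) :=
  Lre_b IH (LK LD1_c3 LD2_c29 LD3_c0) (LK LD1_c6 LD2_c59 LD3_c42) Lrfl Lrfl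
theorem f18634 : Led Lsl_ct (LP (LK LD1_c3 LD2_c29 LD3_c0)) = (LP (LK LD1_c6 LD2_c59 LD3_c43)) :=
  Lre_c IH (LK LD1_c3 LD2_c29 LD3_c0) (LK LD1_c6 LD2_c59 LD3_c43) Lrfl Lrfl
theorem f157326 : Led Lsl_gt (LP (LK LD1_c6 LD2_c33 LD3_c9)) = (LP (LK LD1_c6 LD2_c59 LD3_c43)) :=
  Lgr Lrot149 (Lpr_cf (f157319 IH) (Lpr_gf (K7.f151485 IH) (Lpe (K7.f122093 IH) (Lpr_ct (K4.f122095 IH) (Lpe (K7.f151481 IH) (Lpe (K7.f147793 IH) (Lpr_bt (K6.f111131 IH) (Lpe (f123966 IH) (Lpe (f123955 IH) (Lpr_ct (f18634 IH) (Lpn (LP (LK LD1_c6 LD2_c59 LD3_c43)))))))))))))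
theorem f24149 : Led Lsl_bt (LP (LK LD1_c3 LD2_c14 LD3_c50)) = (LP (LK LD1_c6 LD2_c33 LD3_c9)) :=
  Lre_b IH (LK LD1_c3 LD2_c14 LD3_c50) (LK LD1_c6 LD2_c33 LD3_c9) Lrfl Lrfl
theorem f58793 : Led Lsl_bt (LP (LK LD1_c3 LD2_c45 LD3_c52)) = (LP (LK LD1_c1 LD2_c50 LD3_c1)) :=
  Lre_b IH (LK LD1_c3 LD2_c45 LD3_c52) (LK LD1_c1 LD2_c50 LD3_c1) Lrfl Lrfl
theorem f58794 : Led Lsl_ft (LP (LK LD1_c6 LD2_c33 LD3_c9)) = (LP (LK LD1_c3 LD2_c45 LD3_c52)) :=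
  Lgr Lrot75 (Lpe (f24149 IH) (Lpr_ff (K7.f58783 IH) (Lpe (f58793 IH) (Lpn (LP (LK LD1_c3 LD2_c45 LD3_c52))))))
theorem f58838 : Led Lsl_at (LP (LK LD1_c3 LD2_c45 LD3_c52)) = (LP (LK LD1_c7 LD2_c32 LD3_c27)) :=
  Lre_a IH (LK LD1_c3 LD2_c45 LD3_c52) (LK LD1_c7 LD2_c32 LD3_c27) Lrfl Lrfl
theorem f157328 : Led Lsl_gf (LP (LK LD1_c7 LD2_c32 LD3_c27)) = (LP (LK LD1_c6 LD2_c59 LD3_c43)) :=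
  Lgr Lrot76 (Lpe (f58838 IH) (Lpe (f58794 IH) (Lpr_gt (f157326 IH) (Lpn (LP (LK LD1_c6 LD2_c59 LD3_c43))))))
theorem f18772 : Led Lsl_dt (LP (LK LD1_c3 LD2_c29 LD3_c3)) = (LP (LK LD1_c1 LD2_c41 LD3_c15)) :=
  Lre_d IH (LK LD1_c3 LD2_c29 LD3_c3) (LK LD1_c1 LD2_c41 LD3_c15) Lrfl Lrfl
theorem f126496 : Led Lsl_bt (LP (LK LD1_c3 LD2_c47 LD3_c31)) = (LP (LK LD1_c7 LD2_c35 LD3_c53)) :=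
  Lre_b IH (LK LD1_c3 LD2_c47 LD3_c31) (LK LD1_c7 LD2_c35 LD3_c53) Lrfl Lrfl
theorem f22608 : Led Lsl_bt (LP (LK LD1_c3 LD2_c13 LD3_c48)) = (LP (LK LD1_c1 LD2_c33 LD3_c28)) :=
  Lre_b IH (LK LD1_c3 LD2_c13 LD3_c48) (LK LD1_c1 LD2_c33 LD3_c28) Lrfl Lrfl
theorem f156522 : Led Lsl_cf (LP (LK LD1_c3 LD2_c13 LD3_c48)) = (LP (LK LD1_c4 LD2_c44 LD3_c5)) :=
  Lgr Lrot97 (Lpr_bt (f22608 IH) (Lpr_ct (K7.f148341 IH) (Lpr_bt (K7.f156517 IH) (Lpr_ct (K7.f156509 IH) (Lpr_bt (K7.f25305 IH) (Lpn (LP (LK LD1_c4 LD2_c44 LD3_c5))))))))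
theorem f22670 : Led Lsl_gt (LP (LK LD1_c6 LD2_c31 LD3_c11)) = (LP (LK LD1_c3 LD2_c13 LD3_c48)) :=
  Lre_g IH (LK LD1_c6 LD2_c31 LD3_c11) (LK LD1_c3 LD2_c13 LD3_c48) Lrfl Lrfl
theorem f156555 : Led Lsl_ct (LP (LK LD1_c3 LD2_c47 LD3_c31)) = (LP (LK LD1_c6 LD2_c31 LD3_c11)) :=
  Lgr Lrot64 (Lpr_bt (f126496 IH) (Lpr_gf (K5.f126488 IH) (Lpe (K2.f95559 IH) (Lpr_ct (K3.f91960 IH) (Lpe (K5.f126494 IH) (Lpe (K4.f62899 IH) (Lpr_gf (K7.f156547 IH) (Lpe (K7.f25288 IH) (Lpe (f156522 IH) (Lpe (f22670 IH) (Lpn (LP (LK LD1_c6 LD2_c31 LD3_c11)))))))))))))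
theorem f156526 : Led Lsl_ct (LP (LK LD1_c3 LD2_c13 LD3_c48)) = (LP (LK LD1_c4 LD2_c44 LD3_c5)) :=
  Lgr Lrot59 (Lpr_cf (f156522 IH) (Lpn (LP (LK LD1_c4 LD2_c44 LD3_c5))))
theorem f157350 : Led Lsl_ct (LP (LK LD1_c7 LD2_c32 LD3_c27)) = (LP (LK LD1_c3 LD2_c45 LD3_c52)) :=
  Lgr Lrot110 (Lpr_gf (f157328 IH) (Lpe (f18634 IH) (Lpe (K5.f18628 IH) (Lpe (f18772 IH) (Lpr_gt (f129435 IH) (Lpr_ct (f156555 IH) (Lpr_gt (f22670 IH) (Lpr_ct (f156526 IH) (Lpe (K7.f156575 IH) (Lpn (LP (LK LD1_c3 LD2_c45 LD3_c52))))))))))))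
theorem f157352 : Led Lsl_df (LP (LK LD1_c3 LD2_c45 LD3_c52)) = (LP (LK LD1_c4 LD2_c44 LD3_c5)) :=
  Lgr Lrot162 (Lpe (f157350 IH) (Lpr_gf (f157328 IH) (Lpe (f18634 IH) (Lpe (K5.f18628 IH) (Lpr_dt (f18631 IH) (Lpr_gt (f129435 IH) (Lpr_ct (f156555 IH) (Lpr_gt (f22670 IH) (Lpr_ct (f156526 IH) (Lpn (LP (LK LD1_c4 LD2_c44 LD3_c5))))))))))))
theorem f90958 : Led Lsl_ct (LP (LK LD1_c13 LD2_c10 LD3_c14)) = (LP (LK LD1_c6 LD2_c56 LD3_c5)) :=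
  Lre_c IH (LK LD1_c13 LD2_c10 LD3_c14) (LK LD1_c6 LD2_c56 LD3_c5) Lrfl Lrfl
theorem f18655 : Led Lsl_at (LP (LK LD1_c1 LD2_c41 LD3_c15)) = (LP (LK LD1_c3 LD2_c29 LD3_c2)) :=
  Lre_a IH (LK LD1_c1 LD2_c41 LD3_c15) (LK LD1_c3 LD2_c29 LD3_c2) Lrfl Lrfl
theorem f90964 : Led Lsl_af (LP (LK LD1_c3 LD2_c29 LD3_c3)) = (LP (LK LD1_c6 LD2_c56 LD3_c5)) :=
  Lgr Lrot117 (Lpr_dt (f18772 IH) (Lpr_at (f18655 IH) (Lpr_dt (K7.f90961 IH) (Lpn (LP (LK LD1_c6 LD2_c56 LD3_c5))))))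
theorem f18632 : Led Lsl_ct (LP (LK LD1_c3 LD2_c29 LD3_c3)) = (LP (LK LD1_c6 LD2_c59 LD3_c49)) :=
  Lre_c IH (LK LD1_c3 LD2_c29 LD3_c3) (LK LD1_c6 LD2_c59 LD3_c49) Lrfl Lrfl
theorem f90966 : Led Lsl_at (LP (LK LD1_c6 LD2_c59 LD3_c49)) = (LP (LK LD1_c13 LD2_c10 LD3_c14)) :=
  Lgr Lrot107 (Lpe (f18632 IH) (Lpr_af (f90964 IH) (Lpe (f90958 IH) (Lpn (LP (LK LD1_c13 LD2_c10 LD3_c14))))))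
theorem f63419 : Led Lsl_ct (LP (LK LD1_c7 LD2_c41 LD3_c28)) = (LP (LK LD1_c3 LD2_c50 LD3_c13)) :=
  Lre_c IH (LK LD1_c7 LD2_c41 LD3_c28) (LK LD1_c3 LD2_c50 LD3_c13) Lrfl Lrfl
theorem f63601 : Led Lsl_ft (LP (LK LD1_c6 LD2_c59 LD3_c49)) = (LP (LK LD1_c7 LD2_c41 LD3_c28)) :=
  Lgr Lrot4 (Lpe (f18632 IH) (Lpr_ff (K7.f63598 IH) (Lpe (f63419 IH) (Lpn (LP (LK LD1_c7 LD2_c41 LD3_c28))))))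
theorem f63605 : Led Lsl_ff (LP (LK LD1_c6 LD2_c59 LD3_c49)) = (LP (LK LD1_c7 LD2_c41 LD3_c28)) :=
  Lgr Lrot3 (Lpr_ft (f63601 IH) (Lpn (LP (LK LD1_c7 LD2_c41 LD3_c28))))
theorem f63513 : Led Lsl_gt (LP (LK LD1_c7 LD2_c41 LD3_c28)) = (LP (LK LD1_c14 LD2_c29 LD3_c48)) :=
  Lre_g IH (LK LD1_c7 LD2_c41 LD3_c28) (LK LD1_c14 LD2_c29 LD3_c48) Lrfl Lrfl
theorem f90972 : Led Lsl_gt (LP (LK LD1_c14 LD2_c29 LD3_c48)) = (LP (LK LD1_c13 LD2_c10 LD3_c14)) :=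
  Lgr Lrot46 (Lpe (f63513 IH) (Lpe (f63605 IH) (Lpr_at (f90966 IH) (Lpn (LP (LK LD1_c13 LD2_c10 LD3_c14))))))
theorem f157503 : Led Lsl_cf (LP (LK LD1_c14 LD2_c29 LD3_c48)) = (LP (LK LD1_c9 LD2_c21 LD3_c1)) :=
  Lgr Lrot169 (Lpr_gt (f90972 IH) (Lpr_ct (f90958 IH) (Lpe (K7.f90961 IH) (Lpr_cf (K4.f18659 IH) (Lpe (K4.f18668 IH) (Lpe (K4.f65916 IH) (Lpe (K4.f58837 IH) (Lpr_df (f157352 IH) (Lpr_gt (K7.f156514 IH) (Lpn (LP (LK LD1_c9 LD2_c21 LD3_c1))))))))))))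
theorem f63412 : Led Lsl_ct (LP (LK LD1_c3 LD2_c50 LD3_c13)) = (LP (LK LD1_c7 LD2_c41 LD3_c28)) :=
  Lre_c IH (LK LD1_c3 LD2_c50 LD3_c13) (LK LD1_c7 LD2_c41 LD3_c28) Lrfl Lrfl
theorem f63508 : Led Lsl_gt (LP (LK LD1_c7 LD2_c41 LD3_c11)) = (LP (LK LD1_c3 LD2_c50 LD3_c5)) :=
  Lre_g IH (LK LD1_c7 LD2_c41 LD3_c11) (LK LD1_c3 LD2_c50 LD3_c5) Lrfl Lrfl
theorem f87188 : Led Lsl_bt (LP (LK LD1_c0 LD2_c52 LD3_c40)) = (LP (LK LD1_c1 LD2_c51 LD3_c44)) :=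
  Lre_b IH (LK LD1_c0 LD2_c52 LD3_c40) (LK LD1_c1 LD2_c51 LD3_c44) Lrfl Lrfl
theorem f87190 : Led Lsl_gt (LP (LK LD1_c1 LD2_c51 LD3_c44)) = (LP (LK LD1_c3 LD2_c49 LD3_c22)) :=
  Lre_g IH (LK LD1_c1 LD2_c51 LD3_c44) (LK LD1_c3 LD2_c49 LD3_c22) Lrfl Lrfl
theorem f87191 : Led Lsl_bt (LP (LK LD1_c7 LD2_c39 LD3_c34)) = (LP (LK LD1_c3 LD2_c49 LD3_c22)) :=
  Lre_b IH (LK LD1_c7 LD2_c39 LD3_c34) (LK LD1_c3 LD2_c49 LD3_c22) Lrfl Lrfl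
theorem f87355 : Led Lsl_ct (LP (LK LD1_c7 LD2_c39 LD3_c34)) = (LP (LK LD1_c7 LD2_c41 LD3_c11)) :=
  Lgr Lrot64 (Lpr_bt (f87191 IH) (Lpe (f87190 IH) (Lpe (f87188 IH) (Lpe (K2.f84974 IH) (Lpr_gf (K2.f87350 IH) (Lpr_cf (K2.f63375 IH) (Lpe (K1.f62675 IH) (Lpe (K4.f63139 IH) (Lpr_ct (K4.f63507 IH) (Lpe (f63508 IH) (Lpn (LP (LK LD1_c7 LD2_c41 LD3_c11)))))))))))))
theorem f157509 : Led Lsl_gf (LP (LK LD1_c7 LD2_c39 LD3_c34)) = (LP (LK LD1_c12 LD2_c1 LD3_c55)) :=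
  Lgr Lrot181 (Lpr_ct (f87355 IH) (Lpr_gt (f63508 IH) (Lpe (K4.f63507 IH) (Lpr_bt (K4.f63139 IH) (Lpr_gt (K1.f62675 IH) (Lpe (K7.f63111 IH) (Lpr_ct (f63412 IH) (Lpr_gt (f63513 IH) (Lpr_cf (f157503 IH) (Lpe (K7.f156608 IH) (Lpn (LP (LK LD1_c12 LD2_c1 LD3_c55)))))))))))))
theorem f145260 : Led Lsl_dt (LP (LK LD1_c7 LD2_c20 LD3_c61)) = (LP (LK LD1_c12 LD2_c1 LD3_c55)) :=
  Lgr Lrot27 (Lpe (K5.f122734 IH) (Lpr_gf (K7.f145258 IH) (Lpe (K6.f114454 IH) (Lpr_gf (K6.f136767 IH) (Lpe (K4.f117151 IH) (Lpr_gt (K7.f122287 IH) (Lpr_ct (K7.f105212 IH) (Lpr_gt (K7.f105239 IH) (Lpr_ct (K7.f105241 IH) (Lpn (LP (LK LD1_c12 LD2_c1 LD3_c55))))))))))))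
theorem f136779 : Led Lsl_dt (LP (LK LD1_c3 LD2_c40 LD3_c29)) = (LP (LK LD1_c7 LD2_c21 LD3_c6)) :=
  Lre_d IH (LK LD1_c3 LD2_c40 LD3_c29) (LK LD1_c7 LD2_c21 LD3_c6) Lrfl Lrfl
theorem f142527 : Led Lsl_et (LP (LK LD1_c7 LD2_c25 LD3_c49)) = (LP (LK LD1_c3 LD2_c42 LD3_c36)) :=
  Lre_e IH (LK LD1_c7 LD2_c25 LD3_c49) (LK LD1_c3 LD2_c42 LD3_c36) Lrfl Lrfl
theorem f142541 : Led Lsl_bf (LP (LK LD1_c7 LD2_c25 LD3_c49)) = (LP (LK LD1_c14 LD2_c1 LD3_c45)) :=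
  Lgr Lrot96 (Lpr_et (f142527 IH) (Lpr_bt (K6.f142537 IH) (Lpr_et (K5.f123531 IH) (Lpn (LP (LK LD1_c14 LD2_c1 LD3_c45))))))
theorem f15213 : Led Lsl_et (LP (LK LD1_c6 LD2_c54 LD3_c48)) = (LP (LK LD1_c3 LD2_c26 LD3_c29)) :=
  Lre_e IH (LK LD1_c6 LD2_c54 LD3_c48) (LK LD1_c3 LD2_c26 LD3_c29) Lrfl Lrfl
theorem f15215 : Led Lsl_cf (LP (LK LD1_c6 LD2_c54 LD3_c48)) = (LP (LK LD1_c7 LD2_c35 LD3_c24)) :=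
  Lgr Lrot39 (Lpr_et (f15213 IH) (Lpr_ct (K6.f15208 IH) (Lpr_et (K4.f15214 IH) (Lpn (LP (LK LD1_c7 LD2_c35 LD3_c24))))))
theorem f117307 : Led Lsl_bt (LP (LK LD1_c3 LD2_c50 LD3_c1)) = (LP (LK LD1_c7 LD2_c35 LD3_c24)) :=
  Lgr Lrot127 (Lpr_bf (K4.f117302 IH) (Lpn (LP (LK LD1_c7 LD2_c35 LD3_c24))))
theorem f142559 : Led Lsl_ct (LP (LK LD1_c7 LD2_c25 LD3_c49)) = (LP (LK LD1_c3 LD2_c50 LD3_c1)) :=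
  Lgr Lrot83 (Lpr_bf (f142541 IH) (Lpr_cf (K5.f127947 IH) (Lpe (K6.f127958 IH) (Lpr_cf (f15215 IH) (Lpe (f117307 IH) (Lpn (LP (LK LD1_c3 LD2_c50 LD3_c1))))))))
theorem f117304 : Led Lsl_at (LP (LK LD1_c3 LD2_c50 LD3_c1)) = (LP (LK LD1_c1 LD2_c52 LD3_c0)) :=
  Lre_a IH (LK LD1_c3 LD2_c50 LD3_c1) (LK LD1_c1 LD2_c52 LD3_c0) Lrfl Lrfl
theorem f84939 : Led Lsl_ct (LP (LK LD1_c1 LD2_c52 LD3_c0)) = (LP (LK LD1_c3 LD2_c50 LD3_c3)) :=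
  Lre_c IH (LK LD1_c1 LD2_c52 LD3_c0) (LK LD1_c3 LD2_c50 LD3_c3) Lrfl Lrfl
theorem f142564 : Led Lsl_af (LP (LK LD1_c7 LD2_c25 LD3_c49)) = (LP (LK LD1_c3 LD2_c50 LD3_c3)) :=
  Lgr Lrot68 (Lpr_ct (f142559 IH) (Lpr_at (f117304 IH) (Lpr_ct (f84939 IH) (Lpn (LP (LK LD1_c3 LD2_c50 LD3_c3))))))
theorem f96459 : Led Lsl_et (LP (LK LD1_c1 LD2_c51 LD3_c60)) = (LP (LK LD1_c3 LD2_c50 LD3_c3)) :=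
  Lre_e IH (LK LD1_c1 LD2_c51 LD3_c60) (LK LD1_c3 LD2_c50 LD3_c3) Lrfl Lrfl
theorem f142619 : Led Lsl_at (LP (LK LD1_c3 LD2_c42 LD3_c36)) = (LP (LK LD1_c1 LD2_c51 LD3_c60)) :=
  Lgr Lrot80 (Lpe (f142527 IH) (Lpr_af (f142564 IH) (Lpe (f96459 IH) (Lpn (LP (LK LD1_c1 LD2_c51 LD3_c60))))))
theorem f96455 : Led Lsl_dt (LP (LK LD1_c1 LD2_c51 LD3_c60)) = (LP (LK LD1_c3 LD2_c50 LD3_c2)) :=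
  Lre_d IH (LK LD1_c1 LD2_c51 LD3_c60) (LK LD1_c3 LD2_c50 LD3_c2) Lrfl Lrfl
theorem f142621 : Led Lsl_af (LP (LK LD1_c7 LD2_c22 LD3_c17)) = (LP (LK LD1_c3 LD2_c50 LD3_c2)) :=
  Lgr Lrot117 (Lpe (K6.f142532 IH) (Lpr_at (f142619 IH) (Lpr_dt (f96455 IH) (Lpn (LP (LK LD1_c3 LD2_c50 LD3_c2))))))
theorem f142629 : Led Lsl_et (LP (LK LD1_c7 LD2_c22 LD3_c17)) = (LP (LK LD1_c13 LD2_c56 LD3_c19)) :=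
  Lre_e IH (LK LD1_c7 LD2_c22 LD3_c17) (LK LD1_c13 LD2_c56 LD3_c19) Lrfl Lrfl
theorem f96449 : Led Lsl_et (LP (LK LD1_c7 LD2_c41 LD3_c3)) = (LP (LK LD1_c3 LD2_c50 LD3_c2)) :=
  Lre_e IH (LK LD1_c7 LD2_c41 LD3_c3) (LK LD1_c3 LD2_c50 LD3_c2) Lrfl Lrfl
theorem f142630 : Led Lsl_at (LP (LK LD1_c13 LD2_c56 LD3_c19)) = (LP (LK LD1_c7 LD2_c41 LD3_c3)) :=
  Lgr Lrot80 (Lpe (f142629 IH) (Lpr_af (f142621 IH) (Lpe (f96449 IH) (Lpn (LP (LK LD1_c7 LD2_c41 LD3_c3))))))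
theorem f142636 : Led Lsl_dt (LP (LK LD1_c23 LD2_c27 LD3_c26)) = (LP (LK LD1_c13 LD2_c56 LD3_c19)) :=
  Lre_d IH (LK LD1_c23 LD2_c27 LD3_c26) (LK LD1_c13 LD2_c56 LD3_c19) Lrfl Lrfl
theorem f96426 : Led Lsl_dt (LP (LK LD1_c7 LD2_c41 LD3_c3)) = (LP (LK LD1_c14 LD2_c29 LD3_c10)) :=
  Lre_d IH (LK LD1_c7 LD2_c41 LD3_c3) (LK LD1_c14 LD2_c29 LD3_c10) Lrfl Lrfl
theorem f142637 : Led Lsl_af (LP (LK LD1_c23 LD2_c27 LD3_c26)) = (LP (LK LD1_c14 LD2_c29 LD3_c10)) :=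
  Lgr Lrot117 (Lpr_dt (f142636 IH) (Lpr_at (f142630 IH) (Lpr_dt (f96426 IH) (Lpn (LP (LK LD1_c14 LD2_c29 LD3_c10))))))
theorem f96428 : Led Lsl_et (LP (LK LD1_c7 LD2_c41 LD3_c6)) = (LP (LK LD1_c14 LD2_c29 LD3_c10)) :=
  Lre_e IH (LK LD1_c7 LD2_c41 LD3_c6) (LK LD1_c14 LD2_c29 LD3_c10) Lrfl Lrfl
theorem f142569 : Led Lsl_ft (LP (LK LD1_c14 LD2_c2 LD3_c55)) = (LP (LK LD1_c7 LD2_c25 LD3_c49)) :=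
  Lre_f IH (LK LD1_c14 LD2_c2 LD3_c55) (LK LD1_c7 LD2_c25 LD3_c49) Lrfl Lrfl
theorem f142570 : Led Lsl_cf (LP (LK LD1_c14 LD2_c2 LD3_c55)) = (LP (LK LD1_c7 LD2_c41 LD3_c1)) :=
  Lgr Lrot108 (Lpr_ft (f142569 IH) (Lpr_ct (f142559 IH) (Lpr_ft (K4.f117310 IH) (Lpn (LP (LK LD1_c7 LD2_c41 LD3_c1))))))
theorem f142582 : Led Lsl_ct (LP (LK LD1_c14 LD2_c2 LD3_c55)) = (LP (LK LD1_c7 LD2_c41 LD3_c1)) :=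
  Lgr Lrot59 (Lpr_cf (f142570 IH) (Lpn (LP (LK LD1_c7 LD2_c41 LD3_c1))))
theorem f142591 : Led Lsl_af (LP (LK LD1_c14 LD2_c2 LD3_c55)) = (LP (LK LD1_c7 LD2_c41 LD3_c7)) :=
  Lgr Lrot68 (Lpr_ct (f142582 IH) (Lpr_at (K4.f117323 IH) (Lpr_ct (K7.f84953 IH) (Lpn (LP (LK LD1_c7 LD2_c41 LD3_c7))))))
theorem f142584 : Led Lsl_dt (LP (LK LD1_c14 LD2_c2 LD3_c55)) = (LP (LK LD1_c23 LD2_c35 LD3_c59)) :=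
  Lre_d IH (LK LD1_c14 LD2_c2 LD3_c55) (LK LD1_c23 LD2_c35 LD3_c59) Lrfl Lrfl
theorem f96364 : Led Lsl_dt (LP (LK LD1_c14 LD2_c29 LD3_c16)) = (LP (LK LD1_c7 LD2_c41 LD3_c7)) :=
  Lre_d IH (LK LD1_c14 LD2_c29 LD3_c16) (LK LD1_c7 LD2_c41 LD3_c7) Lrfl Lrfl
theorem f142600 : Led Lsl_at (LP (LK LD1_c23 LD2_c35 LD3_c59)) = (LP (LK LD1_c14 LD2_c29 LD3_c16)) :=
  Lgr Lrot51 (Lpe (f142584 IH) (Lpr_af (f142591 IH) (Lpe (f96364 IH) (Lpn (LP (LK LD1_c14 LD2_c29 LD3_c16))))))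
theorem f142574 : Led Lsl_ft (LP (LK LD1_c14 LD2_c2 LD3_c54)) = (LP (LK LD1_c23 LD2_c35 LD3_c59)) :=
  Lre_f IH (LK LD1_c14 LD2_c2 LD3_c54) (LK LD1_c23 LD2_c35 LD3_c59) Lrfl Lrfl
theorem f96456 : Led Lsl_ft (LP (LK LD1_c14 LD2_c29 LD3_c16)) = (LP (LK LD1_c7 LD2_c41 LD3_c6)) :=
  Lre_f IH (LK LD1_c14 LD2_c29 LD3_c16) (LK LD1_c7 LD2_c41 LD3_c6) Lrfl Lrfl
theorem f142608 : Led Lsl_af (LP (LK LD1_c14 LD2_c2 LD3_c54)) = (LP (LK LD1_c7 LD2_c41 LD3_c6)) :=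
  Lgr Lrot45 (Lpr_ft (f142574 IH) (Lpr_at (f142600 IH) (Lpr_ft (f96456 IH) (Lpn (LP (LK LD1_c7 LD2_c41 LD3_c6))))))
theorem f142610 : Led Lsl_at (LP (LK LD1_c14 LD2_c2 LD3_c54)) = (LP (LK LD1_c7 LD2_c41 LD3_c6)) :=
  Lgr Lrot100 (Lpr_af (f142608 IH) (Lpn (LP (LK LD1_c7 LD2_c41 LD3_c6))))
theorem f142641 : Led Lsl_et (LP (LK LD1_c23 LD2_c27 LD3_c26)) = (LP (LK LD1_c14 LD2_c2 LD3_c54)) :=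
  Lgr Lrot123 (Lpr_af (f142637 IH) (Lpe (f96428 IH) (Lpe (f142610 IH) (Lpn (LP (LK LD1_c14 LD2_c2 LD3_c54))))))
theorem f122196 : Led Lsl_dt (LP (LK LD1_c13 LD2_c56 LD3_c19)) = (LP (LK LD1_c23 LD2_c27 LD3_c26)) :=
  Lre_d IH (LK LD1_c13 LD2_c56 LD3_c19) (LK LD1_c23 LD2_c27 LD3_c26) Lrfl Lrfl
theorem f142566 : Led Lsl_dt (LP (LK LD1_c14 LD2_c2 LD3_c54)) = (LP (LK LD1_c7 LD2_c25 LD3_c49)) :=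
  Lre_d IH (LK LD1_c14 LD2_c2 LD3_c54) (LK LD1_c7 LD2_c25 LD3_c49) Lrfl Lrfl
theorem f142643 : Led Lsl_df (LP (LK LD1_c7 LD2_c22 LD3_c17)) = (LP (LK LD1_c3 LD2_c42 LD3_c36)) :=
  Lgr Lrot70 (Lpr_et (f142629 IH) (Lpr_dt (f122196 IH) (Lpr_et (f142641 IH) (Lpr_dt (f142566 IH) (Lpr_et (f142527 IH) (Lpn (LP (LK LD1_c3 LD2_c42 LD3_c36))))))))
theorem f142530 : Led Lsl_ff (LP (LK LD1_c3 LD2_c42 LD3_c36)) = (LP (LK LD1_c3 LD2_c40 LD3_c29)) :=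
  Lgr Lrot23 (Lpr_ct (K6.f142521 IH) (Lpe (K6.f136708 IH) (Lpr_ct (K6.f136771 IH) (Lpn (LP (LK LD1_c3 LD2_c40 LD3_c29))))))
theorem f136783 : Led Lsl_dt (LP (LK LD1_c7 LD2_c21 LD3_c6)) = (LP (LK LD1_c3 LD2_c40 LD3_c29)) :=
  Lre_d IH (LK LD1_c7 LD2_c21 LD3_c6) (LK LD1_c3 LD2_c40 LD3_c29) Lrfl Lrfl
theorem f142648 : Led Lsl_ft (LP (LK LD1_c7 LD2_c22 LD3_c17)) = (LP (LK LD1_c7 LD2_c21 LD3_c6)) :=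
  Lgr Lrot54 (Lpr_df (f142643 IH) (Lpr_ff (f142530 IH) (Lpe (f136783 IH) (Lpn (LP (LK LD1_c7 LD2_c21 LD3_c6))))))
theorem f142652 : Led Lsl_ff (LP (LK LD1_c7 LD2_c22 LD3_c17)) = (LP (LK LD1_c7 LD2_c21 LD3_c6)) :=
  Lgr Lrot3 (Lpr_ft (f142648 IH) (Lpn (LP (LK LD1_c7 LD2_c21 LD3_c6))))
theorem f142623 : Led Lsl_at (LP (LK LD1_c7 LD2_c22 LD3_c17)) = (LP (LK LD1_c3 LD2_c50 LD3_c2)) :=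
  Lgr Lrot100 (Lpr_af (f142621 IH) (Lpn (LP (LK LD1_c3 LD2_c50 LD3_c2))))
theorem f142656 : Led Lsl_gf (LP (LK LD1_c7 LD2_c22 LD3_c15)) = (LP (LK LD1_c7 LD2_c21 LD3_c6)) :=
  Lgr Lrot47 (Lpr_gt (K7.f136968 IH) (Lpe (f142623 IH) (Lpr_ff (f142652 IH) (Lpn (LP (LK LD1_c7 LD2_c21 LD3_c6))))))
theorem f122063 : Led Lsl_dt (LP (LK LD1_c7 LD2_c22 LD3_c15)) = (LP (LK LD1_c3 LD2_c41 LD3_c1)) :=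
  Lre_d IH (LK LD1_c7 LD2_c22 LD3_c15) (LK LD1_c3 LD2_c41 LD3_c1) Lrfl Lrfl
theorem f157511 : Led Lsl_dt (LP (LK LD1_c7 LD2_c39 LD3_c34)) = (LP (LK LD1_c7 LD2_c0 LD3_c49)) :=
  Lgr Lrot105 (Lpr_gf (f157509 IH) (Lpe (f145260 IH) (Lpe (K5.f107281 IH) (Lpe (K5.f107312 IH) (Lpr_gt (K6.f95917 IH) (Lpr_dt (f136779 IH) (Lpe (f142656 IH) (Lpr_dt (f122063 IH) (Lpr_cf (K4.f122061 IH) (Lpn (LP (LK LD1_c7 LD2_c0 LD3_c49))))))))))))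
theorem f87367 : Led Lsl_bt (LP (LK LD1_c3 LD2_c49 LD3_c22)) = (LP (LK LD1_c7 LD2_c39 LD3_c34)) :=
  Lre_b IH (LK LD1_c3 LD2_c49 LD3_c22) (LK LD1_c7 LD2_c39 LD3_c34) Lrfl Lrfl
theorem f157513 : Led Lsl_df (LP (LK LD1_c3 LD2_c49 LD3_c22)) = (LP (LK LD1_c3 LD2_c29 LD3_c37)) :=
  Lgr Lrot12 (Lpr_bt (f87367 IH) (Lpr_dt (f157511 IH) (Lpr_bt (K4.f121891 IH) (Lpn (LP (LK LD1_c3 LD2_c29 LD3_c37))))))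
theorem f87192 : Led Lsl_ct (LP (LK LD1_c3 LD2_c49 LD3_c22)) = (LP (LK LD1_c7 LD2_c39 LD3_c35)) :=
  Lre_c IH (LK LD1_c3 LD2_c49 LD3_c22) (LK LD1_c7 LD2_c39 LD3_c35) Lrfl Lrfl
theorem f11272 : Led Lsl_at (LP (LK LD1_c0 LD2_c4 LD3_c58)) = (LP (LK LD1_c0 LD2_c2 LD3_c15)) :=
  Lre_a IH (LK LD1_c0 LD2_c4 LD3_c58) (LK LD1_c0 LD2_c2 LD3_c15) Lrfl Lrfl
theorem f11273 : Led Lsl_at (LP (LK LD1_c0 LD2_c2 LD3_c15)) = (LP (LK LD1_c0 LD2_c4 LD3_c58)) :=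
  Lre_a IH (LK LD1_c0 LD2_c2 LD3_c15) (LK LD1_c0 LD2_c4 LD3_c58) Lrfl Lrfl
theorem f11274 : Led Lsl_bf (LP (LK LD1_c0 LD2_c4 LD3_c58)) = (LP (LK LD1_c0 LD2_c4 LD3_c58)) :=
  Lgr Lrot81 (Lpr_at (f11272 IH) (Lpr_bt (K0.f11271 IH) (Lpr_at (K0.f11257 IH) (Lpr_bt (K0.f6698 IH) (Lpr_at (f11273 IH) (Lpn (LP (LK LD1_c0 LD2_c4 LD3_c58))))))))
theorem f13692 : Led Lsl_ct (LP (LK LD1_c0 LD2_c8 LD3_c50)) = (LP (LK LD1_c0 LD2_c4 LD3_c58)) :=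
  Lre_c IH (LK LD1_c0 LD2_c8 LD3_c50) (LK LD1_c0 LD2_c4 LD3_c58) Lrfl Lrfl
theorem f62111 : Led Lsl_dt (LP (LK LD1_c0 LD2_c19 LD3_c42)) = (LP (LK LD1_c0 LD2_c8 LD3_c50)) :=
  Lre_d IH (LK LD1_c0 LD2_c19 LD3_c42) (LK LD1_c0 LD2_c8 LD3_c50) Lrfl Lrfl
theorem f75200 : Led Lsl_dt (LP (LK LD1_c11 LD2_c40 LD3_c49)) = (LP (LK LD1_c5 LD2_c58 LD3_c4)) :=
  Lre_d IH (LK LD1_c11 LD2_c40 LD3_c49) (LK LD1_c5 LD2_c58 LD3_c4) Lrfl Lrfl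
theorem f75299 : Led Lsl_at (LP (LK LD1_c5 LD2_c58 LD3_c4)) = (LP (LK LD1_c6 LD2_c17 LD3_c20)) :=
  Lgr Lrot51 (Lpe (f75200 IH) (Lpr_af (K2.f75211 IH) (Lpe (K3.f74013 IH) (Lpn (LP (LK LD1_c6 LD2_c17 LD3_c20))))))
theorem f75301 : Led Lsl_af (LP (LK LD1_c5 LD2_c58 LD3_c4)) = (LP (LK LD1_c6 LD2_c17 LD3_c20)) :=
  Lgr Lrot0 (Lpr_at (f75299 IH) (Lpn (LP (LK LD1_c6 LD2_c17 LD3_c20))))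
theorem f62955 : Led Lsl_gt (LP (LK LD1_c4 LD2_c40 LD3_c17)) = (LP (LK LD1_c9 LD2_c15 LD3_c59)) :=
  Lre_g IH (LK LD1_c4 LD2_c40 LD3_c17) (LK LD1_c9 LD2_c15 LD3_c59) Lrfl Lrfl
theorem f75311 : Led Lsl_gf (LP (LK LD1_c5 LD2_c58 LD3_c4)) = (LP (LK LD1_c9 LD2_c15 LD3_c59)) :=
  Lgr Lrot76 (Lpr_af (f75301 IH) (Lpe (K3.f58248 IH) (Lpr_gt (f62955 IH) (Lpn (LP (LK LD1_c9 LD2_c15 LD3_c59))))))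
theorem f157581 : Led Lsl_bt (LP (LK LD1_c7 LD2_c39 LD3_c35)) = (LP (LK LD1_c9 LD2_c15 LD3_c59)) :=
  Lgr Lrot178 (Lpe (f87192 IH) (Lpr_df (f157513 IH) (Lpe (K4.f95987 IH) (Lpe (K3.f95329 IH) (Lpe (K2.f18884 IH) (Lpr_df (K3.f95967 IH) (Lpe (K3.f95960 IH) (Lpr_bf (f11274 IH) (Lpe (f13692 IH) (Lpe (f62111 IH) (Lpe (K3.f63862 IH) (Lpe (K3.f60970 IH) (Lpe (K3.f60976 IH) (Lpe (K4.f79636 IH) (Lpe (K4.f76507 IH) (Lpe (K2.f76422 IH) (Lpe (K2.f76419 IH) (Lpe (K4.f75214 IH) (Lpr_gf (f75311 IH) (Lpn (LP (LK LD1_c9 LD2_c15 LD3_c59))))))))))))))))))))))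
theorem f87301 : Led Lsl_ct (LP (LK LD1_c7 LD2_c39 LD3_c35)) = (LP (LK LD1_c3 LD2_c49 LD3_c22)) :=
  Lre_c IH (LK LD1_c7 LD2_c39 LD3_c35) (LK LD1_c3 LD2_c49 LD3_c22) Lrfl Lrfl
theorem f74937 : Led Lsl_bt (LP (LK LD1_c2 LD2_c55 LD3_c26)) = (LP (LK LD1_c5 LD2_c58 LD3_c4)) :=
  Lre_b IH (LK LD1_c2 LD2_c55 LD3_c26) (LK LD1_c5 LD2_c58 LD3_c4) Lrfl Lrfl
theorem f72810 : Led Lsl_gt (LP (LK LD1_c1 LD2_c23 LD3_c40)) = (LP (LK LD1_c0 LD2_c38 LD3_c45)) :=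
  Lre_g IH (LK LD1_c1 LD2_c23 LD3_c40) (LK LD1_c0 LD2_c38 LD3_c45) Lrfl Lrfl
theorem f75313 : Led Lsl_bt (LP (LK LD1_c1 LD2_c23 LD3_c54)) = (LP (LK LD1_c2 LD2_c55 LD3_c54)) :=
  Lre_b IH (LK LD1_c1 LD2_c23 LD3_c54) (LK LD1_c2 LD2_c55 LD3_c54) Lrfl Lrfl
theorem f157592 : Led Lsl_gf (LP (LK LD1_c3 LD2_c49 LD3_c24)) = (LP (LK LD1_c2 LD2_c55 LD3_c54)) :=
  Lgr Lrot181 (Lpr_ct (K4.f87178 IH) (Lpr_gt (f87190 IH) (Lpe (f87301 IH) (Lpr_bt (f157581 IH) (Lpe (f75311 IH) (Lpe (f74937 IH) (Lpr_ct (K2.f72811 IH) (Lpr_gt (f72810 IH) (Lpe (K7.f72538 IH) (Lpr_bt (f75313 IH) (Lpn (LP (LK LD1_c2 LD2_c55 LD3_c54)))))))))))))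
theorem f87293 : Led Lsl_ct (LP (LK LD1_c1 LD2_c51 LD3_c44)) = (LP (LK LD1_c3 LD2_c49 LD3_c24)) :=
  Lre_c IH (LK LD1_c1 LD2_c51 LD3_c44) (LK LD1_c3 LD2_c49 LD3_c24) Lrfl Lrfl
theorem f110909 : Led Lsl_ct (LP (LK LD1_c5 LD2_c58 LD3_c39)) = (LP (LK LD1_c2 LD2_c55 LD3_c54)) :=
  Lre_c IH (LK LD1_c5 LD2_c58 LD3_c39) (LK LD1_c2 LD2_c55 LD3_c54) Lrfl Lrfl
theorem f110910 : Led Lsl_bt (LP (LK LD1_c5 LD2_c58 LD3_c39)) = (LP (LK LD1_c2 LD2_c55 LD3_c46)) :=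
  Lre_b IH (LK LD1_c5 LD2_c58 LD3_c39) (LK LD1_c2 LD2_c55 LD3_c46) Lrfl Lrfl
theorem f157598 : Led Lsl_gt (LP (LK LD1_c2 LD2_c51 LD3_c51)) = (LP (LK LD1_c2 LD2_c55 LD3_c46)) :=
  Lgr Lrot164 (Lpr_bf (K4.f112102 IH) (Lpr_ct (K3.f96622 IH) (Lpe (K3.f96672 IH) (Lpr_cf (K4.f108681 IH) (Lpr_gf (K3.f87804 IH) (Lpe (K4.f87177 IH) (Lpr_ct (f87293 IH) (Lpr_gf (f157592 IH) (Lpe (f110909 IH) (Lpr_bt (f110910 IH) (Lpn (LP (LK LD1_c2 LD2_c55 LD3_c46)))))))))))))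
theorem f137244 : Led Lsl_df (LP (LK LD1_c4 LD2_c34 LD3_c52)) = (LP (LK LD1_c3 LD2_c26 LD3_c29)) :=
  Lgr Lrot38 (Lpr_dt (K6.f137230 IH) (Lpn (LP (LK LD1_c3 LD2_c26 LD3_c29))))
theorem f117294 : Led Lsl_ct (LP (LK LD1_c0 LD2_c37 LD3_c26)) = (LP (LK LD1_c1 LD2_c21 LD3_c3)) :=
  Lre_c IH (LK LD1_c0 LD2_c37 LD3_c26) (LK LD1_c1 LD2_c21 LD3_c3) Lrfl Lrfl
theorem f64340 : Led Lsl_dt (LP (LK LD1_c0 LD2_c52 LD3_c49)) = (LP (LK LD1_c1 LD2_c52 LD3_c10)) :=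
  Lre_d IH (LK LD1_c0 LD2_c52 LD3_c49) (LK LD1_c1 LD2_c52 LD3_c10) Lrfl Lrfl
theorem f20561 : Led Lsl_ct (LP (LK LD1_c0 LD2_c37 LD3_c25)) = (LP (LK LD1_c1 LD2_c21 LD3_c0)) :=
  Lre_c IH (LK LD1_c0 LD2_c37 LD3_c25) (LK LD1_c1 LD2_c21 LD3_c0) Lrfl Lrfl
theorem f66375 : Led Lsl_dt (LP (LK LD1_c1 LD2_c21 LD3_c0)) = (LP (LK LD1_c2 LD2_c49 LD3_c55)) :=
  Lre_d IH (LK LD1_c1 LD2_c21 LD3_c0) (LK LD1_c2 LD2_c49 LD3_c55) Lrfl Lrfl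
theorem f137242 : Led Lsl_cf (LP (LK LD1_c4 LD2_c34 LD3_c52)) = (LP (LK LD1_c2 LD2_c49 LD3_c55)) :=
  Lgr Lrot55 (Lpr_dt (K6.f137230 IH) (Lpr_ct (K6.f15208 IH) (Lpe (K4.f117287 IH) (Lpr_ct (K7.f100332 IH) (Lpr_dt (K7.f64343 IH) (Lpr_ct (f117294 IH) (Lpr_dt (K6.f117295 IH) (Lpe (K6.f132316 IH) (Lpr_dt (K5.f12284 IH) (Lpr_ct (K1.f12201 IH) (Lpr_dt (f64340 IH) (Lpr_ct (K6.f66320 IH) (Lpr_dt (K6.f66374 IH) (Lpr_ct (f20561 IH) (Lpr_dt (f66375 IH) (Lpn (LP (LK LD1_c2 LD2_c49 LD3_c55))))))))))))))))))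
theorem f124067 : Led Lsl_ct (LP (LK LD1_c2 LD2_c55 LD3_c46)) = (LP (LK LD1_c1 LD2_c23 LD3_c50)) :=
  Lre_c IH (LK LD1_c2 LD2_c55 LD3_c46) (LK LD1_c1 LD2_c23 LD3_c50) Lrfl Lrfl
theorem f157603 : Led Lsl_gf (LP (LK LD1_c2 LD2_c49 LD3_c55)) = (LP (LK LD1_c1 LD2_c23 LD3_c50)) :=
  Lgr Lrot104 (Lpe (f137242 IH) (Lpr_df (f137244 IH) (Lpr_cf (K5.f15199 IH) (Lpe (K6.f136920 IH) (Lpr_cf (K6.f136340 IH) (Lpe (K3.f15090 IH) (Lpe (K4.f112189 IH) (Lpr_gt (f157598 IH) (Lpr_ct (f124067 IH) (Lpn (LP (LK LD1_c1 LD2_c23 LD3_c50))))))))))))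
theorem f100333 : Led Lsl_bt (LP (LK LD1_c1 LD2_c4 LD3_c53)) = (LP (LK LD1_c2 LD2_c15 LD3_c36)) :=
  Lre_b IH (LK LD1_c1 LD2_c4 LD3_c53) (LK LD1_c2 LD2_c15 LD3_c36) Lrfl Lrfl
theorem f100334 : Led Lsl_gt (LP (LK LD1_c4 LD2_c36 LD3_c46)) = (LP (LK LD1_c2 LD2_c15 LD3_c36)) :=
  Lre_g IH (LK LD1_c4 LD2_c36 LD3_c46) (LK LD1_c2 LD2_c15 LD3_c36) Lrfl Lrfl
theorem f137284 : Led Lsl_bf (LP (LK LD1_c4 LD2_c36 LD3_c46)) = (LP (LK LD1_c2 LD2_c49 LD3_c55)) :=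
  Lgr Lrot156 (Lpr_gt (f100334 IH) (Lpe (f100333 IH) (Lpr_ct (K4.f25137 IH) (Lpr_gt (K4.f100249 IH) (Lpe (K6.f100281 IH) (Lpr_bt (K4.f100279 IH) (Lpr_gt (K6.f100335 IH) (Lpr_ct (K6.f20403 IH) (Lpr_gt (K6.f25296 IH) (Lpr_cf (f137242 IH) (Lpn (LP (LK LD1_c2 LD2_c49 LD3_c55)))))))))))))
theorem f137286 : Led Lsl_bt (LP (LK LD1_c4 LD2_c36 LD3_c46)) = (LP (LK LD1_c2 LD2_c49 LD3_c55)) :=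
  Lgr Lrot127 (Lpr_bf (f137284 IH) (Lpn (LP (LK LD1_c2 LD2_c49 LD3_c55))))
theorem f74730 : Led Lsl_bt (LP (LK LD1_c0 LD2_c38 LD3_c45)) = (LP (LK LD1_c1 LD2_c23 LD3_c50)) :=
  Lre_b IH (LK LD1_c0 LD2_c38 LD3_c45) (LK LD1_c1 LD2_c23 LD3_c50) Lrfl Lrfl
theorem f139386 : Led Lsl_bt (LP (LK LD1_c1 LD2_c56 LD3_c24)) = (LP (LK LD1_c3 LD2_c59 LD3_c17)) :=
  Lre_b IH (LK LD1_c1 LD2_c56 LD3_c24) (LK LD1_c3 LD2_c59 LD3_c17) Lrfl Lrfl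
theorem f150233 : Led Lsl_gt (LP (LK LD1_c8 LD2_c0 LD3_c0)) = (LP (LK LD1_c3 LD2_c59 LD3_c24)) :=
  Lre_g IH (LK LD1_c8 LD2_c0 LD3_c0) (LK LD1_c3 LD2_c59 LD3_c24) Lrfl Lrfl
theorem f157620 : Led Lsl_ct (LP (LK LD1_c4 LD2_c36 LD3_c46)) = (LP (LK LD1_c8 LD2_c0 LD3_c0)) :=
  Lgr Lrot64 (Lpr_bt (f137286 IH) (Lpr_gf (f157603 IH) (Lpe (f74730 IH) (Lpr_ct (K2.f72566 IH) (Lpe (K7.f72553 IH) (Lpe (K7.f74555 IH) (Lpe (K7.f150227 IH) (Lpe (f139386 IH) (Lpr_ct (K6.f59886 IH) (Lpe (f150233 IH) (Lpn (LP (LK LD1_c8 LD2_c0 LD3_c0)))))))))))))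
theorem f146531 : Led Lsl_dt (LP (LK LD1_c2 LD2_c14 LD3_c32)) = (LP (LK LD1_c3 LD2_c25 LD3_c39)) :=
  Lgr Lrot42 (Lpr_df (K7.f146490 IH) (Lpn (LP (LK LD1_c3 LD2_c25 LD3_c39))))
theorem f151565 : Led Lsl_df (LP (LK LD1_c3 LD2_c25 LD3_c40)) = (LP (LK LD1_c2 LD2_c51 LD3_c48)) :=
  Lgr Lrot84 (Lpr_cf (K4.f115869 IH) (Lpe (f146531 IH) (Lpr_gf (K6.f137300 IH) (Lpe (K5.f12283 IH) (Lpe (K1.f12330 IH) (Lpe (K1.f64309 IH) (Lpr_gt (K6.f132312 IH) (Lpe (f137244 IH) (Lpr_gt (K7.f151563 IH) (Lpn (LP (LK LD1_c2 LD2_c51 LD3_c48))))))))))))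
theorem f95236 : Led Lsl_dt (LP (LK LD1_c1 LD2_c39 LD3_c28)) = (LP (LK LD1_c3 LD2_c25 LD3_c42)) :=
  Lre_d IH (LK LD1_c1 LD2_c39 LD3_c28) (LK LD1_c3 LD2_c25 LD3_c42) Lrfl Lrfl
theorem f61843 : Led Lsl_et (LP (LK LD1_c3 LD2_c23 LD3_c40)) = (LP (LK LD1_c6 LD2_c50 LD3_c36)) :=
  Lre_e IH (LK LD1_c3 LD2_c23 LD3_c40) (LK LD1_c6 LD2_c50 LD3_c36) Lrfl Lrfl
theorem f94982 : Led Lsl_et (LP (LK LD1_c3 LD2_c25 LD3_c46)) = (LP (LK LD1_c1 LD2_c39 LD3_c29)) :=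
  Lre_e IH (LK LD1_c3 LD2_c25 LD3_c46) (LK LD1_c1 LD2_c39 LD3_c29) Lrfl Lrfl
theorem f94983 : Led Lsl_ct (LP (LK LD1_c6 LD2_c50 LD3_c36)) = (LP (LK LD1_c3 LD2_c25 LD3_c46)) :=
  Lgr Lrot15 (Lpe (f61843 IH) (Lpr_cf (K3.f94921 IH) (Lpe (f94982 IH) (Lpn (LP (LK LD1_c3 LD2_c25 LD3_c46))))))
theorem f95196 : Led Lsl_cf (LP (LK LD1_c6 LD2_c50 LD3_c36)) = (LP (LK LD1_c3 LD2_c25 LD3_c46)) :=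
  Lgr Lrot11 (Lpr_ct (f94983 IH) (Lpn (LP (LK LD1_c3 LD2_c25 LD3_c46))))
theorem f61842 : Led Lsl_et (LP (LK LD1_c5 LD2_c53 LD3_c35)) = (LP (LK LD1_c2 LD2_c53 LD3_c7)) :=
  Lre_e IH (LK LD1_c5 LD2_c53 LD3_c35) (LK LD1_c2 LD2_c53 LD3_c7) Lrfl Lrfl
theorem f61844 : Led Lsl_bf (LP (LK LD1_c5 LD2_c53 LD3_c35)) = (LP (LK LD1_c6 LD2_c50 LD3_c36)) :=
  Lgr Lrot96 (Lpr_et (f61842 IH) (Lpr_bt (K5.f61826 IH) (Lpr_et (f61843 IH) (Lpn (LP (LK LD1_c6 LD2_c50 LD3_c36))))))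
theorem f61849 : Led Lsl_ct (LP (LK LD1_c5 LD2_c53 LD3_c35)) = (LP (LK LD1_c2 LD2_c53 LD3_c8)) :=
  Lre_c IH (LK LD1_c5 LD2_c53 LD3_c35) (LK LD1_c2 LD2_c53 LD3_c8) Lrfl Lrfl
theorem f61850 : Led Lsl_bt (LP (LK LD1_c2 LD2_c53 LD3_c8)) = (LP (LK LD1_c5 LD2_c53 LD3_c25)) :=
  Lre_b IH (LK LD1_c2 LD2_c53 LD3_c8) (LK LD1_c5 LD2_c53 LD3_c25) Lrfl Lrfl
theorem f95219 : Led Lsl_bt (LP (LK LD1_c6 LD2_c53 LD3_c17)) = (LP (LK LD1_c3 LD2_c25 LD3_c46)) :=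
  Lre_b IH (LK LD1_c6 LD2_c53 LD3_c17) (LK LD1_c3 LD2_c25 LD3_c46) Lrfl Lrfl
theorem f95220 : Led Lsl_ct (LP (LK LD1_c5 LD2_c53 LD3_c25)) = (LP (LK LD1_c6 LD2_c53 LD3_c17)) :=
  Lgr Lrot83 (Lpe (f61850 IH) (Lpe (f61849 IH) (Lpr_bf (f61844 IH) (Lpr_cf (f95196 IH) (Lpe (f95219 IH) (Lpn (LP (LK LD1_c6 LD2_c53 LD3_c17))))))))
theorem f72409 : Led Lsl_et (LP (LK LD1_c2 LD2_c53 LD3_c2)) = (LP (LK LD1_c5 LD2_c53 LD3_c25)) :=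
  Lre_e IH (LK LD1_c2 LD2_c53 LD3_c2) (LK LD1_c5 LD2_c53 LD3_c25) Lrfl Lrfl
theorem f95230 : Led Lsl_et (LP (LK LD1_c6 LD2_c53 LD3_c17)) = (LP (LK LD1_c3 LD2_c25 LD3_c42)) :=
  Lre_e IH (LK LD1_c6 LD2_c53 LD3_c17) (LK LD1_c3 LD2_c25 LD3_c42) Lrfl Lrfl
theorem f95231 : Led Lsl_cf (LP (LK LD1_c2 LD2_c53 LD3_c2)) = (LP (LK LD1_c3 LD2_c25 LD3_c42)) :=
  Lgr Lrot39 (Lpr_et (f72409 IH) (Lpr_ct (f95220 IH) (Lpr_et (f95230 IH) (Lpn (LP (LK LD1_c3 LD2_c25 LD3_c42))))))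
theorem f72399 : Led Lsl_dt (LP (LK LD1_c2 LD2_c55 LD3_c17)) = (LP (LK LD1_c1 LD2_c23 LD3_c36)) :=
  Lre_d IH (LK LD1_c2 LD2_c55 LD3_c17) (LK LD1_c1 LD2_c23 LD3_c36) Lrfl Lrfl
theorem f151567 : Led Lsl_gt (LP (LK LD1_c2 LD2_c49 LD3_c55)) = (LP (LK LD1_c2 LD2_c55 LD3_c17)) :=
  Lgr Lrot180 (Lpe (f137242 IH) (Lpr_gt (K7.f151563 IH) (Lpe (f151565 IH) (Lpr_gt (K4.f95237 IH) (Lpr_dt (f95236 IH) (Lpe (f95231 IH) (Lpe (K5.f72398 IH) (Lpe (K2.f72396 IH) (Lpe (f72399 IH) (Lpn (LP (LK LD1_c2 LD2_c55 LD3_c17))))))))))))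
theorem f72476 : Led Lsl_bt (LP (LK LD1_c1 LD2_c23 LD3_c37)) = (LP (LK LD1_c2 LD2_c55 LD3_c17)) :=
  Lre_b IH (LK LD1_c1 LD2_c23 LD3_c37) (LK LD1_c2 LD2_c55 LD3_c17) Lrfl Lrfl
theorem f72475 : Led Lsl_ct (LP (LK LD1_c1 LD2_c23 LD3_c37)) = (LP (LK LD1_c2 LD2_c55 LD3_c20)) :=
  Lre_c IH (LK LD1_c1 LD2_c23 LD3_c37) (LK LD1_c2 LD2_c55 LD3_c20) Lrfl Lrfl
theorem f74186 : Led Lsl_bf (LP (LK LD1_c2 LD2_c49 LD3_c38)) = (LP (LK LD1_c2 LD2_c27 LD3_c9)) :=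
  Lgr Lrot24 (Lpr_bt (K2.f74174 IH) (Lpn (LP (LK LD1_c2 LD2_c27 LD3_c9))))
theorem f73806 : Led Lsl_ft (LP (LK LD1_c2 LD2_c49 LD3_c38)) = (LP (LK LD1_c2 LD2_c52 LD3_c5)) :=
  Lgr Lrot101 (Lpe (K4.f73627 IH) (Lpr_ff (K2.f73804 IH) (Lpe (K2.f73630 IH) (Lpn (LP (LK LD1_c2 LD2_c52 LD3_c5))))))
theorem f112522 : Led Lsl_gf (LP (LK LD1_c1 LD2_c56 LD3_c28)) = (LP (LK LD1_c2 LD2_c49 LD3_c38)) :=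
  Lgr Lrot47 (Lpr_gt (K5.f112520 IH) (Lpe (K2.f73630 IH) (Lpe (f73806 IH) (Lpn (LP (LK LD1_c2 LD2_c49 LD3_c38))))))
theorem f101601 : Led Lsl_ct (LP (LK LD1_c1 LD2_c56 LD3_c28)) = (LP (LK LD1_c3 LD2_c59 LD3_c34)) :=
  Lre_c IH (LK LD1_c1 LD2_c56 LD3_c28) (LK LD1_c3 LD2_c59 LD3_c34) Lrfl Lrfl
theorem f157633 : Led Lsl_gt (LP (LK LD1_c3 LD2_c59 LD3_c34)) = (LP (LK LD1_c8 LD2_c0 LD3_c0)) :=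
  Lgr Lrot149 (Lpe (f101601 IH) (Lpr_gf (f112522 IH) (Lpr_bf (f74186 IH) (Lpr_ct (K4.f74188 IH) (Lpr_gf (K2.f74502 IH) (Lpe (f72475 IH) (Lpr_bt (f72476 IH) (Lpe (f151567 IH) (Lpe (f137286 IH) (Lpr_ct (f157620 IH) (Lpn (LP (LK LD1_c8 LD2_c0 LD3_c0)))))))))))))
theorem f139430 : Led Lsl_af (LP (LK LD1_c3 LD2_c59 LD3_c24)) = (LP (LK LD1_c5 LD2_c47 LD3_c29)) :=
  Lgr Lrot0 (Lpr_at (K6.f139418 IH) (Lpn (LP (LK LD1_c5 LD2_c47 LD3_c29))))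
theorem f157637 : Led Lsl_ft (LP (LK LD1_c3 LD2_c59 LD3_c34)) = (LP (LK LD1_c5 LD2_c47 LD3_c29)) :=
  Lgr Lrot2 (Lpr_gt (f157633 IH) (Lpr_gt (f150233 IH) (Lpr_af (f139430 IH) (Lpn (LP (LK LD1_c5 LD2_c47 LD3_c29))))))
theorem f157659 : Led Lsl_ff (LP (LK LD1_c3 LD2_c59 LD3_c34)) = (LP (LK LD1_c5 LD2_c47 LD3_c29)) :=
  Lgr Lrot3 (Lpr_ft (f157637 IH) (Lpn (LP (LK LD1_c5 LD2_c47 LD3_c29))))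
theorem f112569 : Led Lsl_dt (LP (LK LD1_c3 LD2_c59 LD3_c34)) = (LP (LK LD1_c8 LD2_c0 LD3_c15)) :=
  Lre_d IH (LK LD1_c3 LD2_c59 LD3_c34) (LK LD1_c8 LD2_c0 LD3_c15) Lrfl Lrfl
theorem f74180 : Led Lsl_dt (LP (LK LD1_c11 LD2_c24 LD3_c56)) = (LP (LK LD1_c5 LD2_c47 LD3_c29)) :=
  Lre_d IH (LK LD1_c11 LD2_c24 LD3_c56) (LK LD1_c5 LD2_c47 LD3_c29) Lrfl Lrfl
theorem f157665 : Led Lsl_ft (LP (LK LD1_c8 LD2_c0 LD3_c15)) = (LP (LK LD1_c11 LD2_c24 LD3_c56)) :=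
  Lgr Lrot54 (Lpe (f112569 IH) (Lpr_ff (f157659 IH) (Lpe (f74180 IH) (Lpn (LP (LK LD1_c11 LD2_c24 LD3_c56))))))
theorem f157629 : Led Lsl_cf (LP (LK LD1_c4 LD2_c36 LD3_c46)) = (LP (LK LD1_c8 LD2_c0 LD3_c0)) :=
  Lgr Lrot11 (Lpr_ct (f157620 IH) (Lpn (LP (LK LD1_c8 LD2_c0 LD3_c0))))
theorem f74176 : Led Lsl_gf (LP (LK LD1_c2 LD2_c49 LD3_c43)) = (LP (LK LD1_c2 LD2_c52 LD3_c5)) :=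
  Lgr Lrot47 (Lpr_gt (K6.f73273 IH) (Lpe (K2.f73467 IH) (Lpr_ff (K2.f73815 IH) (Lpn (LP (LK LD1_c2 LD2_c52 LD3_c5))))))
theorem f139504 : Led Lsl_df (LP (LK LD1_c3 LD2_c10 LD3_c43)) = (LP (LK LD1_c4 LD2_c36 LD3_c47)) :=
  Lgr Lrot153 (Lpr_gt (K6.f139498 IH) (Lpr_dt (K2.f40339 IH) (Lpe (K4.f40398 IH) (Lpr_df (K4.f99540 IH) (Lpe (K6.f59538 IH) (Lpr_df (K6.f137979 IH) (Lpr_gf (f74176 IH) (Lpe (K2.f73825 IH) (Lpr_gt (K4.f99596 IH) (Lpn (LP (LK LD1_c4 LD2_c36 LD3_c47))))))))))))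
theorem f73207 : Led Lsl_ft (LP (LK LD1_c1 LD2_c20 LD3_c60)) = (LP (LK LD1_c2 LD2_c49 LD3_c48)) :=
  Lre_f IH (LK LD1_c1 LD2_c20 LD3_c60) (LK LD1_c2 LD2_c49 LD3_c48) Lrfl Lrfl
theorem f73514 : Led Lsl_ct (LP (LK LD1_c0 LD2_c42 LD3_c61)) = (LP (LK LD1_c1 LD2_c20 LD3_c60)) :=
  Lgr Lrot40 (Lpe (K2.f66947 IH) (Lpr_cf (K2.f73510 IH) (Lpe (f73207 IH) (Lpn (LP (LK LD1_c1 LD2_c20 LD3_c60))))))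
theorem f68272 : Led Lsl_bt (LP (LK LD1_c1 LD2_c32 LD3_c53)) = (LP (LK LD1_c0 LD2_c42 LD3_c61)) :=
  Lre_b IH (LK LD1_c1 LD2_c32 LD3_c53) (LK LD1_c0 LD2_c42 LD3_c61) Lrfl Lrfl
theorem f68210 : Led Lsl_ct (LP (LK LD1_c3 LD2_c12 LD3_c49)) = (LP (LK LD1_c1 LD2_c32 LD3_c53)) :=
  Lre_c IH (LK LD1_c3 LD2_c12 LD3_c49) (LK LD1_c1 LD2_c32 LD3_c53) Lrfl Lrfl
theorem f73249 : Led Lsl_bt (LP (LK LD1_c1 LD2_c20 LD3_c60)) = (LP (LK LD1_c2 LD2_c49 LD3_c45)) :=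
  Lre_b IH (LK LD1_c1 LD2_c20 LD3_c60) (LK LD1_c2 LD2_c49 LD3_c45) Lrfl Lrfl
theorem f73516 : Led Lsl_ct (LP (LK LD1_c2 LD2_c49 LD3_c45)) = (LP (LK LD1_c5 LD2_c47 LD3_c33)) :=
  Lre_c IH (LK LD1_c2 LD2_c49 LD3_c45) (LK LD1_c5 LD2_c47 LD3_c33) Lrfl Lrfl
theorem f73517 : Led Lsl_bf (LP (LK LD1_c3 LD2_c12 LD3_c49)) = (LP (LK LD1_c5 LD2_c47 LD3_c33)) :=
  Lgr Lrot90 (Lpr_ct (f68210 IH) (Lpr_bt (f68272 IH) (Lpr_ct (f73514 IH) (Lpr_bt (f73249 IH) (Lpr_ct (f73516 IH) (Lpn (LP (LK LD1_c5 LD2_c47 LD3_c33))))))))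
theorem f66851 : Led Lsl_et (LP (LK LD1_c3 LD2_c12 LD3_c49)) = (LP (LK LD1_c1 LD2_c32 LD3_c52)) :=
  Lre_e IH (LK LD1_c3 LD2_c12 LD3_c49) (LK LD1_c1 LD2_c32 LD3_c52) Lrfl Lrfl
theorem f73532 : Led Lsl_et (LP (LK LD1_c2 LD2_c49 LD3_c44)) = (LP (LK LD1_c5 LD2_c47 LD3_c33)) :=
  Lre_e IH (LK LD1_c2 LD2_c49 LD3_c44) (LK LD1_c5 LD2_c47 LD3_c33) Lrfl Lrfl
theorem f73533 : Led Lsl_bt (LP (LK LD1_c1 LD2_c32 LD3_c52)) = (LP (LK LD1_c2 LD2_c49 LD3_c44)) :=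
  Lgr Lrot119 (Lpe (f66851 IH) (Lpr_bf (f73517 IH) (Lpe (f73532 IH) (Lpn (LP (LK LD1_c2 LD2_c49 LD3_c44))))))
theorem f66734 : Led Lsl_bt (LP (LK LD1_c6 LD2_c29 LD3_c34)) = (LP (LK LD1_c3 LD2_c12 LD3_c46)) :=
  Lre_b IH (LK LD1_c6 LD2_c29 LD3_c34) (LK LD1_c3 LD2_c12 LD3_c46) Lrfl Lrfl
theorem f73542 : Led Lsl_at (LP (LK LD1_c2 LD2_c49 LD3_c44)) = (LP (LK LD1_c5 LD2_c47 LD3_c20)) :=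
  Lre_a IH (LK LD1_c2 LD2_c49 LD3_c44) (LK LD1_c5 LD2_c47 LD3_c20) Lrfl Lrfl
theorem f73543 : Led Lsl_bt (LP (LK LD1_c5 LD2_c47 LD3_c20)) = (LP (LK LD1_c11 LD2_c24 LD3_c44)) :=
  Lre_b IH (LK LD1_c5 LD2_c47 LD3_c20) (LK LD1_c11 LD2_c24 LD3_c44) Lrfl Lrfl
theorem f73544 : Led Lsl_af (LP (LK LD1_c6 LD2_c29 LD3_c34)) = (LP (LK LD1_c11 LD2_c24 LD3_c44)) :=
  Lgr Lrot36 (Lpr_bt (f66734 IH) (Lpr_at (K2.f66664 IH) (Lpr_bt (f73533 IH) (Lpr_at (f73542 IH) (Lpr_bt (f73543 IH) (Lpn (LP (LK LD1_c11 LD2_c24 LD3_c44))))))))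
theorem f73997 : Led Lsl_ff (LP (LK LD1_c11 LD2_c24 LD3_c44)) = (LP (LK LD1_c11 LD2_c30 LD3_c41)) :=
  Lgr Lrot30 (Lpe (f73544 IH) (Lpe (K2.f66876 IH) (Lpr_at (K2.f73992 IH) (Lpn (LP (LK LD1_c11 LD2_c30 LD3_c41))))))
theorem f74157 : Led Lsl_ft (LP (LK LD1_c11 LD2_c24 LD3_c44)) = (LP (LK LD1_c11 LD2_c30 LD3_c41)) :=
  Lgr Lrot48 (Lpr_ff (f73997 IH) (Lpn (LP (LK LD1_c11 LD2_c30 LD3_c41))))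
theorem f74161 : Led Lsl_ff (LP (LK LD1_c5 LD2_c47 LD3_c20)) = (LP (LK LD1_c5 LD2_c51 LD3_c42)) :=
  Lgr Lrot25 (Lpr_bt (f73543 IH) (Lpr_ft (f74157 IH) (Lpr_bt (K2.f73985 IH) (Lpn (LP (LK LD1_c5 LD2_c51 LD3_c42))))))
theorem f73575 : Led Lsl_at (LP (LK LD1_c5 LD2_c47 LD3_c20)) = (LP (LK LD1_c2 LD2_c49 LD3_c44)) :=
  Lre_a IH (LK LD1_c5 LD2_c47 LD3_c20) (LK LD1_c2 LD2_c49 LD3_c44) Lrfl Lrfl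
theorem f99609 : Led Lsl_gf (LP (LK LD1_c2 LD2_c49 LD3_c44)) = (LP (LK LD1_c4 LD2_c36 LD3_c47)) :=
  Lgr Lrot76 (Lpe (f73575 IH) (Lpr_ff (f74161 IH) (Lpr_gt (K4.f99596 IH) (Lpn (LP (LK LD1_c4 LD2_c36 LD3_c47))))))
theorem f26500 : Led Lsl_ct (LP (LK LD1_c2 LD2_c57 LD3_c0)) = (LP (LK LD1_c2 LD2_c51 LD3_c15)) :=
  Lgr Lrot59 (Lpr_cf (K6.f26490 IH) (Lpn (LP (LK LD1_c2 LD2_c51 LD3_c15))))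
theorem f26493 : Led Lsl_ct (LP (LK LD1_c1 LD2_c21 LD3_c42)) = (LP (LK LD1_c2 LD2_c51 LD3_c16)) :=
  Lre_c IH (LK LD1_c1 LD2_c21 LD3_c42) (LK LD1_c2 LD2_c51 LD3_c16) Lrfl Lrfl
theorem f26512 : Led Lsl_cf (LP (LK LD1_c6 LD2_c1 LD3_c48)) = (LP (LK LD1_c5 LD2_c50 LD3_c11)) :=
  Lgr Lrot97 (Lpr_bt (K6.f26510 IH) (Lpr_ct (f26500 IH) (Lpr_bt (K6.f26489 IH) (Lpr_ct (f26493 IH) (Lpr_bt (K6.f26511 IH) (Lpn (LP (LK LD1_c5 LD2_c50 LD3_c11))))))))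
theorem f139506 : Led Lsl_df (LP (LK LD1_c5 LD2_c47 LD3_c26)) = (LP (LK LD1_c6 LD2_c1 LD3_c48)) :=
  Lgr Lrot162 (Lpe (K4.f59467 IH) (Lpe (K4.f59455 IH) (Lpe (K7.f73416 IH) (Lpr_gf (f99609 IH) (Lpe (f139504 IH) (Lpr_gt (K6.f139498 IH) (Lpr_ct (K4.f40352 IH) (Lpe (K6.f139489 IH) (Lpe (f26512 IH) (Lpn (LP (LK LD1_c6 LD2_c1 LD3_c48))))))))))))
theorem f139510 : Led Lsl_dt (LP (LK LD1_c5 LD2_c47 LD3_c26)) = (LP (LK LD1_c6 LD2_c1 LD3_c48)) :=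
  Lgr Lrot42 (Lpr_df (f139506 IH) (Lpn (LP (LK LD1_c6 LD2_c1 LD3_c48))))
theorem f139516 : Led Lsl_df (LP (LK LD1_c4 LD2_c36 LD3_c47)) = (LP (LK LD1_c3 LD2_c10 LD3_c43)) :=
  Lgr Lrot155 (Lpe (f99609 IH) (Lpr_ct (K7.f73416 IH) (Lpr_gt (K4.f59455 IH) (Lpr_ct (K4.f59467 IH) (Lpr_dt (f139510 IH) (Lpr_cf (f26512 IH) (Lpr_gf (K6.f139489 IH) (Lpe (K4.f40352 IH) (Lpe (K6.f139498 IH) (Lpn (LP (LK LD1_c3 LD2_c10 LD3_c43))))))))))))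
theorem f129255 : Led Lsl_gt (LP (LK LD1_c6 LD2_c42 LD3_c9)) = (LP (LK LD1_c3 LD2_c19 LD3_c3)) :=
  Lre_g IH (LK LD1_c6 LD2_c42 LD3_c9) (LK LD1_c3 LD2_c19 LD3_c3) Lrfl Lrfl
theorem f139791 : Led Lsl_ct (LP (LK LD1_c12 LD2_c49 LD3_c26)) = (LP (LK LD1_c6 LD2_c42 LD3_c9)) :=
  Lre_c IH (LK LD1_c12 LD2_c49 LD3_c26) (LK LD1_c6 LD2_c42 LD3_c9) Lrfl Lrfl
theorem f157639 : Led Lsl_gt (LP (LK LD1_c8 LD2_c0 LD3_c15)) = (LP (LK LD1_c12 LD2_c49 LD3_c26)) :=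
  Lgr Lrot9 (Lpe (f112569 IH) (Lpr_gt (f157633 IH) (Lpe (f157629 IH) (Lpr_gt (f100334 IH) (Lpr_ct (K4.f99611 IH) (Lpr_df (f139516 IH) (Lpe (K6.f139779 IH) (Lpe (f129255 IH) (Lpe (f139791 IH) (Lpn (LP (LK LD1_c12 LD2_c49 LD3_c26))))))))))))
theorem f139422 : Led Lsl_dt (LP (LK LD1_c8 LD2_c0 LD3_c2)) = (LP (LK LD1_c3 LD2_c59 LD3_c24)) :=
  Lre_d IH (LK LD1_c8 LD2_c0 LD3_c2) (LK LD1_c3 LD2_c59 LD3_c24) Lrfl Lrfl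
theorem f74179 : Led Lsl_dt (LP (LK LD1_c5 LD2_c47 LD3_c29)) = (LP (LK LD1_c11 LD2_c24 LD3_c56)) :=
  Lre_d IH (LK LD1_c5 LD2_c47 LD3_c29) (LK LD1_c11 LD2_c24 LD3_c56) Lrfl Lrfl
theorem f139433 : Led Lsl_af (LP (LK LD1_c8 LD2_c0 LD3_c2)) = (LP (LK LD1_c11 LD2_c24 LD3_c56)) :=
  Lgr Lrot117 (Lpr_dt (f139422 IH) (Lpr_at (K6.f139418 IH) (Lpr_dt (f74179 IH) (Lpn (LP (LK LD1_c11 LD2_c24 LD3_c56))))))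
theorem f157669 : Led Lsl_gt (LP (LK LD1_c12 LD2_c49 LD3_c26)) = (LP (LK LD1_c8 LD2_c0 LD3_c2)) :=
  Lgr Lrot46 (Lpe (f157639 IH) (Lpr_ft (f157665 IH) (Lpe (f139433 IH) (Lpn (LP (LK LD1_c8 LD2_c0 LD3_c2))))))
theorem f60866 : Led Lsl_ct (LP (LK LD1_c1 LD2_c28 LD3_c24)) = (LP (LK LD1_c3 LD2_c4 LD3_c42)) :=
  Lre_c IH (LK LD1_c1 LD2_c28 LD3_c24) (LK LD1_c3 LD2_c4 LD3_c42) Lrfl Lrfl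
theorem f73836 : Led Lsl_gt (LP (LK LD1_c3 LD2_c4 LD3_c42)) = (LP (LK LD1_c3 LD2_c5 LD3_c2)) :=
  Lre_g IH (LK LD1_c3 LD2_c4 LD3_c42) (LK LD1_c3 LD2_c5 LD3_c2) Lrfl Lrfl
theorem f73837 : Led Lsl_ct (LP (LK LD1_c3 LD2_c5 LD3_c2)) = (LP (LK LD1_c1 LD2_c28 LD3_c35)) :=
  Lre_c IH (LK LD1_c3 LD2_c5 LD3_c2) (LK LD1_c1 LD2_c28 LD3_c35) Lrfl Lrfl
theorem f73838 : Led Lsl_dt (LP (LK LD1_c1 LD2_c28 LD3_c35)) = (LP (LK LD1_c3 LD2_c5 LD3_c3)) :=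
  Lre_d IH (LK LD1_c1 LD2_c28 LD3_c35) (LK LD1_c3 LD2_c5 LD3_c3) Lrfl Lrfl
theorem f73839 : Led Lsl_ct (LP (LK LD1_c6 LD2_c15 LD3_c57)) = (LP (LK LD1_c3 LD2_c5 LD3_c3)) :=
  Lre_c IH (LK LD1_c6 LD2_c15 LD3_c57) (LK LD1_c3 LD2_c5 LD3_c3) Lrfl Lrfl
theorem f149355 : Led Lsl_gf (LP (LK LD1_c6 LD2_c15 LD3_c57)) = (LP (LK LD1_c3 LD2_c59 LD3_c24)) :=
  Lgr Lrot104 (Lpr_ct (f73839 IH) (Lpe (f73838 IH) (Lpe (f73837 IH) (Lpe (f73836 IH) (Lpe (f60866 IH) (Lpe (K4.f60852 IH) (Lpr_df (K2.f73819 IH) (Lpr_gt (K7.f149347 IH) (Lpr_ct (K6.f59886 IH) (Lpn (LP (LK LD1_c3 LD2_c59 LD3_c24))))))))))))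
theorem f129112 : Led Lsl_dt (LP (LK LD1_c6 LD2_c15 LD3_c57)) = (LP (LK LD1_c12 LD2_c9 LD3_c30)) :=
  Lre_d IH (LK LD1_c6 LD2_c15 LD3_c57) (LK LD1_c12 LD2_c9 LD3_c30) Lrfl Lrfl
theorem f68458 : Led Lsl_bt (LP (LK LD1_c1 LD2_c33 LD3_c37)) = (LP (LK LD1_c3 LD2_c14 LD3_c7)) :=
  Lre_b IH (LK LD1_c1 LD2_c33 LD3_c37) (LK LD1_c3 LD2_c14 LD3_c7) Lrfl Lrfl
theorem f68472 : Led Lsl_gt (LP (LK LD1_c3 LD2_c14 LD3_c7)) = (LP (LK LD1_c6 LD2_c31 LD3_c52)) :=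
  Lre_g IH (LK LD1_c3 LD2_c14 LD3_c7) (LK LD1_c6 LD2_c31 LD3_c52) Lrfl Lrfl
theorem f35230 : Led Lsl_dt (LP (LK LD1_c2 LD2_c9 LD3_c47)) = (LP (LK LD1_c1 LD2_c1 LD3_c60)) :=
  Lre_d IH (LK LD1_c2 LD2_c9 LD3_c47) (LK LD1_c1 LD2_c1 LD3_c60) Lrfl Lrfl
theorem f117649 : Led Lsl_bt (LP (LK LD1_c6 LD2_c24 LD3_c31)) = (LP (LK LD1_c3 LD2_c9 LD3_c55)) :=
  Lre_b IH (LK LD1_c6 LD2_c24 LD3_c31) (LK LD1_c3 LD2_c9 LD3_c55) Lrfl Lrfl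
theorem f117672 : Led Lsl_ct (LP (LK LD1_c12 LD2_c22 LD3_c2)) = (LP (LK LD1_c6 LD2_c24 LD3_c31)) :=
  Lre_c IH (LK LD1_c12 LD2_c22 LD3_c2) (LK LD1_c6 LD2_c24 LD3_c31) Lrfl Lrfl
theorem f129103 : Led Lsl_dt (LP (LK LD1_c6 LD2_c31 LD3_c52)) = (LP (LK LD1_c12 LD2_c22 LD3_c2)) :=
  Lgr Lrot182 (Lpe (f68472 IH) (Lpe (f68458 IH) (Lpr_cf (K5.f68358 IH) (Lpr_df (K5.f129093 IH) (Lpr_gf (K3.f84637 IH) (Lpe (K2.f66759 IH) (Lpe (K2.f13669 IH) (Lpe (K3.f78204 IH) (Lpe (K3.f35343 IH) (Lpe (K2.f35342 IH) (Lpe (K0.f20076 IH) (Lpe (K0.f26607 IH) (Lpe (K0.f25181 IH) (Lpe (K2.f26599 IH) (Lpe (K2.f34755 IH) (Lpe (f35230 IH) (Lpe (K4.f117647 IH) (Lpe (f117649 IH) (Lpe (f117672 IH) (Lpn (LP (LK LD1_c12 LD2_c22 LD3_c2))))))))))))))))))))))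
theorem f129105 : Led Lsl_df (LP (LK LD1_c6 LD2_c31 LD3_c52)) = (LP (LK LD1_c12 LD2_c22 LD3_c2)) :=
  Lgr Lrot38 (Lpr_dt (f129103 IH) (Lpn (LP (LK LD1_c12 LD2_c22 LD3_c2))))
theorem f117623 : Led Lsl_ct (LP (LK LD1_c6 LD2_c24 LD3_c31)) = (LP (LK LD1_c12 LD2_c22 LD3_c2)) :=
  Lre_c IH (LK LD1_c6 LD2_c24 LD3_c31) (LK LD1_c12 LD2_c22 LD3_c2) Lrfl Lrfl
theorem f117622 : Led Lsl_dt (LP (LK LD1_c3 LD2_c9 LD3_c54)) = (LP (LK LD1_c6 LD2_c24 LD3_c31)) :=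
  Lre_d IH (LK LD1_c3 LD2_c9 LD3_c54) (LK LD1_c6 LD2_c24 LD3_c31) Lrfl Lrfl
theorem f117615 : Led Lsl_bt (LP (LK LD1_c1 LD2_c31 LD3_c5)) = (LP (LK LD1_c3 LD2_c9 LD3_c54)) :=
  Lre_b IH (LK LD1_c1 LD2_c31 LD3_c5) (LK LD1_c3 LD2_c9 LD3_c54) Lrfl Lrfl
theorem f36560 : Led Lsl_bt (LP (LK LD1_c4 LD2_c23 LD3_c56)) = (LP (LK LD1_c2 LD2_c9 LD3_c23)) :=
  Lre_b IH (LK LD1_c4 LD2_c23 LD3_c56) (LK LD1_c2 LD2_c9 LD3_c23) Lrfl Lrfl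
theorem f117616 : Led Lsl_ft (LP (LK LD1_c3 LD2_c9 LD3_c54)) = (LP (LK LD1_c4 LD2_c23 LD3_c56)) :=
  Lgr Lrot75 (Lpe (f117615 IH) (Lpr_ff (K4.f117611 IH) (Lpe (f36560 IH) (Lpn (LP (LK LD1_c4 LD2_c23 LD3_c56))))))
theorem f80251 : Led Lsl_bt (LP (LK LD1_c1 LD2_c28 LD3_c35)) = (LP (LK LD1_c0 LD2_c40 LD3_c58)) :=
  Lre_b IH (LK LD1_c1 LD2_c28 LD3_c35) (LK LD1_c0 LD2_c40 LD3_c58) Lrfl Lrfl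
theorem f80987 : Led Lsl_bt (LP (LK LD1_c4 LD2_c24 LD3_c11)) = (LP (LK LD1_c3 LD2_c5 LD3_c2)) :=
  Lgr Lrot128 (Lpe (K5.f80682 IH) (Lpr_bf (K5.f80913 IH) (Lpe (K6.f80267 IH) (Lpe (f80251 IH) (Lpe (f73837 IH) (Lpn (LP (LK LD1_c3 LD2_c5 LD3_c2))))))))
theorem f118910 : Led Lsl_at (LP (LK LD1_c3 LD2_c5 LD3_c2)) = (LP (LK LD1_c4 LD2_c23 LD3_c56)) :=
  Lgr Lrot67 (Lpe (f80987 IH) (Lpr_af (K5.f118906 IH) (Lpe (K6.f117517 IH) (Lpr_af (K4.f117556 IH) (Lpe (f36560 IH) (Lpn (LP (LK LD1_c4 LD2_c23 LD3_c56))))))))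
theorem f119075 : Led Lsl_af (LP (LK LD1_c3 LD2_c5 LD3_c2)) = (LP (LK LD1_c4 LD2_c23 LD3_c56)) :=
  Lgr Lrot0 (Lpr_at (f118910 IH) (Lpn (LP (LK LD1_c4 LD2_c23 LD3_c56))))
theorem f80250 : Led Lsl_ct (LP (LK LD1_c1 LD2_c28 LD3_c35)) = (LP (LK LD1_c3 LD2_c5 LD3_c2)) :=
  Lre_c IH (LK LD1_c1 LD2_c28 LD3_c35) (LK LD1_c3 LD2_c5 LD3_c2) Lrfl Lrfl
theorem f79702 : Led Lsl_dt (LP (LK LD1_c3 LD2_c5 LD3_c3)) = (LP (LK LD1_c1 LD2_c28 LD3_c35)) :=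
  Lre_d IH (LK LD1_c3 LD2_c5 LD3_c3) (LK LD1_c1 LD2_c28 LD3_c35) Lrfl Lrfl
theorem f119079 : Led Lsl_dt (LP (LK LD1_c12 LD2_c9 LD3_c30)) = (LP (LK LD1_c6 LD2_c15 LD3_c57)) :=
  Lre_d IH (LK LD1_c12 LD2_c9 LD3_c30) (LK LD1_c6 LD2_c15 LD3_c57) Lrfl Lrfl
theorem f129110 : Led Lsl_ct (LP (LK LD1_c6 LD2_c31 LD3_c52)) = (LP (LK LD1_c12 LD2_c9 LD3_c30)) :=
  Lgr Lrot41 (Lpr_df (f129105 IH) (Lpe (f117623 IH) (Lpe (f117622 IH) (Lpr_ft (f117616 IH) (Lpe (f119075 IH) (Lpe (f80250 IH) (Lpe (f79702 IH) (Lpe (f73839 IH) (Lpe (f119079 IH) (Lpn (LP (LK LD1_c12 LD2_c9 LD3_c30))))))))))))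
theorem f73326 : Led Lsl_gt (LP (LK LD1_c2 LD2_c49 LD3_c41)) = (LP (LK LD1_c5 LD2_c47 LD3_c23)) :=
  Lre_g IH (LK LD1_c2 LD2_c49 LD3_c41) (LK LD1_c5 LD2_c47 LD3_c23) Lrfl Lrfl
theorem f60875 : Led Lsl_dt (LP (LK LD1_c3 LD2_c4 LD3_c46)) = (LP (LK LD1_c6 LD2_c15 LD3_c24)) :=
  Lre_d IH (LK LD1_c3 LD2_c4 LD3_c46) (LK LD1_c6 LD2_c15 LD3_c24) Lrfl Lrfl
theorem f73964 : Led Lsl_dt (LP (LK LD1_c11 LD2_c30 LD3_c43)) = (LP (LK LD1_c5 LD2_c51 LD3_c43)) :=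
  Lre_d IH (LK LD1_c11 LD2_c30 LD3_c43) (LK LD1_c5 LD2_c51 LD3_c43) Lrfl Lrfl
theorem f73965 : Led Lsl_df (LP (LK LD1_c1 LD2_c28 LD3_c26)) = (LP (LK LD1_c2 LD2_c52 LD3_c5)) :=
  Lgr Lrot70 (Lpr_et (K4.f60842 IH) (Lpr_dt (f60875 IH) (Lpr_et (K2.f73863 IH) (Lpr_dt (f73964 IH) (Lpr_et (K2.f73828 IH) (Lpn (LP (LK LD1_c2 LD2_c52 LD3_c5))))))))
theorem f73327 : Led Lsl_gf (LP (LK LD1_c6 LD2_c14 LD3_c15)) = (LP (LK LD1_c5 LD2_c47 LD3_c23)) :=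
  Lgr Lrot76 (Lpe (K2.f60399 IH) (Lpr_ff (K2.f73308 IH) (Lpr_gt (f73326 IH) (Lpn (LP (LK LD1_c5 LD2_c47 LD3_c23))))))
theorem f59553 : Led Lsl_gt (LP (LK LD1_c1 LD2_c27 LD3_c32)) = (LP (LK LD1_c3 LD2_c3 LD3_c15)) :=
  Lre_g IH (LK LD1_c1 LD2_c27 LD3_c32) (LK LD1_c3 LD2_c3 LD3_c15) Lrfl Lrfl
theorem f99507 : Led Lsl_df (LP (LK LD1_c5 LD2_c47 LD3_c23)) = (LP (LK LD1_c3 LD2_c3 LD3_c15)) :=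
  Lgr Lrot153 (Lpe (f73327 IH) (Lpr_dt (K2.f60664 IH) (Lpr_cf (K2.f60864 IH) (Lpr_df (f73965 IH) (Lpe (K4.f73823 IH) (Lpr_df (K4.f99497 IH) (Lpe (K4.f36621 IH) (Lpe (K6.f69322 IH) (Lpr_gt (f59553 IH) (Lpn (LP (LK LD1_c3 LD2_c3 LD3_c15))))))))))))
theorem f59585 : Led Lsl_bt (LP (LK LD1_c0 LD2_c40 LD3_c30)) = (LP (LK LD1_c1 LD2_c27 LD3_c32)) :=
  Lre_b IH (LK LD1_c0 LD2_c40 LD3_c30) (LK LD1_c1 LD2_c27 LD3_c32) Lrfl Lrfl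
theorem f22483 : Led Lsl_ct (LP (LK LD1_c0 LD2_c43 LD3_c24)) = (LP (LK LD1_c0 LD2_c19 LD3_c22)) :=
  Lre_c IH (LK LD1_c0 LD2_c43 LD3_c24) (LK LD1_c0 LD2_c19 LD3_c22) Lrfl Lrfl
theorem f22641 : Led Lsl_bt (LP (LK LD1_c6 LD2_c32 LD3_c0)) = (LP (LK LD1_c3 LD2_c14 LD3_c11)) :=
  Lre_b IH (LK LD1_c6 LD2_c32 LD3_c0) (LK LD1_c3 LD2_c14 LD3_c11) Lrfl Lrfl
theorem f99515 : Led Lsl_ct (LP (LK LD1_c5 LD2_c47 LD3_c23)) = (LP (LK LD1_c6 LD2_c32 LD3_c0)) :=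
  Lgr Lrot191 (Lpr_df (f99507 IH) (Lpe (f59553 IH) (Lpe (f59585 IH) (Lpe (K2.f59535 IH) (Lpe (K1.f59581 IH) (Lpe (K1.f59582 IH) (Lpe (K1.f36416 IH) (Lpe (K0.f7013 IH) (Lpe (K0.f20256 IH) (Lpr_gf (K0.f25722 IH) (Lpe (K0.f13611 IH) (Lpe (K0.f13623 IH) (Lpe (K0.f13632 IH) (Lpe (K4.f68333 IH) (Lpe (K5.f22482 IH) (Lpe (f22483 IH) (Lpe (K6.f22616 IH) (Lpe (K6.f22640 IH) (Lpe (f22641 IH) (Lpn (LP (LK LD1_c6 LD2_c32 LD3_c0))))))))))))))))))))))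
theorem f117673 : Led Lsl_gf (LP (LK LD1_c12 LD2_c22 LD3_c2)) = (LP (LK LD1_c6 LD2_c32 LD3_c0)) :=
  Lgr Lrot129 (Lpe (f117623 IH) (Lpr_bt (f117649 IH) (Lpr_gt (K4.f117647 IH) (Lpe (K4.f36154 IH) (Lpe (K2.f38236 IH) (Lpr_gt (K2.f69359 IH) (Lpe (K1.f60403 IH) (Lpr_bt (K6.f73313 IH) (Lpr_gt (f73326 IH) (Lpr_ct (f99515 IH) (Lpn (LP (LK LD1_c6 LD2_c32 LD3_c0)))))))))))))
theorem f157671 : Led Lsl_dt (LP (LK LD1_c3 LD2_c19 LD3_c3)) = (LP (LK LD1_c6 LD2_c32 LD3_c0)) :=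
  Lgr Lrot57 (Lpe (f129255 IH) (Lpe (f139791 IH) (Lpr_gt (f157669 IH) (Lpr_dt (f139422 IH) (Lpe (f149355 IH) (Lpr_dt (f129112 IH) (Lpe (f129110 IH) (Lpr_df (f129105 IH) (Lpr_gf (f117673 IH) (Lpn (LP (LK LD1_c6 LD2_c32 LD3_c0))))))))))))
theorem f157675 : Led Lsl_df (LP (LK LD1_c3 LD2_c19 LD3_c3)) = (LP (LK LD1_c6 LD2_c32 LD3_c0)) :=
  Lgr Lrot38 (Lpr_dt (f157671 IH) (Lpn (LP (LK LD1_c6 LD2_c32 LD3_c0))))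
theorem f129259 : Led Lsl_ff (LP (LK LD1_c3 LD2_c42 LD3_c30)) = (LP (LK LD1_c3 LD2_c19 LD3_c3)) :=
  Lgr Lrot25 (Lpr_bt (K7.f124139 IH) (Lpr_ft (K5.f129253 IH) (Lpr_bt (K7.f129237 IH) (Lpn (LP (LK LD1_c3 LD2_c19 LD3_c3))))))
theorem f125622 : Led Lsl_bt (LP (LK LD1_c7 LD2_c25 LD3_c21)) = (LP (LK LD1_c3 LD2_c42 LD3_c20)) :=
  Lre_b IH (LK LD1_c7 LD2_c25 LD3_c21) (LK LD1_c3 LD2_c42 LD3_c20) Lrfl Lrfl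
theorem f125623 : Led Lsl_df (LP (LK LD1_c7 LD2_c25 LD3_c21)) = (LP (LK LD1_c3 LD2_c42 LD3_c30)) :=
  Lgr Lrot12 (Lpr_bt (f125622 IH) (Lpr_dt (K6.f125620 IH) (Lpr_bt (K7.f124122 IH) (Lpn (LP (LK LD1_c3 LD2_c42 LD3_c30))))))
theorem f157679 : Led Lsl_ft (LP (LK LD1_c7 LD2_c25 LD3_c21)) = (LP (LK LD1_c6 LD2_c32 LD3_c0)) :=
  Lgr Lrot54 (Lpr_df (f125623 IH) (Lpr_ff (f129259 IH) (Lpr_df (f157675 IH) (Lpn (LP (LK LD1_c6 LD2_c32 LD3_c0))))))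
theorem f157684 : Led Lsl_ff (LP (LK LD1_c7 LD2_c25 LD3_c21)) = (LP (LK LD1_c6 LD2_c32 LD3_c0)) :=
  Lgr Lrot3 (Lpr_ft (f157679 IH) (Lpn (LP (LK LD1_c6 LD2_c32 LD3_c0))))
theorem f99592 : Led Lsl_ct (LP (LK LD1_c4 LD2_c36 LD3_c44)) = (LP (LK LD1_c9 LD2_c9 LD3_c26)) :=
  Lre_c IH (LK LD1_c4 LD2_c36 LD3_c44) (LK LD1_c9 LD2_c9 LD3_c26) Lrfl Lrfl
theorem f157690 : Led Lsl_at (LP (LK LD1_c7 LD2_c25 LD3_c21)) = (LP (LK LD1_c9 LD2_c9 LD3_c26)) :=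
  Lgr Lrot33 (Lpr_ff (f157684 IH) (Lpe (f157675 IH) (Lpr_ct (K6.f139779 IH) (Lpe (f139516 IH) (Lpr_ct (K4.f99595 IH) (Lpr_dt (K4.f99594 IH) (Lpr_ct (K4.f69324 IH) (Lpr_dt (K6.f99590 IH) (Lpr_ct (f99592 IH) (Lpn (LP (LK LD1_c9 LD2_c9 LD3_c26))))))))))))
theorem f125630 : Led Lsl_at (LP (LK LD1_c7 LD2_c25 LD3_c41)) = (LP (LK LD1_c3 LD2_c42 LD3_c30)) :=
  Lre_a IH (LK LD1_c7 LD2_c25 LD3_c41) (LK LD1_c3 LD2_c42 LD3_c30) Lrfl Lrfl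
theorem f157697 : Led Lsl_df (LP (LK LD1_c7 LD2_c25 LD3_c41)) = (LP (LK LD1_c9 LD2_c9 LD3_c26)) :=
  Lgr Lrot18 (Lpr_at (f125630 IH) (Lpe (f125623 IH) (Lpr_at (f157690 IH) (Lpn (LP (LK LD1_c9 LD2_c9 LD3_c26))))))
theorem f157730 : Led Lsl_dt (LP (LK LD1_c7 LD2_c25 LD3_c41)) = (LP (LK LD1_c9 LD2_c9 LD3_c26)) :=
  Lgr Lrot42 (Lpr_df (f157697 IH) (Lpn (LP (LK LD1_c9 LD2_c9 LD3_c26))))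
theorem f99591 : Led Lsl_ct (LP (LK LD1_c9 LD2_c9 LD3_c26)) = (LP (LK LD1_c4 LD2_c36 LD3_c44)) :=
  Lre_c IH (LK LD1_c9 LD2_c9 LD3_c26) (LK LD1_c4 LD2_c36 LD3_c44) Lrfl Lrfl
theorem f99604 : Led Lsl_dt (LP (LK LD1_c4 LD2_c36 LD3_c44)) = (LP (LK LD1_c2 LD2_c15 LD3_c35)) :=
  Lre_d IH (LK LD1_c4 LD2_c36 LD3_c44) (LK LD1_c2 LD2_c15 LD3_c35) Lrfl Lrfl
theorem f99598 : Led Lsl_dt (LP (LK LD1_c1 LD2_c4 LD3_c51)) = (LP (LK LD1_c2 LD2_c15 LD3_c36)) :=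
  Lre_d IH (LK LD1_c1 LD2_c4 LD3_c51) (LK LD1_c2 LD2_c15 LD3_c36) Lrfl Lrfl
theorem f124569 : Led Lsl_bt (LP (LK LD1_c0 LD2_c19 LD3_c10)) = (LP (LK LD1_c0 LD2_c22 LD3_c46)) :=
  Lgr Lrot128 (Lpe (K5.f23594 IH) (Lpr_bf (K5.f124567 IH) (Lpe (K3.f12349 IH) (Lpe (K4.f107282 IH) (Lpe (K3.f23676 IH) (Lpn (LP (LK LD1_c0 LD2_c22 LD3_c46))))))))
theorem f125531 : Led Lsl_bt (LP (LK LD1_c0 LD2_c50 LD3_c23)) = (LP (LK LD1_c0 LD2_c42 LD3_c27)) :=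
  Lgr Lrot95 (Lpe (K4.f107291 IH) (Lpe (f124569 IH) (Lpr_df (K5.f125523 IH) (Lpn (LP (LK LD1_c0 LD2_c42 LD3_c27))))))
theorem f129249 : Led Lsl_ct (LP (LK LD1_c3 LD2_c10 LD3_c43)) = (LP (LK LD1_c3 LD2_c19 LD3_c3)) :=
  Lgr Lrot83 (Lpe (K6.f69140 IH) (Lpe (K5.f125475 IH) (Lpe (f125531 IH) (Lpr_cf (K5.f129241 IH) (Lpe (K6.f124073 IH) (Lpn (LP (LK LD1_c3 LD2_c19 LD3_c3))))))))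
theorem f157733 : Led Lsl_ft (LP (LK LD1_c7 LD2_c25 LD3_c41)) = (LP (LK LD1_c6 LD2_c42 LD3_c10)) :=
  Lgr Lrot142 (Lpr_dt (f157730 IH) (Lpr_ct (f99591 IH) (Lpr_dt (f99604 IH) (Lpr_ct (K4.f99593 IH) (Lpr_dt (f99598 IH) (Lpr_ct (K4.f99611 IH) (Lpe (f139504 IH) (Lpr_ct (f129249 IH) (Lpe (K7.f139524 IH) (Lpn (LP (LK LD1_c6 LD2_c42 LD3_c10))))))))))))
theorem f141168 : Led Lsl_ct (LP (LK LD1_c6 LD2_c42 LD3_c10)) = (LP (LK LD1_c6 LD2_c25 LD3_c51)) :=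
  Lgr Lrot59 (Lpr_cf (K7.f139788 IH) (Lpn (LP (LK LD1_c6 LD2_c25 LD3_c51))))
theorem f139526 : Led Lsl_af (LP (LK LD1_c6 LD2_c25 LD3_c50)) = (LP (LK LD1_c3 LD2_c59 LD3_c48)) :=
  Lgr Lrot45 (Lpr_ft (K6.f139501 IH) (Lpr_at (K6.f40351 IH) (Lpe (K2.f40363 IH) (Lpn (LP (LK LD1_c3 LD2_c59 LD3_c48))))))
theorem f14583 : Led Lsl_gt (LP (LK LD1_c3 LD2_c23 LD3_c37)) = (LP (LK LD1_c6 LD2_c50 LD3_c28)) :=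
  Lre_g IH (LK LD1_c3 LD2_c23 LD3_c37) (LK LD1_c6 LD2_c50 LD3_c28) Lrfl Lrfl
theorem f139742 : Led Lsl_gf (LP (LK LD1_c6 LD2_c25 LD3_c50)) = (LP (LK LD1_c6 LD2_c50 LD3_c28)) :=
  Lgr Lrot76 (Lpr_af (f139526 IH) (Lpr_ff (K2.f40363 IH) (Lpr_gt (f14583 IH) (Lpn (LP (LK LD1_c6 LD2_c50 LD3_c28))))))
theorem f139518 : Led Lsl_at (LP (LK LD1_c6 LD2_c25 LD3_c51)) = (LP (LK LD1_c3 LD2_c10 LD3_c43)) :=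
  Lre_a IH (LK LD1_c6 LD2_c25 LD3_c51) (LK LD1_c3 LD2_c10 LD3_c43) Lrfl Lrfl
theorem f139744 : Led Lsl_ff (LP (LK LD1_c6 LD2_c25 LD3_c51)) = (LP (LK LD1_c6 LD2_c50 LD3_c28)) :=
  Lgr Lrot52 (Lpr_at (f139518 IH) (Lpe (K6.f139500 IH) (Lpr_gf (f139742 IH) (Lpn (LP (LK LD1_c6 LD2_c50 LD3_c28))))))
theorem f139752 : Led Lsl_ft (LP (LK LD1_c6 LD2_c25 LD3_c51)) = (LP (LK LD1_c6 LD2_c50 LD3_c28)) :=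
  Lgr Lrot48 (Lpr_ff (f139744 IH) (Lpn (LP (LK LD1_c6 LD2_c50 LD3_c28))))
theorem f157738 : Led Lsl_cf (LP (LK LD1_c7 LD2_c25 LD3_c41)) = (LP (LK LD1_c6 LD2_c50 LD3_c28)) :=
  Lgr Lrot108 (Lpr_ft (f157733 IH) (Lpr_ct (f141168 IH) (Lpr_ft (f139752 IH) (Lpn (LP (LK LD1_c6 LD2_c50 LD3_c28))))))
theorem f139536 : Led Lsl_dt (LP (LK LD1_c6 LD2_c25 LD3_c50)) = (LP (LK LD1_c3 LD2_c59 LD3_c39)) :=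
  Lgr Lrot159 (Lpr_ft (K6.f139501 IH) (Lpr_at (K6.f40351 IH) (Lpe (K2.f14545 IH) (Lpe (K2.f40340 IH) (Lpe (K2.f40073 IH) (Lpe (K1.f40080 IH) (Lpe (K2.f40337 IH) (Lpe (K2.f40317 IH) (Lpe (K4.f40325 IH) (Lpn (LP (LK LD1_c3 LD2_c59 LD3_c39))))))))))))
theorem f56658 : Led Lsl_gt (LP (LK LD1_c2 LD2_c49 LD3_c44)) = (LP (LK LD1_c5 LD2_c47 LD3_c31)) :=
  Lre_g IH (LK LD1_c2 LD2_c49 LD3_c44) (LK LD1_c5 LD2_c47 LD3_c31) Lrfl Lrfl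
theorem f139746 : Led Lsl_dt (LP (LK LD1_c5 LD2_c47 LD3_c31)) = (LP (LK LD1_c6 LD2_c50 LD3_c28)) :=
  Lgr Lrot57 (Lpe (f56658 IH) (Lpe (K2.f56657 IH) (Lpr_gt (K4.f59455 IH) (Lpr_dt (K4.f99504 IH) (Lpe (K4.f99581 IH) (Lpr_dt (K1.f40329 IH) (Lpe (K4.f40325 IH) (Lpe (f139536 IH) (Lpr_gf (f139742 IH) (Lpn (LP (LK LD1_c6 LD2_c50 LD3_c28))))))))))))
theorem f139749 : Led Lsl_df (LP (LK LD1_c5 LD2_c47 LD3_c31)) = (LP (LK LD1_c6 LD2_c50 LD3_c28)) :=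
  Lgr Lrot38 (Lpr_dt (f139746 IH) (Lpn (LP (LK LD1_c6 LD2_c50 LD3_c28))))
theorem f150702 : Led Lsl_ft (LP (LK LD1_c5 LD2_c47 LD3_c31)) = (LP (LK LD1_c5 LD2_c51 LD3_c44)) :=
  Lgr Lrot54 (Lpr_df (f139749 IH) (Lpe (f139752 IH) (Lpr_df (K7.f150696 IH) (Lpn (LP (LK LD1_c5 LD2_c51 LD3_c44))))))
theorem f157860 : Led Lsl_af (LP (LK LD1_c4 LD2_c36 LD3_c47)) = (LP (LK LD1_c5 LD2_c51 LD3_c44)) :=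
  Lgr Lrot109 (Lpe (K4.f99611 IH) (Lpe (f99598 IH) (Lpe (K4.f99593 IH) (Lpe (f99604 IH) (Lpe (f99591 IH) (Lpe (f157730 IH) (Lpr_cf (f157738 IH) (Lpe (f139746 IH) (Lpr_ft (f150702 IH) (Lpn (LP (LK LD1_c5 LD2_c51 LD3_c44))))))))))))
theorem f148985 : Led Lsl_at (LP (LK LD1_c2 LD2_c15 LD3_c36)) = (LP (LK LD1_c4 LD2_c36 LD3_c42)) :=
  Lre_a IH (LK LD1_c2 LD2_c15 LD3_c36) (LK LD1_c4 LD2_c36 LD3_c42) Lrfl Lrfl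
theorem f157862 : Led Lsl_ct (LP (LK LD1_c4 LD2_c36 LD3_c42)) = (LP (LK LD1_c5 LD2_c51 LD3_c44)) :=
  Lgr Lrot111 (Lpe (f148985 IH) (Lpe (K4.f99595 IH) (Lpr_af (f157860 IH) (Lpn (LP (LK LD1_c5 LD2_c51 LD3_c44))))))
theorem f24059 : Led Lsl_ct (LP (LK LD1_c1 LD2_c22 LD3_c3)) = (LP (LK LD1_c2 LD2_c52 LD3_c6)) :=
  Lre_c IH (LK LD1_c1 LD2_c22 LD3_c3) (LK LD1_c2 LD2_c52 LD3_c6) Lrfl Lrfl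
theorem f73817 : Led Lsl_ff (LP (LK LD1_c2 LD2_c49 LD3_c44)) = (LP (LK LD1_c2 LD2_c52 LD3_c6)) :=
  Lgr Lrot23 (Lpr_ct (K7.f73416 IH) (Lpr_ft (K2.f73812 IH) (Lpr_ct (f24059 IH) (Lpn (LP (LK LD1_c2 LD2_c52 LD3_c6))))))
theorem f74172 : Led Lsl_gf (LP (LK LD1_c5 LD2_c47 LD3_c20)) = (LP (LK LD1_c5 LD2_c51 LD3_c44)) :=
  Lgr Lrot76 (Lpe (f73542 IH) (Lpr_ff (f73817 IH) (Lpr_gt (K7.f68337 IH) (Lpn (LP (LK LD1_c5 LD2_c51 LD3_c44))))))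
theorem f73429 : Led Lsl_ct (LP (LK LD1_c2 LD2_c49 LD3_c38)) = (LP (LK LD1_c5 LD2_c47 LD3_c20)) :=
  Lre_c IH (LK LD1_c2 LD2_c49 LD3_c38) (LK LD1_c5 LD2_c47 LD3_c20) Lrfl Lrfl
theorem f125722 : Led Lsl_dt (LP (LK LD1_c9 LD2_c24 LD3_c37)) = (LP (LK LD1_c4 LD2_c46 LD3_c1)) :=
  Lre_d IH (LK LD1_c9 LD2_c24 LD3_c37) (LK LD1_c4 LD2_c46 LD3_c1) Lrfl Lrfl
theorem f138382 : Led Lsl_dt (LP (LK LD1_c9 LD2_c22 LD3_c54)) = (LP (LK LD1_c5 LD2_c54 LD3_c13)) :=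
  Lgr Lrot79 (Lpr_bf (K5.f133159 IH) (Lpe (f125722 IH) (Lpr_bf (f138320 IH) (Lpn (LP (LK LD1_c5 LD2_c54 LD3_c13))))))
theorem f137425 : Led Lsl_ft (LP (LK LD1_c2 LD2_c53 LD3_c40)) = (LP (LK LD1_c3 LD2_c5 LD3_c7)) :=
  Lgr Lrot54 (Lpe (K6.f71139 IH) (Lpr_ff (K6.f137422 IH) (Lpe (K6.f102098 IH) (Lpn (LP (LK LD1_c3 LD2_c5 LD3_c7))))))
theorem f138125 : Led Lsl_cf (LP (LK LD1_c4 LD2_c42 LD3_c48)) = (LP (LK LD1_c5 LD2_c54 LD3_c13)) :=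
  Lgr Lrot11 (Lpr_ct (f138121 IH) (Lpn (LP (LK LD1_c5 LD2_c54 LD3_c13))))
theorem f137319 : Led Lsl_df (LP (LK LD1_c1 LD2_c22 LD3_c51)) = (LP (LK LD1_c1 LD2_c6 LD3_c29)) :=
  Lgr Lrot78 (Lpr_ft (K6.f137315 IH) (Lpr_dt (K6.f83789 IH) (Lpr_ft (K6.f132800 IH) (Lpn (LP (LK LD1_c1 LD2_c6 LD3_c29))))))
theorem f138384 : Led Lsl_at (LP (LK LD1_c3 LD2_c5 LD3_c7)) = (LP (LK LD1_c2 LD2_c53 LD3_c37)) :=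
  Lgr Lrot33 (Lpe (f137425 IH) (Lpr_dt (K6.f71140 IH) (Lpr_ct (K6.f137406 IH) (Lpr_dt (f138382 IH) (Lpe (f138125 IH) (Lpr_dt (K5.f60948 IH) (Lpr_ct (K5.f56603 IH) (Lpe (f137319 IH) (Lpr_ct (K2.f61206 IH) (Lpn (LP (LK LD1_c2 LD2_c53 LD3_c37))))))))))))
theorem f137430 : Led Lsl_at (LP (LK LD1_c5 LD2_c54 LD3_c35)) = (LP (LK LD1_c3 LD2_c23 LD3_c31)) :=
  Lgr Lrot33 (Lpr_ff (K6.f137422 IH) (Lpr_dt (K6.f102101 IH) (Lpr_ct (K6.f80265 IH) (Lpr_dt (K6.f80266 IH) (Lpr_ct (K6.f80267 IH) (Lpr_dt (K5.f80260 IH) (Lpr_ct (K6.f80261 IH) (Lpe (K6.f102099 IH) (Lpr_ct (K6.f91352 IH) (Lpn (LP (LK LD1_c3 LD2_c23 LD3_c31))))))))))))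
theorem f137432 : Led Lsl_af (LP (LK LD1_c2 LD2_c53 LD3_c40)) = (LP (LK LD1_c3 LD2_c4 LD3_c59)) :=
  Lgr Lrot117 (Lpr_dt (K6.f71140 IH) (Lpr_at (f137430 IH) (Lpe (K5.f83773 IH) (Lpn (LP (LK LD1_c3 LD2_c4 LD3_c59))))))
theorem f138394 : Led Lsl_ff (LP (LK LD1_c3 LD2_c4 LD3_c59)) = (LP (LK LD1_c2 LD2_c53 LD3_c37)) :=
  Lgr Lrot30 (Lpe (f137432 IH) (Lpr_ft (f137425 IH) (Lpr_at (f138384 IH) (Lpn (LP (LK LD1_c2 LD2_c53 LD3_c37))))))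
theorem f138398 : Led Lsl_gf (LP (LK LD1_c2 LD2_c53 LD3_c40)) = (LP (LK LD1_c4 LD2_c58 LD3_c57)) :=
  Lgr Lrot76 (Lpr_af (f137432 IH) (Lpr_ff (f138394 IH) (Lpe (K2.f72424 IH) (Lpn (LP (LK LD1_c4 LD2_c58 LD3_c57))))))
theorem f104765 : Led Lsl_bt (LP (LK LD1_c1 LD2_c22 LD3_c52)) = (LP (LK LD1_c2 LD2_c53 LD3_c39)) :=
  Lre_b IH (LK LD1_c1 LD2_c22 LD3_c52) (LK LD1_c2 LD2_c53 LD3_c39) Lrfl Lrfl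
theorem f157868 : Led Lsl_gf (LP (LK LD1_c4 LD2_c36 LD3_c42)) = (LP (LK LD1_c2 LD2_c53 LD3_c39)) :=
  Lgr Lrot181 (Lpr_ct (f157862 IH) (Lpe (f74172 IH) (Lpe (f73429 IH) (Lpr_bt (K2.f74174 IH) (Lpr_gt (K2.f72443 IH) (Lpe (K2.f72435 IH) (Lpr_ct (K2.f72434 IH) (Lpe (f138398 IH) (Lpe (K6.f71138 IH) (Lpr_bt (f104765 IH) (Lpn (LP (LK LD1_c2 LD2_c53 LD3_c39)))))))))))))
theorem f148984 : Led Lsl_ft (LP (LK LD1_c4 LD2_c36 LD3_c49)) = (LP (LK LD1_c2 LD2_c15 LD3_c36)) :=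
  Lre_f IH (LK LD1_c4 LD2_c36 LD3_c49) (LK LD1_c2 LD2_c15 LD3_c36) Lrfl Lrfl
theorem f157870 : Led Lsl_gt (LP (LK LD1_c4 LD2_c36 LD3_c49)) = (LP (LK LD1_c2 LD2_c53 LD3_c39)) :=
  Lgr Lrot5 (Lpr_ft (f148984 IH) (Lpr_at (f148985 IH) (Lpr_gf (f157868 IH) (Lpn (LP (LK LD1_c2 LD2_c53 LD3_c39))))))
theorem f141271 : Led Lsl_bt (LP (LK LD1_c2 LD2_c15 LD3_c48)) = (LP (LK LD1_c4 LD2_c36 LD3_c49)) :=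
  Lre_b IH (LK LD1_c2 LD2_c15 LD3_c48) (LK LD1_c4 LD2_c36 LD3_c49) Lrfl Lrfl
theorem f141272 : Led Lsl_gt (LP (LK LD1_c9 LD2_c9 LD3_c20)) = (LP (LK LD1_c4 LD2_c37 LD3_c13)) :=
  Lre_g IH (LK LD1_c9 LD2_c9 LD3_c20) (LK LD1_c4 LD2_c37 LD3_c13) Lrfl Lrfl
theorem f157875 : Led Lsl_cf (LP (LK LD1_c9 LD2_c9 LD3_c20)) = (LP (LK LD1_c5 LD2_c47 LD3_c52)) :=
  Lgr Lrot160 (Lpr_gt (f141272 IH) (Lpe (K7.f141269 IH) (Lpr_bt (f141271 IH) (Lpr_gt (f157870 IH) (Lpr_ct (K6.f59466 IH) (Lpe (K6.f138819 IH) (Lpe (K6.f74178 IH) (Lpr_bt (K6.f137976 IH) (Lpr_gt (K6.f138780 IH) (Lpr_bf (f132434 IH) (Lpn (LP (LK LD1_c5 LD2_c47 LD3_c52)))))))))))))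
theorem f157889 : Led Lsl_gt (LP (LK LD1_c4 LD2_c25 LD3_c48)) = (LP (LK LD1_c5 LD2_c47 LD3_c52)) :=
  Lgr Lrot9 (Lpe (K6.f99665 IH) (Lpr_gt (K6.f38522 IH) (Lpr_ct (K6.f70481 IH) (Lpe (K7.f142130 IH) (Lpr_ct (K7.f141305 IH) (Lpe (K6.f141248 IH) (Lpe (K6.f141249 IH) (Lpe (f141272 IH) (Lpr_cf (f157875 IH) (Lpn (LP (LK LD1_c5 LD2_c47 LD3_c52))))))))))))
theorem f157190 : Led Lsl_gf (LP (LK LD1_c4 LD2_c25 LD3_c48)) = (LP (LK LD1_c2 LD2_c51 LD3_c53)) :=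
  Lgr Lrot104 (Lpe (K6.f99697 IH) (Lpr_df (K6.f100348 IH) (Lpe (K6.f100384 IH) (Lpr_gf (K7.f142019 IH) (Lpe (K7.f141996 IH) (Lpe (K6.f128957 IH) (Lpr_df (K7.f141235 IH) (Lpr_gt (f157168 IH) (Lpr_ct (f8368 IH) (Lpn (LP (LK LD1_c2 LD2_c51 LD3_c53))))))))))))
theorem f100278 : Led Lsl_at (LP (LK LD1_c2 LD2_c49 LD3_c60)) = (LP (LK LD1_c5 LD2_c47 LD3_c52)) :=
  Lre_a IH (LK LD1_c2 LD2_c49 LD3_c60) (LK LD1_c5 LD2_c47 LD3_c52) Lrfl Lrfl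
theorem f157891 : Led Lsl_ft (LP (LK LD1_c2 LD2_c51 LD3_c53)) = (LP (LK LD1_c2 LD2_c49 LD3_c60)) :=
  Lgr Lrot2 (Lpe (f157190 IH) (Lpr_gt (f157889 IH) (Lpe (f100278 IH) (Lpn (LP (LK LD1_c2 LD2_c49 LD3_c60))))))
theorem f157204 : Led Lsl_et (LP (LK LD1_c5 LD2_c51 LD3_c15)) = (LP (LK LD1_c2 LD2_c51 LD3_c53)) :=
  Lre_e IH (LK LD1_c5 LD2_c51 LD3_c15) (LK LD1_c2 LD2_c51 LD3_c53) Lrfl Lrfl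
theorem f157898 : Led Lsl_ft (LP (LK LD1_c11 LD2_c29 LD3_c59)) = (LP (LK LD1_c5 LD2_c51 LD3_c15)) :=
  Lre_f IH (LK LD1_c11 LD2_c29 LD3_c59) (LK LD1_c5 LD2_c51 LD3_c15) Lrfl Lrfl
theorem f100284 : Led Lsl_et (LP (LK LD1_c2 LD2_c49 LD3_c60)) = (LP (LK LD1_c5 LD2_c47 LD3_c56)) :=
  Lre_e IH (LK LD1_c2 LD2_c49 LD3_c60) (LK LD1_c5 LD2_c47 LD3_c56) Lrfl Lrfl
theorem f100321 : Led Lsl_ft (LP (LK LD1_c5 LD2_c47 LD3_c56)) = (LP (LK LD1_c11 LD2_c25 LD3_c31)) :=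
  Lre_f IH (LK LD1_c5 LD2_c47 LD3_c56) (LK LD1_c11 LD2_c25 LD3_c31) Lrfl Lrfl
theorem f157899 : Led Lsl_ef (LP (LK LD1_c11 LD2_c29 LD3_c59)) = (LP (LK LD1_c11 LD2_c25 LD3_c31)) :=
  Lgr Lrot21 (Lpr_ft (f157898 IH) (Lpr_et (f157204 IH) (Lpr_ft (f157891 IH) (Lpr_et (f100284 IH) (Lpr_ft (f100321 IH) (Lpn (LP (LK LD1_c11 LD2_c25 LD3_c31))))))))
theorem f157906 : Led Lsl_et (LP (LK LD1_c11 LD2_c29 LD3_c59)) = (LP (LK LD1_c11 LD2_c25 LD3_c31)) :=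
  Lgr Lrot87 (Lpr_ef (f157899 IH) (Lpn (LP (LK LD1_c11 LD2_c25 LD3_c31))))
theorem f157910 : Led Lsl_bt (LP (LK LD1_c5 LD2_c51 LD3_c19)) = (LP (LK LD1_c11 LD2_c29 LD3_c59)) :=
  Lre_b IH (LK LD1_c5 LD2_c51 LD3_c19) (LK LD1_c11 LD2_c29 LD3_c59) Lrfl Lrfl
theorem f100309 : Led Lsl_bt (LP (LK LD1_c11 LD2_c25 LD3_c31)) = (LP (LK LD1_c5 LD2_c48 LD3_c4)) :=
  Lre_b IH (LK LD1_c11 LD2_c25 LD3_c31) (LK LD1_c5 LD2_c48 LD3_c4) Lrfl Lrfl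
theorem f157911 : Led Lsl_ef (LP (LK LD1_c5 LD2_c51 LD3_c19)) = (LP (LK LD1_c5 LD2_c48 LD3_c4)) :=
  Lgr Lrot29 (Lpr_bt (f157910 IH) (Lpr_et (f157906 IH) (Lpr_bt (f100309 IH) (Lpn (LP (LK LD1_c5 LD2_c48 LD3_c4))))))
theorem f157920 : Led Lsl_ft (LP (LK LD1_c5 LD2_c51 LD3_c19)) = (LP (LK LD1_c2 LD2_c51 LD3_c55)) :=
  Lre_f IH (LK LD1_c5 LD2_c51 LD3_c19) (LK LD1_c2 LD2_c51 LD3_c55) Lrfl Lrfl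
theorem f22314 : Led Lsl_et (LP (LK LD1_c2 LD2_c51 LD3_c55)) = (LP (LK LD1_c1 LD2_c21 LD3_c60)) :=
  Lre_e IH (LK LD1_c2 LD2_c51 LD3_c55) (LK LD1_c1 LD2_c21 LD3_c60) Lrfl Lrfl
theorem f157921 : Led Lsl_ft (LP (LK LD1_c2 LD2_c50 LD3_c3)) = (LP (LK LD1_c5 LD2_c48 LD3_c4)) :=
  Lre_f IH (LK LD1_c2 LD2_c50 LD3_c3) (LK LD1_c5 LD2_c48 LD3_c4) Lrfl Lrfl
theorem f132464 : Led Lsl_et (LP (LK LD1_c1 LD2_c21 LD3_c4)) = (LP (LK LD1_c2 LD2_c50 LD3_c3)) :=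
  Lre_e IH (LK LD1_c1 LD2_c21 LD3_c4) (LK LD1_c2 LD2_c50 LD3_c3) Lrfl Lrfl
theorem f157922 : Led Lsl_ft (LP (LK LD1_c1 LD2_c21 LD3_c60)) = (LP (LK LD1_c1 LD2_c21 LD3_c4)) :=
  Lgr Lrot86 (Lpe (f22314 IH) (Lpe (f157920 IH) (Lpr_ef (f157911 IH) (Lpe (f157921 IH) (Lpe (f132464 IH) (Lpn (LP (LK LD1_c1 LD2_c21 LD3_c4))))))))
theorem f117224 : Led Lsl_at (LP (LK LD1_c1 LD2_c21 LD3_c4)) = (LP (LK LD1_c1 LD2_c21 LD3_c59)) :=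
  Lgr Lrot107 (Lpe (K7.f100332 IH) (Lpr_af (K4.f117166 IH) (Lpe (K4.f24055 IH) (Lpn (LP (LK LD1_c1 LD2_c21 LD3_c59))))))
theorem f157928 : Led Lsl_dt (LP (LK LD1_c1 LD2_c21 LD3_c60)) = (LP (LK LD1_c1 LD2_c4 LD3_c8)) :=
  Lgr Lrot159 (Lpr_ft (f157922 IH) (Lpr_at (f117224 IH) (Lpe (K4.f24063 IH) (Lpr_df (K5.f112106 IH) (Lpe (K4.f15172 IH) (Lpe (K6.f112119 IH) (Lpr_cf (K4.f112347 IH) (Lpe (K5.f112188 IH) (Lpe (K5.f132493 IH) (Lpn (LP (LK LD1_c1 LD2_c4 LD3_c8))))))))))))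
theorem f24139 : Led Lsl_gt (LP (LK LD1_c1 LD2_c21 LD3_c61)) = (LP (LK LD1_c2 LD2_c51 LD3_c56)) :=
  Lre_g IH (LK LD1_c1 LD2_c21 LD3_c61) (LK LD1_c2 LD2_c51 LD3_c56) Lrfl Lrfl
theorem f157938 : Led Lsl_ct (LP (LK LD1_c2 LD2_c51 LD3_c56)) = (LP (LK LD1_c4 LD2_c34 LD3_c21)) :=
  Lgr Lrot151 (Lpe (f24139 IH) (Lpe (K4.f8356 IH) (Lpe (f8360 IH) (Lpr_dt (f157928 IH) (Lpr_gt (K5.f92058 IH) (Lpe (K6.f59657 IH) (Lpr_gt (K4.f20208 IH) (Lpr_ct (K5.f20209 IH) (Lpr_dt (K5.f112936 IH) (Lpn (LP (LK LD1_c4 LD2_c34 LD3_c21))))))))))))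
theorem f132292 : Led Lsl_ft (LP (LK LD1_c3 LD2_c50 LD3_c27)) = (LP (LK LD1_c3 LD2_c26 LD3_c29)) :=
  Lgr Lrot101 (Lpe (K6.f12328 IH) (Lpr_ff (K5.f132289 IH) (Lpe (K5.f15197 IH) (Lpn (LP (LK LD1_c3 LD2_c26 LD3_c29))))))
theorem f157964 : Led Lsl_df (LP (LK LD1_c2 LD2_c51 LD3_c56)) = (LP (LK LD1_c3 LD2_c50 LD3_c27)) :=
  Lgr Lrot157 (Lpr_ct (f157938 IH) (Lpr_dt (K5.f112202 IH) (Lpr_ct (K5.f36537 IH) (Lpe (K4.f112111 IH) (Lpr_ct (K4.f24055 IH) (Lpr_dt (K4.f112189 IH) (Lpe (K3.f15079 IH) (Lpe (K5.f15197 IH) (Lpe (f132292 IH) (Lpn (LP (LK LD1_c3 LD2_c50 LD3_c27))))))))))))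
theorem f157201 : Led Lsl_bt (LP (LK LD1_c1 LD2_c21 LD3_c60)) = (LP (LK LD1_c2 LD2_c51 LD3_c53)) :=
  Lre_b IH (LK LD1_c1 LD2_c21 LD3_c60) (LK LD1_c2 LD2_c51 LD3_c53) Lrfl Lrfl
theorem f157202 : Led Lsl_dt (LP (LK LD1_c1 LD2_c4 LD3_c8)) = (LP (LK LD1_c1 LD2_c21 LD3_c60)) :=
  Lgr Lrot79 (Lpe (K5.f92247 IH) (Lpr_df (f157194 IH) (Lpe (f157201 IH) (Lpn (LP (LK LD1_c1 LD2_c21 LD3_c60))))))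
theorem f136257 : Led Lsl_ct (LP (LK LD1_c1 LD2_c21 LD3_c60)) = (LP (LK LD1_c2 LD2_c51 LD3_c54)) :=
  Lre_c IH (LK LD1_c1 LD2_c21 LD3_c60) (LK LD1_c2 LD2_c51 LD3_c54) Lrfl Lrfl
theorem f157966 : Led Lsl_df (LP (LK LD1_c1 LD2_c52 LD3_c8)) = (LP (LK LD1_c2 LD2_c51 LD3_c54)) :=
  Lgr Lrot106 (Lpr_ct (K6.f132302 IH) (Lpe (f157964 IH) (Lpr_ct (f157938 IH) (Lpr_dt (K5.f112202 IH) (Lpr_ct (K5.f36537 IH) (Lpr_af (K5.f132327 IH) (Lpe (K5.f132478 IH) (Lpr_dt (f157202 IH) (Lpr_ct (f136257 IH) (Lpn (LP (LK LD1_c2 LD2_c51 LD3_c54))))))))))))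
theorem f64460 : Led Lsl_at (LP (LK LD1_c0 LD2_c40 LD3_c8)) = (LP (LK LD1_c0 LD2_c17 LD3_c61)) :=
  Lre_a IH (LK LD1_c0 LD2_c40 LD3_c8) (LK LD1_c0 LD2_c17 LD3_c61) Lrfl Lrfl
theorem f110199 : Led Lsl_af (LP (LK LD1_c0 LD2_c44 LD3_c7)) = (LP (LK LD1_c0 LD2_c19 LD3_c43)) :=
  Lgr Lrot117 (Lpr_dt (K3.f110197 IH) (Lpr_at (f64460 IH) (Lpr_dt (K1.f64294 IH) (Lpn (LP (LK LD1_c0 LD2_c19 LD3_c43))))))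
theorem f125500 : Led Lsl_bt (LP (LK LD1_c3 LD2_c10 LD3_c31)) = (LP (LK LD1_c1 LD2_c34 LD3_c58)) :=
  Lgr Lrot62 (Lpr_af (K5.f125496 IH) (Lpe (K4.f96760 IH) (Lpr_af (f110199 IH) (Lpe (K5.f14701 IH) (Lpe (K3.f78757 IH) (Lpn (LP (LK LD1_c1 LD2_c34 LD3_c58))))))))
theorem f122730 : Led Lsl_dt (LP (LK LD1_c1 LD2_c51 LD3_c58)) = (LP (LK LD1_c3 LD2_c49 LD3_c60)) :=
  Lre_d IH (LK LD1_c1 LD2_c51 LD3_c58) (LK LD1_c3 LD2_c49 LD3_c60) Lrfl Lrfl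
theorem f151460 : Led Lsl_dt (LP (LK LD1_c2 LD2_c51 LD3_c56)) = (LP (LK LD1_c3 LD2_c50 LD3_c27)) :=
  Lgr Lrot182 (Lpe (f24139 IH) (Lpr_bf (K4.f24053 IH) (Lpe (K4.f23173 IH) (Lpe (K3.f24140 IH) (Lpe (K3.f24141 IH) (Lpe (K3.f24142 IH) (Lpe (K3.f24381 IH) (Lpe (K4.f24385 IH) (Lpr_gf (K4.f114862 IH) (Lpe (f125500 IH) (Lpr_cf (K7.f125509 IH) (Lpe (K5.f118700 IH) (Lpr_gf (K5.f128365 IH) (Lpr_bf (K5.f128843 IH) (Lpr_cf (K7.f151451 IH) (Lpe (f122730 IH) (Lpe (K6.f136710 IH) (Lpr_bf (K6.f110091 IH) (Lpe (K6.f132303 IH) (Lpn (LP (LK LD1_c3 LD2_c50 LD3_c27))))))))))))))))))))))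
theorem f99932 : Led Lsl_bt (LP (LK LD1_c1 LD2_c23 LD3_c50)) = (LP (LK LD1_c0 LD2_c38 LD3_c45)) :=
  Lre_b IH (LK LD1_c1 LD2_c23 LD3_c50) (LK LD1_c0 LD2_c38 LD3_c45) Lrfl Lrfl
theorem f124068 : Led Lsl_dt (LP (LK LD1_c5 LD2_c58 LD3_c40)) = (LP (LK LD1_c2 LD2_c55 LD3_c46)) :=
  Lre_d IH (LK LD1_c5 LD2_c58 LD3_c40) (LK LD1_c2 LD2_c55 LD3_c46) Lrfl Lrfl
theorem f124069 : Led Lsl_gf (LP (LK LD1_c5 LD2_c58 LD3_c40)) = (LP (LK LD1_c3 LD2_c15 LD3_c48)) :=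
  Lgr Lrot85 (Lpr_dt (f124068 IH) (Lpr_ct (f124067 IH) (Lpr_bt (f99932 IH) (Lpr_gt (K2.f72460 IH) (Lpr_dt (K2.f72459 IH) (Lpe (K2.f60915 IH) (Lpr_bt (K2.f60914 IH) (Lpr_gt (K2.f60925 IH) (Lpr_dt (K2.f20288 IH) (Lpe (K0.f26459 IH) (Lpr_bt (K1.f24856 IH) (Lpr_gt (K4.f124063 IH) (Lpr_dt (K3.f23650 IH) (Lpr_ct (K0.f20871 IH) (Lpr_bt (K0.f23599 IH) (Lpr_gt (K0.f23662 IH) (Lpr_dt (K2.f23663 IH) (Lpr_ct (K2.f23664 IH) (Lpr_bt (K5.f23665 IH) (Lpn (LP (LK LD1_c3 LD2_c15 LD3_c48))))))))))))))))))))))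
theorem f157980 : Led Lsl_gt (LP (LK LD1_c2 LD2_c55 LD3_c46)) = (LP (LK LD1_c2 LD2_c51 LD3_c54)) :=
  Lgr Lrot49 (Lpe (f124068 IH) (Lpr_gf (f124069 IH) (Lpr_cf (K4.f65849 IH) (Lpr_gt (K4.f65881 IH) (Lpr_dt (K7.f8353 IH) (Lpr_gt (f24139 IH) (Lpr_dt (f151460 IH) (Lpe (K6.f132302 IH) (Lpr_df (f157966 IH) (Lpn (LP (LK LD1_c2 LD2_c51 LD3_c54))))))))))))
theorem f87290 : Led Lsl_at (LP (LK LD1_c7 LD2_c39 LD3_c29)) = (LP (LK LD1_c3 LD2_c49 LD3_c24)) :=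
  Lre_a IH (LK LD1_c7 LD2_c39 LD3_c29) (LK LD1_c3 LD2_c49 LD3_c24) Lrfl Lrfl
theorem f157594 : Led Lsl_gt (LP (LK LD1_c4 LD2_c44 LD3_c43)) = (LP (LK LD1_c2 LD2_c55 LD3_c54)) :=
  Lgr Lrot5 (Lpe (K5.f128704 IH) (Lpr_at (f87290 IH) (Lpr_gf (f157592 IH) (Lpn (LP (LK LD1_c2 LD2_c55 LD3_c54))))))
theorem f102064 : Led Lsl_bt (LP (LK LD1_c4 LD2_c44 LD3_c43)) = (LP (LK LD1_c2 LD2_c20 LD3_c31)) :=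
  Lre_b IH (LK LD1_c4 LD2_c44 LD3_c43) (LK LD1_c2 LD2_c20 LD3_c31) Lrfl Lrfl
theorem f128601 : Led Lsl_ct (LP (LK LD1_c3 LD2_c15 LD3_c0)) = (LP (LK LD1_c4 LD2_c44 LD3_c43)) :=
  Lgr Lrot83 (Lpe (K5.f111907 IH) (Lpr_cf (K5.f126506 IH) (Lpr_bf (K5.f128599 IH) (Lpe (K5.f128522 IH) (Lpe (f102064 IH) (Lpn (LP (LK LD1_c4 LD2_c44 LD3_c43))))))))
theorem f89674 : Led Lsl_at (LP (LK LD1_c3 LD2_c49 LD3_c20)) = (LP (LK LD1_c1 LD2_c51 LD3_c44)) :=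
  Lre_a IH (LK LD1_c3 LD2_c49 LD3_c20) (LK LD1_c1 LD2_c51 LD3_c44) Lrfl Lrfl
theorem f87789 : Led Lsl_bt (LP (LK LD1_c3 LD2_c47 LD3_c1)) = (LP (LK LD1_c1 LD2_c50 LD3_c38)) :=
  Lre_b IH (LK LD1_c3 LD2_c47 LD3_c1) (LK LD1_c1 LD2_c50 LD3_c38) Lrfl Lrfl
theorem f87876 : Led Lsl_ff (LP (LK LD1_c3 LD2_c47 LD3_c1)) = (LP (LK LD1_c1 LD2_c51 LD3_c44)) :=
  Lgr Lrot25 (Lpr_bt (f87789 IH) (Lpr_ft (K2.f87802 IH) (Lpr_bt (f87188 IH) (Lpn (LP (LK LD1_c1 LD2_c51 LD3_c44))))))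
theorem f111955 : Led Lsl_af (LP (LK LD1_c3 LD2_c15 LD3_c0)) = (LP (LK LD1_c3 LD2_c47 LD3_c1)) :=
  Lgr Lrot45 (Lpr_ft (K5.f111953 IH) (Lpr_at (f89674 IH) (Lpe (f87876 IH) (Lpn (LP (LK LD1_c3 LD2_c47 LD3_c1))))))
theorem f111976 : Led Lsl_gf (LP (LK LD1_c3 LD2_c15 LD3_c0)) = (LP (LK LD1_c3 LD2_c49 LD3_c22)) :=
  Lgr Lrot76 (Lpr_af (f111955 IH) (Lpr_ff (f87876 IH) (Lpr_gt (f87190 IH) (Lpn (LP (LK LD1_c3 LD2_c49 LD3_c22))))))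
theorem f157971 : Led Lsl_bt (LP (LK LD1_c5 LD2_c51 LD3_c16)) = (LP (LK LD1_c2 LD2_c51 LD3_c54)) :=
  Lre_b IH (LK LD1_c5 LD2_c51 LD3_c16) (LK LD1_c2 LD2_c51 LD3_c54) Lrfl Lrfl
theorem f157994 : Led Lsl_ct (LP (LK LD1_c5 LD2_c51 LD3_c16)) = (LP (LK LD1_c11 LD2_c29 LD3_c56)) :=
  Lre_c IH (LK LD1_c5 LD2_c51 LD3_c16) (LK LD1_c11 LD2_c29 LD3_c56) Lrfl Lrfl
theorem f157995 : Led Lsl_gf (LP (LK LD1_c7 LD2_c41 LD3_c11)) = (LP (LK LD1_c11 LD2_c29 LD3_c56)) :=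
  Lgr Lrot126 (Lpe (f87355 IH) (Lpr_bt (f87191 IH) (Lpe (f111976 IH) (Lpr_ct (f128601 IH) (Lpr_gt (f157594 IH) (Lpe (f110909 IH) (Lpr_bt (f110910 IH) (Lpr_gt (f157980 IH) (Lpe (f157971 IH) (Lpr_ct (f157994 IH) (Lpn (LP (LK LD1_c11 LD2_c29 LD3_c56)))))))))))))
theorem f87369 : Led Lsl_cf (LP (LK LD1_c7 LD2_c39 LD3_c34)) = (LP (LK LD1_c7 LD2_c41 LD3_c11)) :=
  Lgr Lrot11 (Lpr_ct (f87355 IH) (Lpn (LP (LK LD1_c7 LD2_c41 LD3_c11))))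
theorem f158001 : Led Lsl_gt (LP (LK LD1_c3 LD2_c45 LD3_c13)) = (LP (LK LD1_c5 LD2_c51 LD3_c16)) :=
  Lgr Lrot9 (Lpr_df (K4.f111203 IH) (Lpe (K4.f115827 IH) (Lpe (K6.f136945 IH) (Lpe (K7.f122172 IH) (Lpr_ct (K4.f122056 IH) (Lpe (f157511 IH) (Lpr_cf (f87369 IH) (Lpr_gf (f157995 IH) (Lpe (f157994 IH) (Lpn (LP (LK LD1_c5 LD2_c51 LD3_c16))))))))))))
theorem f122144 : Led Lsl_dt (LP (LK LD1_c1 LD2_c48 LD3_c59)) = (LP (LK LD1_c3 LD2_c43 LD3_c48)) :=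
  Lre_d IH (LK LD1_c1 LD2_c48 LD3_c59) (LK LD1_c3 LD2_c43 LD3_c48) Lrfl Lrfl
theorem f122241 : Led Lsl_at (LP (LK LD1_c3 LD2_c41 LD3_c2)) = (LP (LK LD1_c7 LD2_c22 LD3_c15)) :=
  Lre_a IH (LK LD1_c3 LD2_c41 LD3_c2) (LK LD1_c7 LD2_c22 LD3_c15) Lrfl Lrfl
theorem f122059 : Led Lsl_dt (LP (LK LD1_c3 LD2_c41 LD3_c2)) = (LP (LK LD1_c1 LD2_c47 LD3_c27)) :=
  Lre_d IH (LK LD1_c3 LD2_c41 LD3_c2) (LK LD1_c1 LD2_c47 LD3_c27) Lrfl Lrfl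
theorem f122145 : Led Lsl_ff (LP (LK LD1_c3 LD2_c41 LD3_c2)) = (LP (LK LD1_c3 LD2_c43 LD3_c48)) :=
  Lgr Lrot19 (Lpr_dt (f122059 IH) (Lpr_ft (K4.f122135 IH) (Lpr_dt (f122144 IH) (Lpn (LP (LK LD1_c3 LD2_c43 LD3_c48))))))
theorem f142658 : Led Lsl_gt (LP (LK LD1_c3 LD2_c43 LD3_c48)) = (LP (LK LD1_c7 LD2_c21 LD3_c6)) :=
  Lgr Lrot5 (Lpe (f122145 IH) (Lpr_at (f122241 IH) (Lpr_gf (f142656 IH) (Lpn (LP (LK LD1_c7 LD2_c21 LD3_c6))))))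
theorem f158010 : Led Lsl_df (LP (LK LD1_c3 LD2_c47 LD3_c24)) = (LP (LK LD1_c5 LD2_c51 LD3_c16)) :=
  Lgr Lrot84 (Lpr_cf (K6.f136777 IH) (Lpe (f136783 IH) (Lpe (f142658 IH) (Lpe (f122144 IH) (Lpe (K5.f122247 IH) (Lpe (K4.f19046 IH) (Lpr_gt (K4.f103617 IH) (Lpe (K4.f111203 IH) (Lpr_gt (f158001 IH) (Lpn (LP (LK LD1_c5 LD2_c51 LD3_c16))))))))))))
theorem f107305 : Led Lsl_gt (LP (LK LD1_c7 LD2_c21 LD3_c0)) = (LP (LK LD1_c3 LD2_c40 LD3_c24)) :=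
  Lre_g IH (LK LD1_c7 LD2_c21 LD3_c0) (LK LD1_c3 LD2_c40 LD3_c24) Lrfl Lrfl
theorem f107311 : Led Lsl_bt (LP (LK LD1_c1 LD2_c47 LD3_c12)) = (LP (LK LD1_c0 LD2_c50 LD3_c24)) :=
  Lre_b IH (LK LD1_c1 LD2_c47 LD3_c12) (LK LD1_c0 LD2_c50 LD3_c24) Lrfl Lrfl
theorem f11645 : Led Lsl_bt (LP (LK LD1_c0 LD2_c53 LD3_c39)) = (LP (LK LD1_c1 LD2_c54 LD3_c7)) :=
  Lre_b IH (LK LD1_c0 LD2_c53 LD3_c39) (LK LD1_c1 LD2_c54 LD3_c7) Lrfl Lrfl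
theorem f11656 : Led Lsl_gt (LP (LK LD1_c1 LD2_c54 LD3_c7)) = (LP (LK LD1_c3 LD2_c55 LD3_c1)) :=
  Lre_g IH (LK LD1_c1 LD2_c54 LD3_c7) (LK LD1_c3 LD2_c55 LD3_c1) Lrfl Lrfl
theorem f11830 : Led Lsl_bt (LP (LK LD1_c7 LD2_c51 LD3_c43)) = (LP (LK LD1_c3 LD2_c55 LD3_c1)) :=
  Lre_b IH (LK LD1_c7 LD2_c51 LD3_c43) (LK LD1_c3 LD2_c55 LD3_c1) Lrfl Lrfl
theorem f132076 : Led Lsl_ct (LP (LK LD1_c7 LD2_c51 LD3_c43)) = (LP (LK LD1_c7 LD2_c21 LD3_c0)) :=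
  Lgr Lrot64 (Lpr_bt (f11830 IH) (Lpe (f11656 IH) (Lpe (f11645 IH) (Lpr_ct (K6.f11648 IH) (Lpe (K2.f84760 IH) (Lpe (K5.f96338 IH) (Lpr_gf (K7.f132072 IH) (Lpe (f107311 IH) (Lpr_ct (K5.f107312 IH) (Lpe (f107305 IH) (Lpn (LP (LK LD1_c7 LD2_c21 LD3_c0)))))))))))))
theorem f144879 : Led Lsl_gt (LP (LK LD1_c7 LD2_c35 LD3_c34)) = (LP (LK LD1_c7 LD2_c51 LD3_c43)) :=
  Lgr Lrot82 (Lpr_bf (K6.f144868 IH) (Lpr_ct (K6.f96389 IH) (Lpe (K6.f84966 IH) (Lpe (K5.f84929 IH) (Lpe (K7.f96380 IH) (Lpr_gf (K7.f132072 IH) (Lpe (f107311 IH) (Lpr_ct (K5.f107312 IH) (Lpe (f107305 IH) (Lpe (f132076 IH) (Lpn (LP (LK LD1_c7 LD2_c51 LD3_c43)))))))))))))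
theorem f111351 : Led Lsl_dt (LP (LK LD1_c3 LD2_c47 LD3_c25)) = (LP (LK LD1_c1 LD2_c50 LD3_c48)) :=
  Lre_d IH (LK LD1_c3 LD2_c47 LD3_c25) (LK LD1_c1 LD2_c50 LD3_c48) Lrfl Lrfl
theorem f95998 : Led Lsl_gt (LP (LK LD1_c3 LD2_c1 LD3_c59)) = (LP (LK LD1_c6 LD2_c10 LD3_c39)) :=
  Lre_g IH (LK LD1_c3 LD2_c1 LD3_c59) (LK LD1_c6 LD2_c10 LD3_c39) Lrfl Lrfl
theorem f95999 : Led Lsl_ct (LP (LK LD1_c6 LD2_c10 LD3_c39)) = (LP (LK LD1_c12 LD2_c1 LD3_c53)) :=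
  Lre_c IH (LK LD1_c6 LD2_c10 LD3_c39) (LK LD1_c12 LD2_c1 LD3_c53) Lrfl Lrfl
theorem f144885 : Led Lsl_df (LP (LK LD1_c12 LD2_c1 LD3_c53)) = (LP (LK LD1_c7 LD2_c21 LD3_c0)) :=
  Lgr Lrot162 (Lpe (f95999 IH) (Lpe (f95998 IH) (Lpe (K7.f64402 IH) (Lpe (K4.f117056 IH) (Lpr_dt (f111351 IH) (Lpr_gt (K4.f91265 IH) (Lpr_ct (K5.f91266 IH) (Lpr_gt (f144879 IH) (Lpr_ct (f132076 IH) (Lpn (LP (LK LD1_c7 LD2_c21 LD3_c0))))))))))))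
theorem f151447 : Led Lsl_df (LP (LK LD1_c6 LD2_c35 LD3_c38)) = (LP (LK LD1_c6 LD2_c19 LD3_c61)) :=
  Lgr Lrot38 (Lpr_dt (K7.f151423 IH) (Lpn (LP (LK LD1_c6 LD2_c19 LD3_c61))))
theorem f105482 : Led Lsl_at (LP (LK LD1_c3 LD2_c7 LD3_c34)) = (LP (LK LD1_c3 LD2_c17 LD3_c58)) :=
  Lgr Lrot100 (Lpr_af (K4.f105471 IH) (Lpn (LP (LK LD1_c3 LD2_c17 LD3_c58))))
theorem f65240 : Led Lsl_bt (LP (LK LD1_c1 LD2_c35 LD3_c29)) = (LP (LK LD1_c3 LD2_c17 LD3_c58)) :=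
  Lre_b IH (LK LD1_c1 LD2_c35 LD3_c29) (LK LD1_c3 LD2_c17 LD3_c58) Lrfl Lrfl
theorem f62937 : Led Lsl_bt (LP (LK LD1_c1 LD2_c49 LD3_c53)) = (LP (LK LD1_c0 LD2_c51 LD3_c47)) :=
  Lre_b IH (LK LD1_c1 LD2_c49 LD3_c53) (LK LD1_c0 LD2_c51 LD3_c47) Lrfl Lrfl
theorem f65242 : Led Lsl_dt (LP (LK LD1_c3 LD2_c17 LD3_c58)) = (LP (LK LD1_c1 LD2_c49 LD3_c53)) :=
  Lgr Lrot79 (Lpe (f65240 IH) (Lpr_df (K1.f65236 IH) (Lpe (f62937 IH) (Lpn (LP (LK LD1_c1 LD2_c49 LD3_c53))))))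
theorem f105531 : Led Lsl_df (LP (LK LD1_c3 LD2_c7 LD3_c34)) = (LP (LK LD1_c3 LD2_c45 LD3_c31)) :=
  Lgr Lrot18 (Lpr_at (f105482 IH) (Lpr_dt (f65242 IH) (Lpr_at (K3.f105197 IH) (Lpn (LP (LK LD1_c3 LD2_c45 LD3_c31))))))
theorem f111446 : Led Lsl_at (LP (LK LD1_c3 LD2_c48 LD3_c40)) = (LP (LK LD1_c6 LD2_c53 LD3_c57)) :=
  Lgr Lrot100 (Lpr_af (K4.f111444 IH) (Lpn (LP (LK LD1_c6 LD2_c53 LD3_c57))))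
theorem f129420 : Led Lsl_ft (LP (LK LD1_c3 LD2_c45 LD3_c47)) = (LP (LK LD1_c3 LD2_c48 LD3_c40)) :=
  Lgr Lrot2 (Lpe (K5.f103814 IH) (Lpr_gt (f129417 IH) (Lpe (f111446 IH) (Lpn (LP (LK LD1_c3 LD2_c48 LD3_c40))))))
theorem f64625 : Led Lsl_ct (LP (LK LD1_c3 LD2_c48 LD3_c40)) = (LP (LK LD1_c7 LD2_c38 LD3_c22)) :=
  Lre_c IH (LK LD1_c3 LD2_c48 LD3_c40) (LK LD1_c7 LD2_c38 LD3_c22) Lrfl Lrfl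
theorem f129441 : Led Lsl_ff (LP (LK LD1_c7 LD2_c32 LD3_c13)) = (LP (LK LD1_c7 LD2_c38 LD3_c22)) :=
  Lgr Lrot23 (Lpr_ct (K4.f93622 IH) (Lpr_ft (f129420 IH) (Lpr_ct (f64625 IH) (Lpn (LP (LK LD1_c7 LD2_c38 LD3_c22))))))
theorem f129459 : Led Lsl_ft (LP (LK LD1_c7 LD2_c32 LD3_c13)) = (LP (LK LD1_c7 LD2_c38 LD3_c22)) :=
  Lgr Lrot48 (Lpr_ff (f129441 IH) (Lpn (LP (LK LD1_c7 LD2_c38 LD3_c22))))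
theorem f93597 : Led Lsl_gt (LP (LK LD1_c7 LD2_c32 LD3_c13)) = (LP (LK LD1_c14 LD2_c12 LD3_c50)) :=
  Lre_g IH (LK LD1_c7 LD2_c32 LD3_c13) (LK LD1_c14 LD2_c12 LD3_c50) Lrfl Lrfl
theorem f96312 : Led Lsl_ct (LP (LK LD1_c13 LD2_c6 LD3_c35)) = (LP (LK LD1_c6 LD2_c53 LD3_c57)) :=
  Lre_c IH (LK LD1_c13 LD2_c6 LD3_c35) (LK LD1_c6 LD2_c53 LD3_c57) Lrfl Lrfl
theorem f111450 : Led Lsl_at (LP (LK LD1_c7 LD2_c38 LD3_c22)) = (LP (LK LD1_c13 LD2_c6 LD3_c35)) :=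
  Lgr Lrot107 (Lpe (f64625 IH) (Lpr_af (K4.f111444 IH) (Lpe (f96312 IH) (Lpn (LP (LK LD1_c13 LD2_c6 LD3_c35))))))
theorem f129465 : Led Lsl_gt (LP (LK LD1_c14 LD2_c12 LD3_c50)) = (LP (LK LD1_c13 LD2_c6 LD3_c35)) :=
  Lgr Lrot46 (Lpe (f93597 IH) (Lpr_ft (f129459 IH) (Lpr_at (f111450 IH) (Lpn (LP (LK LD1_c13 LD2_c6 LD3_c35))))))
theorem f123605 : Led Lsl_ct (LP (LK LD1_c7 LD2_c28 LD3_c27)) = (LP (LK LD1_c3 LD2_c43 LD3_c54)) :=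
  Lre_c IH (LK LD1_c7 LD2_c28 LD3_c27) (LK LD1_c3 LD2_c43 LD3_c54) Lrfl Lrfl
theorem f111132 : Led Lsl_ft (LP (LK LD1_c12 LD2_c34 LD3_c51)) = (LP (LK LD1_c7 LD2_c1 LD3_c15)) :=
  Lgr Lrot75 (Lpe (K6.f111131 IH) (Lpr_ff (K4.f111129 IH) (Lpe (K4.f103623 IH) (Lpn (LP (LK LD1_c7 LD2_c1 LD3_c15))))))
theorem f123603 : Led Lsl_gt (LP (LK LD1_c12 LD2_c34 LD3_c51)) = (LP (LK LD1_c7 LD2_c28 LD3_c27)) :=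
  Lgr Lrot5 (Lpr_ft (f111132 IH) (Lpr_at (K4.f108961 IH) (Lpr_gf (K5.f123601 IH) (Lpn (LP (LK LD1_c7 LD2_c28 LD3_c27))))))
theorem f122305 : Led Lsl_af (LP (LK LD1_c6 LD2_c49 LD3_c25)) = (LP (LK LD1_c7 LD2_c41 LD3_c8)) :=
  Lgr Lrot45 (Lpr_ft (K2.f95617 IH) (Lpr_at (K4.f93212 IH) (Lpr_ft (K5.f122303 IH) (Lpn (LP (LK LD1_c7 LD2_c41 LD3_c8))))))
theorem f95634 : Led Lsl_gt (LP (LK LD1_c13 LD2_c0 LD3_c52)) = (LP (LK LD1_c6 LD2_c49 LD3_c25)) :=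
  Lre_g IH (LK LD1_c13 LD2_c0 LD3_c52) (LK LD1_c6 LD2_c49 LD3_c25) Lrfl Lrfl
theorem f122309 : Led Lsl_gt (LP (LK LD1_c12 LD2_c33 LD3_c42)) = (LP (LK LD1_c13 LD2_c0 LD3_c52)) :=
  Lgr Lrot5 (Lpr_ft (K5.f122303 IH) (Lpe (f122305 IH) (Lpe (f95634 IH) (Lpn (LP (LK LD1_c13 LD2_c0 LD3_c52))))))
theorem f129467 : Led Lsl_cf (LP (LK LD1_c14 LD2_c12 LD3_c50)) = (LP (LK LD1_c13 LD2_c0 LD3_c52)) :=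
  Lgr Lrot169 (Lpr_gt (f129465 IH) (Lpr_ct (f96312 IH) (Lpe (K4.f9802 IH) (Lpe (K4.f116457 IH) (Lpr_gf (K5.f123689 IH) (Lpe (f123605 IH) (Lpe (f123603 IH) (Lpe (K4.f111276 IH) (Lpr_gt (f122309 IH) (Lpn (LP (LK LD1_c13 LD2_c0 LD3_c52))))))))))))
theorem f92454 : Led Lsl_dt (LP (LK LD1_c7 LD2_c31 LD3_c59)) = (LP (LK LD1_c3 LD2_c45 LD3_c40)) :=
  Lre_d IH (LK LD1_c7 LD2_c31 LD3_c59) (LK LD1_c3 LD2_c45 LD3_c40) Lrfl Lrfl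
theorem f111487 : Led Lsl_bf (LP (LK LD1_c7 LD2_c31 LD3_c59)) = (LP (LK LD1_c6 LD2_c53 LD3_c57)) :=
  Lgr Lrot93 (Lpr_dt (f92454 IH) (Lpr_bt (K4.f111485 IH) (Lpr_dt (K4.f9802 IH) (Lpn (LP (LK LD1_c6 LD2_c53 LD3_c57))))))
theorem f17412 : Led Lsl_gt (LP (LK LD1_c3 LD2_c48 LD3_c21)) = (LP (LK LD1_c1 LD2_c51 LD3_c12)) :=
  Lre_g IH (LK LD1_c3 LD2_c48 LD3_c21) (LK LD1_c1 LD2_c51 LD3_c12) Lrfl Lrfl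
theorem f93028 : Led Lsl_dt (LP (LK LD1_c7 LD2_c37 LD3_c44)) = (LP (LK LD1_c3 LD2_c48 LD3_c21)) :=
  Lre_d IH (LK LD1_c7 LD2_c37 LD3_c44) (LK LD1_c3 LD2_c48 LD3_c21) Lrfl Lrfl
theorem f127427 : Led Lsl_gf (LP (LK LD1_c3 LD2_c48 LD3_c38)) = (LP (LK LD1_c7 LD2_c37 LD3_c44)) :=
  Lgr Lrot147 (Lpr_ct (K5.f89305 IH) (Lpe (K5.f127358 IH) (Lpr_ct (K5.f127329 IH) (Lpr_df (K5.f127421 IH) (Lpr_cf (K6.f97880 IH) (Lpe (K3.f10806 IH) (Lpr_cf (K4.f17309 IH) (Lpe (f17412 IH) (Lpe (f93028 IH) (Lpn (LP (LK LD1_c7 LD2_c37 LD3_c44))))))))))))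
theorem f111518 : Led Lsl_ft (LP (LK LD1_c7 LD2_c31 LD3_c59)) = (LP (LK LD1_c7 LD2_c38 LD3_c15)) :=
  Lgr Lrot101 (Lpe (K4.f109265 IH) (Lpr_ff (K4.f111513 IH) (Lpe (K4.f89566 IH) (Lpn (LP (LK LD1_c7 LD2_c38 LD3_c15))))))
theorem f127429 : Led Lsl_gt (LP (LK LD1_c7 LD2_c31 LD3_c59)) = (LP (LK LD1_c7 LD2_c37 LD3_c44)) :=
  Lgr Lrot5 (Lpr_ft (f111518 IH) (Lpr_at (K4.f89566 IH) (Lpr_gf (f127427 IH) (Lpn (LP (LK LD1_c7 LD2_c37 LD3_c44))))))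
theorem f127336 : Led Lsl_bf (LP (LK LD1_c3 LD2_c14 LD3_c52)) = (LP (LK LD1_c6 LD2_c10 LD3_c42)) :=
  Lgr Lrot93 (Lpr_dt (K5.f127327 IH) (Lpe (K4.f111074 IH) (Lpe (K6.f122283 IH) (Lpn (LP (LK LD1_c6 LD2_c10 LD3_c42))))))
theorem f117059 : Led Lsl_ct (LP (LK LD1_c12 LD2_c1 LD3_c53)) = (LP (LK LD1_c6 LD2_c10 LD3_c39)) :=
  Lre_c IH (LK LD1_c12 LD2_c1 LD3_c53) (LK LD1_c6 LD2_c10 LD3_c39) Lrfl Lrfl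
theorem f127432 : Led Lsl_bt (LP (LK LD1_c12 LD2_c1 LD3_c53)) = (LP (LK LD1_c7 LD2_c37 LD3_c44)) :=
  Lgr Lrot130 (Lpr_ct (f117059 IH) (Lpe (f95998 IH) (Lpe (K7.f64402 IH) (Lpe (f127336 IH) (Lpr_gf (K5.f127325 IH) (Lpe (K5.f127317 IH) (Lpr_ct (K5.f127330 IH) (Lpr_gf (K5.f127358 IH) (Lpe (K5.f89305 IH) (Lpr_gf (f127427 IH) (Lpn (LP (LK LD1_c7 LD2_c37 LD3_c44)))))))))))))
theorem f129469 : Led Lsl_gf (LP (LK LD1_c3 LD2_c45 LD3_c31)) = (LP (LK LD1_c6 LD2_c10 LD3_c39)) :=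
  Lgr Lrot126 (Lpe (K7.f105212 IH) (Lpr_bt (K4.f95604 IH) (Lpr_gt (f122309 IH) (Lpe (f129467 IH) (Lpr_gt (f129465 IH) (Lpe (f9803 IH) (Lpe (f111487 IH) (Lpr_gt (f127429 IH) (Lpe (f127432 IH) (Lpr_ct (f117059 IH) (Lpn (LP (LK LD1_c6 LD2_c10 LD3_c39)))))))))))))
theorem f151479 : Led Lsl_gt (LP (LK LD1_c12 LD2_c1 LD3_c53)) = (LP (LK LD1_c6 LD2_c53 LD3_c7)) :=
  Lgr Lrot94 (Lpe (f95999 IH) (Lpe (f129469 IH) (Lpe (f105531 IH) (Lpr_gt (K7.f61897 IH) (Lpe (f151447 IH) (Lpe (K7.f128840 IH) (Lpr_df (K7.f151472 IH) (Lpe (K4.f122086 IH) (Lpe (K7.f121998 IH) (Lpn (LP (LK LD1_c6 LD2_c53 LD3_c7))))))))))))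
theorem f157197 : Led Lsl_ct (LP (LK LD1_c11 LD2_c29 LD3_c56)) = (LP (LK LD1_c5 LD2_c51 LD3_c16)) :=
  Lre_c IH (LK LD1_c11 LD2_c29 LD3_c56) (LK LD1_c5 LD2_c51 LD3_c16) Lrfl Lrfl
theorem f158026 : Led Lsl_gt (LP (LK LD1_c7 LD2_c41 LD3_c10)) = (LP (LK LD1_c11 LD2_c29 LD3_c56)) :=
  Lgr Lrot150 (Lpe (K5.f121971 IH) (Lpe (f151479 IH) (Lpr_df (f144885 IH) (Lpr_gt (f107305 IH) (Lpr_ct (K5.f95916 IH) (Lpr_gt (K6.f95917 IH) (Lpe (K6.f136777 IH) (Lpr_df (f158010 IH) (Lpe (f157197 IH) (Lpn (LP (LK LD1_c11 LD2_c29 LD3_c56))))))))))))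
theorem f158029 : Led Lsl_at (LP (LK LD1_c7 LD2_c35 LD3_c40)) = (LP (LK LD1_c11 LD2_c29 LD3_c56)) :=
  Lgr Lrot26 (Lpr_ff (K4.f117131 IH) (Lpr_gt (K5.f64263 IH) (Lpr_gt (f158026 IH) (Lpn (LP (LK LD1_c11 LD2_c29 LD3_c56))))))
theorem f63725 : Led Lsl_ct (LP (LK LD1_c3 LD2_c47 LD3_c25)) = (LP (LK LD1_c7 LD2_c35 LD3_c40)) :=
  Lre_c IH (LK LD1_c3 LD2_c47 LD3_c25) (LK LD1_c7 LD2_c35 LD3_c40) Lrfl Lrfl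
theorem f158035 : Led Lsl_af (LP (LK LD1_c3 LD2_c47 LD3_c25)) = (LP (LK LD1_c5 LD2_c51 LD3_c16)) :=
  Lgr Lrot68 (Lpr_ct (f63725 IH) (Lpr_at (f158029 IH) (Lpr_ct (f157197 IH) (Lpn (LP (LK LD1_c5 LD2_c51 LD3_c16))))))
theorem f116691 : Led Lsl_et (LP (LK LD1_c3 LD2_c47 LD3_c25)) = (LP (LK LD1_c7 LD2_c35 LD3_c41)) :=
  Lre_e IH (LK LD1_c3 LD2_c47 LD3_c25) (LK LD1_c7 LD2_c35 LD3_c41) Lrfl Lrfl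
theorem f158014 : Led Lsl_et (LP (LK LD1_c11 LD2_c29 LD3_c60)) = (LP (LK LD1_c5 LD2_c51 LD3_c16)) :=
  Lre_e IH (LK LD1_c11 LD2_c29 LD3_c60) (LK LD1_c5 LD2_c51 LD3_c16) Lrfl Lrfl
theorem f158037 : Led Lsl_at (LP (LK LD1_c7 LD2_c35 LD3_c41)) = (LP (LK LD1_c11 LD2_c29 LD3_c60)) :=
  Lgr Lrot80 (Lpe (f116691 IH) (Lpr_af (f158035 IH) (Lpe (f158014 IH) (Lpn (LP (LK LD1_c11 LD2_c29 LD3_c60))))))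
theorem f117064 : Led Lsl_dt (LP (LK LD1_c14 LD2_c19 LD3_c0)) = (LP (LK LD1_c7 LD2_c35 LD3_c41)) :=
  Lre_d IH (LK LD1_c14 LD2_c19 LD3_c0) (LK LD1_c7 LD2_c35 LD3_c41) Lrfl Lrfl
theorem f158015 : Led Lsl_dt (LP (LK LD1_c11 LD2_c29 LD3_c60)) = (LP (LK LD1_c20 LD2_c27 LD3_c7)) :=
  Lre_d IH (LK LD1_c11 LD2_c29 LD3_c60) (LK LD1_c20 LD2_c27 LD3_c7) Lrfl Lrfl
theorem f158042 : Led Lsl_af (LP (LK LD1_c14 LD2_c19 LD3_c0)) = (LP (LK LD1_c20 LD2_c27 LD3_c7)) :=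
  Lgr Lrot117 (Lpr_dt (f117064 IH) (Lpr_at (f158037 IH) (Lpr_dt (f158015 IH) (Lpn (LP (LK LD1_c20 LD2_c27 LD3_c7))))))
theorem f158047 : Led Lsl_bt (LP (LK LD1_c14 LD2_c19 LD3_c0)) = (LP (LK LD1_c7 LD2_c35 LD3_c47)) :=
  Lre_b IH (LK LD1_c14 LD2_c19 LD3_c0) (LK LD1_c7 LD2_c35 LD3_c47) Lrfl Lrfl
theorem f110127 : Led Lsl_at (LP (LK LD1_c7 LD2_c35 LD3_c47)) = (LP (LK LD1_c3 LD2_c50 LD3_c41)) :=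
  Lgr Lrot100 (Lpr_af (K3.f110123 IH) (Lpn (LP (LK LD1_c3 LD2_c50 LD3_c41))))
theorem f158048 : Led Lsl_bt (LP (LK LD1_c3 LD2_c50 LD3_c41)) = (LP (LK LD1_c7 LD2_c42 LD3_c12)) :=
  Lre_b IH (LK LD1_c3 LD2_c50 LD3_c41) (LK LD1_c7 LD2_c42 LD3_c12) Lrfl Lrfl
theorem f158049 : Led Lsl_bt (LP (LK LD1_c11 LD2_c30 LD3_c1)) = (LP (LK LD1_c20 LD2_c27 LD3_c7)) :=
  Lre_b IH (LK LD1_c11 LD2_c30 LD3_c1) (LK LD1_c20 LD2_c27 LD3_c7) Lrfl Lrfl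
theorem f158050 : Led Lsl_at (LP (LK LD1_c7 LD2_c42 LD3_c12)) = (LP (LK LD1_c11 LD2_c30 LD3_c1)) :=
  Lgr Lrot67 (Lpe (f158048 IH) (Lpe (f110127 IH) (Lpe (f158047 IH) (Lpr_af (f158042 IH) (Lpe (f158049 IH) (Lpn (LP (LK LD1_c11 LD2_c30 LD3_c1))))))))
theorem f66315 : Led Lsl_ft (LP (LK LD1_c14 LD2_c31 LD3_c7)) = (LP (LK LD1_c7 LD2_c42 LD3_c12)) :=
  Lre_f IH (LK LD1_c14 LD2_c31 LD3_c7) (LK LD1_c7 LD2_c42 LD3_c12) Lrfl Lrfl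
theorem f158064 : Led Lsl_ft (LP (LK LD1_c11 LD2_c30 LD3_c1)) = (LP (LK LD1_c20 LD2_c27 LD3_c16)) :=
  Lre_f IH (LK LD1_c11 LD2_c30 LD3_c1) (LK LD1_c20 LD2_c27 LD3_c16) Lrfl Lrfl
theorem f158065 : Led Lsl_af (LP (LK LD1_c14 LD2_c31 LD3_c7)) = (LP (LK LD1_c20 LD2_c27 LD3_c16)) :=
  Lgr Lrot45 (Lpr_ft (f66315 IH) (Lpr_at (f158050 IH) (Lpr_ft (f158064 IH) (Lpn (LP (LK LD1_c20 LD2_c27 LD3_c16))))))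
theorem f66309 : Led Lsl_dt (LP (LK LD1_c14 LD2_c31 LD3_c7)) = (LP (LK LD1_c7 LD2_c42 LD3_c13)) :=
  Lre_d IH (LK LD1_c14 LD2_c31 LD3_c7) (LK LD1_c7 LD2_c42 LD3_c13) Lrfl Lrfl
theorem f158075 : Led Lsl_dt (LP (LK LD1_c11 LD2_c30 LD3_c2)) = (LP (LK LD1_c20 LD2_c27 LD3_c16)) :=
  Lre_d IH (LK LD1_c11 LD2_c30 LD3_c2) (LK LD1_c20 LD2_c27 LD3_c16) Lrfl Lrfl
theorem f158076 : Led Lsl_at (LP (LK LD1_c7 LD2_c42 LD3_c13)) = (LP (LK LD1_c11 LD2_c30 LD3_c2)) :=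
  Lgr Lrot51 (Lpe (f66309 IH) (Lpr_af (f158065 IH) (Lpe (f158075 IH) (Lpn (LP (LK LD1_c11 LD2_c30 LD3_c2))))))
theorem f158085 : Led Lsl_af (LP (LK LD1_c7 LD2_c42 LD3_c13)) = (LP (LK LD1_c11 LD2_c30 LD3_c2)) :=
  Lgr Lrot0 (Lpr_at (f158076 IH) (Lpn (LP (LK LD1_c11 LD2_c30 LD3_c2))))
theorem f66389 : Led Lsl_ft (LP (LK LD1_c7 LD2_c42 LD3_c13)) = (LP (LK LD1_c3 LD2_c50 LD3_c34)) :=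
  Lre_f IH (LK LD1_c7 LD2_c42 LD3_c13) (LK LD1_c3 LD2_c50 LD3_c34) Lrfl Lrfl
theorem f158097 : Led Lsl_ft (LP (LK LD1_c5 LD2_c51 LD3_c17)) = (LP (LK LD1_c11 LD2_c30 LD3_c2)) :=
  Lre_f IH (LK LD1_c5 LD2_c51 LD3_c17) (LK LD1_c11 LD2_c30 LD3_c2) Lrfl Lrfl
theorem f158098 : Led Lsl_at (LP (LK LD1_c3 LD2_c50 LD3_c34)) = (LP (LK LD1_c5 LD2_c51 LD3_c17)) :=
  Lgr Lrot66 (Lpe (f66389 IH) (Lpr_af (f158085 IH) (Lpe (f158097 IH) (Lpn (LP (LK LD1_c5 LD2_c51 LD3_c17))))))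
theorem f158081 : Led Lsl_ct (LP (LK LD1_c5 LD2_c51 LD3_c17)) = (LP (LK LD1_c2 LD2_c51 LD3_c55)) :=
  Lre_c IH (LK LD1_c5 LD2_c51 LD3_c17) (LK LD1_c2 LD2_c51 LD3_c55) Lrfl Lrfl
theorem f158104 : Led Lsl_af (LP (LK LD1_c2 LD2_c49 LD3_c56)) = (LP (LK LD1_c2 LD2_c51 LD3_c55)) :=
  Lgr Lrot68 (Lpe (K6.f66313 IH) (Lpr_at (f158098 IH) (Lpr_ct (f158081 IH) (Lpn (LP (LK LD1_c2 LD2_c51 LD3_c55))))))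
theorem f66278 : Led Lsl_bt (LP (LK LD1_c2 LD2_c49 LD3_c56)) = (LP (LK LD1_c5 LD2_c47 LD3_c46)) :=
  Lre_b IH (LK LD1_c2 LD2_c49 LD3_c56) (LK LD1_c5 LD2_c47 LD3_c46) Lrfl Lrfl
theorem f66391 : Led Lsl_at (LP (LK LD1_c5 LD2_c47 LD3_c46)) = (LP (LK LD1_c11 LD2_c25 LD3_c13)) :=
  Lre_a IH (LK LD1_c5 LD2_c47 LD3_c46) (LK LD1_c11 LD2_c25 LD3_c13) Lrfl Lrfl
theorem f22469 : Led Lsl_ct (LP (LK LD1_c1 LD2_c5 LD3_c28)) = (LP (LK LD1_c2 LD2_c17 LD3_c2)) :=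
  Lre_c IH (LK LD1_c1 LD2_c5 LD3_c28) (LK LD1_c2 LD2_c17 LD3_c2) Lrfl Lrfl
theorem f22468 : Led Lsl_bt (LP (LK LD1_c1 LD2_c5 LD3_c28)) = (LP (LK LD1_c0 LD2_c29 LD3_c58)) :=
  Lre_b IH (LK LD1_c1 LD2_c5 LD3_c28) (LK LD1_c0 LD2_c29 LD3_c58) Lrfl Lrfl
theorem f119897 : Led Lsl_cf (LP (LK LD1_c2 LD2_c54 LD3_c39)) = (LP (LK LD1_c5 LD2_c47 LD3_c44)) :=
  Lgr Lrot55 (Lpr_dt (K4.f119891 IH) (Lpr_ct (K4.f79434 IH) (Lpe (K4.f119664 IH) (Lpr_ct (K4.f112689 IH) (Lpr_dt (K4.f119650 IH) (Lpe (K4.f36539 IH) (Lpe (K4.f112934 IH) (Lpr_ct (K4.f24057 IH) (Lpr_dt (K4.f112266 IH) (Lpr_ct (K4.f60980 IH) (Lpe (K4.f112624 IH) (Lpr_ct (K4.f81797 IH) (Lpr_dt (K4.f112834 IH) (Lpe (K4.f117543 IH) (Lpr_dt (K4.f117532 IH) (Lpn (LP (LK LD1_c5 LD2_c47 LD3_c44))))))))))))))))))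
theorem f157041 : Led Lsl_bf (LP (LK LD1_c4 LD2_c58 LD3_c22)) = (LP (LK LD1_c5 LD2_c47 LD3_c44)) :=
  Lgr Lrot165 (Lpr_gt (f138970 IH) (Lpr_ct (f157020 IH) (Lpr_gt (f23911 IH) (Lpe (f22469 IH) (Lpr_bt (f22468 IH) (Lpe (K0.f23895 IH) (Lpe (K4.f23912 IH) (Lpr_ct (K4.f23913 IH) (Lpr_gt (K4.f23914 IH) (Lpr_cf (f119897 IH) (Lpn (LP (LK LD1_c5 LD2_c47 LD3_c44)))))))))))))
theorem f157015 : Led Lsl_et (LP (LK LD1_c4 LD2_c58 LD3_c22)) = (LP (LK LD1_c9 LD2_c47 LD3_c25)) :=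
  Lre_e IH (LK LD1_c4 LD2_c58 LD3_c22) (LK LD1_c9 LD2_c47 LD3_c25) Lrfl Lrfl
theorem f117535 : Led Lsl_et (LP (LK LD1_c11 LD2_c25 LD3_c13)) = (LP (LK LD1_c5 LD2_c47 LD3_c44)) :=
  Lre_e IH (LK LD1_c11 LD2_c25 LD3_c13) (LK LD1_c5 LD2_c47 LD3_c44) Lrfl Lrfl
theorem f157043 : Led Lsl_bt (LP (LK LD1_c9 LD2_c47 LD3_c25)) = (LP (LK LD1_c11 LD2_c25 LD3_c13)) :=
  Lgr Lrot119 (Lpe (f157015 IH) (Lpr_bf (f157041 IH) (Lpe (f117535 IH) (Lpn (LP (LK LD1_c11 LD2_c25 LD3_c13))))))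
theorem f157123 : Led Lsl_bf (LP (LK LD1_c9 LD2_c47 LD3_c25)) = (LP (LK LD1_c11 LD2_c25 LD3_c13)) :=
  Lgr Lrot24 (Lpr_bt (f157043 IH) (Lpn (LP (LK LD1_c11 LD2_c25 LD3_c13))))
theorem f158116 : Led Lsl_bt (LP (LK LD1_c5 LD2_c51 LD3_c15)) = (LP (LK LD1_c2 LD2_c51 LD3_c55)) :=
  Lre_b IH (LK LD1_c5 LD2_c51 LD3_c15) (LK LD1_c2 LD2_c51 LD3_c55) Lrfl Lrfl
theorem f158117 : Led Lsl_at (LP (LK LD1_c9 LD2_c47 LD3_c25)) = (LP (LK LD1_c5 LD2_c51 LD3_c15)) :=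
  Lgr Lrot67 (Lpr_bf (f157123 IH) (Lpe (f66391 IH) (Lpe (f66278 IH) (Lpr_af (f158104 IH) (Lpe (f158116 IH) (Lpn (LP (LK LD1_c5 LD2_c51 LD3_c15))))))))
theorem f158121 : Led Lsl_af (LP (LK LD1_c4 LD2_c58 LD3_c22)) = (LP (LK LD1_c2 LD2_c51 LD3_c53)) :=
  Lgr Lrot50 (Lpr_et (f157015 IH) (Lpr_at (f158117 IH) (Lpr_et (f157204 IH) (Lpn (LP (LK LD1_c2 LD2_c51 LD3_c53))))))
theorem f157205 : Led Lsl_ft (LP (LK LD1_c2 LD2_c49 LD3_c60)) = (LP (LK LD1_c2 LD2_c51 LD3_c53)) :=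
  Lgr Lrot54 (Lpe (K4.f73026 IH) (Lpe (K5.f132491 IH) (Lpr_df (f157194 IH) (Lpn (LP (LK LD1_c2 LD2_c51 LD3_c53))))))
theorem f100289 : Led Lsl_gt (LP (LK LD1_c2 LD2_c49 LD3_c60)) = (LP (LK LD1_c5 LD2_c47 LD3_c55)) :=
  Lre_g IH (LK LD1_c2 LD2_c49 LD3_c60) (LK LD1_c5 LD2_c47 LD3_c55) Lrfl Lrfl
theorem f158129 : Led Lsl_gf (LP (LK LD1_c4 LD2_c58 LD3_c22)) = (LP (LK LD1_c5 LD2_c47 LD3_c55)) :=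
  Lgr Lrot76 (Lpr_af (f158121 IH) (Lpe (f157205 IH) (Lpr_gt (f100289 IH) (Lpn (LP (LK LD1_c5 LD2_c47 LD3_c55))))))
theorem f25136 : Led Lsl_dt (LP (LK LD1_c0 LD2_c29 LD3_c39)) = (LP (LK LD1_c1 LD2_c4 LD3_c53)) :=
  Lre_d IH (LK LD1_c0 LD2_c29 LD3_c39) (LK LD1_c1 LD2_c4 LD3_c53) Lrfl Lrfl
theorem f157013 : Led Lsl_dt (LP (LK LD1_c4 LD2_c58 LD3_c22)) = (LP (LK LD1_c4 LD2_c34 LD3_c24)) :=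
  Lgr Lrot42 (Lpr_df (f157006 IH) (Lpn (LP (LK LD1_c4 LD2_c34 LD3_c24))))
theorem f72269 : Led Lsl_dt (LP (LK LD1_c1 LD2_c4 LD3_c57)) = (LP (LK LD1_c2 LD2_c15 LD3_c56)) :=
  Lre_d IH (LK LD1_c1 LD2_c4 LD3_c57) (LK LD1_c2 LD2_c15 LD3_c56) Lrfl Lrfl
theorem f148938 : Led Lsl_gt (LP (LK LD1_c2 LD2_c14 LD3_c28)) = (LP (LK LD1_c4 LD2_c25 LD3_c50)) :=
  Lgr Lrot46 (Lpr_gf (K7.f148936 IH) (Lpe (K6.f138914 IH) (Lpr_at (K6.f138881 IH) (Lpn (LP (LK LD1_c4 LD2_c25 LD3_c50))))))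
theorem f158135 : Led Lsl_dt (LP (LK LD1_c4 LD2_c25 LD3_c50)) = (LP (LK LD1_c5 LD2_c47 LD3_c55)) :=
  Lgr Lrot57 (Lpe (f148938 IH) (Lpe (K5.f25394 IH) (Lpr_gt (K2.f72254 IH) (Lpr_dt (f72269 IH) (Lpr_gt (f99814 IH) (Lpe (K5.f119013 IH) (Lpe (K5.f132542 IH) (Lpe (f157013 IH) (Lpr_gf (f158129 IH) (Lpn (LP (LK LD1_c5 LD2_c47 LD3_c55))))))))))))
theorem f158137 : Led Lsl_gf (LP (LK LD1_c2 LD2_c27 LD3_c1)) = (LP (LK LD1_c4 LD2_c25 LD3_c50)) :=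
  Lgr Lrot147 (Lpr_ct (K7.f119687 IH) (Lpr_gt (K7.f80109 IH) (Lpr_ct (K7.f80110 IH) (Lpe (K5.f99946 IH) (Lpe (K6.f100173 IH) (Lpe (K6.f100174 IH) (Lpr_cf (f148942 IH) (Lpr_gf (f158129 IH) (Lpe (f158135 IH) (Lpn (LP (LK LD1_c4 LD2_c25 LD3_c50))))))))))))
theorem f158139 : Led Lsl_df (LP (LK LD1_c4 LD2_c25 LD3_c50)) = (LP (LK LD1_c5 LD2_c47 LD3_c55)) :=
  Lgr Lrot155 (Lpe (f158137 IH) (Lpr_ct (K7.f119687 IH) (Lpr_gt (K7.f80109 IH) (Lpr_ct (K7.f80110 IH) (Lpr_dt (f25136 IH) (Lpe (K6.f100173 IH) (Lpe (K6.f100174 IH) (Lpr_cf (f148942 IH) (Lpr_gf (f158129 IH) (Lpn (LP (LK LD1_c5 LD2_c47 LD3_c55))))))))))))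
theorem f138885 : Led Lsl_ct (LP (LK LD1_c2 LD2_c10 LD3_c16)) = (LP (LK LD1_c4 LD2_c25 LD3_c50)) :=
  Lre_c IH (LK LD1_c2 LD2_c10 LD3_c16) (LK LD1_c4 LD2_c25 LD3_c50) Lrfl Lrfl
theorem f142074 : Led Lsl_ct (LP (LK LD1_c2 LD2_c49 LD3_c57)) = (LP (LK LD1_c2 LD2_c16 LD3_c47)) :=
  Lgr Lrot7 (Lpr_df (f142039 IH) (Lpr_gf (K6.f135944 IH) (Lpr_df (K6.f141951 IH) (Lpe (f141956 IH) (Lpe (K6.f36009 IH) (Lpr_gt (K5.f26590 IH) (Lpr_dt (K6.f70484 IH) (Lpr_gt (K6.f38100 IH) (Lpe (f80223 IH) (Lpn (LP (LK LD1_c2 LD2_c16 LD3_c47))))))))))))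
theorem f112187 : Led Lsl_dt (LP (LK LD1_c3 LD2_c4 LD3_c52)) = (LP (LK LD1_c1 LD2_c28 LD3_c31)) :=
  Lre_d IH (LK LD1_c3 LD2_c4 LD3_c52) (LK LD1_c1 LD2_c28 LD3_c31) Lrfl Lrfl
theorem f117865 : Led Lsl_at (LP (LK LD1_c1 LD2_c28 LD3_c31)) = (LP (LK LD1_c1 LD2_c21 LD3_c0)) :=
  Lgr Lrot51 (Lpe (f112187 IH) (Lpr_af (K5.f117861 IH) (Lpe (f66375 IH) (Lpn (LP (LK LD1_c1 LD2_c21 LD3_c0))))))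
theorem f132393 : Led Lsl_at (LP (LK LD1_c2 LD2_c14 LD3_c8)) = (LP (LK LD1_c1 LD2_c21 LD3_c3)) :=
  Lgr Lrot66 (Lpr_ff (K5.f117848 IH) (Lpe (f117865 IH) (Lpr_ff (K5.f132391 IH) (Lpn (LP (LK LD1_c1 LD2_c21 LD3_c3))))))
theorem f20562 : Led Lsl_gt (LP (LK LD1_c1 LD2_c21 LD3_c0)) = (LP (LK LD1_c2 LD2_c49 LD3_c52)) :=
  Lre_g IH (LK LD1_c1 LD2_c21 LD3_c0) (LK LD1_c2 LD2_c49 LD3_c52) Lrfl Lrfl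
theorem f132404 : Led Lsl_gt (LP (LK LD1_c2 LD2_c49 LD3_c52)) = (LP (LK LD1_c1 LD2_c21 LD3_c3)) :=
  Lgr Lrot46 (Lpe (f20562 IH) (Lpe (K5.f117848 IH) (Lpr_at (f132393 IH) (Lpn (LP (LK LD1_c1 LD2_c21 LD3_c3))))))
theorem f20560 : Led Lsl_bt (LP (LK LD1_c1 LD2_c26 LD3_c5)) = (LP (LK LD1_c0 LD2_c39 LD3_c45)) :=
  Lre_b IH (LK LD1_c1 LD2_c26 LD3_c5) (LK LD1_c0 LD2_c39 LD3_c45) Lrfl Lrfl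
theorem f20563 : Led Lsl_ct (LP (LK LD1_c1 LD2_c26 LD3_c5)) = (LP (LK LD1_c2 LD2_c49 LD3_c52)) :=
  Lgr Lrot63 (Lpr_bt (f20560 IH) (Lpr_gt (K2.f20559 IH) (Lpe (K6.f20558 IH) (Lpr_ct (K4.f7103 IH) (Lpr_gt (K0.f20546 IH) (Lpe (K1.f20265 IH) (Lpr_bt (K4.f13445 IH) (Lpr_gt (K4.f13446 IH) (Lpr_ct (f20561 IH) (Lpr_gt (f20562 IH) (Lpn (LP (LK LD1_c2 LD2_c49 LD3_c52)))))))))))))
theorem f72884 : Led Lsl_gt (LP (LK LD1_c1 LD2_c25 LD3_c61)) = (LP (LK LD1_c0 LD2_c39 LD3_c45)) :=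
  Lre_g IH (LK LD1_c1 LD2_c25 LD3_c61) (LK LD1_c0 LD2_c39 LD3_c45) Lrfl Lrfl
theorem f142087 : Led Lsl_gf (LP (LK LD1_c2 LD2_c48 LD3_c57)) = (LP (LK LD1_c2 LD2_c16 LD3_c47)) :=
  Lgr Lrot129 (Lpe (K4.f60359 IH) (Lpr_bt (K4.f72966 IH) (Lpr_gt (f72884 IH) (Lpe (f20560 IH) (Lpr_ct (f20563 IH) (Lpr_gt (f132404 IH) (Lpe (f117294 IH) (Lpr_bt (K5.f132329 IH) (Lpr_gt (f132406 IH) (Lpr_ct (f142074 IH) (Lpn (LP (LK LD1_c2 LD2_c16 LD3_c47)))))))))))))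
theorem f72994 : Led Lsl_ct (LP (LK LD1_c3 LD2_c2 LD3_c5)) = (LP (LK LD1_c1 LD2_c27 LD3_c13)) :=
  Lre_c IH (LK LD1_c3 LD2_c2 LD3_c5) (LK LD1_c1 LD2_c27 LD3_c13) Lrfl Lrfl
theorem f72999 : Led Lsl_gt (LP (LK LD1_c4 LD2_c39 LD3_c58)) = (LP (LK LD1_c3 LD2_c2 LD3_c5)) :=
  Lre_g IH (LK LD1_c4 LD2_c39 LD3_c58) (LK LD1_c3 LD2_c2 LD3_c5) Lrfl Lrfl
theorem f100252 : Led Lsl_dt (LP (LK LD1_c2 LD2_c49 LD3_c60)) = (LP (LK LD1_c1 LD2_c21 LD3_c2)) :=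
  Lre_d IH (LK LD1_c2 LD2_c49 LD3_c60) (LK LD1_c1 LD2_c21 LD3_c2) Lrfl Lrfl
theorem f142089 : Led Lsl_cf (LP (LK LD1_c4 LD2_c39 LD3_c58)) = (LP (LK LD1_c5 LD2_c47 LD3_c55)) :=
  Lgr Lrot169 (Lpr_gt (f72999 IH) (Lpr_ct (f72994 IH) (Lpe (K4.f72996 IH) (Lpe (K4.f60662 IH) (Lpr_gf (f142087 IH) (Lpe (f142074 IH) (Lpe (f132406 IH) (Lpe (f100252 IH) (Lpr_gt (f100289 IH) (Lpn (LP (LK LD1_c5 LD2_c47 LD3_c55))))))))))))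
theorem f142091 : Led Lsl_ct (LP (LK LD1_c4 LD2_c39 LD3_c58)) = (LP (LK LD1_c5 LD2_c47 LD3_c55)) :=
  Lgr Lrot59 (Lpr_cf (f142089 IH) (Lpn (LP (LK LD1_c5 LD2_c47 LD3_c55))))
theorem f22470 : Led Lsl_gt (LP (LK LD1_c2 LD2_c17 LD3_c2)) = (LP (LK LD1_c4 LD2_c39 LD3_c58)) :=
  Lre_g IH (LK LD1_c2 LD2_c17 LD3_c2) (LK LD1_c4 LD2_c39 LD3_c58) Lrfl Lrfl
theorem f141268 : Led Lsl_at (LP (LK LD1_c1 LD2_c4 LD3_c58)) = (LP (LK LD1_c2 LD2_c15 LD3_c48)) :=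
  Lre_a IH (LK LD1_c1 LD2_c4 LD3_c58) (LK LD1_c2 LD2_c15 LD3_c48) Lrfl Lrfl
theorem f141267 : Led Lsl_ft (LP (LK LD1_c2 LD2_c15 LD3_c32)) = (LP (LK LD1_c1 LD2_c4 LD3_c58)) :=
  Lre_f IH (LK LD1_c2 LD2_c15 LD3_c32) (LK LD1_c1 LD2_c4 LD3_c58) Lrfl Lrfl
theorem f157164 : Led Lsl_gt (LP (LK LD1_c2 LD2_c15 LD3_c32)) = (LP (LK LD1_c1 LD2_c5 LD3_c28)) :=
  Lgr Lrot5 (Lpr_ft (f141267 IH) (Lpr_at (f141268 IH) (Lpr_gf (f157154 IH) (Lpn (LP (LK LD1_c1 LD2_c5 LD3_c28))))))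
theorem f35544 : Led Lsl_ct (LP (LK LD1_c0 LD2_c29 LD3_c43)) = (LP (LK LD1_c1 LD2_c2 LD3_c15)) :=
  Lre_c IH (LK LD1_c0 LD2_c29 LD3_c43) (LK LD1_c1 LD2_c2 LD3_c15) Lrfl Lrfl
theorem f158154 : Led Lsl_gf (LP (LK LD1_c2 LD2_c10 LD3_c16)) = (LP (LK LD1_c1 LD2_c2 LD3_c15)) :=
  Lgr Lrot104 (Lpr_ct (f138885 IH) (Lpr_df (f158139 IH) (Lpe (f142091 IH) (Lpe (f22470 IH) (Lpe (f22469 IH) (Lpe (f157164 IH) (Lpe (K6.f141300 IH) (Lpr_gt (K6.f142118 IH) (Lpr_ct (f35544 IH) (Lpn (LP (LK LD1_c1 LD2_c2 LD3_c15))))))))))))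
theorem f35576 : Led Lsl_bt (LP (LK LD1_c0 LD2_c28 LD3_c25)) = (LP (LK LD1_c1 LD2_c2 LD3_c15)) :=
  Lre_b IH (LK LD1_c0 LD2_c28 LD3_c25) (LK LD1_c1 LD2_c2 LD3_c15) Lrfl Lrfl
theorem f158160 : Led Lsl_bf (LP (LK LD1_c2 LD2_c10 LD3_c16)) = (LP (LK LD1_c4 LD2_c0 LD3_c45)) :=
  Lgr Lrot34 (Lpr_gf (f158154 IH) (Lpe (f35576 IH) (Lpr_ct (K1.f16653 IH) (Lpr_gf (K1.f35541 IH) (Lpe (K1.f35572 IH) (Lpe (K1.f35594 IH) (Lpe (K7.f29492 IH) (Lpr_ct (K7.f29461 IH) (Lpe (K7.f29500 IH) (Lpe (K7.f29489 IH) (Lpn (LP (LK LD1_c4 LD2_c0 LD3_c45)))))))))))))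
theorem f148955 : Led Lsl_ft (LP (LK LD1_c2 LD2_c10 LD3_c16)) = (LP (LK LD1_c1 LD2_c2 LD3_c11)) :=
  Lre_f IH (LK LD1_c2 LD2_c10 LD3_c16) (LK LD1_c1 LD2_c2 LD3_c11) Lrfl Lrfl
theorem f38524 : Led Lsl_bt (LP (LK LD1_c1 LD2_c2 LD3_c11)) = (LP (LK LD1_c2 LD2_c10 LD3_c12)) :=
  Lre_b IH (LK LD1_c1 LD2_c2 LD3_c11) (LK LD1_c2 LD2_c10 LD3_c12) Lrfl Lrfl
theorem f158181 : Led Lsl_ft (LP (LK LD1_c2 LD2_c10 LD3_c12)) = (LP (LK LD1_c4 LD2_c0 LD3_c45)) :=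
  Lgr Lrot75 (Lpe (f38524 IH) (Lpe (f148955 IH) (Lpr_bf (f158160 IH) (Lpn (LP (LK LD1_c4 LD2_c0 LD3_c45))))))
theorem f158191 : Led Lsl_ff (LP (LK LD1_c2 LD2_c10 LD3_c12)) = (LP (LK LD1_c4 LD2_c0 LD3_c45)) :=
  Lgr Lrot3 (Lpr_ft (f158181 IH) (Lpn (LP (LK LD1_c4 LD2_c0 LD3_c45))))
theorem f158193 : Led Lsl_ft (LP (LK LD1_c4 LD2_c0 LD3_c40)) = (LP (LK LD1_c1 LD2_c57 LD3_c9)) :=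
  Lre_f IH (LK LD1_c4 LD2_c0 LD3_c40) (LK LD1_c1 LD2_c57 LD3_c9) Lrfl Lrfl
theorem f158194 : Led Lsl_ct (LP (LK LD1_c2 LD2_c10 LD3_c12)) = (LP (LK LD1_c4 LD2_c0 LD3_c40)) :=
  Lgr Lrot40 (Lpr_ff (f158191 IH) (Lpe (K7.f29486 IH) (Lpe (f158193 IH) (Lpn (LP (LK LD1_c4 LD2_c0 LD3_c40))))))
theorem f38525 : Led Lsl_gt (LP (LK LD1_c4 LD2_c25 LD3_c43)) = (LP (LK LD1_c2 LD2_c10 LD3_c12)) :=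
  Lre_g IH (LK LD1_c4 LD2_c25 LD3_c43) (LK LD1_c2 LD2_c10 LD3_c12) Lrfl Lrfl
theorem f38521 : Led Lsl_ct (LP (LK LD1_c4 LD2_c25 LD3_c14)) = (LP (LK LD1_c2 LD2_c10 LD3_c2)) :=
  Lre_c IH (LK LD1_c4 LD2_c25 LD3_c14) (LK LD1_c2 LD2_c10 LD3_c2) Lrfl Lrfl
theorem f38526 : Led Lsl_bt (LP (LK LD1_c4 LD2_c25 LD3_c14)) = (LP (LK LD1_c4 LD2_c25 LD3_c43)) :=
  Lgr Lrot22 (Lpr_ct (f38521 IH) (Lpe (K6.f38008 IH) (Lpr_cf (K1.f38484 IH) (Lpe (K6.f36004 IH) (Lpe (K6.f36007 IH) (Lpr_ct (K7.f36008 IH) (Lpe (K6.f38522 IH) (Lpe (K6.f38523 IH) (Lpr_bt (f38524 IH) (Lpe (f38525 IH) (Lpn (LP (LK LD1_c4 LD2_c25 LD3_c43)))))))))))))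
theorem f158212 : Led Lsl_gf (LP (LK LD1_c1 LD2_c57 LD3_c12)) = (LP (LK LD1_c4 LD2_c0 LD3_c40)) :=
  Lgr Lrot129 (Lpr_cf (K7.f29333 IH) (Lpr_bt (K7.f29330 IH) (Lpr_gt (K1.f35820 IH) (Lpe (K1.f35629 IH) (Lpe (K1.f38484 IH) (Lpr_gt (K6.f38008 IH) (Lpe (f38521 IH) (Lpr_bt (f38526 IH) (Lpr_gt (f38525 IH) (Lpr_ct (f158194 IH) (Lpn (LP (LK LD1_c4 LD2_c0 LD3_c40)))))))))))))
theorem f158214 : Led Lsl_af (LP (LK LD1_c3 LD2_c59 LD3_c31)) = (LP (LK LD1_c1 LD2_c57 LD3_c9)) :=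
  Lgr Lrot31 (Lpe (K7.f37045 IH) (Lpr_gf (f158212 IH) (Lpr_ft (f158193 IH) (Lpn (LP (LK LD1_c1 LD2_c57 LD3_c9))))))
theorem f69418 : Led Lsl_at (LP (LK LD1_c1 LD2_c57 LD3_c8)) = (LP (LK LD1_c4 LD2_c0 LD3_c40)) :=
  Lre_a IH (LK LD1_c1 LD2_c57 LD3_c8) (LK LD1_c4 LD2_c0 LD3_c40) Lrfl Lrfl
theorem f158227 : Led Lsl_ft (LP (LK LD1_c3 LD2_c59 LD3_c31)) = (LP (LK LD1_c1 LD2_c57 LD3_c8)) :=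
  Lgr Lrot101 (Lpr_af (f158214 IH) (Lpe (f158193 IH) (Lpe (f69418 IH) (Lpn (LP (LK LD1_c1 LD2_c57 LD3_c8))))))
theorem f158234 : Led Lsl_ff (LP (LK LD1_c3 LD2_c59 LD3_c31)) = (LP (LK LD1_c1 LD2_c57 LD3_c8)) :=
  Lgr Lrot3 (Lpr_ft (f158227 IH) (Lpn (LP (LK LD1_c1 LD2_c57 LD3_c8))))
theorem f37047 : Led Lsl_ct (LP (LK LD1_c3 LD2_c59 LD3_c31)) = (LP (LK LD1_c8 LD2_c0 LD3_c5)) :=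
  Lre_c IH (LK LD1_c3 LD2_c59 LD3_c31) (LK LD1_c8 LD2_c0 LD3_c5) Lrfl Lrfl
theorem f29487 : Led Lsl_ct (LP (LK LD1_c4 LD2_c0 LD3_c41)) = (LP (LK LD1_c1 LD2_c57 LD3_c8)) :=
  Lre_c IH (LK LD1_c4 LD2_c0 LD3_c41) (LK LD1_c1 LD2_c57 LD3_c8) Lrfl Lrfl
theorem f158238 : Led Lsl_ft (LP (LK LD1_c8 LD2_c0 LD3_c5)) = (LP (LK LD1_c4 LD2_c0 LD3_c41)) :=
  Lgr Lrot4 (Lpe (f37047 IH) (Lpr_ff (f158234 IH) (Lpe (f29487 IH) (Lpn (LP (LK LD1_c4 LD2_c0 LD3_c41))))))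
theorem f69484 : Led Lsl_at (LP (LK LD1_c4 LD2_c0 LD3_c40)) = (LP (LK LD1_c1 LD2_c57 LD3_c8)) :=
  Lre_a IH (LK LD1_c4 LD2_c0 LD3_c40) (LK LD1_c1 LD2_c57 LD3_c8) Lrfl Lrfl
theorem f158205 : Led Lsl_af (LP (LK LD1_c2 LD2_c10 LD3_c12)) = (LP (LK LD1_c4 LD2_c0 LD3_c41)) :=
  Lgr Lrot68 (Lpr_ct (f158194 IH) (Lpr_at (f69484 IH) (Lpr_ct (K6.f29501 IH) (Lpn (LP (LK LD1_c4 LD2_c0 LD3_c41))))))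
theorem f158247 : Led Lsl_gt (LP (LK LD1_c8 LD2_c0 LD3_c5)) = (LP (LK LD1_c4 LD2_c25 LD3_c43)) :=
  Lgr Lrot5 (Lpr_ft (f158238 IH) (Lpe (f158205 IH) (Lpe (f38525 IH) (Lpn (LP (LK LD1_c4 LD2_c25 LD3_c43))))))
theorem f37048 : Led Lsl_gt (LP (LK LD1_c3 LD2_c57 LD3_c47)) = (LP (LK LD1_c1 LD2_c55 LD3_c39)) :=
  Lre_g IH (LK LD1_c3 LD2_c57 LD3_c47) (LK LD1_c1 LD2_c55 LD3_c39) Lrfl Lrfl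
theorem f37049 : Led Lsl_bt (LP (LK LD1_c7 LD2_c56 LD3_c58)) = (LP (LK LD1_c3 LD2_c57 LD3_c47)) :=
  Lre_b IH (LK LD1_c7 LD2_c56 LD3_c58) (LK LD1_c3 LD2_c57 LD3_c47) Lrfl Lrfl
theorem f158251 : Led Lsl_ct (LP (LK LD1_c7 LD2_c56 LD3_c58)) = (LP (LK LD1_c4 LD2_c25 LD3_c43)) :=
  Lgr Lrot63 (Lpr_bt (f37049 IH) (Lpr_gt (f37048 IH) (Lpe (K1.f36933 IH) (Lpe (K1.f36936 IH) (Lpr_gt (K1.f36913 IH) (Lpe (K1.f29329 IH) (Lpr_bt (K7.f29332 IH) (Lpr_gt (K7.f37045 IH) (Lpr_ct (f37047 IH) (Lpr_gt (f158247 IH) (Lpn (LP (LK LD1_c4 LD2_c25 LD3_c43)))))))))))))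
theorem f72091 : Led Lsl_af (LP (LK LD1_c1 LD2_c55 LD3_c39)) = (LP (LK LD1_c2 LD2_c53 LD3_c16)) :=
  Lgr Lrot45 (Lpe (K6.f38570 IH) (Lpr_at (K2.f38504 IH) (Lpr_ft (K2.f72089 IH) (Lpn (LP (LK LD1_c2 LD2_c53 LD3_c16))))))
theorem f72101 : Led Lsl_gt (LP (LK LD1_c2 LD2_c10 LD3_c4)) = (LP (LK LD1_c3 LD2_c57 LD3_c47)) :=
  Lgr Lrot5 (Lpr_ft (K2.f72089 IH) (Lpe (f72091 IH) (Lpe (f37048 IH) (Lpn (LP (LK LD1_c3 LD2_c57 LD3_c47))))))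
theorem f158183 : Led Lsl_ft (LP (LK LD1_c1 LD2_c57 LD3_c9)) = (LP (LK LD1_c4 LD2_c0 LD3_c40)) :=
  Lre_f IH (LK LD1_c1 LD2_c57 LD3_c9) (LK LD1_c4 LD2_c0 LD3_c40) Lrfl Lrfl
theorem f158184 : Led Lsl_cf (LP (LK LD1_c2 LD2_c10 LD3_c12)) = (LP (LK LD1_c4 LD2_c0 LD3_c40)) :=
  Lgr Lrot108 (Lpr_ft (f158181 IH) (Lpr_ct (K7.f29489 IH) (Lpr_ft (f158183 IH) (Lpn (LP (LK LD1_c4 LD2_c0 LD3_c40))))))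
theorem f158258 : Led Lsl_bf (LP (LK LD1_c2 LD2_c53 LD3_c4)) = (LP (LK LD1_c4 LD2_c0 LD3_c40)) :=
  Lgr Lrot165 (Lpr_gt (f71211 IH) (Lpr_ct (K2.f71208 IH) (Lpe (K6.f71206 IH) (Lpe (K2.f71022 IH) (Lpe (K2.f71968 IH) (Lpr_gt (f72101 IH) (Lpe (f37049 IH) (Lpr_ct (f158251 IH) (Lpr_gt (f38525 IH) (Lpr_cf (f158184 IH) (Lpn (LP (LK LD1_c4 LD2_c0 LD3_c40)))))))))))))
theorem f29506 : Led Lsl_bt (LP (LK LD1_c4 LD2_c0 LD3_c44)) = (LP (LK LD1_c1 LD2_c57 LD3_c9)) :=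
  Lre_b IH (LK LD1_c4 LD2_c0 LD3_c44) (LK LD1_c1 LD2_c57 LD3_c9) Lrfl Lrfl
theorem f158266 : Led Lsl_ft (LP (LK LD1_c2 LD2_c53 LD3_c4)) = (LP (LK LD1_c4 LD2_c0 LD3_c44)) :=
  Lgr Lrot75 (Lpr_bf (f158258 IH) (Lpe (f158183 IH) (Lpe (f29506 IH) (Lpn (LP (LK LD1_c4 LD2_c0 LD3_c44))))))
theorem f158275 : Led Lsl_af (LP (LK LD1_c2 LD2_c27 LD3_c19)) = (LP (LK LD1_c4 LD2_c0 LD3_c44)) :=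
  Lgr Lrot31 (Lpr_gf (K2.f72405 IH) (Lpe (f71211 IH) (Lpr_ft (f158266 IH) (Lpn (LP (LK LD1_c4 LD2_c0 LD3_c44))))))
theorem f72412 : Led Lsl_dt (LP (LK LD1_c2 LD2_c27 LD3_c19)) = (LP (LK LD1_c4 LD2_c58 LD3_c54)) :=
  Lre_d IH (LK LD1_c2 LD2_c27 LD3_c19) (LK LD1_c4 LD2_c58 LD3_c54) Lrfl Lrfl
theorem f158281 : Led Lsl_at (LP (LK LD1_c4 LD2_c58 LD3_c54)) = (LP (LK LD1_c6 LD2_c15 LD3_c40)) :=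
  Lgr Lrot51 (Lpe (f72412 IH) (Lpr_af (f158275 IH) (Lpe (K7.f149410 IH) (Lpn (LP (LK LD1_c6 LD2_c15 LD3_c40))))))
theorem f80277 : Led Lsl_gt (LP (LK LD1_c3 LD2_c4 LD3_c57)) = (LP (LK LD1_c6 LD2_c15 LD3_c39)) :=
  Lre_g IH (LK LD1_c3 LD2_c4 LD3_c57) (LK LD1_c6 LD2_c15 LD3_c39) Lrfl Lrfl
theorem f132687 : Led Lsl_gt (LP (LK LD1_c6 LD2_c15 LD3_c39)) = (LP (LK LD1_c3 LD2_c5 LD3_c5)) :=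
  Lgr Lrot46 (Lpe (f80277 IH) (Lpr_ft (K6.f132679 IH) (Lpe (K6.f132672 IH) (Lpn (LP (LK LD1_c3 LD2_c5 LD3_c5))))))
theorem f158289 : Led Lsl_ff (LP (LK LD1_c4 LD2_c58 LD3_c54)) = (LP (LK LD1_c6 LD2_c15 LD3_c39)) :=
  Lgr Lrot52 (Lpr_at (f158281 IH) (Lpe (K7.f132872 IH) (Lpe (f132687 IH) (Lpn (LP (LK LD1_c6 LD2_c15 LD3_c39))))))
theorem f158297 : Led Lsl_ft (LP (LK LD1_c4 LD2_c58 LD3_c54)) = (LP (LK LD1_c6 LD2_c15 LD3_c39)) :=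
  Lgr Lrot48 (Lpr_ff (f158289 IH) (Lpn (LP (LK LD1_c6 LD2_c15 LD3_c39))))
theorem f70914 : Led Lsl_ct (LP (LK LD1_c2 LD2_c53 LD3_c31)) = (LP (LK LD1_c1 LD2_c22 LD3_c49)) :=
  Lre_c IH (LK LD1_c2 LD2_c53 LD3_c31) (LK LD1_c1 LD2_c22 LD3_c49) Lrfl Lrfl
theorem f72427 : Led Lsl_dt (LP (LK LD1_c4 LD2_c58 LD3_c54)) = (LP (LK LD1_c2 LD2_c27 LD3_c19)) :=
  Lre_d IH (LK LD1_c4 LD2_c58 LD3_c54) (LK LD1_c2 LD2_c27 LD3_c19) Lrfl Lrfl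
theorem f138162 : Led Lsl_gf (LP (LK LD1_c4 LD2_c42 LD3_c52)) = (LP (LK LD1_c4 LD2_c58 LD3_c54)) :=
  Lgr Lrot147 (Lpe (K5.f132865 IH) (Lpr_gt (f138154 IH) (Lpr_ct (f70914 IH) (Lpe (K2.f70862 IH) (Lpe (K4.f37944 IH) (Lpe (K4.f72247 IH) (Lpe (K6.f72248 IH) (Lpe (K6.f101748 IH) (Lpe (f72427 IH) (Lpn (LP (LK LD1_c4 LD2_c58 LD3_c54))))))))))))
theorem f158303 : Led Lsl_af (LP (LK LD1_c5 LD2_c53 LD3_c27)) = (LP (LK LD1_c6 LD2_c15 LD3_c39)) :=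
  Lgr Lrot31 (Lpe (f138143 IH) (Lpr_gf (f138162 IH) (Lpr_ft (f158297 IH) (Lpn (LP (LK LD1_c6 LD2_c15 LD3_c39))))))
theorem f37817 : Led Lsl_dt (LP (LK LD1_c2 LD2_c15 LD3_c16)) = (LP (LK LD1_c1 LD2_c4 LD3_c43)) :=
  Lre_d IH (LK LD1_c2 LD2_c15 LD3_c16) (LK LD1_c1 LD2_c4 LD3_c43) Lrfl Lrfl
theorem f132691 : Led Lsl_df (LP (LK LD1_c6 LD2_c15 LD3_c39)) = (LP (LK LD1_c3 LD2_c59 LD3_c21)) :=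
  Lgr Lrot155 (Lpr_gt (f132687 IH) (Lpr_ct (K6.f80261 IH) (Lpe (K6.f112401 IH) (Lpr_ct (K4.f37813 IH) (Lpr_dt (f37817 IH) (Lpe (K2.f34722 IH) (Lpe (K7.f37767 IH) (Lpe (K7.f37768 IH) (Lpr_gf (K7.f37774 IH) (Lpn (LP (LK LD1_c3 LD2_c59 LD3_c21))))))))))))
theorem f158305 : Led Lsl_at (LP (LK LD1_c2 LD2_c53 LD3_c4)) = (LP (LK LD1_c3 LD2_c59 LD3_c21)) :=
  Lgr Lrot51 (Lpe (f71212 IH) (Lpr_af (f158303 IH) (Lpr_df (f132691 IH) (Lpn (LP (LK LD1_c3 LD2_c59 LD3_c21))))))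
theorem f132700 : Led Lsl_bt (LP (LK LD1_c3 LD2_c59 LD3_c21)) = (LP (LK LD1_c1 LD2_c56 LD3_c23)) :=
  Lre_b IH (LK LD1_c3 LD2_c59 LD3_c21) (LK LD1_c1 LD2_c56 LD3_c23) Lrfl Lrfl
theorem f158346 : Led Lsl_af (LP (LK LD1_c3 LD2_c3 LD3_c26)) = (LP (LK LD1_c1 LD2_c56 LD3_c23)) :=
  Lgr Lrot36 (Lpe (K6.f69362 IH) (Lpr_at (f69418 IH) (Lpe (f158258 IH) (Lpr_at (f158305 IH) (Lpr_bt (f132700 IH) (Lpn (LP (LK LD1_c1 LD2_c56 LD3_c23))))))))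
theorem f158350 : Led Lsl_ft (LP (LK LD1_c3 LD2_c3 LD3_c23)) = (LP (LK LD1_c1 LD2_c56 LD3_c23)) :=
  Lgr Lrot2 (Lpe (K4.f99533 IH) (Lpe (K6.f138745 IH) (Lpr_af (f158346 IH) (Lpn (LP (LK LD1_c1 LD2_c56 LD3_c23))))))
theorem f158229 : Led Lsl_ff (LP (LK LD1_c1 LD2_c56 LD3_c27)) = (LP (LK LD1_c3 LD2_c3 LD3_c26)) :=
  Lgr Lrot25 (Lpr_bt (K7.f37044 IH) (Lpr_ft (f158227 IH) (Lpr_bt (K6.f69419 IH) (Lpn (LP (LK LD1_c3 LD2_c3 LD3_c26))))))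
theorem f158352 : Led Lsl_af (LP (LK LD1_c3 LD2_c3 LD3_c23)) = (LP (LK LD1_c1 LD2_c56 LD3_c27)) :=
  Lgr Lrot45 (Lpr_ft (f158350 IH) (Lpe (f158346 IH) (Lpe (f158229 IH) (Lpn (LP (LK LD1_c1 LD2_c56 LD3_c27))))))
theorem f101727 : Led Lsl_et (LP (LK LD1_c3 LD2_c3 LD3_c23)) = (LP (LK LD1_c6 LD2_c13 LD3_c15)) :=
  Lre_e IH (LK LD1_c3 LD2_c3 LD3_c23) (LK LD1_c6 LD2_c13 LD3_c15) Lrfl Lrfl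
theorem f158359 : Led Lsl_et (LP (LK LD1_c3 LD2_c59 LD3_c33)) = (LP (LK LD1_c1 LD2_c56 LD3_c27)) :=
  Lre_e IH (LK LD1_c3 LD2_c59 LD3_c33) (LK LD1_c1 LD2_c56 LD3_c27) Lrfl Lrfl
theorem f158360 : Led Lsl_at (LP (LK LD1_c6 LD2_c13 LD3_c15)) = (LP (LK LD1_c3 LD2_c59 LD3_c33)) :=
  Lgr Lrot80 (Lpe (f101727 IH) (Lpr_af (f158352 IH) (Lpe (f158359 IH) (Lpn (LP (LK LD1_c3 LD2_c59 LD3_c33))))))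
theorem f158365 : Led Lsl_ct (LP (LK LD1_c3 LD2_c59 LD3_c33)) = (LP (LK LD1_c1 LD2_c56 LD3_c29)) :=
  Lre_c IH (LK LD1_c3 LD2_c59 LD3_c33) (LK LD1_c1 LD2_c56 LD3_c29) Lrfl Lrfl
theorem f158366 : Led Lsl_af (LP (LK LD1_c3 LD2_c3 LD3_c24)) = (LP (LK LD1_c1 LD2_c56 LD3_c29)) :=
  Lgr Lrot68 (Lpr_ct (K6.f101716 IH) (Lpr_at (f158360 IH) (Lpr_ct (f158365 IH) (Lpn (LP (LK LD1_c1 LD2_c56 LD3_c29))))))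
theorem f158391 : Led Lsl_at (LP (LK LD1_c3 LD2_c3 LD3_c24)) = (LP (LK LD1_c1 LD2_c56 LD3_c29)) :=
  Lgr Lrot100 (Lpr_af (f158366 IH) (Lpn (LP (LK LD1_c1 LD2_c56 LD3_c29))))
theorem f99512 : Led Lsl_et (LP (LK LD1_c1 LD2_c27 LD3_c36)) = (LP (LK LD1_c3 LD2_c3 LD3_c24)) :=
  Lre_e IH (LK LD1_c1 LD2_c27 LD3_c36) (LK LD1_c3 LD2_c3 LD3_c24) Lrfl Lrfl
theorem f101610 : Led Lsl_et (LP (LK LD1_c1 LD2_c56 LD3_c29)) = (LP (LK LD1_c0 LD2_c55 LD3_c0)) :=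
  Lre_e IH (LK LD1_c1 LD2_c56 LD3_c29) (LK LD1_c0 LD2_c55 LD3_c0) Lrfl Lrfl
theorem f158398 : Led Lsl_af (LP (LK LD1_c1 LD2_c27 LD3_c36)) = (LP (LK LD1_c0 LD2_c55 LD3_c0)) :=
  Lgr Lrot50 (Lpr_et (f99512 IH) (Lpr_at (f158391 IH) (Lpr_et (f101610 IH) (Lpn (LP (LK LD1_c0 LD2_c55 LD3_c0))))))
theorem f158406 : Led Lsl_ft (LP (LK LD1_c1 LD2_c27 LD3_c37)) = (LP (LK LD1_c0 LD2_c55 LD3_c0)) :=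
  Lgr Lrot101 (Lpe (K6.f139408 IH) (Lpr_ff (K6.f139401 IH) (Lpr_af (f158398 IH) (Lpn (LP (LK LD1_c0 LD2_c55 LD3_c0))))))
theorem f158410 : Led Lsl_ff (LP (LK LD1_c1 LD2_c27 LD3_c37)) = (LP (LK LD1_c0 LD2_c55 LD3_c0)) :=
  Lgr Lrot3 (Lpr_ft (f158406 IH) (Lpn (LP (LK LD1_c0 LD2_c55 LD3_c0))))
theorem f158412 : Led Lsl_ft (LP (LK LD1_c3 LD2_c3 LD3_c25)) = (LP (LK LD1_c1 LD2_c56 LD3_c26)) :=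
  Lgr Lrot75 (Lpe (K6.f59543 IH) (Lpr_ff (f158410 IH) (Lpe (K5.f37065 IH) (Lpn (LP (LK LD1_c1 LD2_c56 LD3_c26))))))
theorem f137977 : Led Lsl_df (LP (LK LD1_c3 LD2_c3 LD3_c25)) = (LP (LK LD1_c5 LD2_c47 LD3_c28)) :=
  Lgr Lrot12 (Lpr_bt (K6.f59539 IH) (Lpr_dt (K6.f137963 IH) (Lpr_bt (K6.f137976 IH) (Lpn (LP (LK LD1_c5 LD2_c47 LD3_c28))))))
theorem f158419 : Led Lsl_ff (LP (LK LD1_c5 LD2_c47 LD3_c28)) = (LP (LK LD1_c3 LD2_c59 LD3_c29)) :=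
  Lgr Lrot19 (Lpe (f137977 IH) (Lpr_ft (f158412 IH) (Lpr_dt (K5.f37762 IH) (Lpn (LP (LK LD1_c3 LD2_c59 LD3_c29))))))
theorem f66274 : Led Lsl_gt (LP (LK LD1_c5 LD2_c47 LD3_c45)) = (LP (LK LD1_c2 LD2_c49 LD3_c51)) :=
  Lre_g IH (LK LD1_c5 LD2_c47 LD3_c45) (LK LD1_c2 LD2_c49 LD3_c51) Lrfl Lrfl
theorem f139269 : Led Lsl_bt (LP (LK LD1_c4 LD2_c58 LD3_c32)) = (LP (LK LD1_c5 LD2_c47 LD3_c45)) :=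
  Lgr Lrot130 (Lpr_ct (K6.f139150 IH) (Lpe (K6.f75079 IH) (Lpe (K2.f23018 IH) (Lpr_bt (K4.f23014 IH) (Lpr_gf (K2.f20604 IH) (Lpe (K4.f25187 IH) (Lpr_ct (f25188 IH) (Lpe (K4.f116776 IH) (Lpr_cf (K5.f66262 IH) (Lpe (f66274 IH) (Lpn (LP (LK LD1_c5 LD2_c47 LD3_c45)))))))))))))
theorem f139276 : Led Lsl_bt (LP (LK LD1_c4 LD2_c58 LD3_c29)) = (LP (LK LD1_c2 LD2_c27 LD3_c6)) :=
  Lre_b IH (LK LD1_c4 LD2_c58 LD3_c29) (LK LD1_c2 LD2_c27 LD3_c6) Lrfl Lrfl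
theorem f139277 : Led Lsl_ff (LP (LK LD1_c4 LD2_c58 LD3_c29)) = (LP (LK LD1_c5 LD2_c47 LD3_c45)) :=
  Lgr Lrot25 (Lpr_bt (f139276 IH) (Lpr_ft (K4.f74368 IH) (Lpr_bt (f139269 IH) (Lpn (LP (LK LD1_c5 LD2_c47 LD3_c45))))))
theorem f117518 : Led Lsl_ft (LP (LK LD1_c2 LD2_c49 LD3_c51)) = (LP (LK LD1_c2 LD2_c51 LD3_c50)) :=
  Lgr Lrot101 (Lpe (K4.f66269 IH) (Lpr_ff (K4.f117515 IH) (Lpe (K5.f24130 IH) (Lpn (LP (LK LD1_c2 LD2_c51 LD3_c50))))))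
theorem f138817 : Led Lsl_gf (LP (LK LD1_c5 LD2_c47 LD3_c28)) = (LP (LK LD1_c2 LD2_c49 LD3_c51)) :=
  Lgr Lrot47 (Lpr_gt (K6.f138780 IH) (Lpe (K5.f24130 IH) (Lpe (f117518 IH) (Lpn (LP (LK LD1_c2 LD2_c49 LD3_c51))))))
theorem f139281 : Led Lsl_at (LP (LK LD1_c4 LD2_c58 LD3_c29)) = (LP (LK LD1_c5 LD2_c47 LD3_c28)) :=
  Lgr Lrot26 (Lpr_ff (f139277 IH) (Lpr_gt (f66274 IH) (Lpe (f138817 IH) (Lpn (LP (LK LD1_c5 LD2_c47 LD3_c28))))))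
theorem f139283 : Led Lsl_af (LP (LK LD1_c4 LD2_c58 LD3_c29)) = (LP (LK LD1_c5 LD2_c47 LD3_c28)) :=
  Lgr Lrot0 (Lpr_at (f139281 IH) (Lpn (LP (LK LD1_c5 LD2_c47 LD3_c28))))
theorem f158429 : Led Lsl_gf (LP (LK LD1_c5 LD2_c47 LD3_c44)) = (LP (LK LD1_c3 LD2_c59 LD3_c29)) :=
  Lgr Lrot47 (Lpr_gt (K7.f117538 IH) (Lpr_af (f139283 IH) (Lpr_ff (f158419 IH) (Lpn (LP (LK LD1_c3 LD2_c59 LD3_c29))))))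
theorem f157011 : Led Lsl_bt (LP (LK LD1_c4 LD2_c58 LD3_c22)) = (LP (LK LD1_c5 LD2_c47 LD3_c44)) :=
  Lgr Lrot95 (Lpr_df (f157006 IH) (Lpr_bf (K5.f132540 IH) (Lpe (K4.f117520 IH) (Lpn (LP (LK LD1_c5 LD2_c47 LD3_c44))))))
theorem f112516 : Led Lsl_bt (LP (LK LD1_c1 LD2_c56 LD3_c28)) = (LP (LK LD1_c3 LD2_c59 LD3_c29)) :=
  Lre_b IH (LK LD1_c1 LD2_c56 LD3_c28) (LK LD1_c3 LD2_c59 LD3_c29) Lrfl Lrfl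
theorem f117850 : Led Lsl_bt (LP (LK LD1_c2 LD2_c49 LD3_c54)) = (LP (LK LD1_c1 LD2_c21 LD3_c0)) :=
  Lre_b IH (LK LD1_c2 LD2_c49 LD3_c54) (LK LD1_c1 LD2_c21 LD3_c0) Lrfl Lrfl
theorem f137288 : Led Lsl_dt (LP (LK LD1_c4 LD2_c36 LD3_c46)) = (LP (LK LD1_c2 LD2_c49 LD3_c54)) :=
  Lgr Lrot79 (Lpr_bf (f137284 IH) (Lpe (f66375 IH) (Lpe (f117850 IH) (Lpn (LP (LK LD1_c2 LD2_c49 LD3_c54))))))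
theorem f137297 : Led Lsl_df (LP (LK LD1_c4 LD2_c36 LD3_c46)) = (LP (LK LD1_c2 LD2_c49 LD3_c54)) :=
  Lgr Lrot38 (Lpr_dt (f137288 IH) (Lpn (LP (LK LD1_c2 LD2_c49 LD3_c54))))
theorem f73437 : Led Lsl_bt (LP (LK LD1_c3 LD2_c9 LD3_c54)) = (LP (LK LD1_c1 LD2_c31 LD3_c5)) :=
  Lre_b IH (LK LD1_c3 LD2_c9 LD3_c54) (LK LD1_c1 LD2_c31 LD3_c5) Lrfl Lrfl
theorem f117815 : Led Lsl_bt (LP (LK LD1_c1 LD2_c21 LD3_c0)) = (LP (LK LD1_c2 LD2_c49 LD3_c54)) :=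
  Lre_b IH (LK LD1_c1 LD2_c21 LD3_c0) (LK LD1_c2 LD2_c49 LD3_c54) Lrfl Lrfl
theorem f117816 : Led Lsl_cf (LP (LK LD1_c3 LD2_c9 LD3_c54)) = (LP (LK LD1_c2 LD2_c49 LD3_c54)) :=
  Lgr Lrot97 (Lpr_bt (f73437 IH) (Lpr_ct (K5.f117813 IH) (Lpr_bt (K5.f20557 IH) (Lpr_ct (f20561 IH) (Lpr_bt (f117815 IH) (Lpn (LP (LK LD1_c2 LD2_c49 LD3_c54))))))))
theorem f117894 : Led Lsl_ct (LP (LK LD1_c3 LD2_c9 LD3_c54)) = (LP (LK LD1_c2 LD2_c49 LD3_c54)) :=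
  Lgr Lrot59 (Lpr_cf (f117816 IH) (Lpn (LP (LK LD1_c2 LD2_c49 LD3_c54))))
theorem f117620 : Led Lsl_dt (LP (LK LD1_c6 LD2_c24 LD3_c31)) = (LP (LK LD1_c3 LD2_c9 LD3_c54)) :=
  Lre_d IH (LK LD1_c6 LD2_c24 LD3_c31) (LK LD1_c3 LD2_c9 LD3_c54) Lrfl Lrfl
theorem f129114 : Led Lsl_cf (LP (LK LD1_c6 LD2_c31 LD3_c52)) = (LP (LK LD1_c12 LD2_c9 LD3_c30)) :=
  Lgr Lrot11 (Lpr_ct (f129110 IH) (Lpn (LP (LK LD1_c12 LD2_c9 LD3_c30))))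
theorem f138396 : Led Lsl_bt (LP (LK LD1_c3 LD2_c55 LD3_c41)) = (LP (LK LD1_c2 LD2_c53 LD3_c37)) :=
  Lgr Lrot35 (Lpr_ff (K5.f125820 IH) (Lpe (K4.f83764 IH) (Lpr_ff (f138394 IH) (Lpn (LP (LK LD1_c2 LD2_c53 LD3_c37))))))
theorem f97664 : Led Lsl_et (LP (LK LD1_c7 LD2_c53 LD3_c6)) = (LP (LK LD1_c3 LD2_c55 LD3_c41)) :=
  Lre_e IH (LK LD1_c7 LD2_c53 LD3_c6) (LK LD1_c3 LD2_c55 LD3_c41) Lrfl Lrfl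
theorem f138391 : Led Lsl_et (LP (LK LD1_c2 LD2_c53 LD3_c37)) = (LP (LK LD1_c5 LD2_c54 LD3_c28)) :=
  Lre_e IH (LK LD1_c2 LD2_c53 LD3_c37) (LK LD1_c5 LD2_c54 LD3_c28) Lrfl Lrfl
theorem f138404 : Led Lsl_bf (LP (LK LD1_c7 LD2_c53 LD3_c6)) = (LP (LK LD1_c5 LD2_c54 LD3_c28)) :=
  Lgr Lrot96 (Lpr_et (f97664 IH) (Lpr_bt (f138396 IH) (Lpr_et (f138391 IH) (Lpn (LP (LK LD1_c5 LD2_c54 LD3_c28))))))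
theorem f12266 : Led Lsl_ct (LP (LK LD1_c7 LD2_c53 LD3_c6)) = (LP (LK LD1_c3 LD2_c55 LD3_c42)) :=
  Lre_c IH (LK LD1_c7 LD2_c53 LD3_c6) (LK LD1_c3 LD2_c55 LD3_c42) Lrfl Lrfl
theorem f132304 : Led Lsl_et (LP (LK LD1_c7 LD2_c41 LD3_c60)) = (LP (LK LD1_c3 LD2_c50 LD3_c27)) :=
  Lre_e IH (LK LD1_c7 LD2_c41 LD3_c60) (LK LD1_c3 LD2_c50 LD3_c27) Lrfl Lrfl
theorem f114456 : Led Lsl_et (LP (LK LD1_c3 LD2_c26 LD3_c48)) = (LP (LK LD1_c6 LD2_c55 LD3_c23)) :=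
  Lre_e IH (LK LD1_c3 LD2_c26 LD3_c48) (LK LD1_c6 LD2_c55 LD3_c23) Lrfl Lrfl
theorem f136535 : Led Lsl_bf (LP (LK LD1_c7 LD2_c41 LD3_c60)) = (LP (LK LD1_c6 LD2_c55 LD3_c23)) :=
  Lgr Lrot96 (Lpr_et (f132304 IH) (Lpr_bt (K6.f136529 IH) (Lpr_et (f114456 IH) (Lpn (LP (LK LD1_c6 LD2_c55 LD3_c23))))))
theorem f132305 : Led Lsl_dt (LP (LK LD1_c7 LD2_c41 LD3_c60)) = (LP (LK LD1_c14 LD2_c30 LD3_c47)) :=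
  Lre_d IH (LK LD1_c7 LD2_c41 LD3_c60) (LK LD1_c14 LD2_c30 LD3_c47) Lrfl Lrfl
theorem f136550 : Led Lsl_dt (LP (LK LD1_c13 LD2_c9 LD3_c0)) = (LP (LK LD1_c6 LD2_c55 LD3_c23)) :=
  Lre_d IH (LK LD1_c13 LD2_c9 LD3_c0) (LK LD1_c6 LD2_c55 LD3_c23) Lrfl Lrfl
theorem f136551 : Led Lsl_bt (LP (LK LD1_c14 LD2_c30 LD3_c47)) = (LP (LK LD1_c13 LD2_c9 LD3_c0)) :=
  Lgr Lrot95 (Lpe (f132305 IH) (Lpr_bf (f136535 IH) (Lpe (f136550 IH) (Lpn (LP (LK LD1_c13 LD2_c9 LD3_c0))))))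
theorem f136559 : Led Lsl_bf (LP (LK LD1_c14 LD2_c30 LD3_c47)) = (LP (LK LD1_c13 LD2_c9 LD3_c0)) :=
  Lgr Lrot24 (Lpr_bt (f136551 IH) (Lpn (LP (LK LD1_c13 LD2_c9 LD3_c0))))
theorem f12310 : Led Lsl_at (LP (LK LD1_c14 LD2_c30 LD3_c47)) = (LP (LK LD1_c7 LD2_c42 LD3_c6)) :=
  Lre_a IH (LK LD1_c14 LD2_c30 LD3_c47) (LK LD1_c7 LD2_c42 LD3_c6) Lrfl Lrfl
theorem f12244 : Led Lsl_bt (LP (LK LD1_c7 LD2_c42 LD3_c6)) = (LP (LK LD1_c3 LD2_c55 LD3_c45)) :=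
  Lgr Lrot127 (Lpr_bf (K5.f12230 IH) (Lpn (LP (LK LD1_c3 LD2_c55 LD3_c45))))
theorem f136564 : Led Lsl_at (LP (LK LD1_c6 LD2_c55 LD3_c27)) = (LP (LK LD1_c13 LD2_c9 LD3_c0)) :=
  Lre_a IH (LK LD1_c6 LD2_c55 LD3_c27) (LK LD1_c13 LD2_c9 LD3_c0) Lrfl Lrfl
theorem f136565 : Led Lsl_bt (LP (LK LD1_c3 LD2_c26 LD3_c54)) = (LP (LK LD1_c6 LD2_c55 LD3_c27)) :=
  Lre_b IH (LK LD1_c3 LD2_c26 LD3_c54) (LK LD1_c6 LD2_c55 LD3_c27) Lrfl Lrfl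
theorem f136566 : Led Lsl_at (LP (LK LD1_c3 LD2_c55 LD3_c45)) = (LP (LK LD1_c3 LD2_c26 LD3_c54)) :=
  Lgr Lrot67 (Lpe (f12244 IH) (Lpe (f12310 IH) (Lpr_bf (f136559 IH) (Lpe (f136564 IH) (Lpe (f136565 IH) (Lpn (LP (LK LD1_c3 LD2_c26 LD3_c54))))))))
theorem f136573 : Led Lsl_et (LP (LK LD1_c3 LD2_c26 LD3_c54)) = (LP (LK LD1_c6 LD2_c55 LD3_c31)) :=
  Lre_e IH (LK LD1_c3 LD2_c26 LD3_c54) (LK LD1_c6 LD2_c55 LD3_c31) Lrfl Lrfl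
theorem f136574 : Led Lsl_af (LP (LK LD1_c7 LD2_c53 LD3_c9)) = (LP (LK LD1_c6 LD2_c55 LD3_c31)) :=
  Lgr Lrot50 (Lpr_et (K5.f12250 IH) (Lpr_at (f136566 IH) (Lpr_et (f136573 IH) (Lpn (LP (LK LD1_c6 LD2_c55 LD3_c31))))))
theorem f102357 : Led Lsl_dt (LP (LK LD1_c3 LD2_c26 LD3_c51)) = (LP (LK LD1_c6 LD2_c55 LD3_c31)) :=
  Lre_d IH (LK LD1_c3 LD2_c26 LD3_c51) (LK LD1_c6 LD2_c55 LD3_c31) Lrfl Lrfl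
theorem f136583 : Led Lsl_at (LP (LK LD1_c3 LD2_c55 LD3_c42)) = (LP (LK LD1_c3 LD2_c26 LD3_c51)) :=
  Lgr Lrot51 (Lpe (K5.f12260 IH) (Lpr_af (f136574 IH) (Lpe (f102357 IH) (Lpn (LP (LK LD1_c3 LD2_c26 LD3_c51))))))
theorem f12272 : Led Lsl_ft (LP (LK LD1_c7 LD2_c53 LD3_c10)) = (LP (LK LD1_c3 LD2_c55 LD3_c42)) :=
  Lre_f IH (LK LD1_c7 LD2_c53 LD3_c10) (LK LD1_c3 LD2_c55 LD3_c42) Lrfl Lrfl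
theorem f125864 : Led Lsl_ft (LP (LK LD1_c3 LD2_c26 LD3_c51)) = (LP (LK LD1_c6 LD2_c55 LD3_c32)) :=
  Lre_f IH (LK LD1_c3 LD2_c26 LD3_c51) (LK LD1_c6 LD2_c55 LD3_c32) Lrfl Lrfl
theorem f136589 : Led Lsl_af (LP (LK LD1_c7 LD2_c53 LD3_c10)) = (LP (LK LD1_c6 LD2_c55 LD3_c32)) :=
  Lgr Lrot45 (Lpr_ft (f12272 IH) (Lpr_at (f136583 IH) (Lpr_ft (f125864 IH) (Lpn (LP (LK LD1_c6 LD2_c55 LD3_c32))))))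
theorem f125850 : Led Lsl_et (LP (LK LD1_c1 LD2_c54 LD3_c31)) = (LP (LK LD1_c3 LD2_c55 LD3_c49)) :=
  Lre_e IH (LK LD1_c1 LD2_c54 LD3_c31) (LK LD1_c3 LD2_c55 LD3_c49) Lrfl Lrfl
theorem f125851 : Led Lsl_ft (LP (LK LD1_c3 LD2_c55 LD3_c49)) = (LP (LK LD1_c7 LD2_c53 LD3_c22)) :=
  Lre_f IH (LK LD1_c3 LD2_c55 LD3_c49) (LK LD1_c7 LD2_c53 LD3_c22) Lrfl Lrfl
theorem f91285 : Led Lsl_et (LP (LK LD1_c3 LD2_c26 LD3_c51)) = (LP (LK LD1_c1 LD2_c40 LD3_c3)) :=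
  Lre_e IH (LK LD1_c3 LD2_c26 LD3_c51) (LK LD1_c1 LD2_c40 LD3_c3) Lrfl Lrfl
theorem f125852 : Led Lsl_ft (LP (LK LD1_c6 LD2_c55 LD3_c32)) = (LP (LK LD1_c3 LD2_c26 LD3_c51)) :=
  Lre_f IH (LK LD1_c6 LD2_c55 LD3_c32) (LK LD1_c3 LD2_c26 LD3_c51) Lrfl Lrfl
theorem f125853 : Led Lsl_et (LP (LK LD1_c7 LD2_c53 LD3_c22)) = (LP (LK LD1_c6 LD2_c55 LD3_c32)) :=
  Lgr Lrot69 (Lpe (f125851 IH) (Lpe (f125850 IH) (Lpr_ff (K5.f125842 IH) (Lpe (f91285 IH) (Lpe (f125852 IH) (Lpn (LP (LK LD1_c6 LD2_c55 LD3_c32))))))))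
theorem f125901 : Led Lsl_et (LP (LK LD1_c7 LD2_c53 LD3_c21)) = (LP (LK LD1_c3 LD2_c55 LD3_c51)) :=
  Lre_e IH (LK LD1_c7 LD2_c53 LD3_c21) (LK LD1_c3 LD2_c55 LD3_c51) Lrfl Lrfl
theorem f112177 : Led Lsl_et (LP (LK LD1_c3 LD2_c26 LD3_c35)) = (LP (LK LD1_c6 LD2_c54 LD3_c55)) :=
  Lre_e IH (LK LD1_c3 LD2_c26 LD3_c35) (LK LD1_c6 LD2_c54 LD3_c55) Lrfl Lrfl
theorem f125902 : Led Lsl_af (LP (LK LD1_c7 LD2_c53 LD3_c21)) = (LP (LK LD1_c6 LD2_c54 LD3_c55)) :=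
  Lgr Lrot50 (Lpr_et (f125901 IH) (Lpr_at (K6.f125890 IH) (Lpr_et (f112177 IH) (Lpn (LP (LK LD1_c6 LD2_c54 LD3_c55))))))
theorem f125915 : Led Lsl_ft (LP (LK LD1_c7 LD2_c53 LD3_c21)) = (LP (LK LD1_c14 LD2_c52 LD3_c52)) :=
  Lre_f IH (LK LD1_c7 LD2_c53 LD3_c21) (LK LD1_c14 LD2_c52 LD3_c52) Lrfl Lrfl
theorem f112148 : Led Lsl_ft (LP (LK LD1_c13 LD2_c8 LD3_c23)) = (LP (LK LD1_c6 LD2_c54 LD3_c55)) :=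
  Lre_f IH (LK LD1_c13 LD2_c8 LD3_c23) (LK LD1_c6 LD2_c54 LD3_c55) Lrfl Lrfl
theorem f125916 : Led Lsl_at (LP (LK LD1_c14 LD2_c52 LD3_c52)) = (LP (LK LD1_c13 LD2_c8 LD3_c23)) :=
  Lgr Lrot66 (Lpe (f125915 IH) (Lpr_af (f125902 IH) (Lpe (f112148 IH) (Lpn (LP (LK LD1_c13 LD2_c8 LD3_c23))))))
theorem f125867 : Led Lsl_dt (LP (LK LD1_c7 LD2_c53 LD3_c22)) = (LP (LK LD1_c14 LD2_c52 LD3_c52)) :=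
  Lre_d IH (LK LD1_c7 LD2_c53 LD3_c22) (LK LD1_c14 LD2_c52 LD3_c52) Lrfl Lrfl
theorem f125925 : Led Lsl_af (LP (LK LD1_c7 LD2_c53 LD3_c22)) = (LP (LK LD1_c6 LD2_c54 LD3_c56)) :=
  Lgr Lrot117 (Lpr_dt (f125867 IH) (Lpr_at (f125916 IH) (Lpr_dt (K4.f112139 IH) (Lpn (LP (LK LD1_c6 LD2_c54 LD3_c56))))))
theorem f136601 : Led Lsl_et (LP (LK LD1_c7 LD2_c53 LD3_c10)) = (LP (LK LD1_c6 LD2_c54 LD3_c56)) :=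
  Lgr Lrot123 (Lpr_af (f136589 IH) (Lpe (f125853 IH) (Lpr_af (f125925 IH) (Lpn (LP (LK LD1_c6 LD2_c54 LD3_c56))))))
theorem f136609 : Led Lsl_ef (LP (LK LD1_c7 LD2_c53 LD3_c10)) = (LP (LK LD1_c6 LD2_c54 LD3_c56)) :=
  Lgr Lrot88 (Lpr_et (f136601 IH) (Lpn (LP (LK LD1_c6 LD2_c54 LD3_c56))))
theorem f12271 : Led Lsl_ft (LP (LK LD1_c7 LD2_c42 LD3_c4)) = (LP (LK LD1_c14 LD2_c30 LD3_c55)) :=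
  Lre_f IH (LK LD1_c7 LD2_c42 LD3_c4) (LK LD1_c14 LD2_c30 LD3_c55) Lrfl Lrfl
theorem f12273 : Led Lsl_bt (LP (LK LD1_c14 LD2_c30 LD3_c55)) = (LP (LK LD1_c7 LD2_c53 LD3_c10)) :=
  Lgr Lrot35 (Lpe (f12271 IH) (Lpr_bf (K5.f12261 IH) (Lpe (f12272 IH) (Lpn (LP (LK LD1_c7 LD2_c53 LD3_c10))))))
theorem f12276 : Led Lsl_bf (LP (LK LD1_c14 LD2_c30 LD3_c55)) = (LP (LK LD1_c7 LD2_c53 LD3_c10)) :=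
  Lgr Lrot24 (Lpr_bt (f12273 IH) (Lpn (LP (LK LD1_c7 LD2_c53 LD3_c10))))
theorem f112136 : Led Lsl_bt (LP (LK LD1_c11 LD2_c30 LD3_c10)) = (LP (LK LD1_c6 LD2_c54 LD3_c56)) :=
  Lgr Lrot127 (Lpr_bf (K4.f112132 IH) (Lpn (LP (LK LD1_c6 LD2_c54 LD3_c56))))
theorem f136611 : Led Lsl_et (LP (LK LD1_c14 LD2_c30 LD3_c55)) = (LP (LK LD1_c11 LD2_c30 LD3_c10)) :=
  Lgr Lrot74 (Lpr_bf (f12276 IH) (Lpr_ef (f136609 IH) (Lpe (f112136 IH) (Lpn (LP (LK LD1_c11 LD2_c30 LD3_c10))))))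
theorem f112325 : Led Lsl_ft (LP (LK LD1_c5 LD2_c51 LD3_c22)) = (LP (LK LD1_c11 LD2_c30 LD3_c10)) :=
  Lre_f IH (LK LD1_c5 LD2_c51 LD3_c22) (LK LD1_c11 LD2_c30 LD3_c10) Lrfl Lrfl
theorem f112330 : Led Lsl_ct (LP (LK LD1_c11 LD2_c30 LD3_c10)) = (LP (LK LD1_c12 LD2_c9 LD3_c4)) :=
  Lgr Lrot40 (Lpe (f112325 IH) (Lpr_cf (K4.f112126 IH) (Lpe (K5.f112329 IH) (Lpn (LP (LK LD1_c12 LD2_c9 LD3_c4))))))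
theorem f132384 : Led Lsl_et (LP (LK LD1_c12 LD2_c9 LD3_c4)) = (LP (LK LD1_c11 LD2_c25 LD3_c36)) :=
  Lgr Lrot87 (Lpr_ef (K5.f132378 IH) (Lpn (LP (LK LD1_c11 LD2_c25 LD3_c36))))
theorem f136613 : Led Lsl_cf (LP (LK LD1_c14 LD2_c30 LD3_c55)) = (LP (LK LD1_c11 LD2_c25 LD3_c36)) :=
  Lgr Lrot39 (Lpr_et (f136611 IH) (Lpr_ct (f112330 IH) (Lpr_et (f132384 IH) (Lpn (LP (LK LD1_c11 LD2_c25 LD3_c36))))))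
theorem f12278 : Led Lsl_ft (LP (LK LD1_c14 LD2_c30 LD3_c55)) = (LP (LK LD1_c7 LD2_c42 LD3_c4)) :=
  Lre_f IH (LK LD1_c14 LD2_c30 LD3_c55) (LK LD1_c7 LD2_c42 LD3_c4) Lrfl Lrfl
theorem f136617 : Led Lsl_ct (LP (LK LD1_c7 LD2_c42 LD3_c4)) = (LP (LK LD1_c5 LD2_c47 LD3_c60)) :=
  Lgr Lrot40 (Lpe (f12278 IH) (Lpr_cf (f136613 IH) (Lpe (K5.f132386 IH) (Lpn (LP (LK LD1_c5 LD2_c47 LD3_c60))))))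
theorem f138408 : Led Lsl_ct (LP (LK LD1_c2 LD2_c53 LD3_c38)) = (LP (LK LD1_c5 LD2_c54 LD3_c28)) :=
  Lre_c IH (LK LD1_c2 LD2_c53 LD3_c38) (LK LD1_c5 LD2_c54 LD3_c28) Lrfl Lrfl
theorem f138409 : Led Lsl_bt (LP (LK LD1_c5 LD2_c47 LD3_c60)) = (LP (LK LD1_c2 LD2_c53 LD3_c38)) :=
  Lgr Lrot128 (Lpe (f136617 IH) (Lpr_bf (K5.f12261 IH) (Lpe (f12266 IH) (Lpr_bf (f138404 IH) (Lpe (f138408 IH) (Lpn (LP (LK LD1_c2 LD2_c53 LD3_c38))))))))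
theorem f138417 : Led Lsl_ft (LP (LK LD1_c2 LD2_c53 LD3_c38)) = (LP (LK LD1_c5 LD2_c54 LD3_c31)) :=
  Lre_f IH (LK LD1_c2 LD2_c53 LD3_c38) (LK LD1_c5 LD2_c54 LD3_c31) Lrfl Lrfl
theorem f138418 : Led Lsl_bf (LP (LK LD1_c11 LD2_c25 LD3_c36)) = (LP (LK LD1_c5 LD2_c54 LD3_c31)) :=
  Lgr Lrot61 (Lpr_ft (K5.f132372 IH) (Lpr_bt (f138409 IH) (Lpr_ft (f138417 IH) (Lpn (LP (LK LD1_c5 LD2_c54 LD3_c31))))))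
theorem f132375 : Led Lsl_dt (LP (LK LD1_c11 LD2_c25 LD3_c36)) = (LP (LK LD1_c20 LD2_c23 LD3_c1)) :=
  Lre_d IH (LK LD1_c11 LD2_c25 LD3_c36) (LK LD1_c20 LD2_c23 LD3_c1) Lrfl Lrfl
theorem f138424 : Led Lsl_dt (LP (LK LD1_c11 LD2_c34 LD3_c52)) = (LP (LK LD1_c5 LD2_c54 LD3_c31)) :=
  Lre_d IH (LK LD1_c11 LD2_c34 LD3_c52) (LK LD1_c5 LD2_c54 LD3_c31) Lrfl Lrfl
theorem f138425 : Led Lsl_bt (LP (LK LD1_c20 LD2_c23 LD3_c1)) = (LP (LK LD1_c11 LD2_c34 LD3_c52)) :=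
  Lgr Lrot95 (Lpe (f132375 IH) (Lpr_bf (f138418 IH) (Lpe (f138424 IH) (Lpn (LP (LK LD1_c11 LD2_c34 LD3_c52))))))
theorem f138427 : Led Lsl_bf (LP (LK LD1_c20 LD2_c23 LD3_c1)) = (LP (LK LD1_c11 LD2_c34 LD3_c52)) :=
  Lgr Lrot24 (Lpr_bt (f138425 IH) (Lpn (LP (LK LD1_c11 LD2_c34 LD3_c52))))
theorem f132419 : Led Lsl_ft (LP (LK LD1_c20 LD2_c23 LD3_c1)) = (LP (LK LD1_c11 LD2_c25 LD3_c35)) :=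
  Lre_f IH (LK LD1_c20 LD2_c23 LD3_c1) (LK LD1_c11 LD2_c25 LD3_c35) Lrfl Lrfl
theorem f138433 : Led Lsl_ft (LP (LK LD1_c5 LD2_c54 LD3_c30)) = (LP (LK LD1_c11 LD2_c34 LD3_c52)) :=
  Lre_f IH (LK LD1_c5 LD2_c54 LD3_c30) (LK LD1_c11 LD2_c34 LD3_c52) Lrfl Lrfl
theorem f138434 : Led Lsl_bt (LP (LK LD1_c11 LD2_c25 LD3_c35)) = (LP (LK LD1_c5 LD2_c54 LD3_c30)) :=
  Lgr Lrot35 (Lpe (f132419 IH) (Lpr_bf (f138427 IH) (Lpe (f138433 IH) (Lpn (LP (LK LD1_c5 LD2_c54 LD3_c30))))))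
theorem f132418 : Led Lsl_et (LP (LK LD1_c5 LD2_c48 LD3_c0)) = (LP (LK LD1_c11 LD2_c25 LD3_c35)) :=
  Lre_e IH (LK LD1_c5 LD2_c48 LD3_c0) (LK LD1_c11 LD2_c25 LD3_c35) Lrfl Lrfl
theorem f132403 : Led Lsl_et (LP (LK LD1_c1 LD2_c21 LD3_c3)) = (LP (LK LD1_c2 LD2_c50 LD3_c1)) :=
  Lre_e IH (LK LD1_c1 LD2_c21 LD3_c3) (LK LD1_c2 LD2_c50 LD3_c1) Lrfl Lrfl
theorem f132806 : Led Lsl_bt (LP (LK LD1_c2 LD2_c50 LD3_c1)) = (LP (LK LD1_c2 LD2_c18 LD3_c54)) :=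
  Lgr Lrot119 (Lpe (f132403 IH) (Lpr_bf (K6.f132802 IH) (Lpe (K6.f132796 IH) (Lpn (LP (LK LD1_c2 LD2_c18 LD3_c54))))))
theorem f132421 : Led Lsl_dt (LP (LK LD1_c5 LD2_c48 LD3_c0)) = (LP (LK LD1_c2 LD2_c50 LD3_c1)) :=
  Lre_d IH (LK LD1_c5 LD2_c48 LD3_c0) (LK LD1_c2 LD2_c50 LD3_c1) Lrfl Lrfl
theorem f132792 : Led Lsl_dt (LP (LK LD1_c2 LD2_c18 LD3_c54)) = (LP (LK LD1_c4 LD2_c42 LD3_c50)) :=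
  Lre_d IH (LK LD1_c2 LD2_c18 LD3_c54) (LK LD1_c4 LD2_c42 LD3_c50) Lrfl Lrfl
theorem f132814 : Led Lsl_bf (LP (LK LD1_c5 LD2_c48 LD3_c0)) = (LP (LK LD1_c4 LD2_c42 LD3_c50)) :=
  Lgr Lrot93 (Lpr_dt (f132421 IH) (Lpr_bt (f132806 IH) (Lpr_dt (f132792 IH) (Lpn (LP (LK LD1_c4 LD2_c42 LD3_c50))))))
theorem f138436 : Led Lsl_ef (LP (LK LD1_c4 LD2_c42 LD3_c50)) = (LP (LK LD1_c5 LD2_c54 LD3_c30)) :=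
  Lgr Lrot29 (Lpe (f132814 IH) (Lpr_et (f132418 IH) (Lpr_bt (f138434 IH) (Lpn (LP (LK LD1_c5 LD2_c54 LD3_c30))))))
theorem f138441 : Led Lsl_et (LP (LK LD1_c4 LD2_c42 LD3_c50)) = (LP (LK LD1_c5 LD2_c54 LD3_c30)) :=
  Lgr Lrot87 (Lpr_ef (f138436 IH) (Lpn (LP (LK LD1_c5 LD2_c54 LD3_c30))))
theorem f132779 : Led Lsl_dt (LP (LK LD1_c1 LD2_c28 LD3_c38)) = (LP (LK LD1_c3 LD2_c5 LD3_c10)) :=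
  Lre_d IH (LK LD1_c1 LD2_c28 LD3_c38) (LK LD1_c3 LD2_c5 LD3_c10) Lrfl Lrfl
theorem f132626 : Led Lsl_dt (LP (LK LD1_c4 LD2_c42 LD3_c50)) = (LP (LK LD1_c2 LD2_c18 LD3_c54)) :=
  Lre_d IH (LK LD1_c4 LD2_c42 LD3_c50) (LK LD1_c2 LD2_c18 LD3_c54) Lrfl Lrfl
theorem f132780 : Led Lsl_at (LP (LK LD1_c3 LD2_c5 LD3_c10)) = (LP (LK LD1_c4 LD2_c42 LD3_c50)) :=
  Lgr Lrot51 (Lpe (f132779 IH) (Lpr_af (K6.f132619 IH) (Lpe (f132626 IH) (Lpn (LP (LK LD1_c4 LD2_c42 LD3_c50))))))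
theorem f132787 : Led Lsl_et (LP (LK LD1_c6 LD2_c16 LD3_c6)) = (LP (LK LD1_c3 LD2_c5 LD3_c10)) :=
  Lre_e IH (LK LD1_c6 LD2_c16 LD3_c6) (LK LD1_c3 LD2_c5 LD3_c10) Lrfl Lrfl
theorem f138445 : Led Lsl_af (LP (LK LD1_c6 LD2_c16 LD3_c6)) = (LP (LK LD1_c5 LD2_c54 LD3_c30)) :=
  Lgr Lrot50 (Lpr_et (f132787 IH) (Lpr_at (f132780 IH) (Lpr_et (f138441 IH) (Lpn (LP (LK LD1_c5 LD2_c54 LD3_c30))))))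
theorem f138448 : Led Lsl_dt (LP (LK LD1_c6 LD2_c16 LD3_c6)) = (LP (LK LD1_c3 LD2_c5 LD3_c8)) :=
  Lre_d IH (LK LD1_c6 LD2_c16 LD3_c6) (LK LD1_c3 LD2_c5 LD3_c8) Lrfl Lrfl
theorem f104760 : Led Lsl_dt (LP (LK LD1_c2 LD2_c53 LD3_c38)) = (LP (LK LD1_c5 LD2_c54 LD3_c30)) :=
  Lre_d IH (LK LD1_c2 LD2_c53 LD3_c38) (LK LD1_c5 LD2_c54 LD3_c30) Lrfl Lrfl
theorem f138449 : Led Lsl_at (LP (LK LD1_c3 LD2_c5 LD3_c8)) = (LP (LK LD1_c2 LD2_c53 LD3_c38)) :=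
  Lgr Lrot51 (Lpe (f138448 IH) (Lpr_af (f138445 IH) (Lpe (f104760 IH) (Lpn (LP (LK LD1_c2 LD2_c53 LD3_c38))))))
theorem f138457 : Led Lsl_ft (LP (LK LD1_c6 LD2_c16 LD3_c7)) = (LP (LK LD1_c3 LD2_c5 LD3_c8)) :=
  Lre_f IH (LK LD1_c6 LD2_c16 LD3_c7) (LK LD1_c3 LD2_c5 LD3_c8) Lrfl Lrfl
theorem f138458 : Led Lsl_af (LP (LK LD1_c6 LD2_c16 LD3_c7)) = (LP (LK LD1_c5 LD2_c54 LD3_c31)) :=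
  Lgr Lrot45 (Lpr_ft (f138457 IH) (Lpr_at (f138449 IH) (Lpr_ft (f138417 IH) (Lpn (LP (LK LD1_c5 LD2_c54 LD3_c31))))))
theorem f104759 : Led Lsl_et (LP (LK LD1_c2 LD2_c53 LD3_c38)) = (LP (LK LD1_c1 LD2_c22 LD3_c51)) :=
  Lre_e IH (LK LD1_c2 LD2_c53 LD3_c38) (LK LD1_c1 LD2_c22 LD3_c51) Lrfl Lrfl
theorem f137321 : Led Lsl_ft (LP (LK LD1_c5 LD2_c54 LD3_c31)) = (LP (LK LD1_c2 LD2_c53 LD3_c38)) :=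
  Lre_f IH (LK LD1_c5 LD2_c54 LD3_c31) (LK LD1_c2 LD2_c53 LD3_c38) Lrfl Lrfl
theorem f137322 : Led Lsl_et (LP (LK LD1_c1 LD2_c28 LD3_c33)) = (LP (LK LD1_c3 LD2_c4 LD3_c60)) :=
  Lre_e IH (LK LD1_c1 LD2_c28 LD3_c33) (LK LD1_c3 LD2_c4 LD3_c60) Lrfl Lrfl
theorem f137324 : Led Lsl_ef (LP (LK LD1_c5 LD2_c54 LD3_c31)) = (LP (LK LD1_c6 LD2_c15 LD3_c50)) :=
  Lgr Lrot21 (Lpr_ft (f137321 IH) (Lpr_et (f104759 IH) (Lpr_ft (K6.f137315 IH) (Lpr_et (f137322 IH) (Lpr_ft (K6.f137323 IH) (Lpn (LP (LK LD1_c6 LD2_c15 LD3_c50))))))))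
theorem f137357 : Led Lsl_at (LP (LK LD1_c5 LD2_c54 LD3_c39)) = (LP (LK LD1_c6 LD2_c15 LD3_c50)) :=
  Lgr Lrot100 (Lpr_af (K6.f137353 IH) (Lpn (LP (LK LD1_c6 LD2_c15 LD3_c50))))
theorem f138463 : Led Lsl_et (LP (LK LD1_c6 LD2_c16 LD3_c7)) = (LP (LK LD1_c5 LD2_c54 LD3_c39)) :=
  Lgr Lrot123 (Lpr_af (f138458 IH) (Lpr_ef (f137324 IH) (Lpe (f137357 IH) (Lpn (LP (LK LD1_c5 LD2_c54 LD3_c39))))))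
theorem f138469 : Led Lsl_ef (LP (LK LD1_c6 LD2_c16 LD3_c7)) = (LP (LK LD1_c5 LD2_c54 LD3_c39)) :=
  Lgr Lrot88 (Lpr_et (f138463 IH) (Lpn (LP (LK LD1_c5 LD2_c54 LD3_c39))))
theorem f138474 : Led Lsl_et (LP (LK LD1_c3 LD2_c5 LD3_c8)) = (LP (LK LD1_c1 LD2_c28 LD3_c37)) :=
  Lre_e IH (LK LD1_c3 LD2_c5 LD3_c8) (LK LD1_c1 LD2_c28 LD3_c37) Lrfl Lrfl
theorem f138475 : Led Lsl_ft (LP (LK LD1_c2 LD2_c53 LD3_c41)) = (LP (LK LD1_c5 LD2_c54 LD3_c39)) :=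
  Lre_f IH (LK LD1_c2 LD2_c53 LD3_c41) (LK LD1_c5 LD2_c54 LD3_c39) Lrfl Lrfl
theorem f138476 : Led Lsl_ft (LP (LK LD1_c1 LD2_c28 LD3_c37)) = (LP (LK LD1_c1 LD2_c22 LD3_c52)) :=
  Lgr Lrot86 (Lpe (f138474 IH) (Lpe (f138457 IH) (Lpr_ef (f138469 IH) (Lpe (f138475 IH) (Lpe (K6.f137338 IH) (Lpn (LP (LK LD1_c1 LD2_c22 LD3_c52))))))))
theorem f138478 : Led Lsl_bt (LP (LK LD1_c3 LD2_c5 LD3_c3)) = (LP (LK LD1_c1 LD2_c28 LD3_c37)) :=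
  Lre_b IH (LK LD1_c3 LD2_c5 LD3_c3) (LK LD1_c1 LD2_c28 LD3_c37) Lrfl Lrfl
theorem f138479 : Led Lsl_ff (LP (LK LD1_c3 LD2_c5 LD3_c3)) = (LP (LK LD1_c2 LD2_c53 LD3_c39)) :=
  Lgr Lrot25 (Lpr_bt (f138478 IH) (Lpr_ft (f138476 IH) (Lpr_bt (f104765 IH) (Lpn (LP (LK LD1_c2 LD2_c53 LD3_c39))))))
theorem f129116 : Led Lsl_ct (LP (LK LD1_c3 LD2_c5 LD3_c3)) = (LP (LK LD1_c6 LD2_c15 LD3_c57)) :=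
  Lre_c IH (LK LD1_c3 LD2_c5 LD3_c3) (LK LD1_c6 LD2_c15 LD3_c57) Lrfl Lrfl
theorem f59472 : Led Lsl_ct (LP (LK LD1_c5 LD2_c54 LD3_c32)) = (LP (LK LD1_c2 LD2_c53 LD3_c39)) :=
  Lre_c IH (LK LD1_c5 LD2_c54 LD3_c32) (LK LD1_c2 LD2_c53 LD3_c39) Lrfl Lrfl
theorem f138517 : Led Lsl_ft (LP (LK LD1_c6 LD2_c15 LD3_c57)) = (LP (LK LD1_c5 LD2_c54 LD3_c32)) :=
  Lgr Lrot4 (Lpe (f129116 IH) (Lpr_ff (f138479 IH) (Lpe (f59472 IH) (Lpn (LP (LK LD1_c5 LD2_c54 LD3_c32))))))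
theorem f157631 : Led Lsl_at (LP (LK LD1_c5 LD2_c54 LD3_c32)) = (LP (LK LD1_c8 LD2_c0 LD3_c0)) :=
  Lgr Lrot33 (Lpe (f138517 IH) (Lpr_dt (f129112 IH) (Lpe (f129114 IH) (Lpr_dt (f129103 IH) (Lpr_ct (f117672 IH) (Lpr_dt (f117620 IH) (Lpr_ct (f117894 IH) (Lpe (f137297 IH) (Lpr_ct (f157620 IH) (Lpn (LP (LK LD1_c8 LD2_c0 LD3_c0))))))))))))
theorem f157635 : Led Lsl_gf (LP (LK LD1_c3 LD2_c59 LD3_c34)) = (LP (LK LD1_c6 LD2_c15 LD3_c57)) :=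
  Lgr Lrot47 (Lpr_gt (f157633 IH) (Lpe (f157631 IH) (Lpe (f138517 IH) (Lpn (LP (LK LD1_c6 LD2_c15 LD3_c57))))))
theorem f158439 : Led Lsl_gt (LP (LK LD1_c2 LD2_c15 LD3_c36)) = (LP (LK LD1_c3 LD2_c5 LD3_c3)) :=
  Lgr Lrot82 (Lpe (f100333 IH) (Lpr_ct (K4.f25137 IH) (Lpe (K6.f100174 IH) (Lpr_cf (f148942 IH) (Lpr_bt (f157011 IH) (Lpr_gf (f158429 IH) (Lpe (f112516 IH) (Lpr_ct (f101601 IH) (Lpr_gf (f157635 IH) (Lpe (f129116 IH) (Lpn (LP (LK LD1_c3 LD2_c5 LD3_c3)))))))))))))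
theorem f138870 : Led Lsl_dt (LP (LK LD1_c2 LD2_c27 LD3_c18)) = (LP (LK LD1_c4 LD2_c58 LD3_c53)) :=
  Lre_d IH (LK LD1_c2 LD2_c27 LD3_c18) (LK LD1_c4 LD2_c58 LD3_c53) Lrfl Lrfl
theorem f158143 : Led Lsl_bt (LP (LK LD1_c4 LD2_c58 LD3_c53)) = (LP (LK LD1_c5 LD2_c47 LD3_c55)) :=
  Lgr Lrot95 (Lpe (f138870 IH) (Lpe (K6.f138878 IH) (Lpr_df (f158139 IH) (Lpn (LP (LK LD1_c5 LD2_c47 LD3_c55))))))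
theorem f137480 : Led Lsl_bt (LP (LK LD1_c1 LD2_c28 LD3_c37)) = (LP (LK LD1_c3 LD2_c5 LD3_c3)) :=
  Lre_b IH (LK LD1_c1 LD2_c28 LD3_c37) (LK LD1_c3 LD2_c5 LD3_c3) Lrfl Lrfl
theorem f149453 : Led Lsl_df (LP (LK LD1_c4 LD2_c36 LD3_c8)) = (LP (LK LD1_c4 LD2_c44 LD3_c46)) :=
  Lgr Lrot38 (Lpr_dt (K7.f149443 IH) (Lpn (LP (LK LD1_c4 LD2_c44 LD3_c46))))
theorem f59894 : Led Lsl_dt (LP (LK LD1_c0 LD2_c29 LD3_c36)) = (LP (LK LD1_c1 LD2_c4 LD3_c44)) :=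
  Lre_d IH (LK LD1_c0 LD2_c29 LD3_c36) (LK LD1_c1 LD2_c4 LD3_c44) Lrfl Lrfl
theorem f23021 : Led Lsl_ct (LP (LK LD1_c1 LD2_c4 LD3_c44)) = (LP (LK LD1_c2 LD2_c15 LD3_c18)) :=
  Lre_c IH (LK LD1_c1 LD2_c4 LD3_c44) (LK LD1_c2 LD2_c15 LD3_c18) Lrfl Lrfl
theorem f59896 : Led Lsl_dt (LP (LK LD1_c2 LD2_c15 LD3_c18)) = (LP (LK LD1_c4 LD2_c36 LD3_c16)) :=
  Lre_d IH (LK LD1_c2 LD2_c15 LD3_c18) (LK LD1_c4 LD2_c36 LD3_c16) Lrfl Lrfl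
theorem f149464 : Led Lsl_at (LP (LK LD1_c5 LD2_c54 LD3_c14)) = (LP (LK LD1_c4 LD2_c44 LD3_c47)) :=
  Lgr Lrot33 (Lpr_ff (K7.f149455 IH) (Lpe (f149453 IH) (Lpr_ct (K4.f37813 IH) (Lpr_dt (f37817 IH) (Lpr_ct (K7.f35550 IH) (Lpr_dt (f59894 IH) (Lpr_ct (f23021 IH) (Lpr_dt (f59896 IH) (Lpe (K7.f149357 IH) (Lpn (LP (LK LD1_c4 LD2_c44 LD3_c47))))))))))))
theorem f149470 : Led Lsl_gt (LP (LK LD1_c9 LD2_c16 LD3_c11)) = (LP (LK LD1_c4 LD2_c44 LD3_c47)) :=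
  Lgr Lrot46 (Lpr_gf (K7.f102921 IH) (Lpe (K7.f149455 IH) (Lpr_at (f149464 IH) (Lpn (LP (LK LD1_c4 LD2_c44 LD3_c47))))))
theorem f102925 : Led Lsl_ff (LP (LK LD1_c9 LD2_c16 LD3_c11)) = (LP (LK LD1_c4 LD2_c44 LD3_c48)) :=
  Lgr Lrot30 (Lpr_at (K7.f94791 IH) (Lpr_ft (K3.f102919 IH) (Lpr_at (f102924 IH) (Lpn (LP (LK LD1_c4 LD2_c44 LD3_c48))))))
theorem f104468 : Led Lsl_ff (LP (LK LD1_c5 LD2_c53 LD3_c47)) = (LP (LK LD1_c6 LD2_c53 LD3_c56)) :=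
  Lgr Lrot23 (Lpr_ct (K6.f104459 IH) (Lpe (f102925 IH) (Lpr_ct (K7.f94801 IH) (Lpn (LP (LK LD1_c6 LD2_c53 LD3_c56))))))
theorem f102381 : Led Lsl_bt (LP (LK LD1_c2 LD2_c20 LD3_c21)) = (LP (LK LD1_c4 LD2_c44 LD3_c32)) :=
  Lre_b IH (LK LD1_c2 LD2_c20 LD3_c21) (LK LD1_c4 LD2_c44 LD3_c32) Lrfl Lrfl
theorem f102382 : Led Lsl_ff (LP (LK LD1_c3 LD2_c26 LD3_c0)) = (LP (LK LD1_c4 LD2_c44 LD3_c32)) :=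
  Lgr Lrot25 (Lpr_bt (K3.f94770 IH) (Lpr_ft (K3.f102379 IH) (Lpr_bt (f102381 IH) (Lpn (LP (LK LD1_c4 LD2_c44 LD3_c32))))))
theorem f104470 : Led Lsl_at (LP (LK LD1_c5 LD2_c53 LD3_c47)) = (LP (LK LD1_c4 LD2_c44 LD3_c32)) :=
  Lgr Lrot66 (Lpr_ff (f104468 IH) (Lpe (K7.f94792 IH) (Lpr_ff (f102382 IH) (Lpn (LP (LK LD1_c4 LD2_c44 LD3_c32))))))
theorem f104474 : Led Lsl_gt (LP (LK LD1_c9 LD2_c21 LD3_c52)) = (LP (LK LD1_c4 LD2_c44 LD3_c32)) :=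
  Lre_g IH (LK LD1_c9 LD2_c21 LD3_c52) (LK LD1_c4 LD2_c44 LD3_c32) Lrfl Lrfl
theorem f104475 : Led Lsl_gf (LP (LK LD1_c9 LD2_c21 LD3_c52)) = (LP (LK LD1_c6 LD2_c53 LD3_c56)) :=
  Lgr Lrot47 (Lpr_gt (f104474 IH) (Lpe (f104470 IH) (Lpr_ff (f104468 IH) (Lpn (LP (LK LD1_c6 LD2_c53 LD3_c56))))))
theorem f149369 : Led Lsl_dt (LP (LK LD1_c4 LD2_c44 LD3_c47)) = (LP (LK LD1_c5 LD2_c53 LD3_c51)) :=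
  Lgr Lrot120 (Lpr_cf (K7.f149357 IH) (Lpe (f59896 IH) (Lpe (f23021 IH) (Lpe (f59894 IH) (Lpe (K7.f35550 IH) (Lpe (f37817 IH) (Lpr_ft (K4.f70846 IH) (Lpr_at (K4.f71000 IH) (Lpe (K7.f71002 IH) (Lpn (LP (LK LD1_c5 LD2_c53 LD3_c51))))))))))))
theorem f83801 : Led Lsl_gt (LP (LK LD1_c6 LD2_c15 LD3_c46)) = (LP (LK LD1_c3 LD2_c4 LD3_c59)) :=
  Lre_g IH (LK LD1_c6 LD2_c15 LD3_c46) (LK LD1_c3 LD2_c4 LD3_c59) Lrfl Lrfl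
theorem f149472 : Led Lsl_dt (LP (LK LD1_c9 LD2_c21 LD3_c52)) = (LP (LK LD1_c6 LD2_c15 LD3_c46)) :=
  Lgr Lrot57 (Lpr_gf (f104475 IH) (Lpe (K7.f94801 IH) (Lpr_gt (f149470 IH) (Lpr_dt (f149369 IH) (Lpe (K6.f112704 IH) (Lpe (K6.f102099 IH) (Lpr_cf (K5.f91320 IH) (Lpe (K5.f83791 IH) (Lpe (f83801 IH) (Lpn (LP (LK LD1_c6 LD2_c15 LD3_c46))))))))))))
theorem f149478 : Led Lsl_df (LP (LK LD1_c9 LD2_c21 LD3_c52)) = (LP (LK LD1_c6 LD2_c15 LD3_c46)) :=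
  Lgr Lrot38 (Lpr_dt (f149472 IH) (Lpn (LP (LK LD1_c6 LD2_c15 LD3_c46))))
theorem f37766 : Led Lsl_dt (LP (LK LD1_c1 LD2_c4 LD3_c44)) = (LP (LK LD1_c0 LD2_c29 LD3_c36)) :=
  Lre_d IH (LK LD1_c1 LD2_c4 LD3_c44) (LK LD1_c0 LD2_c29 LD3_c36) Lrfl Lrfl
theorem f137330 : Led Lsl_at (LP (LK LD1_c1 LD2_c22 LD3_c52)) = (LP (LK LD1_c1 LD2_c28 LD3_c33)) :=
  Lgr Lrot100 (Lpr_af (K6.f137328 IH) (Lpn (LP (LK LD1_c1 LD2_c28 LD3_c33))))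
theorem f138481 : Led Lsl_gt (LP (LK LD1_c1 LD2_c28 LD3_c37)) = (LP (LK LD1_c1 LD2_c4 LD3_c44)) :=
  Lgr Lrot5 (Lpr_ft (f138476 IH) (Lpr_at (f137330 IH) (Lpe (K4.f112350 IH) (Lpn (LP (LK LD1_c1 LD2_c4 LD3_c44))))))
theorem f149481 : Led Lsl_gt (LP (LK LD1_c3 LD2_c5 LD3_c7)) = (LP (LK LD1_c6 LD2_c15 LD3_c46)) :=
  Lgr Lrot94 (Lpe (K6.f102097 IH) (Lpr_gt (f138481 IH) (Lpr_dt (f37766 IH) (Lpr_gt (K4.f34732 IH) (Lpr_dt (K4.f34733 IH) (Lpe (K4.f40642 IH) (Lpr_df (K7.f149081 IH) (Lpe (f104474 IH) (Lpr_df (f149478 IH) (Lpn (LP (LK LD1_c6 LD2_c15 LD3_c46))))))))))))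
theorem f158442 : Led Lsl_ct (LP (LK LD1_c4 LD2_c58 LD3_c53)) = (LP (LK LD1_c6 LD2_c15 LD3_c46)) :=
  Lgr Lrot10 (Lpr_bt (f158143 IH) (Lpe (f158129 IH) (Lpe (f148942 IH) (Lpr_gt (K6.f100174 IH) (Lpe (K4.f25137 IH) (Lpr_bt (f100333 IH) (Lpr_gt (f158439 IH) (Lpe (f137480 IH) (Lpr_ct (K6.f102097 IH) (Lpr_gt (f149481 IH) (Lpn (LP (LK LD1_c6 LD2_c15 LD3_c46)))))))))))))
theorem f158449 : Led Lsl_cf (LP (LK LD1_c4 LD2_c58 LD3_c53)) = (LP (LK LD1_c6 LD2_c15 LD3_c46)) :=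
  Lgr Lrot11 (Lpr_ct (f158442 IH) (Lpn (LP (LK LD1_c6 LD2_c15 LD3_c46))))
theorem f138880 : Led Lsl_dt (LP (LK LD1_c4 LD2_c58 LD3_c53)) = (LP (LK LD1_c2 LD2_c27 LD3_c18)) :=
  Lre_d IH (LK LD1_c4 LD2_c58 LD3_c53) (LK LD1_c2 LD2_c27 LD3_c18) Lrfl Lrfl
theorem f138483 : Led Lsl_gf (LP (LK LD1_c1 LD2_c28 LD3_c37)) = (LP (LK LD1_c1 LD2_c22 LD3_c45)) :=
  Lgr Lrot47 (Lpr_gt (f138481 IH) (Lpe (K2.f71147 IH) (Lpr_ff (K2.f71134 IH) (Lpn (LP (LK LD1_c1 LD2_c22 LD3_c45))))))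
theorem f71116 : Led Lsl_at (LP (LK LD1_c1 LD2_c4 LD3_c42)) = (LP (LK LD1_c0 LD2_c29 LD3_c36)) :=
  Lre_a IH (LK LD1_c1 LD2_c4 LD3_c42) (LK LD1_c0 LD2_c29 LD3_c36) Lrfl Lrfl
theorem f71120 : Led Lsl_gf (LP (LK LD1_c1 LD2_c4 LD3_c41)) = (LP (LK LD1_c0 LD2_c38 LD3_c20)) :=
  Lgr Lrot47 (Lpr_gt (K7.f37767 IH) (Lpe (f71116 IH) (Lpr_ff (K2.f71106 IH) (Lpn (LP (LK LD1_c0 LD2_c38 LD3_c20))))))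
theorem f149028 : Led Lsl_af (LP (LK LD1_c2 LD2_c15 LD3_c5)) = (LP (LK LD1_c1 LD2_c22 LD3_c42)) :=
  Lgr Lrot0 (Lpr_at (K7.f149026 IH) (Lpn (LP (LK LD1_c1 LD2_c22 LD3_c42))))
theorem f149343 : Led Lsl_ff (LP (LK LD1_c1 LD2_c22 LD3_c42)) = (LP (LK LD1_c2 LD2_c15 LD3_c8)) :=
  Lgr Lrot103 (Lpe (f149028 IH) (Lpe (K7.f104777 IH) (Lpe (K7.f104776 IH) (Lpe (K4.f40642 IH) (Lpr_df (K7.f149081 IH) (Lpe (K6.f102343 IH) (Lpe (K7.f102344 IH) (Lpr_cf (K7.f149334 IH) (Lpe (K7.f37811 IH) (Lpn (LP (LK LD1_c2 LD2_c15 LD3_c8))))))))))))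
theorem f149408 : Led Lsl_gt (LP (LK LD1_c2 LD2_c15 LD3_c8)) = (LP (LK LD1_c4 LD2_c0 LD3_c44)) :=
  Lgr Lrot5 (Lpe (f149343 IH) (Lpe (f149028 IH) (Lpr_gf (K7.f149406 IH) (Lpn (LP (LK LD1_c4 LD2_c0 LD3_c44))))))
theorem f158458 : Led Lsl_cf (LP (LK LD1_c2 LD2_c27 LD3_c18)) = (LP (LK LD1_c4 LD2_c0 LD3_c44)) :=
  Lgr Lrot99 (Lpe (f138880 IH) (Lpr_cf (f158449 IH) (Lpe (f149481 IH) (Lpe (K6.f102097 IH) (Lpr_gf (f138483 IH) (Lpe (K2.f71007 IH) (Lpe (f71120 IH) (Lpr_ct (K7.f37820 IH) (Lpr_gt (f149408 IH) (Lpn (LP (LK LD1_c4 LD2_c0 LD3_c44))))))))))))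
theorem f158464 : Led Lsl_gf (LP (LK LD1_c2 LD2_c27 LD3_c18)) = (LP (LK LD1_c2 LD2_c53 LD3_c24)) :=
  Lgr Lrot129 (Lpr_cf (f158458 IH) (Lpr_bt (f29506 IH) (Lpr_gt (K7.f29500 IH) (Lpe (K6.f29490 IH) (Lpr_ct (K1.f29311 IH) (Lpr_gt (K2.f37958 IH) (Lpe (K6.f69335 IH) (Lpr_bt (K2.f69333 IH) (Lpr_gt (K4.f69347 IH) (Lpr_ct (K6.f71024 IH) (Lpn (LP (LK LD1_c2 LD2_c53 LD3_c24)))))))))))))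
theorem f158468 : Led Lsl_gt (LP (LK LD1_c4 LD2_c59 LD3_c10)) = (LP (LK LD1_c5 LD2_c54 LD3_c3)) :=
  Lgr Lrot94 (Lpe (K4.f104791 IH) (Lpe (K7.f149930 IH) (Lpe (K7.f149292 IH) (Lpe (f104475 IH) (Lpr_dt (f149472 IH) (Lpe (f158442 IH) (Lpe (f138870 IH) (Lpr_gf (f158464 IH) (Lpe (K6.f76361 IH) (Lpn (LP (LK LD1_c5 LD2_c54 LD3_c3))))))))))))
theorem f56899 : Led Lsl_ct (LP (LK LD1_c1 LD2_c8 LD3_c17)) = (LP (LK LD1_c2 LD2_c22 LD3_c16)) :=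
  Lre_c IH (LK LD1_c1 LD2_c8 LD3_c17) (LK LD1_c2 LD2_c22 LD3_c16) Lrfl Lrfl
theorem f56964 : Led Lsl_gt (LP (LK LD1_c4 LD2_c48 LD3_c44)) = (LP (LK LD1_c2 LD2_c22 LD3_c16)) :=
  Lre_g IH (LK LD1_c4 LD2_c48 LD3_c44) (LK LD1_c2 LD2_c22 LD3_c16) Lrfl Lrfl
theorem f125697 : Led Lsl_bt (LP (LK LD1_c4 LD2_c58 LD3_c28)) = (LP (LK LD1_c5 LD2_c54 LD3_c3)) :=
  Lre_b IH (LK LD1_c4 LD2_c58 LD3_c28) (LK LD1_c5 LD2_c54 LD3_c3) Lrfl Lrfl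
theorem f158475 : Led Lsl_cf (LP (LK LD1_c4 LD2_c48 LD3_c44)) = (LP (LK LD1_c4 LD2_c58 LD3_c28)) :=
  Lgr Lrot160 (Lpr_gt (f56964 IH) (Lpe (f56899 IH) (Lpr_bt (K7.f56868 IH) (Lpe (K6.f72576 IH) (Lpr_ct (K7.f72588 IH) (Lpe (K7.f150214 IH) (Lpe (K4.f40411 IH) (Lpr_bt (K4.f104786 IH) (Lpr_gt (f158468 IH) (Lpe (f125697 IH) (Lpn (LP (LK LD1_c4 LD2_c58 LD3_c28)))))))))))))
theorem f137606 : Led Lsl_dt (LP (LK LD1_c4 LD2_c48 LD3_c44)) = (LP (LK LD1_c9 LD2_c29 LD3_c59)) :=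
  Lre_d IH (LK LD1_c4 LD2_c48 LD3_c44) (LK LD1_c9 LD2_c29 LD3_c59) Lrfl Lrfl
theorem f72451 : Led Lsl_ct (LP (LK LD1_c1 LD2_c10 LD3_c55)) = (LP (LK LD1_c2 LD2_c27 LD3_c24)) :=
  Lre_c IH (LK LD1_c1 LD2_c10 LD3_c55) (LK LD1_c2 LD2_c27 LD3_c24) Lrfl Lrfl
theorem f74506 : Led Lsl_dt (LP (LK LD1_c2 LD2_c27 LD3_c24)) = (LP (LK LD1_c4 LD2_c59 LD3_c1)) :=
  Lre_d IH (LK LD1_c2 LD2_c27 LD3_c24) (LK LD1_c4 LD2_c59 LD3_c1) Lrfl Lrfl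
theorem f14035 : Led Lsl_ct (LP (LK LD1_c2 LD2_c56 LD3_c40)) = (LP (LK LD1_c1 LD2_c24 LD3_c7)) :=
  Lre_c IH (LK LD1_c2 LD2_c56 LD3_c40) (LK LD1_c1 LD2_c24 LD3_c7) Lrfl Lrfl
theorem f74507 : Led Lsl_cf (LP (LK LD1_c4 LD2_c59 LD3_c1)) = (LP (LK LD1_c2 LD2_c56 LD3_c38)) :=
  Lgr Lrot99 (Lpe (f74506 IH) (Lpe (f72451 IH) (Lpe (K2.f72443 IH) (Lpe (K2.f74261 IH) (Lpr_gf (K2.f74502 IH) (Lpr_df (K2.f72542 IH) (Lpr_gt (K2.f40686 IH) (Lpr_ct (f14035 IH) (Lpr_gt (K6.f13749 IH) (Lpn (LP (LK LD1_c2 LD2_c56 LD3_c38))))))))))))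
theorem f74400 : Led Lsl_dt (LP (LK LD1_c4 LD2_c59 LD3_c25)) = (LP (LK LD1_c2 LD2_c27 LD3_c34)) :=
  Lre_d IH (LK LD1_c4 LD2_c59 LD3_c25) (LK LD1_c2 LD2_c27 LD3_c34) Lrfl Lrfl
theorem f75342 : Led Lsl_ct (LP (LK LD1_c2 LD2_c56 LD3_c36)) = (LP (LK LD1_c4 LD2_c59 LD3_c25)) :=
  Lgr Lrot110 (Lpr_gf (K4.f75338 IH) (Lpe (K2.f75164 IH) (Lpr_gf (K4.f75134 IH) (Lpe (K2.f14400 IH) (Lpr_gt (K2.f56880 IH) (Lpr_ct (K4.f56883 IH) (Lpr_gt (K4.f56864 IH) (Lpr_ct (K6.f57070 IH) (Lpe (f74400 IH) (Lpn (LP (LK LD1_c4 LD2_c59 LD3_c25))))))))))))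
theorem f74323 : Led Lsl_dt (LP (LK LD1_c4 LD2_c46 LD3_c40)) = (LP (LK LD1_c2 LD2_c21 LD3_c16)) :=
  Lre_d IH (LK LD1_c4 LD2_c46 LD3_c40) (LK LD1_c2 LD2_c21 LD3_c16) Lrfl Lrfl
theorem f14139 : Led Lsl_gt (LP (LK LD1_c2 LD2_c56 LD3_c38)) = (LP (LK LD1_c4 LD2_c46 LD3_c40)) :=
  Lre_g IH (LK LD1_c2 LD2_c56 LD3_c38) (LK LD1_c4 LD2_c46 LD3_c40) Lrfl Lrfl
theorem f74511 : Led Lsl_ct (LP (LK LD1_c4 LD2_c59 LD3_c1)) = (LP (LK LD1_c2 LD2_c56 LD3_c38)) :=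
  Lgr Lrot59 (Lpr_cf (f74507 IH) (Lpn (LP (LK LD1_c2 LD2_c56 LD3_c38))))
theorem f74399 : Led Lsl_dt (LP (LK LD1_c2 LD2_c27 LD3_c34)) = (LP (LK LD1_c4 LD2_c59 LD3_c25)) :=
  Lre_d IH (LK LD1_c2 LD2_c27 LD3_c34) (LK LD1_c4 LD2_c59 LD3_c25) Lrfl Lrfl
theorem f57072 : Led Lsl_gt (LP (LK LD1_c4 LD2_c59 LD3_c23)) = (LP (LK LD1_c2 LD2_c27 LD3_c34)) :=
  Lre_g IH (LK LD1_c4 LD2_c59 LD3_c23) (LK LD1_c2 LD2_c27 LD3_c34) Lrfl Lrfl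
theorem f74324 : Led Lsl_gt (LP (LK LD1_c9 LD2_c47 LD3_c53)) = (LP (LK LD1_c4 LD2_c58 LD3_c40)) :=
  Lre_g IH (LK LD1_c9 LD2_c47 LD3_c53) (LK LD1_c4 LD2_c58 LD3_c40) Lrfl Lrfl
theorem f74370 : Led Lsl_dt (LP (LK LD1_c9 LD2_c47 LD3_c53)) = (LP (LK LD1_c4 LD2_c59 LD3_c23)) :=
  Lgr Lrot6 (Lpr_gt (f74324 IH) (Lpr_ct (K4.f74311 IH) (Lpr_gt (K2.f69352 IH) (Lpr_ct (K2.f13725 IH) (Lpe (K4.f56978 IH) (Lpe (K4.f40688 IH) (Lpe (K4.f56838 IH) (Lpe (K4.f56847 IH) (Lpe (f57072 IH) (Lpn (LP (LK LD1_c4 LD2_c59 LD3_c23))))))))))))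
theorem f75369 : Led Lsl_gt (LP (LK LD1_c4 LD2_c59 LD3_c1)) = (LP (LK LD1_c9 LD2_c47 LD3_c53)) :=
  Lgr Lrot180 (Lpr_ct (f74511 IH) (Lpr_gt (f14139 IH) (Lpr_dt (f74323 IH) (Lpr_gt (K2.f26424 IH) (Lpr_dt (K2.f72724 IH) (Lpr_ct (f75342 IH) (Lpe (f74399 IH) (Lpe (f57072 IH) (Lpe (f74370 IH) (Lpn (LP (LK LD1_c9 LD2_c47 LD3_c53))))))))))))
theorem f158485 : Led Lsl_cf (LP (LK LD1_c9 LD2_c29 LD3_c59)) = (LP (LK LD1_c9 LD2_c47 LD3_c53)) :=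
  Lgr Lrot99 (Lpe (f137606 IH) (Lpr_cf (f158475 IH) (Lpr_gf (K4.f74536 IH) (Lpe (K4.f74517 IH) (Lpe (K6.f56782 IH) (Lpe (K6.f69351 IH) (Lpr_gt (K6.f13749 IH) (Lpe (f74507 IH) (Lpr_gt (f75369 IH) (Lpn (LP (LK LD1_c9 LD2_c47 LD3_c53))))))))))))
theorem f74372 : Led Lsl_df (LP (LK LD1_c9 LD2_c47 LD3_c53)) = (LP (LK LD1_c4 LD2_c59 LD3_c23)) :=
  Lgr Lrot155 (Lpr_gt (f74324 IH) (Lpr_ct (K4.f74311 IH) (Lpr_gt (K2.f69352 IH) (Lpr_ct (K2.f13725 IH) (Lpr_dt (K2.f40685 IH) (Lpe (K4.f40688 IH) (Lpe (K4.f56838 IH) (Lpe (K4.f56847 IH) (Lpe (f57072 IH) (Lpn (LP (LK LD1_c4 LD2_c59 LD3_c23))))))))))))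
theorem f74302 : Led Lsl_dt (LP (LK LD1_c4 LD2_c58 LD3_c40)) = (LP (LK LD1_c2 LD2_c27 LD3_c10)) :=
  Lre_d IH (LK LD1_c4 LD2_c58 LD3_c40) (LK LD1_c2 LD2_c27 LD3_c10) Lrfl Lrfl
theorem f56891 : Led Lsl_dt (LP (LK LD1_c0 LD2_c32 LD3_c54)) = (LP (LK LD1_c0 LD2_c14 LD3_c46)) :=
  Lre_d IH (LK LD1_c0 LD2_c32 LD3_c54) (LK LD1_c0 LD2_c14 LD3_c46) Lrfl Lrfl
theorem f40385 : Led Lsl_ct (LP (LK LD1_c1 LD2_c10 LD3_c59)) = (LP (LK LD1_c2 LD2_c27 LD3_c37)) :=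
  Lre_c IH (LK LD1_c1 LD2_c10 LD3_c59) (LK LD1_c2 LD2_c27 LD3_c37) Lrfl Lrfl
theorem f74379 : Led Lsl_gt (LP (LK LD1_c2 LD2_c27 LD3_c37)) = (LP (LK LD1_c4 LD2_c59 LD3_c23)) :=
  Lgr Lrot94 (Lpe (f40385 IH) (Lpr_gt (K6.f68993 IH) (Lpr_dt (f56891 IH) (Lpr_gt (K6.f74378 IH) (Lpr_dt (K4.f74359 IH) (Lpe (K4.f74280 IH) (Lpe (f74302 IH) (Lpe (f74324 IH) (Lpr_df (f74372 IH) (Lpn (LP (LK LD1_c4 LD2_c59 LD3_c23))))))))))))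
theorem f74381 : Led Lsl_dt (LP (LK LD1_c4 LD2_c59 LD3_c34)) = (LP (LK LD1_c2 LD2_c27 LD3_c37)) :=
  Lre_d IH (LK LD1_c4 LD2_c59 LD3_c34) (LK LD1_c2 LD2_c27 LD3_c37) Lrfl Lrfl
theorem f139372 : Led Lsl_cf (LP (LK LD1_c1 LD2_c56 LD3_c22)) = (LP (LK LD1_c1 LD2_c10 LD3_c47)) :=
  Lgr Lrot11 (Lpr_ct (K6.f139358 IH) (Lpn (LP (LK LD1_c1 LD2_c10 LD3_c47))))
theorem f40318 : Led Lsl_dt (LP (LK LD1_c0 LD2_c32 LD3_c53)) = (LP (LK LD1_c1 LD2_c10 LD3_c57)) :=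
  Lre_d IH (LK LD1_c0 LD2_c32 LD3_c53) (LK LD1_c1 LD2_c10 LD3_c57) Lrfl Lrfl
theorem f22820 : Led Lsl_dt (LP (LK LD1_c2 LD2_c55 LD3_c14)) = (LP (LK LD1_c1 LD2_c23 LD3_c34)) :=
  Lre_d IH (LK LD1_c2 LD2_c55 LD3_c14) (LK LD1_c1 LD2_c23 LD3_c34) Lrfl Lrfl
theorem f26565 : Led Lsl_ct (LP (LK LD1_c5 LD2_c57 LD3_c49)) = (LP (LK LD1_c2 LD2_c55 LD3_c14)) :=
  Lre_c IH (LK LD1_c5 LD2_c57 LD3_c49) (LK LD1_c2 LD2_c55 LD3_c14) Lrfl Lrfl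
theorem f150255 : Led Lsl_gt (LP (LK LD1_c4 LD2_c59 LD3_c11)) = (LP (LK LD1_c5 LD2_c57 LD3_c49)) :=
  Lgr Lrot150 (Lpe (K4.f40411 IH) (Lpe (K4.f26416 IH) (Lpe (f40318 IH) (Lpr_gt (f139355 IH) (Lpe (f139372 IH) (Lpr_gt (K7.f150229 IH) (Lpr_ct (K7.f26553 IH) (Lpe (f22820 IH) (Lpe (f26565 IH) (Lpn (LP (LK LD1_c5 LD2_c57 LD3_c49))))))))))))
theorem f26025 : Led Lsl_bt (LP (LK LD1_c0 LD2_c14 LD3_c48)) = (LP (LK LD1_c0 LD2_c32 LD3_c55)) :=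
  Lre_b IH (LK LD1_c0 LD2_c14 LD3_c48) (LK LD1_c0 LD2_c32 LD3_c55) Lrfl Lrfl
theorem f139060 : Led Lsl_gt (LP (LK LD1_c0 LD2_c32 LD3_c55)) = (LP (LK LD1_c1 LD2_c10 LD3_c52)) :=
  Lgr Lrot190 (Lpe (f26025 IH) (Lpe (K0.f20282 IH) (Lpe (K0.f20269 IH) (Lpe (K0.f26019 IH) (Lpr_bf (K2.f36409 IH) (Lpe (K1.f36602 IH) (Lpe (K1.f36611 IH) (Lpe (K1.f36612 IH) (Lpr_bf (K1.f59691 IH) (Lpe (K1.f59693 IH) (Lpe (K2.f59694 IH) (Lpr_gf (K2.f70192 IH) (Lpe (K1.f36143 IH) (Lpe (K4.f35233 IH) (Lpe (K6.f35336 IH) (Lpr_gf (K6.f139052 IH) (Lpe (K6.f139045 IH) (Lpe (K6.f138980 IH) (Lpe (K6.f138976 IH) (Lpn (LP (LK LD1_c1 LD2_c10 LD3_c52))))))))))))))))))))))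
theorem f26556 : Led Lsl_dt (LP (LK LD1_c5 LD2_c57 LD3_c49)) = (LP (LK LD1_c11 LD2_c40 LD3_c27)) :=
  Lre_d IH (LK LD1_c5 LD2_c57 LD3_c49) (LK LD1_c11 LD2_c40 LD3_c27) Lrfl Lrfl
theorem f150259 : Led Lsl_gf (LP (LK LD1_c9 LD2_c26 LD3_c5)) = (LP (LK LD1_c11 LD2_c40 LD3_c27)) :=
  Lgr Lrot143 (Lpr_dt (K6.f139069 IH) (Lpe (K6.f138980 IH) (Lpe (K6.f138976 IH) (Lpe (f139060 IH) (Lpe (K7.f26451 IH) (Lpe (K4.f26003 IH) (Lpe (K7.f104787 IH) (Lpr_gt (f150255 IH) (Lpr_dt (f26556 IH) (Lpn (LP (LK LD1_c11 LD2_c40 LD3_c27))))))))))))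
theorem f139139 : Led Lsl_af (LP (LK LD1_c9 LD2_c26 LD3_c5)) = (LP (LK LD1_c4 LD2_c59 LD3_c1)) :=
  Lgr Lrot68 (Lpr_ct (K6.f105007 IH) (Lpr_at (K6.f139135 IH) (Lpe (f74507 IH) (Lpn (LP (LK LD1_c4 LD2_c59 LD3_c1))))))
theorem f74519 : Led Lsl_ft (LP (LK LD1_c2 LD2_c27 LD3_c24)) = (LP (LK LD1_c4 LD2_c58 LD3_c18)) :=
  Lre_f IH (LK LD1_c2 LD2_c27 LD3_c24) (LK LD1_c4 LD2_c58 LD3_c18) Lrfl Lrfl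
theorem f74509 : Led Lsl_dt (LP (LK LD1_c4 LD2_c59 LD3_c1)) = (LP (LK LD1_c2 LD2_c27 LD3_c24)) :=
  Lre_d IH (LK LD1_c4 LD2_c59 LD3_c1) (LK LD1_c2 LD2_c27 LD3_c24) Lrfl Lrfl
theorem f139168 : Led Lsl_ff (LP (LK LD1_c4 LD2_c59 LD3_c1)) = (LP (LK LD1_c9 LD2_c26 LD3_c3)) :=
  Lgr Lrot19 (Lpr_dt (f74509 IH) (Lpr_ft (f74519 IH) (Lpr_dt (K6.f139159 IH) (Lpn (LP (LK LD1_c9 LD2_c26 LD3_c3))))))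
theorem f150267 : Led Lsl_gt (LP (LK LD1_c9 LD2_c26 LD3_c3)) = (LP (LK LD1_c11 LD2_c40 LD3_c27)) :=
  Lgr Lrot5 (Lpe (f139168 IH) (Lpe (f139139 IH) (Lpr_gf (f150259 IH) (Lpn (LP (LK LD1_c11 LD2_c40 LD3_c27))))))
theorem f26566 : Led Lsl_dt (LP (LK LD1_c11 LD2_c40 LD3_c27)) = (LP (LK LD1_c5 LD2_c57 LD3_c49)) :=
  Lre_d IH (LK LD1_c11 LD2_c40 LD3_c27) (LK LD1_c5 LD2_c57 LD3_c49) Lrfl Lrfl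
theorem f26555 : Led Lsl_ct (LP (LK LD1_c2 LD2_c55 LD3_c14)) = (LP (LK LD1_c5 LD2_c57 LD3_c49)) :=
  Lre_c IH (LK LD1_c2 LD2_c55 LD3_c14) (LK LD1_c5 LD2_c57 LD3_c49) Lrfl Lrfl
theorem f26554 : Led Lsl_dt (LP (LK LD1_c1 LD2_c23 LD3_c34)) = (LP (LK LD1_c2 LD2_c55 LD3_c14)) :=
  Lre_d IH (LK LD1_c1 LD2_c23 LD3_c34) (LK LD1_c2 LD2_c55 LD3_c14) Lrfl Lrfl
theorem f72555 : Led Lsl_gt (LP (LK LD1_c2 LD2_c55 LD3_c19)) = (LP (LK LD1_c1 LD2_c23 LD3_c37)) :=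
  Lre_g IH (LK LD1_c2 LD2_c55 LD3_c19) (LK LD1_c1 LD2_c23 LD3_c37) Lrfl Lrfl
theorem f72556 : Led Lsl_ct (LP (LK LD1_c5 LD2_c57 LD3_c55)) = (LP (LK LD1_c2 LD2_c55 LD3_c19)) :=
  Lre_c IH (LK LD1_c5 LD2_c57 LD3_c55) (LK LD1_c2 LD2_c55 LD3_c19) Lrfl Lrfl
theorem f150271 : Led Lsl_gf (LP (LK LD1_c4 LD2_c58 LD3_c18)) = (LP (LK LD1_c5 LD2_c57 LD3_c55)) :=
  Lgr Lrot144 (Lpr_dt (K6.f139159 IH) (Lpr_gt (f150267 IH) (Lpr_dt (f26566 IH) (Lpe (f26555 IH) (Lpe (f26554 IH) (Lpe (K7.f26540 IH) (Lpe (K2.f72473 IH) (Lpe (f72555 IH) (Lpe (f72556 IH) (Lpn (LP (LK LD1_c5 LD2_c57 LD3_c55))))))))))))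
theorem f138971 : Led Lsl_at (LP (LK LD1_c1 LD2_c10 LD3_c55)) = (LP (LK LD1_c2 LD2_c27 LD3_c12)) :=
  Lre_a IH (LK LD1_c1 LD2_c10 LD3_c55) (LK LD1_c2 LD2_c27 LD3_c12) Lrfl Lrfl
theorem f139064 : Led Lsl_ft (LP (LK LD1_c2 LD2_c26 LD3_c61)) = (LP (LK LD1_c1 LD2_c10 LD3_c55)) :=
  Lre_f IH (LK LD1_c2 LD2_c26 LD3_c61) (LK LD1_c1 LD2_c10 LD3_c55) Lrfl Lrfl
theorem f139065 : Led Lsl_gf (LP (LK LD1_c1 LD2_c22 LD3_c1)) = (LP (LK LD1_c2 LD2_c26 LD3_c61)) :=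
  Lgr Lrot47 (Lpr_gt (K6.f139062 IH) (Lpe (f138971 IH) (Lpe (f139064 IH) (Lpn (LP (LK LD1_c2 LD2_c26 LD3_c61))))))
theorem f74391 : Led Lsl_dt (LP (LK LD1_c2 LD2_c27 LD3_c37)) = (LP (LK LD1_c4 LD2_c59 LD3_c34)) :=
  Lre_d IH (LK LD1_c2 LD2_c27 LD3_c37) (LK LD1_c4 LD2_c59 LD3_c34) Lrfl Lrfl
theorem f75400 : Led Lsl_cf (LP (LK LD1_c4 LD2_c59 LD3_c34)) = (LP (LK LD1_c2 LD2_c56 LD3_c32)) :=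
  Lgr Lrot99 (Lpe (f74391 IH) (Lpe (f40385 IH) (Lpe (K4.f40382 IH) (Lpe (K2.f40684 IH) (Lpe (K4.f40568 IH) (Lpe (K4.f72675 IH) (Lpr_gt (K4.f75389 IH) (Lpr_ct (K2.f72908 IH) (Lpr_gt (K2.f75136 IH) (Lpn (LP (LK LD1_c2 LD2_c56 LD3_c32))))))))))))
theorem f75408 : Led Lsl_ct (LP (LK LD1_c4 LD2_c59 LD3_c34)) = (LP (LK LD1_c2 LD2_c56 LD3_c32)) :=
  Lgr Lrot59 (Lpr_cf (f75400 IH) (Lpn (LP (LK LD1_c2 LD2_c56 LD3_c32))))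
theorem f139172 : Led Lsl_ft (LP (LK LD1_c2 LD2_c56 LD3_c38)) = (LP (LK LD1_c4 LD2_c46 LD3_c42)) :=
  Lgr Lrot4 (Lpe (f74511 IH) (Lpr_ff (f139168 IH) (Lpe (K6.f99082 IH) (Lpn (LP (LK LD1_c4 LD2_c46 LD3_c42))))))
theorem f139179 : Led Lsl_af (LP (LK LD1_c2 LD2_c56 LD3_c39)) = (LP (LK LD1_c4 LD2_c46 LD3_c42)) :=
  Lgr Lrot45 (Lpe (K6.f139130 IH) (Lpr_at (K6.f139135 IH) (Lpr_ft (f139172 IH) (Lpn (LP (LK LD1_c4 LD2_c46 LD3_c42))))))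
theorem f139184 : Led Lsl_dt (LP (LK LD1_c3 LD2_c0 LD3_c36)) = (LP (LK LD1_c4 LD2_c46 LD3_c42)) :=
  Lgr Lrot44 (Lpe (K6.f139148 IH) (Lpr_df (K2.f74504 IH) (Lpr_af (f139179 IH) (Lpn (LP (LK LD1_c4 LD2_c46 LD3_c42))))))
theorem f75344 : Led Lsl_gt (LP (LK LD1_c4 LD2_c59 LD3_c25)) = (LP (LK LD1_c9 LD2_c49 LD3_c13)) :=
  Lre_g IH (LK LD1_c4 LD2_c59 LD3_c25) (LK LD1_c9 LD2_c49 LD3_c13) Lrfl Lrfl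
theorem f150277 : Led Lsl_dt (LP (LK LD1_c9 LD2_c49 LD3_c13)) = (LP (LK LD1_c5 LD2_c57 LD3_c55)) :=
  Lgr Lrot57 (Lpe (f75344 IH) (Lpe (f75342 IH) (Lpe (K2.f75052 IH) (Lpr_dt (K2.f23016 IH) (Lpr_gt (K6.f75079 IH) (Lpr_dt (f139184 IH) (Lpe (K6.f105055 IH) (Lpe (K6.f139159 IH) (Lpr_gf (f150271 IH) (Lpn (LP (LK LD1_c5 LD2_c57 LD3_c55))))))))))))
theorem f150279 : Led Lsl_gf (LP (LK LD1_c4 LD2_c59 LD3_c34)) = (LP (LK LD1_c9 LD2_c49 LD3_c13)) :=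
  Lgr Lrot147 (Lpr_ct (f75408 IH) (Lpr_gt (K2.f72714 IH) (Lpe (K4.f75154 IH) (Lpe (K2.f74264 IH) (Lpe (K2.f68360 IH) (Lpr_gf (f139065 IH) (Lpe (f139177 IH) (Lpr_gf (f150271 IH) (Lpe (f150277 IH) (Lpn (LP (LK LD1_c9 LD2_c49 LD3_c13))))))))))))
theorem f139375 : Led Lsl_cf (LP (LK LD1_c3 LD2_c59 LD3_c17)) = (LP (LK LD1_c3 LD2_c0 LD3_c37)) :=
  Lgr Lrot55 (Lpr_dt (K6.f139374 IH) (Lpr_ct (K6.f139358 IH) (Lpr_dt (K6.f139157 IH) (Lpr_ct (K6.f139158 IH) (Lpr_dt (K6.f139159 IH) (Lpr_ct (K6.f105055 IH) (Lpe (K6.f137612 IH) (Lpe (K6.f139146 IH) (Lpr_dt (K6.f138899 IH) (Lpr_ct (K6.f138890 IH) (Lpr_dt (K6.f138976 IH) (Lpr_ct (K6.f138980 IH) (Lpe (K6.f139071 IH) (Lpr_ct (K6.f105007 IH) (Lpe (K6.f139297 IH) (Lpn (LP (LK LD1_c3 LD2_c0 LD3_c37))))))))))))))))))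
theorem f74779 : Led Lsl_af (LP (LK LD1_c1 LD2_c26 LD3_c8)) = (LP (LK LD1_c2 LD2_c55 LD3_c26)) :=
  Lgr Lrot68 (Lpr_ct (K2.f23015 IH) (Lpr_at (K2.f74553 IH) (Lpr_ct (K2.f74713 IH) (Lpn (LP (LK LD1_c2 LD2_c55 LD3_c26))))))
theorem f74942 : Led Lsl_gt (LP (LK LD1_c4 LD2_c40 LD3_c36)) = (LP (LK LD1_c3 LD2_c0 LD3_c37)) :=
  Lgr Lrot5 (Lpr_ft (K2.f74931 IH) (Lpe (f74779 IH) (Lpe (K6.f23019 IH) (Lpn (LP (LK LD1_c3 LD2_c0 LD3_c37))))))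
theorem f72554 : Led Lsl_dt (LP (LK LD1_c5 LD2_c58 LD3_c12)) = (LP (LK LD1_c2 LD2_c55 LD3_c28)) :=
  Lre_d IH (LK LD1_c5 LD2_c58 LD3_c12) (LK LD1_c2 LD2_c55 LD3_c28) Lrfl Lrfl
theorem f150231 : Led Lsl_ct (LP (LK LD1_c9 LD2_c49 LD3_c13)) = (LP (LK LD1_c5 LD2_c58 LD3_c12)) :=
  Lgr Lrot110 (Lpe (f75344 IH) (Lpe (f75342 IH) (Lpr_gf (K4.f75338 IH) (Lpe (K6.f75219 IH) (Lpr_gt (f74942 IH) (Lpe (f139375 IH) (Lpr_gt (K7.f150227 IH) (Lpr_ct (K7.f74555 IH) (Lpe (f72554 IH) (Lpn (LP (LK LD1_c5 LD2_c58 LD3_c12))))))))))))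
theorem f150237 : Led Lsl_cf (LP (LK LD1_c9 LD2_c49 LD3_c13)) = (LP (LK LD1_c5 LD2_c58 LD3_c12)) :=
  Lgr Lrot11 (Lpr_ct (f150231 IH) (Lpn (LP (LK LD1_c5 LD2_c58 LD3_c12))))
theorem f74723 : Led Lsl_dt (LP (LK LD1_c2 LD2_c55 LD3_c28)) = (LP (LK LD1_c5 LD2_c58 LD3_c12)) :=
  Lre_d IH (LK LD1_c2 LD2_c55 LD3_c28) (LK LD1_c5 LD2_c58 LD3_c12) Lrfl Lrfl
theorem f104989 : Led Lsl_ct (LP (LK LD1_c4 LD2_c48 LD3_c54)) = (LP (LK LD1_c9 LD2_c30 LD3_c18)) :=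
  Lre_c IH (LK LD1_c4 LD2_c48 LD3_c54) (LK LD1_c9 LD2_c30 LD3_c18) Lrfl Lrfl
theorem f105016 : Led Lsl_gt (LP (LK LD1_c5 LD2_c58 LD3_c12)) = (LP (LK LD1_c4 LD2_c48 LD3_c54)) :=
  Lgr Lrot9 (Lpe (f74723 IH) (Lpr_gt (K7.f72553 IH) (Lpr_ct (K7.f72538 IH) (Lpr_gt (K2.f72460 IH) (Lpr_ct (K2.f22840 IH) (Lpe (K2.f22839 IH) (Lpe (K2.f72868 IH) (Lpr_gf (K4.f105009 IH) (Lpe (f104989 IH) (Lpn (LP (LK LD1_c4 LD2_c48 LD3_c54))))))))))))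
theorem f158492 : Led Lsl_gf (LP (LK LD1_c4 LD2_c48 LD3_c44)) = (LP (LK LD1_c2 LD2_c22 LD3_c19)) :=
  Lgr Lrot143 (Lpr_dt (f137606 IH) (Lpr_cf (f158485 IH) (Lpr_df (f74372 IH) (Lpe (f74379 IH) (Lpe (f74381 IH) (Lpr_gf (f150279 IH) (Lpr_cf (f150237 IH) (Lpr_gt (f105016 IH) (Lpr_dt (K4.f104982 IH) (Lpn (LP (LK LD1_c2 LD2_c22 LD3_c19))))))))))))
theorem f158480 : Led Lsl_ct (LP (LK LD1_c4 LD2_c48 LD3_c44)) = (LP (LK LD1_c4 LD2_c58 LD3_c28)) :=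
  Lgr Lrot59 (Lpr_cf (f158475 IH) (Lpn (LP (LK LD1_c4 LD2_c58 LD3_c28))))
theorem f69036 : Led Lsl_gt (LP (LK LD1_c2 LD2_c56 LD3_c34)) = (LP (LK LD1_c6 LD2_c0 LD3_c37)) :=
  Lre_g IH (LK LD1_c2 LD2_c56 LD3_c34) (LK LD1_c6 LD2_c0 LD3_c37) Lrfl Lrfl
theorem f158496 : Led Lsl_bt (LP (LK LD1_c11 LD2_c45 LD3_c35)) = (LP (LK LD1_c6 LD2_c0 LD3_c37)) :=
  Lre_b IH (LK LD1_c11 LD2_c45 LD3_c35) (LK LD1_c6 LD2_c0 LD3_c37) Lrfl Lrfl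
theorem f109437 : Led Lsl_bt (LP (LK LD1_c4 LD2_c48 LD3_c53)) = (LP (LK LD1_c2 LD2_c22 LD3_c19)) :=
  Lre_b IH (LK LD1_c4 LD2_c48 LD3_c53) (LK LD1_c2 LD2_c22 LD3_c19) Lrfl Lrfl
theorem f158497 : Led Lsl_ct (LP (LK LD1_c11 LD2_c45 LD3_c35)) = (LP (LK LD1_c13 LD2_c47 LD3_c3)) :=
  Lgr Lrot64 (Lpr_bt (f158496 IH) (Lpe (f69036 IH) (Lpe (K6.f69023 IH) (Lpr_ct (K4.f69051 IH) (Lpe (K4.f69014 IH) (Lpe (f158480 IH) (Lpr_gf (f158492 IH) (Lpe (f109437 IH) (Lpr_ct (K3.f103173 IH) (Lpe (K6.f130400 IH) (Lpn (LP (LK LD1_c13 LD2_c47 LD3_c3)))))))))))))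
theorem f158509 : Led Lsl_et (LP (LK LD1_c20 LD2_c46 LD3_c55)) = (LP (LK LD1_c11 LD2_c45 LD3_c35)) :=
  Lre_e IH (LK LD1_c20 LD2_c46 LD3_c55) (LK LD1_c11 LD2_c45 LD3_c35) Lrfl Lrfl
theorem f130405 : Led Lsl_et (LP (LK LD1_c13 LD2_c47 LD3_c3)) = (LP (LK LD1_c23 LD2_c14 LD3_c38)) :=
  Lre_e IH (LK LD1_c13 LD2_c47 LD3_c3) (LK LD1_c23 LD2_c14 LD3_c38) Lrfl Lrfl
theorem f158510 : Led Lsl_cf (LP (LK LD1_c20 LD2_c46 LD3_c55)) = (LP (LK LD1_c23 LD2_c14 LD3_c38)) :=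
  Lgr Lrot39 (Lpr_et (f158509 IH) (Lpr_ct (f158497 IH) (Lpr_et (f130405 IH) (Lpn (LP (LK LD1_c23 LD2_c14 LD3_c38))))))
theorem f158572 : Led Lsl_ct (LP (LK LD1_c20 LD2_c46 LD3_c55)) = (LP (LK LD1_c23 LD2_c14 LD3_c38)) :=
  Lgr Lrot59 (Lpr_cf (f158510 IH) (Lpn (LP (LK LD1_c23 LD2_c14 LD3_c38))))
theorem f158574 : Led Lsl_bt (LP (LK LD1_c11 LD2_c45 LD3_c36)) = (LP (LK LD1_c20 LD2_c46 LD3_c55)) :=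
  Lre_b IH (LK LD1_c11 LD2_c45 LD3_c36) (LK LD1_c20 LD2_c46 LD3_c55) Lrfl Lrfl
theorem f130287 : Led Lsl_et (LP (LK LD1_c22 LD2_c11 LD3_c18)) = (LP (LK LD1_c13 LD2_c1 LD3_c15)) :=
  Lre_e IH (LK LD1_c22 LD2_c11 LD3_c18) (LK LD1_c13 LD2_c1 LD3_c15) Lrfl Lrfl
theorem f130406 : Led Lsl_bf (LP (LK LD1_c22 LD2_c11 LD3_c18)) = (LP (LK LD1_c23 LD2_c14 LD3_c38)) :=
  Lgr Lrot96 (Lpr_et (f130287 IH) (Lpr_bt (K6.f130303 IH) (Lpr_et (f130405 IH) (Lpn (LP (LK LD1_c23 LD2_c14 LD3_c38))))))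
theorem f130305 : Led Lsl_et (LP (LK LD1_c13 LD2_c1 LD3_c15)) = (LP (LK LD1_c22 LD2_c11 LD3_c18)) :=
  Lre_e IH (LK LD1_c13 LD2_c1 LD3_c15) (LK LD1_c22 LD2_c11 LD3_c18) Lrfl Lrfl
theorem f130310 : Led Lsl_et (LP (LK LD1_c23 LD2_c49 LD3_c21)) = (LP (LK LD1_c14 LD2_c13 LD3_c49)) :=
  Lre_e IH (LK LD1_c23 LD2_c49 LD3_c21) (LK LD1_c14 LD2_c13 LD3_c49) Lrfl Lrfl
theorem f130311 : Led Lsl_ct (LP (LK LD1_c22 LD2_c11 LD3_c18)) = (LP (LK LD1_c23 LD2_c49 LD3_c21)) :=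
  Lgr Lrot15 (Lpe (f130305 IH) (Lpr_cf (K6.f130306 IH) (Lpe (f130310 IH) (Lpn (LP (LK LD1_c23 LD2_c49 LD3_c21))))))
theorem f90555 : Led Lsl_bt (LP (LK LD1_c3 LD2_c23 LD3_c22)) = (LP (LK LD1_c1 LD2_c38 LD3_c3)) :=
  Lre_b IH (LK LD1_c3 LD2_c23 LD3_c22) (LK LD1_c1 LD2_c38 LD3_c3) Lrfl Lrfl
theorem f130313 : Led Lsl_bf (LP (LK LD1_c9 LD2_c23 LD3_c42)) = (LP (LK LD1_c14 LD2_c13 LD3_c49)) :=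
  Lgr Lrot34 (Lpe (K7.f78211 IH) (Lpe (K7.f78210 IH) (Lpr_ct (K3.f78194 IH) (Lpe (K5.f107266 IH) (Lpr_cf (K5.f107330 IH) (Lpr_gf (K5.f93275 IH) (Lpe (f90555 IH) (Lpr_ct (K5.f93264 IH) (Lpe (K6.f93279 IH) (Lpr_cf (K6.f130306 IH) (Lpn (LP (LK LD1_c14 LD2_c13 LD3_c49)))))))))))))
theorem f128359 : Led Lsl_et (LP (LK LD1_c9 LD2_c23 LD3_c42)) = (LP (LK LD1_c17 LD2_c20 LD3_c37)) :=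
  Lre_e IH (LK LD1_c9 LD2_c23 LD3_c42) (LK LD1_c17 LD2_c20 LD3_c37) Lrfl Lrfl
theorem f130319 : Led Lsl_bt (LP (LK LD1_c17 LD2_c20 LD3_c37)) = (LP (LK LD1_c23 LD2_c49 LD3_c21)) :=
  Lgr Lrot119 (Lpe (f128359 IH) (Lpr_bf (f130313 IH) (Lpe (f130310 IH) (Lpn (LP (LK LD1_c23 LD2_c49 LD3_c21))))))
theorem f130321 : Led Lsl_bf (LP (LK LD1_c17 LD2_c20 LD3_c37)) = (LP (LK LD1_c23 LD2_c49 LD3_c21)) :=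
  Lgr Lrot24 (Lpr_bt (f130319 IH) (Lpn (LP (LK LD1_c23 LD2_c49 LD3_c21))))
theorem f158575 : Led Lsl_cf (LP (LK LD1_c11 LD2_c45 LD3_c36)) = (LP (LK LD1_c17 LD2_c20 LD3_c37)) :=
  Lgr Lrot97 (Lpr_bt (f158574 IH) (Lpr_ct (f158572 IH) (Lpe (f130406 IH) (Lpr_ct (f130311 IH) (Lpe (f130321 IH) (Lpn (LP (LK LD1_c17 LD2_c20 LD3_c37))))))))
theorem f158579 : Led Lsl_et (LP (LK LD1_c11 LD2_c45 LD3_c36)) = (LP (LK LD1_c6 LD2_c0 LD3_c37)) :=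
  Lre_e IH (LK LD1_c11 LD2_c45 LD3_c36) (LK LD1_c6 LD2_c0 LD3_c37) Lrfl Lrfl
theorem f158580 : Led Lsl_ct (LP (LK LD1_c6 LD2_c0 LD3_c37)) = (LP (LK LD1_c9 LD2_c23 LD3_c42)) :=
  Lgr Lrot15 (Lpe (f158579 IH) (Lpr_cf (f158575 IH) (Lpe (f128359 IH) (Lpn (LP (LK LD1_c9 LD2_c23 LD3_c42))))))
theorem f75099 : Led Lsl_dt (LP (LK LD1_c2 LD2_c56 LD3_c34)) = (LP (LK LD1_c6 LD2_c0 LD3_c41)) :=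
  Lre_d IH (LK LD1_c2 LD2_c56 LD3_c34) (LK LD1_c6 LD2_c0 LD3_c41) Lrfl Lrfl
theorem f132604 : Led Lsl_ff (LP (LK LD1_c1 LD2_c28 LD3_c32)) = (LP (LK LD1_c2 LD2_c18 LD3_c53)) :=
  Lgr Lrot3 (Lpr_ft (K5.f132595 IH) (Lpn (LP (LK LD1_c2 LD2_c18 LD3_c53))))
theorem f132608 : Led Lsl_at (LP (LK LD1_c1 LD2_c28 LD3_c36)) = (LP (LK LD1_c2 LD2_c18 LD3_c53)) :=
  Lgr Lrot100 (Lpr_af (K5.f132606 IH) (Lpn (LP (LK LD1_c2 LD2_c18 LD3_c53))))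
theorem f132852 : Led Lsl_at (LP (LK LD1_c1 LD2_c28 LD3_c32)) = (LP (LK LD1_c2 LD2_c18 LD3_c56)) :=
  Lgr Lrot66 (Lpr_ff (f132604 IH) (Lpe (f132608 IH) (Lpr_ff (K5.f132837 IH) (Lpn (LP (LK LD1_c2 LD2_c18 LD3_c56))))))
theorem f137417 : Led Lsl_cf (LP (LK LD1_c5 LD2_c54 LD3_c35)) = (LP (LK LD1_c9 LD2_c22 LD3_c54)) :=
  Lgr Lrot11 (Lpr_ct (K6.f137406 IH) (Lpn (LP (LK LD1_c9 LD2_c22 LD3_c54))))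
theorem f138132 : Led Lsl_df (LP (LK LD1_c9 LD2_c22 LD3_c54)) = (LP (LK LD1_c5 LD2_c54 LD3_c13)) :=
  Lgr Lrot106 (Lpe (f137417 IH) (Lpr_dt (K6.f71139 IH) (Lpr_ct (K6.f71141 IH) (Lpr_dt (K6.f137336 IH) (Lpr_ct (K5.f59399 IH) (Lpe (f132852 IH) (Lpr_ff (f132604 IH) (Lpr_dt (K5.f60949 IH) (Lpr_ct (f138121 IH) (Lpn (LP (LK LD1_c5 LD2_c54 LD3_c13))))))))))))
theorem f138140 : Led Lsl_ct (LP (LK LD1_c11 LD2_c32 LD3_c56)) = (LP (LK LD1_c5 LD2_c53 LD3_c27)) :=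
  Lre_c IH (LK LD1_c11 LD2_c32 LD3_c56) (LK LD1_c5 LD2_c53 LD3_c27) Lrfl Lrfl
theorem f158583 : Led Lsl_gt (LP (LK LD1_c6 LD2_c0 LD3_c41)) = (LP (LK LD1_c11 LD2_c32 LD3_c56)) :=
  Lgr Lrot9 (Lpe (f75099 IH) (Lpr_gt (f69036 IH) (Lpr_ct (f158580 IH) (Lpr_gt (K7.f137470 IH) (Lpr_ct (K6.f137406 IH) (Lpr_df (f138132 IH) (Lpe (f138121 IH) (Lpr_gf (f138138 IH) (Lpe (f138140 IH) (Lpn (LP (LK LD1_c11 LD2_c32 LD3_c56))))))))))))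
theorem f99458 : Led Lsl_bt (LP (LK LD1_c1 LD2_c26 LD3_c18)) = (LP (LK LD1_c2 LD2_c15 LD3_c16)) :=
  Lgr Lrot128 (Lpr_cf (K1.f35670 IH) (Lpe (K4.f35755 IH) (Lpe (K4.f35756 IH) (Lpr_bf (K4.f99448 IH) (Lpe (K6.f70913 IH) (Lpn (LP (LK LD1_c2 LD2_c15 LD3_c16))))))))
theorem f70219 : Led Lsl_bt (LP (LK LD1_c1 LD2_c28 LD3_c2)) = (LP (LK LD1_c3 LD2_c3 LD3_c60)) :=
  Lre_b IH (LK LD1_c1 LD2_c28 LD3_c2) (LK LD1_c3 LD2_c3 LD3_c60) Lrfl Lrfl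
theorem f70220 : Led Lsl_gt (LP (LK LD1_c6 LD2_c14 LD3_c10)) = (LP (LK LD1_c3 LD2_c3 LD3_c60)) :=
  Lre_g IH (LK LD1_c6 LD2_c14 LD3_c10) (LK LD1_c3 LD2_c3 LD3_c60) Lrfl Lrfl
theorem f138147 : Led Lsl_ct (LP (LK LD1_c5 LD2_c53 LD3_c27)) = (LP (LK LD1_c11 LD2_c32 LD3_c56)) :=
  Lre_c IH (LK LD1_c5 LD2_c53 LD3_c27) (LK LD1_c11 LD2_c32 LD3_c56) Lrfl Lrfl
theorem f158592 : Led Lsl_bf (LP (LK LD1_c6 LD2_c14 LD3_c10)) = (LP (LK LD1_c5 LD2_c53 LD3_c27)) :=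
  Lgr Lrot156 (Lpr_gt (f70220 IH) (Lpe (f70219 IH) (Lpr_ct (K2.f59182 IH) (Lpr_gt (K2.f70211 IH) (Lpe (K1.f35588 IH) (Lpr_bt (f99458 IH) (Lpr_gt (K4.f112393 IH) (Lpr_ct (K4.f75084 IH) (Lpr_gt (f158583 IH) (Lpe (f138147 IH) (Lpn (LP (LK LD1_c5 LD2_c53 LD3_c27)))))))))))))
theorem f71213 : Led Lsl_dt (LP (LK LD1_c2 LD2_c53 LD3_c4)) = (LP (LK LD1_c5 LD2_c53 LD3_c27)) :=
  Lre_d IH (LK LD1_c2 LD2_c53 LD3_c4) (LK LD1_c5 LD2_c53 LD3_c27) Lrfl Lrfl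
theorem f158601 : Led Lsl_dt (LP (LK LD1_c6 LD2_c14 LD3_c10)) = (LP (LK LD1_c4 LD2_c0 LD3_c40)) :=
  Lgr Lrot79 (Lpr_bf (f158592 IH) (Lpe (f71213 IH) (Lpr_bf (f158258 IH) (Lpn (LP (LK LD1_c4 LD2_c0 LD3_c40))))))
theorem f29485 : Led Lsl_dt (LP (LK LD1_c1 LD2_c57 LD3_c8)) = (LP (LK LD1_c4 LD2_c0 LD3_c42)) :=
  Lre_d IH (LK LD1_c1 LD2_c57 LD3_c8) (LK LD1_c4 LD2_c0 LD3_c42) Lrfl Lrfl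
theorem f158646 : Led Lsl_af (LP (LK LD1_c6 LD2_c14 LD3_c10)) = (LP (LK LD1_c4 LD2_c0 LD3_c42)) :=
  Lgr Lrot117 (Lpr_dt (f158601 IH) (Lpr_at (f69484 IH) (Lpr_dt (f29485 IH) (Lpn (LP (LK LD1_c4 LD2_c0 LD3_c42))))))
theorem f158599 : Led Lsl_bt (LP (LK LD1_c6 LD2_c14 LD3_c10)) = (LP (LK LD1_c5 LD2_c53 LD3_c27)) :=
  Lgr Lrot127 (Lpr_bf (f158592 IH) (Lpn (LP (LK LD1_c5 LD2_c53 LD3_c27))))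
theorem f149412 : Led Lsl_df (LP (LK LD1_c6 LD2_c15 LD3_c40)) = (LP (LK LD1_c4 LD2_c0 LD3_c44)) :=
  Lgr Lrot155 (Lpr_gt (K7.f112354 IH) (Lpr_ct (K6.f83790 IH) (Lpr_gt (K7.f112752 IH) (Lpr_ct (K7.f71002 IH) (Lpr_dt (K2.f71005 IH) (Lpe (K2.f70925 IH) (Lpe (K7.f149400 IH) (Lpe (K7.f35551 IH) (Lpr_gf (K7.f149406 IH) (Lpn (LP (LK LD1_c4 LD2_c0 LD3_c44))))))))))))
theorem f158271 : Led Lsl_ff (LP (LK LD1_c5 LD2_c53 LD3_c27)) = (LP (LK LD1_c6 LD2_c15 LD3_c40)) :=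
  Lgr Lrot19 (Lpr_dt (f71212 IH) (Lpr_ft (f158266 IH) (Lpe (f149412 IH) (Lpn (LP (LK LD1_c6 LD2_c15 LD3_c40))))))
theorem f158291 : Led Lsl_at (LP (LK LD1_c5 LD2_c53 LD3_c27)) = (LP (LK LD1_c6 LD2_c15 LD3_c39)) :=
  Lgr Lrot66 (Lpr_ff (f158271 IH) (Lpe (f158281 IH) (Lpr_ff (f158289 IH) (Lpn (LP (LK LD1_c6 LD2_c15 LD3_c39))))))
theorem f70969 : Led Lsl_et (LP (LK LD1_c4 LD2_c36 LD3_c9)) = (LP (LK LD1_c2 LD2_c15 LD3_c16)) :=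
  Lre_e IH (LK LD1_c4 LD2_c36 LD3_c9) (LK LD1_c2 LD2_c15 LD3_c16) Lrfl Lrfl
theorem f72187 : Led Lsl_bf (LP (LK LD1_c1 LD2_c26 LD3_c18)) = (LP (LK LD1_c2 LD2_c15 LD3_c16)) :=
  Lgr Lrot96 (Lpr_et (K1.f35555 IH) (Lpr_bt (K2.f72177 IH) (Lpr_et (f70969 IH) (Lpn (LP (LK LD1_c2 LD2_c15 LD3_c16))))))
theorem f37209 : Led Lsl_ct (LP (LK LD1_c3 LD2_c4 LD3_c2)) = (LP (LK LD1_c6 LD2_c14 LD3_c17)) :=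
  Lre_c IH (LK LD1_c3 LD2_c4 LD3_c2) (LK LD1_c6 LD2_c14 LD3_c17) Lrfl Lrfl
theorem f100440 : Led Lsl_dt (LP (LK LD1_c3 LD2_c57 LD3_c55)) = (LP (LK LD1_c1 LD2_c55 LD3_c43)) :=
  Lre_d IH (LK LD1_c3 LD2_c57 LD3_c55) (LK LD1_c1 LD2_c55 LD3_c43) Lrfl Lrfl
theorem f112543 : Led Lsl_dt (LP (LK LD1_c1 LD2_c56 LD3_c23)) = (LP (LK LD1_c3 LD2_c59 LD3_c22)) :=
  Lre_d IH (LK LD1_c1 LD2_c56 LD3_c23) (LK LD1_c3 LD2_c59 LD3_c22) Lrfl Lrfl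
theorem f112544 : Led Lsl_ct (LP (LK LD1_c7 LD2_c59 LD3_c57)) = (LP (LK LD1_c3 LD2_c59 LD3_c22)) :=
  Lre_c IH (LK LD1_c7 LD2_c59 LD3_c57) (LK LD1_c3 LD2_c59 LD3_c22) Lrfl Lrfl
theorem f112545 : Led Lsl_gf (LP (LK LD1_c7 LD2_c59 LD3_c57)) = (LP (LK LD1_c6 LD2_c14 LD3_c17)) :=
  Lgr Lrot104 (Lpr_ct (f112544 IH) (Lpe (f112543 IH) (Lpe (K7.f37818 IH) (Lpe (K6.f37771 IH) (Lpe (K1.f35526 IH) (Lpe (K5.f35531 IH) (Lpe (f100440 IH) (Lpr_gt (K5.f112524 IH) (Lpr_ct (f37209 IH) (Lpn (LP (LK LD1_c6 LD2_c14 LD3_c17))))))))))))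
theorem f112553 : Led Lsl_ct (LP (LK LD1_c3 LD2_c59 LD3_c22)) = (LP (LK LD1_c7 LD2_c59 LD3_c57)) :=
  Lre_c IH (LK LD1_c3 LD2_c59 LD3_c22) (LK LD1_c7 LD2_c59 LD3_c57) Lrfl Lrfl
theorem f132693 : Led Lsl_bf (LP (LK LD1_c6 LD2_c15 LD3_c39)) = (LP (LK LD1_c3 LD2_c59 LD3_c22)) :=
  Lgr Lrot165 (Lpr_gt (f132687 IH) (Lpr_ct (K6.f80261 IH) (Lpe (K6.f112401 IH) (Lpe (K6.f70913 IH) (Lpe (f72187 IH) (Lpe (K1.f59681 IH) (Lpe (K6.f37205 IH) (Lpr_ct (f37209 IH) (Lpe (f112545 IH) (Lpe (f112553 IH) (Lpn (LP (LK LD1_c3 LD2_c59 LD3_c22)))))))))))))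
theorem f132698 : Led Lsl_bt (LP (LK LD1_c6 LD2_c15 LD3_c39)) = (LP (LK LD1_c3 LD2_c59 LD3_c22)) :=
  Lgr Lrot127 (Lpr_bf (f132693 IH) (Lpn (LP (LK LD1_c3 LD2_c59 LD3_c22))))
theorem f69423 : Led Lsl_dt (LP (LK LD1_c6 LD2_c13 LD3_c16)) = (LP (LK LD1_c3 LD2_c3 LD3_c26)) :=
  Lre_d IH (LK LD1_c6 LD2_c13 LD3_c16) (LK LD1_c3 LD2_c3 LD3_c26) Lrfl Lrfl
theorem f69424 : Led Lsl_bt (LP (LK LD1_c4 LD2_c0 LD3_c42)) = (LP (LK LD1_c6 LD2_c13 LD3_c16)) :=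
  Lgr Lrot95 (Lpe (f29485 IH) (Lpr_bf (K6.f69362 IH) (Lpe (f69423 IH) (Lpn (LP (LK LD1_c6 LD2_c13 LD3_c16))))))
theorem f69427 : Led Lsl_bf (LP (LK LD1_c4 LD2_c0 LD3_c42)) = (LP (LK LD1_c6 LD2_c13 LD3_c16)) :=
  Lgr Lrot24 (Lpr_bt (f69424 IH) (Lpn (LP (LK LD1_c6 LD2_c13 LD3_c16))))
theorem f158649 : Led Lsl_at (LP (LK LD1_c3 LD2_c59 LD3_c22)) = (LP (LK LD1_c6 LD2_c13 LD3_c16)) :=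
  Lgr Lrot67 (Lpe (f132698 IH) (Lpe (f158291 IH) (Lpe (f158599 IH) (Lpr_af (f158646 IH) (Lpr_bf (f69427 IH) (Lpn (LP (LK LD1_c6 LD2_c13 LD3_c16))))))))
theorem f99503 : Led Lsl_dt (LP (LK LD1_c6 LD2_c13 LD3_c14)) = (LP (LK LD1_c3 LD2_c3 LD3_c23)) :=
  Lre_d IH (LK LD1_c6 LD2_c13 LD3_c14) (LK LD1_c3 LD2_c3 LD3_c23) Lrfl Lrfl
theorem f101746 : Led Lsl_bt (LP (LK LD1_c4 LD2_c58 LD3_c54)) = (LP (LK LD1_c6 LD2_c13 LD3_c14)) :=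
  Lgr Lrot95 (Lpe (f72412 IH) (Lpr_bf (K6.f101743 IH) (Lpe (f99503 IH) (Lpn (LP (LK LD1_c6 LD2_c13 LD3_c14))))))
theorem f158293 : Led Lsl_ft (LP (LK LD1_c6 LD2_c13 LD3_c14)) = (LP (LK LD1_c3 LD2_c59 LD3_c22)) :=
  Lgr Lrot75 (Lpe (f101746 IH) (Lpr_ff (f158289 IH) (Lpr_bf (f132693 IH) (Lpn (LP (LK LD1_c3 LD2_c59 LD3_c22))))))
theorem f80268 : Led Lsl_bt (LP (LK LD1_c0 LD2_c40 LD3_c58)) = (LP (LK LD1_c1 LD2_c28 LD3_c35)) :=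
  Lre_b IH (LK LD1_c0 LD2_c40 LD3_c58) (LK LD1_c1 LD2_c28 LD3_c35) Lrfl Lrfl
theorem f59400 : Led Lsl_bt (LP (LK LD1_c2 LD2_c18 LD3_c55)) = (LP (LK LD1_c1 LD2_c6 LD3_c30)) :=
  Lre_b IH (LK LD1_c2 LD2_c18 LD3_c55) (LK LD1_c1 LD2_c6 LD3_c30) Lrfl Lrfl
theorem f132824 : Led Lsl_ft (LP (LK LD1_c1 LD2_c28 LD3_c35)) = (LP (LK LD1_c2 LD2_c18 LD3_c55)) :=
  Lgr Lrot75 (Lpe (f80268 IH) (Lpr_ff (K5.f132820 IH) (Lpe (f59400 IH) (Lpn (LP (LK LD1_c2 LD2_c18 LD3_c55))))))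
theorem f138519 : Led Lsl_dt (LP (LK LD1_c2 LD2_c18 LD3_c55)) = (LP (LK LD1_c2 LD2_c53 LD3_c39)) :=
  Lgr Lrot60 (Lpe (f132824 IH) (Lpe (f79702 IH) (Lpr_ff (f138479 IH) (Lpn (LP (LK LD1_c2 LD2_c53 LD3_c39))))))
theorem f59401 : Led Lsl_ct (LP (LK LD1_c4 LD2_c42 LD3_c51)) = (LP (LK LD1_c2 LD2_c18 LD3_c55)) :=
  Lre_c IH (LK LD1_c4 LD2_c42 LD3_c51) (LK LD1_c2 LD2_c18 LD3_c55) Lrfl Lrfl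
theorem f59474 : Led Lsl_ct (LP (LK LD1_c1 LD2_c20 LD3_c55)) = (LP (LK LD1_c2 LD2_c49 LD3_c32)) :=
  Lre_c IH (LK LD1_c1 LD2_c20 LD3_c55) (LK LD1_c2 LD2_c49 LD3_c32) Lrfl Lrfl
theorem f138535 : Led Lsl_gf (LP (LK LD1_c4 LD2_c42 LD3_c51)) = (LP (LK LD1_c2 LD2_c49 LD3_c32)) :=
  Lgr Lrot172 (Lpr_ct (f59401 IH) (Lpr_dt (f138519 IH) (Lpe (f59472 IH) (Lpr_gf (K6.f59468 IH) (Lpe (K4.f59467 IH) (Lpe (K4.f59455 IH) (Lpr_dt (K6.f59475 IH) (Lpr_gt (K7.f56587 IH) (Lpr_ct (f59474 IH) (Lpn (LP (LK LD1_c2 LD2_c49 LD3_c32))))))))))))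
theorem f138526 : Led Lsl_dt (LP (LK LD1_c4 LD2_c42 LD3_c51)) = (LP (LK LD1_c9 LD2_c19 LD3_c46)) :=
  Lre_d IH (LK LD1_c4 LD2_c42 LD3_c51) (LK LD1_c9 LD2_c19 LD3_c46) Lrfl Lrfl
theorem f73295 : Led Lsl_gf (LP (LK LD1_c1 LD2_c28 LD3_c26)) = (LP (LK LD1_c1 LD2_c20 LD3_c55)) :=
  Lgr Lrot76 (Lpe (K2.f60863 IH) (Lpr_ff (K2.f73282 IH) (Lpr_gt (K7.f56587 IH) (Lpn (LP (LK LD1_c1 LD2_c20 LD3_c55))))))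
theorem f73831 : Led Lsl_dt (LP (LK LD1_c1 LD2_c28 LD3_c26)) = (LP (LK LD1_c2 LD2_c52 LD3_c5)) :=
  Lgr Lrot44 (Lpe (K2.f60863 IH) (Lpr_df (K2.f73819 IH) (Lpe (K2.f73630 IH) (Lpn (LP (LK LD1_c2 LD2_c52 LD3_c5))))))
theorem f138537 : Led Lsl_gt (LP (LK LD1_c9 LD2_c19 LD3_c46)) = (LP (LK LD1_c6 LD2_c13 LD3_c16)) :=
  Lgr Lrot49 (Lpe (f138526 IH) (Lpr_gf (f138535 IH) (Lpe (f59474 IH) (Lpe (f73295 IH) (Lpr_dt (f73831 IH) (Lpe (f74176 IH) (Lpe (K6.f137979 IH) (Lpe (K6.f59544 IH) (Lpe (f69423 IH) (Lpn (LP (LK LD1_c6 LD2_c13 LD3_c16))))))))))))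
theorem f158656 : Led Lsl_gt (LP (LK LD1_c6 LD2_c13 LD3_c14)) = (LP (LK LD1_c9 LD2_c19 LD3_c46)) :=
  Lgr Lrot5 (Lpr_ft (f158293 IH) (Lpr_at (f158649 IH) (Lpe (f138537 IH) (Lpn (LP (LK LD1_c9 LD2_c19 LD3_c46))))))
theorem f99526 : Led Lsl_dt (LP (LK LD1_c3 LD2_c3 LD3_c23)) = (LP (LK LD1_c6 LD2_c13 LD3_c14)) :=
  Lre_d IH (LK LD1_c3 LD2_c3 LD3_c23) (LK LD1_c6 LD2_c13 LD3_c14) Lrfl Lrfl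
theorem f104817 : Led Lsl_dt (LP (LK LD1_c9 LD2_c19 LD3_c46)) = (LP (LK LD1_c4 LD2_c42 LD3_c51)) :=
  Lre_d IH (LK LD1_c9 LD2_c19 LD3_c46) (LK LD1_c4 LD2_c42 LD3_c51) Lrfl Lrfl
theorem f59420 : Led Lsl_ct (LP (LK LD1_c2 LD2_c18 LD3_c55)) = (LP (LK LD1_c4 LD2_c42 LD3_c51)) :=
  Lre_c IH (LK LD1_c2 LD2_c18 LD3_c55) (LK LD1_c4 LD2_c42 LD3_c51) Lrfl Lrfl
theorem f137402 : Led Lsl_dt (LP (LK LD1_c2 LD2_c53 LD3_c39)) = (LP (LK LD1_c2 LD2_c18 LD3_c55)) :=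
  Lgr Lrot79 (Lpe (f104765 IH) (Lpr_df (K6.f137398 IH) (Lpe (f59400 IH) (Lpn (LP (LK LD1_c2 LD2_c18 LD3_c55))))))
theorem f148988 : Led Lsl_dt (LP (LK LD1_c2 LD2_c15 LD3_c38)) = (LP (LK LD1_c4 LD2_c36 LD3_c49)) :=
  Lre_d IH (LK LD1_c2 LD2_c15 LD3_c38) (LK LD1_c4 LD2_c36 LD3_c49) Lrfl Lrfl
theorem f148989 : Led Lsl_ct (LP (LK LD1_c2 LD2_c54 LD3_c23)) = (LP (LK LD1_c2 LD2_c51 LD3_c42)) :=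
  Lre_c IH (LK LD1_c2 LD2_c54 LD3_c23) (LK LD1_c2 LD2_c51 LD3_c42) Lrfl Lrfl
theorem f158660 : Led Lsl_gf (LP (LK LD1_c3 LD2_c3 LD3_c23)) = (LP (LK LD1_c2 LD2_c54 LD3_c23)) :=
  Lgr Lrot144 (Lpr_dt (f99526 IH) (Lpr_gt (f158656 IH) (Lpr_dt (f104817 IH) (Lpe (f59420 IH) (Lpe (f137402 IH) (Lpe (f157870 IH) (Lpe (f148988 IH) (Lpr_gf (K7.f148986 IH) (Lpe (f148989 IH) (Lpn (LP (LK LD1_c2 LD2_c54 LD3_c23))))))))))))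
theorem f148968 : Led Lsl_bt (LP (LK LD1_c4 LD2_c25 LD3_c40)) = (LP (LK LD1_c2 LD2_c10 LD3_c11)) :=
  Lre_b IH (LK LD1_c4 LD2_c25 LD3_c40) (LK LD1_c2 LD2_c10 LD3_c11) Lrfl Lrfl
theorem f149664 : Led Lsl_bt (LP (LK LD1_c1 LD2_c23 LD3_c11)) = (LP (LK LD1_c2 LD2_c54 LD3_c23)) :=
  Lre_b IH (LK LD1_c1 LD2_c23 LD3_c11) (LK LD1_c2 LD2_c54 LD3_c23) Lrfl Lrfl
theorem f158666 : Led Lsl_ct (LP (LK LD1_c4 LD2_c25 LD3_c40)) = (LP (LK LD1_c2 LD2_c27 LD3_c5)) :=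
  Lgr Lrot64 (Lpr_bt (f148968 IH) (Lpe (K7.f148947 IH) (Lpr_bf (K7.f37865 IH) (Lpr_ct (K4.f40090 IH) (Lpr_gf (K4.f99581 IH) (Lpe (K6.f72251 IH) (Lpr_gf (f158660 IH) (Lpe (f149664 IH) (Lpr_ct (K6.f112861 IH) (Lpe (K6.f24076 IH) (Lpn (LP (LK LD1_c2 LD2_c27 LD3_c5)))))))))))))
theorem f100429 : Led Lsl_ft (LP (LK LD1_c1 LD2_c2 LD3_c13)) = (LP (LK LD1_c2 LD2_c10 LD3_c10)) :=
  Lre_f IH (LK LD1_c1 LD2_c2 LD3_c13) (LK LD1_c2 LD2_c10 LD3_c10) Lrfl Lrfl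
theorem f101646 : Led Lsl_at (LP (LK LD1_c2 LD2_c10 LD3_c10)) = (LP (LK LD1_c1 LD2_c2 LD3_c15)) :=
  Lre_a IH (LK LD1_c2 LD2_c10 LD3_c10) (LK LD1_c1 LD2_c2 LD3_c15) Lrfl Lrfl
theorem f148958 : Led Lsl_gf (LP (LK LD1_c1 LD2_c2 LD3_c15)) = (LP (LK LD1_c2 LD2_c10 LD3_c11)) :=
  Lgr Lrot76 (Lpe (f101646 IH) (Lpe (f100429 IH) (Lpr_gt (K7.f148947 IH) (Lpn (LP (LK LD1_c2 LD2_c10 LD3_c11))))))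
theorem f141319 : Led Lsl_ft (LP (LK LD1_c1 LD2_c4 LD3_c50)) = (LP (LK LD1_c0 LD2_c29 LD3_c40)) :=
  Lre_f IH (LK LD1_c1 LD2_c4 LD3_c50) (LK LD1_c0 LD2_c29 LD3_c40) Lrfl Lrfl
theorem f141320 : Led Lsl_at (LP (LK LD1_c0 LD2_c29 LD3_c40)) = (LP (LK LD1_c1 LD2_c4 LD3_c55)) :=
  Lre_a IH (LK LD1_c0 LD2_c29 LD3_c40) (LK LD1_c1 LD2_c4 LD3_c55) Lrfl Lrfl
theorem f142138 : Led Lsl_gf (LP (LK LD1_c1 LD2_c4 LD3_c55)) = (LP (LK LD1_c0 LD2_c29 LD3_c43)) :=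
  Lgr Lrot76 (Lpe (f141320 IH) (Lpe (f141319 IH) (Lpr_gt (K6.f142118 IH) (Lpn (LP (LK LD1_c0 LD2_c29 LD3_c43))))))
theorem f142238 : Led Lsl_bt (LP (LK LD1_c2 LD2_c15 LD3_c44)) = (LP (LK LD1_c4 LD2_c36 LD3_c57)) :=
  Lre_b IH (LK LD1_c2 LD2_c15 LD3_c44) (LK LD1_c4 LD2_c36 LD3_c57) Lrfl Lrfl
theorem f158676 : Led Lsl_gt (LP (LK LD1_c4 LD2_c36 LD3_c57)) = (LP (LK LD1_c2 LD2_c54 LD3_c20)) :=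
  Lgr Lrot164 (Lpe (f142238 IH) (Lpr_ct (K7.f141305 IH) (Lpr_gf (f142138 IH) (Lpe (K6.f35546 IH) (Lpr_gf (f148958 IH) (Lpe (f148968 IH) (Lpr_ct (f158666 IH) (Lpe (K6.f119668 IH) (Lpe (K6.f81822 IH) (Lpr_bt (K6.f81828 IH) (Lpn (LP (LK LD1_c2 LD2_c54 LD3_c20)))))))))))))
theorem f142240 : Led Lsl_dt (LP (LK LD1_c4 LD2_c36 LD3_c57)) = (LP (LK LD1_c9 LD2_c9 LD3_c41)) :=
  Lre_d IH (LK LD1_c4 LD2_c36 LD3_c57) (LK LD1_c9 LD2_c9 LD3_c41) Lrfl Lrfl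
theorem f37078 : Led Lsl_dt (LP (LK LD1_c3 LD2_c57 LD3_c48)) = (LP (LK LD1_c1 LD2_c55 LD3_c39)) :=
  Lre_d IH (LK LD1_c3 LD2_c57 LD3_c48) (LK LD1_c1 LD2_c55 LD3_c39) Lrfl Lrfl
theorem f158682 : Led Lsl_gt (LP (LK LD1_c9 LD2_c9 LD3_c41)) = (LP (LK LD1_c5 LD2_c56 LD3_c7)) :=
  Lgr Lrot9 (Lpe (f142240 IH) (Lpr_gt (f158676 IH) (Lpe (K6.f81825 IH) (Lpr_gt (K6.f35578 IH) (Lpr_ct (K5.f37038 IH) (Lpe (f37078 IH) (Lpr_cf (K4.f81778 IH) (Lpr_gf (K5.f112628 IH) (Lpe (K5.f81787 IH) (Lpn (LP (LK LD1_c5 LD2_c56 LD3_c7))))))))))))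
theorem f142172 : Led Lsl_bt (LP (LK LD1_c4 LD2_c37 LD3_c0)) = (LP (LK LD1_c9 LD2_c9 LD3_c41)) :=
  Lre_b IH (LK LD1_c4 LD2_c37 LD3_c0) (LK LD1_c9 LD2_c9 LD3_c41) Lrfl Lrfl
theorem f35659 : Led Lsl_bt (LP (LK LD1_c2 LD2_c16 LD3_c50)) = (LP (LK LD1_c1 LD2_c5 LD3_c21)) :=
  Lre_b IH (LK LD1_c2 LD2_c16 LD3_c50) (LK LD1_c1 LD2_c5 LD3_c21) Lrfl Lrfl
theorem f35660 : Led Lsl_ct (LP (LK LD1_c2 LD2_c16 LD3_c50)) = (LP (LK LD1_c4 LD2_c39 LD3_c36)) :=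
  Lre_c IH (LK LD1_c2 LD2_c16 LD3_c50) (LK LD1_c4 LD2_c39 LD3_c36) Lrfl Lrfl
theorem f158690 : Led Lsl_gf (LP (LK LD1_c9 LD2_c9 LD3_c47)) = (LP (LK LD1_c4 LD2_c39 LD3_c36)) :=
  Lgr Lrot126 (Lpe (K6.f141245 IH) (Lpr_bt (f142172 IH) (Lpr_gt (f158682 IH) (Lpr_ct (K5.f81787 IH) (Lpe (K5.f112628 IH) (Lpr_cf (K5.f112636 IH) (Lpr_bt (K4.f35658 IH) (Lpe (K1.f35592 IH) (Lpe (f35659 IH) (Lpr_ct (f35660 IH) (Lpn (LP (LK LD1_c4 LD2_c39 LD3_c36)))))))))))))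
theorem f60347 : Led Lsl_ft (LP (LK LD1_c4 LD2_c39 LD3_c36)) = (LP (LK LD1_c5 LD2_c46 LD3_c26)) :=
  Lgr Lrot48 (Lpr_ff (K5.f60344 IH) (Lpn (LP (LK LD1_c5 LD2_c46 LD3_c26))))
theorem f60349 : Led Lsl_at (LP (LK LD1_c5 LD2_c46 LD3_c26)) = (LP (LK LD1_c11 LD2_c23 LD3_c2)) :=
  Lre_a IH (LK LD1_c5 LD2_c46 LD3_c26) (LK LD1_c11 LD2_c23 LD3_c2) Lrfl Lrfl
theorem f158694 : Led Lsl_gt (LP (LK LD1_c9 LD2_c9 LD3_c47)) = (LP (LK LD1_c11 LD2_c23 LD3_c2)) :=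
  Lgr Lrot46 (Lpr_gf (f158690 IH) (Lpr_ft (f60347 IH) (Lpr_at (f60349 IH) (Lpn (LP (LK LD1_c11 LD2_c23 LD3_c2))))))
theorem f60672 : Led Lsl_ct (LP (LK LD1_c11 LD2_c23 LD3_c2)) = (LP (LK LD1_c5 LD2_c46 LD3_c24)) :=
  Lre_c IH (LK LD1_c11 LD2_c23 LD3_c2) (LK LD1_c5 LD2_c46 LD3_c24) Lrfl Lrfl
theorem f148972 : Led Lsl_dt (LP (LK LD1_c4 LD2_c25 LD3_c41)) = (LP (LK LD1_c2 LD2_c10 LD3_c11)) :=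
  Lre_d IH (LK LD1_c4 LD2_c25 LD3_c41) (LK LD1_c2 LD2_c10 LD3_c11) Lrfl Lrfl
theorem f60358 : Led Lsl_dt (LP (LK LD1_c2 LD2_c48 LD3_c57)) = (LP (LK LD1_c5 LD2_c46 LD3_c24)) :=
  Lre_d IH (LK LD1_c2 LD2_c48 LD3_c57) (LK LD1_c5 LD2_c46 LD3_c24) Lrfl Lrfl
theorem f157018 : Led Lsl_gf (LP (LK LD1_c4 LD2_c25 LD3_c41)) = (LP (LK LD1_c5 LD2_c46 LD3_c24)) :=
  Lgr Lrot143 (Lpr_dt (f148972 IH) (Lpr_cf (K7.f138904 IH) (Lpe (K6.f138921 IH) (Lpe (f138970 IH) (Lpr_df (f157006 IH) (Lpe (f142081 IH) (Lpr_cf (f142076 IH) (Lpe (f142087 IH) (Lpr_dt (f60358 IH) (Lpn (LP (LK LD1_c5 LD2_c46 LD3_c24))))))))))))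
theorem f148962 : Led Lsl_ct (LP (LK LD1_c4 LD2_c25 LD3_c41)) = (LP (LK LD1_c8 LD2_c48 LD3_c54)) :=
  Lre_c IH (LK LD1_c4 LD2_c25 LD3_c41) (LK LD1_c8 LD2_c48 LD3_c54) Lrfl Lrfl
theorem f158707 : Led Lsl_dt (LP (LK LD1_c6 LD2_c39 LD3_c12)) = (LP (LK LD1_c8 LD2_c48 LD3_c54)) :=
  Lgr Lrot27 (Lpe (K7.f149882 IH) (Lpe (K7.f56859 IH) (Lpe (K6.f114922 IH) (Lpr_gf (K6.f141322 IH) (Lpr_df (K6.f141182 IH) (Lpr_gt (f158694 IH) (Lpr_ct (f60672 IH) (Lpe (f157018 IH) (Lpr_ct (f148962 IH) (Lpn (LP (LK LD1_c8 LD2_c48 LD3_c54))))))))))))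
theorem f99782 : Led Lsl_ct (LP (LK LD1_c9 LD2_c9 LD3_c43)) = (LP (LK LD1_c4 LD2_c36 LD3_c58)) :=
  Lre_c IH (LK LD1_c9 LD2_c9 LD3_c43) (LK LD1_c4 LD2_c36 LD3_c58) Lrfl Lrfl
theorem f158715 : Led Lsl_gf (LP (LK LD1_c9 LD2_c9 LD3_c43)) = (LP (LK LD1_c8 LD2_c48 LD3_c54)) :=
  Lgr Lrot179 (Lpr_ct (f99782 IH) (Lpr_gt (K6.f100227 IH) (Lpr_ct (K6.f72270 IH) (Lpe (f139773 IH) (Lpr_cf (K6.f141189 IH) (Lpe (K7.f141197 IH) (Lpe (K7.f149884 IH) (Lpe (K7.f149883 IH) (Lpr_dt (f158707 IH) (Lpn (LP (LK LD1_c8 LD2_c48 LD3_c54))))))))))))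
theorem f157229 : Led Lsl_ff (LP (LK LD1_c9 LD2_c9 LD3_c43)) = (LP (LK LD1_c8 LD2_c49 LD3_c8)) :=
  Lgr Lrot23 (Lpr_ct (f99782 IH) (Lpe (f138096 IH) (Lpr_ct (f157220 IH) (Lpn (LP (LK LD1_c8 LD2_c49 LD3_c8))))))
theorem f99915 : Led Lsl_gt (LP (LK LD1_c4 LD2_c25 LD3_c52)) = (LP (LK LD1_c8 LD2_c49 LD3_c7)) :=
  Lre_g IH (LK LD1_c4 LD2_c25 LD3_c52) (LK LD1_c8 LD2_c49 LD3_c7) Lrfl Lrfl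
theorem f157234 : Led Lsl_at (LP (LK LD1_c9 LD2_c9 LD3_c43)) = (LP (LK LD1_c8 LD2_c49 LD3_c7)) :=
  Lgr Lrot26 (Lpr_ff (f157229 IH) (Lpr_gt (f99817 IH) (Lpr_gt (f99915 IH) (Lpn (LP (LK LD1_c8 LD2_c49 LD3_c7))))))
theorem f157236 : Led Lsl_af (LP (LK LD1_c9 LD2_c9 LD3_c43)) = (LP (LK LD1_c8 LD2_c49 LD3_c7)) :=
  Lgr Lrot0 (Lpr_at (f157234 IH) (Lpn (LP (LK LD1_c8 LD2_c49 LD3_c7))))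
theorem f157232 : Led Lsl_ft (LP (LK LD1_c9 LD2_c9 LD3_c43)) = (LP (LK LD1_c8 LD2_c49 LD3_c8)) :=
  Lgr Lrot48 (Lpr_ff (f157229 IH) (Lpn (LP (LK LD1_c8 LD2_c49 LD3_c8))))
theorem f132572 : Led Lsl_af (LP (LK LD1_c6 LD2_c15 LD3_c38)) = (LP (LK LD1_c4 LD2_c36 LD3_c59)) :=
  Lgr Lrot117 (Lpr_dt (f132501 IH) (Lpr_at (K5.f132570 IH) (Lpr_dt (K5.f119039 IH) (Lpn (LP (LK LD1_c4 LD2_c36 LD3_c59))))))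
theorem f100236 : Led Lsl_ct (LP (LK LD1_c9 LD2_c9 LD3_c45)) = (LP (LK LD1_c4 LD2_c36 LD3_c59)) :=
  Lre_c IH (LK LD1_c9 LD2_c9 LD3_c45) (LK LD1_c4 LD2_c36 LD3_c59) Lrfl Lrfl
theorem f157225 : Led Lsl_af (LP (LK LD1_c9 LD2_c9 LD3_c45)) = (LP (LK LD1_c8 LD2_c49 LD3_c8)) :=
  Lgr Lrot68 (Lpr_ct (f100236 IH) (Lpe (f132572 IH) (Lpr_ct (f157220 IH) (Lpn (LP (LK LD1_c8 LD2_c49 LD3_c8))))))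
theorem f157249 : Led Lsl_ft (LP (LK LD1_c9 LD2_c9 LD3_c45)) = (LP (LK LD1_c8 LD2_c49 LD3_c7)) :=
  Lgr Lrot101 (Lpr_af (f157225 IH) (Lpe (f157232 IH) (Lpr_af (f157236 IH) (Lpn (LP (LK LD1_c8 LD2_c49 LD3_c7))))))
theorem f158717 : Led Lsl_gt (LP (LK LD1_c9 LD2_c9 LD3_c45)) = (LP (LK LD1_c8 LD2_c48 LD3_c54)) :=
  Lgr Lrot5 (Lpr_ft (f157249 IH) (Lpe (f157236 IH) (Lpr_gf (f158715 IH) (Lpn (LP (LK LD1_c8 LD2_c48 LD3_c54))))))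
theorem f99815 : Led Lsl_ct (LP (LK LD1_c4 LD2_c36 LD3_c59)) = (LP (LK LD1_c9 LD2_c9 LD3_c45)) :=
  Lre_c IH (LK LD1_c4 LD2_c36 LD3_c59) (LK LD1_c9 LD2_c9 LD3_c45) Lrfl Lrfl
theorem f119011 : Led Lsl_bf (LP (LK LD1_c4 LD2_c24 LD3_c15)) = (LP (LK LD1_c4 LD2_c36 LD3_c59)) :=
  Lgr Lrot24 (Lpr_bt (K5.f119008 IH) (Lpn (LP (LK LD1_c4 LD2_c36 LD3_c59))))
theorem f26453 : Led Lsl_dt (LP (LK LD1_c5 LD2_c59 LD3_c49)) = (LP (LK LD1_c2 LD2_c56 LD3_c13)) :=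
  Lre_d IH (LK LD1_c5 LD2_c59 LD3_c49) (LK LD1_c2 LD2_c56 LD3_c13) Lrfl Lrfl
theorem f70500 : Led Lsl_dt (LP (LK LD1_c1 LD2_c1 LD3_c55)) = (LP (LK LD1_c2 LD2_c9 LD3_c37)) :=
  Lre_d IH (LK LD1_c1 LD2_c1 LD3_c55) (LK LD1_c2 LD2_c9 LD3_c37) Lrfl Lrfl
theorem f75581 : Led Lsl_dt (LP (LK LD1_c4 LD2_c24 LD3_c15)) = (LP (LK LD1_c2 LD2_c9 LD3_c35)) :=
  Lre_d IH (LK LD1_c4 LD2_c24 LD3_c15) (LK LD1_c2 LD2_c9 LD3_c35) Lrfl Lrfl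
theorem f112900 : Led Lsl_gt (LP (LK LD1_c4 LD2_c24 LD3_c44)) = (LP (LK LD1_c4 LD2_c24 LD3_c15)) :=
  Lgr Lrot94 (Lpe (K2.f35962 IH) (Lpr_gt (K6.f112410 IH) (Lpr_dt (f26453 IH) (Lpr_gt (K4.f26428 IH) (Lpr_dt (K6.f75538 IH) (Lpe (K6.f70461 IH) (Lpe (f70500 IH) (Lpe (K5.f59360 IH) (Lpe (f75581 IH) (Lpn (LP (LK LD1_c4 LD2_c24 LD3_c15))))))))))))
theorem f71895 : Led Lsl_bt (LP (LK LD1_c11 LD2_c36 LD3_c44)) = (LP (LK LD1_c5 LD2_c55 LD3_c47)) :=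
  Lre_b IH (LK LD1_c11 LD2_c36 LD3_c44) (LK LD1_c5 LD2_c55 LD3_c47) Lrfl Lrfl
theorem f81677 : Led Lsl_bf (LP (LK LD1_c4 LD2_c24 LD3_c44)) = (LP (LK LD1_c2 LD2_c54 LD3_c15)) :=
  Lgr Lrot90 (Lpr_ct (K2.f35960 IH) (Lpr_bt (K7.f36052 IH) (Lpr_ct (K2.f81673 IH) (Lpr_bt (f71895 IH) (Lpr_ct (K4.f71883 IH) (Lpn (LP (LK LD1_c2 LD2_c54 LD3_c15))))))))
theorem f116805 : Led Lsl_ct (LP (LK LD1_c3 LD2_c10 LD3_c12)) = (LP (LK LD1_c6 LD2_c25 LD3_c5)) :=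
  Lre_c IH (LK LD1_c3 LD2_c10 LD3_c12) (LK LD1_c6 LD2_c25 LD3_c5) Lrfl Lrfl
theorem f112487 : Led Lsl_gt (LP (LK LD1_c6 LD2_c25 LD3_c4)) = (LP (LK LD1_c3 LD2_c10 LD3_c12)) :=
  Lre_g IH (LK LD1_c6 LD2_c25 LD3_c4) (LK LD1_c3 LD2_c10 LD3_c12) Lrfl Lrfl
theorem f158719 : Led Lsl_bf (LP (LK LD1_c6 LD2_c25 LD3_c4)) = (LP (LK LD1_c4 LD2_c25 LD3_c41)) :=
  Lgr Lrot165 (Lpr_gt (f112487 IH) (Lpr_ct (f116805 IH) (Lpr_gt (K4.f117676 IH) (Lpe (K2.f71898 IH) (Lpe (f81677 IH) (Lpr_gt (f112900 IH) (Lpr_bf (f119011 IH) (Lpr_ct (f99815 IH) (Lpr_gt (f158717 IH) (Lpe (f148962 IH) (Lpn (LP (LK LD1_c4 LD2_c25 LD3_c41)))))))))))))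
theorem f99741 : Led Lsl_bt (LP (LK LD1_c4 LD2_c25 LD3_c59)) = (LP (LK LD1_c2 LD2_c10 LD3_c19)) :=
  Lre_b IH (LK LD1_c4 LD2_c25 LD3_c59) (LK LD1_c2 LD2_c10 LD3_c19) Lrfl Lrfl
theorem f158729 : Led Lsl_ft (LP (LK LD1_c6 LD2_c25 LD3_c4)) = (LP (LK LD1_c4 LD2_c25 LD3_c59)) :=
  Lgr Lrot75 (Lpr_bf (f158719 IH) (Lpe (K6.f99731 IH) (Lpe (f99741 IH) (Lpn (LP (LK LD1_c4 LD2_c25 LD3_c59))))))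
theorem f112468 : Led Lsl_dt (LP (LK LD1_c4 LD2_c25 LD3_c59)) = (LP (LK LD1_c2 LD2_c10 LD3_c17)) :=
  Lre_d IH (LK LD1_c4 LD2_c25 LD3_c59) (LK LD1_c2 LD2_c10 LD3_c17) Lrfl Lrfl
theorem f118898 : Led Lsl_ft (LP (LK LD1_c2 LD2_c10 LD3_c17)) = (LP (LK LD1_c4 LD2_c25 LD3_c40)) :=
  Lre_f IH (LK LD1_c2 LD2_c10 LD3_c17) (LK LD1_c4 LD2_c25 LD3_c40) Lrfl Lrfl
theorem f158731 : Led Lsl_df (LP (LK LD1_c6 LD2_c25 LD3_c4)) = (LP (LK LD1_c4 LD2_c25 LD3_c40)) :=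
  Lgr Lrot78 (Lpr_ft (f158729 IH) (Lpr_dt (f112468 IH) (Lpr_ft (f118898 IH) (Lpn (LP (LK LD1_c4 LD2_c25 LD3_c40))))))
theorem f158671 : Led Lsl_cf (LP (LK LD1_c4 LD2_c25 LD3_c40)) = (LP (LK LD1_c2 LD2_c27 LD3_c5)) :=
  Lgr Lrot11 (Lpr_ct (f158666 IH) (Lpn (LP (LK LD1_c2 LD2_c27 LD3_c5))))
theorem f158821 : Led Lsl_cf (LP (LK LD1_c6 LD2_c25 LD3_c4)) = (LP (LK LD1_c11 LD2_c37 LD3_c30)) :=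
  Lgr Lrot99 (Lpr_df (f158731 IH) (Lpr_cf (f158671 IH) (Lpe (K6.f119668 IH) (Lpe (K6.f81822 IH) (Lpe (K6.f81817 IH) (Lpe (K2.f69452 IH) (Lpr_gt (K4.f81782 IH) (Lpr_ct (K4.f81788 IH) (Lpr_gt (K7.f81789 IH) (Lpn (LP (LK LD1_c11 LD2_c37 LD3_c30))))))))))))
theorem f148960 : Led Lsl_dt (LP (LK LD1_c2 LD2_c10 LD3_c11)) = (LP (LK LD1_c4 LD2_c25 LD3_c41)) :=
  Lre_d IH (LK LD1_c2 LD2_c10 LD3_c11) (LK LD1_c4 LD2_c25 LD3_c41) Lrfl Lrfl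
theorem f158724 : Led Lsl_dt (LP (LK LD1_c6 LD2_c25 LD3_c4)) = (LP (LK LD1_c4 LD2_c25 LD3_c40)) :=
  Lgr Lrot79 (Lpr_bf (f158719 IH) (Lpe (f148960 IH) (Lpe (f148968 IH) (Lpn (LP (LK LD1_c4 LD2_c25 LD3_c40))))))
theorem f139285 : Led Lsl_af (LP (LK LD1_c2 LD2_c27 LD3_c5)) = (LP (LK LD1_c3 LD2_c3 LD3_c25)) :=
  Lgr Lrot117 (Lpr_dt (K6.f24080 IH) (Lpr_at (f139281 IH) (Lpe (f137977 IH) (Lpn (LP (LK LD1_c3 LD2_c3 LD3_c25))))))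
theorem f112572 : Led Lsl_bt (LP (LK LD1_c0 LD2_c55 LD3_c0)) = (LP (LK LD1_c1 LD2_c56 LD3_c26)) :=
  Lre_b IH (LK LD1_c0 LD2_c55 LD3_c0) (LK LD1_c1 LD2_c56 LD3_c26) Lrfl Lrfl
theorem f158408 : Led Lsl_ff (LP (LK LD1_c3 LD2_c3 LD3_c25)) = (LP (LK LD1_c1 LD2_c56 LD3_c26)) :=
  Lgr Lrot25 (Lpr_bt (K6.f59539 IH) (Lpr_ft (f158406 IH) (Lpr_bt (f112572 IH) (Lpn (LP (LK LD1_c1 LD2_c56 LD3_c26))))))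
theorem f76674 : Led Lsl_bt (LP (LK LD1_c6 LD2_c18 LD3_c23)) = (LP (LK LD1_c3 LD2_c6 LD3_c27)) :=
  Lre_b IH (LK LD1_c6 LD2_c18 LD3_c23) (LK LD1_c3 LD2_c6 LD3_c27) Lrfl Lrfl
theorem f111001 : Led Lsl_bt (LP (LK LD1_c3 LD2_c6 LD3_c27)) = (LP (LK LD1_c6 LD2_c18 LD3_c23)) :=
  Lre_b IH (LK LD1_c3 LD2_c6 LD3_c27) (LK LD1_c6 LD2_c18 LD3_c23) Lrfl Lrfl
theorem f128892 : Led Lsl_bt (LP (LK LD1_c6 LD2_c28 LD3_c20)) = (LP (LK LD1_c3 LD2_c12 LD3_c7)) :=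
  Lre_b IH (LK LD1_c6 LD2_c28 LD3_c20) (LK LD1_c3 LD2_c12 LD3_c7) Lrfl Lrfl
theorem f129620 : Led Lsl_ct (LP (LK LD1_c6 LD2_c18 LD3_c23)) = (LP (LK LD1_c6 LD2_c28 LD3_c20)) :=
  Lgr Lrot83 (Lpe (f111001 IH) (Lpe (K3.f110999 IH) (Lpr_bf (K5.f129614 IH) (Lpe (K5.f128902 IH) (Lpe (f128892 IH) (Lpn (LP (LK LD1_c6 LD2_c28 LD3_c20))))))))
theorem f83023 : Led Lsl_bf (LP (LK LD1_c1 LD2_c7 LD3_c8)) = (LP (LK LD1_c2 LD2_c14 LD3_c55)) :=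
  Lgr Lrot61 (Lpr_ft (K4.f82342 IH) (Lpe (K4.f82998 IH) (Lpr_ft (K4.f83013 IH) (Lpn (LP (LK LD1_c2 LD2_c14 LD3_c55))))))
theorem f35339 : Led Lsl_at (LP (LK LD1_c4 LD2_c35 LD3_c21)) = (LP (LK LD1_c2 LD2_c14 LD3_c55)) :=
  Lre_a IH (LK LD1_c4 LD2_c35 LD3_c21) (LK LD1_c2 LD2_c14 LD3_c55) Lrfl Lrfl
theorem f35255 : Led Lsl_ct (LP (LK LD1_c4 LD2_c35 LD3_c21)) = (LP (LK LD1_c2 LD2_c14 LD3_c53)) :=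
  Lre_c IH (LK LD1_c4 LD2_c35 LD3_c21) (LK LD1_c2 LD2_c14 LD3_c53) Lrfl Lrfl
theorem f71843 : Led Lsl_ft (LP (LK LD1_c2 LD2_c54 LD3_c17)) = (LP (LK LD1_c4 LD2_c35 LD3_c21)) :=
  Lgr Lrot4 (Lpe (K6.f71842 IH) (Lpr_ff (K2.f71836 IH) (Lpe (f35255 IH) (Lpn (LP (LK LD1_c4 LD2_c35 LD3_c21))))))
theorem f116779 : Led Lsl_gf (LP (LK LD1_c3 LD2_c16 LD3_c44)) = (LP (LK LD1_c2 LD2_c54 LD3_c17)) :=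
  Lgr Lrot47 (Lpr_gt (K4.f116776 IH) (Lpe (f35339 IH) (Lpe (f71843 IH) (Lpn (LP (LK LD1_c2 LD2_c54 LD3_c17))))))
theorem f59715 : Led Lsl_gt (LP (LK LD1_c0 LD2_c42 LD3_c7)) = (LP (LK LD1_c0 LD2_c18 LD3_c49)) :=
  Lre_g IH (LK LD1_c0 LD2_c42 LD3_c7) (LK LD1_c0 LD2_c18 LD3_c49) Lrfl Lrfl
theorem f69216 : Led Lsl_dt (LP (LK LD1_c1 LD2_c31 LD3_c19)) = (LP (LK LD1_c0 LD2_c42 LD3_c7)) :=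
  Lre_d IH (LK LD1_c1 LD2_c31 LD3_c19) (LK LD1_c0 LD2_c42 LD3_c7) Lrfl Lrfl
theorem f116975 : Led Lsl_gf (LP (LK LD1_c1 LD2_c31 LD3_c19)) = (LP (LK LD1_c1 LD2_c23 LD3_c8)) :=
  Lgr Lrot144 (Lpr_dt (f69216 IH) (Lpr_gt (f59715 IH) (Lpe (K6.f69199 IH) (Lpe (K4.f56779 IH) (Lpe (K4.f64481 IH) (Lpr_gf (K4.f64482 IH) (Lpe (K4.f64540 IH) (Lpr_gf (f116779 IH) (Lpe (K6.f71842 IH) (Lpn (LP (LK LD1_c1 LD2_c23 LD3_c8))))))))))))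
theorem f71854 : Led Lsl_ft (LP (LK LD1_c1 LD2_c23 LD3_c8)) = (LP (LK LD1_c2 LD2_c14 LD3_c53)) :=
  Lgr Lrot48 (Lpr_ff (K2.f71836 IH) (Lpn (LP (LK LD1_c2 LD2_c14 LD3_c53))))
theorem f71829 : Led Lsl_at (LP (LK LD1_c2 LD2_c14 LD3_c53)) = (LP (LK LD1_c1 LD2_c4 LD3_c35)) :=
  Lre_a IH (LK LD1_c2 LD2_c14 LD3_c53) (LK LD1_c1 LD2_c4 LD3_c35) Lrfl Lrfl
theorem f116978 : Led Lsl_gt (LP (LK LD1_c1 LD2_c31 LD3_c19)) = (LP (LK LD1_c1 LD2_c4 LD3_c35)) :=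
  Lgr Lrot46 (Lpr_gf (f116975 IH) (Lpr_ft (f71854 IH) (Lpr_at (f71829 IH) (Lpn (LP (LK LD1_c1 LD2_c4 LD3_c35))))))
theorem f116984 : Led Lsl_ct (LP (LK LD1_c3 LD2_c10 LD3_c17)) = (LP (LK LD1_c1 LD2_c31 LD3_c19)) :=
  Lre_c IH (LK LD1_c3 LD2_c10 LD3_c17) (LK LD1_c1 LD2_c31 LD3_c19) Lrfl Lrfl
theorem f116985 : Led Lsl_bt (LP (LK LD1_c3 LD2_c10 LD3_c17)) = (LP (LK LD1_c6 LD2_c25 LD3_c15)) :=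
  Lre_b IH (LK LD1_c3 LD2_c10 LD3_c17) (LK LD1_c6 LD2_c25 LD3_c15) Lrfl Lrfl
theorem f128901 : Led Lsl_bt (LP (LK LD1_c3 LD2_c12 LD3_c7)) = (LP (LK LD1_c6 LD2_c28 LD3_c20)) :=
  Lre_b IH (LK LD1_c3 LD2_c12 LD3_c7) (LK LD1_c6 LD2_c28 LD3_c20) Lrfl Lrfl
theorem f128927 : Led Lsl_gf (LP (LK LD1_c6 LD2_c25 LD3_c15)) = (LP (LK LD1_c6 LD2_c28 LD3_c20)) :=
  Lgr Lrot124 (Lpe (f116985 IH) (Lpr_ct (f116984 IH) (Lpr_gt (f116978 IH) (Lpe (K2.f27166 IH) (Lpe (f83023 IH) (Lpr_gt (K5.f82354 IH) (Lpr_ct (K5.f128917 IH) (Lpr_gt (K5.f115552 IH) (Lpe (K5.f128902 IH) (Lpr_bt (f128901 IH) (Lpn (LP (LK LD1_c6 LD2_c28 LD3_c20)))))))))))))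
theorem f150283 : Led Lsl_bt (LP (LK LD1_c11 LD2_c40 LD3_c34)) = (LP (LK LD1_c5 LD2_c57 LD3_c55)) :=
  Lre_b IH (LK LD1_c11 LD2_c40 LD3_c34) (LK LD1_c5 LD2_c57 LD3_c55) Lrfl Lrfl
theorem f150284 : Led Lsl_cf (LP (LK LD1_c6 LD2_c25 LD3_c15)) = (LP (LK LD1_c11 LD2_c40 LD3_c34)) :=
  Lgr Lrot58 (Lpr_gf (f128927 IH) (Lpe (f129620 IH) (Lpr_bt (f76674 IH) (Lpe (K3.f61783 IH) (Lpe (K6.f76663 IH) (Lpr_ct (K2.f61805 IH) (Lpr_gf (f139065 IH) (Lpe (f139177 IH) (Lpr_gf (f150271 IH) (Lpe (f150283 IH) (Lpn (LP (LK LD1_c11 LD2_c40 LD3_c34)))))))))))))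
theorem f150287 : Led Lsl_bt (LP (LK LD1_c6 LD2_c25 LD3_c15)) = (LP (LK LD1_c3 LD2_c10 LD3_c17)) :=
  Lre_b IH (LK LD1_c6 LD2_c25 LD3_c15) (LK LD1_c3 LD2_c10 LD3_c17) Lrfl Lrfl
theorem f150288 : Led Lsl_bt (LP (LK LD1_c5 LD2_c57 LD3_c55)) = (LP (LK LD1_c11 LD2_c40 LD3_c34)) :=
  Lre_b IH (LK LD1_c5 LD2_c57 LD3_c55) (LK LD1_c11 LD2_c40 LD3_c34) Lrfl Lrfl
theorem f150273 : Led Lsl_ct (LP (LK LD1_c2 LD2_c55 LD3_c19)) = (LP (LK LD1_c5 LD2_c57 LD3_c55)) :=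
  Lre_c IH (LK LD1_c2 LD2_c55 LD3_c19) (LK LD1_c5 LD2_c57 LD3_c55) Lrfl Lrfl
theorem f150289 : Led Lsl_bt (LP (LK LD1_c1 LD2_c31 LD3_c19)) = (LP (LK LD1_c2 LD2_c55 LD3_c19)) :=
  Lgr Lrot128 (Lpe (f116984 IH) (Lpe (f150287 IH) (Lpr_cf (f150284 IH) (Lpe (f150288 IH) (Lpe (f150273 IH) (Lpn (LP (LK LD1_c2 LD2_c55 LD3_c19))))))))
theorem f116981 : Led Lsl_ct (LP (LK LD1_c1 LD2_c31 LD3_c19)) = (LP (LK LD1_c3 LD2_c10 LD3_c17)) :=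
  Lre_c IH (LK LD1_c1 LD2_c31 LD3_c19) (LK LD1_c3 LD2_c10 LD3_c17) Lrfl Lrfl
theorem f150344 : Led Lsl_gf (LP (LK LD1_c3 LD2_c10 LD3_c17)) = (LP (LK LD1_c6 LD2_c25 LD3_c7)) :=
  Lgr Lrot126 (Lpe (f116981 IH) (Lpr_bt (f150289 IH) (Lpr_gt (f72555 IH) (Lpr_ct (f72475 IH) (Lpe (K2.f74502 IH) (Lpe (K4.f74188 IH) (Lpe (f74186 IH) (Lpe (f112522 IH) (Lpe (K5.f112493 IH) (Lpr_ct (K5.f112497 IH) (Lpn (LP (LK LD1_c6 LD2_c25 LD3_c7)))))))))))))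
theorem f116982 : Led Lsl_dt (LP (LK LD1_c3 LD2_c10 LD3_c17)) = (LP (LK LD1_c6 LD2_c25 LD3_c16)) :=
  Lre_d IH (LK LD1_c3 LD2_c10 LD3_c17) (LK LD1_c6 LD2_c25 LD3_c16) Lrfl Lrfl
theorem f35337 : Led Lsl_dt (LP (LK LD1_c2 LD2_c14 LD3_c55)) = (LP (LK LD1_c4 LD2_c35 LD3_c27)) :=
  Lre_d IH (LK LD1_c2 LD2_c14 LD3_c55) (LK LD1_c4 LD2_c35 LD3_c27) Lrfl Lrfl
theorem f117679 : Led Lsl_gf (LP (LK LD1_c11 LD2_c49 LD3_c0)) = (LP (LK LD1_c6 LD2_c24 LD3_c39)) :=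
  Lgr Lrot144 (Lpr_dt (K4.f116795 IH) (Lpr_gt (K4.f117676 IH) (Lpr_dt (K2.f71902 IH) (Lpe (K6.f35338 IH) (Lpe (f35337 IH) (Lpe (K4.f116776 IH) (Lpe (K4.f64544 IH) (Lpe (K7.f64535 IH) (Lpe (K7.f79093 IH) (Lpn (LP (LK LD1_c6 LD2_c24 LD3_c39))))))))))))
theorem f117716 : Led Lsl_cf (LP (LK LD1_c6 LD2_c25 LD3_c16)) = (LP (LK LD1_c11 LD2_c49 LD3_c0)) :=
  Lgr Lrot99 (Lpe (f116982 IH) (Lpe (f116981 IH) (Lpr_gf (f116975 IH) (Lpe (K6.f71912 IH) (Lpr_gf (K6.f83015 IH) (Lpe (K4.f117686 IH) (Lpr_gt (K7.f117714 IH) (Lpe (K7.f79203 IH) (Lpe (f117679 IH) (Lpn (LP (LK LD1_c11 LD2_c49 LD3_c0))))))))))))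
theorem f117719 : Led Lsl_ct (LP (LK LD1_c6 LD2_c25 LD3_c16)) = (LP (LK LD1_c11 LD2_c49 LD3_c0)) :=
  Lgr Lrot59 (Lpr_cf (f117716 IH) (Lpn (LP (LK LD1_c11 LD2_c49 LD3_c0))))
theorem f99970 : Led Lsl_et (LP (LK LD1_c4 LD2_c25 LD3_c61)) = (LP (LK LD1_c8 LD2_c49 LD3_c20)) :=
  Lre_e IH (LK LD1_c4 LD2_c25 LD3_c61) (LK LD1_c8 LD2_c49 LD3_c20) Lrfl Lrfl
theorem f138977 : Led Lsl_et (LP (LK LD1_c4 LD2_c58 LD3_c46)) = (LP (LK LD1_c2 LD2_c27 LD3_c12)) :=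
  Lre_e IH (LK LD1_c4 LD2_c58 LD3_c46) (LK LD1_c2 LD2_c27 LD3_c12) Lrfl Lrfl
theorem f138978 : Led Lsl_bt (LP (LK LD1_c8 LD2_c49 LD3_c20)) = (LP (LK LD1_c4 LD2_c58 LD3_c46)) :=
  Lgr Lrot119 (Lpe (f99970 IH) (Lpr_bf (K6.f138945 IH) (Lpe (f138977 IH) (Lpn (LP (LK LD1_c4 LD2_c58 LD3_c46))))))
theorem f99956 : Led Lsl_et (LP (LK LD1_c6 LD2_c10 LD3_c54)) = (LP (LK LD1_c3 LD2_c2 LD3_c4)) :=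
  Lre_e IH (LK LD1_c6 LD2_c10 LD3_c54) (LK LD1_c3 LD2_c2 LD3_c4) Lrfl Lrfl
theorem f99971 : Led Lsl_ct (LP (LK LD1_c8 LD2_c49 LD3_c20)) = (LP (LK LD1_c6 LD2_c10 LD3_c54)) :=
  Lgr Lrot15 (Lpe (f99970 IH) (Lpr_cf (K6.f99948 IH) (Lpe (f99956 IH) (Lpn (LP (LK LD1_c6 LD2_c10 LD3_c54))))))
theorem f99978 : Led Lsl_cf (LP (LK LD1_c8 LD2_c49 LD3_c20)) = (LP (LK LD1_c6 LD2_c10 LD3_c54)) :=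
  Lgr Lrot11 (Lpr_ct (f99971 IH) (Lpn (LP (LK LD1_c6 LD2_c10 LD3_c54))))
theorem f99990 : Led Lsl_bt (LP (LK LD1_c12 LD2_c2 LD3_c11)) = (LP (LK LD1_c6 LD2_c10 LD3_c54)) :=
  Lre_b IH (LK LD1_c12 LD2_c2 LD3_c11) (LK LD1_c6 LD2_c10 LD3_c54) Lrfl Lrfl
theorem f138986 : Led Lsl_ct (LP (LK LD1_c4 LD2_c58 LD3_c46)) = (LP (LK LD1_c9 LD2_c47 LD3_c57)) :=
  Lre_c IH (LK LD1_c4 LD2_c58 LD3_c46) (LK LD1_c9 LD2_c47 LD3_c57) Lrfl Lrfl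
theorem f138987 : Led Lsl_bt (LP (LK LD1_c9 LD2_c47 LD3_c57)) = (LP (LK LD1_c17 LD2_c58 LD3_c6)) :=
  Lre_b IH (LK LD1_c9 LD2_c47 LD3_c57) (LK LD1_c17 LD2_c58 LD3_c6) Lrfl Lrfl
theorem f138988 : Led Lsl_cf (LP (LK LD1_c12 LD2_c2 LD3_c11)) = (LP (LK LD1_c17 LD2_c58 LD3_c6)) :=
  Lgr Lrot97 (Lpr_bt (f99990 IH) (Lpe (f99978 IH) (Lpr_bt (f138978 IH) (Lpr_ct (f138986 IH) (Lpr_bt (f138987 IH) (Lpn (LP (LK LD1_c17 LD2_c58 LD3_c6))))))))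
theorem f139033 : Led Lsl_ct (LP (LK LD1_c12 LD2_c2 LD3_c11)) = (LP (LK LD1_c17 LD2_c58 LD3_c6)) :=
  Lgr Lrot59 (Lpr_cf (f138988 IH) (Lpn (LP (LK LD1_c17 LD2_c58 LD3_c6))))
theorem f139041 : Led Lsl_et (LP (LK LD1_c6 LD2_c10 LD3_c53)) = (LP (LK LD1_c12 LD2_c2 LD3_c11)) :=
  Lre_e IH (LK LD1_c6 LD2_c10 LD3_c53) (LK LD1_c12 LD2_c2 LD3_c11) Lrfl Lrfl
theorem f139042 : Led Lsl_et (LP (LK LD1_c17 LD2_c58 LD3_c6)) = (LP (LK LD1_c9 LD2_c47 LD3_c51)) :=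
  Lre_e IH (LK LD1_c17 LD2_c58 LD3_c6) (LK LD1_c9 LD2_c47 LD3_c51) Lrfl Lrfl
theorem f139043 : Led Lsl_cf (LP (LK LD1_c6 LD2_c10 LD3_c53)) = (LP (LK LD1_c9 LD2_c47 LD3_c51)) :=
  Lgr Lrot39 (Lpr_et (f139041 IH) (Lpr_ct (f139033 IH) (Lpr_et (f139042 IH) (Lpn (LP (LK LD1_c9 LD2_c47 LD3_c51))))))
theorem f99976 : Led Lsl_gt (LP (LK LD1_c6 LD2_c10 LD3_c53)) = (LP (LK LD1_c12 LD2_c2 LD3_c10)) :=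
  Lre_g IH (LK LD1_c6 LD2_c10 LD3_c53) (LK LD1_c12 LD2_c2 LD3_c10) Lrfl Lrfl
theorem f150346 : Led Lsl_dt (LP (LK LD1_c12 LD2_c2 LD3_c10)) = (LP (LK LD1_c6 LD2_c25 LD3_c7)) :=
  Lgr Lrot57 (Lpe (f99976 IH) (Lpr_cf (f139043 IH) (Lpe (K6.f139052 IH) (Lpr_dt (K6.f35336 IH) (Lpe (K4.f117670 IH) (Lpe (K5.f116801 IH) (Lpe (f117719 IH) (Lpe (f116982 IH) (Lpr_gf (f150344 IH) (Lpn (LP (LK LD1_c6 LD2_c25 LD3_c7))))))))))))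
theorem f150351 : Led Lsl_df (LP (LK LD1_c12 LD2_c2 LD3_c10)) = (LP (LK LD1_c6 LD2_c25 LD3_c7)) :=
  Lgr Lrot38 (Lpr_dt (f150346 IH) (Lpn (LP (LK LD1_c6 LD2_c25 LD3_c7))))
theorem f158830 : Led Lsl_ct (LP (LK LD1_c12 LD2_c2 LD3_c10)) = (LP (LK LD1_c6 LD2_c33 LD3_c55)) :=
  Lgr Lrot41 (Lpr_df (f150351 IH) (Lpe (K5.f112497 IH) (Lpe (K5.f37762 IH) (Lpe (f158408 IH) (Lpe (f139285 IH) (Lpe (f158666 IH) (Lpe (f158724 IH) (Lpr_cf (f158821 IH) (Lpe (K7.f119906 IH) (Lpn (LP (LK LD1_c6 LD2_c33 LD3_c55))))))))))))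
theorem f71916 : Led Lsl_df (LP (LK LD1_c5 LD2_c55 LD3_c47)) = (LP (LK LD1_c9 LD2_c7 LD3_c25)) :=
  Lgr Lrot38 (Lpr_dt (K2.f71902 IH) (Lpn (LP (LK LD1_c9 LD2_c7 LD3_c25))))
theorem f116983 : Led Lsl_dt (LP (LK LD1_c6 LD2_c25 LD3_c16)) = (LP (LK LD1_c3 LD2_c10 LD3_c17)) :=
  Lre_d IH (LK LD1_c6 LD2_c25 LD3_c16) (LK LD1_c3 LD2_c10 LD3_c17) Lrfl Lrfl
theorem f69243 : Led Lsl_ct (LP (LK LD1_c0 LD2_c42 LD3_c7)) = (LP (LK LD1_c1 LD2_c31 LD3_c18)) :=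
  Lre_c IH (LK LD1_c0 LD2_c42 LD3_c7) (LK LD1_c1 LD2_c31 LD3_c18) Lrfl Lrfl
theorem f117721 : Led Lsl_dt (LP (LK LD1_c1 LD2_c31 LD3_c18)) = (LP (LK LD1_c3 LD2_c10 LD3_c15)) :=
  Lre_d IH (LK LD1_c1 LD2_c31 LD3_c18) (LK LD1_c3 LD2_c10 LD3_c15) Lrfl Lrfl
theorem f117722 : Led Lsl_ct (LP (LK LD1_c3 LD2_c10 LD3_c15)) = (LP (LK LD1_c6 LD2_c25 LD3_c12)) :=
  Lre_c IH (LK LD1_c3 LD2_c10 LD3_c15) (LK LD1_c6 LD2_c25 LD3_c12) Lrfl Lrfl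
theorem f69220 : Led Lsl_dt (LP (LK LD1_c1 LD2_c31 LD3_c16)) = (LP (LK LD1_c0 LD2_c42 LD3_c6)) :=
  Lre_d IH (LK LD1_c1 LD2_c31 LD3_c16) (LK LD1_c0 LD2_c42 LD3_c6) Lrfl Lrfl
theorem f69206 : Led Lsl_ct (LP (LK LD1_c3 LD2_c10 LD3_c13)) = (LP (LK LD1_c1 LD2_c31 LD3_c16)) :=
  Lre_c IH (LK LD1_c3 LD2_c10 LD3_c13) (LK LD1_c1 LD2_c31 LD3_c16) Lrfl Lrfl
theorem f116781 : Led Lsl_dt (LP (LK LD1_c3 LD2_c17 LD3_c45)) = (LP (LK LD1_c3 LD2_c10 LD3_c13)) :=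
  Lgr Lrot27 (Lpr_cf (K4.f57061 IH) (Lpe (K4.f64545 IH) (Lpe (K4.f64542 IH) (Lpr_gf (K4.f64482 IH) (Lpe (K4.f64540 IH) (Lpr_gt (K4.f116776 IH) (Lpr_ct (K2.f27166 IH) (Lpr_gt (K4.f112480 IH) (Lpr_ct (K4.f69208 IH) (Lpn (LP (LK LD1_c3 LD2_c10 LD3_c13))))))))))))
theorem f117723 : Led Lsl_dt (LP (LK LD1_c6 LD2_c25 LD3_c12)) = (LP (LK LD1_c4 LD2_c59 LD3_c24)) :=
  Lgr Lrot173 (Lpe (f117722 IH) (Lpe (f117721 IH) (Lpe (f69243 IH) (Lpe (f69216 IH) (Lpe (f116984 IH) (Lpe (f116983 IH) (Lpr_cf (f117716 IH) (Lpr_df (K5.f116801 IH) (Lpe (f116805 IH) (Lpe (K4.f116806 IH) (Lpe (K4.f69209 IH) (Lpe (f69220 IH) (Lpe (f69206 IH) (Lpe (f116781 IH) (Lpr_cf (K4.f57061 IH) (Lpn (LP (LK LD1_c4 LD2_c59 LD3_c24))))))))))))))))))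
theorem f69197 : Led Lsl_ct (LP (LK LD1_c1 LD2_c31 LD3_c7)) = (LP (LK LD1_c3 LD2_c9 LD3_c58)) :=
  Lre_c IH (LK LD1_c1 LD2_c31 LD3_c7) (LK LD1_c3 LD2_c9 LD3_c58) Lrfl Lrfl
theorem f69196 : Led Lsl_dt (LP (LK LD1_c0 LD2_c42 LD3_c1)) = (LP (LK LD1_c1 LD2_c31 LD3_c7)) :=
  Lre_d IH (LK LD1_c0 LD2_c42 LD3_c1) (LK LD1_c1 LD2_c31 LD3_c7) Lrfl Lrfl
theorem f117739 : Led Lsl_gf (LP (LK LD1_c6 LD2_c25 LD3_c12)) = (LP (LK LD1_c5 LD2_c55 LD3_c47)) :=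
  Lgr Lrot144 (Lpr_dt (f117723 IH) (Lpr_gt (K7.f75508 IH) (Lpr_dt (K7.f69240 IH) (Lpe (f69197 IH) (Lpe (f69196 IH) (Lpe (K4.f69211 IH) (Lpe (K4.f75518 IH) (Lpr_gf (K4.f117644 IH) (Lpe (K4.f71883 IH) (Lpn (LP (LK LD1_c5 LD2_c55 LD3_c47))))))))))))
theorem f117744 : Led Lsl_ct (LP (LK LD1_c6 LD2_c25 LD3_c12)) = (LP (LK LD1_c3 LD2_c10 LD3_c15)) :=
  Lre_c IH (LK LD1_c6 LD2_c25 LD3_c12) (LK LD1_c3 LD2_c10 LD3_c15) Lrfl Lrfl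
theorem f158826 : Led Lsl_ct (LP (LK LD1_c6 LD2_c25 LD3_c4)) = (LP (LK LD1_c11 LD2_c37 LD3_c30)) :=
  Lgr Lrot59 (Lpr_cf (f158821 IH) (Lpn (LP (LK LD1_c11 LD2_c37 LD3_c30))))
theorem f158834 : Led Lsl_gt (LP (LK LD1_c3 LD2_c10 LD3_c15)) = (LP (LK LD1_c6 LD2_c25 LD3_c4)) :=
  Lgr Lrot150 (Lpe (f117744 IH) (Lpr_gf (f117739 IH) (Lpr_df (f71916 IH) (Lpr_gt (K6.f139050 IH) (Lpe (f139043 IH) (Lpr_gt (f99976 IH) (Lpr_ct (f158830 IH) (Lpr_df (K7.f119909 IH) (Lpe (f158826 IH) (Lpn (LP (LK LD1_c6 LD2_c25 LD3_c4))))))))))))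
theorem f117741 : Led Lsl_gt (LP (LK LD1_c6 LD2_c25 LD3_c12)) = (LP (LK LD1_c4 LD2_c24 LD3_c36)) :=
  Lgr Lrot146 (Lpr_dt (f117723 IH) (Lpr_gt (K7.f75508 IH) (Lpr_ct (K7.f79093 IH) (Lpr_gt (K7.f64535 IH) (Lpr_ct (K4.f64541 IH) (Lpe (K4.f79061 IH) (Lpe (K4.f36323 IH) (Lpe (K4.f112440 IH) (Lpe (K4.f35233 IH) (Lpn (LP (LK LD1_c4 LD2_c24 LD3_c36))))))))))))
theorem f117745 : Led Lsl_bt (LP (LK LD1_c3 LD2_c10 LD3_c15)) = (LP (LK LD1_c3 LD2_c4 LD3_c8)) :=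
  Lgr Lrot92 (Lpr_ct (f117722 IH) (Lpr_gt (f117741 IH) (Lpe (K2.f35225 IH) (Lpr_bt (K1.f36143 IH) (Lpe (K2.f70192 IH) (Lpr_ct (K2.f59182 IH) (Lpr_gt (K2.f70211 IH) (Lpe (K1.f35588 IH) (Lpr_bt (f99458 IH) (Lpr_gt (K4.f112393 IH) (Lpn (LP (LK LD1_c3 LD2_c4 LD3_c8)))))))))))))
theorem f117747 : Led Lsl_bf (LP (LK LD1_c3 LD2_c10 LD3_c15)) = (LP (LK LD1_c3 LD2_c4 LD3_c8)) :=
  Lgr Lrot24 (Lpr_bt (f117745 IH) (Lpn (LP (LK LD1_c3 LD2_c4 LD3_c8))))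
theorem f119705 : Led Lsl_ct (LP (LK LD1_c2 LD2_c54 LD3_c27)) = (LP (LK LD1_c5 LD2_c56 LD3_c10)) :=
  Lre_c IH (LK LD1_c2 LD2_c54 LD3_c27) (LK LD1_c5 LD2_c56 LD3_c10) Lrfl Lrfl
theorem f119717 : Led Lsl_bt (LP (LK LD1_c2 LD2_c54 LD3_c27)) = (LP (LK LD1_c5 LD2_c56 LD3_c9)) :=
  Lre_b IH (LK LD1_c2 LD2_c54 LD3_c27) (LK LD1_c5 LD2_c56 LD3_c9) Lrfl Lrfl
theorem f137332 : Led Lsl_at (LP (LK LD1_c2 LD2_c53 LD3_c39)) = (LP (LK LD1_c4 LD2_c36 LD3_c46)) :=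
  Lgr Lrot67 (Lpe (f104765 IH) (Lpr_af (K6.f137328 IH) (Lpe (K4.f83771 IH) (Lpr_af (K5.f117861 IH) (Lpe (f137286 IH) (Lpn (LP (LK LD1_c4 LD2_c36 LD3_c46))))))))
theorem f138533 : Led Lsl_af (LP (LK LD1_c2 LD2_c18 LD3_c55)) = (LP (LK LD1_c2 LD2_c49 LD3_c54)) :=
  Lgr Lrot117 (Lpr_dt (f138519 IH) (Lpr_at (f137332 IH) (Lpr_dt (f137288 IH) (Lpn (LP (LK LD1_c2 LD2_c49 LD3_c54))))))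
theorem f138545 : Led Lsl_at (LP (LK LD1_c4 LD2_c42 LD3_c51)) = (LP (LK LD1_c3 LD2_c9 LD3_c54)) :=
  Lgr Lrot107 (Lpe (f59420 IH) (Lpr_af (f138533 IH) (Lpe (f117894 IH) (Lpn (LP (LK LD1_c3 LD2_c9 LD3_c54))))))
theorem f138549 : Led Lsl_af (LP (LK LD1_c9 LD2_c19 LD3_c46)) = (LP (LK LD1_c6 LD2_c24 LD3_c31)) :=
  Lgr Lrot117 (Lpr_dt (f104817 IH) (Lpr_at (f138545 IH) (Lpr_dt (f117622 IH) (Lpn (LP (LK LD1_c6 LD2_c24 LD3_c31))))))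
theorem f119713 : Led Lsl_et (LP (LK LD1_c5 LD2_c56 LD3_c10)) = (LP (LK LD1_c11 LD2_c37 LD3_c35)) :=
  Lre_e IH (LK LD1_c5 LD2_c56 LD3_c10) (LK LD1_c11 LD2_c37 LD3_c35) Lrfl Lrfl
theorem f79063 : Led Lsl_et (LP (LK LD1_c12 LD2_c21 LD3_c59)) = (LP (LK LD1_c6 LD2_c24 LD3_c27)) :=
  Lre_e IH (LK LD1_c12 LD2_c21 LD3_c59) (LK LD1_c6 LD2_c24 LD3_c27) Lrfl Lrfl
theorem f119757 : Led Lsl_at (LP (LK LD1_c11 LD2_c37 LD3_c35)) = (LP (LK LD1_c12 LD2_c21 LD3_c59)) :=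
  Lgr Lrot80 (Lpe (f119713 IH) (Lpr_af (K7.f119718 IH) (Lpe (f79063 IH) (Lpn (LP (LK LD1_c12 LD2_c21 LD3_c59))))))
theorem f119764 : Led Lsl_ct (LP (LK LD1_c5 LD2_c56 LD3_c11)) = (LP (LK LD1_c11 LD2_c37 LD3_c35)) :=
  Lre_c IH (LK LD1_c5 LD2_c56 LD3_c11) (LK LD1_c11 LD2_c37 LD3_c35) Lrfl Lrfl
theorem f79068 : Led Lsl_ct (LP (LK LD1_c12 LD2_c21 LD3_c59)) = (LP (LK LD1_c6 LD2_c24 LD3_c28)) :=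
  Lre_c IH (LK LD1_c12 LD2_c21 LD3_c59) (LK LD1_c6 LD2_c24 LD3_c28) Lrfl Lrfl
theorem f119765 : Led Lsl_af (LP (LK LD1_c5 LD2_c56 LD3_c11)) = (LP (LK LD1_c6 LD2_c24 LD3_c28)) :=
  Lgr Lrot68 (Lpr_ct (f119764 IH) (Lpr_at (f119757 IH) (Lpr_ct (f79068 IH) (Lpn (LP (LK LD1_c6 LD2_c24 LD3_c28))))))
theorem f119771 : Led Lsl_bt (LP (LK LD1_c5 LD2_c56 LD3_c11)) = (LP (LK LD1_c11 LD2_c37 LD3_c33)) :=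
  Lre_b IH (LK LD1_c5 LD2_c56 LD3_c11) (LK LD1_c11 LD2_c37 LD3_c33) Lrfl Lrfl
theorem f79072 : Led Lsl_bt (LP (LK LD1_c12 LD2_c21 LD3_c58)) = (LP (LK LD1_c6 LD2_c24 LD3_c28)) :=
  Lre_b IH (LK LD1_c12 LD2_c21 LD3_c58) (LK LD1_c6 LD2_c24 LD3_c28) Lrfl Lrfl
theorem f81085 : Led Lsl_et (LP (LK LD1_c16 LD2_c24 LD3_c16)) = (LP (LK LD1_c8 LD2_c46 LD3_c2)) :=
  Lre_e IH (LK LD1_c16 LD2_c24 LD3_c16) (LK LD1_c8 LD2_c46 LD3_c2) Lrfl Lrfl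
theorem f112583 : Led Lsl_et (LP (LK LD1_c6 LD2_c24 LD3_c24)) = (LP (LK LD1_c12 LD2_c21 LD3_c58)) :=
  Lre_e IH (LK LD1_c6 LD2_c24 LD3_c24) (LK LD1_c12 LD2_c21 LD3_c58) Lrfl Lrfl
theorem f118923 : Led Lsl_af (LP (LK LD1_c16 LD2_c24 LD3_c16)) = (LP (LK LD1_c12 LD2_c21 LD3_c58)) :=
  Lgr Lrot50 (Lpr_et (f81085 IH) (Lpr_at (K5.f118912 IH) (Lpr_et (f112583 IH) (Lpn (LP (LK LD1_c12 LD2_c21 LD3_c58))))))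
theorem f118933 : Led Lsl_at (LP (LK LD1_c16 LD2_c24 LD3_c16)) = (LP (LK LD1_c12 LD2_c21 LD3_c58)) :=
  Lgr Lrot100 (Lpr_af (f118923 IH) (Lpn (LP (LK LD1_c12 LD2_c21 LD3_c58))))
theorem f80996 : Led Lsl_ct (LP (LK LD1_c8 LD2_c46 LD3_c3)) = (LP (LK LD1_c4 LD2_c24 LD3_c13)) :=
  Lre_c IH (LK LD1_c8 LD2_c46 LD3_c3) (LK LD1_c4 LD2_c24 LD3_c13) Lrfl Lrfl
theorem f80997 : Led Lsl_ct (LP (LK LD1_c3 LD2_c5 LD3_c6)) = (LP (LK LD1_c1 LD2_c28 LD3_c38)) :=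
  Lre_c IH (LK LD1_c3 LD2_c5 LD3_c6) (LK LD1_c1 LD2_c28 LD3_c38) Lrfl Lrfl
theorem f80998 : Led Lsl_bt (LP (LK LD1_c1 LD2_c28 LD3_c38)) = (LP (LK LD1_c3 LD2_c5 LD3_c4)) :=
  Lre_b IH (LK LD1_c1 LD2_c28 LD3_c38) (LK LD1_c3 LD2_c5 LD3_c4) Lrfl Lrfl
theorem f80999 : Led Lsl_ct (LP (LK LD1_c3 LD2_c5 LD3_c4)) = (LP (LK LD1_c6 LD2_c15 LD3_c56)) :=
  Lre_c IH (LK LD1_c3 LD2_c5 LD3_c4) (LK LD1_c6 LD2_c15 LD3_c56) Lrfl Lrfl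
theorem f81000 : Led Lsl_bf (LP (LK LD1_c8 LD2_c46 LD3_c3)) = (LP (LK LD1_c6 LD2_c15 LD3_c56)) :=
  Lgr Lrot90 (Lpr_ct (f80996 IH) (Lpr_bt (K5.f80992 IH) (Lpr_ct (f80997 IH) (Lpr_bt (f80998 IH) (Lpr_ct (f80999 IH) (Lpn (LP (LK LD1_c6 LD2_c15 LD3_c56))))))))
theorem f81067 : Led Lsl_bt (LP (LK LD1_c8 LD2_c46 LD3_c3)) = (LP (LK LD1_c6 LD2_c15 LD3_c56)) :=
  Lgr Lrot127 (Lpr_bf (f81000 IH) (Lpn (LP (LK LD1_c6 LD2_c15 LD3_c56))))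
theorem f81076 : Led Lsl_et (LP (LK LD1_c4 LD2_c24 LD3_c11)) = (LP (LK LD1_c8 LD2_c46 LD3_c3)) :=
  Lre_e IH (LK LD1_c4 LD2_c24 LD3_c11) (LK LD1_c8 LD2_c46 LD3_c3) Lrfl Lrfl
theorem f81077 : Led Lsl_et (LP (LK LD1_c6 LD2_c15 LD3_c56)) = (LP (LK LD1_c3 LD2_c5 LD3_c2)) :=
  Lre_e IH (LK LD1_c6 LD2_c15 LD3_c56) (LK LD1_c3 LD2_c5 LD3_c2) Lrfl Lrfl
theorem f81078 : Led Lsl_bf (LP (LK LD1_c4 LD2_c24 LD3_c11)) = (LP (LK LD1_c3 LD2_c5 LD3_c2)) :=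
  Lgr Lrot96 (Lpr_et (f81076 IH) (Lpr_bt (f81067 IH) (Lpr_et (f81077 IH) (Lpn (LP (LK LD1_c3 LD2_c5 LD3_c2))))))
theorem f81080 : Led Lsl_dt (LP (LK LD1_c6 LD2_c15 LD3_c55)) = (LP (LK LD1_c3 LD2_c5 LD3_c2)) :=
  Lre_d IH (LK LD1_c6 LD2_c15 LD3_c55) (LK LD1_c3 LD2_c5 LD3_c2) Lrfl Lrfl
theorem f81081 : Led Lsl_bt (LP (LK LD1_c8 LD2_c46 LD3_c2)) = (LP (LK LD1_c6 LD2_c15 LD3_c55)) :=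
  Lgr Lrot95 (Lpe (K5.f80684 IH) (Lpr_bf (f81078 IH) (Lpe (f81080 IH) (Lpn (LP (LK LD1_c6 LD2_c15 LD3_c55))))))
theorem f81086 : Led Lsl_et (LP (LK LD1_c6 LD2_c15 LD3_c55)) = (LP (LK LD1_c12 LD2_c9 LD3_c28)) :=
  Lre_e IH (LK LD1_c6 LD2_c15 LD3_c55) (LK LD1_c12 LD2_c9 LD3_c28) Lrfl Lrfl
theorem f81087 : Led Lsl_bf (LP (LK LD1_c16 LD2_c24 LD3_c16)) = (LP (LK LD1_c12 LD2_c9 LD3_c28)) :=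
  Lgr Lrot96 (Lpr_et (f81085 IH) (Lpr_bt (f81081 IH) (Lpr_et (f81086 IH) (Lpn (LP (LK LD1_c12 LD2_c9 LD3_c28))))))
theorem f119772 : Led Lsl_at (LP (LK LD1_c11 LD2_c37 LD3_c33)) = (LP (LK LD1_c12 LD2_c9 LD3_c28)) :=
  Lgr Lrot67 (Lpe (f119771 IH) (Lpr_af (f119765 IH) (Lpe (f79072 IH) (Lpe (f118933 IH) (Lpr_bf (f81087 IH) (Lpn (LP (LK LD1_c12 LD2_c9 LD3_c28))))))))
theorem f119802 : Led Lsl_et (LP (LK LD1_c5 LD2_c56 LD3_c9)) = (LP (LK LD1_c11 LD2_c37 LD3_c33)) :=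
  Lre_e IH (LK LD1_c5 LD2_c56 LD3_c9) (LK LD1_c11 LD2_c37 LD3_c33) Lrfl Lrfl
theorem f81092 : Led Lsl_et (LP (LK LD1_c12 LD2_c9 LD3_c28)) = (LP (LK LD1_c6 LD2_c15 LD3_c55)) :=
  Lre_e IH (LK LD1_c12 LD2_c9 LD3_c28) (LK LD1_c6 LD2_c15 LD3_c55) Lrfl Lrfl
theorem f119803 : Led Lsl_af (LP (LK LD1_c5 LD2_c56 LD3_c9)) = (LP (LK LD1_c6 LD2_c15 LD3_c55)) :=
  Lgr Lrot50 (Lpr_et (f119802 IH) (Lpr_at (f119772 IH) (Lpr_et (f81092 IH) (Lpn (LP (LK LD1_c6 LD2_c15 LD3_c55))))))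
theorem f79924 : Led Lsl_dt (LP (LK LD1_c3 LD2_c5 LD3_c2)) = (LP (LK LD1_c6 LD2_c15 LD3_c55)) :=
  Lre_d IH (LK LD1_c3 LD2_c5 LD3_c2) (LK LD1_c6 LD2_c15 LD3_c55) Lrfl Lrfl
theorem f119810 : Led Lsl_dt (LP (LK LD1_c5 LD2_c56 LD3_c9)) = (LP (LK LD1_c4 LD2_c23 LD3_c56)) :=
  Lgr Lrot44 (Lpr_af (f119803 IH) (Lpe (f79924 IH) (Lpr_af (f119075 IH) (Lpn (LP (LK LD1_c4 LD2_c23 LD3_c56))))))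
theorem f36538 : Led Lsl_bt (LP (LK LD1_c2 LD2_c9 LD3_c23)) = (LP (LK LD1_c4 LD2_c23 LD3_c56)) :=
  Lre_b IH (LK LD1_c2 LD2_c9 LD3_c23) (LK LD1_c4 LD2_c23 LD3_c56) Lrfl Lrfl
theorem f117607 : Led Lsl_ff (LP (LK LD1_c3 LD2_c9 LD3_c54)) = (LP (LK LD1_c4 LD2_c23 LD3_c56)) :=
  Lgr Lrot25 (Lpr_bt (f73437 IH) (Lpr_ft (K4.f117601 IH) (Lpr_bt (f36538 IH) (Lpn (LP (LK LD1_c4 LD2_c23 LD3_c56))))))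
theorem f119813 : Led Lsl_ff (LP (LK LD1_c5 LD2_c56 LD3_c9)) = (LP (LK LD1_c6 LD2_c24 LD3_c31)) :=
  Lgr Lrot19 (Lpr_dt (f119810 IH) (Lpe (f117607 IH) (Lpr_dt (f117622 IH) (Lpn (LP (LK LD1_c6 LD2_c24 LD3_c31))))))
theorem f119819 : Led Lsl_ft (LP (LK LD1_c5 LD2_c56 LD3_c9)) = (LP (LK LD1_c6 LD2_c24 LD3_c31)) :=
  Lgr Lrot48 (Lpr_ff (f119813 IH) (Lpn (LP (LK LD1_c6 LD2_c24 LD3_c31))))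
theorem f158658 : Led Lsl_gf (LP (LK LD1_c6 LD2_c13 LD3_c14)) = (LP (LK LD1_c5 LD2_c56 LD3_c9)) :=
  Lgr Lrot47 (Lpr_gt (f158656 IH) (Lpr_af (f138549 IH) (Lpe (f119819 IH) (Lpn (LP (LK LD1_c5 LD2_c56 LD3_c9))))))
theorem f72413 : Led Lsl_ct (LP (LK LD1_c4 LD2_c58 LD3_c54)) = (LP (LK LD1_c9 LD2_c48 LD3_c9)) :=
  Lre_c IH (LK LD1_c4 LD2_c58 LD3_c54) (LK LD1_c9 LD2_c48 LD3_c9) Lrfl Lrfl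
theorem f158849 : Led Lsl_gf (LP (LK LD1_c6 LD2_c0 LD3_c41)) = (LP (LK LD1_c9 LD2_c48 LD3_c9)) :=
  Lgr Lrot126 (Lpe (K4.f75084 IH) (Lpe (f117747 IH) (Lpr_gt (f158834 IH) (Lpr_ct (f158826 IH) (Lpe (K7.f119759 IH) (Lpe (f119705 IH) (Lpr_bt (f119717 IH) (Lpe (f158658 IH) (Lpe (f101746 IH) (Lpr_ct (f72413 IH) (Lpn (LP (LK LD1_c9 LD2_c48 LD3_c9)))))))))))))
theorem f75132 : Led Lsl_dt (LP (LK LD1_c3 LD2_c4 LD3_c8)) = (LP (LK LD1_c1 LD2_c28 LD3_c6)) :=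
  Lre_d IH (LK LD1_c3 LD2_c4 LD3_c8) (LK LD1_c1 LD2_c28 LD3_c6) Lrfl Lrfl
theorem f75094 : Led Lsl_ct (LP (LK LD1_c3 LD2_c4 LD3_c7)) = (LP (LK LD1_c1 LD2_c28 LD3_c6)) :=
  Lre_c IH (LK LD1_c3 LD2_c4 LD3_c7) (LK LD1_c1 LD2_c28 LD3_c6) Lrfl Lrfl
theorem f70872 : Led Lsl_dt (LP (LK LD1_c9 LD2_c8 LD3_c10)) = (LP (LK LD1_c5 LD2_c54 LD3_c48)) :=
  Lgr Lrot173 (Lpe (K2.f70870 IH) (Lpe (K2.f70869 IH) (Lpe (K2.f70858 IH) (Lpe (K2.f70859 IH) (Lpe (K2.f70860 IH) (Lpe (K2.f70861 IH) (Lpr_cf (K2.f70865 IH) (Lpe (K2.f70864 IH) (Lpe (K2.f70863 IH) (Lpe (K2.f70862 IH) (Lpe (K4.f37944 IH) (Lpe (K2.f22773 IH) (Lpe (K4.f22462 IH) (Lpe (K4.f22463 IH) (Lpe (K7.f70871 IH) (Lpn (LP (LK LD1_c5 LD2_c54 LD3_c48))))))))))))))))))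
theorem f138136 : Led Lsl_gt (LP (LK LD1_c4 LD2_c42 LD3_c48)) = (LP (LK LD1_c4 LD2_c58 LD3_c54)) :=
  Lgr Lrot180 (Lpr_ct (f138121 IH) (Lpe (f70902 IH) (Lpr_dt (f70872 IH) (Lpe (K7.f99499 IH) (Lpe (K6.f104351 IH) (Lpr_ct (K6.f81848 IH) (Lpe (K6.f81849 IH) (Lpe (K6.f101748 IH) (Lpe (f72427 IH) (Lpn (LP (LK LD1_c4 LD2_c58 LD3_c54))))))))))))
theorem f158851 : Led Lsl_gf (LP (LK LD1_c3 LD2_c4 LD3_c7)) = (LP (LK LD1_c2 LD2_c49 LD3_c19)) :=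
  Lgr Lrot104 (Lpr_ct (f75094 IH) (Lpe (f75132 IH) (Lpr_cf (K4.f75092 IH) (Lpr_gf (f158849 IH) (Lpe (f72413 IH) (Lpe (f138136 IH) (Lpe (K5.f60949 IH) (Lpr_gt (K4.f60940 IH) (Lpe (K4.f60945 IH) (Lpn (LP (LK LD1_c2 LD2_c49 LD3_c19))))))))))))
theorem f75133 : Led Lsl_ct (LP (LK LD1_c1 LD2_c28 LD3_c6)) = (LP (LK LD1_c3 LD2_c4 LD3_c7)) :=
  Lre_c IH (LK LD1_c1 LD2_c28 LD3_c6) (LK LD1_c3 LD2_c4 LD3_c7) Lrfl Lrfl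
theorem f72433 : Led Lsl_gt (LP (LK LD1_c2 LD2_c27 LD3_c20)) = (LP (LK LD1_c4 LD2_c58 LD3_c56)) :=
  Lre_g IH (LK LD1_c2 LD2_c27 LD3_c20) (LK LD1_c4 LD2_c58 LD3_c56) Lrfl Lrfl
theorem f138827 : Led Lsl_df (LP (LK LD1_c3 LD2_c4 LD3_c7)) = (LP (LK LD1_c4 LD2_c58 LD3_c56)) :=
  Lgr Lrot84 (Lpe (f75133 IH) (Lpe (f75132 IH) (Lpe (K4.f112393 IH) (Lpe (K4.f37812 IH) (Lpe (K6.f71047 IH) (Lpe (K7.f71054 IH) (Lpr_gt (K6.f138743 IH) (Lpr_dt (K2.f72422 IH) (Lpr_gt (f72433 IH) (Lpn (LP (LK LD1_c4 LD2_c58 LD3_c56))))))))))))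
theorem f138841 : Led Lsl_dt (LP (LK LD1_c3 LD2_c4 LD3_c7)) = (LP (LK LD1_c4 LD2_c58 LD3_c56)) :=
  Lgr Lrot42 (Lpr_df (f138827 IH) (Lpn (LP (LK LD1_c4 LD2_c58 LD3_c56))))
theorem f59803 : Led Lsl_ct (LP (LK LD1_c0 LD2_c18 LD3_c20)) = (LP (LK LD1_c0 LD2_c40 LD3_c45)) :=
  Lre_c IH (LK LD1_c0 LD2_c18 LD3_c20) (LK LD1_c0 LD2_c40 LD3_c45) Lrfl Lrfl
theorem f23022 : Led Lsl_gt (LP (LK LD1_c2 LD2_c15 LD3_c18)) = (LP (LK LD1_c4 LD2_c36 LD3_c14)) :=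
  Lre_g IH (LK LD1_c2 LD2_c15 LD3_c18) (LK LD1_c4 LD2_c36 LD3_c14) Lrfl Lrfl
theorem f138844 : Led Lsl_ct (LP (LK LD1_c4 LD2_c36 LD3_c14)) = (LP (LK LD1_c4 LD2_c58 LD3_c56)) :=
  Lgr Lrot110 (Lpe (f23022 IH) (Lpe (f23021 IH) (Lpe (f138481 IH) (Lpe (K6.f80264 IH) (Lpr_gt (K5.f60870 IH) (Lpr_ct (f59803 IH) (Lpr_gt (K4.f59713 IH) (Lpr_ct (f75133 IH) (Lpr_df (f138827 IH) (Lpn (LP (LK LD1_c4 LD2_c58 LD3_c56))))))))))))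
theorem f138851 : Led Lsl_cf (LP (LK LD1_c4 LD2_c36 LD3_c14)) = (LP (LK LD1_c4 LD2_c58 LD3_c56)) :=
  Lgr Lrot11 (Lpr_ct (f138844 IH) (Lpn (LP (LK LD1_c4 LD2_c58 LD3_c56))))
theorem f138953 : Led Lsl_bt (LP (LK LD1_c1 LD2_c10 LD3_c50)) = (LP (LK LD1_c2 LD2_c27 LD3_c2)) :=
  Lre_b IH (LK LD1_c1 LD2_c10 LD3_c50) (LK LD1_c2 LD2_c27 LD3_c2) Lrfl Lrfl
theorem f71856 : Led Lsl_gt (LP (LK LD1_c1 LD2_c23 LD3_c15)) = (LP (LK LD1_c0 LD2_c38 LD3_c31)) :=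
  Lre_g IH (LK LD1_c1 LD2_c23 LD3_c15) (LK LD1_c0 LD2_c38 LD3_c31) Lrfl Lrfl
theorem f157045 : Led Lsl_bt (LP (LK LD1_c2 LD2_c54 LD3_c36)) = (LP (LK LD1_c1 LD2_c23 LD3_c15)) :=
  Lre_b IH (LK LD1_c2 LD2_c54 LD3_c36) (LK LD1_c1 LD2_c23 LD3_c15) Lrfl Lrfl
theorem f157046 : Led Lsl_cf (LP (LK LD1_c4 LD2_c58 LD3_c37)) = (LP (LK LD1_c2 LD2_c54 LD3_c36)) :=
  Lgr Lrot58 (Lpe (K4.f79699 IH) (Lpe (K4.f74298 IH) (Lpr_bt (f138953 IH) (Lpe (f138970 IH) (Lpr_bf (f157041 IH) (Lpe (f119897 IH) (Lpe (K4.f23914 IH) (Lpe (K4.f23913 IH) (Lpe (f71856 IH) (Lpe (f157045 IH) (Lpn (LP (LK LD1_c2 LD2_c54 LD3_c36)))))))))))))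
theorem f94962 : Led Lsl_bt (LP (LK LD1_c1 LD2_c10 LD3_c55)) = (LP (LK LD1_c2 LD2_c27 LD3_c20)) :=
  Lre_b IH (LK LD1_c1 LD2_c10 LD3_c55) (LK LD1_c2 LD2_c27 LD3_c20) Lrfl Lrfl
theorem f71857 : Led Lsl_gf (LP (LK LD1_c1 LD2_c23 LD3_c15)) = (LP (LK LD1_c2 LD2_c14 LD3_c53)) :=
  Lgr Lrot47 (Lpr_gt (f71856 IH) (Lpe (K2.f71838 IH) (Lpr_ff (K2.f71836 IH) (Lpn (LP (LK LD1_c2 LD2_c14 LD3_c53))))))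
theorem f157059 : Led Lsl_gt (LP (LK LD1_c4 LD2_c36 LD3_c14)) = (LP (LK LD1_c2 LD2_c53 LD3_c19)) :=
  Lgr Lrot149 (Lpr_cf (f138851 IH) (Lpe (f72433 IH) (Lpe (f94962 IH) (Lpr_ct (f72451 IH) (Lpe (K4.f72471 IH) (Lpr_cf (f157046 IH) (Lpr_bt (f157045 IH) (Lpr_gf (f71857 IH) (Lpe (K2.f71827 IH) (Lpr_ct (K7.f71008 IH) (Lpn (LP (LK LD1_c2 LD2_c53 LD3_c19)))))))))))))
theorem f149362 : Led Lsl_ct (LP (LK LD1_c4 LD2_c44 LD3_c47)) = (LP (LK LD1_c4 LD2_c36 LD3_c16)) :=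
  Lgr Lrot59 (Lpr_cf (K7.f149357 IH) (Lpn (LP (LK LD1_c4 LD2_c36 LD3_c16))))
theorem f132689 : Led Lsl_dt (LP (LK LD1_c6 LD2_c15 LD3_c39)) = (LP (LK LD1_c3 LD2_c59 LD3_c21)) :=
  Lgr Lrot6 (Lpr_gt (f132687 IH) (Lpr_ct (K6.f80261 IH) (Lpe (K6.f112401 IH) (Lpr_ct (K4.f37813 IH) (Lpe (K4.f37812 IH) (Lpe (K2.f34722 IH) (Lpe (K7.f37767 IH) (Lpe (K7.f37768 IH) (Lpr_gf (K7.f37774 IH) (Lpn (LP (LK LD1_c3 LD2_c59 LD3_c21))))))))))))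
theorem f149345 : Led Lsl_df (LP (LK LD1_c4 LD2_c44 LD3_c47)) = (LP (LK LD1_c5 LD2_c53 LD3_c51)) :=
  Lgr Lrot153 (Lpr_gt (K7.f102346 IH) (Lpr_dt (K6.f102923 IH) (Lpr_cf (K7.f149334 IH) (Lpe (K7.f37811 IH) (Lpr_gf (K7.f37774 IH) (Lpe (f132689 IH) (Lpe (f80277 IH) (Lpe (K5.f83802 IH) (Lpr_gt (K7.f112752 IH) (Lpn (LP (LK LD1_c5 LD2_c53 LD3_c51))))))))))))
theorem f149451 : Led Lsl_cf (LP (LK LD1_c5 LD2_c53 LD3_c56)) = (LP (LK LD1_c4 LD2_c44 LD3_c46)) :=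
  Lgr Lrot55 (Lpr_dt (K7.f70928 IH) (Lpr_ct (K2.f70927 IH) (Lpr_dt (K2.f70926 IH) (Lpr_ct (K2.f70925 IH) (Lpr_dt (K7.f70924 IH) (Lpr_ct (K6.f70923 IH) (Lpe (f149345 IH) (Lpr_ct (f149362 IH) (Lpr_dt (K6.f23032 IH) (Lpr_ct (K6.f23031 IH) (Lpr_dt (f37766 IH) (Lpr_ct (K2.f34722 IH) (Lpr_dt (K4.f37812 IH) (Lpr_ct (K6.f70913 IH) (Lpr_dt (K7.f149443 IH) (Lpn (LP (LK LD1_c4 LD2_c44 LD3_c46))))))))))))))))))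
theorem f26504 : Led Lsl_gt (LP (LK LD1_c2 LD2_c57 LD3_c1)) = (LP (LK LD1_c6 LD2_c1 LD3_c49)) :=
  Lre_g IH (LK LD1_c2 LD2_c57 LD3_c1) (LK LD1_c6 LD2_c1 LD3_c49) Lrfl Lrfl
theorem f157061 : Led Lsl_df (LP (LK LD1_c4 LD2_c36 LD3_c14)) = (LP (LK LD1_c6 LD2_c1 LD3_c49)) :=
  Lgr Lrot153 (Lpr_gt (f157059 IH) (Lpr_dt (K4.f71009 IH) (Lpr_cf (f149451 IH) (Lpe (K7.f149443 IH) (Lpr_gf (K6.f112401 IH) (Lpe (K6.f102095 IH) (Lpr_gf (K6.f91358 IH) (Lpe (K6.f26518 IH) (Lpr_gt (f26504 IH) (Lpn (LP (LK LD1_c6 LD2_c1 LD3_c49))))))))))))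
theorem f158856 : Led Lsl_gt (LP (LK LD1_c2 LD2_c51 LD3_c15)) = (LP (LK LD1_c4 LD2_c59 LD3_c10)) :=
  Lgr Lrot94 (Lpe (f26500 IH) (Lpr_gt (K6.f26487 IH) (Lpr_dt (K6.f26503 IH) (Lpr_gt (f26504 IH) (Lpe (f157061 IH) (Lpr_cf (f138851 IH) (Lpe (f138841 IH) (Lpr_gf (f158851 IH) (Lpr_df (K4.f104803 IH) (Lpn (LP (LK LD1_c4 LD2_c59 LD3_c10))))))))))))
theorem f58854 : Led Lsl_bt (LP (LK LD1_c0 LD2_c29 LD3_c13)) = (LP (LK LD1_c1 LD2_c3 LD3_c60)) :=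
  Lre_b IH (LK LD1_c0 LD2_c29 LD3_c13) (LK LD1_c1 LD2_c3 LD3_c60) Lrfl Lrfl
theorem f58855 : Led Lsl_gt (LP (LK LD1_c1 LD2_c3 LD3_c60)) = (LP (LK LD1_c2 LD2_c13 LD3_c52)) :=
  Lre_g IH (LK LD1_c1 LD2_c3 LD3_c60) (LK LD1_c2 LD2_c13 LD3_c52) Lrfl Lrfl
theorem f58857 : Led Lsl_bt (LP (LK LD1_c4 LD2_c33 LD3_c58)) = (LP (LK LD1_c2 LD2_c13 LD3_c52)) :=
  Lre_b IH (LK LD1_c4 LD2_c33 LD3_c58) (LK LD1_c2 LD2_c13 LD3_c52) Lrfl Lrfl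
theorem f58860 : Led Lsl_ct (LP (LK LD1_c4 LD2_c33 LD3_c58)) = (LP (LK LD1_c4 LD2_c38 LD3_c46)) :=
  Lgr Lrot64 (Lpr_bt (f58857 IH) (Lpe (f58855 IH) (Lpe (f58854 IH) (Lpr_ct (K1.f58778 IH) (Lpe (K0.f23259 IH) (Lpe (K3.f23011 IH) (Lpe (K0.f20190 IH) (Lpe (K7.f34764 IH) (Lpr_ct (K4.f58858 IH) (Lpe (K7.f58859 IH) (Lpn (LP (LK LD1_c4 LD2_c38 LD3_c46)))))))))))))
theorem f149386 : Led Lsl_ff (LP (LK LD1_c4 LD2_c33 LD3_c58)) = (LP (LK LD1_c2 LD2_c51 LD3_c15)) :=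
  Lgr Lrot23 (Lpr_ct (f58860 IH) (Lpr_ft (K7.f149382 IH) (Lpr_ct (f26500 IH) (Lpn (LP (LK LD1_c2 LD2_c51 LD3_c15))))))
theorem f158858 : Led Lsl_at (LP (LK LD1_c4 LD2_c33 LD3_c58)) = (LP (LK LD1_c5 LD2_c54 LD3_c3)) :=
  Lgr Lrot26 (Lpr_ff (f149386 IH) (Lpr_gt (f158856 IH) (Lpr_gt (f158468 IH) (Lpn (LP (LK LD1_c5 LD2_c54 LD3_c3))))))
theorem f58891 : Led Lsl_cf (LP (LK LD1_c4 LD2_c33 LD3_c58)) = (LP (LK LD1_c4 LD2_c38 LD3_c46)) :=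
  Lgr Lrot11 (Lpr_ct (f58860 IH) (Lpn (LP (LK LD1_c4 LD2_c38 LD3_c46))))
theorem f158862 : Led Lsl_af (LP (LK LD1_c4 LD2_c38 LD3_c46)) = (LP (LK LD1_c2 LD2_c56 LD3_c61)) :=
  Lgr Lrot68 (Lpe (f58891 IH) (Lpr_at (f158858 IH) (Lpr_ct (K4.f69012 IH) (Lpn (LP (LK LD1_c2 LD2_c56 LD3_c61))))))
theorem f158866 : Led Lsl_ft (LP (LK LD1_c4 LD2_c38 LD3_c45)) = (LP (LK LD1_c2 LD2_c56 LD3_c61)) :=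
  Lgr Lrot101 (Lpr_af (K7.f149390 IH) (Lpe (K7.f149382 IH) (Lpr_af (f158862 IH) (Lpn (LP (LK LD1_c2 LD2_c56 LD3_c61))))))
theorem f61144 : Led Lsl_bt (LP (LK LD1_c9 LD2_c13 LD3_c20)) = (LP (LK LD1_c4 LD2_c38 LD3_c45)) :=
  Lre_b IH (LK LD1_c9 LD2_c13 LD3_c20) (LK LD1_c4 LD2_c38 LD3_c45) Lrfl Lrfl
theorem f125696 : Led Lsl_bt (LP (LK LD1_c2 LD2_c56 LD3_c61)) = (LP (LK LD1_c6 LD2_c1 LD3_c46)) :=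
  Lre_b IH (LK LD1_c2 LD2_c56 LD3_c61) (LK LD1_c6 LD2_c1 LD3_c46) Lrfl Lrfl
theorem f158868 : Led Lsl_ff (LP (LK LD1_c9 LD2_c13 LD3_c20)) = (LP (LK LD1_c6 LD2_c1 LD3_c46)) :=
  Lgr Lrot25 (Lpr_bt (f61144 IH) (Lpr_ft (f158866 IH) (Lpr_bt (f125696 IH) (Lpn (LP (LK LD1_c6 LD2_c1 LD3_c46))))))
theorem f158872 : Led Lsl_ft (LP (LK LD1_c9 LD2_c13 LD3_c20)) = (LP (LK LD1_c6 LD2_c1 LD3_c46)) :=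
  Lgr Lrot48 (Lpr_ff (f158868 IH) (Lpn (LP (LK LD1_c6 LD2_c1 LD3_c46))))
theorem f78692 : Led Lsl_gt (LP (LK LD1_c4 LD2_c46 LD3_c0)) = (LP (LK LD1_c2 LD2_c21 LD3_c2)) :=
  Lre_g IH (LK LD1_c4 LD2_c46 LD3_c0) (LK LD1_c2 LD2_c21 LD3_c2) Lrfl Lrfl
theorem f61012 : Led Lsl_gt (LP (LK LD1_c0 LD2_c30 LD3_c15)) = (LP (LK LD1_c1 LD2_c6 LD3_c11)) :=
  Lre_g IH (LK LD1_c0 LD2_c30 LD3_c15) (LK LD1_c1 LD2_c6 LD3_c11) Lrfl Lrfl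
theorem f61014 : Led Lsl_dt (LP (LK LD1_c1 LD2_c6 LD3_c11)) = (LP (LK LD1_c2 LD2_c18 LD3_c21)) :=
  Lre_d IH (LK LD1_c1 LD2_c6 LD3_c11) (LK LD1_c2 LD2_c18 LD3_c21) Lrfl Lrfl
theorem f61015 : Led Lsl_gt (LP (LK LD1_c2 LD2_c18 LD3_c21)) = (LP (LK LD1_c4 LD2_c42 LD3_c2)) :=
  Lre_g IH (LK LD1_c2 LD2_c18 LD3_c21) (LK LD1_c4 LD2_c42 LD3_c2) Lrfl Lrfl
theorem f61017 : Led Lsl_gt (LP (LK LD1_c1 LD2_c32 LD3_c49)) = (LP (LK LD1_c0 LD2_c42 LD3_c59)) :=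
  Lre_g IH (LK LD1_c1 LD2_c32 LD3_c49) (LK LD1_c0 LD2_c42 LD3_c59) Lrfl Lrfl
theorem f61018 : Led Lsl_et (LP (LK LD1_c3 LD2_c12 LD3_c45)) = (LP (LK LD1_c1 LD2_c32 LD3_c49)) :=
  Lre_e IH (LK LD1_c3 LD2_c12 LD3_c45) (LK LD1_c1 LD2_c32 LD3_c49) Lrfl Lrfl
theorem f61019 : Led Lsl_df (LP (LK LD1_c4 LD2_c42 LD3_c2)) = (LP (LK LD1_c3 LD2_c12 LD3_c45)) :=
  Lgr Lrot132 (Lpe (f61015 IH) (Lpe (f61014 IH) (Lpe (f61012 IH) (Lpe (K7.f59487 IH) (Lpr_dt (K0.f25731 IH) (Lpe (K1.f20967 IH) (Lpr_df (K1.f60962 IH) (Lpr_et (K2.f61016 IH) (Lpe (f61017 IH) (Lpe (f61018 IH) (Lpn (LP (LK LD1_c3 LD2_c12 LD3_c45)))))))))))))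
theorem f61024 : Led Lsl_dt (LP (LK LD1_c4 LD2_c42 LD3_c2)) = (LP (LK LD1_c3 LD2_c12 LD3_c45)) :=
  Lgr Lrot42 (Lpr_df (f61019 IH) (Lpn (LP (LK LD1_c3 LD2_c12 LD3_c45))))
theorem f26932 : Led Lsl_et (LP (LK LD1_c0 LD2_c29 LD3_c45)) = (LP (LK LD1_c1 LD2_c5 LD3_c7)) :=
  Lre_e IH (LK LD1_c0 LD2_c29 LD3_c45) (LK LD1_c1 LD2_c5 LD3_c7) Lrfl Lrfl
theorem f60960 : Led Lsl_cf (LP (LK LD1_c0 LD2_c30 LD3_c15)) = (LP (LK LD1_c1 LD2_c5 LD3_c7)) :=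
  Lgr Lrot39 (Lpr_et (K7.f26011 IH) (Lpr_ct (K1.f60927 IH) (Lpr_et (f26932 IH) (Lpn (LP (LK LD1_c1 LD2_c5 LD3_c7))))))
theorem f27026 : Led Lsl_gt (LP (LK LD1_c1 LD2_c5 LD3_c7)) = (LP (LK LD1_c2 LD2_c16 LD3_c27)) :=
  Lre_g IH (LK LD1_c1 LD2_c5 LD3_c7) (LK LD1_c2 LD2_c16 LD3_c27) Lrfl Lrfl
theorem f27027 : Led Lsl_dt (LP (LK LD1_c2 LD2_c16 LD3_c27)) = (LP (LK LD1_c4 LD2_c38 LD3_c53)) :=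
  Lre_d IH (LK LD1_c2 LD2_c16 LD3_c27) (LK LD1_c4 LD2_c38 LD3_c53) Lrfl Lrfl
theorem f27028 : Led Lsl_gt (LP (LK LD1_c4 LD2_c38 LD3_c53)) = (LP (LK LD1_c9 LD2_c13 LD3_c34)) :=
  Lre_g IH (LK LD1_c4 LD2_c38 LD3_c53) (LK LD1_c9 LD2_c13 LD3_c34) Lrfl Lrfl
theorem f23120 : Led Lsl_et (LP (LK LD1_c0 LD2_c30 LD3_c1)) = (LP (LK LD1_c1 LD2_c5 LD3_c41)) :=
  Lre_e IH (LK LD1_c0 LD2_c30 LD3_c1) (LK LD1_c1 LD2_c5 LD3_c41) Lrfl Lrfl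
theorem f27029 : Led Lsl_gt (LP (LK LD1_c2 LD2_c17 LD3_c31)) = (LP (LK LD1_c1 LD2_c5 LD3_c41)) :=
  Lre_g IH (LK LD1_c2 LD2_c17 LD3_c31) (LK LD1_c1 LD2_c5 LD3_c41) Lrfl Lrfl
theorem f27030 : Led Lsl_et (LP (LK LD1_c4 LD2_c40 LD3_c59)) = (LP (LK LD1_c2 LD2_c17 LD3_c31)) :=
  Lre_e IH (LK LD1_c4 LD2_c40 LD3_c59) (LK LD1_c2 LD2_c17 LD3_c31) Lrfl Lrfl
theorem f27031 : Led Lsl_df (LP (LK LD1_c9 LD2_c13 LD3_c34)) = (LP (LK LD1_c4 LD2_c40 LD3_c59)) :=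
  Lgr Lrot132 (Lpe (f27028 IH) (Lpe (f27027 IH) (Lpe (f27026 IH) (Lpe (f26932 IH) (Lpe (K0.f26608 IH) (Lpr_gf (K0.f26936 IH) (Lpe (K0.f22836 IH) (Lpr_et (f23120 IH) (Lpe (f27029 IH) (Lpe (f27030 IH) (Lpn (LP (LK LD1_c4 LD2_c40 LD3_c59)))))))))))))
theorem f27034 : Led Lsl_dt (LP (LK LD1_c9 LD2_c13 LD3_c34)) = (LP (LK LD1_c4 LD2_c40 LD3_c59)) :=
  Lgr Lrot42 (Lpr_df (f27031 IH) (Lpn (LP (LK LD1_c4 LD2_c40 LD3_c59))))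
theorem f61032 : Led Lsl_cf (LP (LK LD1_c4 LD2_c40 LD3_c59)) = (LP (LK LD1_c3 LD2_c12 LD3_c45)) :=
  Lgr Lrot14 (Lpe (f27034 IH) (Lpe (f27028 IH) (Lpe (f27027 IH) (Lpe (f27026 IH) (Lpe (f60960 IH) (Lpr_gt (f61012 IH) (Lpr_dt (f61014 IH) (Lpr_gt (f61015 IH) (Lpr_dt (f61024 IH) (Lpn (LP (LK LD1_c3 LD2_c12 LD3_c45))))))))))))
theorem f61037 : Led Lsl_ct (LP (LK LD1_c4 LD2_c40 LD3_c59)) = (LP (LK LD1_c3 LD2_c12 LD3_c45)) :=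
  Lgr Lrot59 (Lpr_cf (f61032 IH) (Lpn (LP (LK LD1_c3 LD2_c12 LD3_c45))))
theorem f61062 : Led Lsl_cf (LP (LK LD1_c1 LD2_c5 LD3_c7)) = (LP (LK LD1_c0 LD2_c30 LD3_c15)) :=
  Lgr Lrot166 (Lpr_gt (f27026 IH) (Lpr_dt (f27027 IH) (Lpr_gt (f27028 IH) (Lpr_dt (f27034 IH) (Lpr_ct (f61037 IH) (Lpe (f61024 IH) (Lpe (f61015 IH) (Lpe (f61014 IH) (Lpe (f61012 IH) (Lpn (LP (LK LD1_c0 LD2_c30 LD3_c15))))))))))))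
theorem f61064 : Led Lsl_bt (LP (LK LD1_c1 LD2_c5 LD3_c7)) = (LP (LK LD1_c2 LD2_c16 LD3_c26)) :=
  Lre_b IH (LK LD1_c1 LD2_c5 LD3_c7) (LK LD1_c2 LD2_c16 LD3_c26) Lrfl Lrfl
theorem f61065 : Led Lsl_ct (LP (LK LD1_c2 LD2_c16 LD3_c26)) = (LP (LK LD1_c4 LD2_c38 LD3_c48)) :=
  Lre_c IH (LK LD1_c2 LD2_c16 LD3_c26) (LK LD1_c4 LD2_c38 LD3_c48) Lrfl Lrfl
theorem f61066 : Led Lsl_bt (LP (LK LD1_c1 LD2_c6 LD3_c6)) = (LP (LK LD1_c0 LD2_c30 LD3_c15)) :=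
  Lre_b IH (LK LD1_c1 LD2_c6 LD3_c6) (LK LD1_c0 LD2_c30 LD3_c15) Lrfl Lrfl
theorem f61067 : Led Lsl_ct (LP (LK LD1_c2 LD2_c18 LD3_c9)) = (LP (LK LD1_c1 LD2_c6 LD3_c6)) :=
  Lre_c IH (LK LD1_c2 LD2_c18 LD3_c9) (LK LD1_c1 LD2_c6 LD3_c6) Lrfl Lrfl
theorem f61068 : Led Lsl_bt (LP (LK LD1_c4 LD2_c38 LD3_c48)) = (LP (LK LD1_c2 LD2_c18 LD3_c9)) :=
  Lgr Lrot128 (Lpe (f61065 IH) (Lpe (f61064 IH) (Lpr_cf (f61062 IH) (Lpe (f61066 IH) (Lpe (f61067 IH) (Lpn (LP (LK LD1_c2 LD2_c18 LD3_c9))))))))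
theorem f61123 : Led Lsl_et (LP (LK LD1_c2 LD2_c16 LD3_c25)) = (LP (LK LD1_c4 LD2_c38 LD3_c48)) :=
  Lre_e IH (LK LD1_c2 LD2_c16 LD3_c25) (LK LD1_c4 LD2_c38 LD3_c48) Lrfl Lrfl
theorem f61124 : Led Lsl_et (LP (LK LD1_c2 LD2_c18 LD3_c9)) = (LP (LK LD1_c1 LD2_c6 LD3_c5)) :=
  Lre_e IH (LK LD1_c2 LD2_c18 LD3_c9) (LK LD1_c1 LD2_c6 LD3_c5) Lrfl Lrfl
theorem f61125 : Led Lsl_bf (LP (LK LD1_c2 LD2_c16 LD3_c25)) = (LP (LK LD1_c1 LD2_c6 LD3_c5)) :=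
  Lgr Lrot96 (Lpr_et (f61123 IH) (Lpr_bt (f61068 IH) (Lpr_et (f61124 IH) (Lpn (LP (LK LD1_c1 LD2_c6 LD3_c5))))))
theorem f124439 : Led Lsl_cf (LP (LK LD1_c4 LD2_c46 LD3_c0)) = (LP (LK LD1_c9 LD2_c13 LD3_c20)) :=
  Lgr Lrot160 (Lpr_gt (f78692 IH) (Lpe (K5.f60995 IH) (Lpr_bt (K5.f60994 IH) (Lpr_gt (K7.f124436 IH) (Lpr_ct (K7.f61142 IH) (Lpr_gt (K5.f60974 IH) (Lpe (K3.f60957 IH) (Lpe (f61125 IH) (Lpr_gt (K7.f61141 IH) (Lpe (f61144 IH) (Lpn (LP (LK LD1_c9 LD2_c13 LD3_c20)))))))))))))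
theorem f124444 : Led Lsl_ct (LP (LK LD1_c4 LD2_c46 LD3_c0)) = (LP (LK LD1_c9 LD2_c13 LD3_c20)) :=
  Lgr Lrot59 (Lpr_cf (f124439 IH) (Lpn (LP (LK LD1_c9 LD2_c13 LD3_c20))))
theorem f69138 : Led Lsl_bt (LP (LK LD1_c6 LD2_c1 LD3_c46)) = (LP (LK LD1_c2 LD2_c56 LD3_c61)) :=
  Lre_b IH (LK LD1_c6 LD2_c1 LD3_c46) (LK LD1_c2 LD2_c56 LD3_c61) Lrfl Lrfl
theorem f125693 : Led Lsl_bt (LP (LK LD1_c6 LD2_c25 LD3_c48)) = (LP (LK LD1_c3 LD2_c10 LD3_c41)) :=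
  Lre_b IH (LK LD1_c6 LD2_c25 LD3_c48) (LK LD1_c3 LD2_c10 LD3_c41) Lrfl Lrfl
theorem f125685 : Led Lsl_cf (LP (LK LD1_c4 LD2_c45 LD3_c0)) = (LP (LK LD1_c6 LD2_c25 LD3_c48)) :=
  Lgr Lrot97 (Lpr_bt (K5.f103188 IH) (Lpr_ct (K4.f13747 IH) (Lpr_bt (K4.f102164 IH) (Lpr_ct (K5.f125680 IH) (Lpr_bt (K5.f125684 IH) (Lpn (LP (LK LD1_c6 LD2_c25 LD3_c48))))))))
theorem f76272 : Led Lsl_gt (LP (LK LD1_c9 LD2_c22 LD3_c44)) = (LP (LK LD1_c4 LD2_c45 LD3_c0)) :=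
  Lre_g IH (LK LD1_c9 LD2_c22 LD3_c44) (LK LD1_c4 LD2_c45 LD3_c0) Lrfl Lrfl
theorem f125694 : Led Lsl_ct (LP (LK LD1_c6 LD2_c1 LD3_c46)) = (LP (LK LD1_c9 LD2_c22 LD3_c44)) :=
  Lgr Lrot64 (Lpr_bt (f69138 IH) (Lpe (K4.f69011 IH) (Lpr_bf (K6.f68986 IH) (Lpr_ct (K3.f69134 IH) (Lpe (K2.f61252 IH) (Lpe (K5.f69135 IH) (Lpr_gf (K5.f125689 IH) (Lpe (f125693 IH) (Lpe (f125685 IH) (Lpe (f76272 IH) (Lpn (LP (LK LD1_c9 LD2_c22 LD3_c44)))))))))))))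
theorem f158874 : Led Lsl_ff (LP (LK LD1_c4 LD2_c46 LD3_c0)) = (LP (LK LD1_c9 LD2_c22 LD3_c44)) :=
  Lgr Lrot23 (Lpr_ct (f124444 IH) (Lpr_ft (f158872 IH) (Lpr_ct (f125694 IH) (Lpn (LP (LK LD1_c9 LD2_c22 LD3_c44))))))
theorem f102170 : Led Lsl_gt (LP (LK LD1_c4 LD2_c45 LD3_c0)) = (LP (LK LD1_c9 LD2_c22 LD3_c43)) :=
  Lre_g IH (LK LD1_c4 LD2_c45 LD3_c0) (LK LD1_c9 LD2_c22 LD3_c43) Lrfl Lrfl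
theorem f158878 : Led Lsl_at (LP (LK LD1_c4 LD2_c46 LD3_c0)) = (LP (LK LD1_c9 LD2_c22 LD3_c43)) :=
  Lgr Lrot26 (Lpr_ff (f158874 IH) (Lpr_gt (f76272 IH) (Lpr_gt (f102170 IH) (Lpn (LP (LK LD1_c9 LD2_c22 LD3_c43))))))
theorem f157642 : Led Lsl_bt (LP (LK LD1_c15 LD2_c4 LD3_c55)) = (LP (LK LD1_c8 LD2_c0 LD3_c15)) :=
  Lre_b IH (LK LD1_c15 LD2_c4 LD3_c55) (LK LD1_c8 LD2_c0 LD3_c15) Lrfl Lrfl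
theorem f157643 : Led Lsl_ct (LP (LK LD1_c15 LD2_c4 LD3_c55)) = (LP (LK LD1_c9 LD2_c22 LD3_c43)) :=
  Lgr Lrot10 (Lpr_bt (f157642 IH) (Lpr_gt (f157639 IH) (Lpr_ct (f139791 IH) (Lpr_gt (f129255 IH) (Lpe (f129249 IH) (Lpr_bt (K7.f125557 IH) (Lpr_gt (K5.f125476 IH) (Lpe (f125693 IH) (Lpe (f125685 IH) (Lpr_gt (f102170 IH) (Lpn (LP (LK LD1_c9 LD2_c22 LD3_c43)))))))))))))
theorem f157649 : Led Lsl_cf (LP (LK LD1_c15 LD2_c4 LD3_c55)) = (LP (LK LD1_c9 LD2_c22 LD3_c43)) :=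
  Lgr Lrot11 (Lpr_ct (f157643 IH) (Lpn (LP (LK LD1_c9 LD2_c22 LD3_c43))))
theorem f158882 : Led Lsl_af (LP (LK LD1_c9 LD2_c13 LD3_c20)) = (LP (LK LD1_c15 LD2_c4 LD3_c55)) :=
  Lgr Lrot68 (Lpe (f124439 IH) (Lpr_at (f158878 IH) (Lpe (f157649 IH) (Lpn (LP (LK LD1_c15 LD2_c4 LD3_c55))))))
theorem f124441 : Led Lsl_gt (LP (LK LD1_c17 LD2_c7 LD3_c46)) = (LP (LK LD1_c9 LD2_c13 LD3_c20)) :=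
  Lre_g IH (LK LD1_c17 LD2_c7 LD3_c46) (LK LD1_c9 LD2_c13 LD3_c20) Lrfl Lrfl
theorem f150281 : Led Lsl_df (LP (LK LD1_c9 LD2_c49 LD3_c13)) = (LP (LK LD1_c5 LD2_c57 LD3_c55)) :=
  Lgr Lrot155 (Lpe (f150279 IH) (Lpr_ct (f75408 IH) (Lpr_gt (K2.f72714 IH) (Lpe (K4.f75154 IH) (Lpr_dt (K2.f74449 IH) (Lpe (K2.f68360 IH) (Lpr_gf (f139065 IH) (Lpe (f139177 IH) (Lpr_gf (f150271 IH) (Lpn (LP (LK LD1_c5 LD2_c57 LD3_c55))))))))))))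
theorem f72532 : Led Lsl_dt (LP (LK LD1_c2 LD2_c55 LD3_c31)) = (LP (LK LD1_c1 LD2_c23 LD3_c41)) :=
  Lre_d IH (LK LD1_c2 LD2_c55 LD3_c31) (LK LD1_c1 LD2_c23 LD3_c41) Lrfl Lrfl
theorem f150243 : Led Lsl_gt (LP (LK LD1_c5 LD2_c58 LD3_c23)) = (LP (LK LD1_c2 LD2_c55 LD3_c31)) :=
  Lre_g IH (LK LD1_c5 LD2_c58 LD3_c23) (LK LD1_c2 LD2_c55 LD3_c31) Lrfl Lrfl
theorem f139162 : Led Lsl_at (LP (LK LD1_c2 LD2_c27 LD3_c10)) = (LP (LK LD1_c4 LD2_c58 LD3_c18)) :=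
  Lre_a IH (LK LD1_c2 LD2_c27 LD3_c10) (LK LD1_c4 LD2_c58 LD3_c18) Lrfl Lrfl
theorem f139312 : Led Lsl_ft (LP (LK LD1_c4 LD2_c58 LD3_c42)) = (LP (LK LD1_c2 LD2_c27 LD3_c10)) :=
  Lre_f IH (LK LD1_c4 LD2_c58 LD3_c42) (LK LD1_c2 LD2_c27 LD3_c10) Lrfl Lrfl
theorem f150275 : Led Lsl_gt (LP (LK LD1_c4 LD2_c58 LD3_c42)) = (LP (LK LD1_c5 LD2_c57 LD3_c55)) :=
  Lgr Lrot5 (Lpr_ft (f139312 IH) (Lpr_at (f139162 IH) (Lpr_gf (f150271 IH) (Lpn (LP (LK LD1_c5 LD2_c57 LD3_c55))))))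
theorem f150357 : Led Lsl_cf (LP (LK LD1_c5 LD2_c58 LD3_c23)) = (LP (LK LD1_c11 LD2_c40 LD3_c27)) :=
  Lgr Lrot166 (Lpr_gt (f150243 IH) (Lpr_dt (f72532 IH) (Lpr_gt (K7.f72618 IH) (Lpr_dt (f74723 IH) (Lpe (f150237 IH) (Lpr_df (f150281 IH) (Lpe (f150275 IH) (Lpe (K6.f139069 IH) (Lpr_gf (f150259 IH) (Lpn (LP (LK LD1_c11 LD2_c40 LD3_c27))))))))))))
theorem f26528 : Led Lsl_dt (LP (LK LD1_c5 LD2_c58 LD3_c22)) = (LP (LK LD1_c2 LD2_c56 LD3_c11)) :=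
  Lre_d IH (LK LD1_c5 LD2_c58 LD3_c22) (LK LD1_c2 LD2_c56 LD3_c11) Lrfl Lrfl
theorem f72608 : Led Lsl_ct (LP (LK LD1_c11 LD2_c40 LD3_c29)) = (LP (LK LD1_c5 LD2_c58 LD3_c22)) :=
  Lgr Lrot59 (Lpr_cf (K7.f72590 IH) (Lpn (LP (LK LD1_c5 LD2_c58 LD3_c22))))
theorem f72587 : Led Lsl_ct (LP (LK LD1_c2 LD2_c55 LD3_c15)) = (LP (LK LD1_c1 LD2_c23 LD3_c35)) :=
  Lre_c IH (LK LD1_c2 LD2_c55 LD3_c15) (LK LD1_c1 LD2_c23 LD3_c35) Lrfl Lrfl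
theorem f72586 : Led Lsl_dt (LP (LK LD1_c5 LD2_c57 LD3_c50)) = (LP (LK LD1_c2 LD2_c55 LD3_c15)) :=
  Lre_d IH (LK LD1_c5 LD2_c57 LD3_c50) (LK LD1_c2 LD2_c55 LD3_c15) Lrfl Lrfl
theorem f150374 : Led Lsl_ct (LP (LK LD1_c2 LD2_c56 LD3_c12)) = (LP (LK LD1_c5 LD2_c57 LD3_c50)) :=
  Lgr Lrot176 (Lpe (K2.f72640 IH) (Lpr_cf (f150357 IH) (Lpe (f26556 IH) (Lpe (f26555 IH) (Lpe (f26554 IH) (Lpe (K7.f26553 IH) (Lpr_df (K7.f26545 IH) (Lpe (K7.f26524 IH) (Lpe (f26528 IH) (Lpe (f72608 IH) (Lpe (K7.f72589 IH) (Lpe (K7.f72588 IH) (Lpe (K7.f72600 IH) (Lpe (f72587 IH) (Lpe (f72586 IH) (Lpn (LP (LK LD1_c5 LD2_c57 LD3_c50))))))))))))))))))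
theorem f72649 : Led Lsl_gt (LP (LK LD1_c1 LD2_c24 LD3_c3)) = (LP (LK LD1_c2 LD2_c56 LD3_c12)) :=
  Lre_g IH (LK LD1_c1 LD2_c24 LD3_c3) (LK LD1_c2 LD2_c56 LD3_c12) Lrfl Lrfl
theorem f72661 : Led Lsl_ct (LP (LK LD1_c0 LD2_c38 LD3_c49)) = (LP (LK LD1_c1 LD2_c24 LD3_c3)) :=
  Lre_c IH (LK LD1_c0 LD2_c38 LD3_c49) (LK LD1_c1 LD2_c24 LD3_c3) Lrfl Lrfl
theorem f72536 : Led Lsl_ct (LP (LK LD1_c0 LD2_c17 LD3_c12)) = (LP (LK LD1_c0 LD2_c38 LD3_c44)) :=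
  Lre_c IH (LK LD1_c0 LD2_c17 LD3_c12) (LK LD1_c0 LD2_c38 LD3_c44) Lrfl Lrfl
theorem f72610 : Led Lsl_dt (LP (LK LD1_c2 LD2_c55 LD3_c15)) = (LP (LK LD1_c5 LD2_c57 LD3_c50)) :=
  Lre_d IH (LK LD1_c2 LD2_c55 LD3_c15) (LK LD1_c5 LD2_c57 LD3_c50) Lrfl Lrfl
theorem f72585 : Led Lsl_ct (LP (LK LD1_c1 LD2_c23 LD3_c35)) = (LP (LK LD1_c2 LD2_c55 LD3_c15)) :=
  Lre_c IH (LK LD1_c1 LD2_c23 LD3_c35) (LK LD1_c2 LD2_c55 LD3_c15) Lrfl Lrfl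
theorem f150382 : Led Lsl_gt (LP (LK LD1_c0 LD2_c38 LD3_c44)) = (LP (LK LD1_c1 LD2_c23 LD3_c35)) :=
  Lgr Lrot150 (Lpe (f72536 IH) (Lpe (K2.f72457 IH) (Lpe (K2.f74567 IH) (Lpr_gt (K2.f56898 IH) (Lpr_ct (f72661 IH) (Lpr_gt (f72649 IH) (Lpr_ct (f150374 IH) (Lpe (f72610 IH) (Lpe (f72585 IH) (Lpn (LP (LK LD1_c1 LD2_c23 LD3_c35))))))))))))
theorem f72535 : Led Lsl_dt (LP (LK LD1_c0 LD2_c38 LD3_c44)) = (LP (LK LD1_c1 LD2_c23 LD3_c52)) :=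
  Lre_d IH (LK LD1_c0 LD2_c38 LD3_c44) (LK LD1_c1 LD2_c23 LD3_c52) Lrfl Lrfl
theorem f75149 : Led Lsl_af (LP (LK LD1_c4 LD2_c40 LD3_c37)) = (LP (LK LD1_c6 LD2_c0 LD3_c33)) :=
  Lgr Lrot0 (Lpr_at (K2.f75141 IH) (Lpn (LP (LK LD1_c6 LD2_c0 LD3_c33))))
theorem f105030 : Led Lsl_gt (LP (LK LD1_c4 LD2_c46 LD3_c38)) = (LP (LK LD1_c4 LD2_c40 LD3_c37)) :=
  Lgr Lrot46 (Lpr_gf (K4.f105026 IH) (Lpr_ft (K2.f75193 IH) (Lpe (f75149 IH) (Lpn (LP (LK LD1_c4 LD2_c40 LD3_c37))))))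
theorem f56894 : Led Lsl_gt (LP (LK LD1_c0 LD2_c31 LD3_c16)) = (LP (LK LD1_c1 LD2_c8 LD3_c17)) :=
  Lre_g IH (LK LD1_c0 LD2_c31 LD3_c16) (LK LD1_c1 LD2_c8 LD3_c17) Lrfl Lrfl
theorem f58888 : Led Lsl_dt (LP (LK LD1_c2 LD2_c22 LD3_c16)) = (LP (LK LD1_c4 LD2_c48 LD3_c46)) :=
  Lre_d IH (LK LD1_c2 LD2_c22 LD3_c16) (LK LD1_c4 LD2_c48 LD3_c46) Lrfl Lrfl
theorem f105064 : Led Lsl_cf (LP (LK LD1_c4 LD2_c48 LD3_c46)) = (LP (LK LD1_c5 LD2_c59 LD3_c37)) :=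
  Lgr Lrot99 (Lpe (f58888 IH) (Lpe (f56899 IH) (Lpe (f56894 IH) (Lpe (K3.f69677 IH) (Lpe (K4.f105024 IH) (Lpe (K4.f105025 IH) (Lpr_gt (f105030 IH) (Lpr_ct (K2.f72821 IH) (Lpr_gt (K4.f104929 IH) (Lpn (LP (LK LD1_c5 LD2_c59 LD3_c37))))))))))))
theorem f105097 : Led Lsl_gt (LP (LK LD1_c4 LD2_c48 LD3_c46)) = (LP (LK LD1_c5 LD2_c58 LD3_c12)) :=
  Lgr Lrot94 (Lpr_cf (f105064 IH) (Lpe (K4.f104909 IH) (Lpr_dt (K2.f61285 IH) (Lpe (K2.f72469 IH) (Lpr_dt (K2.f72522 IH) (Lpe (K2.f72567 IH) (Lpe (K2.f72552 IH) (Lpe (K7.f72553 IH) (Lpe (f72554 IH) (Lpn (LP (LK LD1_c5 LD2_c58 LD3_c12))))))))))))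
theorem f150359 : Led Lsl_gt (LP (LK LD1_c1 LD2_c23 LD3_c52)) = (LP (LK LD1_c2 LD2_c55 LD3_c19)) :=
  Lgr Lrot150 (Lpe (K2.f14071 IH) (Lpe (K4.f74278 IH) (Lpe (K2.f74262 IH) (Lpr_gt (K4.f104929 IH) (Lpe (f105064 IH) (Lpr_gt (f105097 IH) (Lpe (f150237 IH) (Lpr_df (f150281 IH) (Lpe (f150273 IH) (Lpn (LP (LK LD1_c2 LD2_c55 LD3_c19))))))))))))
theorem f150384 : Led Lsl_gf (LP (LK LD1_c1 LD2_c56 LD3_c22)) = (LP (LK LD1_c2 LD2_c55 LD3_c15)) :=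
  Lgr Lrot104 (Lpr_ct (K6.f139358 IH) (Lpe (K6.f139178 IH) (Lpe (f139177 IH) (Lpr_gf (f150271 IH) (Lpe (f150273 IH) (Lpe (f150359 IH) (Lpe (f72535 IH) (Lpr_gt (f150382 IH) (Lpr_ct (f72585 IH) (Lpn (LP (LK LD1_c2 LD2_c55 LD3_c15))))))))))))
theorem f139389 : Led Lsl_dt (LP (LK LD1_c1 LD2_c56 LD3_c22)) = (LP (LK LD1_c3 LD2_c59 LD3_c17)) :=
  Lre_d IH (LK LD1_c1 LD2_c56 LD3_c22) (LK LD1_c3 LD2_c59 LD3_c17) Lrfl Lrfl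
theorem f139397 : Led Lsl_ct (LP (LK LD1_c3 LD2_c59 LD3_c17)) = (LP (LK LD1_c3 LD2_c0 LD3_c37)) :=
  Lgr Lrot40 (Lpr_ff (K6.f139390 IH) (Lpe (K4.f74532 IH) (Lpr_ff (K6.f139293 IH) (Lpn (LP (LK LD1_c3 LD2_c0 LD3_c37))))))
theorem f104951 : Led Lsl_ct (LP (LK LD1_c2 LD2_c21 LD3_c14)) = (LP (LK LD1_c4 LD2_c46 LD3_c34)) :=
  Lre_c IH (LK LD1_c2 LD2_c21 LD3_c14) (LK LD1_c4 LD2_c46 LD3_c34) Lrfl Lrfl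
theorem f150391 : Led Lsl_gt (LP (LK LD1_c4 LD2_c46 LD3_c34)) = (LP (LK LD1_c5 LD2_c57 LD3_c50)) :=
  Lgr Lrot94 (Lpe (f104951 IH) (Lpr_gt (K4.f26446 IH) (Lpr_dt (K4.f26445 IH) (Lpr_gt (K6.f14119 IH) (Lpe (K6.f139297 IH) (Lpe (f139397 IH) (Lpe (f139389 IH) (Lpr_gf (f150384 IH) (Lpe (f72586 IH) (Lpn (LP (LK LD1_c5 LD2_c57 LD3_c50))))))))))))
theorem f79304 : Led Lsl_gt (LP (LK LD1_c1 LD2_c7 LD3_c54)) = (LP (LK LD1_c2 LD2_c21 LD3_c14)) :=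
  Lre_g IH (LK LD1_c1 LD2_c7 LD3_c54) (LK LD1_c2 LD2_c21 LD3_c14) Lrfl Lrfl
theorem f79303 : Led Lsl_bt (LP (LK LD1_c0 LD2_c31 LD3_c8)) = (LP (LK LD1_c1 LD2_c7 LD3_c54)) :=
  Lre_b IH (LK LD1_c0 LD2_c31 LD3_c8) (LK LD1_c1 LD2_c7 LD3_c54) Lrfl Lrfl
theorem f150394 : Led Lsl_bf (LP (LK LD1_c4 LD2_c46 LD3_c0)) = (LP (LK LD1_c2 LD2_c56 LD3_c12)) :=
  Lgr Lrot156 (Lpr_gt (f78692 IH) (Lpe (K5.f79566 IH) (Lpr_ct (K3.f77992 IH) (Lpr_gt (K2.f25202 IH) (Lpe (K2.f13781 IH) (Lpr_bt (f79303 IH) (Lpr_gt (f79304 IH) (Lpr_ct (f104951 IH) (Lpr_gt (f150391 IH) (Lpe (f150374 IH) (Lpn (LP (LK LD1_c2 LD2_c56 LD3_c12)))))))))))))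
theorem f150397 : Led Lsl_bt (LP (LK LD1_c4 LD2_c46 LD3_c0)) = (LP (LK LD1_c2 LD2_c56 LD3_c12)) :=
  Lgr Lrot127 (Lpr_bf (f150394 IH) (Lpn (LP (LK LD1_c2 LD2_c56 LD3_c12))))
theorem f120636 : Led Lsl_bt (LP (LK LD1_c2 LD2_c21 LD3_c16)) = (LP (LK LD1_c4 LD2_c45 LD3_c18)) :=
  Lre_b IH (LK LD1_c2 LD2_c21 LD3_c16) (LK LD1_c4 LD2_c45 LD3_c18) Lrfl Lrfl
theorem f14013 : Led Lsl_gt (LP (LK LD1_c4 LD2_c45 LD3_c18)) = (LP (LK LD1_c9 LD2_c21 LD3_c43)) :=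
  Lre_g IH (LK LD1_c4 LD2_c45 LD3_c18) (LK LD1_c9 LD2_c21 LD3_c43) Lrfl Lrfl
theorem f137616 : Led Lsl_bt (LP (LK LD1_c17 LD2_c17 LD3_c51)) = (LP (LK LD1_c9 LD2_c21 LD3_c43)) :=
  Lre_b IH (LK LD1_c17 LD2_c17 LD3_c51) (LK LD1_c9 LD2_c21 LD3_c43) Lrfl Lrfl
theorem f150419 : Led Lsl_cf (LP (LK LD1_c17 LD2_c7 LD3_c46)) = (LP (LK LD1_c17 LD2_c17 LD3_c51)) :=
  Lgr Lrot160 (Lpr_gt (f124441 IH) (Lpe (f124444 IH) (Lpr_bt (f150397 IH) (Lpr_gt (K2.f72641 IH) (Lpr_ct (K4.f72719 IH) (Lpr_gt (K0.f26404 IH) (Lpe (K2.f72711 IH) (Lpr_bt (f120636 IH) (Lpr_gt (f14013 IH) (Lpe (f137616 IH) (Lpn (LP (LK LD1_c17 LD2_c17 LD3_c51)))))))))))))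
theorem f40587 : Led Lsl_gt (LP (LK LD1_c9 LD2_c21 LD3_c43)) = (LP (LK LD1_c4 LD2_c44 LD3_c28)) :=
  Lre_g IH (LK LD1_c9 LD2_c21 LD3_c43) (LK LD1_c4 LD2_c44 LD3_c28) Lrfl Lrfl
theorem f60996 : Led Lsl_gt (LP (LK LD1_c2 LD2_c21 LD3_c2)) = (LP (LK LD1_c4 LD2_c45 LD3_c61)) :=
  Lre_g IH (LK LD1_c2 LD2_c21 LD3_c2) (LK LD1_c4 LD2_c45 LD3_c61) Lrfl Lrfl
theorem f150424 : Led Lsl_ct (LP (LK LD1_c4 LD2_c45 LD3_c61)) = (LP (LK LD1_c9 LD2_c24 LD3_c34)) :=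
  Lre_c IH (LK LD1_c4 LD2_c45 LD3_c61) (LK LD1_c9 LD2_c24 LD3_c34) Lrfl Lrfl
theorem f150425 : Led Lsl_gf (LP (LK LD1_c17 LD2_c7 LD3_c46)) = (LP (LK LD1_c9 LD2_c24 LD3_c34)) :=
  Lgr Lrot129 (Lpr_cf (f150419 IH) (Lpr_bt (f137616 IH) (Lpr_gt (f40587 IH) (Lpe (K6.f13777 IH) (Lpr_ct (K0.f13774 IH) (Lpr_gt (K2.f62318 IH) (Lpe (K3.f77992 IH) (Lpr_bt (K5.f79566 IH) (Lpr_gt (f60996 IH) (Lpr_ct (f150424 IH) (Lpn (LP (LK LD1_c9 LD2_c24 LD3_c34)))))))))))))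
theorem f158886 : Led Lsl_ft (LP (LK LD1_c9 LD2_c24 LD3_c34)) = (LP (LK LD1_c15 LD2_c4 LD3_c55)) :=
  Lgr Lrot2 (Lpe (f150425 IH) (Lpr_gt (f124441 IH) (Lpr_af (f158882 IH) (Lpn (LP (LK LD1_c15 LD2_c4 LD3_c55))))))
theorem f158896 : Led Lsl_ff (LP (LK LD1_c9 LD2_c24 LD3_c34)) = (LP (LK LD1_c15 LD2_c4 LD3_c55)) :=
  Lgr Lrot3 (Lpr_ft (f158886 IH) (Lpn (LP (LK LD1_c15 LD2_c4 LD3_c55))))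
theorem f158884 : Led Lsl_at (LP (LK LD1_c9 LD2_c13 LD3_c20)) = (LP (LK LD1_c15 LD2_c4 LD3_c55)) :=
  Lgr Lrot100 (Lpr_af (f158882 IH) (Lpn (LP (LK LD1_c15 LD2_c4 LD3_c55))))
theorem f158898 : Led Lsl_at (LP (LK LD1_c9 LD2_c24 LD3_c34)) = (LP (LK LD1_c6 LD2_c1 LD3_c46)) :=
  Lgr Lrot66 (Lpr_ff (f158896 IH) (Lpe (f158884 IH) (Lpr_ff (f158868 IH) (Lpn (LP (LK LD1_c6 LD2_c1 LD3_c46))))))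
theorem f158890 : Led Lsl_bf (LP (LK LD1_c9 LD2_c24 LD3_c34)) = (LP (LK LD1_c11 LD2_c24 LD3_c56)) :=
  Lgr Lrot61 (Lpr_ft (f158886 IH) (Lpr_bt (f157642 IH) (Lpr_ft (f157665 IH) (Lpn (LP (LK LD1_c11 LD2_c24 LD3_c56))))))
theorem f149379 : Led Lsl_bt (LP (LK LD1_c4 LD2_c38 LD3_c46)) = (LP (LK LD1_c8 LD2_c0 LD3_c2)) :=
  Lgr Lrot95 (Lpr_df (K7.f149374 IH) (Lpe (K6.f59887 IH) (Lpe (f139422 IH) (Lpn (LP (LK LD1_c8 LD2_c0 LD3_c2))))))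
theorem f158923 : Led Lsl_af (LP (LK LD1_c11 LD2_c24 LD3_c56)) = (LP (LK LD1_c8 LD2_c0 LD3_c2)) :=
  Lgr Lrot36 (Lpe (f158890 IH) (Lpr_at (f158898 IH) (Lpr_bt (f69138 IH) (Lpe (f158862 IH) (Lpr_bt (f149379 IH) (Lpn (LP (LK LD1_c8 LD2_c0 LD3_c2))))))))
theorem f101602 : Led Lsl_dt (LP (LK LD1_c8 LD2_c0 LD3_c15)) = (LP (LK LD1_c3 LD2_c59 LD3_c34)) :=
  Lre_d IH (LK LD1_c8 LD2_c0 LD3_c15) (LK LD1_c3 LD2_c59 LD3_c34) Lrfl Lrfl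
theorem f157657 : Led Lsl_ff (LP (LK LD1_c8 LD2_c0 LD3_c15)) = (LP (LK LD1_c11 LD2_c24 LD3_c56)) :=
  Lgr Lrot19 (Lpr_dt (f101602 IH) (Lpr_ft (f157637 IH) (Lpr_dt (f74179 IH) (Lpn (LP (LK LD1_c11 LD2_c24 LD3_c56))))))
theorem f139440 : Led Lsl_dt (LP (LK LD1_c3 LD2_c59 LD3_c24)) = (LP (LK LD1_c8 LD2_c0 LD3_c2)) :=
  Lre_d IH (LK LD1_c3 LD2_c59 LD3_c24) (LK LD1_c8 LD2_c0 LD3_c2) Lrfl Lrfl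
theorem f139512 : Led Lsl_ft (LP (LK LD1_c8 LD2_c0 LD3_c2)) = (LP (LK LD1_c6 LD2_c1 LD3_c48)) :=
  Lgr Lrot54 (Lpe (f139440 IH) (Lpr_ff (K6.f139436 IH) (Lpr_df (f139506 IH) (Lpn (LP (LK LD1_c6 LD2_c1 LD3_c48))))))
theorem f139514 : Led Lsl_ff (LP (LK LD1_c8 LD2_c0 LD3_c2)) = (LP (LK LD1_c6 LD2_c1 LD3_c48)) :=
  Lgr Lrot3 (Lpr_ft (f139512 IH) (Lpn (LP (LK LD1_c6 LD2_c1 LD3_c48))))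
theorem f158935 : Led Lsl_at (LP (LK LD1_c8 LD2_c0 LD3_c15)) = (LP (LK LD1_c6 LD2_c1 LD3_c48)) :=
  Lgr Lrot66 (Lpr_ff (f157657 IH) (Lpr_af (f158923 IH) (Lpr_ff (f139514 IH) (Lpn (LP (LK LD1_c6 LD2_c1 LD3_c48))))))
theorem f26520 : Led Lsl_at (LP (LK LD1_c5 LD2_c50 LD3_c11)) = (LP (LK LD1_c11 LD2_c28 LD3_c42)) :=
  Lre_a IH (LK LD1_c5 LD2_c50 LD3_c11) (LK LD1_c11 LD2_c28 LD3_c42) Lrfl Lrfl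
theorem f158939 : Led Lsl_cf (LP (LK LD1_c8 LD2_c0 LD3_c15)) = (LP (LK LD1_c11 LD2_c28 LD3_c42)) :=
  Lgr Lrot1 (Lpr_at (f158935 IH) (Lpr_ct (K6.f26498 IH) (Lpr_at (f26520 IH) (Lpn (LP (LK LD1_c11 LD2_c28 LD3_c42))))))
theorem f73469 : Led Lsl_ct (LP (LK LD1_c5 LD2_c47 LD3_c20)) = (LP (LK LD1_c2 LD2_c49 LD3_c38)) :=
  Lre_c IH (LK LD1_c5 LD2_c47 LD3_c20) (LK LD1_c2 LD2_c49 LD3_c38) Lrfl Lrfl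
theorem f158955 : Led Lsl_gt (LP (LK LD1_c7 LD2_c57 LD3_c20)) = (LP (LK LD1_c11 LD2_c28 LD3_c42)) :=
  Lgr Lrot150 (Lpe (K6.f40650 IH) (Lpe (K7.f150694 IH) (Lpr_df (K7.f150696 IH) (Lpe (f74172 IH) (Lpr_ct (f73469 IH) (Lpe (f112522 IH) (Lpr_ct (f101601 IH) (Lpe (f101602 IH) (Lpr_cf (f158939 IH) (Lpn (LP (LK LD1_c11 LD2_c28 LD3_c42))))))))))))
theorem f158960 : Led Lsl_gf (LP (LK LD1_c8 LD2_c0 LD3_c39)) = (LP (LK LD1_c11 LD2_c28 LD3_c42)) :=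
  Lgr Lrot76 (Lpr_af (K6.f40041 IH) (Lpr_ff (K6.f40361 IH) (Lpr_gt (f158955 IH) (Lpn (LP (LK LD1_c11 LD2_c28 LD3_c42))))))
theorem f40020 : Led Lsl_at (LP (LK LD1_c3 LD2_c57 LD3_c57)) = (LP (LK LD1_c1 LD2_c55 LD3_c45)) :=
  Lre_a IH (LK LD1_c3 LD2_c57 LD3_c57) (LK LD1_c1 LD2_c55 LD3_c45) Lrfl Lrfl
theorem f40021 : Led Lsl_ff (LP (LK LD1_c3 LD2_c57 LD3_c57)) = (LP (LK LD1_c4 LD2_c26 LD3_c37)) :=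
  Lgr Lrot30 (Lpr_at (f40020 IH) (Lpr_ft (K1.f40011 IH) (Lpr_at (K0.f16142 IH) (Lpn (LP (LK LD1_c4 LD2_c26 LD3_c37))))))
theorem f100424 : Led Lsl_df (LP (LK LD1_c4 LD2_c26 LD3_c37)) = (LP (LK LD1_c3 LD2_c3 LD3_c16)) :=
  Lgr Lrot78 (Lpe (f40021 IH) (Lpr_dt (K4.f40360 IH) (Lpr_ft (K5.f99588 IH) (Lpn (LP (LK LD1_c3 LD2_c3 LD3_c16))))))
theorem f99574 : Led Lsl_ft (LP (LK LD1_c0 LD2_c54 LD3_c35)) = (LP (LK LD1_c1 LD2_c27 LD3_c32)) :=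
  Lgr Lrot4 (Lpe (K1.f35530 IH) (Lpr_ff (K4.f99557 IH) (Lpe (K6.f69322 IH) (Lpn (LP (LK LD1_c1 LD2_c27 LD3_c32))))))
theorem f36299 : Led Lsl_gt (LP (LK LD1_c0 LD2_c54 LD3_c35)) = (LP (LK LD1_c1 LD2_c55 LD3_c42)) :=
  Lre_g IH (LK LD1_c0 LD2_c54 LD3_c35) (LK LD1_c1 LD2_c55 LD3_c42) Lrfl Lrfl
theorem f100428 : Led Lsl_at (LP (LK LD1_c1 LD2_c27 LD3_c32)) = (LP (LK LD1_c3 LD2_c3 LD3_c16)) :=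
  Lre_a IH (LK LD1_c1 LD2_c27 LD3_c32) (LK LD1_c3 LD2_c3 LD3_c16) Lrfl Lrfl
theorem f101675 : Led Lsl_gt (LP (LK LD1_c1 LD2_c55 LD3_c42)) = (LP (LK LD1_c3 LD2_c3 LD3_c16)) :=
  Lgr Lrot46 (Lpe (f36299 IH) (Lpr_ft (f99574 IH) (Lpr_at (f100428 IH) (Lpn (LP (LK LD1_c3 LD2_c3 LD3_c16))))))
theorem f101677 : Led Lsl_dt (LP (LK LD1_c3 LD2_c57 LD3_c52)) = (LP (LK LD1_c1 LD2_c55 LD3_c42)) :=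
  Lre_d IH (LK LD1_c3 LD2_c57 LD3_c52) (LK LD1_c1 LD2_c55 LD3_c42) Lrfl Lrfl
theorem f157667 : Led Lsl_af (LP (LK LD1_c8 LD2_c0 LD3_c15)) = (LP (LK LD1_c6 LD2_c1 LD3_c48)) :=
  Lgr Lrot45 (Lpr_ft (f157665 IH) (Lpe (f139433 IH) (Lpr_ft (f139512 IH) (Lpn (LP (LK LD1_c6 LD2_c1 LD3_c48))))))
theorem f158953 : Led Lsl_dt (LP (LK LD1_c7 LD2_c59 LD3_c57)) = (LP (LK LD1_c11 LD2_c28 LD3_c42)) :=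
  Lgr Lrot120 (Lpe (f112553 IH) (Lpe (f112543 IH) (Lpe (K7.f37818 IH) (Lpe (K6.f37819 IH) (Lpe (K7.f59895 IH) (Lpe (f139422 IH) (Lpr_ft (f139512 IH) (Lpe (f157667 IH) (Lpr_cf (f158939 IH) (Lpn (LP (LK LD1_c11 LD2_c28 LD3_c42))))))))))))
theorem f158963 : Led Lsl_gf (LP (LK LD1_c3 LD2_c57 LD3_c52)) = (LP (LK LD1_c3 LD2_c4 LD3_c2)) :=
  Lgr Lrot144 (Lpr_dt (f101677 IH) (Lpr_gt (f101675 IH) (Lpe (f100424 IH) (Lpe (K0.f16137 IH) (Lpe (K1.f40038 IH) (Lpr_gf (f158960 IH) (Lpe (f158953 IH) (Lpr_gf (f112545 IH) (Lpe (f37209 IH) (Lpn (LP (LK LD1_c3 LD2_c4 LD3_c2))))))))))))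
theorem f37206 : Led Lsl_ct (LP (LK LD1_c6 LD2_c14 LD3_c17)) = (LP (LK LD1_c3 LD2_c4 LD3_c2)) :=
  Lre_c IH (LK LD1_c6 LD2_c14 LD3_c17) (LK LD1_c3 LD2_c4 LD3_c2) Lrfl Lrfl
theorem f69508 : Led Lsl_et (LP (LK LD1_c0 LD2_c28 LD3_c24)) = (LP (LK LD1_c1 LD2_c2 LD3_c18)) :=
  Lre_e IH (LK LD1_c0 LD2_c28 LD3_c24) (LK LD1_c1 LD2_c2 LD3_c18) Lrfl Lrfl
theorem f69509 : Led Lsl_gt (LP (LK LD1_c1 LD2_c2 LD3_c18)) = (LP (LK LD1_c2 LD2_c10 LD3_c32)) :=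
  Lre_g IH (LK LD1_c1 LD2_c2 LD3_c18) (LK LD1_c2 LD2_c10 LD3_c32) Lrfl Lrfl
theorem f69510 : Led Lsl_et (LP (LK LD1_c4 LD2_c26 LD3_c46)) = (LP (LK LD1_c2 LD2_c10 LD3_c32)) :=
  Lre_e IH (LK LD1_c4 LD2_c26 LD3_c46) (LK LD1_c2 LD2_c10 LD3_c32) Lrfl Lrfl
theorem f46719 : Led Lsl_gt (LP (LK LD1_c8 LD2_c10 LD3_c43)) = (LP (LK LD1_c4 LD2_c4 LD3_c58)) :=
  Lre_g IH (LK LD1_c8 LD2_c10 LD3_c43) (LK LD1_c4 LD2_c4 LD3_c58) Lrfl Lrfl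
theorem f69511 : Led Lsl_dt (LP (LK LD1_c4 LD2_c26 LD3_c46)) = (LP (LK LD1_c8 LD2_c10 LD3_c43)) :=
  Lgr Lrot136 (Lpr_et (f69510 IH) (Lpe (f69509 IH) (Lpe (f69508 IH) (Lpr_dt (K0.f16618 IH) (Lpe (K1.f16641 IH) (Lpe (K2.f38007 IH) (Lpr_gf (K2.f69486 IH) (Lpe (K1.f56336 IH) (Lpe (K1.f56343 IH) (Lpe (f46719 IH) (Lpn (LP (LK LD1_c8 LD2_c10 LD3_c43)))))))))))))
theorem f69516 : Led Lsl_gt (LP (LK LD1_c8 LD2_c51 LD3_c11)) = (LP (LK LD1_c4 LD2_c26 LD3_c46)) :=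
  Lre_g IH (LK LD1_c8 LD2_c51 LD3_c11) (LK LD1_c4 LD2_c26 LD3_c46) Lrfl Lrfl
theorem f46878 : Led Lsl_et (LP (LK LD1_c1 LD2_c59 LD3_c34)) = (LP (LK LD1_c4 LD2_c4 LD3_c58)) :=
  Lre_e IH (LK LD1_c1 LD2_c59 LD3_c34) (LK LD1_c4 LD2_c4 LD3_c58) Lrfl Lrfl
theorem f56337 : Led Lsl_dt (LP (LK LD1_c4 LD2_c4 LD3_c58)) = (LP (LK LD1_c3 LD2_c9 LD3_c49)) :=
  Lgr Lrot77 (Lpe (f46878 IH) (Lpe (K1.f46591 IH) (Lpr_ef (K1.f56327 IH) (Lpe (K4.f36404 IH) (Lpe (K1.f56336 IH) (Lpn (LP (LK LD1_c3 LD2_c9 LD3_c49))))))))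
theorem f56611 : Led Lsl_et (LP (LK LD1_c1 LD2_c20 LD3_c35)) = (LP (LK LD1_c2 LD2_c48 LD3_c60)) :=
  Lre_e IH (LK LD1_c1 LD2_c20 LD3_c35) (LK LD1_c2 LD2_c48 LD3_c60) Lrfl Lrfl
theorem f60405 : Led Lsl_cf (LP (LK LD1_c3 LD2_c9 LD3_c49)) = (LP (LK LD1_c2 LD2_c48 LD3_c60)) :=
  Lgr Lrot39 (Lpr_et (K1.f56336 IH) (Lpr_ct (K1.f60403 IH) (Lpr_et (f56611 IH) (Lpn (LP (LK LD1_c2 LD2_c48 LD3_c60))))))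
theorem f59299 : Led Lsl_dt (LP (LK LD1_c5 LD2_c46 LD3_c34)) = (LP (LK LD1_c2 LD2_c48 LD3_c60)) :=
  Lre_d IH (LK LD1_c5 LD2_c46 LD3_c34) (LK LD1_c2 LD2_c48 LD3_c60) Lrfl Lrfl
theorem f60544 : Led Lsl_gt (LP (LK LD1_c16 LD2_c32 LD3_c16)) = (LP (LK LD1_c8 LD2_c50 LD3_c53)) :=
  Lre_g IH (LK LD1_c16 LD2_c32 LD3_c16) (LK LD1_c8 LD2_c50 LD3_c53) Lrfl Lrfl
theorem f69532 : Led Lsl_ct (LP (LK LD1_c8 LD2_c51 LD3_c11)) = (LP (LK LD1_c16 LD2_c32 LD3_c16)) :=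
  Lgr Lrot8 (Lpr_gt (f69516 IH) (Lpr_dt (f69511 IH) (Lpr_gt (f46719 IH) (Lpr_dt (f56337 IH) (Lpr_cf (f60405 IH) (Lpe (f59299 IH) (Lpe (K2.f60527 IH) (Lpe (K2.f60532 IH) (Lpe (f60544 IH) (Lpn (LP (LK LD1_c16 LD2_c32 LD3_c16))))))))))))
theorem f69536 : Led Lsl_cf (LP (LK LD1_c8 LD2_c51 LD3_c11)) = (LP (LK LD1_c16 LD2_c32 LD3_c16)) :=
  Lgr Lrot11 (Lpr_ct (f69532 IH) (Lpn (LP (LK LD1_c16 LD2_c32 LD3_c16))))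
theorem f69540 : Led Lsl_ct (LP (LK LD1_c3 LD2_c9 LD3_c49)) = (LP (LK LD1_c2 LD2_c48 LD3_c60)) :=
  Lgr Lrot7 (Lpe (f56337 IH) (Lpe (f46719 IH) (Lpe (f69511 IH) (Lpe (f69516 IH) (Lpr_cf (f69536 IH) (Lpr_gt (f60544 IH) (Lpr_dt (K2.f60532 IH) (Lpr_gt (K2.f60527 IH) (Lpr_dt (f59299 IH) (Lpn (LP (LK LD1_c2 LD2_c48 LD3_c60))))))))))))
theorem f69547 : Led Lsl_cf (LP (LK LD1_c6 LD2_c24 LD3_c23)) = (LP (LK LD1_c5 LD2_c46 LD3_c35)) :=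
  Lgr Lrot108 (Lpr_ft (K1.f56348 IH) (Lpr_ct (f69540 IH) (Lpr_ft (K1.f60322 IH) (Lpn (LP (LK LD1_c5 LD2_c46 LD3_c35))))))
theorem f37210 : Led Lsl_et (LP (LK LD1_c3 LD2_c4 LD3_c4)) = (LP (LK LD1_c1 LD2_c28 LD3_c4)) :=
  Lre_e IH (LK LD1_c3 LD2_c4 LD3_c4) (LK LD1_c1 LD2_c28 LD3_c4) Lrfl Lrfl
theorem f56433 : Led Lsl_ef (LP (LK LD1_c6 LD2_c14 LD3_c25)) = (LP (LK LD1_c6 LD2_c24 LD3_c23)) :=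
  Lgr Lrot21 (Lpr_ft (K1.f56432 IH) (Lpr_et (f37210 IH) (Lpr_ft (K1.f56428 IH) (Lpr_et (K1.f56342 IH) (Lpr_ft (K2.f56351 IH) (Lpn (LP (LK LD1_c6 LD2_c24 LD3_c23))))))))
theorem f69554 : Led Lsl_ct (LP (LK LD1_c6 LD2_c14 LD3_c25)) = (LP (LK LD1_c4 LD2_c39 LD3_c40)) :=
  Lgr Lrot15 (Lpr_ef (f56433 IH) (Lpr_cf (f69547 IH) (Lpe (K1.f60320 IH) (Lpn (LP (LK LD1_c4 LD2_c39 LD3_c40))))))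
theorem f69560 : Led Lsl_cf (LP (LK LD1_c3 LD2_c4 LD3_c4)) = (LP (LK LD1_c2 LD2_c16 LD3_c51)) :=
  Lgr Lrot108 (Lpr_ft (K1.f56440 IH) (Lpr_ct (f69554 IH) (Lpr_ft (K1.f56089 IH) (Lpn (LP (LK LD1_c2 LD2_c16 LD3_c51))))))
theorem f60678 : Led Lsl_bt (LP (LK LD1_c3 LD2_c4 LD3_c4)) = (LP (LK LD1_c6 LD2_c14 LD3_c18)) :=
  Lre_b IH (LK LD1_c3 LD2_c4 LD3_c4) (LK LD1_c6 LD2_c14 LD3_c18) Lrfl Lrfl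
theorem f69564 : Led Lsl_ct (LP (LK LD1_c6 LD2_c14 LD3_c18)) = (LP (LK LD1_c12 LD2_c6 LD3_c61)) :=
  Lre_c IH (LK LD1_c6 LD2_c14 LD3_c18) (LK LD1_c12 LD2_c6 LD3_c61) Lrfl Lrfl
theorem f56084 : Led Lsl_bt (LP (LK LD1_c4 LD2_c39 LD3_c37)) = (LP (LK LD1_c2 LD2_c16 LD3_c51)) :=
  Lre_b IH (LK LD1_c4 LD2_c39 LD3_c37) (LK LD1_c2 LD2_c16 LD3_c51) Lrfl Lrfl
theorem f56156 : Led Lsl_ct (LP (LK LD1_c9 LD2_c14 LD3_c48)) = (LP (LK LD1_c4 LD2_c39 LD3_c37)) :=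
  Lre_c IH (LK LD1_c9 LD2_c14 LD3_c48) (LK LD1_c4 LD2_c39 LD3_c37) Lrfl Lrfl
theorem f69565 : Led Lsl_bt (LP (LK LD1_c12 LD2_c6 LD3_c61)) = (LP (LK LD1_c9 LD2_c14 LD3_c48)) :=
  Lgr Lrot128 (Lpe (f69564 IH) (Lpe (f60678 IH) (Lpr_cf (f69560 IH) (Lpe (f56084 IH) (Lpe (f56156 IH) (Lpn (LP (LK LD1_c9 LD2_c14 LD3_c48))))))))
theorem f37222 : Led Lsl_et (LP (LK LD1_c6 LD2_c14 LD3_c17)) = (LP (LK LD1_c12 LD2_c6 LD3_c61)) :=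
  Lre_e IH (LK LD1_c6 LD2_c14 LD3_c17) (LK LD1_c12 LD2_c6 LD3_c61) Lrfl Lrfl
theorem f60353 : Led Lsl_et (LP (LK LD1_c9 LD2_c14 LD3_c48)) = (LP (LK LD1_c4 LD2_c39 LD3_c36)) :=
  Lre_e IH (LK LD1_c9 LD2_c14 LD3_c48) (LK LD1_c4 LD2_c39 LD3_c36) Lrfl Lrfl
theorem f69575 : Led Lsl_bf (LP (LK LD1_c6 LD2_c14 LD3_c17)) = (LP (LK LD1_c4 LD2_c39 LD3_c36)) :=
  Lgr Lrot96 (Lpr_et (f37222 IH) (Lpr_bt (f69565 IH) (Lpr_et (f60353 IH) (Lpn (LP (LK LD1_c4 LD2_c39 LD3_c36))))))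
theorem f69583 : Led Lsl_bt (LP (LK LD1_c6 LD2_c14 LD3_c17)) = (LP (LK LD1_c4 LD2_c39 LD3_c36)) :=
  Lgr Lrot127 (Lpr_bf (f69575 IH) (Lpn (LP (LK LD1_c4 LD2_c39 LD3_c36))))
theorem f158692 : Led Lsl_gt (LP (LK LD1_c7 LD2_c26 LD3_c44)) = (LP (LK LD1_c4 LD2_c39 LD3_c36)) :=
  Lgr Lrot5 (Lpr_ft (K6.f141263 IH) (Lpr_at (K6.f141181 IH) (Lpr_gf (f158690 IH) (Lpn (LP (LK LD1_c4 LD2_c39 LD3_c36))))))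
theorem f142267 : Led Lsl_ct (LP (LK LD1_c3 LD2_c42 LD3_c61)) = (LP (LK LD1_c1 LD2_c49 LD3_c7)) :=
  Lgr Lrot59 (Lpr_cf (K6.f142248 IH) (Lpn (LP (LK LD1_c1 LD2_c49 LD3_c7))))
theorem f147685 : Led Lsl_cf (LP (LK LD1_c1 LD2_c47 LD3_c16)) = (LP (LK LD1_c1 LD2_c48 LD3_c47)) :=
  Lgr Lrot166 (Lpr_gt (K7.f147675 IH) (Lpe (K7.f142279 IH) (Lpr_gt (K2.f11523 IH) (Lpr_dt (K6.f11654 IH) (Lpr_ct (K6.f11768 IH) (Lpr_df (K6.f144345 IH) (Lpe (K6.f144339 IH) (Lpe (K7.f26247 IH) (Lpr_gf (K7.f128341 IH) (Lpn (LP (LK LD1_c1 LD2_c48 LD3_c47))))))))))))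
theorem f147689 : Led Lsl_gf (LP (LK LD1_c1 LD2_c48 LD3_c47)) = (LP (LK LD1_c3 LD2_c42 LD3_c20)) :=
  Lgr Lrot147 (Lpe (f147685 IH) (Lpr_gt (K7.f147675 IH) (Lpe (K6.f142248 IH) (Lpe (K5.f120810 IH) (Lpe (K4.f13598 IH) (Lpr_gf (K5.f124230 IH) (Lpe (K5.f13618 IH) (Lpr_gf (K5.f124129 IH) (Lpe (K6.f125620 IH) (Lpn (LP (LK LD1_c3 LD2_c42 LD3_c20))))))))))))
theorem f158967 : Led Lsl_cf (LP (LK LD1_c3 LD2_c57 LD3_c52)) = (LP (LK LD1_c7 LD2_c25 LD3_c21)) :=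
  Lgr Lrot58 (Lpr_gf (f158963 IH) (Lpe (f37206 IH) (Lpr_bt (f69583 IH) (Lpe (f158692 IH) (Lpe (K6.f141276 IH) (Lpr_ct (f142267 IH) (Lpe (K7.f147675 IH) (Lpr_cf (f147685 IH) (Lpr_gf (f147689 IH) (Lpe (f125622 IH) (Lpn (LP (LK LD1_c7 LD2_c25 LD3_c21)))))))))))))
theorem f125631 : Led Lsl_dt (LP (LK LD1_c7 LD2_c25 LD3_c21)) = (LP (LK LD1_c3 LD2_c42 LD3_c30)) :=
  Lgr Lrot42 (Lpr_df (f125623 IH) (Lpn (LP (LK LD1_c3 LD2_c42 LD3_c30))))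
theorem f157688 : Led Lsl_ft (LP (LK LD1_c3 LD2_c42 LD3_c30)) = (LP (LK LD1_c3 LD2_c19 LD3_c3)) :=
  Lgr Lrot54 (Lpe (f125631 IH) (Lpr_ff (f157684 IH) (Lpe (f157671 IH) (Lpn (LP (LK LD1_c3 LD2_c19 LD3_c3))))))
theorem f157866 : Led Lsl_dt (LP (LK LD1_c2 LD2_c15 LD3_c34)) = (LP (LK LD1_c4 LD2_c36 LD3_c42)) :=
  Lre_d IH (LK LD1_c2 LD2_c15 LD3_c34) (LK LD1_c4 LD2_c36 LD3_c42) Lrfl Lrfl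
theorem f158980 : Led Lsl_ct (LP (LK LD1_c1 LD2_c55 LD3_c42)) = (LP (LK LD1_c2 LD2_c15 LD3_c34)) :=
  Lgr Lrot41 (Lpe (f101677 IH) (Lpr_cf (f158967 IH) (Lpr_df (f125623 IH) (Lpr_ft (f157688 IH) (Lpr_at (K7.f129238 IH) (Lpr_cf (K7.f139788 IH) (Lpr_df (K7.f150696 IH) (Lpe (f157862 IH) (Lpe (f157866 IH) (Lpn (LP (LK LD1_c2 LD2_c15 LD3_c34))))))))))))
theorem f37464 : Led Lsl_ft (LP (LK LD1_c0 LD2_c28 LD3_c17)) = (LP (LK LD1_c0 LD2_c32 LD3_c46)) :=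
  Lgr Lrot54 (Lpe (K1.f34744 IH) (Lpr_ff (K1.f37462 IH) (Lpe (K2.f37326 IH) (Lpn (LP (LK LD1_c0 LD2_c32 LD3_c46))))))
theorem f81809 : Led Lsl_bt (LP (LK LD1_c0 LD2_c32 LD3_c46)) = (LP (LK LD1_c0 LD2_c38 LD3_c30)) :=
  Lgr Lrot35 (Lpe (f37464 IH) (Lpe (K4.f34747 IH) (Lpr_ff (K2.f81806 IH) (Lpn (LP (LK LD1_c0 LD2_c38 LD3_c30))))))
theorem f118947 : Led Lsl_bt (LP (LK LD1_c2 LD2_c54 LD3_c23)) = (LP (LK LD1_c1 LD2_c23 LD3_c11)) :=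
  Lre_b IH (LK LD1_c2 LD2_c54 LD3_c23) (LK LD1_c1 LD2_c23 LD3_c11) Lrfl Lrfl
theorem f159001 : Led Lsl_gf (LP (LK LD1_c2 LD2_c51 LD3_c42)) = (LP (LK LD1_c2 LD2_c15 LD3_c34)) :=
  Lgr Lrot129 (Lpe (f148989 IH) (Lpr_bt (f118947 IH) (Lpr_gt (K6.f24074 IH) (Lpe (f81809 IH) (Lpr_ct (K1.f37327 IH) (Lpr_gt (K1.f37903 IH) (Lpe (K1.f35590 IH) (Lpr_bt (K7.f36298 IH) (Lpr_gt (f36299 IH) (Lpr_ct (f158980 IH) (Lpn (LP (LK LD1_c2 LD2_c15 LD3_c34)))))))))))))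
theorem f56813 : Led Lsl_gt (LP (LK LD1_c3 LD2_c20 LD3_c15)) = (LP (LK LD1_c1 LD2_c36 LD3_c32)) :=
  Lre_g IH (LK LD1_c3 LD2_c20 LD3_c15) (LK LD1_c1 LD2_c36 LD3_c32) Lrfl Lrfl
theorem f148992 : Led Lsl_df (LP (LK LD1_c3 LD2_c20 LD3_c15)) = (LP (LK LD1_c2 LD2_c51 LD3_c42)) :=
  Lgr Lrot155 (Lpr_gt (f56813 IH) (Lpr_ct (K4.f56749 IH) (Lpr_gt (K4.f56750 IH) (Lpr_ct (K1.f36239 IH) (Lpr_dt (K1.f37454 IH) (Lpe (K1.f35526 IH) (Lpe (K5.f35531 IH) (Lpe (K7.f148966 IH) (Lpr_gf (K7.f148986 IH) (Lpn (LP (LK LD1_c2 LD2_c51 LD3_c42))))))))))))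
theorem f149638 : Led Lsl_ct (LP (LK LD1_c3 LD2_c20 LD3_c15)) = (LP (LK LD1_c6 LD2_c44 LD3_c13)) :=
  Lre_c IH (LK LD1_c3 LD2_c20 LD3_c15) (LK LD1_c6 LD2_c44 LD3_c13) Lrfl Lrfl
theorem f157872 : Led Lsl_dt (LP (LK LD1_c4 LD2_c36 LD3_c42)) = (LP (LK LD1_c2 LD2_c15 LD3_c34)) :=
  Lre_d IH (LK LD1_c4 LD2_c36 LD3_c42) (LK LD1_c2 LD2_c15 LD3_c34) Lrfl Lrfl
theorem f26515 : Led Lsl_gt (LP (LK LD1_c11 LD2_c48 LD3_c11)) = (LP (LK LD1_c6 LD2_c1 LD3_c48)) :=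
  Lre_g IH (LK LD1_c11 LD2_c48 LD3_c11) (LK LD1_c6 LD2_c1 LD3_c48) Lrfl Lrfl
theorem f158941 : Led Lsl_gt (LP (LK LD1_c11 LD2_c24 LD3_c56)) = (LP (LK LD1_c11 LD2_c48 LD3_c11)) :=
  Lgr Lrot5 (Lpe (f157657 IH) (Lpr_at (f158935 IH) (Lpe (f26515 IH) (Lpn (LP (LK LD1_c11 LD2_c48 LD3_c11))))))
theorem f159003 : Led Lsl_df (LP (LK LD1_c6 LD2_c44 LD3_c13)) = (LP (LK LD1_c11 LD2_c48 LD3_c11)) :=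
  Lgr Lrot84 (Lpe (f149638 IH) (Lpr_df (f148992 IH) (Lpr_gf (f159001 IH) (Lpe (f157872 IH) (Lpr_gf (f157868 IH) (Lpe (f59472 IH) (Lpe (K6.f138819 IH) (Lpr_dt (f74179 IH) (Lpr_gt (f158941 IH) (Lpn (LP (LK LD1_c11 LD2_c48 LD3_c11))))))))))))
theorem f139532 : Led Lsl_df (LP (LK LD1_c6 LD2_c25 LD3_c50)) = (LP (LK LD1_c3 LD2_c59 LD3_c39)) :=
  Lgr Lrot78 (Lpr_ft (K6.f139501 IH) (Lpr_dt (K7.f14079 IH) (Lpe (K4.f40327 IH) (Lpn (LP (LK LD1_c3 LD2_c59 LD3_c39))))))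
theorem f159022 : Led Lsl_gt (LP (LK LD1_c6 LD2_c44 LD3_c13)) = (LP (LK LD1_c3 LD2_c23 LD3_c60)) :=
  Lgr Lrot9 (Lpr_df (f159003 IH) (Lpr_gt (f26515 IH) (Lpr_ct (K6.f26498 IH) (Lpr_gt (K6.f139496 IH) (Lpe (K6.f139530 IH) (Lpr_df (f139532 IH) (Lpe (K4.f40313 IH) (Lpr_gf (K4.f69054 IH) (Lpe (K6.f69005 IH) (Lpn (LP (LK LD1_c3 LD2_c23 LD3_c60))))))))))))
theorem f40380 : Led Lsl_ct (LP (LK LD1_c3 LD2_c23 LD3_c36)) = (LP (LK LD1_c1 LD2_c38 LD3_c19)) :=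
  Lre_c IH (LK LD1_c3 LD2_c23 LD3_c36) (LK LD1_c1 LD2_c38 LD3_c19) Lrfl Lrfl
theorem f40557 : Led Lsl_ff (LP (LK LD1_c8 LD2_c0 LD3_c20)) = (LP (LK LD1_c6 LD2_c49 LD3_c39)) :=
  Lgr Lrot3 (Lpr_ft (K6.f40525 IH) (Lpn (LP (LK LD1_c6 LD2_c49 LD3_c39))))
theorem f40520 : Led Lsl_at (LP (LK LD1_c8 LD2_c0 LD3_c20)) = (LP (LK LD1_c6 LD2_c49 LD3_c16)) :=
  Lgr Lrot100 (Lpr_af (K6.f40419 IH) (Lpn (LP (LK LD1_c6 LD2_c49 LD3_c16))))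
theorem f40566 : Led Lsl_gf (LP (LK LD1_c13 LD2_c0 LD3_c48)) = (LP (LK LD1_c6 LD2_c49 LD3_c39)) :=
  Lgr Lrot47 (Lpr_gt (K6.f15552 IH) (Lpe (f40520 IH) (Lpr_ff (f40557 IH) (Lpn (LP (LK LD1_c6 LD2_c49 LD3_c39))))))
theorem f130233 : Led Lsl_ct (LP (LK LD1_c6 LD2_c50 LD3_c3)) = (LP (LK LD1_c6 LD2_c53 LD3_c59)) :=
  Lgr Lrot59 (Lpr_cf (K6.f130229 IH) (Lpn (LP (LK LD1_c6 LD2_c53 LD3_c59))))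
theorem f149992 : Led Lsl_gt (LP (LK LD1_c8 LD2_c0 LD3_c27)) = (LP (LK LD1_c3 LD2_c59 LD3_c42)) :=
  Lre_g IH (LK LD1_c8 LD2_c0 LD3_c27) (LK LD1_c3 LD2_c59 LD3_c42) Lrfl Lrfl
theorem f156756 : Led Lsl_bt (LP (LK LD1_c6 LD2_c50 LD3_c3)) = (LP (LK LD1_c8 LD2_c0 LD3_c27)) :=
  Lgr Lrot130 (Lpr_ct (f130233 IH) (Lpe (K6.f130263 IH) (Lpe (K6.f88244 IH) (Lpr_bt (K6.f127872 IH) (Lpr_gf (f40566 IH) (Lpe (K7.f14078 IH) (Lpr_ct (f40380 IH) (Lpr_gf (K7.f156751 IH) (Lpe (K7.f40425 IH) (Lpe (f149992 IH) (Lpn (LP (LK LD1_c8 LD2_c0 LD3_c27)))))))))))))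
theorem f94736 : Led Lsl_ct (LP (LK LD1_c3 LD2_c26 LD3_c4)) = (LP (LK LD1_c6 LD2_c54 LD3_c0)) :=
  Lre_c IH (LK LD1_c3 LD2_c26 LD3_c4) (LK LD1_c6 LD2_c54 LD3_c0) Lrfl Lrfl
theorem f130253 : Led Lsl_ff (LP (LK LD1_c6 LD2_c50 LD3_c2)) = (LP (LK LD1_c6 LD2_c54 LD3_c0)) :=
  Lgr Lrot23 (Lpr_ct (K6.f130248 IH) (Lpe (K4.f102512 IH) (Lpr_ct (f94736 IH) (Lpn (LP (LK LD1_c6 LD2_c54 LD3_c0))))))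
theorem f130412 : Led Lsl_ft (LP (LK LD1_c6 LD2_c50 LD3_c2)) = (LP (LK LD1_c6 LD2_c54 LD3_c0)) :=
  Lgr Lrot48 (Lpr_ff (f130253 IH) (Lpn (LP (LK LD1_c6 LD2_c54 LD3_c0))))
theorem f130414 : Led Lsl_af (LP (LK LD1_c6 LD2_c50 LD3_c3)) = (LP (LK LD1_c6 LD2_c54 LD3_c0)) :=
  Lgr Lrot45 (Lpr_ft (K6.f130238 IH) (Lpe (K6.f130243 IH) (Lpr_ft (f130412 IH) (Lpn (LP (LK LD1_c6 LD2_c54 LD3_c0))))))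
theorem f94688 : Led Lsl_bt (LP (LK LD1_c3 LD2_c23 LD3_c39)) = (LP (LK LD1_c6 LD2_c50 LD3_c34)) :=
  Lre_b IH (LK LD1_c3 LD2_c23 LD3_c39) (LK LD1_c6 LD2_c50 LD3_c34) Lrfl Lrfl
theorem f94735 : Led Lsl_ct (LP (LK LD1_c6 LD2_c50 LD3_c34)) = (LP (LK LD1_c13 LD2_c1 LD3_c46)) :=
  Lre_c IH (LK LD1_c6 LD2_c50 LD3_c34) (LK LD1_c13 LD2_c1 LD3_c46) Lrfl Lrfl
theorem f95245 : Led Lsl_bt (LP (LK LD1_c13 LD2_c1 LD3_c46)) = (LP (LK LD1_c6 LD2_c54 LD3_c0)) :=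
  Lgr Lrot128 (Lpe (f94735 IH) (Lpe (f94688 IH) (Lpr_cf (K3.f94739 IH) (Lpe (K4.f94993 IH) (Lpe (K6.f94994 IH) (Lpn (LP (LK LD1_c6 LD2_c54 LD3_c0))))))))
theorem f102396 : Led Lsl_af (LP (LK LD1_c3 LD2_c23 LD3_c39)) = (LP (LK LD1_c3 LD2_c50 LD3_c60)) :=
  Lgr Lrot0 (Lpr_at (K4.f102394 IH) (Lpn (LP (LK LD1_c3 LD2_c50 LD3_c60))))
theorem f79356 : Led Lsl_bt (LP (LK LD1_c5 LD2_c53 LD3_c46)) = (LP (LK LD1_c2 LD2_c53 LD3_c14)) :=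
  Lre_b IH (LK LD1_c5 LD2_c53 LD3_c46) (LK LD1_c2 LD2_c53 LD3_c14) Lrfl Lrfl
theorem f149126 : Led Lsl_at (LP (LK LD1_c6 LD2_c50 LD3_c34)) = (LP (LK LD1_c5 LD2_c53 LD3_c46)) :=
  Lgr Lrot67 (Lpe (f94688 IH) (Lpr_af (f102396 IH) (Lpe (K4.f34735 IH) (Lpr_af (K7.f149124 IH) (Lpe (f79356 IH) (Lpn (LP (LK LD1_c5 LD2_c53 LD3_c46))))))))
theorem f77768 : Led Lsl_ct (LP (LK LD1_c13 LD2_c1 LD3_c46)) = (LP (LK LD1_c6 LD2_c50 LD3_c34)) :=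
  Lre_c IH (LK LD1_c13 LD2_c1 LD3_c46) (LK LD1_c6 LD2_c50 LD3_c34) Lrfl Lrfl
theorem f79357 : Led Lsl_ct (LP (LK LD1_c5 LD2_c53 LD3_c46)) = (LP (LK LD1_c11 LD2_c33 LD3_c21)) :=
  Lre_c IH (LK LD1_c5 LD2_c53 LD3_c46) (LK LD1_c11 LD2_c33 LD3_c21) Lrfl Lrfl
theorem f149130 : Led Lsl_af (LP (LK LD1_c13 LD2_c1 LD3_c46)) = (LP (LK LD1_c11 LD2_c33 LD3_c21)) :=
  Lgr Lrot68 (Lpr_ct (f77768 IH) (Lpr_at (f149126 IH) (Lpr_ct (f79357 IH) (Lpn (LP (LK LD1_c11 LD2_c33 LD3_c21))))))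
theorem f149134 : Led Lsl_bt (LP (LK LD1_c5 LD2_c53 LD3_c42)) = (LP (LK LD1_c11 LD2_c33 LD3_c21)) :=
  Lre_b IH (LK LD1_c5 LD2_c53 LD3_c42) (LK LD1_c11 LD2_c33 LD3_c21) Lrfl Lrfl
theorem f156758 : Led Lsl_af (LP (LK LD1_c5 LD2_c53 LD3_c42)) = (LP (LK LD1_c8 LD2_c0 LD3_c27)) :=
  Lgr Lrot36 (Lpr_bt (f149134 IH) (Lpe (f149130 IH) (Lpr_bt (f95245 IH) (Lpe (f130414 IH) (Lpr_bt (f156756 IH) (Lpn (LP (LK LD1_c8 LD2_c0 LD3_c27))))))))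
theorem f159024 : Led Lsl_ft (LP (LK LD1_c6 LD2_c44 LD3_c13)) = (LP (LK LD1_c8 LD2_c0 LD3_c27)) :=
  Lgr Lrot2 (Lpr_gt (f159022 IH) (Lpe (K4.f69001 IH) (Lpr_af (f156758 IH) (Lpn (LP (LK LD1_c8 LD2_c0 LD3_c27))))))
theorem f159052 : Led Lsl_ff (LP (LK LD1_c6 LD2_c44 LD3_c13)) = (LP (LK LD1_c8 LD2_c0 LD3_c27)) :=
  Lgr Lrot3 (Lpr_ft (f159024 IH) (Lpn (LP (LK LD1_c8 LD2_c0 LD3_c27))))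
theorem f36257 : Led Lsl_gt (LP (LK LD1_c3 LD2_c59 LD3_c42)) = (LP (LK LD1_c8 LD2_c0 LD3_c26)) :=
  Lre_g IH (LK LD1_c3 LD2_c59 LD3_c42) (LK LD1_c8 LD2_c0 LD3_c26) Lrfl Lrfl
theorem f159054 : Led Lsl_at (LP (LK LD1_c6 LD2_c44 LD3_c13)) = (LP (LK LD1_c8 LD2_c0 LD3_c26)) :=
  Lgr Lrot26 (Lpr_ff (f159052 IH) (Lpr_gt (f149992 IH) (Lpr_gt (f36257 IH) (Lpn (LP (LK LD1_c8 LD2_c0 LD3_c26))))))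
theorem f156760 : Led Lsl_bf (LP (LK LD1_c6 LD2_c50 LD3_c3)) = (LP (LK LD1_c8 LD2_c0 LD3_c27)) :=
  Lgr Lrot24 (Lpr_bt (f156756 IH) (Lpn (LP (LK LD1_c8 LD2_c0 LD3_c27))))
theorem f77767 : Led Lsl_bt (LP (LK LD1_c6 LD2_c50 LD3_c34)) = (LP (LK LD1_c3 LD2_c23 LD3_c39)) :=
  Lre_b IH (LK LD1_c6 LD2_c50 LD3_c34) (LK LD1_c3 LD2_c23 LD3_c39) Lrfl Lrfl
theorem f94737 : Led Lsl_bf (LP (LK LD1_c13 LD2_c1 LD3_c46)) = (LP (LK LD1_c6 LD2_c54 LD3_c0)) :=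
  Lgr Lrot90 (Lpr_ct (f77768 IH) (Lpr_bt (f77767 IH) (Lpr_ct (K2.f94693 IH) (Lpr_bt (K5.f94697 IH) (Lpr_ct (f94736 IH) (Lpn (LP (LK LD1_c6 LD2_c54 LD3_c0))))))))
theorem f149132 : Led Lsl_at (LP (LK LD1_c13 LD2_c1 LD3_c46)) = (LP (LK LD1_c11 LD2_c33 LD3_c21)) :=
  Lgr Lrot100 (Lpr_af (f149130 IH) (Lpn (LP (LK LD1_c11 LD2_c33 LD3_c21))))
theorem f69017 : Led Lsl_bt (LP (LK LD1_c11 LD2_c33 LD3_c21)) = (LP (LK LD1_c5 LD2_c53 LD3_c42)) :=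
  Lre_b IH (LK LD1_c11 LD2_c33 LD3_c21) (LK LD1_c5 LD2_c53 LD3_c42) Lrfl Lrfl
theorem f156767 : Led Lsl_at (LP (LK LD1_c5 LD2_c53 LD3_c42)) = (LP (LK LD1_c8 LD2_c0 LD3_c27)) :=
  Lgr Lrot67 (Lpe (f69017 IH) (Lpe (f149132 IH) (Lpr_bf (f94737 IH) (Lpe (K6.f130231 IH) (Lpr_bf (f156760 IH) (Lpn (LP (LK LD1_c8 LD2_c0 LD3_c27))))))))
theorem f159063 : Led Lsl_ff (LP (LK LD1_c5 LD2_c53 LD3_c42)) = (LP (LK LD1_c8 LD2_c0 LD3_c26)) :=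
  Lgr Lrot30 (Lpr_at (f156767 IH) (Lpe (f159052 IH) (Lpr_at (f159054 IH) (Lpn (LP (LK LD1_c8 LD2_c0 LD3_c26))))))
theorem f159069 : Led Lsl_ft (LP (LK LD1_c5 LD2_c53 LD3_c42)) = (LP (LK LD1_c8 LD2_c0 LD3_c26)) :=
  Lgr Lrot48 (Lpr_ff (f159063 IH) (Lpn (LP (LK LD1_c8 LD2_c0 LD3_c26))))
theorem f69003 : Led Lsl_dt (LP (LK LD1_c5 LD2_c53 LD3_c42)) = (LP (LK LD1_c11 LD2_c33 LD3_c22)) :=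
  Lre_d IH (LK LD1_c5 LD2_c53 LD3_c42) (LK LD1_c11 LD2_c33 LD3_c22) Lrfl Lrfl
theorem f159056 : Led Lsl_af (LP (LK LD1_c6 LD2_c44 LD3_c13)) = (LP (LK LD1_c8 LD2_c0 LD3_c26)) :=
  Lgr Lrot0 (Lpr_at (f159054 IH) (Lpn (LP (LK LD1_c8 LD2_c0 LD3_c26))))
theorem f149637 : Led Lsl_dt (LP (LK LD1_c5 LD2_c56 LD3_c3)) = (LP (LK LD1_c2 LD2_c54 LD3_c23)) :=
  Lre_d IH (LK LD1_c5 LD2_c56 LD3_c3) (LK LD1_c2 LD2_c54 LD3_c23) Lrfl Lrfl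
theorem f149612 : Led Lsl_ct (LP (LK LD1_c11 LD2_c37 LD3_c18)) = (LP (LK LD1_c5 LD2_c56 LD3_c3)) :=
  Lre_c IH (LK LD1_c11 LD2_c37 LD3_c18) (LK LD1_c5 LD2_c56 LD3_c3) Lrfl Lrfl
theorem f69207 : Led Lsl_dt (LP (LK LD1_c1 LD2_c31 LD3_c7)) = (LP (LK LD1_c0 LD2_c42 LD3_c1)) :=
  Lre_d IH (LK LD1_c1 LD2_c31 LD3_c7) (LK LD1_c0 LD2_c42 LD3_c1) Lrfl Lrfl
theorem f149588 : Led Lsl_gf (LP (LK LD1_c1 LD2_c31 LD3_c7)) = (LP (LK LD1_c2 LD2_c54 LD3_c24)) :=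
  Lgr Lrot143 (Lpr_dt (f69207 IH) (Lpe (K4.f59711 IH) (Lpe (K6.f68568 IH) (Lpr_gf (K6.f81997 IH) (Lpe (K6.f69449 IH) (Lpr_gf (K6.f71951 IH) (Lpr_cf (K2.f35220 IH) (Lpr_gt (K7.f149582 IH) (Lpr_dt (K7.f149581 IH) (Lpn (LP (LK LD1_c2 LD2_c54 LD3_c24))))))))))))
theorem f124132 : Led Lsl_gt (LP (LK LD1_c3 LD2_c42 LD3_c30)) = (LP (LK LD1_c7 LD2_c25 LD3_c39)) :=
  Lre_g IH (LK LD1_c3 LD2_c42 LD3_c30) (LK LD1_c7 LD2_c25 LD3_c39) Lrfl Lrfl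
theorem f149611 : Led Lsl_bt (LP (LK LD1_c5 LD2_c56 LD3_c3)) = (LP (LK LD1_c2 LD2_c54 LD3_c24)) :=
  Lre_b IH (LK LD1_c5 LD2_c56 LD3_c3) (LK LD1_c2 LD2_c54 LD3_c24) Lrfl Lrfl
theorem f149613 : Led Lsl_dt (LP (LK LD1_c7 LD2_c25 LD3_c39)) = (LP (LK LD1_c11 LD2_c37 LD3_c18)) :=
  Lgr Lrot182 (Lpe (f124132 IH) (Lpe (K7.f124122 IH) (Lpe (K5.f124121 IH) (Lpe (K4.f124107 IH) (Lpr_gf (K5.f120984 IH) (Lpr_bf (K3.f104109 IH) (Lpe (K2.f23592 IH) (Lpe (K3.f13799 IH) (Lpe (K3.f99077 IH) (Lpe (K1.f25161 IH) (Lpr_cf (K0.f25156 IH) (Lpe (K0.f21177 IH) (Lpr_gf (K5.f59808 IH) (Lpe (K5.f68567 IH) (Lpe (K4.f59714 IH) (Lpe (f69207 IH) (Lpr_gf (f149588 IH) (Lpe (f149611 IH) (Lpe (f149612 IH) (Lpn (LP (LK LD1_c11 LD2_c37 LD3_c18))))))))))))))))))))))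
theorem f159075 : Led Lsl_ct (LP (LK LD1_c11 LD2_c33 LD3_c22)) = (LP (LK LD1_c7 LD2_c25 LD3_c39)) :=
  Lgr Lrot133 (Lpe (f69003 IH) (Lpr_ft (f159069 IH) (Lpe (f159056 IH) (Lpe (f149638 IH) (Lpr_df (f148992 IH) (Lpe (f148989 IH) (Lpe (f149637 IH) (Lpe (f149612 IH) (Lpe (f149613 IH) (Lpn (LP (LK LD1_c7 LD2_c25 LD3_c39))))))))))))
theorem f137982 : Led Lsl_gt (LP (LK LD1_c11 LD2_c33 LD3_c22)) = (LP (LK LD1_c11 LD2_c24 LD3_c56)) :=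
  Lgr Lrot49 (Lpe (f69003 IH) (Lpr_gf (K4.f69001 IH) (Lpe (K4.f69000 IH) (Lpe (K4.f69054 IH) (Lpr_dt (K2.f40317 IH) (Lpr_gt (K6.f101681 IH) (Lpr_dt (K6.f137963 IH) (Lpe (K6.f74181 IH) (Lpe (f74180 IH) (Lpn (LP (LK LD1_c11 LD2_c24 LD3_c56))))))))))))
theorem f158937 : Led Lsl_gf (LP (LK LD1_c11 LD2_c33 LD3_c22)) = (LP (LK LD1_c6 LD2_c1 LD3_c48)) :=
  Lgr Lrot47 (Lpr_gt (f137982 IH) (Lpr_af (f158923 IH) (Lpr_ff (f139514 IH) (Lpn (LP (LK LD1_c6 LD2_c1 LD3_c48))))))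
theorem f159079 : Led Lsl_gf (LP (LK LD1_c6 LD2_c42 LD3_c10)) = (LP (LK LD1_c7 LD2_c25 LD3_c39)) :=
  Lgr Lrot104 (Lpr_ct (f141168 IH) (Lpr_df (K7.f150696 IH) (Lpe (f157862 IH) (Lpr_gf (f157868 IH) (Lpe (f59472 IH) (Lpr_gf (K6.f59468 IH) (Lpr_df (f139506 IH) (Lpe (f158937 IH) (Lpr_ct (f159075 IH) (Lpn (LP (LK LD1_c7 LD2_c25 LD3_c39))))))))))))
theorem f149639 : Led Lsl_df (LP (LK LD1_c7 LD2_c25 LD3_c39)) = (LP (LK LD1_c11 LD2_c37 LD3_c18)) :=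
  Lgr Lrot38 (Lpr_dt (f149613 IH) (Lpn (LP (LK LD1_c11 LD2_c37 LD3_c18))))
theorem f118948 : Led Lsl_ct (LP (LK LD1_c2 LD2_c51 LD3_c42)) = (LP (LK LD1_c2 LD2_c54 LD3_c23)) :=
  Lre_c IH (LK LD1_c2 LD2_c51 LD3_c42) (LK LD1_c2 LD2_c54 LD3_c23) Lrfl Lrfl
theorem f149643 : Led Lsl_dt (LP (LK LD1_c2 LD2_c54 LD3_c23)) = (LP (LK LD1_c5 LD2_c56 LD3_c3)) :=
  Lre_d IH (LK LD1_c2 LD2_c54 LD3_c23) (LK LD1_c5 LD2_c56 LD3_c3) Lrfl Lrfl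
theorem f159005 : Led Lsl_gf (LP (LK LD1_c11 LD2_c37 LD3_c18)) = (LP (LK LD1_c6 LD2_c31 LD3_c55)) :=
  Lgr Lrot104 (Lpr_ct (f149612 IH) (Lpe (f149643 IH) (Lpe (f118948 IH) (Lpr_gf (f159001 IH) (Lpe (f158980 IH) (Lpe (f36299 IH) (Lpe (K1.f35527 IH) (Lpr_gt (K7.f37892 IH) (Lpr_ct (K7.f156730 IH) (Lpn (LP (LK LD1_c6 LD2_c31 LD3_c55))))))))))))
theorem f100439 : Led Lsl_ct (LP (LK LD1_c7 LD2_c57 LD3_c10)) = (LP (LK LD1_c3 LD2_c57 LD3_c55)) :=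
  Lre_c IH (LK LD1_c7 LD2_c57 LD3_c10) (LK LD1_c3 LD2_c57 LD3_c55) Lrfl Lrfl
theorem f159081 : Led Lsl_dt (LP (LK LD1_c6 LD2_c42 LD3_c10)) = (LP (LK LD1_c7 LD2_c57 LD3_c10)) :=
  Lgr Lrot105 (Lpr_gf (f159079 IH) (Lpr_df (f149639 IH) (Lpr_gf (f159005 IH) (Lpe (K7.f156730 IH) (Lpr_gt (K7.f40033 IH) (Lpr_dt (K7.f100433 IH) (Lpe (K5.f100435 IH) (Lpr_dt (K5.f100437 IH) (Lpe (f100439 IH) (Lpn (LP (LK LD1_c7 LD2_c57 LD3_c10))))))))))))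
theorem f159090 : Led Lsl_df (LP (LK LD1_c6 LD2_c42 LD3_c10)) = (LP (LK LD1_c7 LD2_c57 LD3_c10)) :=
  Lgr Lrot38 (Lpr_dt (f159081 IH) (Lpn (LP (LK LD1_c7 LD2_c57 LD3_c10))))
theorem f130952 : Led Lsl_dt (LP (LK LD1_c7 LD2_c24 LD3_c58)) = (LP (LK LD1_c14 LD2_c1 LD3_c38)) :=
  Lre_d IH (LK LD1_c7 LD2_c24 LD3_c58) (LK LD1_c14 LD2_c1 LD3_c38) Lrfl Lrfl
theorem f159227 : Led Lsl_bt (LP (LK LD1_c14 LD2_c1 LD3_c38)) = (LP (LK LD1_c7 LD2_c57 LD3_c10)) :=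
  Lgr Lrot95 (Lpe (f130952 IH) (Lpr_bf (K7.f129239 IH) (Lpr_df (f159090 IH) (Lpn (LP (LK LD1_c7 LD2_c57 LD3_c10))))))
theorem f159092 : Led Lsl_ff (LP (LK LD1_c9 LD2_c9 LD3_c26)) = (LP (LK LD1_c7 LD2_c57 LD3_c10)) :=
  Lgr Lrot19 (Lpe (f157697 IH) (Lpr_ft (f157733 IH) (Lpr_dt (f159081 IH) (Lpn (LP (LK LD1_c7 LD2_c57 LD3_c10))))))
theorem f124654 : Led Lsl_bt (LP (LK LD1_c3 LD2_c42 LD3_c20)) = (LP (LK LD1_c7 LD2_c25 LD3_c21)) :=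
  Lre_b IH (LK LD1_c3 LD2_c42 LD3_c20) (LK LD1_c7 LD2_c25 LD3_c21) Lrfl Lrfl
theorem f144657 : Led Lsl_at (LP (LK LD1_c3 LD2_c14 LD3_c10)) = (LP (LK LD1_c3 LD2_c42 LD3_c20)) :=
  Lgr Lrot26 (Lpr_ff (K6.f129143 IH) (Lpr_gt (K6.f144343 IH) (Lpe (K6.f142287 IH) (Lpn (LP (LK LD1_c3 LD2_c42 LD3_c20))))))
theorem f22638 : Led Lsl_bt (LP (LK LD1_c6 LD2_c31 LD3_c60)) = (LP (LK LD1_c3 LD2_c14 LD3_c10)) :=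
  Lre_b IH (LK LD1_c6 LD2_c31 LD3_c60) (LK LD1_c3 LD2_c14 LD3_c10) Lrfl Lrfl
theorem f157694 : Led Lsl_at (LP (LK LD1_c12 LD2_c31 LD3_c44)) = (LP (LK LD1_c6 LD2_c31 LD3_c60)) :=
  Lre_a IH (LK LD1_c12 LD2_c31 LD3_c44) (LK LD1_c6 LD2_c31 LD3_c60) Lrfl Lrfl
theorem f157695 : Led Lsl_bf (LP (LK LD1_c12 LD2_c31 LD3_c44)) = (LP (LK LD1_c9 LD2_c9 LD3_c26)) :=
  Lgr Lrot81 (Lpr_at (f157694 IH) (Lpr_bt (f22638 IH) (Lpr_at (f144657 IH) (Lpr_bt (f124654 IH) (Lpr_at (f157690 IH) (Lpn (LP (LK LD1_c9 LD2_c9 LD3_c26))))))))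
theorem f159237 : Led Lsl_ff (LP (LK LD1_c14 LD2_c1 LD3_c38)) = (LP (LK LD1_c12 LD2_c31 LD3_c44)) :=
  Lgr Lrot25 (Lpr_bt (f159227 IH) (Lpe (f159092 IH) (Lpe (f157695 IH) (Lpn (LP (LK LD1_c12 LD2_c31 LD3_c44))))))
theorem f159245 : Led Lsl_ft (LP (LK LD1_c14 LD2_c1 LD3_c38)) = (LP (LK LD1_c12 LD2_c31 LD3_c44)) :=
  Lgr Lrot48 (Lpr_ff (f159237 IH) (Lpn (LP (LK LD1_c12 LD2_c31 LD3_c44))))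
theorem f124442 : Led Lsl_bt (LP (LK LD1_c4 LD2_c41 LD3_c46)) = (LP (LK LD1_c2 LD2_c18 LD3_c4)) :=
  Lre_b IH (LK LD1_c4 LD2_c41 LD3_c46) (LK LD1_c2 LD2_c18 LD3_c4) Lrfl Lrfl
theorem f150662 : Led Lsl_bt (LP (LK LD1_c6 LD2_c25 LD3_c51)) = (LP (LK LD1_c9 LD2_c18 LD3_c11)) :=
  Lgr Lrot62 (Lpe (K7.f139523 IH) (Lpe (K6.f69140 IH) (Lpr_af (K7.f150658 IH) (Lpe (f124442 IH) (Lpe (K7.f124476 IH) (Lpn (LP (LK LD1_c9 LD2_c18 LD3_c11))))))))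
theorem f124479 : Led Lsl_ct (LP (LK LD1_c3 LD2_c45 LD3_c9)) = (LP (LK LD1_c4 LD2_c41 LD3_c46)) :=
  Lgr Lrot59 (Lpr_cf (K7.f124461 IH) (Lpn (LP (LK LD1_c4 LD2_c41 LD3_c46))))
theorem f124482 : Led Lsl_at (LP (LK LD1_c7 LD2_c31 LD3_c5)) = (LP (LK LD1_c3 LD2_c45 LD3_c9)) :=
  Lre_a IH (LK LD1_c7 LD2_c31 LD3_c5) (LK LD1_c3 LD2_c45 LD3_c9) Lrfl Lrfl
theorem f124487 : Led Lsl_at (LP (LK LD1_c4 LD2_c41 LD3_c46)) = (LP (LK LD1_c9 LD2_c18 LD3_c11)) :=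
  Lre_a IH (LK LD1_c4 LD2_c41 LD3_c46) (LK LD1_c9 LD2_c18 LD3_c11) Lrfl Lrfl
theorem f124488 : Led Lsl_cf (LP (LK LD1_c7 LD2_c31 LD3_c5)) = (LP (LK LD1_c9 LD2_c18 LD3_c11)) :=
  Lgr Lrot1 (Lpr_at (f124482 IH) (Lpr_ct (f124479 IH) (Lpr_at (f124487 IH) (Lpn (LP (LK LD1_c9 LD2_c18 LD3_c11))))))
theorem f62655 : Led Lsl_bt (LP (LK LD1_c1 LD2_c49 LD3_c42)) = (LP (LK LD1_c3 LD2_c45 LD3_c9)) :=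
  Lre_b IH (LK LD1_c1 LD2_c49 LD3_c42) (LK LD1_c3 LD2_c45 LD3_c9) Lrfl Lrfl
theorem f126371 : Led Lsl_bf (LP (LK LD1_c6 LD2_c36 LD3_c41)) = (LP (LK LD1_c7 LD2_c31 LD3_c5)) :=
  Lgr Lrot81 (Lpr_at (K7.f126370 IH) (Lpr_bt (K6.f65999 IH) (Lpr_at (K5.f126366 IH) (Lpr_bt (f62655 IH) (Lpr_at (K7.f124475 IH) (Lpn (LP (LK LD1_c7 LD2_c31 LD3_c5))))))))
theorem f150667 : Led Lsl_bf (LP (LK LD1_c6 LD2_c42 LD3_c10)) = (LP (LK LD1_c7 LD2_c24 LD3_c58)) :=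
  Lgr Lrot90 (Lpr_ct (f141168 IH) (Lpr_bt (f150662 IH) (Lpe (f124488 IH) (Lpe (f126371 IH) (Lpr_ct (K7.f130947 IH) (Lpn (LP (LK LD1_c7 LD2_c24 LD3_c58))))))))
theorem f130949 : Led Lsl_dt (LP (LK LD1_c14 LD2_c1 LD3_c38)) = (LP (LK LD1_c7 LD2_c24 LD3_c58)) :=
  Lre_d IH (LK LD1_c14 LD2_c1 LD3_c38) (LK LD1_c7 LD2_c24 LD3_c58) Lrfl Lrfl
theorem f159088 : Led Lsl_bf (LP (LK LD1_c14 LD2_c1 LD3_c38)) = (LP (LK LD1_c7 LD2_c57 LD3_c10)) :=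
  Lgr Lrot93 (Lpr_dt (f130949 IH) (Lpe (f150667 IH) (Lpr_dt (f159081 IH) (Lpn (LP (LK LD1_c7 LD2_c57 LD3_c10))))))
theorem f158978 : Led Lsl_ft (LP (LK LD1_c3 LD2_c57 LD3_c52)) = (LP (LK LD1_c5 LD2_c47 LD3_c23)) :=
  Lgr Lrot4 (Lpr_cf (f158967 IH) (Lpr_ff (f157684 IH) (Lpe (f99515 IH) (Lpn (LP (LK LD1_c5 LD2_c47 LD3_c23))))))
theorem f159094 : Led Lsl_at (LP (LK LD1_c5 LD2_c47 LD3_c23)) = (LP (LK LD1_c3 LD2_c57 LD3_c55)) :=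
  Lgr Lrot33 (Lpe (f158978 IH) (Lpr_dt (f101677 IH) (Lpr_ct (f158980 IH) (Lpr_dt (f157866 IH) (Lpr_ct (f157862 IH) (Lpe (K7.f150696 IH) (Lpe (K7.f139788 IH) (Lpr_dt (f159081 IH) (Lpr_ct (f100439 IH) (Lpn (LP (LK LD1_c3 LD2_c57 LD3_c55))))))))))))
theorem f159098 : Led Lsl_af (LP (LK LD1_c3 LD2_c3 LD3_c15)) = (LP (LK LD1_c1 LD2_c55 LD3_c43)) :=
  Lgr Lrot117 (Lpe (f99507 IH) (Lpr_at (f159094 IH) (Lpr_dt (f100440 IH) (Lpn (LP (LK LD1_c1 LD2_c55 LD3_c43))))))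
theorem f159103 : Led Lsl_ft (LP (LK LD1_c2 LD2_c15 LD3_c35)) = (LP (LK LD1_c1 LD2_c55 LD3_c43)) :=
  Lgr Lrot2 (Lpr_gt (K5.f69325 IH) (Lpr_gt (f59553 IH) (Lpr_af (f159098 IH) (Lpn (LP (LK LD1_c1 LD2_c55 LD3_c43))))))
theorem f159107 : Led Lsl_ff (LP (LK LD1_c4 LD2_c36 LD3_c44)) = (LP (LK LD1_c3 LD2_c57 LD3_c55)) :=
  Lgr Lrot19 (Lpr_dt (f99604 IH) (Lpr_ft (f159103 IH) (Lpr_dt (K5.f100437 IH) (Lpn (LP (LK LD1_c3 LD2_c57 LD3_c55))))))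
theorem f159113 : Led Lsl_ft (LP (LK LD1_c9 LD2_c9 LD3_c26)) = (LP (LK LD1_c7 LD2_c57 LD3_c10)) :=
  Lgr Lrot4 (Lpe (f99592 IH) (Lpr_ff (f159107 IH) (Lpe (f100439 IH) (Lpn (LP (LK LD1_c7 LD2_c57 LD3_c10))))))
theorem f159252 : Led Lsl_bf (LP (LK LD1_c9 LD2_c9 LD3_c26)) = (LP (LK LD1_c12 LD2_c31 LD3_c44)) :=
  Lgr Lrot61 (Lpr_ft (f159113 IH) (Lpe (f159088 IH) (Lpr_ft (f159245 IH) (Lpn (LP (LK LD1_c12 LD2_c31 LD3_c44))))))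
theorem f157699 : Led Lsl_et (LP (LK LD1_c9 LD2_c9 LD3_c26)) = (LP (LK LD1_c17 LD2_c2 LD3_c24)) :=
  Lre_e IH (LK LD1_c9 LD2_c9 LD3_c26) (LK LD1_c17 LD2_c2 LD3_c24) Lrfl Lrfl
theorem f159244 : Led Lsl_et (LP (LK LD1_c21 LD2_c37 LD3_c45)) = (LP (LK LD1_c12 LD2_c31 LD3_c44)) :=
  Lre_e IH (LK LD1_c21 LD2_c37 LD3_c45) (LK LD1_c12 LD2_c31 LD3_c44) Lrfl Lrfl
theorem f159257 : Led Lsl_bt (LP (LK LD1_c17 LD2_c2 LD3_c24)) = (LP (LK LD1_c21 LD2_c37 LD3_c45)) :=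
  Lgr Lrot119 (Lpe (f157699 IH) (Lpr_bf (f159252 IH) (Lpe (f159244 IH) (Lpn (LP (LK LD1_c21 LD2_c37 LD3_c45))))))
theorem f159262 : Led Lsl_bf (LP (LK LD1_c17 LD2_c2 LD3_c24)) = (LP (LK LD1_c21 LD2_c37 LD3_c45)) :=
  Lgr Lrot24 (Lpr_bt (f159257 IH) (Lpn (LP (LK LD1_c21 LD2_c37 LD3_c45))))
theorem f125637 : Led Lsl_et (LP (LK LD1_c14 LD2_c2 LD3_c16)) = (LP (LK LD1_c7 LD2_c25 LD3_c21)) :=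
  Lre_e IH (LK LD1_c14 LD2_c2 LD3_c16) (LK LD1_c7 LD2_c25 LD3_c21) Lrfl Lrfl
theorem f157700 : Led Lsl_af (LP (LK LD1_c14 LD2_c2 LD3_c16)) = (LP (LK LD1_c17 LD2_c2 LD3_c24)) :=
  Lgr Lrot50 (Lpr_et (f125637 IH) (Lpr_at (f157690 IH) (Lpr_et (f157699 IH) (Lpn (LP (LK LD1_c17 LD2_c2 LD3_c24))))))
theorem f157726 : Led Lsl_bt (LP (LK LD1_c14 LD2_c2 LD3_c16)) = (LP (LK LD1_c7 LD2_c25 LD3_c22)) :=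
  Lre_b IH (LK LD1_c14 LD2_c2 LD3_c16) (LK LD1_c7 LD2_c25 LD3_c22) Lrfl Lrfl
theorem f159264 : Led Lsl_at (LP (LK LD1_c12 LD2_c31 LD3_c46)) = (LP (LK LD1_c21 LD2_c37 LD3_c45)) :=
  Lre_a IH (LK LD1_c12 LD2_c31 LD3_c46) (LK LD1_c21 LD2_c37 LD3_c45) Lrfl Lrfl
theorem f129216 : Led Lsl_bt (LP (LK LD1_c6 LD2_c31 LD3_c61)) = (LP (LK LD1_c12 LD2_c31 LD3_c46)) :=
  Lre_b IH (LK LD1_c6 LD2_c31 LD3_c61) (LK LD1_c12 LD2_c31 LD3_c46) Lrfl Lrfl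
theorem f159265 : Led Lsl_at (LP (LK LD1_c7 LD2_c25 LD3_c22)) = (LP (LK LD1_c6 LD2_c31 LD3_c61)) :=
  Lgr Lrot67 (Lpe (f157726 IH) (Lpr_af (f157700 IH) (Lpr_bf (f159262 IH) (Lpe (f159264 IH) (Lpe (f129216 IH) (Lpn (LP (LK LD1_c6 LD2_c31 LD3_c61))))))))
theorem f159202 : Led Lsl_ct (LP (LK LD1_c3 LD2_c42 LD3_c21)) = (LP (LK LD1_c7 LD2_c25 LD3_c22)) :=
  Lre_c IH (LK LD1_c3 LD2_c42 LD3_c21) (LK LD1_c7 LD2_c25 LD3_c22) Lrfl Lrfl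
theorem f129149 : Led Lsl_et (LP (LK LD1_c3 LD2_c14 LD3_c10)) = (LP (LK LD1_c6 LD2_c31 LD3_c61)) :=
  Lre_e IH (LK LD1_c3 LD2_c14 LD3_c10) (LK LD1_c6 LD2_c31 LD3_c61) Lrfl Lrfl
theorem f129168 : Led Lsl_et (LP (LK LD1_c3 LD2_c40 LD3_c33)) = (LP (LK LD1_c1 LD2_c47 LD3_c13)) :=
  Lre_e IH (LK LD1_c3 LD2_c40 LD3_c33) (LK LD1_c1 LD2_c47 LD3_c13) Lrfl Lrfl
theorem f129201 : Led Lsl_ct (LP (LK LD1_c6 LD2_c31 LD3_c61)) = (LP (LK LD1_c3 LD2_c40 LD3_c33)) :=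
  Lgr Lrot15 (Lpe (f129149 IH) (Lpr_cf (K5.f129145 IH) (Lpe (f129168 IH) (Lpn (LP (LK LD1_c3 LD2_c40 LD3_c33))))))
theorem f159267 : Led Lsl_af (LP (LK LD1_c3 LD2_c42 LD3_c21)) = (LP (LK LD1_c3 LD2_c40 LD3_c33)) :=
  Lgr Lrot68 (Lpr_ct (f159202 IH) (Lpr_at (f159265 IH) (Lpr_ct (f129201 IH) (Lpn (LP (LK LD1_c3 LD2_c40 LD3_c33))))))
theorem f159280 : Led Lsl_ft (LP (LK LD1_c3 LD2_c42 LD3_c21)) = (LP (LK LD1_c7 LD2_c25 LD3_c26)) :=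
  Lre_f IH (LK LD1_c3 LD2_c42 LD3_c21) (LK LD1_c7 LD2_c25 LD3_c26) Lrfl Lrfl
theorem f129225 : Led Lsl_ft (LP (LK LD1_c7 LD2_c21 LD3_c17)) = (LP (LK LD1_c3 LD2_c40 LD3_c33)) :=
  Lre_f IH (LK LD1_c7 LD2_c21 LD3_c17) (LK LD1_c3 LD2_c40 LD3_c33) Lrfl Lrfl
theorem f159281 : Led Lsl_at (LP (LK LD1_c7 LD2_c25 LD3_c26)) = (LP (LK LD1_c7 LD2_c21 LD3_c17)) :=
  Lgr Lrot66 (Lpe (f159280 IH) (Lpr_af (f159267 IH) (Lpe (f129225 IH) (Lpn (LP (LK LD1_c7 LD2_c21 LD3_c17))))))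
theorem f159299 : Led Lsl_dt (LP (LK LD1_c14 LD2_c2 LD3_c23)) = (LP (LK LD1_c7 LD2_c25 LD3_c26)) :=
  Lre_d IH (LK LD1_c14 LD2_c2 LD3_c23) (LK LD1_c7 LD2_c25 LD3_c26) Lrfl Lrfl
theorem f159286 : Led Lsl_dt (LP (LK LD1_c7 LD2_c21 LD3_c17)) = (LP (LK LD1_c13 LD2_c54 LD3_c19)) :=
  Lre_d IH (LK LD1_c7 LD2_c21 LD3_c17) (LK LD1_c13 LD2_c54 LD3_c19) Lrfl Lrfl
theorem f159300 : Led Lsl_af (LP (LK LD1_c14 LD2_c2 LD3_c23)) = (LP (LK LD1_c13 LD2_c54 LD3_c19)) :=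
  Lgr Lrot117 (Lpr_dt (f159299 IH) (Lpr_at (f159281 IH) (Lpr_dt (f159286 IH) (Lpn (LP (LK LD1_c13 LD2_c54 LD3_c19))))))
theorem f159309 : Led Lsl_at (LP (LK LD1_c14 LD2_c2 LD3_c23)) = (LP (LK LD1_c13 LD2_c54 LD3_c19)) :=
  Lgr Lrot100 (Lpr_af (f159300 IH) (Lpn (LP (LK LD1_c13 LD2_c54 LD3_c19))))
theorem f159320 : Led Lsl_ft (LP (LK LD1_c7 LD2_c25 LD3_c25)) = (LP (LK LD1_c14 LD2_c2 LD3_c23)) :=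
  Lre_f IH (LK LD1_c7 LD2_c25 LD3_c25) (LK LD1_c14 LD2_c2 LD3_c23) Lrfl Lrfl
theorem f159321 : Led Lsl_ft (LP (LK LD1_c13 LD2_c54 LD3_c19)) = (LP (LK LD1_c7 LD2_c21 LD3_c16)) :=
  Lre_f IH (LK LD1_c13 LD2_c54 LD3_c19) (LK LD1_c7 LD2_c21 LD3_c16) Lrfl Lrfl
theorem f159322 : Led Lsl_af (LP (LK LD1_c7 LD2_c25 LD3_c25)) = (LP (LK LD1_c7 LD2_c21 LD3_c16)) :=
  Lgr Lrot45 (Lpr_ft (f159320 IH) (Lpr_at (f159309 IH) (Lpr_ft (f159321 IH) (Lpn (LP (LK LD1_c7 LD2_c21 LD3_c16))))))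
theorem f159333 : Led Lsl_et (LP (LK LD1_c7 LD2_c25 LD3_c25)) = (LP (LK LD1_c3 LD2_c42 LD3_c24)) :=
  Lre_e IH (LK LD1_c7 LD2_c25 LD3_c25) (LK LD1_c3 LD2_c42 LD3_c24) Lrfl Lrfl
theorem f159334 : Led Lsl_et (LP (LK LD1_c3 LD2_c40 LD3_c35)) = (LP (LK LD1_c7 LD2_c21 LD3_c16)) :=
  Lre_e IH (LK LD1_c3 LD2_c40 LD3_c35) (LK LD1_c7 LD2_c21 LD3_c16) Lrfl Lrfl
theorem f159335 : Led Lsl_at (LP (LK LD1_c3 LD2_c42 LD3_c24)) = (LP (LK LD1_c3 LD2_c40 LD3_c35)) :=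
  Lgr Lrot80 (Lpe (f159333 IH) (Lpr_af (f159322 IH) (Lpe (f159334 IH) (Lpn (LP (LK LD1_c3 LD2_c40 LD3_c35))))))
theorem f122678 : Led Lsl_dt (LP (LK LD1_c1 LD2_c48 LD3_c8)) = (LP (LK LD1_c3 LD2_c42 LD3_c24)) :=
  Lre_d IH (LK LD1_c1 LD2_c48 LD3_c8) (LK LD1_c3 LD2_c42 LD3_c24) Lrfl Lrfl
theorem f132098 : Led Lsl_dt (LP (LK LD1_c3 LD2_c40 LD3_c35)) = (LP (LK LD1_c1 LD2_c47 LD3_c14)) :=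
  Lre_d IH (LK LD1_c3 LD2_c40 LD3_c35) (LK LD1_c1 LD2_c47 LD3_c14) Lrfl Lrfl
theorem f159353 : Led Lsl_af (LP (LK LD1_c1 LD2_c48 LD3_c8)) = (LP (LK LD1_c1 LD2_c47 LD3_c14)) :=
  Lgr Lrot117 (Lpr_dt (f122678 IH) (Lpr_at (f159335 IH) (Lpr_dt (f132098 IH) (Lpn (LP (LK LD1_c1 LD2_c47 LD3_c14))))))
theorem f122677 : Led Lsl_et (LP (LK LD1_c1 LD2_c48 LD3_c8)) = (LP (LK LD1_c0 LD2_c50 LD3_c48)) :=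
  Lre_e IH (LK LD1_c1 LD2_c48 LD3_c8) (LK LD1_c0 LD2_c50 LD3_c48) Lrfl Lrfl
theorem f129165 : Led Lsl_et (LP (LK LD1_c0 LD2_c50 LD3_c24)) = (LP (LK LD1_c1 LD2_c47 LD3_c14)) :=
  Lre_e IH (LK LD1_c0 LD2_c50 LD3_c24) (LK LD1_c1 LD2_c47 LD3_c14) Lrfl Lrfl
theorem f159364 : Led Lsl_at (LP (LK LD1_c0 LD2_c50 LD3_c48)) = (LP (LK LD1_c0 LD2_c50 LD3_c24)) :=
  Lgr Lrot80 (Lpe (f122677 IH) (Lpr_af (f159353 IH) (Lpe (f129165 IH) (Lpn (LP (LK LD1_c0 LD2_c50 LD3_c24))))))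
theorem f159371 : Led Lsl_ff (LP (LK LD1_c0 LD2_c50 LD3_c48)) = (LP (LK LD1_c0 LD2_c50 LD3_c18)) :=
  Lgr Lrot52 (Lpr_at (f159364 IH) (Lpr_gf (K3.f107303 IH) (Lpr_gf (K6.f90062 IH) (Lpn (LP (LK LD1_c0 LD2_c50 LD3_c18))))))
theorem f159379 : Led Lsl_ft (LP (LK LD1_c0 LD2_c50 LD3_c48)) = (LP (LK LD1_c0 LD2_c50 LD3_c18)) :=
  Lgr Lrot48 (Lpr_ff (f159371 IH) (Lpn (LP (LK LD1_c0 LD2_c50 LD3_c18))))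
theorem f159366 : Led Lsl_af (LP (LK LD1_c0 LD2_c50 LD3_c48)) = (LP (LK LD1_c0 LD2_c50 LD3_c24)) :=
  Lgr Lrot0 (Lpr_at (f159364 IH) (Lpn (LP (LK LD1_c0 LD2_c50 LD3_c24))))
theorem f146826 : Led Lsl_at (LP (LK LD1_c0 LD2_c50 LD3_c18)) = (LP (LK LD1_c0 LD2_c50 LD3_c55)) :=
  Lgr Lrot51 (Lpe (K6.f12365 IH) (Lpr_af (K6.f146814 IH) (Lpe (K6.f120981 IH) (Lpn (LP (LK LD1_c0 LD2_c50 LD3_c55))))))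
theorem f159381 : Led Lsl_ff (LP (LK LD1_c0 LD2_c50 LD3_c24)) = (LP (LK LD1_c0 LD2_c50 LD3_c55)) :=
  Lgr Lrot30 (Lpe (f159366 IH) (Lpr_ft (f159379 IH) (Lpr_at (f146826 IH) (Lpn (LP (LK LD1_c0 LD2_c50 LD3_c55))))))
theorem f159511 : Led Lsl_ft (LP (LK LD1_c0 LD2_c50 LD3_c24)) = (LP (LK LD1_c0 LD2_c50 LD3_c55)) :=
  Lgr Lrot48 (Lpr_ff (f159381 IH) (Lpn (LP (LK LD1_c0 LD2_c50 LD3_c55))))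
theorem f159517 : Led Lsl_ff (LP (LK LD1_c1 LD2_c47 LD3_c13)) = (LP (LK LD1_c1 LD2_c48 LD3_c19)) :=
  Lgr Lrot19 (Lpr_dt (K5.f107302 IH) (Lpr_ft (f159511 IH) (Lpr_dt (K6.f120981 IH) (Lpn (LP (LK LD1_c1 LD2_c48 LD3_c19))))))
theorem f159523 : Led Lsl_ft (LP (LK LD1_c3 LD2_c14 LD3_c10)) = (LP (LK LD1_c3 LD2_c42 LD3_c6)) :=
  Lgr Lrot4 (Lpr_cf (K5.f129145 IH) (Lpr_ff (f159517 IH) (Lpe (K5.f125587 IH) (Lpn (LP (LK LD1_c3 LD2_c42 LD3_c6))))))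
theorem f146819 : Led Lsl_at (LP (LK LD1_c1 LD2_c47 LD3_c2)) = (LP (LK LD1_c1 LD2_c48 LD3_c19)) :=
  Lgr Lrot100 (Lpr_af (K6.f146814 IH) (Lpn (LP (LK LD1_c1 LD2_c48 LD3_c19))))
theorem f146834 : Led Lsl_at (LP (LK LD1_c3 LD2_c42 LD3_c6)) = (LP (LK LD1_c3 LD2_c14 LD3_c11)) :=
  Lgr Lrot107 (Lpr_cf (K6.f125592 IH) (Lpe (f146819 IH) (Lpr_cf (K6.f146832 IH) (Lpn (LP (LK LD1_c3 LD2_c14 LD3_c11))))))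
theorem f159525 : Led Lsl_gt (LP (LK LD1_c1 LD2_c47 LD3_c40)) = (LP (LK LD1_c3 LD2_c14 LD3_c11)) :=
  Lgr Lrot46 (Lpe (K5.f129158 IH) (Lpr_ft (f159523 IH) (Lpr_at (f146834 IH) (Lpn (LP (LK LD1_c3 LD2_c14 LD3_c11))))))
theorem f148053 : Led Lsl_ct (LP (LK LD1_c0 LD2_c50 LD3_c59)) = (LP (LK LD1_c1 LD2_c48 LD3_c27)) :=
  Lre_c IH (LK LD1_c0 LD2_c50 LD3_c59) (LK LD1_c1 LD2_c48 LD3_c27) Lrfl Lrfl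
theorem f147564 : Led Lsl_ct (LP (LK LD1_c3 LD2_c13 LD3_c36)) = (LP (LK LD1_c1 LD2_c47 LD3_c39)) :=
  Lgr Lrot8 (Lpr_gt (K7.f124606 IH) (Lpe (K7.f124607 IH) (Lpr_gt (K7.f147561 IH) (Lpr_dt (K6.f146899 IH) (Lpr_cf (K6.f146904 IH) (Lpe (K6.f12900 IH) (Lpe (K3.f11407 IH) (Lpe (K5.f4458 IH) (Lpe (K7.f4459 IH) (Lpn (LP (LK LD1_c1 LD2_c47 LD3_c39))))))))))))
theorem f148054 : Led Lsl_df (LP (LK LD1_c1 LD2_c48 LD3_c27)) = (LP (LK LD1_c1 LD2_c47 LD3_c40)) :=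
  Lgr Lrot162 (Lpe (f148053 IH) (Lpe (K7.f147777 IH) (Lpe (K6.f22622 IH) (Lpe (K7.f147466 IH) (Lpr_dt (K7.f148045 IH) (Lpr_gt (K7.f23615 IH) (Lpr_ct (f147564 IH) (Lpr_gt (K7.f4459 IH) (Lpr_ct (K5.f12927 IH) (Lpn (LP (LK LD1_c1 LD2_c47 LD3_c40))))))))))))
theorem f159527 : Led Lsl_gt (LP (LK LD1_c1 LD2_c48 LD3_c27)) = (LP (LK LD1_c1 LD2_c33 LD3_c37)) :=
  Lgr Lrot9 (Lpr_df (f148054 IH) (Lpr_gt (f159525 IH) (Lpe (K6.f146832 IH) (Lpe (K6.f107574 IH) (Lpr_ct (K5.f12587 IH) (Lpe (K6.f144255 IH) (Lpe (K4.f107290 IH) (Lpe (K5.f129101 IH) (Lpe (K7.f68464 IH) (Lpn (LP (LK LD1_c1 LD2_c33 LD3_c37))))))))))))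
theorem f22500 : Led Lsl_bt (LP (LK LD1_c1 LD2_c33 LD3_c30)) = (LP (LK LD1_c0 LD2_c43 LD3_c22)) :=
  Lre_b IH (LK LD1_c1 LD2_c33 LD3_c30) (LK LD1_c0 LD2_c43 LD3_c22) Lrfl Lrfl
theorem f124870 : Led Lsl_bt (LP (LK LD1_c0 LD2_c42 LD3_c18)) = (LP (LK LD1_c0 LD2_c18 LD3_c54)) :=
  Lre_b IH (LK LD1_c0 LD2_c42 LD3_c18) (LK LD1_c0 LD2_c18 LD3_c54) Lrfl Lrfl
theorem f125666 : Led Lsl_et (LP (LK LD1_c0 LD2_c18 LD3_c54)) = (LP (LK LD1_c0 LD2_c19 LD3_c10)) :=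
  Lgr Lrot74 (Lpe (f124870 IH) (Lpr_ef (K5.f125662 IH) (Lpe (f124569 IH) (Lpn (LP (LK LD1_c0 LD2_c19 LD3_c10))))))
theorem f26169 : Led Lsl_dt (LP (LK LD1_c0 LD2_c30 LD3_c40)) = (LP (LK LD1_c1 LD2_c6 LD3_c59)) :=
  Lre_d IH (LK LD1_c0 LD2_c30 LD3_c40) (LK LD1_c1 LD2_c6 LD3_c59) Lrfl Lrfl
theorem f105634 : Led Lsl_ef (LP (LK LD1_c0 LD2_c30 LD3_c39)) = (LP (LK LD1_c0 LD2_c30 LD3_c11)) :=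
  Lgr Lrot29 (Lpe (K3.f79323 IH) (Lpr_et (K3.f105632 IH) (Lpe (K3.f104335 IH) (Lpn (LP (LK LD1_c0 LD2_c30 LD3_c11))))))
theorem f128353 : Led Lsl_gt (LP (LK LD1_c1 LD2_c6 LD3_c59)) = (LP (LK LD1_c0 LD2_c43 LD3_c7)) :=
  Lgr Lrot139 (Lpe (f26169 IH) (Lpe (K5.f124580 IH) (Lpe (f125666 IH) (Lpr_dt (K5.f16667 IH) (Lpr_gf (K5.f128347 IH) (Lpe (K2.f26076 IH) (Lpr_et (K3.f82552 IH) (Lpe (K3.f26099 IH) (Lpr_ef (f105634 IH) (Lpr_dt (K3.f104337 IH) (Lpn (LP (LK LD1_c0 LD2_c43 LD3_c7)))))))))))))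
theorem f129075 : Led Lsl_gt (LP (LK LD1_c0 LD2_c43 LD3_c6)) = (LP (LK LD1_c1 LD2_c6 LD3_c59)) :=
  Lgr Lrot5 (Lpr_ft (K5.f129063 IH) (Lpe (K5.f129057 IH) (Lpe (f128353 IH) (Lpn (LP (LK LD1_c1 LD2_c6 LD3_c59))))))
theorem f26348 : Led Lsl_bt (LP (LK LD1_c0 LD2_c30 LD3_c41)) = (LP (LK LD1_c0 LD2_c13 LD3_c38)) :=
  Lre_b IH (LK LD1_c0 LD2_c30 LD3_c41) (LK LD1_c0 LD2_c13 LD3_c38) Lrfl Lrfl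
theorem f82312 : Led Lsl_at (LP (LK LD1_c1 LD2_c6 LD3_c59)) = (LP (LK LD1_c0 LD2_c30 LD3_c41)) :=
  Lre_a IH (LK LD1_c1 LD2_c6 LD3_c59) (LK LD1_c0 LD2_c30 LD3_c41) Lrfl Lrfl
theorem f62875 : Led Lsl_bt (LP (LK LD1_c0 LD2_c8 LD3_c36)) = (LP (LK LD1_c0 LD2_c19 LD3_c6)) :=
  Lre_b IH (LK LD1_c0 LD2_c8 LD3_c36) (LK LD1_c0 LD2_c19 LD3_c6) Lrfl Lrfl
theorem f82378 : Led Lsl_at (LP (LK LD1_c0 LD2_c19 LD3_c6)) = (LP (LK LD1_c0 LD2_c42 LD3_c53)) :=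
  Lre_a IH (LK LD1_c0 LD2_c19 LD3_c6) (LK LD1_c0 LD2_c42 LD3_c53) Lrfl Lrfl
theorem f82874 : Led Lsl_bf (LP (LK LD1_c1 LD2_c6 LD3_c59)) = (LP (LK LD1_c0 LD2_c42 LD3_c53)) :=
  Lgr Lrot81 (Lpr_at (f82312 IH) (Lpr_bt (f26348 IH) (Lpr_at (K4.f82872 IH) (Lpr_bt (f62875 IH) (Lpr_at (f82378 IH) (Lpn (LP (LK LD1_c0 LD2_c42 LD3_c53))))))))
theorem f23448 : Led Lsl_gt (LP (LK LD1_c2 LD2_c19 LD3_c50)) = (LP (LK LD1_c1 LD2_c7 LD3_c8)) :=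
  Lre_g IH (LK LD1_c2 LD2_c19 LD3_c50) (LK LD1_c1 LD2_c7 LD3_c8) Lrfl Lrfl
theorem f82346 : Led Lsl_gf (LP (LK LD1_c2 LD2_c19 LD3_c50)) = (LP (LK LD1_c1 LD2_c32 LD3_c32)) :=
  Lgr Lrot47 (Lpr_gt (f23448 IH) (Lpe (K4.f23442 IH) (Lpr_ff (K4.f82329 IH) (Lpn (LP (LK LD1_c1 LD2_c32 LD3_c32))))))
theorem f160759 : Led Lsl_ct (LP (LK LD1_c1 LD2_c33 LD3_c30)) = (LP (LK LD1_c2 LD2_c19 LD3_c50)) :=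
  Lgr Lrot10 (Lpr_bt (f22500 IH) (Lpr_gt (K7.f147777 IH) (Lpr_ct (f148053 IH) (Lpr_gt (f159527 IH) (Lpr_cf (K5.f68358 IH) (Lpr_bt (K5.f59509 IH) (Lpr_gt (f129075 IH) (Lpr_bf (f82874 IH) (Lpr_ct (K4.f26174 IH) (Lpe (f82346 IH) (Lpn (LP (LK LD1_c2 LD2_c19 LD3_c50)))))))))))))
theorem f147510 : Led Lsl_bt (LP (LK LD1_c0 LD2_c43 LD3_c22)) = (LP (LK LD1_c1 LD2_c33 LD3_c30)) :=
  Lre_b IH (LK LD1_c0 LD2_c43 LD3_c22) (LK LD1_c1 LD2_c33 LD3_c30) Lrfl Lrfl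
theorem f160763 : Led Lsl_bf (LP (LK LD1_c3 LD2_c20 LD3_c20)) = (LP (LK LD1_c2 LD2_c19 LD3_c50)) :=
  Lgr Lrot90 (Lpr_ct (K7.f147495 IH) (Lpr_bt (K7.f147501 IH) (Lpr_ct (K6.f22622 IH) (Lpr_bt (f147510 IH) (Lpr_ct (f160759 IH) (Lpn (LP (LK LD1_c2 LD2_c19 LD3_c50))))))))
theorem f20407 : Led Lsl_dt (LP (LK LD1_c0 LD2_c6 LD3_c47)) = (LP (LK LD1_c0 LD2_c14 LD3_c47)) :=
  Lre_d IH (LK LD1_c0 LD2_c6 LD3_c47) (LK LD1_c0 LD2_c14 LD3_c47) Lrfl Lrfl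
theorem f160774 : Led Lsl_df (LP (LK LD1_c1 LD2_c33 LD3_c30)) = (LP (LK LD1_c1 LD2_c6 LD3_c0)) :=
  Lgr Lrot183 (Lpr_ct (f160759 IH) (Lpe (f160763 IH) (Lpr_gt (K6.f56830 IH) (Lpe (K6.f141755 IH) (Lpe (K4.f100250 IH) (Lpr_bt (K4.f100279 IH) (Lpr_gt (K6.f100335 IH) (Lpr_dt (K6.f20400 IH) (Lpr_ct (K2.f20301 IH) (Lpr_bt (K2.f20300 IH) (Lpr_gt (K2.f20254 IH) (Lpr_dt (f20407 IH) (Lpr_ct (K1.f58904 IH) (Lpr_bt (K2.f58917 IH) (Lpe (K2.f78122 IH) (Lpr_dt (K2.f77791 IH) (Lpr_ct (K2.f25109 IH) (Lpr_bt (K2.f77822 IH) (Lpe (K3.f104326 IH) (Lpn (LP (LK LD1_c1 LD2_c6 LD3_c0))))))))))))))))))))))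
theorem f82377 : Led Lsl_at (LP (LK LD1_c1 LD2_c7 LD3_c6)) = (LP (LK LD1_c0 LD2_c30 LD3_c46)) :=
  Lre_a IH (LK LD1_c1 LD2_c7 LD3_c6) (LK LD1_c0 LD2_c30 LD3_c46) Lrfl Lrfl
theorem f26173 : Led Lsl_dt (LP (LK LD1_c0 LD2_c19 LD3_c5)) = (LP (LK LD1_c0 LD2_c42 LD3_c53)) :=
  Lre_d IH (LK LD1_c0 LD2_c19 LD3_c5) (LK LD1_c0 LD2_c42 LD3_c53) Lrfl Lrfl
theorem f82317 : Led Lsl_ff (LP (LK LD1_c1 LD2_c7 LD3_c6)) = (LP (LK LD1_c0 LD2_c42 LD3_c53)) :=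
  Lgr Lrot19 (Lpr_dt (K2.f23575 IH) (Lpr_ft (K2.f82310 IH) (Lpr_dt (f26173 IH) (Lpn (LP (LK LD1_c0 LD2_c42 LD3_c53))))))
theorem f110442 : Led Lsl_gt (LP (LK LD1_c0 LD2_c42 LD3_c53)) = (LP (LK LD1_c0 LD2_c41 LD3_c33)) :=
  Lgr Lrot5 (Lpe (f82317 IH) (Lpr_at (f82377 IH) (Lpr_gf (K4.f110440 IH) (Lpn (LP (LK LD1_c0 LD2_c41 LD3_c33))))))
theorem f91437 : Led Lsl_dt (LP (LK LD1_c1 LD2_c30 LD3_c5)) = (LP (LK LD1_c0 LD2_c41 LD3_c38)) :=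
  Lre_d IH (LK LD1_c1 LD2_c30 LD3_c5) (LK LD1_c0 LD2_c41 LD3_c38) Lrfl Lrfl
theorem f110447 : Led Lsl_gt (LP (LK LD1_c3 LD2_c7 LD3_c46)) = (LP (LK LD1_c1 LD2_c30 LD3_c5)) :=
  Lre_g IH (LK LD1_c3 LD2_c7 LD3_c46) (LK LD1_c1 LD2_c30 LD3_c5) Lrfl Lrfl
theorem f110448 : Led Lsl_dt (LP (LK LD1_c2 LD2_c19 LD3_c50)) = (LP (LK LD1_c3 LD2_c7 LD3_c46)) :=
  Lgr Lrot57 (Lpr_gf (f82346 IH) (Lpe (K4.f26174 IH) (Lpr_gt (f110442 IH) (Lpr_dt (K4.f57589 IH) (Lpr_gt (K3.f57579 IH) (Lpr_dt (K1.f25017 IH) (Lpe (K5.f61864 IH) (Lpe (f91437 IH) (Lpe (f110447 IH) (Lpn (LP (LK LD1_c3 LD2_c7 LD3_c46))))))))))))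
theorem f110455 : Led Lsl_df (LP (LK LD1_c2 LD2_c19 LD3_c50)) = (LP (LK LD1_c3 LD2_c7 LD3_c46)) :=
  Lgr Lrot38 (Lpr_dt (f110448 IH) (Lpn (LP (LK LD1_c3 LD2_c7 LD3_c46))))
theorem f152426 : Led Lsl_gt (LP (LK LD1_c2 LD2_c19 LD3_c7)) = (LP (LK LD1_c1 LD2_c30 LD3_c4)) :=
  Lgr Lrot5 (Lpr_ft (K7.f152407 IH) (Lpr_at (K7.f152406 IH) (Lpe (K5.f58916 IH) (Lpn (LP (LK LD1_c1 LD2_c30 LD3_c4))))))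
theorem f124811 : Led Lsl_at (LP (LK LD1_c1 LD2_c48 LD3_c31)) = (LP (LK LD1_c1 LD2_c33 LD3_c4)) :=
  Lgr Lrot51 (Lpe (K4.f26109 IH) (Lpr_af (K5.f124805 IH) (Lpe (K5.f23586 IH) (Lpn (LP (LK LD1_c1 LD2_c33 LD3_c4))))))
theorem f128946 : Led Lsl_at (LP (LK LD1_c2 LD2_c19 LD3_c16)) = (LP (LK LD1_c1 LD2_c30 LD3_c4)) :=
  Lgr Lrot107 (Lpe (K5.f124542 IH) (Lpe (f124811 IH) (Lpr_cf (K5.f128940 IH) (Lpn (LP (LK LD1_c1 LD2_c30 LD3_c4))))))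
theorem f152428 : Led Lsl_gf (LP (LK LD1_c2 LD2_c19 LD3_c7)) = (LP (LK LD1_c1 LD2_c30 LD3_c3)) :=
  Lgr Lrot47 (Lpr_gt (f152426 IH) (Lpe (f128946 IH) (Lpe (K5.f124778 IH) (Lpn (LP (LK LD1_c1 LD2_c30 LD3_c3))))))
theorem f160787 : Led Lsl_gf (LP (LK LD1_c3 LD2_c7 LD3_c46)) = (LP (LK LD1_c4 LD2_c41 LD3_c48)) :=
  Lgr Lrot143 (Lpe (f110455 IH) (Lpe (f160759 IH) (Lpr_df (f160774 IH) (Lpr_gf (K3.f104326 IH) (Lpr_df (K3.f77870 IH) (Lpr_gf (K3.f94933 IH) (Lpr_cf (K3.f91414 IH) (Lpe (f152428 IH) (Lpr_dt (K7.f152392 IH) (Lpn (LP (LK LD1_c4 LD2_c41 LD3_c48))))))))))))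
theorem f61176 : Led Lsl_bt (LP (LK LD1_c9 LD2_c18 LD3_c13)) = (LP (LK LD1_c4 LD2_c41 LD3_c48)) :=
  Lre_b IH (LK LD1_c9 LD2_c18 LD3_c13) (LK LD1_c4 LD2_c41 LD3_c48) Lrfl Lrfl
theorem f61139 : Led Lsl_bt (LP (LK LD1_c4 LD2_c38 LD3_c47)) = (LP (LK LD1_c2 LD2_c18 LD3_c8)) :=
  Lgr Lrot95 (Lpe (K7.f58894 IH) (Lpr_bf (f61125 IH) (Lpe (K7.f61138 IH) (Lpn (LP (LK LD1_c2 LD2_c18 LD3_c8))))))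
theorem f61154 : Led Lsl_ct (LP (LK LD1_c2 LD2_c18 LD3_c8)) = (LP (LK LD1_c4 LD2_c41 LD3_c48)) :=
  Lre_c IH (LK LD1_c2 LD2_c18 LD3_c8) (LK LD1_c4 LD2_c41 LD3_c48) Lrfl Lrfl
theorem f61155 : Led Lsl_bt (LP (LK LD1_c4 LD2_c41 LD3_c48)) = (LP (LK LD1_c9 LD2_c18 LD3_c13)) :=
  Lre_b IH (LK LD1_c4 LD2_c41 LD3_c48) (LK LD1_c9 LD2_c18 LD3_c13) Lrfl Lrfl
theorem f133113 : Led Lsl_bt (LP (LK LD1_c9 LD2_c23 LD3_c58)) = (LP (LK LD1_c4 LD2_c45 LD3_c39)) :=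
  Lre_b IH (LK LD1_c9 LD2_c23 LD3_c58) (LK LD1_c4 LD2_c45 LD3_c39) Lrfl Lrfl
theorem f149939 : Led Lsl_ct (LP (LK LD1_c9 LD2_c18 LD3_c13)) = (LP (LK LD1_c9 LD2_c23 LD3_c58)) :=
  Lgr Lrot83 (Lpe (f61155 IH) (Lpe (f61154 IH) (Lpe (f61139 IH) (Lpr_cf (K7.f149937 IH) (Lpe (f133113 IH) (Lpn (LP (LK LD1_c9 LD2_c23 LD3_c58))))))))
theorem f68460 : Led Lsl_ct (LP (LK LD1_c1 LD2_c33 LD3_c7)) = (LP (LK LD1_c0 LD2_c43 LD3_c6)) :=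
  Lre_c IH (LK LD1_c1 LD2_c33 LD3_c7) (LK LD1_c0 LD2_c43 LD3_c6) Lrfl Lrfl
theorem f129039 : Led Lsl_dt (LP (LK LD1_c3 LD2_c13 LD3_c22)) = (LP (LK LD1_c1 LD2_c33 LD3_c7)) :=
  Lre_d IH (LK LD1_c3 LD2_c13 LD3_c22) (LK LD1_c1 LD2_c33 LD3_c7) Lrfl Lrfl
theorem f160778 : Led Lsl_ct (LP (LK LD1_c3 LD2_c7 LD3_c46)) = (LP (LK LD1_c3 LD2_c13 LD3_c22)) :=
  Lgr Lrot176 (Lpe (f110448 IH) (Lpe (f160759 IH) (Lpr_df (f160774 IH) (Lpe (K3.f104332 IH) (Lpr_df (K3.f104340 IH) (Lpe (K5.f65560 IH) (Lpe (K5.f104343 IH) (Lpr_cf (K5.f129023 IH) (Lpe (K5.f128935 IH) (Lpe (K5.f124582 IH) (Lpe (K5.f128907 IH) (Lpe (K2.f25734 IH) (Lpr_df (K5.f128915 IH) (Lpe (f68460 IH) (Lpe (f129039 IH) (Lpn (LP (LK LD1_c3 LD2_c13 LD3_c22))))))))))))))))))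
theorem f131623 : Led Lsl_dt (LP (LK LD1_c6 LD2_c28 LD3_c22)) = (LP (LK LD1_c3 LD2_c15 LD3_c57)) :=
  Lgr Lrot42 (Lpr_df (K5.f131617 IH) (Lpn (LP (LK LD1_c3 LD2_c15 LD3_c57))))
theorem f160789 : Led Lsl_gt (LP (LK LD1_c3 LD2_c13 LD3_c22)) = (LP (LK LD1_c4 LD2_c45 LD3_c60)) :=
  Lgr Lrot150 (Lpe (f160778 IH) (Lpr_gf (f160787 IH) (Lpe (K7.f152392 IH) (Lpr_gt (f152426 IH) (Lpe (K5.f128940 IH) (Lpr_gt (K4.f120785 IH) (Lpr_ct (K4.f93665 IH) (Lpe (f131623 IH) (Lpr_cf (f131612 IH) (Lpn (LP (LK LD1_c4 LD2_c45 LD3_c60))))))))))))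
theorem f150872 : Led Lsl_ct (LP (LK LD1_c12 LD2_c37 LD3_c34)) = (LP (LK LD1_c11 LD2_c48 LD3_c56)) :=
  Lgr Lrot53 (Lpr_df (K7.f150861 IH) (Lpr_cf (K7.f149820 IH) (Lpe (K7.f115569 IH) (Lpe (K7.f96736 IH) (Lpe (K4.f115591 IH) (Lpr_ft (K4.f115611 IH) (Lpe (K6.f141709 IH) (Lpe (K6.f124527 IH) (Lpe (K7.f149758 IH) (Lpn (LP (LK LD1_c11 LD2_c48 LD3_c56))))))))))))
theorem f117065 : Led Lsl_dt (LP (LK LD1_c6 LD2_c35 LD3_c15)) = (LP (LK LD1_c3 LD2_c15 LD3_c59)) :=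
  Lre_d IH (LK LD1_c6 LD2_c35 LD3_c15) (LK LD1_c3 LD2_c15 LD3_c59) Lrfl Lrfl
theorem f150859 : Led Lsl_dt (LP (LK LD1_c12 LD2_c37 LD3_c34)) = (LP (LK LD1_c12 LD2_c1 LD3_c33)) :=
  Lgr Lrot6 (Lpr_gt (K7.f150857 IH) (Lpe (K7.f131654 IH) (Lpr_gt (K7.f117068 IH) (Lpr_ct (K6.f117036 IH) (Lpe (f117065 IH) (Lpr_cf (K4.f117033 IH) (Lpe (K4.f117028 IH) (Lpe (K4.f96108 IH) (Lpe (K7.f117042 IH) (Lpn (LP (LK LD1_c12 LD2_c1 LD3_c33))))))))))))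
theorem f115587 : Led Lsl_ff (LP (LK LD1_c3 LD2_c15 LD3_c52)) = (LP (LK LD1_c6 LD2_c10 LD3_c31)) :=
  Lgr Lrot30 (Lpr_at (K7.f115585 IH) (Lpr_ft (K4.f115579 IH) (Lpr_at (K7.f115586 IH) (Lpn (LP (LK LD1_c6 LD2_c10 LD3_c31))))))
theorem f150883 : Led Lsl_dt (LP (LK LD1_c6 LD2_c35 LD3_c13)) = (LP (LK LD1_c11 LD2_c48 LD3_c56)) :=
  Lgr Lrot32 (Lpr_cf (K6.f124511 IH) (Lpe (K7.f148691 IH) (Lpe (f115587 IH) (Lpr_at (K7.f115585 IH) (Lpe (K4.f108687 IH) (Lpe (K7.f108688 IH) (Lpe (K7.f149824 IH) (Lpe (f150859 IH) (Lpr_cf (K7.f150876 IH) (Lpn (LP (LK LD1_c11 LD2_c48 LD3_c56))))))))))))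
theorem f150889 : Led Lsl_dt (LP (LK LD1_c12 LD2_c36 LD3_c29)) = (LP (LK LD1_c17 LD2_c5 LD3_c21)) :=
  Lgr Lrot27 (Lpe (K7.f118664 IH) (Lpe (K6.f118661 IH) (Lpe (K6.f141558 IH) (Lpr_gf (K7.f150885 IH) (Lpe (f150883 IH) (Lpr_gt (K6.f117041 IH) (Lpr_ct (K4.f117066 IH) (Lpr_gt (K7.f118678 IH) (Lpe (K7.f141743 IH) (Lpn (LP (LK LD1_c17 LD2_c5 LD3_c21))))))))))))
theorem f151169 : Led Lsl_gf (LP (LK LD1_c6 LD2_c35 LD3_c46)) = (LP (LK LD1_c12 LD2_c27 LD3_c54)) :=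
  Lgr Lrot104 (Lpr_ct (K6.f141651 IH) (Lpe (K6.f141627 IH) (Lpe (K6.f141558 IH) (Lpr_gf (K7.f150885 IH) (Lpe (f150872 IH) (Lpr_gf (K7.f151165 IH) (Lpe (f150889 IH) (Lpe (K7.f118785 IH) (Lpe (K7.f141716 IH) (Lpn (LP (LK LD1_c12 LD2_c27 LD3_c54))))))))))))
theorem f160791 : Led Lsl_gt (LP (LK LD1_c6 LD2_c35 LD3_c47)) = (LP (LK LD1_c9 LD2_c23 LD3_c58)) :=
  Lgr Lrot65 (Lpe (K7.f101905 IH) (Lpr_bt (K7.f101906 IH) (Lpr_gf (f151169 IH) (Lpe (K7.f131601 IH) (Lpr_ct (K5.f131598 IH) (Lpe (f160789 IH) (Lpe (f160778 IH) (Lpr_gf (f160787 IH) (Lpe (f61176 IH) (Lpr_ct (f149939 IH) (Lpn (LP (LK LD1_c9 LD2_c23 LD3_c58)))))))))))))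
theorem f160795 : Led Lsl_bf (LP (LK LD1_c3 LD2_c7 LD3_c46)) = (LP (LK LD1_c1 LD2_c36 LD3_c33)) :=
  Lgr Lrot34 (Lpr_gf (f160787 IH) (Lpe (f61176 IH) (Lpr_ct (f149939 IH) (Lpe (f160791 IH) (Lpe (K7.f101905 IH) (Lpe (K6.f109908 IH) (Lpe (K6.f96650 IH) (Lpr_ct (K6.f96651 IH) (Lpe (K4.f40100 IH) (Lpe (K6.f57107 IH) (Lpn (LP (LK LD1_c1 LD2_c36 LD3_c33)))))))))))))
theorem f160803 : Led Lsl_bf (LP (LK LD1_c1 LD2_c30 LD3_c5)) = (LP (LK LD1_c2 LD2_c57 LD3_c16)) :=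
  Lgr Lrot34 (Lpe (f110447 IH) (Lpr_bf (f160795 IH) (Lpr_ct (K6.f57107 IH) (Lpe (K4.f24318 IH) (Lpe (K6.f56861 IH) (Lpe (K4.f56857 IH) (Lpe (K4.f57069 IH) (Lpr_ct (K4.f56849 IH) (Lpe (K4.f64545 IH) (Lpe (K4.f64542 IH) (Lpn (LP (LK LD1_c2 LD2_c57 LD3_c16)))))))))))))
theorem f128376 : Led Lsl_gt (LP (LK LD1_c2 LD2_c19 LD3_c18)) = (LP (LK LD1_c3 LD2_c12 LD3_c25)) :=
  Lgr Lrot189 (Lpe (K7.f124082 IH) (Lpe (K5.f26267 IH) (Lpr_ct (K7.f124077 IH) (Lpe (K5.f124588 IH) (Lpe (K1.f61937 IH) (Lpr_gt (K5.f124821 IH) (Lpr_dt (K5.f82400 IH) (Lpr_ct (K5.f128367 IH) (Lpe (f82367 IH) (Lpn (LP (LK LD1_c3 LD2_c12 LD3_c25))))))))))))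
theorem f152453 : Led Lsl_at (LP (LK LD1_c1 LD2_c30 LD3_c5)) = (LP (LK LD1_c3 LD2_c7 LD3_c18)) :=
  Lre_a IH (LK LD1_c1 LD2_c30 LD3_c5) (LK LD1_c3 LD2_c7 LD3_c18) Lrfl Lrfl
theorem f155512 : Led Lsl_ft (LP (LK LD1_c2 LD2_c19 LD3_c18)) = (LP (LK LD1_c1 LD2_c30 LD3_c5)) :=
  Lgr Lrot2 (Lpr_gt (f128376 IH) (Lpr_gt (f155507 IH) (Lpe (f152453 IH) (Lpn (LP (LK LD1_c1 LD2_c30 LD3_c5))))))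
theorem f155767 : Led Lsl_ff (LP (LK LD1_c2 LD2_c19 LD3_c18)) = (LP (LK LD1_c1 LD2_c30 LD3_c5)) :=
  Lgr Lrot3 (Lpr_ft (f155512 IH) (Lpn (LP (LK LD1_c1 LD2_c30 LD3_c5))))
theorem f160813 : Led Lsl_ft (LP (LK LD1_c4 LD2_c38 LD3_c32)) = (LP (LK LD1_c2 LD2_c57 LD3_c16)) :=
  Lgr Lrot75 (Lpr_bf (f150455 IH) (Lpr_ff (f155767 IH) (Lpr_bf (f160803 IH) (Lpn (LP (LK LD1_c2 LD2_c57 LD3_c16))))))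
theorem f26770 : Led Lsl_dt (LP (LK LD1_c1 LD2_c5 LD3_c4)) = (LP (LK LD1_c0 LD2_c30 LD3_c4)) :=
  Lgr Lrot79 (Lpe (f26377 IH) (Lpr_df (K0.f26762 IH) (Lpe (K4.f26764 IH) (Lpn (LP (LK LD1_c0 LD2_c30 LD3_c4))))))
theorem f35870 : Led Lsl_ct (LP (LK LD1_c2 LD2_c9 LD3_c25)) = (LP (LK LD1_c4 LD2_c23 LD3_c61)) :=
  Lre_c IH (LK LD1_c2 LD2_c9 LD3_c25) (LK LD1_c4 LD2_c23 LD3_c61) Lrfl Lrfl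
theorem f36524 : Led Lsl_dt (LP (LK LD1_c4 LD2_c23 LD3_c61)) = (LP (LK LD1_c8 LD2_c45 LD3_c48)) :=
  Lre_d IH (LK LD1_c4 LD2_c23 LD3_c61) (LK LD1_c8 LD2_c45 LD3_c48) Lrfl Lrfl
theorem f64581 : Led Lsl_at (LP (LK LD1_c2 LD2_c57 LD3_c16)) = (LP (LK LD1_c6 LD2_c2 LD3_c12)) :=
  Lre_a IH (LK LD1_c2 LD2_c57 LD3_c16) (LK LD1_c6 LD2_c2 LD3_c12) Lrfl Lrfl
theorem f160826 : Led Lsl_ct (LP (LK LD1_c8 LD2_c45 LD3_c48)) = (LP (LK LD1_c6 LD2_c2 LD3_c12)) :=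
  Lgr Lrot98 (Lpe (f36524 IH) (Lpe (f35870 IH) (Lpe (K6.f36523 IH) (Lpe (K4.f36492 IH) (Lpe (f26770 IH) (Lpe (K6.f26361 IH) (Lpe (f26866 IH) (Lpr_ft (f160813 IH) (Lpr_at (f64581 IH) (Lpn (LP (LK LD1_c6 LD2_c2 LD3_c12))))))))))))
theorem f137712 : Led Lsl_at (LP (LK LD1_c1 LD2_c34 LD3_c31)) = (LP (LK LD1_c3 LD2_c15 LD3_c34)) :=
  Lre_a IH (LK LD1_c1 LD2_c34 LD3_c31) (LK LD1_c3 LD2_c15 LD3_c34) Lrfl Lrfl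
theorem f137716 : Led Lsl_gf (LP (LK LD1_c3 LD2_c15 LD3_c34)) = (LP (LK LD1_c4 LD2_c35 LD3_c27)) :=
  Lgr Lrot76 (Lpe (f137712 IH) (Lpr_ff (K6.f137710 IH) (Lpe (K4.f103585 IH) (Lpn (LP (LK LD1_c4 LD2_c35 LD3_c27))))))
theorem f149718 : Led Lsl_df (LP (LK LD1_c4 LD2_c38 LD3_c30)) = (LP (LK LD1_c3 LD2_c15 LD3_c34)) :=
  Lgr Lrot38 (Lpr_dt (K7.f149712 IH) (Lpn (LP (LK LD1_c3 LD2_c15 LD3_c34))))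
theorem f64586 : Led Lsl_dt (LP (LK LD1_c2 LD2_c57 LD3_c12)) = (LP (LK LD1_c6 LD2_c2 LD3_c12)) :=
  Lre_d IH (LK LD1_c2 LD2_c57 LD3_c12) (LK LD1_c6 LD2_c2 LD3_c12) Lrfl Lrfl
theorem f160846 : Led Lsl_gt (LP (LK LD1_c4 LD2_c38 LD3_c30)) = (LP (LK LD1_c2 LD2_c57 LD3_c12)) :=
  Lgr Lrot189 (Lpr_df (f149718 IH) (Lpr_gf (f137716 IH) (Lpr_ct (K6.f35338 IH) (Lpr_gt (K6.f139050 IH) (Lpe (K6.f139077 IH) (Lpr_gt (K6.f36531 IH) (Lpr_dt (f36524 IH) (Lpr_ct (f160826 IH) (Lpe (f64586 IH) (Lpn (LP (LK LD1_c2 LD2_c57 LD3_c12))))))))))))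
theorem f150212 : Led Lsl_gf (LP (LK LD1_c12 LD2_c40 LD3_c37)) = (LP (LK LD1_c9 LD2_c7 LD3_c12)) :=
  Lgr Lrot76 (Lpe (K4.f79369 IH) (Lpe (K6.f118751 IH) (Lpr_gt (K7.f150210 IH) (Lpn (LP (LK LD1_c9 LD2_c7 LD3_c12))))))
theorem f64589 : Led Lsl_ct (LP (LK LD1_c2 LD2_c57 LD3_c12)) = (LP (LK LD1_c1 LD2_c24 LD3_c22)) :=
  Lre_c IH (LK LD1_c2 LD2_c57 LD3_c12) (LK LD1_c1 LD2_c24 LD3_c22) Lrfl Lrfl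
theorem f160854 : Led Lsl_gf (LP (LK LD1_c2 LD2_c14 LD3_c52)) = (LP (LK LD1_c1 LD2_c24 LD3_c22)) :=
  Lgr Lrot129 (Lpe (f37063 IH) (Lpr_bt (K7.f101620 IH) (Lpe (f150212 IH) (Lpe (K4.f79373 IH) (Lpr_ct (K7.f79377 IH) (Lpr_gt (K6.f118856 IH) (Lpr_cf (K6.f124511 IH) (Lpr_bt (K6.f124510 IH) (Lpr_gt (f160846 IH) (Lpr_ct (f64589 IH) (Lpn (LP (LK LD1_c1 LD2_c24 LD3_c22)))))))))))))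
theorem f160861 : Led Lsl_dt (LP (LK LD1_c4 LD2_c35 LD3_c19)) = (LP (LK LD1_c9 LD2_c7 LD3_c13)) :=
  Lre_d IH (LK LD1_c4 LD2_c35 LD3_c19) (LK LD1_c9 LD2_c7 LD3_c13) Lrfl Lrfl
theorem f83025 : Led Lsl_ff (LP (LK LD1_c2 LD2_c54 LD3_c41)) = (LP (LK LD1_c4 LD2_c35 LD3_c27)) :=
  Lgr Lrot19 (Lpr_dt (K2.f23922 IH) (Lpr_ft (K4.f83013 IH) (Lpr_dt (f35337 IH) (Lpn (LP (LK LD1_c4 LD2_c35 LD3_c27))))))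
theorem f83038 : Led Lsl_at (LP (LK LD1_c2 LD2_c54 LD3_c41)) = (LP (LK LD1_c5 LD2_c55 LD3_c52)) :=
  Lre_a IH (LK LD1_c2 LD2_c54 LD3_c41) (LK LD1_c5 LD2_c55 LD3_c52) Lrfl Lrfl
theorem f137719 : Led Lsl_gt (LP (LK LD1_c3 LD2_c15 LD3_c34)) = (LP (LK LD1_c5 LD2_c55 LD3_c52)) :=
  Lgr Lrot46 (Lpr_gf (f137716 IH) (Lpe (f83025 IH) (Lpr_at (f83038 IH) (Lpn (LP (LK LD1_c5 LD2_c55 LD3_c52))))))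
theorem f112658 : Led Lsl_bt (LP (LK LD1_c11 LD2_c37 LD3_c43)) = (LP (LK LD1_c5 LD2_c56 LD3_c15)) :=
  Lre_b IH (LK LD1_c11 LD2_c37 LD3_c43) (LK LD1_c5 LD2_c56 LD3_c15) Lrfl Lrfl
theorem f112659 : Led Lsl_ft (LP (LK LD1_c5 LD2_c56 LD3_c15)) = (LP (LK LD1_c8 LD2_c46 LD3_c44)) :=
  Lgr Lrot75 (Lpe (f112658 IH) (Lpr_ff (K5.f112656 IH) (Lpr_bf (K6.f70380 IH) (Lpn (LP (LK LD1_c8 LD2_c46 LD3_c44))))))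
theorem f71905 : Led Lsl_af (LP (LK LD1_c5 LD2_c56 LD3_c15)) = (LP (LK LD1_c9 LD2_c7 LD3_c25)) :=
  Lgr Lrot117 (Lpr_dt (K7.f71904 IH) (Lpr_at (K4.f71892 IH) (Lpr_dt (K2.f71902 IH) (Lpn (LP (LK LD1_c9 LD2_c7 LD3_c25))))))
theorem f83039 : Led Lsl_ft (LP (LK LD1_c5 LD2_c56 LD3_c45)) = (LP (LK LD1_c9 LD2_c7 LD3_c25)) :=
  Lgr Lrot4 (Lpe (K6.f71876 IH) (Lpr_ff (f83025 IH) (Lpe (K2.f35224 IH) (Lpn (LP (LK LD1_c9 LD2_c7 LD3_c25))))))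
theorem f112821 : Led Lsl_af (LP (LK LD1_c5 LD2_c56 LD3_c45)) = (LP (LK LD1_c8 LD2_c46 LD3_c44)) :=
  Lgr Lrot45 (Lpr_ft (f83039 IH) (Lpe (f71905 IH) (Lpr_ft (f112659 IH) (Lpn (LP (LK LD1_c8 LD2_c46 LD3_c44))))))
theorem f112823 : Led Lsl_ct (LP (LK LD1_c5 LD2_c55 LD3_c52)) = (LP (LK LD1_c8 LD2_c46 LD3_c44)) :=
  Lgr Lrot111 (Lpe (f83038 IH) (Lpe (K2.f71859 IH) (Lpr_af (f112821 IH) (Lpn (LP (LK LD1_c8 LD2_c46 LD3_c44))))))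
theorem f81927 : Led Lsl_ft (LP (LK LD1_c9 LD2_c47 LD3_c51)) = (LP (LK LD1_c4 LD2_c58 LD3_c39)) :=
  Lre_f IH (LK LD1_c9 LD2_c47 LD3_c51) (LK LD1_c4 LD2_c58 LD3_c39) Lrfl Lrfl
theorem f81918 : Led Lsl_at (LP (LK LD1_c4 LD2_c58 LD3_c39)) = (LP (LK LD1_c9 LD2_c47 LD3_c50)) :=
  Lre_a IH (LK LD1_c4 LD2_c58 LD3_c39) (LK LD1_c9 LD2_c47 LD3_c50) Lrfl Lrfl
theorem f139058 : Led Lsl_gt (LP (LK LD1_c8 LD2_c46 LD3_c44)) = (LP (LK LD1_c9 LD2_c47 LD3_c50)) :=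
  Lgr Lrot46 (Lpr_gf (K6.f139052 IH) (Lpr_ft (f81927 IH) (Lpr_at (f81918 IH) (Lpn (LP (LK LD1_c9 LD2_c47 LD3_c50))))))
theorem f160862 : Led Lsl_cf (LP (LK LD1_c9 LD2_c7 LD3_c13)) = (LP (LK LD1_c9 LD2_c47 LD3_c50)) :=
  Lgr Lrot99 (Lpe (f160861 IH) (Lpe (K7.f101619 IH) (Lpr_gf (f160854 IH) (Lpe (f64589 IH) (Lpe (f160846 IH) (Lpr_df (f149718 IH) (Lpr_gt (f137719 IH) (Lpr_ct (f112823 IH) (Lpr_gt (f139058 IH) (Lpn (LP (LK LD1_c9 LD2_c47 LD3_c50))))))))))))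
theorem f35871 : Led Lsl_gt (LP (LK LD1_c4 LD2_c23 LD3_c61)) = (LP (LK LD1_c8 LD2_c45 LD3_c46)) :=
  Lre_g IH (LK LD1_c4 LD2_c23 LD3_c61) (LK LD1_c8 LD2_c45 LD3_c46) Lrfl Lrfl
theorem f139119 : Led Lsl_af (LP (LK LD1_c8 LD2_c45 LD3_c46)) = (LP (LK LD1_c5 LD2_c55 LD3_c39)) :=
  Lgr Lrot31 (Lpe (f35871 IH) (Lpe (K6.f36531 IH) (Lpr_ft (K6.f139112 IH) (Lpn (LP (LK LD1_c5 LD2_c55 LD3_c39))))))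
theorem f81919 : Led Lsl_dt (LP (LK LD1_c4 LD2_c58 LD3_c39)) = (LP (LK LD1_c5 LD2_c55 LD3_c39)) :=
  Lgr Lrot42 (Lpr_df (K6.f81915 IH) (Lpn (LP (LK LD1_c5 LD2_c55 LD3_c39))))
theorem f81925 : Led Lsl_at (LP (LK LD1_c9 LD2_c47 LD3_c50)) = (LP (LK LD1_c4 LD2_c58 LD3_c39)) :=
  Lre_a IH (LK LD1_c9 LD2_c47 LD3_c50) (LK LD1_c4 LD2_c58 LD3_c39) Lrfl Lrfl
theorem f139123 : Led Lsl_dt (LP (LK LD1_c8 LD2_c45 LD3_c46)) = (LP (LK LD1_c9 LD2_c47 LD3_c50)) :=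
  Lgr Lrot44 (Lpr_af (f139119 IH) (Lpe (f81919 IH) (Lpe (f81925 IH) (Lpn (LP (LK LD1_c9 LD2_c47 LD3_c50))))))
theorem f80036 : Led Lsl_ct (LP (LK LD1_c4 LD2_c38 LD3_c3)) = (LP (LK LD1_c9 LD2_c11 LD3_c49)) :=
  Lre_c IH (LK LD1_c4 LD2_c38 LD3_c3) (LK LD1_c9 LD2_c11 LD3_c49) Lrfl Lrfl
theorem f36251 : Led Lsl_gt (LP (LK LD1_c1 LD2_c56 LD3_c32)) = (LP (LK LD1_c0 LD2_c55 LD3_c2)) :=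
  Lre_g IH (LK LD1_c1 LD2_c56 LD3_c32) (LK LD1_c0 LD2_c55 LD3_c2) Lrfl Lrfl
theorem f36252 : Led Lsl_bt (LP (LK LD1_c3 LD2_c59 LD3_c44)) = (LP (LK LD1_c1 LD2_c56 LD3_c32)) :=
  Lre_b IH (LK LD1_c3 LD2_c59 LD3_c44) (LK LD1_c1 LD2_c56 LD3_c32) Lrfl Lrfl
theorem f37455 : Led Lsl_ct (LP (LK LD1_c8 LD2_c0 LD3_c31)) = (LP (LK LD1_c3 LD2_c59 LD3_c44)) :=
  Lre_c IH (LK LD1_c8 LD2_c0 LD3_c31) (LK LD1_c3 LD2_c59 LD3_c44) Lrfl Lrfl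
theorem f132548 : Led Lsl_df (LP (LK LD1_c8 LD2_c0 LD3_c31)) = (LP (LK LD1_c9 LD2_c11 LD3_c47)) :=
  Lgr Lrot183 (Lpr_ct (f37455 IH) (Lpr_bt (f36252 IH) (Lpr_gt (f36251 IH) (Lpr_dt (K1.f37454 IH) (Lpr_ct (K1.f35530 IH) (Lpr_bt (K7.f37041 IH) (Lpr_gt (K1.f35549 IH) (Lpr_dt (K1.f35591 IH) (Lpr_ct (K1.f37446 IH) (Lpr_bt (K2.f81765 IH) (Lpr_gt (K4.f81782 IH) (Lpr_dt (K4.f112834 IH) (Lpe (K4.f117543 IH) (Lpe (K5.f132540 IH) (Lpr_gt (K6.f132544 IH) (Lpr_dt (K4.f79965 IH) (Lpr_ct (K0.f26381 IH) (Lpr_bt (K7.f80028 IH) (Lpr_gt (K7.f80029 IH) (Lpn (LP (LK LD1_c9 LD2_c11 LD3_c47))))))))))))))))))))))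
theorem f160868 : Led Lsl_gf (LP (LK LD1_c4 LD2_c35 LD3_c19)) = (LP (LK LD1_c8 LD2_c0 LD3_c31)) :=
  Lgr Lrot143 (Lpr_dt (f160861 IH) (Lpr_cf (f160862 IH) (Lpe (f139123 IH) (Lpe (f35871 IH) (Lpe (K4.f36563 IH) (Lpr_gf (K4.f80032 IH) (Lpe (f80036 IH) (Lpr_gt (K7.f80029 IH) (Lpe (f132548 IH) (Lpn (LP (LK LD1_c8 LD2_c0 LD3_c31))))))))))))
theorem f158433 : Led Lsl_gt (LP (LK LD1_c1 LD2_c21 LD3_c53)) = (LP (LK LD1_c1 LD2_c56 LD3_c26)) :=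
  Lgr Lrot94 (Lpe (K6.f112861 IH) (Lpr_gt (K6.f24074 IH) (Lpr_dt (K2.f69446 IH) (Lpr_gt (K4.f81782 IH) (Lpr_dt (K4.f112834 IH) (Lpe (K4.f117540 IH) (Lpe (K4.f117520 IH) (Lpr_gf (f158429 IH) (Lpe (K5.f37762 IH) (Lpn (LP (LK LD1_c1 LD2_c56 LD3_c26))))))))))))
theorem f36253 : Led Lsl_ct (LP (LK LD1_c3 LD2_c59 LD3_c44)) = (LP (LK LD1_c8 LD2_c0 LD3_c31)) :=
  Lre_c IH (LK LD1_c3 LD2_c59 LD3_c44) (LK LD1_c8 LD2_c0 LD3_c31) Lrfl Lrfl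
theorem f160870 : Led Lsl_gt (LP (LK LD1_c2 LD2_c50 LD3_c9)) = (LP (LK LD1_c3 LD2_c59 LD3_c44)) :=
  Lgr Lrot9 (Lpe (K7.f149678 IH) (Lpr_gt (f158433 IH) (Lpr_ct (K5.f37061 IH) (Lpe (K7.f37055 IH) (Lpr_ct (K7.f35232 IH) (Lpe (K7.f35234 IH) (Lpe (f37063 IH) (Lpr_gf (f160868 IH) (Lpe (f36253 IH) (Lpn (LP (LK LD1_c3 LD2_c59 LD3_c44))))))))))))
theorem f56777 : Led Lsl_dt (LP (LK LD1_c1 LD2_c24 LD3_c23)) = (LP (LK LD1_c2 LD2_c57 LD3_c16)) :=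
  Lre_d IH (LK LD1_c1 LD2_c24 LD3_c23) (LK LD1_c2 LD2_c57 LD3_c16) Lrfl Lrfl
theorem f157740 : Led Lsl_ff (LP (LK LD1_c7 LD2_c25 LD3_c41)) = (LP (LK LD1_c6 LD2_c42 LD3_c10)) :=
  Lgr Lrot3 (Lpr_ft (f157733 IH) (Lpn (LP (LK LD1_c6 LD2_c42 LD3_c10))))
theorem f157754 : Led Lsl_ct (LP (LK LD1_c7 LD2_c25 LD3_c41)) = (LP (LK LD1_c6 LD2_c50 LD3_c28)) :=
  Lgr Lrot40 (Lpr_ff (f157740 IH) (Lpr_cf (K7.f139788 IH) (Lpr_ff (f139744 IH) (Lpn (LP (LK LD1_c6 LD2_c50 LD3_c28))))))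
theorem f157702 : Led Lsl_gt (LP (LK LD1_c12 LD2_c22 LD3_c2)) = (LP (LK LD1_c9 LD2_c9 LD3_c26)) :=
  Lgr Lrot46 (Lpr_gf (f117673 IH) (Lpe (f157684 IH) (Lpr_at (f157690 IH) (Lpn (LP (LK LD1_c9 LD2_c9 LD3_c26))))))
theorem f68467 : Led Lsl_et (LP (LK LD1_c1 LD2_c33 LD3_c37)) = (LP (LK LD1_c3 LD2_c14 LD3_c9)) :=
  Lre_e IH (LK LD1_c1 LD2_c33 LD3_c37) (LK LD1_c3 LD2_c14 LD3_c9) Lrfl Lrfl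
theorem f68469 : Led Lsl_ct (LP (LK LD1_c3 LD2_c14 LD3_c9)) = (LP (LK LD1_c3 LD2_c13 LD3_c20)) :=
  Lgr Lrot15 (Lpe (f68467 IH) (Lpr_cf (K5.f68358 IH) (Lpe (K5.f68468 IH) (Lpn (LP (LK LD1_c3 LD2_c13 LD3_c20))))))
theorem f68479 : Led Lsl_cf (LP (LK LD1_c3 LD2_c14 LD3_c9)) = (LP (LK LD1_c3 LD2_c13 LD3_c20)) :=
  Lgr Lrot11 (Lpr_ct (f68469 IH) (Lpn (LP (LK LD1_c3 LD2_c13 LD3_c20))))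
theorem f68488 : Led Lsl_bt (LP (LK LD1_c3 LD2_c14 LD3_c9)) = (LP (LK LD1_c6 LD2_c31 LD3_c56)) :=
  Lre_b IH (LK LD1_c3 LD2_c14 LD3_c9) (LK LD1_c6 LD2_c31 LD3_c56) Lrfl Lrfl
theorem f68496 : Led Lsl_bt (LP (LK LD1_c1 LD2_c33 LD3_c8)) = (LP (LK LD1_c3 LD2_c13 LD3_c20)) :=
  Lre_b IH (LK LD1_c1 LD2_c33 LD3_c8) (LK LD1_c3 LD2_c13 LD3_c20) Lrfl Lrfl
theorem f68497 : Led Lsl_ct (LP (LK LD1_c3 LD2_c13 LD3_c23)) = (LP (LK LD1_c1 LD2_c33 LD3_c8)) :=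
  Lre_c IH (LK LD1_c3 LD2_c13 LD3_c23) (LK LD1_c1 LD2_c33 LD3_c8) Lrfl Lrfl
theorem f68498 : Led Lsl_bt (LP (LK LD1_c6 LD2_c30 LD3_c33)) = (LP (LK LD1_c3 LD2_c13 LD3_c23)) :=
  Lre_b IH (LK LD1_c6 LD2_c30 LD3_c33) (LK LD1_c3 LD2_c13 LD3_c23) Lrfl Lrfl
theorem f68499 : Led Lsl_ct (LP (LK LD1_c6 LD2_c31 LD3_c56)) = (LP (LK LD1_c6 LD2_c30 LD3_c33)) :=
  Lgr Lrot83 (Lpe (f68488 IH) (Lpr_cf (f68479 IH) (Lpe (f68496 IH) (Lpe (f68497 IH) (Lpe (f68498 IH) (Lpn (LP (LK LD1_c6 LD2_c30 LD3_c33))))))))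
theorem f68507 : Led Lsl_et (LP (LK LD1_c3 LD2_c14 LD3_c7)) = (LP (LK LD1_c6 LD2_c31 LD3_c56)) :=
  Lre_e IH (LK LD1_c3 LD2_c14 LD3_c7) (LK LD1_c6 LD2_c31 LD3_c56) Lrfl Lrfl
theorem f68508 : Led Lsl_et (LP (LK LD1_c6 LD2_c30 LD3_c33)) = (LP (LK LD1_c3 LD2_c13 LD3_c21)) :=
  Lre_e IH (LK LD1_c6 LD2_c30 LD3_c33) (LK LD1_c3 LD2_c13 LD3_c21) Lrfl Lrfl
theorem f68509 : Led Lsl_cf (LP (LK LD1_c3 LD2_c14 LD3_c7)) = (LP (LK LD1_c3 LD2_c13 LD3_c21)) :=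
  Lgr Lrot39 (Lpr_et (f68507 IH) (Lpr_ct (f68499 IH) (Lpr_et (f68508 IH) (Lpn (LP (LK LD1_c3 LD2_c13 LD3_c21))))))
theorem f73415 : Led Lsl_dt (LP (LK LD1_c5 LD2_c47 LD3_c32)) = (LP (LK LD1_c2 LD2_c49 LD3_c44)) :=
  Lre_d IH (LK LD1_c5 LD2_c47 LD3_c32) (LK LD1_c2 LD2_c49 LD3_c44) Lrfl Lrfl
theorem f157789 : Led Lsl_gt (LP (LK LD1_c3 LD2_c13 LD3_c21)) = (LP (LK LD1_c5 LD2_c47 LD3_c32)) :=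
  Lgr Lrot180 (Lpe (f68509 IH) (Lpr_gt (f68472 IH) (Lpr_dt (f129103 IH) (Lpr_gt (f157702 IH) (Lpe (f157697 IH) (Lpr_ct (f157754 IH) (Lpe (f139746 IH) (Lpe (f56658 IH) (Lpe (f73415 IH) (Lpn (LP (LK LD1_c5 LD2_c47 LD3_c32))))))))))))
theorem f125634 : Led Lsl_gt (LP (LK LD1_c7 LD2_c25 LD3_c40)) = (LP (LK LD1_c3 LD2_c42 LD3_c30)) :=
  Lre_g IH (LK LD1_c7 LD2_c25 LD3_c40) (LK LD1_c3 LD2_c42 LD3_c30) Lrfl Lrfl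
theorem f157756 : Led Lsl_gf (LP (LK LD1_c7 LD2_c25 LD3_c40)) = (LP (LK LD1_c6 LD2_c42 LD3_c10)) :=
  Lgr Lrot47 (Lpr_gt (f125634 IH) (Lpe (f125630 IH) (Lpr_ff (f157740 IH) (Lpn (LP (LK LD1_c6 LD2_c42 LD3_c10))))))
theorem f149034 : Led Lsl_at (LP (LK LD1_c4 LD2_c35 LD3_c48)) = (LP (LK LD1_c2 LD2_c53 LD3_c13)) :=
  Lgr Lrot100 (Lpr_af (K7.f149032 IH) (Lpn (LP (LK LD1_c2 LD2_c53 LD3_c13))))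
theorem f72420 : Led Lsl_gt (LP (LK LD1_c2 LD2_c53 LD3_c5)) = (LP (LK LD1_c5 LD2_c53 LD3_c29)) :=
  Lre_g IH (LK LD1_c2 LD2_c53 LD3_c5) (LK LD1_c5 LD2_c53 LD3_c29) Lrfl Lrfl
theorem f149171 : Led Lsl_gf (LP (LK LD1_c2 LD2_c53 LD3_c13)) = (LP (LK LD1_c5 LD2_c53 LD3_c29)) :=
  Lgr Lrot76 (Lpe (f149034 IH) (Lpr_ff (K7.f149165 IH) (Lpr_gt (f72420 IH) (Lpn (LP (LK LD1_c5 LD2_c53 LD3_c29))))))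
theorem f149175 : Led Lsl_df (LP (LK LD1_c3 LD2_c4 LD3_c54)) = (LP (LK LD1_c5 LD2_c53 LD3_c29)) :=
  Lgr Lrot155 (Lpe (K5.f80258 IH) (Lpr_ct (K5.f60871 IH) (Lpr_gt (K5.f60870 IH) (Lpr_ct (f59803 IH) (Lpr_dt (K6.f80263 IH) (Lpe (K6.f38097 IH) (Lpe (K6.f137492 IH) (Lpe (K6.f101751 IH) (Lpr_gf (f149171 IH) (Lpn (LP (LK LD1_c5 LD2_c53 LD3_c29))))))))))))
theorem f60868 : Led Lsl_dt (LP (LK LD1_c3 LD2_c4 LD3_c42)) = (LP (LK LD1_c6 LD2_c15 LD3_c17)) :=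
  Lre_d IH (LK LD1_c3 LD2_c4 LD3_c42) (LK LD1_c6 LD2_c15 LD3_c17) Lrfl Lrfl
theorem f149178 : Led Lsl_bt (LP (LK LD1_c6 LD2_c15 LD3_c17)) = (LP (LK LD1_c5 LD2_c53 LD3_c29)) :=
  Lgr Lrot95 (Lpe (f60868 IH) (Lpr_bf (K5.f80248 IH) (Lpr_df (f149175 IH) (Lpn (LP (LK LD1_c5 LD2_c53 LD3_c29))))))
theorem f38103 : Led Lsl_ct (LP (LK LD1_c2 LD2_c10 LD3_c30)) = (LP (LK LD1_c4 LD2_c26 LD3_c18)) :=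
  Lre_c IH (LK LD1_c2 LD2_c10 LD3_c30) (LK LD1_c4 LD2_c26 LD3_c18) Lrfl Lrfl
theorem f38104 : Led Lsl_gt (LP (LK LD1_c4 LD2_c26 LD3_c18)) = (LP (LK LD1_c8 LD2_c50 LD3_c1)) :=
  Lre_g IH (LK LD1_c4 LD2_c26 LD3_c18) (LK LD1_c8 LD2_c50 LD3_c1) Lrfl Lrfl
theorem f149201 : Led Lsl_ct (LP (LK LD1_c6 LD2_c15 LD3_c17)) = (LP (LK LD1_c8 LD2_c50 LD3_c1)) :=
  Lgr Lrot10 (Lpr_bt (f149178 IH) (Lpe (f149171 IH) (Lpr_ct (K6.f101751 IH) (Lpr_gt (K6.f137492 IH) (Lpe (K6.f38024 IH) (Lpr_bt (K6.f38023 IH) (Lpe (K2.f38015 IH) (Lpe (K1.f16566 IH) (Lpr_ct (f38103 IH) (Lpr_gt (f38104 IH) (Lpn (LP (LK LD1_c8 LD2_c50 LD3_c1)))))))))))))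
theorem f149203 : Led Lsl_cf (LP (LK LD1_c6 LD2_c15 LD3_c17)) = (LP (LK LD1_c8 LD2_c50 LD3_c1)) :=
  Lgr Lrot11 (Lpr_ct (f149201 IH) (Lpn (LP (LK LD1_c8 LD2_c50 LD3_c1))))
theorem f60867 : Led Lsl_dt (LP (LK LD1_c6 LD2_c15 LD3_c17)) = (LP (LK LD1_c3 LD2_c4 LD3_c42)) :=
  Lre_d IH (LK LD1_c6 LD2_c15 LD3_c17) (LK LD1_c3 LD2_c4 LD3_c42) Lrfl Lrfl
theorem f38025 : Led Lsl_gt (LP (LK LD1_c4 LD2_c26 LD3_c36)) = (LP (LK LD1_c2 LD2_c10 LD3_c30)) :=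
  Lre_g IH (LK LD1_c4 LD2_c26 LD3_c36) (LK LD1_c2 LD2_c10 LD3_c30) Lrfl Lrfl
theorem f149207 : Led Lsl_dt (LP (LK LD1_c3 LD2_c4 LD3_c0)) = (LP (LK LD1_c4 LD2_c26 LD3_c36)) :=
  Lgr Lrot6 (Lpr_gt (K4.f37226 IH) (Lpr_ct (K2.f60850 IH) (Lpr_gt (K4.f60852 IH) (Lpr_ct (f60866 IH) (Lpe (f60867 IH) (Lpr_cf (f149203 IH) (Lpe (f38104 IH) (Lpe (f38103 IH) (Lpe (f38025 IH) (Lpn (LP (LK LD1_c4 LD2_c26 LD3_c36))))))))))))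
theorem f73398 : Led Lsl_ct (LP (LK LD1_c2 LD2_c49 LD3_c37)) = (LP (LK LD1_c1 LD2_c20 LD3_c57)) :=
  Lre_c IH (LK LD1_c2 LD2_c49 LD3_c37) (LK LD1_c1 LD2_c20 LD3_c57) Lrfl Lrfl
theorem f73408 : Led Lsl_ff (LP (LK LD1_c1 LD2_c28 LD3_c26)) = (LP (LK LD1_c1 LD2_c20 LD3_c57)) :=
  Lgr Lrot23 (Lpe (K2.f60864 IH) (Lpr_ft (K4.f73405 IH) (Lpr_ct (f73398 IH) (Lpn (LP (LK LD1_c1 LD2_c20 LD3_c57))))))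
theorem f60853 : Led Lsl_gt (LP (LK LD1_c1 LD2_c28 LD3_c25)) = (LP (LK LD1_c0 LD2_c40 LD3_c52)) :=
  Lre_g IH (LK LD1_c1 LD2_c28 LD3_c25) (LK LD1_c0 LD2_c40 LD3_c52) Lrfl Lrfl
theorem f73426 : Led Lsl_gf (LP (LK LD1_c1 LD2_c28 LD3_c25)) = (LP (LK LD1_c1 LD2_c20 LD3_c57)) :=
  Lgr Lrot47 (Lpr_gt (f60853 IH) (Lpe (K2.f60846 IH) (Lpr_ff (f73408 IH) (Lpn (LP (LK LD1_c1 LD2_c20 LD3_c57))))))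
theorem f40015 : Led Lsl_ct (LP (LK LD1_c4 LD2_c26 LD3_c18)) = (LP (LK LD1_c2 LD2_c10 LD3_c30)) :=
  Lre_c IH (LK LD1_c4 LD2_c26 LD3_c18) (LK LD1_c2 LD2_c10 LD3_c30) Lrfl Lrfl
theorem f99555 : Led Lsl_dt (LP (LK LD1_c2 LD2_c10 LD3_c30)) = (LP (LK LD1_c1 LD2_c27 LD3_c32)) :=
  Lgr Lrot32 (Lpe (f40015 IH) (Lpe (K6.f40016 IH) (Lpr_ft (K6.f40644 IH) (Lpe (K6.f40646 IH) (Lpe (K4.f40352 IH) (Lpe (K2.f40353 IH) (Lpe (K4.f40398 IH) (Lpr_df (K4.f99540 IH) (Lpe (K6.f69322 IH) (Lpn (LP (LK LD1_c1 LD2_c27 LD3_c32))))))))))))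
theorem f69009 : Led Lsl_dt (LP (LK LD1_c1 LD2_c22 LD3_c41)) = (LP (LK LD1_c2 LD2_c53 LD3_c12)) :=
  Lre_d IH (LK LD1_c1 LD2_c22 LD3_c41) (LK LD1_c2 LD2_c53 LD3_c12) Lrfl Lrfl
theorem f99538 : Led Lsl_dt (LP (LK LD1_c0 LD2_c45 LD3_c33)) = (LP (LK LD1_c0 LD2_c40 LD3_c32)) :=
  Lgr Lrot6 (Lpr_gt (K4.f23589 IH) (Lpr_ct (K4.f69000 IH) (Lpe (K4.f69001 IH) (Lpr_ct (K4.f69006 IH) (Lpe (f69009 IH) (Lpe (K4.f69008 IH) (Lpr_gf (K4.f99533 IH) (Lpe (K4.f99525 IH) (Lpe (K4.f36621 IH) (Lpn (LP (LK LD1_c0 LD2_c40 LD3_c32))))))))))))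
theorem f40334 : Led Lsl_gt (LP (LK LD1_c1 LD2_c38 LD3_c18)) = (LP (LK LD1_c0 LD2_c45 LD3_c33)) :=
  Lre_g IH (LK LD1_c1 LD2_c38 LD3_c18) (LK LD1_c0 LD2_c45 LD3_c33) Lrfl Lrfl
theorem f149211 : Led Lsl_dt (LP (LK LD1_c1 LD2_c28 LD3_c25)) = (LP (LK LD1_c1 LD2_c38 LD3_c18)) :=
  Lgr Lrot57 (Lpr_gf (f73426 IH) (Lpe (f73398 IH) (Lpe (K4.f73419 IH) (Lpr_dt (f149207 IH) (Lpr_gt (f38025 IH) (Lpr_dt (f99555 IH) (Lpe (K5.f59552 IH) (Lpe (f99538 IH) (Lpe (f40334 IH) (Lpn (LP (LK LD1_c1 LD2_c38 LD3_c18))))))))))))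
theorem f149215 : Led Lsl_df (LP (LK LD1_c1 LD2_c28 LD3_c25)) = (LP (LK LD1_c1 LD2_c38 LD3_c18)) :=
  Lgr Lrot38 (Lpr_dt (f149211 IH) (Lpn (LP (LK LD1_c1 LD2_c38 LD3_c18))))
theorem f73430 : Led Lsl_ct (LP (LK LD1_c1 LD2_c28 LD3_c25)) = (LP (LK LD1_c3 LD2_c4 LD3_c44)) :=
  Lre_c IH (LK LD1_c1 LD2_c28 LD3_c25) (LK LD1_c3 LD2_c4 LD3_c44) Lrfl Lrfl
theorem f73432 : Led Lsl_dt (LP (LK LD1_c6 LD2_c15 LD3_c19)) = (LP (LK LD1_c3 LD2_c4 LD3_c44)) :=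
  Lre_d IH (LK LD1_c6 LD2_c15 LD3_c19) (LK LD1_c3 LD2_c4 LD3_c44) Lrfl Lrfl
theorem f40335 : Led Lsl_gt (LP (LK LD1_c1 LD2_c56 LD3_c30)) = (LP (LK LD1_c1 LD2_c38 LD3_c18)) :=
  Lgr Lrot5 (Lpr_ft (K2.f40321 IH) (Lpr_at (K2.f40324 IH) (Lpe (f40334 IH) (Lpn (LP (LK LD1_c1 LD2_c38 LD3_c18))))))
theorem f99535 : Led Lsl_dt (LP (LK LD1_c2 LD2_c53 LD3_c11)) = (LP (LK LD1_c5 LD2_c53 LD3_c41)) :=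
  Lre_d IH (LK LD1_c2 LD2_c53 LD3_c11) (LK LD1_c5 LD2_c53 LD3_c41) Lrfl Lrfl
theorem f149242 : Led Lsl_gf (LP (LK LD1_c6 LD2_c15 LD3_c19)) = (LP (LK LD1_c5 LD2_c53 LD3_c41)) :=
  Lgr Lrot143 (Lpr_dt (f73432 IH) (Lpe (f73430 IH) (Lpr_df (f149215 IH) (Lpe (f40335 IH) (Lpe (K1.f40329 IH) (Lpr_gf (K4.f99581 IH) (Lpe (K6.f72251 IH) (Lpe (K4.f99533 IH) (Lpr_dt (f99535 IH) (Lpn (LP (LK LD1_c5 LD2_c53 LD3_c41))))))))))))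
theorem f138551 : Led Lsl_ff (LP (LK LD1_c4 LD2_c42 LD3_c51)) = (LP (LK LD1_c3 LD2_c5 LD3_c2)) :=
  Lgr Lrot30 (Lpr_at (f138545 IH) (Lpr_ft (f117616 IH) (Lpe (f119075 IH) (Lpn (LP (LK LD1_c3 LD2_c5 LD3_c2))))))
theorem f80547 : Led Lsl_gf (LP (LK LD1_c0 LD2_c55 LD3_c21)) = (LP (LK LD1_c0 LD2_c40 LD3_c44)) :=
  Lgr Lrot129 (Lpe (K4.f80437 IH) (Lpr_bt (K4.f80538 IH) (Lpr_gt (K1.f59351 IH) (Lpe (K1.f22460 IH) (Lpr_ct (K0.f21206 IH) (Lpe (K1.f26017 IH) (Lpe (K0.f25997 IH) (Lpr_bt (K1.f36489 IH) (Lpe (K1.f59661 IH) (Lpr_ct (K1.f59679 IH) (Lpn (LP (LK LD1_c0 LD2_c40 LD3_c44)))))))))))))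
theorem f60854 : Led Lsl_ct (LP (LK LD1_c3 LD2_c4 LD3_c44)) = (LP (LK LD1_c1 LD2_c28 LD3_c25)) :=
  Lre_c IH (LK LD1_c3 LD2_c4 LD3_c44) (LK LD1_c1 LD2_c28 LD3_c25) Lrfl Lrfl
theorem f81102 : Led Lsl_gf (LP (LK LD1_c3 LD2_c4 LD3_c44)) = (LP (LK LD1_c3 LD2_c5 LD3_c2)) :=
  Lgr Lrot181 (Lpr_ct (f60854 IH) (Lpr_gt (f60853 IH) (Lpe (K2.f60850 IH) (Lpr_bt (K5.f56493 IH) (Lpe (f80547 IH) (Lpe (K5.f80542 IH) (Lpr_ct (K4.f80674 IH) (Lpr_gt (K4.f59627 IH) (Lpe (K5.f80688 IH) (Lpr_bt (f80987 IH) (Lpn (LP (LK LD1_c3 LD2_c5 LD3_c2)))))))))))))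
theorem f138553 : Led Lsl_gt (LP (LK LD1_c3 LD2_c4 LD3_c44)) = (LP (LK LD1_c3 LD2_c9 LD3_c54)) :=
  Lgr Lrot46 (Lpr_gf (f81102 IH) (Lpe (f138551 IH) (Lpr_at (f138545 IH) (Lpn (LP (LK LD1_c3 LD2_c9 LD3_c54))))))
theorem f68520 : Led Lsl_dt (LP (LK LD1_c6 LD2_c31 LD3_c55)) = (LP (LK LD1_c3 LD2_c14 LD3_c7)) :=
  Lre_d IH (LK LD1_c6 LD2_c31 LD3_c55) (LK LD1_c3 LD2_c14 LD3_c7) Lrfl Lrfl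
theorem f99537 : Led Lsl_ct (LP (LK LD1_c11 LD2_c33 LD3_c19)) = (LP (LK LD1_c5 LD2_c53 LD3_c41)) :=
  Lre_c IH (LK LD1_c11 LD2_c33 LD3_c19) (LK LD1_c5 LD2_c53 LD3_c41) Lrfl Lrfl
theorem f149268 : Led Lsl_gf (LP (LK LD1_c6 LD2_c31 LD3_c55)) = (LP (LK LD1_c11 LD2_c33 LD3_c19)) :=
  Lgr Lrot144 (Lpr_dt (f68520 IH) (Lpr_gt (f68472 IH) (Lpr_dt (f129103 IH) (Lpe (f117623 IH) (Lpe (f117622 IH) (Lpe (f138553 IH) (Lpe (f73432 IH) (Lpr_gf (f149242 IH) (Lpe (f99537 IH) (Lpn (LP (LK LD1_c11 LD2_c33 LD3_c19))))))))))))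
theorem f156735 : Led Lsl_dt (LP (LK LD1_c7 LD2_c25 LD3_c40)) = (LP (LK LD1_c11 LD2_c33 LD3_c19)) :=
  Lgr Lrot6 (Lpr_gt (f125634 IH) (Lpe (K7.f124123 IH) (Lpe (K4.f104729 IH) (Lpr_ct (K1.f40037 IH) (Lpr_df (K1.f40046 IH) (Lpe (K7.f16156 IH) (Lpe (K7.f40033 IH) (Lpr_cf (K7.f156728 IH) (Lpr_gf (f149268 IH) (Lpn (LP (LK LD1_c11 LD2_c33 LD3_c19))))))))))))
theorem f68459 : Led Lsl_bt (LP (LK LD1_c0 LD2_c43 LD3_c6)) = (LP (LK LD1_c1 LD2_c33 LD3_c6)) :=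
  Lre_b IH (LK LD1_c0 LD2_c43 LD3_c6) (LK LD1_c1 LD2_c33 LD3_c6) Lrfl Lrfl
theorem f68461 : Led Lsl_bt (LP (LK LD1_c3 LD2_c13 LD3_c21)) = (LP (LK LD1_c1 LD2_c33 LD3_c7)) :=
  Lre_b IH (LK LD1_c3 LD2_c13 LD3_c21) (LK LD1_c1 LD2_c33 LD3_c7) Lrfl Lrfl
theorem f68462 : Led Lsl_ct (LP (LK LD1_c3 LD2_c14 LD3_c7)) = (LP (LK LD1_c3 LD2_c13 LD3_c21)) :=
  Lgr Lrot83 (Lpe (f68458 IH) (Lpr_cf (K5.f68358 IH) (Lpe (f68459 IH) (Lpe (f68460 IH) (Lpe (f68461 IH) (Lpn (LP (LK LD1_c3 LD2_c13 LD3_c21))))))))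
theorem f157758 : Led Lsl_df (LP (LK LD1_c3 LD2_c13 LD3_c21)) = (LP (LK LD1_c3 LD2_c20 LD3_c16)) :=
  Lgr Lrot84 (Lpe (f68462 IH) (Lpe (f68520 IH) (Lpr_gf (f149268 IH) (Lpe (f156735 IH) (Lpr_gf (f157756 IH) (Lpr_cf (K7.f139788 IH) (Lpr_gt (K7.f150694 IH) (Lpr_dt (K7.f14079 IH) (Lpe (K4.f56834 IH) (Lpn (LP (LK LD1_c3 LD2_c20 LD3_c16))))))))))))
theorem f40332 : Led Lsl_ff (LP (LK LD1_c1 LD2_c56 LD3_c30)) = (LP (LK LD1_c1 LD2_c38 LD3_c19)) :=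
  Lgr Lrot3 (Lpr_ft (K2.f40321 IH) (Lpn (LP (LK LD1_c1 LD2_c38 LD3_c19))))
theorem f40055 : Led Lsl_at (LP (LK LD1_c1 LD2_c56 LD3_c30)) = (LP (LK LD1_c0 LD2_c55 LD3_c2)) :=
  Lre_a IH (LK LD1_c1 LD2_c56 LD3_c30) (LK LD1_c0 LD2_c55 LD3_c2) Lrfl Lrfl
theorem f40679 : Led Lsl_gf (LP (LK LD1_c1 LD2_c56 LD3_c32)) = (LP (LK LD1_c1 LD2_c38 LD3_c19)) :=
  Lgr Lrot47 (Lpr_gt (f36251 IH) (Lpe (f40055 IH) (Lpr_ff (f40332 IH) (Lpn (LP (LK LD1_c1 LD2_c38 LD3_c19))))))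
theorem f73285 : Led Lsl_gt (LP (LK LD1_c1 LD2_c20 LD3_c56)) = (LP (LK LD1_c0 LD2_c37 LD3_c23)) :=
  Lre_g IH (LK LD1_c1 LD2_c20 LD3_c56) (LK LD1_c0 LD2_c37 LD3_c23) Lrfl Lrfl
theorem f157800 : Led Lsl_dt (LP (LK LD1_c1 LD2_c56 LD3_c32)) = (LP (LK LD1_c1 LD2_c20 LD3_c56)) :=
  Lgr Lrot57 (Lpr_gf (f40679 IH) (Lpe (f40380 IH) (Lpe (K4.f56834 IH) (Lpe (f157758 IH) (Lpr_gt (f157789 IH) (Lpr_dt (f73415 IH) (Lpe (K2.f56657 IH) (Lpe (K2.f59473 IH) (Lpe (f73285 IH) (Lpn (LP (LK LD1_c1 LD2_c20 LD3_c56))))))))))))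
theorem f157809 : Led Lsl_df (LP (LK LD1_c1 LD2_c56 LD3_c32)) = (LP (LK LD1_c1 LD2_c20 LD3_c56)) :=
  Lgr Lrot38 (Lpr_dt (f157800 IH) (Lpn (LP (LK LD1_c1 LD2_c20 LD3_c56))))
theorem f157821 : Led Lsl_bt (LP (LK LD1_c1 LD2_c56 LD3_c32)) = (LP (LK LD1_c3 LD2_c59 LD3_c44)) :=
  Lre_b IH (LK LD1_c1 LD2_c56 LD3_c32) (LK LD1_c3 LD2_c59 LD3_c44) Lrfl Lrfl
theorem f73476 : Led Lsl_bt (LP (LK LD1_c2 LD2_c49 LD3_c34)) = (LP (LK LD1_c1 LD2_c20 LD3_c56)) :=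
  Lre_b IH (LK LD1_c2 LD2_c49 LD3_c34) (LK LD1_c1 LD2_c20 LD3_c56) Lrfl Lrfl
theorem f157822 : Led Lsl_dt (LP (LK LD1_c3 LD2_c59 LD3_c44)) = (LP (LK LD1_c2 LD2_c49 LD3_c34)) :=
  Lgr Lrot79 (Lpe (f157821 IH) (Lpr_df (f157809 IH) (Lpe (f73476 IH) (Lpn (LP (LK LD1_c2 LD2_c49 LD3_c34))))))
theorem f160875 : Led Lsl_gf (LP (LK LD1_c3 LD2_c9 LD3_c51)) = (LP (LK LD1_c2 LD2_c49 LD3_c34)) :=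
  Lgr Lrot143 (Lpr_dt (K4.f117504 IH) (Lpe (K4.f117465 IH) (Lpe (K4.f117686 IH) (Lpe (K4.f56778 IH) (Lpe (f56777 IH) (Lpe (K6.f56761 IH) (Lpr_cf (K6.f56764 IH) (Lpr_gt (f160870 IH) (Lpr_dt (f157822 IH) (Lpn (LP (LK LD1_c2 LD2_c49 LD3_c34))))))))))))
theorem f117506 : Led Lsl_af (LP (LK LD1_c3 LD2_c9 LD3_c51)) = (LP (LK LD1_c2 LD2_c14 LD3_c7)) :=
  Lgr Lrot117 (Lpr_dt (K4.f117504 IH) (Lpr_at (K4.f24061 IH) (Lpr_dt (K4.f112927 IH) (Lpn (LP (LK LD1_c2 LD2_c14 LD3_c7))))))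
theorem f160877 : Led Lsl_gt (LP (LK LD1_c1 LD2_c20 LD3_c61)) = (LP (LK LD1_c2 LD2_c49 LD3_c34)) :=
  Lgr Lrot5 (Lpe (K5.f117818 IH) (Lpe (f117506 IH) (Lpr_gf (f160875 IH) (Lpn (LP (LK LD1_c2 LD2_c49 LD3_c34))))))
theorem f157806 : Led Lsl_bt (LP (LK LD1_c1 LD2_c20 LD3_c56)) = (LP (LK LD1_c2 LD2_c49 LD3_c34)) :=
  Lre_b IH (LK LD1_c1 LD2_c20 LD3_c56) (LK LD1_c2 LD2_c49 LD3_c34) Lrfl Lrfl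
theorem f157807 : Led Lsl_df (LP (LK LD1_c3 LD2_c59 LD3_c44)) = (LP (LK LD1_c2 LD2_c49 LD3_c34)) :=
  Lgr Lrot12 (Lpr_bt (f36252 IH) (Lpr_dt (f157800 IH) (Lpr_bt (f157806 IH) (Lpn (LP (LK LD1_c2 LD2_c49 LD3_c34))))))
theorem f141778 : Led Lsl_gt (LP (LK LD1_c5 LD2_c56 LD3_c30)) = (LP (LK LD1_c2 LD2_c54 LD3_c34)) :=
  Lre_g IH (LK LD1_c5 LD2_c56 LD3_c30) (LK LD1_c2 LD2_c54 LD3_c34) Lrfl Lrfl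
theorem f160881 : Led Lsl_cf (LP (LK LD1_c5 LD2_c47 LD3_c45)) = (LP (LK LD1_c5 LD2_c56 LD3_c30)) :=
  Lgr Lrot166 (Lpr_gt (f66274 IH) (Lpr_dt (K4.f66264 IH) (Lpr_gt (f160877 IH) (Lpe (f157807 IH) (Lpr_ct (f36253 IH) (Lpr_df (f132548 IH) (Lpe (K7.f80029 IH) (Lpr_df (K7.f141766 IH) (Lpe (f141778 IH) (Lpn (LP (LK LD1_c5 LD2_c56 LD3_c30))))))))))))
theorem f117528 : Led Lsl_gf (LP (LK LD1_c5 LD2_c47 LD3_c45)) = (LP (LK LD1_c5 LD2_c51 LD3_c7)) :=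
  Lgr Lrot47 (Lpr_gt (f66274 IH) (Lpe (K4.f66269 IH) (Lpr_ff (K4.f117515 IH) (Lpn (LP (LK LD1_c5 LD2_c51 LD3_c7))))))
theorem f110445 : Led Lsl_gt (LP (LK LD1_c6 LD2_c19 LD3_c27)) = (LP (LK LD1_c3 LD2_c7 LD3_c12)) :=
  Lre_g IH (LK LD1_c6 LD2_c19 LD3_c27) (LK LD1_c3 LD2_c7 LD3_c12) Lrfl Lrfl
theorem f160887 : Led Lsl_bf (LP (LK LD1_c6 LD2_c19 LD3_c27)) = (LP (LK LD1_c5 LD2_c56 LD3_c30)) :=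
  Lgr Lrot156 (Lpr_gt (f110445 IH) (Lpe (K5.f110444 IH) (Lpr_ct (K4.f66654 IH) (Lpe (K4.f110440 IH) (Lpe (K4.f23447 IH) (Lpe (K4.f27167 IH) (Lpr_gt (K4.f27162 IH) (Lpr_ct (K4.f117465 IH) (Lpe (f117528 IH) (Lpr_cf (f160881 IH) (Lpn (LP (LK LD1_c5 LD2_c56 LD3_c30)))))))))))))
theorem f62938 : Led Lsl_ct (LP (LK LD1_c1 LD2_c49 LD3_c53)) = (LP (LK LD1_c3 LD2_c45 LD3_c13)) :=
  Lre_c IH (LK LD1_c1 LD2_c49 LD3_c53) (LK LD1_c3 LD2_c45 LD3_c13) Lrfl Lrfl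
theorem f158012 : Led Lsl_dt (LP (LK LD1_c3 LD2_c45 LD3_c29)) = (LP (LK LD1_c6 LD2_c19 LD3_c27)) :=
  Lgr Lrot115 (Lpe (K4.f79329 IH) (Lpr_ct (f62938 IH) (Lpr_gt (f158001 IH) (Lpe (f158010 IH) (Lpr_gt (K6.f136710 IH) (Lpr_dt (f122730 IH) (Lpe (K7.f151451 IH) (Lpe (K5.f128833 IH) (Lpe (f110445 IH) (Lpn (LP (LK LD1_c6 LD2_c19 LD3_c27))))))))))))
theorem f158016 : Led Lsl_df (LP (LK LD1_c3 LD2_c45 LD3_c29)) = (LP (LK LD1_c6 LD2_c19 LD3_c27)) :=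
  Lgr Lrot38 (Lpr_dt (f158012 IH) (Lpn (LP (LK LD1_c6 LD2_c19 LD3_c27))))
theorem f96080 : Led Lsl_bt (LP (LK LD1_c3 LD2_c45 LD3_c29)) = (LP (LK LD1_c7 LD2_c31 LD3_c36)) :=
  Lre_b IH (LK LD1_c3 LD2_c45 LD3_c29) (LK LD1_c7 LD2_c31 LD3_c36) Lrfl Lrfl
theorem f160891 : Led Lsl_dt (LP (LK LD1_c7 LD2_c31 LD3_c36)) = (LP (LK LD1_c5 LD2_c56 LD3_c30)) :=
  Lgr Lrot79 (Lpe (f96080 IH) (Lpr_df (f158016 IH) (Lpr_bf (f160887 IH) (Lpn (LP (LK LD1_c5 LD2_c56 LD3_c30))))))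
theorem f59547 : Led Lsl_dt (LP (LK LD1_c2 LD2_c54 LD3_c5)) = (LP (LK LD1_c5 LD2_c55 LD3_c29)) :=
  Lre_d IH (LK LD1_c2 LD2_c54 LD3_c5) (LK LD1_c5 LD2_c55 LD3_c29) Lrfl Lrfl
theorem f59551 : Led Lsl_ct (LP (LK LD1_c11 LD2_c36 LD3_c16)) = (LP (LK LD1_c5 LD2_c55 LD3_c29)) :=
  Lre_c IH (LK LD1_c11 LD2_c36 LD3_c16) (LK LD1_c5 LD2_c55 LD3_c29) Lrfl Lrfl
theorem f138782 : Led Lsl_gf (LP (LK LD1_c11 LD2_c36 LD3_c16)) = (LP (LK LD1_c6 LD2_c24 LD3_c33)) :=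
  Lgr Lrot104 (Lpr_ct (f59551 IH) (Lpe (f59547 IH) (Lpr_cf (K6.f59540 IH) (Lpr_gf (K6.f138778 IH) (Lpr_cf (K6.f35241 IH) (Lpe (K6.f71936 IH) (Lpe (K4.f71934 IH) (Lpe (K4.f117644 IH) (Lpr_ct (K4.f117604 IH) (Lpn (LP (LK LD1_c6 LD2_c24 LD3_c33))))))))))))
theorem f138786 : Led Lsl_dt (LP (LK LD1_c11 LD2_c36 LD3_c16)) = (LP (LK LD1_c12 LD2_c1 LD3_c30)) :=
  Lgr Lrot57 (Lpr_gf (f138782 IH) (Lpe (K4.f117604 IH) (Lpr_gt (K4.f117647 IH) (Lpr_dt (f35230 IH) (Lpr_gt (K6.f34874 IH) (Lpr_dt (K6.f137653 IH) (Lpe (K6.f99259 IH) (Lpe (K6.f137646 IH) (Lpe (K4.f96072 IH) (Lpn (LP (LK LD1_c12 LD2_c1 LD3_c30))))))))))))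
theorem f59548 : Led Lsl_ct (LP (LK LD1_c5 LD2_c55 LD3_c29)) = (LP (LK LD1_c11 LD2_c36 LD3_c16)) :=
  Lre_c IH (LK LD1_c5 LD2_c55 LD3_c29) (LK LD1_c11 LD2_c36 LD3_c16) Lrfl Lrfl
theorem f158427 : Led Lsl_ft (LP (LK LD1_c5 LD2_c47 LD3_c28)) = (LP (LK LD1_c3 LD2_c59 LD3_c29)) :=
  Lgr Lrot48 (Lpr_ff (f158419 IH) (Lpn (LP (LK LD1_c3 LD2_c59 LD3_c29))))
theorem f160896 : Led Lsl_at (LP (LK LD1_c3 LD2_c59 LD3_c29)) = (LP (LK LD1_c5 LD2_c47 LD3_c45)) :=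
  Lgr Lrot33 (Lpe (f158427 IH) (Lpe (f137977 IH) (Lpe (K6.f59540 IH) (Lpr_dt (f59547 IH) (Lpr_ct (f59548 IH) (Lpr_dt (f138786 IH) (Lpr_ct (K4.f96082 IH) (Lpr_dt (f160891 IH) (Lpe (f160881 IH) (Lpn (LP (LK LD1_c5 LD2_c47 LD3_c45))))))))))))
theorem f112514 : Led Lsl_et (LP (LK LD1_c8 LD2_c0 LD3_c7)) = (LP (LK LD1_c3 LD2_c59 LD3_c29)) :=
  Lre_e IH (LK LD1_c8 LD2_c0 LD3_c7) (LK LD1_c3 LD2_c59 LD3_c29) Lrfl Lrfl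
theorem f139273 : Led Lsl_et (LP (LK LD1_c5 LD2_c47 LD3_c45)) = (LP (LK LD1_c11 LD2_c25 LD3_c14)) :=
  Lre_e IH (LK LD1_c5 LD2_c47 LD3_c45) (LK LD1_c11 LD2_c25 LD3_c14) Lrfl Lrfl
theorem f160902 : Led Lsl_af (LP (LK LD1_c8 LD2_c0 LD3_c7)) = (LP (LK LD1_c11 LD2_c25 LD3_c14)) :=
  Lgr Lrot50 (Lpr_et (f112514 IH) (Lpr_at (f160896 IH) (Lpr_et (f139273 IH) (Lpn (LP (LK LD1_c11 LD2_c25 LD3_c14))))))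
theorem f112512 : Led Lsl_dt (LP (LK LD1_c8 LD2_c0 LD3_c7)) = (LP (LK LD1_c15 LD2_c4 LD3_c48)) :=
  Lre_d IH (LK LD1_c8 LD2_c0 LD3_c7) (LK LD1_c15 LD2_c4 LD3_c48) Lrfl Lrfl
theorem f139291 : Led Lsl_dt (LP (LK LD1_c20 LD2_c22 LD3_c45)) = (LP (LK LD1_c11 LD2_c25 LD3_c14)) :=
  Lre_d IH (LK LD1_c20 LD2_c22 LD3_c45) (LK LD1_c11 LD2_c25 LD3_c14) Lrfl Lrfl
theorem f160908 : Led Lsl_at (LP (LK LD1_c15 LD2_c4 LD3_c48)) = (LP (LK LD1_c20 LD2_c22 LD3_c45)) :=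
  Lgr Lrot51 (Lpe (f112512 IH) (Lpr_af (f160902 IH) (Lpe (f139291 IH) (Lpn (LP (LK LD1_c20 LD2_c22 LD3_c45))))))
theorem f160913 : Led Lsl_et (LP (LK LD1_c8 LD2_c0 LD3_c8)) = (LP (LK LD1_c15 LD2_c4 LD3_c48)) :=
  Lre_e IH (LK LD1_c8 LD2_c0 LD3_c8) (LK LD1_c15 LD2_c4 LD3_c48) Lrfl Lrfl
theorem f160914 : Led Lsl_at (LP (LK LD1_c15 LD2_c4 LD3_c45)) = (LP (LK LD1_c8 LD2_c0 LD3_c8)) :=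
  Lre_a IH (LK LD1_c15 LD2_c4 LD3_c45) (LK LD1_c8 LD2_c0 LD3_c8) Lrfl Lrfl
theorem f160915 : Led Lsl_ef (LP (LK LD1_c15 LD2_c4 LD3_c45)) = (LP (LK LD1_c20 LD2_c22 LD3_c45)) :=
  Lgr Lrot20 (Lpr_at (f160914 IH) (Lpr_et (f160913 IH) (Lpr_at (f160908 IH) (Lpn (LP (LK LD1_c20 LD2_c22 LD3_c45))))))
theorem f160917 : Led Lsl_dt (LP (LK LD1_c15 LD2_c4 LD3_c45)) = (LP (LK LD1_c8 LD2_c0 LD3_c4)) :=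
  Lre_d IH (LK LD1_c15 LD2_c4 LD3_c45) (LK LD1_c8 LD2_c0 LD3_c4) Lrfl Lrfl
theorem f160918 : Led Lsl_et (LP (LK LD1_c8 LD2_c0 LD3_c4)) = (LP (LK LD1_c3 LD2_c59 LD3_c27)) :=
  Lre_e IH (LK LD1_c8 LD2_c0 LD3_c4) (LK LD1_c3 LD2_c59 LD3_c27) Lrfl Lrfl
theorem f117531 : Led Lsl_dt (LP (LK LD1_c11 LD2_c25 LD3_c14)) = (LP (LK LD1_c20 LD2_c22 LD3_c45)) :=
  Lre_d IH (LK LD1_c11 LD2_c25 LD3_c14) (LK LD1_c20 LD2_c22 LD3_c45) Lrfl Lrfl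
theorem f160919 : Led Lsl_dt (LP (LK LD1_c3 LD2_c59 LD3_c27)) = (LP (LK LD1_c5 LD2_c47 LD3_c45)) :=
  Lgr Lrot77 (Lpe (f160918 IH) (Lpe (f160917 IH) (Lpr_ef (f160915 IH) (Lpe (f117531 IH) (Lpe (f139273 IH) (Lpn (LP (LK LD1_c5 LD2_c47 LD3_c45))))))))
theorem f160932 : Led Lsl_gt (LP (LK LD1_c3 LD2_c59 LD3_c27)) = (LP (LK LD1_c2 LD2_c14 LD3_c27)) :=
  Lgr Lrot146 (Lpr_dt (f160919 IH) (Lpr_gt (f66274 IH) (Lpe (K5.f66262 IH) (Lpr_gt (K4.f116776 IH) (Lpr_ct (K2.f27166 IH) (Lpr_dt (K2.f35222 IH) (Lpe (K2.f34755 IH) (Lpe (K6.f34880 IH) (Lpe (K6.f35236 IH) (Lpn (LP (LK LD1_c2 LD2_c14 LD3_c27))))))))))))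
theorem f160879 : Led Lsl_ct (LP (LK LD1_c5 LD2_c47 LD3_c45)) = (LP (LK LD1_c5 LD2_c56 LD3_c30)) :=
  Lgr Lrot8 (Lpr_gt (f66274 IH) (Lpr_dt (K4.f66264 IH) (Lpr_gt (f160877 IH) (Lpe (f157807 IH) (Lpe (f37455 IH) (Lpr_df (f132548 IH) (Lpe (K7.f80029 IH) (Lpr_df (K7.f141766 IH) (Lpe (f141778 IH) (Lpn (LP (LK LD1_c5 LD2_c56 LD3_c30))))))))))))
theorem f160893 : Led Lsl_df (LP (LK LD1_c7 LD2_c31 LD3_c36)) = (LP (LK LD1_c5 LD2_c56 LD3_c30)) :=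
  Lgr Lrot38 (Lpr_dt (f160891 IH) (Lpn (LP (LK LD1_c5 LD2_c56 LD3_c30))))
theorem f138811 : Led Lsl_df (LP (LK LD1_c11 LD2_c36 LD3_c16)) = (LP (LK LD1_c12 LD2_c1 LD3_c30)) :=
  Lgr Lrot38 (Lpr_dt (f138786 IH) (Lpn (LP (LK LD1_c12 LD2_c1 LD3_c30))))
theorem f139287 : Led Lsl_at (LP (LK LD1_c2 LD2_c27 LD3_c5)) = (LP (LK LD1_c3 LD2_c3 LD3_c25)) :=
  Lgr Lrot100 (Lpr_af (f139285 IH) (Lpn (LP (LK LD1_c3 LD2_c3 LD3_c25))))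
theorem f158669 : Led Lsl_af (LP (LK LD1_c4 LD2_c25 LD3_c40)) = (LP (LK LD1_c2 LD2_c54 LD3_c5)) :=
  Lgr Lrot68 (Lpr_ct (f158666 IH) (Lpr_at (f139287 IH) (Lpe (K6.f59540 IH) (Lpn (LP (LK LD1_c2 LD2_c54 LD3_c5))))))
theorem f59550 : Led Lsl_dt (LP (LK LD1_c5 LD2_c55 LD3_c29)) = (LP (LK LD1_c2 LD2_c54 LD3_c5)) :=
  Lre_d IH (LK LD1_c5 LD2_c55 LD3_c29) (LK LD1_c2 LD2_c54 LD3_c5) Lrfl Lrfl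
theorem f158817 : Led Lsl_at (LP (LK LD1_c6 LD2_c25 LD3_c4)) = (LP (LK LD1_c5 LD2_c55 LD3_c29)) :=
  Lgr Lrot51 (Lpr_df (f158731 IH) (Lpr_af (f158669 IH) (Lpe (f59550 IH) (Lpn (LP (LK LD1_c5 LD2_c55 LD3_c29))))))
theorem f158736 : Led Lsl_ff (LP (LK LD1_c6 LD2_c25 LD3_c4)) = (LP (LK LD1_c4 LD2_c25 LD3_c59)) :=
  Lgr Lrot3 (Lpr_ft (f158729 IH) (Lpn (LP (LK LD1_c4 LD2_c25 LD3_c59))))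
theorem f160930 : Led Lsl_cf (LP (LK LD1_c3 LD2_c59 LD3_c27)) = (LP (LK LD1_c2 LD2_c10 LD3_c17)) :=
  Lgr Lrot118 (Lpr_dt (f160919 IH) (Lpr_ct (f160879 IH) (Lpe (f160893 IH) (Lpe (K4.f96074 IH) (Lpe (f138811 IH) (Lpr_ct (f59551 IH) (Lpe (f158817 IH) (Lpr_ff (f158736 IH) (Lpr_dt (f112468 IH) (Lpn (LP (LK LD1_c2 LD2_c10 LD3_c17))))))))))))
theorem f101647 : Led Lsl_bt (LP (LK LD1_c2 LD2_c10 LD3_c17)) = (LP (LK LD1_c1 LD2_c2 LD3_c12)) :=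
  Lre_b IH (LK LD1_c2 LD2_c10 LD3_c17) (LK LD1_c1 LD2_c2 LD3_c12) Lrfl Lrfl
theorem f40098 : Led Lsl_ft (LP (LK LD1_c2 LD2_c10 LD3_c10)) = (LP (LK LD1_c1 LD2_c2 LD3_c13)) :=
  Lre_f IH (LK LD1_c2 LD2_c10 LD3_c10) (LK LD1_c1 LD2_c2 LD3_c13) Lrfl Lrfl
theorem f100419 : Led Lsl_bf (LP (LK LD1_c2 LD2_c10 LD3_c10)) = (LP (LK LD1_c3 LD2_c3 LD3_c16)) :=
  Lgr Lrot61 (Lpr_ft (f40098 IH) (Lpe (K1.f40082 IH) (Lpr_ft (K5.f99588 IH) (Lpn (LP (LK LD1_c3 LD2_c3 LD3_c16))))))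
theorem f101692 : Led Lsl_gt (LP (LK LD1_c3 LD2_c59 LD3_c20)) = (LP (LK LD1_c1 LD2_c56 LD3_c23)) :=
  Lre_g IH (LK LD1_c3 LD2_c59 LD3_c20) (LK LD1_c1 LD2_c56 LD3_c23) Lrfl Lrfl
theorem f160934 : Led Lsl_bf (LP (LK LD1_c3 LD2_c59 LD3_c20)) = (LP (LK LD1_c2 LD2_c9 LD3_c45)) :=
  Lgr Lrot165 (Lpr_gt (f101692 IH) (Lpr_ct (K7.f37772 IH) (Lpr_gt (K7.f101688 IH) (Lpe (K5.f100421 IH) (Lpe (f100419 IH) (Lpr_gt (K5.f99601 IH) (Lpe (f101647 IH) (Lpe (f160930 IH) (Lpr_gt (f160932 IH) (Lpr_cf (K6.f35241 IH) (Lpn (LP (LK LD1_c2 LD2_c9 LD3_c45)))))))))))))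
theorem f160936 : Led Lsl_bt (LP (LK LD1_c3 LD2_c59 LD3_c20)) = (LP (LK LD1_c2 LD2_c9 LD3_c45)) :=
  Lgr Lrot127 (Lpr_bf (f160934 IH) (Lpn (LP (LK LD1_c2 LD2_c9 LD3_c45))))
theorem f148976 : Led Lsl_bt (LP (LK LD1_c1 LD2_c55 LD3_c43)) = (LP (LK LD1_c3 LD2_c57 LD3_c54)) :=
  Lre_b IH (LK LD1_c1 LD2_c55 LD3_c43) (LK LD1_c3 LD2_c57 LD3_c54) Lrfl Lrfl
theorem f159105 : Led Lsl_ff (LP (LK LD1_c4 LD2_c36 LD3_c43)) = (LP (LK LD1_c3 LD2_c57 LD3_c54)) :=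
  Lgr Lrot25 (Lpr_bt (K6.f99599 IH) (Lpr_ft (f159103 IH) (Lpr_bt (f148976 IH) (Lpn (LP (LK LD1_c3 LD2_c57 LD3_c54))))))
theorem f137867 : Led Lsl_ft (LP (LK LD1_c2 LD2_c15 LD3_c41)) = (LP (LK LD1_c4 LD2_c36 LD3_c57)) :=
  Lre_f IH (LK LD1_c2 LD2_c15 LD3_c41) (LK LD1_c4 LD2_c36 LD3_c57) Lrfl Lrfl
theorem f159204 : Led Lsl_ct (LP (LK LD1_c4 LD2_c36 LD3_c57)) = (LP (LK LD1_c3 LD2_c57 LD3_c54)) :=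
  Lgr Lrot40 (Lpe (f137867 IH) (Lpe (K6.f99600 IH) (Lpr_ff (f159105 IH) (Lpn (LP (LK LD1_c3 LD2_c57 LD3_c54))))))
theorem f142134 : Led Lsl_bt (LP (LK LD1_c4 LD2_c36 LD3_c57)) = (LP (LK LD1_c2 LD2_c15 LD3_c44)) :=
  Lre_b IH (LK LD1_c4 LD2_c36 LD3_c57) (LK LD1_c2 LD2_c15 LD3_c44) Lrfl Lrfl
theorem f149011 : Led Lsl_bf (LP (LK LD1_c2 LD2_c15 LD3_c5)) = (LP (LK LD1_c2 LD2_c51 LD3_c46)) :=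
  Lgr Lrot24 (Lpr_bt (K7.f149009 IH) (Lpn (LP (LK LD1_c2 LD2_c51 LD3_c46))))
theorem f149414 : Led Lsl_gt (LP (LK LD1_c2 LD2_c10 LD3_c12)) = (LP (LK LD1_c4 LD2_c25 LD3_c16)) :=
  Lgr Lrot82 (Lpe (f38524 IH) (Lpr_ct (K6.f38523 IH) (Lpr_gf (K6.f141954 IH) (Lpe (K7.f24201 IH) (Lpe (f149011 IH) (Lpr_gf (K7.f149406 IH) (Lpe (K7.f138821 IH) (Lpr_ct (K7.f29486 IH) (Lpe (K7.f138776 IH) (Lpr_cf (K6.f138747 IH) (Lpn (LP (LK LD1_c4 LD2_c25 LD3_c16)))))))))))))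
theorem f38539 : Led Lsl_bt (LP (LK LD1_c2 LD2_c10 LD3_c3)) = (LP (LK LD1_c4 LD2_c25 LD3_c16)) :=
  Lre_b IH (LK LD1_c2 LD2_c10 LD3_c3) (LK LD1_c4 LD2_c25 LD3_c16) Lrfl Lrfl
theorem f159209 : Led Lsl_gt (LP (LK LD1_c4 LD2_c25 LD3_c17)) = (LP (LK LD1_c3 LD2_c57 LD3_c54)) :=
  Lgr Lrot65 (Lpe (K6.f38534 IH) (Lpr_bt (f38539 IH) (Lpe (f149414 IH) (Lpe (f38524 IH) (Lpr_ct (K6.f38523 IH) (Lpr_gf (K6.f141954 IH) (Lpe (K7.f24201 IH) (Lpe (K7.f148994 IH) (Lpe (f142134 IH) (Lpr_ct (f159204 IH) (Lpn (LP (LK LD1_c3 LD2_c57 LD3_c54)))))))))))))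
theorem f38532 : Led Lsl_bf (LP (LK LD1_c4 LD2_c25 LD3_c17)) = (LP (LK LD1_c3 LD2_c57 LD3_c46)) :=
  Lgr Lrot24 (Lpr_bt (K6.f38530 IH) (Lpn (LP (LK LD1_c3 LD2_c57 LD3_c46))))
theorem f148977 : Led Lsl_cf (LP (LK LD1_c4 LD2_c36 LD3_c57)) = (LP (LK LD1_c3 LD2_c57 LD3_c54)) :=
  Lgr Lrot97 (Lpr_bt (f142134 IH) (Lpr_ct (K7.f141305 IH) (Lpr_bt (K7.f142133 IH) (Lpr_ct (K7.f148966 IH) (Lpr_bt (f148976 IH) (Lpn (LP (LK LD1_c3 LD2_c57 LD3_c54))))))))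
theorem f72273 : Led Lsl_bt (LP (LK LD1_c2 LD2_c15 LD3_c41)) = (LP (LK LD1_c1 LD2_c4 LD3_c52)) :=
  Lre_b IH (LK LD1_c2 LD2_c15 LD3_c41) (LK LD1_c1 LD2_c4 LD3_c52) Lrfl Lrfl
theorem f159211 : Led Lsl_gf (LP (LK LD1_c7 LD2_c56 LD3_c56)) = (LP (LK LD1_c4 LD2_c36 LD3_c43)) :=
  Lgr Lrot126 (Lpe (K6.f37050 IH) (Lpe (f38532 IH) (Lpr_gt (f159209 IH) (Lpe (f148977 IH) (Lpr_gt (f158676 IH) (Lpe (K6.f81829 IH) (Lpr_bt (K7.f119695 IH) (Lpr_gt (K7.f80109 IH) (Lpe (f72273 IH) (Lpr_ct (K6.f72274 IH) (Lpn (LP (LK LD1_c4 LD2_c36 LD3_c43)))))))))))))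
theorem f137293 : Led Lsl_bt (LP (LK LD1_c2 LD2_c15 LD3_c35)) = (LP (LK LD1_c4 LD2_c36 LD3_c43)) :=
  Lre_b IH (LK LD1_c2 LD2_c15 LD3_c35) (LK LD1_c4 LD2_c36 LD3_c43) Lrfl Lrfl
theorem f20418 : Led Lsl_gt (LP (LK LD1_c2 LD2_c15 LD3_c33)) = (LP (LK LD1_c1 LD2_c4 LD3_c51)) :=
  Lre_g IH (LK LD1_c2 LD2_c15 LD3_c33) (LK LD1_c1 LD2_c4 LD3_c51) Lrfl Lrfl
theorem f160938 : Led Lsl_ct (LP (LK LD1_c3 LD2_c59 LD3_c20)) = (LP (LK LD1_c2 LD2_c15 LD3_c33)) :=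
  Lgr Lrot64 (Lpr_bt (f160936 IH) (Lpe (K6.f71936 IH) (Lpr_bf (K2.f71930 IH) (Lpe (K4.f72093 IH) (Lpr_gf (K6.f38573 IH) (Lpe (K6.f37080 IH) (Lpr_gf (f159211 IH) (Lpe (f137293 IH) (Lpr_ct (K4.f99593 IH) (Lpe (f20418 IH) (Lpn (LP (LK LD1_c2 LD2_c15 LD3_c33)))))))))))))
theorem f138557 : Led Lsl_ft (LP (LK LD1_c4 LD2_c42 LD3_c51)) = (LP (LK LD1_c3 LD2_c5 LD3_c2)) :=
  Lgr Lrot48 (Lpr_ff (f138551 IH) (Lpn (LP (LK LD1_c3 LD2_c5 LD3_c2))))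
theorem f138559 : Led Lsl_ff (LP (LK LD1_c9 LD2_c19 LD3_c46)) = (LP (LK LD1_c6 LD2_c15 LD3_c55)) :=
  Lgr Lrot19 (Lpr_dt (f104817 IH) (Lpr_ft (f138557 IH) (Lpr_dt (f79924 IH) (Lpn (LP (LK LD1_c6 LD2_c15 LD3_c55))))))
theorem f119806 : Led Lsl_at (LP (LK LD1_c5 LD2_c56 LD3_c9)) = (LP (LK LD1_c6 LD2_c15 LD3_c55)) :=
  Lgr Lrot100 (Lpr_af (f119803 IH) (Lpn (LP (LK LD1_c6 LD2_c15 LD3_c55))))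
theorem f138561 : Led Lsl_at (LP (LK LD1_c9 LD2_c19 LD3_c46)) = (LP (LK LD1_c6 LD2_c24 LD3_c31)) :=
  Lgr Lrot66 (Lpr_ff (f138559 IH) (Lpe (f119806 IH) (Lpr_ff (f119813 IH) (Lpn (LP (LK LD1_c6 LD2_c24 LD3_c31))))))
theorem f37072 : Led Lsl_dt (LP (LK LD1_c1 LD2_c56 LD3_c28)) = (LP (LK LD1_c0 LD2_c55 LD3_c0)) :=
  Lre_d IH (LK LD1_c1 LD2_c56 LD3_c28) (LK LD1_c0 LD2_c55 LD3_c0) Lrfl Lrfl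
theorem f37071 : Led Lsl_ct (LP (LK LD1_c0 LD2_c55 LD3_c0)) = (LP (LK LD1_c1 LD2_c56 LD3_c27)) :=
  Lre_c IH (LK LD1_c0 LD2_c55 LD3_c0) (LK LD1_c1 LD2_c56 LD3_c27) Lrfl Lrfl
theorem f101605 : Led Lsl_dt (LP (LK LD1_c3 LD2_c59 LD3_c32)) = (LP (LK LD1_c1 LD2_c56 LD3_c27)) :=
  Lre_d IH (LK LD1_c3 LD2_c59 LD3_c32) (LK LD1_c1 LD2_c56 LD3_c27) Lrfl Lrfl
theorem f112567 : Led Lsl_gf (LP (LK LD1_c3 LD2_c59 LD3_c32)) = (LP (LK LD1_c6 LD2_c15 LD3_c55)) :=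
  Lgr Lrot143 (Lpr_dt (f101605 IH) (Lpe (f37071 IH) (Lpe (f37072 IH) (Lpr_gf (f112522 IH) (Lpe (K2.f73428 IH) (Lpe (K4.f79922 IH) (Lpe (K5.f60869 IH) (Lpr_gt (f73836 IH) (Lpr_dt (f79924 IH) (Lpn (LP (LK LD1_c6 LD2_c15 LD3_c55))))))))))))
theorem f138565 : Led Lsl_gf (LP (LK LD1_c6 LD2_c24 LD3_c31)) = (LP (LK LD1_c3 LD2_c59 LD3_c32)) :=
  Lgr Lrot76 (Lpe (f138561 IH) (Lpr_ff (f138559 IH) (Lpe (f112567 IH) (Lpn (LP (LK LD1_c3 LD2_c59 LD3_c32))))))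
theorem f101604 : Led Lsl_dt (LP (LK LD1_c1 LD2_c56 LD3_c27)) = (LP (LK LD1_c3 LD2_c59 LD3_c32)) :=
  Lre_d IH (LK LD1_c1 LD2_c56 LD3_c27) (LK LD1_c3 LD2_c59 LD3_c32) Lrfl Lrfl
theorem f160946 : Led Lsl_gf (LP (LK LD1_c3 LD2_c59 LD3_c20)) = (LP (LK LD1_c1 LD2_c56 LD3_c27)) :=
  Lgr Lrot147 (Lpr_ct (f160938 IH) (Lpr_gt (f20418 IH) (Lpr_ct (K4.f69324 IH) (Lpe (f99604 IH) (Lpe (f99591 IH) (Lpe (f157702 IH) (Lpe (f117623 IH) (Lpr_gf (f138565 IH) (Lpe (f101604 IH) (Lpn (LP (LK LD1_c1 LD2_c56 LD3_c27))))))))))))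
theorem f160942 : Led Lsl_cf (LP (LK LD1_c3 LD2_c59 LD3_c20)) = (LP (LK LD1_c2 LD2_c15 LD3_c33)) :=
  Lgr Lrot11 (Lpr_ct (f160938 IH) (Lpn (LP (LK LD1_c2 LD2_c15 LD3_c33))))
theorem f35240 : Led Lsl_bt (LP (LK LD1_c1 LD2_c4 LD3_c20)) = (LP (LK LD1_c2 LD2_c14 LD3_c27)) :=
  Lre_b IH (LK LD1_c1 LD2_c4 LD3_c20) (LK LD1_c2 LD2_c14 LD3_c27) Lrfl Lrfl
theorem f8375 : Led Lsl_dt (LP (LK LD1_c1 LD2_c21 LD3_c58)) = (LP (LK LD1_c0 LD2_c37 LD3_c56)) :=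
  Lre_d IH (LK LD1_c1 LD2_c21 LD3_c58) (LK LD1_c0 LD2_c37 LD3_c56) Lrfl Lrfl
theorem f8347 : Led Lsl_at (LP (LK LD1_c0 LD2_c37 LD3_c56)) = (LP (LK LD1_c0 LD2_c16 LD3_c57)) :=
  Lre_a IH (LK LD1_c0 LD2_c37 LD3_c56) (LK LD1_c0 LD2_c16 LD3_c57) Lrfl Lrfl
theorem f8348 : Led Lsl_at (LP (LK LD1_c0 LD2_c16 LD3_c57)) = (LP (LK LD1_c0 LD2_c37 LD3_c56)) :=
  Lre_a IH (LK LD1_c0 LD2_c16 LD3_c57) (LK LD1_c0 LD2_c37 LD3_c56) Lrfl Lrfl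
theorem f8349 : Led Lsl_cf (LP (LK LD1_c0 LD2_c37 LD3_c56)) = (LP (LK LD1_c0 LD2_c37 LD3_c56)) :=
  Lgr Lrot1 (Lpr_at (f8347 IH) (Lpr_ct (K6.f8340 IH) (Lpr_at (f8348 IH) (Lpn (LP (LK LD1_c0 LD2_c37 LD3_c56))))))
theorem f151796 : Led Lsl_gt (LP (LK LD1_c1 LD2_c4 LD3_c20)) = (LP (LK LD1_c0 LD2_c37 LD3_c56)) :=
  Lgr Lrot46 (Lpe (K6.f20405 IH) (Lpr_ft (K7.f151792 IH) (Lpr_at (f8348 IH) (Lpn (LP (LK LD1_c0 LD2_c37 LD3_c56))))))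
theorem f137172 : Led Lsl_dt (LP (LK LD1_c0 LD2_c38 LD3_c43)) = (LP (LK LD1_c1 LD2_c23 LD3_c50)) :=
  Lre_d IH (LK LD1_c0 LD2_c38 LD3_c43) (LK LD1_c1 LD2_c23 LD3_c50) Lrfl Lrfl
theorem f150258 : Led Lsl_gt (LP (LK LD1_c0 LD2_c38 LD3_c43)) = (LP (LK LD1_c1 LD2_c23 LD3_c48)) :=
  Lre_g IH (LK LD1_c0 LD2_c38 LD3_c43) (LK LD1_c1 LD2_c23 LD3_c48) Lrfl Lrfl
theorem f157617 : Led Lsl_cf (LP (LK LD1_c1 LD2_c4 LD3_c20)) = (LP (LK LD1_c1 LD2_c23 LD3_c48)) :=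
  Lgr Lrot169 (Lpr_gt (f151796 IH) (Lpe (f8349 IH) (Lpe (f8375 IH) (Lpe (K7.f8376 IH) (Lpe (K7.f151563 IH) (Lpr_cf (f137242 IH) (Lpr_gf (f157603 IH) (Lpe (f137172 IH) (Lpr_gt (f150258 IH) (Lpn (LP (LK LD1_c1 LD2_c23 LD3_c48))))))))))))
theorem f160940 : Led Lsl_bf (LP (LK LD1_c1 LD2_c23 LD3_c48)) = (LP (LK LD1_c2 LD2_c15 LD3_c33)) :=
  Lgr Lrot90 (Lpe (f157617 IH) (Lpr_bt (f35240 IH) (Lpr_ct (K6.f35236 IH) (Lpe (f160934 IH) (Lpr_ct (f160938 IH) (Lpn (LP (LK LD1_c2 LD2_c15 LD3_c33))))))))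
theorem f160957 : Led Lsl_gt (LP (LK LD1_c1 LD2_c23 LD3_c48)) = (LP (LK LD1_c1 LD2_c23 LD3_c36)) :=
  Lgr Lrot164 (Lpr_bf (f160940 IH) (Lpe (f160942 IH) (Lpr_gf (f160946 IH) (Lpe (f37071 IH) (Lpr_gf (K5.f101598 IH) (Lpe (K7.f100449 IH) (Lpr_ct (K2.f57100 IH) (Lpe (K2.f56896 IH) (Lpe (K2.f20411 IH) (Lpr_bt (K2.f20412 IH) (Lpn (LP (LK LD1_c1 LD2_c23 LD3_c36)))))))))))))
theorem f72400 : Led Lsl_dt (LP (LK LD1_c1 LD2_c23 LD3_c36)) = (LP (LK LD1_c2 LD2_c55 LD3_c17)) :=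
  Lre_d IH (LK LD1_c1 LD2_c23 LD3_c36) (LK LD1_c2 LD2_c55 LD3_c17) Lrfl Lrfl
theorem f137302 : Led Lsl_gt (LP (LK LD1_c2 LD2_c55 LD3_c17)) = (LP (LK LD1_c2 LD2_c50 LD3_c0)) :=
  Lgr Lrot9 (Lpe (f72400 IH) (Lpr_gt (K2.f72396 IH) (Lpe (K2.f72390 IH) (Lpr_gt (K2.f20406 IH) (Lpr_ct (K2.f20301 IH) (Lpe (K6.f20400 IH) (Lpe (K6.f20401 IH) (Lpr_gf (K6.f137300 IH) (Lpr_cf (K6.f132316 IH) (Lpn (LP (LK LD1_c2 LD2_c50 LD3_c0))))))))))))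
theorem f8373 : Led Lsl_dt (LP (LK LD1_c0 LD2_c37 LD3_c56)) = (LP (LK LD1_c1 LD2_c21 LD3_c58)) :=
  Lre_d IH (LK LD1_c0 LD2_c37 LD3_c56) (LK LD1_c1 LD2_c21 LD3_c58) Lrfl Lrfl
theorem f160966 : Led Lsl_cf (LP (LK LD1_c1 LD2_c23 LD3_c48)) = (LP (LK LD1_c1 LD2_c4 LD3_c20)) :=
  Lgr Lrot166 (Lpr_gt (f160957 IH) (Lpr_dt (f72400 IH) (Lpr_gt (f137302 IH) (Lpr_dt (K5.f117231 IH) (Lpr_ct (K5.f117230 IH) (Lpe (K7.f64343 IH) (Lpr_gf (K7.f151569 IH) (Lpe (f8373 IH) (Lpe (f151796 IH) (Lpn (LP (LK LD1_c1 LD2_c4 LD3_c20))))))))))))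
theorem f160968 : Led Lsl_dt (LP (LK LD1_c1 LD2_c23 LD3_c48)) = (LP (LK LD1_c2 LD2_c55 LD3_c43)) :=
  Lre_d IH (LK LD1_c1 LD2_c23 LD3_c48) (LK LD1_c2 LD2_c55 LD3_c43) Lrfl Lrfl
theorem f160978 : Led Lsl_cf (LP (LK LD1_c2 LD2_c55 LD3_c43)) = (LP (LK LD1_c4 LD2_c34 LD3_c31)) :=
  Lgr Lrot99 (Lpe (f160968 IH) (Lpr_cf (f160966 IH) (Lpe (K6.f20405 IH) (Lpe (K2.f20301 IH) (Lpe (K2.f20406 IH) (Lpe (K5.f130546 IH) (Lpr_gt (K5.f61821 IH) (Lpr_ct (K6.f58945 IH) (Lpr_gt (K5.f92059 IH) (Lpn (LP (LK LD1_c4 LD2_c34 LD3_c31))))))))))))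
theorem f104297 : Led Lsl_bt (LP (LK LD1_c3 LD2_c24 LD3_c35)) = (LP (LK LD1_c2 LD2_c50 LD3_c15)) :=
  Lgr Lrot22 (Lpr_ct (K5.f91855 IH) (Lpe (K3.f15024 IH) (Lpe (K3.f11836 IH) (Lpe (K2.f91752 IH) (Lpr_bf (K3.f91758 IH) (Lpr_ct (K3.f26160 IH) (Lpr_gf (K3.f104287 IH) (Lpe (K1.f352 IH) (Lpr_bt (K5.f56741 IH) (Lpe (K5.f56677 IH) (Lpn (LP (LK LD1_c2 LD2_c50 LD3_c15)))))))))))))
theorem f130207 : Led Lsl_bt (LP (LK LD1_c4 LD2_c34 LD3_c31)) = (LP (LK LD1_c6 LD2_c53 LD3_c59)) :=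
  Lgr Lrot62 (Lpr_af (K5.f130203 IH) (Lpe (f104297 IH) (Lpe (K4.f102483 IH) (Lpe (K4.f94993 IH) (Lpe (K6.f96310 IH) (Lpn (LP (LK LD1_c6 LD2_c53 LD3_c59))))))))
theorem f160992 : Led Lsl_gf (LP (LK LD1_c2 LD2_c55 LD3_c43)) = (LP (LK LD1_c1 LD2_c24 LD3_c2)) :=
  Lgr Lrot129 (Lpr_cf (f160978 IH) (Lpr_bt (f130207 IH) (Lpe (K7.f130272 IH) (Lpe (K5.f96172 IH) (Lpr_ct (K3.f96182 IH) (Lpr_gt (K3.f65714 IH) (Lpr_cf (K2.f65701 IH) (Lpr_bt (K6.f65713 IH) (Lpe (K6.f135942 IH) (Lpr_ct (K6.f76151 IH) (Lpn (LP (LK LD1_c1 LD2_c24 LD3_c2)))))))))))))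
theorem f160965 : Led Lsl_dt (LP (LK LD1_c2 LD2_c55 LD3_c43)) = (LP (LK LD1_c1 LD2_c23 LD3_c48)) :=
  Lre_d IH (LK LD1_c2 LD2_c55 LD3_c43) (LK LD1_c1 LD2_c23 LD3_c48) Lrfl Lrfl
theorem f11263 : Led Lsl_dt (LP (LK LD1_c0 LD2_c52 LD3_c61)) = (LP (LK LD1_c0 LD2_c23 LD3_c54)) :=
  Lre_d IH (LK LD1_c0 LD2_c52 LD3_c61) (LK LD1_c0 LD2_c23 LD3_c54) Lrfl Lrfl
theorem f109935 : Led Lsl_df (LP (LK LD1_c2 LD2_c14 LD3_c12)) = (LP (LK LD1_c1 LD2_c4 LD3_c20)) :=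
  Lgr Lrot183 (Lpr_ct (K3.f109918 IH) (Lpr_bt (K3.f63809 IH) (Lpr_gt (K3.f63802 IH) (Lpr_dt (f11263 IH) (Lpr_ct (K3.f11262 IH) (Lpr_bt (K4.f11261 IH) (Lpe (K0.f11259 IH) (Lpe (K0.f12112 IH) (Lpr_ct (K0.f3828 IH) (Lpr_bt (K0.f20016 IH) (Lpe (K0.f7362 IH) (Lpr_dt (K0.f204 IH) (Lpe (K0.f104 IH) (Lpr_bt (K0.f102 IH) (Lpr_gt (K0.f205 IH) (Lpr_dt (K4.f26610 IH) (Lpr_ct (K2.f20253 IH) (Lpr_bt (K2.f20298 IH) (Lpr_gt (K6.f20405 IH) (Lpn (LP (LK LD1_c1 LD2_c4 LD3_c20))))))))))))))))))))))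
theorem f109940 : Led Lsl_dt (LP (LK LD1_c2 LD2_c14 LD3_c12)) = (LP (LK LD1_c1 LD2_c4 LD3_c20)) :=
  Lgr Lrot42 (Lpr_df (f109935 IH) (Lpn (LP (LK LD1_c1 LD2_c4 LD3_c20))))
theorem f75039 : Led Lsl_bt (LP (LK LD1_c0 LD2_c39 LD3_c45)) = (LP (LK LD1_c1 LD2_c26 LD3_c5)) :=
  Lre_b IH (LK LD1_c0 LD2_c39 LD3_c45) (LK LD1_c1 LD2_c26 LD3_c5) Lrfl Lrfl
theorem f75040 : Led Lsl_dt (LP (LK LD1_c1 LD2_c26 LD3_c5)) = (LP (LK LD1_c1 LD2_c24 LD3_c2)) :=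
  Lgr Lrot79 (Lpe (f75039 IH) (Lpr_df (K2.f75036 IH) (Lpe (K6.f56767 IH) (Lpn (LP (LK LD1_c1 LD2_c24 LD3_c2))))))
theorem f160996 : Led Lsl_gt (LP (LK LD1_c1 LD2_c28 LD3_c31)) = (LP (LK LD1_c1 LD2_c26 LD3_c5)) :=
  Lgr Lrot94 (Lpe (K5.f132493 IH) (Lpr_gt (K5.f92058 IH) (Lpr_dt (K6.f92048 IH) (Lpr_gt (K3.f92248 IH) (Lpr_dt (f109940 IH) (Lpr_cf (f157617 IH) (Lpe (f160965 IH) (Lpr_gf (f160992 IH) (Lpe (f75040 IH) (Lpn (LP (LK LD1_c1 LD2_c26 LD3_c5))))))))))))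
theorem f132333 : Led Lsl_af (LP (LK LD1_c2 LD2_c14 LD3_c8)) = (LP (LK LD1_c1 LD2_c21 LD3_c3)) :=
  Lgr Lrot68 (Lpr_ct (K5.f36537 IH) (Lpr_at (K5.f132325 IH) (Lpr_ct (f117294 IH) (Lpn (LP (LK LD1_c1 LD2_c21 LD3_c3))))))
theorem f161000 : Led Lsl_gf (LP (LK LD1_c2 LD2_c14 LD3_c8)) = (LP (LK LD1_c1 LD2_c26 LD3_c5)) :=
  Lgr Lrot76 (Lpr_af (f132333 IH) (Lpe (K5.f132395 IH) (Lpr_gt (f160996 IH) (Lpn (LP (LK LD1_c1 LD2_c26 LD3_c5))))))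
theorem f136244 : Led Lsl_ct (LP (LK LD1_c2 LD2_c49 LD3_c52)) = (LP (LK LD1_c1 LD2_c26 LD3_c5)) :=
  Lgr Lrot110 (Lpe (f20562 IH) (Lpe (f20561 IH) (Lpe (K4.f13446 IH) (Lpe (K6.f56833 IH) (Lpr_gt (K6.f56762 IH) (Lpr_ct (K6.f135966 IH) (Lpe (K6.f135942 IH) (Lpr_ct (K6.f76151 IH) (Lpe (f75040 IH) (Lpn (LP (LK LD1_c1 LD2_c26 LD3_c5))))))))))))
theorem f80641 : Led Lsl_bt (LP (LK LD1_c1 LD2_c28 LD3_c25)) = (LP (LK LD1_c3 LD2_c4 LD3_c43)) :=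
  Lre_b IH (LK LD1_c1 LD2_c28 LD3_c25) (LK LD1_c3 LD2_c4 LD3_c43) Lrfl Lrfl
theorem f161006 : Led Lsl_gt (LP (LK LD1_c2 LD2_c14 LD3_c7)) = (LP (LK LD1_c3 LD2_c4 LD3_c43)) :=
  Lgr Lrot164 (Lpe (K4.f36536 IH) (Lpr_ct (K5.f20209 IH) (Lpr_gf (f161000 IH) (Lpe (f136244 IH) (Lpe (f20562 IH) (Lpe (f117850 IH) (Lpe (f117816 IH) (Lpe (f138553 IH) (Lpe (f73430 IH) (Lpr_bt (f80641 IH) (Lpn (LP (LK LD1_c3 LD2_c4 LD3_c43)))))))))))))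
theorem f73435 : Led Lsl_et (LP (LK LD1_c3 LD2_c4 LD3_c45)) = (LP (LK LD1_c1 LD2_c28 LD3_c25)) :=
  Lre_e IH (LK LD1_c3 LD2_c4 LD3_c45) (LK LD1_c1 LD2_c28 LD3_c25) Lrfl Lrfl
theorem f80639 : Led Lsl_dt (LP (LK LD1_c6 LD2_c15 LD3_c21)) = (LP (LK LD1_c3 LD2_c4 LD3_c45)) :=
  Lre_d IH (LK LD1_c6 LD2_c15 LD3_c21) (LK LD1_c3 LD2_c4 LD3_c45) Lrfl Lrfl
theorem f149217 : Led Lsl_et (LP (LK LD1_c1 LD2_c38 LD3_c18)) = (LP (LK LD1_c3 LD2_c24 LD3_c2)) :=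
  Lre_e IH (LK LD1_c1 LD2_c38 LD3_c18) (LK LD1_c3 LD2_c24 LD3_c2) Lrfl Lrfl
theorem f40673 : Led Lsl_dt (LP (LK LD1_c3 LD2_c24 LD3_c2)) = (LP (LK LD1_c6 LD2_c51 LD3_c4)) :=
  Lre_d IH (LK LD1_c3 LD2_c24 LD3_c2) (LK LD1_c6 LD2_c51 LD3_c4) Lrfl Lrfl
theorem f149218 : Led Lsl_ef (LP (LK LD1_c6 LD2_c15 LD3_c21)) = (LP (LK LD1_c6 LD2_c51 LD3_c4)) :=
  Lgr Lrot73 (Lpr_dt (f80639 IH) (Lpr_et (f73435 IH) (Lpr_dt (f149211 IH) (Lpr_et (f149217 IH) (Lpr_dt (f40673 IH) (Lpn (LP (LK LD1_c6 LD2_c51 LD3_c4))))))))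
theorem f149225 : Led Lsl_et (LP (LK LD1_c6 LD2_c15 LD3_c21)) = (LP (LK LD1_c6 LD2_c51 LD3_c4)) :=
  Lgr Lrot87 (Lpr_ef (f149218 IH) (Lpn (LP (LK LD1_c6 LD2_c51 LD3_c4))))
theorem f149228 : Led Lsl_bt (LP (LK LD1_c12 LD2_c8 LD3_c50)) = (LP (LK LD1_c6 LD2_c15 LD3_c21)) :=
  Lre_b IH (LK LD1_c12 LD2_c8 LD3_c50) (LK LD1_c6 LD2_c15 LD3_c21) Lrfl Lrfl
theorem f149229 : Led Lsl_bt (LP (LK LD1_c6 LD2_c51 LD3_c4)) = (LP (LK LD1_c13 LD2_c2 LD3_c9)) :=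
  Lre_b IH (LK LD1_c6 LD2_c51 LD3_c4) (LK LD1_c13 LD2_c2 LD3_c9) Lrfl Lrfl
theorem f149230 : Led Lsl_ef (LP (LK LD1_c12 LD2_c8 LD3_c50)) = (LP (LK LD1_c13 LD2_c2 LD3_c9)) :=
  Lgr Lrot29 (Lpr_bt (f149228 IH) (Lpr_et (f149225 IH) (Lpr_bt (f149229 IH) (Lpn (LP (LK LD1_c13 LD2_c2 LD3_c9))))))
theorem f149232 : Led Lsl_dt (LP (LK LD1_c12 LD2_c8 LD3_c50)) = (LP (LK LD1_c6 LD2_c15 LD3_c18)) :=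
  Lre_d IH (LK LD1_c12 LD2_c8 LD3_c50) (LK LD1_c6 LD2_c15 LD3_c18) Lrfl Lrfl
theorem f149233 : Led Lsl_et (LP (LK LD1_c6 LD2_c15 LD3_c18)) = (LP (LK LD1_c3 LD2_c4 LD3_c43)) :=
  Lre_e IH (LK LD1_c6 LD2_c15 LD3_c18) (LK LD1_c3 LD2_c4 LD3_c43) Lrfl Lrfl
theorem f149234 : Led Lsl_dt (LP (LK LD1_c6 LD2_c51 LD3_c0)) = (LP (LK LD1_c13 LD2_c2 LD3_c9)) :=
  Lre_d IH (LK LD1_c6 LD2_c51 LD3_c0) (LK LD1_c13 LD2_c2 LD3_c9) Lrfl Lrfl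
theorem f149235 : Led Lsl_et (LP (LK LD1_c3 LD2_c24 LD3_c0)) = (LP (LK LD1_c6 LD2_c51 LD3_c0)) :=
  Lre_e IH (LK LD1_c3 LD2_c24 LD3_c0) (LK LD1_c6 LD2_c51 LD3_c0) Lrfl Lrfl
theorem f149236 : Led Lsl_dt (LP (LK LD1_c3 LD2_c4 LD3_c43)) = (LP (LK LD1_c3 LD2_c24 LD3_c0)) :=
  Lgr Lrot77 (Lpe (f149233 IH) (Lpe (f149232 IH) (Lpr_ef (f149230 IH) (Lpe (f149234 IH) (Lpe (f149235 IH) (Lpn (LP (LK LD1_c3 LD2_c24 LD3_c0))))))))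
theorem f161010 : Led Lsl_gf (LP (LK LD1_c5 LD2_c48 LD3_c14)) = (LP (LK LD1_c3 LD2_c24 LD3_c0)) :=
  Lgr Lrot143 (Lpe (K7.f149684 IH) (Lpe (K6.f137833 IH) (Lpr_df (K6.f137659 IH) (Lpe (K6.f36545 IH) (Lpe (K6.f36523 IH) (Lpe (K4.f36532 IH) (Lpe (K4.f36533 IH) (Lpr_gt (f161006 IH) (Lpr_dt (f149236 IH) (Lpn (LP (LK LD1_c3 LD2_c24 LD3_c0))))))))))))
theorem f69235 : Led Lsl_at (LP (LK LD1_c0 LD2_c38 LD3_c55)) = (LP (LK LD1_c1 LD2_c24 LD3_c22)) :=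
  Lre_a IH (LK LD1_c0 LD2_c38 LD3_c55) (LK LD1_c1 LD2_c24 LD3_c22) Lrfl Lrfl
theorem f69236 : Led Lsl_at (LP (LK LD1_c0 LD2_c42 LD3_c8)) = (LP (LK LD1_c0 LD2_c18 LD3_c49)) :=
  Lre_a IH (LK LD1_c0 LD2_c42 LD3_c8) (LK LD1_c0 LD2_c18 LD3_c49) Lrfl Lrfl
theorem f69237 : Led Lsl_dt (LP (LK LD1_c1 LD2_c24 LD3_c22)) = (LP (LK LD1_c0 LD2_c42 LD3_c8)) :=
  Lgr Lrot44 (Lpe (f69235 IH) (Lpr_df (K6.f69199 IH) (Lpe (f69236 IH) (Lpn (LP (LK LD1_c0 LD2_c42 LD3_c8))))))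
theorem f69254 : Led Lsl_ct (LP (LK LD1_c1 LD2_c31 LD3_c6)) = (LP (LK LD1_c0 LD2_c42 LD3_c8)) :=
  Lre_c IH (LK LD1_c1 LD2_c31 LD3_c6) (LK LD1_c0 LD2_c42 LD3_c8) Lrfl Lrfl
theorem f117542 : Led Lsl_at (LP (LK LD1_c1 LD2_c20 LD3_c61)) = (LP (LK LD1_c2 LD2_c49 LD3_c50)) :=
  Lre_a IH (LK LD1_c1 LD2_c20 LD3_c61) (LK LD1_c2 LD2_c49 LD3_c50) Lrfl Lrfl
theorem f161008 : Led Lsl_gf (LP (LK LD1_c2 LD2_c49 LD3_c50)) = (LP (LK LD1_c3 LD2_c4 LD3_c43)) :=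
  Lgr Lrot76 (Lpe (f117542 IH) (Lpe (K5.f117823 IH) (Lpr_gt (f161006 IH) (Lpn (LP (LK LD1_c3 LD2_c4 LD3_c43))))))
theorem f161012 : Led Lsl_gf (LP (LK LD1_c1 LD2_c31 LD3_c6)) = (LP (LK LD1_c2 LD2_c9 LD3_c22)) :=
  Lgr Lrot104 (Lpr_ct (f69254 IH) (Lpe (f69237 IH) (Lpe (f64589 IH) (Lpe (f160846 IH) (Lpr_cf (K7.f149703 IH) (Lpr_gf (f161010 IH) (Lpe (f149236 IH) (Lpe (f161008 IH) (Lpr_ct (K4.f117540 IH) (Lpn (LP (LK LD1_c2 LD2_c9 LD3_c22))))))))))))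
theorem f72242 : Led Lsl_gt (LP (LK LD1_c1 LD2_c22 LD3_c49)) = (LP (LK LD1_c2 LD2_c53 LD3_c29)) :=
  Lre_g IH (LK LD1_c1 LD2_c22 LD3_c49) (LK LD1_c2 LD2_c53 LD3_c29) Lrfl Lrfl
theorem f138164 : Led Lsl_ct (LP (LK LD1_c5 LD2_c54 LD3_c9)) = (LP (LK LD1_c2 LD2_c53 LD3_c29)) :=
  Lre_c IH (LK LD1_c5 LD2_c54 LD3_c9) (LK LD1_c2 LD2_c53 LD3_c29) Lrfl Lrfl
theorem f138165 : Led Lsl_bf (LP (LK LD1_c4 LD2_c46 LD3_c38)) = (LP (LK LD1_c5 LD2_c54 LD3_c9)) :=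
  Lgr Lrot156 (Lpr_gt (f105030 IH) (Lpe (K2.f58240 IH) (Lpr_ct (K1.f13656 IH) (Lpe (K3.f78590 IH) (Lpr_cf (K3.f78582 IH) (Lpr_bt (K5.f78581 IH) (Lpr_gt (f138154 IH) (Lpr_ct (f70914 IH) (Lpr_gt (f72242 IH) (Lpe (f138164 IH) (Lpn (LP (LK LD1_c5 LD2_c54 LD3_c9)))))))))))))
theorem f22837 : Led Lsl_bt (LP (LK LD1_c1 LD2_c5 LD3_c40)) = (LP (LK LD1_c0 LD2_c30 LD3_c1)) :=
  Lre_b IH (LK LD1_c1 LD2_c5 LD3_c40) (LK LD1_c0 LD2_c30 LD3_c1) Lrfl Lrfl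
theorem f37969 : Led Lsl_bt (LP (LK LD1_c0 LD2_c30 LD3_c23)) = (LP (LK LD1_c1 LD2_c6 LD3_c23)) :=
  Lre_b IH (LK LD1_c0 LD2_c30 LD3_c23) (LK LD1_c1 LD2_c6 LD3_c23) Lrfl Lrfl
theorem f27025 : Led Lsl_gt (LP (LK LD1_c1 LD2_c6 LD3_c23)) = (LP (LK LD1_c2 LD2_c18 LD3_c43)) :=
  Lre_g IH (LK LD1_c1 LD2_c6 LD3_c23) (LK LD1_c2 LD2_c18 LD3_c43) Lrfl Lrfl
theorem f72243 : Led Lsl_ct (LP (LK LD1_c2 LD2_c53 LD3_c29)) = (LP (LK LD1_c5 LD2_c54 LD3_c9)) :=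
  Lre_c IH (LK LD1_c2 LD2_c53 LD3_c29) (LK LD1_c5 LD2_c54 LD3_c9) Lrfl Lrfl
theorem f138179 : Led Lsl_dt (LP (LK LD1_c2 LD2_c18 LD3_c43)) = (LP (LK LD1_c2 LD2_c53 LD3_c29)) :=
  Lgr Lrot182 (Lpe (f27025 IH) (Lpe (f37969 IH) (Lpe (K1.f37968 IH) (Lpe (K1.f36319 IH) (Lpe (K1.f37083 IH) (Lpr_bf (K1.f29325 IH) (Lpe (K1.f36616 IH) (Lpe (K1.f36624 IH) (Lpr_gf (K1.f37960 IH) (Lpe (K1.f37734 IH) (Lpe (K1.f37945 IH) (Lpe (K0.f22459 IH) (Lpe (K0.f22451 IH) (Lpe (f22837 IH) (Lpe (K2.f22838 IH) (Lpe (K2.f22839 IH) (Lpe (f105030 IH) (Lpr_bf (f138165 IH) (Lpe (f72243 IH) (Lpn (LP (LK LD1_c2 LD2_c53 LD3_c29))))))))))))))))))))))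
theorem f59227 : Led Lsl_et (LP (LK LD1_c4 LD2_c42 LD3_c35)) = (LP (LK LD1_c2 LD2_c18 LD3_c43)) :=
  Lre_e IH (LK LD1_c4 LD2_c42 LD3_c35) (LK LD1_c2 LD2_c18 LD3_c43) Lrfl Lrfl
theorem f59204 : Led Lsl_dt (LP (LK LD1_c9 LD2_c19 LD3_c25)) = (LP (LK LD1_c4 LD2_c42 LD3_c35)) :=
  Lre_d IH (LK LD1_c9 LD2_c19 LD3_c25) (LK LD1_c4 LD2_c42 LD3_c35) Lrfl Lrfl
theorem f138185 : Led Lsl_et (LP (LK LD1_c2 LD2_c53 LD3_c29)) = (LP (LK LD1_c5 LD2_c54 LD3_c10)) :=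
  Lre_e IH (LK LD1_c2 LD2_c53 LD3_c29) (LK LD1_c5 LD2_c54 LD3_c10) Lrfl Lrfl
theorem f138186 : Led Lsl_dt (LP (LK LD1_c5 LD2_c54 LD3_c10)) = (LP (LK LD1_c11 LD2_c34 LD3_c9)) :=
  Lre_d IH (LK LD1_c5 LD2_c54 LD3_c10) (LK LD1_c11 LD2_c34 LD3_c9) Lrfl Lrfl
theorem f138187 : Led Lsl_ef (LP (LK LD1_c9 LD2_c19 LD3_c25)) = (LP (LK LD1_c11 LD2_c34 LD3_c9)) :=
  Lgr Lrot73 (Lpr_dt (f59204 IH) (Lpr_et (f59227 IH) (Lpr_dt (f138179 IH) (Lpr_et (f138185 IH) (Lpr_dt (f138186 IH) (Lpn (LP (LK LD1_c11 LD2_c34 LD3_c9))))))))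
theorem f138202 : Led Lsl_et (LP (LK LD1_c9 LD2_c19 LD3_c25)) = (LP (LK LD1_c11 LD2_c34 LD3_c9)) :=
  Lgr Lrot87 (Lpr_ef (f138187 IH) (Lpn (LP (LK LD1_c11 LD2_c34 LD3_c9))))
theorem f36520 : Led Lsl_cf (LP (LK LD1_c0 LD2_c30 LD3_c4)) = (LP (LK LD1_c1 LD2_c1 LD3_c50)) :=
  Lgr Lrot11 (Lpr_ct (K4.f36492 IH) (Lpn (LP (LK LD1_c1 LD2_c1 LD3_c50))))
theorem f26867 : Led Lsl_gt (LP (LK LD1_c1 LD2_c5 LD3_c48)) = (LP (LK LD1_c0 LD2_c30 LD3_c4)) :=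
  Lre_g IH (LK LD1_c1 LD2_c5 LD3_c48) (LK LD1_c0 LD2_c30 LD3_c4) Lrfl Lrfl
theorem f26868 : Led Lsl_ct (LP (LK LD1_c2 LD2_c17 LD3_c45)) = (LP (LK LD1_c1 LD2_c5 LD3_c48)) :=
  Lre_c IH (LK LD1_c2 LD2_c17 LD3_c45) (LK LD1_c1 LD2_c5 LD3_c48) Lrfl Lrfl
theorem f59188 : Led Lsl_bf (LP (LK LD1_c2 LD2_c18 LD3_c43)) = (LP (LK LD1_c2 LD2_c17 LD3_c45)) :=
  Lgr Lrot34 (Lpe (f27025 IH) (Lpe (f37969 IH) (Lpr_ct (K1.f36311 IH) (Lpe (K1.f27055 IH) (Lpr_cf (K1.f59170 IH) (Lpe (K1.f35867 IH) (Lpe (K4.f36491 IH) (Lpe (f36520 IH) (Lpe (f26867 IH) (Lpe (f26868 IH) (Lpn (LP (LK LD1_c2 LD2_c17 LD3_c45)))))))))))))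
theorem f59197 : Led Lsl_et (LP (LK LD1_c2 LD2_c18 LD3_c43)) = (LP (LK LD1_c4 LD2_c42 LD3_c35)) :=
  Lre_e IH (LK LD1_c2 LD2_c18 LD3_c43) (LK LD1_c4 LD2_c42 LD3_c35) Lrfl Lrfl
theorem f59198 : Led Lsl_et (LP (LK LD1_c4 LD2_c41 LD3_c22)) = (LP (LK LD1_c2 LD2_c17 LD3_c45)) :=
  Lre_e IH (LK LD1_c4 LD2_c41 LD3_c22) (LK LD1_c2 LD2_c17 LD3_c45) Lrfl Lrfl
theorem f59199 : Led Lsl_bt (LP (LK LD1_c4 LD2_c42 LD3_c35)) = (LP (LK LD1_c4 LD2_c41 LD3_c22)) :=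
  Lgr Lrot119 (Lpe (f59197 IH) (Lpr_bf (f59188 IH) (Lpe (f59198 IH) (Lpn (LP (LK LD1_c4 LD2_c41 LD3_c22))))))
theorem f59205 : Led Lsl_dt (LP (LK LD1_c4 LD2_c41 LD3_c22)) = (LP (LK LD1_c9 LD2_c17 LD3_c46)) :=
  Lre_d IH (LK LD1_c4 LD2_c41 LD3_c22) (LK LD1_c9 LD2_c17 LD3_c46) Lrfl Lrfl
theorem f59206 : Led Lsl_bf (LP (LK LD1_c9 LD2_c19 LD3_c25)) = (LP (LK LD1_c9 LD2_c17 LD3_c46)) :=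
  Lgr Lrot93 (Lpr_dt (f59204 IH) (Lpr_bt (f59199 IH) (Lpr_dt (f59205 IH) (Lpn (LP (LK LD1_c9 LD2_c17 LD3_c46))))))
theorem f59216 : Led Lsl_et (LP (LK LD1_c17 LD2_c12 LD3_c50)) = (LP (LK LD1_c9 LD2_c17 LD3_c46)) :=
  Lre_e IH (LK LD1_c17 LD2_c12 LD3_c50) (LK LD1_c9 LD2_c17 LD3_c46) Lrfl Lrfl
theorem f138210 : Led Lsl_bf (LP (LK LD1_c17 LD2_c12 LD3_c50)) = (LP (LK LD1_c11 LD2_c34 LD3_c9)) :=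
  Lgr Lrot96 (Lpr_et (f59216 IH) (Lpe (f59206 IH) (Lpr_et (f138202 IH) (Lpn (LP (LK LD1_c11 LD2_c34 LD3_c9))))))
theorem f138227 : Led Lsl_dt (LP (LK LD1_c17 LD2_c12 LD3_c50)) = (LP (LK LD1_c9 LD2_c17 LD3_c45)) :=
  Lre_d IH (LK LD1_c17 LD2_c12 LD3_c50) (LK LD1_c9 LD2_c17 LD3_c45) Lrfl Lrfl
theorem f138228 : Led Lsl_bt (LP (LK LD1_c9 LD2_c17 LD3_c45)) = (LP (LK LD1_c5 LD2_c54 LD3_c10)) :=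
  Lgr Lrot95 (Lpe (f138227 IH) (Lpr_bf (f138210 IH) (Lpe (f138186 IH) (Lpn (LP (LK LD1_c5 LD2_c54 LD3_c10))))))
theorem f138233 : Led Lsl_bf (LP (LK LD1_c9 LD2_c17 LD3_c45)) = (LP (LK LD1_c5 LD2_c54 LD3_c10)) :=
  Lgr Lrot24 (Lpr_bt (f138228 IH) (Lpn (LP (LK LD1_c5 LD2_c54 LD3_c10))))
theorem f138245 : Led Lsl_et (LP (LK LD1_c9 LD2_c17 LD3_c45)) = (LP (LK LD1_c4 LD2_c41 LD3_c21)) :=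
  Lre_e IH (LK LD1_c9 LD2_c17 LD3_c45) (LK LD1_c4 LD2_c41 LD3_c21) Lrfl Lrfl
theorem f138246 : Led Lsl_bt (LP (LK LD1_c4 LD2_c41 LD3_c21)) = (LP (LK LD1_c2 LD2_c53 LD3_c29)) :=
  Lgr Lrot119 (Lpe (f138245 IH) (Lpr_bf (f138233 IH) (Lpe (f138185 IH) (Lpn (LP (LK LD1_c2 LD2_c53 LD3_c29))))))
theorem f138255 : Led Lsl_cf (LP (LK LD1_c4 LD2_c41 LD3_c21)) = (LP (LK LD1_c5 LD2_c56 LD3_c13)) :=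
  Lgr Lrot97 (Lpr_bt (f138246 IH) (Lpr_ct (f72243 IH) (Lpe (f138165 IH) (Lpr_ct (K6.f105032 IH) (Lpe (K4.f112610 IH) (Lpn (LP (LK LD1_c5 LD2_c56 LD3_c13))))))))
theorem f59231 : Led Lsl_dt (LP (LK LD1_c2 LD2_c17 LD3_c45)) = (LP (LK LD1_c4 LD2_c41 LD3_c21)) :=
  Lre_d IH (LK LD1_c2 LD2_c17 LD3_c45) (LK LD1_c4 LD2_c41 LD3_c21) Lrfl Lrfl
theorem f26869 : Led Lsl_ct (LP (LK LD1_c1 LD2_c5 LD3_c48)) = (LP (LK LD1_c2 LD2_c17 LD3_c45)) :=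
  Lre_c IH (LK LD1_c1 LD2_c5 LD3_c48) (LK LD1_c2 LD2_c17 LD3_c45) Lrfl Lrfl
theorem f161025 : Led Lsl_gt (LP (LK LD1_c0 LD2_c42 LD3_c8)) = (LP (LK LD1_c1 LD2_c5 LD3_c48)) :=
  Lgr Lrot150 (Lpe (f69254 IH) (Lpr_gf (f161012 IH) (Lpe (K4.f112834 IH) (Lpe (K6.f81795 IH) (Lpr_ct (K2.f35293 IH) (Lpe (K6.f71889 IH) (Lpe (f138255 IH) (Lpe (f59231 IH) (Lpe (f26869 IH) (Lpn (LP (LK LD1_c1 LD2_c5 LD3_c48))))))))))))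
theorem f69248 : Led Lsl_ct (LP (LK LD1_c0 LD2_c42 LD3_c8)) = (LP (LK LD1_c1 LD2_c31 LD3_c6)) :=
  Lre_c IH (LK LD1_c0 LD2_c42 LD3_c8) (LK LD1_c1 LD2_c31 LD3_c6) Lrfl Lrfl
theorem f161023 : Led Lsl_gt (LP (LK LD1_c1 LD2_c31 LD3_c6)) = (LP (LK LD1_c2 LD2_c9 LD3_c23)) :=
  Lgr Lrot46 (Lpr_gf (f161012 IH) (Lpe (K4.f117545 IH) (Lpr_at (K4.f117554 IH) (Lpn (LP (LK LD1_c2 LD2_c9 LD3_c23))))))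
theorem f119656 : Led Lsl_df (LP (LK LD1_c2 LD2_c54 LD3_c27)) = (LP (LK LD1_c2 LD2_c9 LD3_c23)) :=
  Lgr Lrot38 (Lpr_dt (K4.f119650 IH) (Lpn (LP (LK LD1_c2 LD2_c9 LD3_c23))))
theorem f161032 : Led Lsl_df (LP (LK LD1_c1 LD2_c23 LD3_c15)) = (LP (LK LD1_c1 LD2_c5 LD3_c48)) :=
  Lgr Lrot153 (Lpr_gt (f71856 IH) (Lpr_dt (K2.f24081 IH) (Lpe (K6.f24073 IH) (Lpe (K2.f69452 IH) (Lpe (K4.f81783 IH) (Lpr_df (f119656 IH) (Lpe (f161023 IH) (Lpe (f69248 IH) (Lpr_gt (f161025 IH) (Lpn (LP (LK LD1_c1 LD2_c5 LD3_c48))))))))))))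
theorem f161036 : Led Lsl_dt (LP (LK LD1_c1 LD2_c23 LD3_c15)) = (LP (LK LD1_c1 LD2_c5 LD3_c48)) :=
  Lgr Lrot42 (Lpr_df (f161032 IH) (Lpn (LP (LK LD1_c1 LD2_c5 LD3_c48))))
theorem f59196 : Led Lsl_dt (LP (LK LD1_c4 LD2_c41 LD3_c21)) = (LP (LK LD1_c2 LD2_c17 LD3_c45)) :=
  Lre_d IH (LK LD1_c4 LD2_c41 LD3_c21) (LK LD1_c2 LD2_c17 LD3_c45) Lrfl Lrfl
theorem f69337 : Led Lsl_ct (LP (LK LD1_c1 LD2_c2 LD3_c6)) = (LP (LK LD1_c1 LD2_c2 LD3_c1)) :=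
  Lgr Lrot176 (Lpe (K2.f34763 IH) (Lpr_cf (K2.f69327 IH) (Lpe (K6.f37964 IH) (Lpe (K0.f8178 IH) (Lpe (K0.f34757 IH) (Lpe (K0.f34743 IH) (Lpe (K1.f34744 IH) (Lpe (K1.f38002 IH) (Lpe (K1.f37996 IH) (Lpr_cf (K1.f37987 IH) (Lpr_df (K1.f34710 IH) (Lpe (K0.f35442 IH) (Lpe (K1.f35444 IH) (Lpe (K1.f35439 IH) (Lpe (K1.f35438 IH) (Lpn (LP (LK LD1_c1 LD2_c2 LD3_c1))))))))))))))))))
theorem f37458 : Led Lsl_af (LP (LK LD1_c1 LD2_c2 LD3_c1)) = (LP (LK LD1_c1 LD2_c10 LD3_c42)) :=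
  Lgr Lrot0 (Lpr_at (K1.f37452 IH) (Lpn (LP (LK LD1_c1 LD2_c10 LD3_c42))))
theorem f81685 : Led Lsl_at (LP (LK LD1_c2 LD2_c54 LD3_c15)) = (LP (LK LD1_c1 LD2_c23 LD3_c12)) :=
  Lre_a IH (LK LD1_c2 LD2_c54 LD3_c15) (LK LD1_c1 LD2_c23 LD3_c12) Lrfl Lrfl
theorem f81686 : Led Lsl_bf (LP (LK LD1_c1 LD2_c10 LD3_c42)) = (LP (LK LD1_c1 LD2_c23 LD3_c12)) :=
  Lgr Lrot81 (Lpe (f37458 IH) (Lpr_bt (K6.f35900 IH) (Lpr_at (K4.f35978 IH) (Lpr_bt (K2.f81681 IH) (Lpr_at (f81685 IH) (Lpn (LP (LK LD1_c1 LD2_c23 LD3_c12))))))))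
theorem f138257 : Led Lsl_ct (LP (LK LD1_c4 LD2_c41 LD3_c21)) = (LP (LK LD1_c5 LD2_c56 LD3_c13)) :=
  Lgr Lrot64 (Lpr_bt (f138246 IH) (Lpe (f72242 IH) (Lpe (K2.f72223 IH) (Lpr_ct (f69337 IH) (Lpe (K2.f59703 IH) (Lpr_cf (K2.f59699 IH) (Lpe (K2.f59184 IH) (Lpr_bf (f81686 IH) (Lpr_ct (K2.f71864 IH) (Lpe (K4.f69448 IH) (Lpn (LP (LK LD1_c5 LD2_c56 LD3_c13)))))))))))))
theorem f37921 : Led Lsl_bf (LP (LK LD1_c0 LD2_c32 LD3_c46)) = (LP (LK LD1_c0 LD2_c38 LD3_c30)) :=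
  Lgr Lrot90 (Lpr_ct (K1.f37327 IH) (Lpr_bt (K1.f37318 IH) (Lpr_ct (K1.f37912 IH) (Lpr_bt (K6.f37919 IH) (Lpr_ct (K2.f37920 IH) (Lpn (LP (LK LD1_c0 LD2_c38 LD3_c30))))))))
theorem f69441 : Led Lsl_gf (LP (LK LD1_c1 LD2_c23 LD3_c4)) = (LP (LK LD1_c2 LD2_c54 LD3_c5)) :=
  Lgr Lrot181 (Lpr_ct (K6.f69440 IH) (Lpr_gt (K6.f69439 IH) (Lpe (K6.f24073 IH) (Lpe (f37921 IH) (Lpe (K1.f37324 IH) (Lpe (K7.f29492 IH) (Lpr_ct (K7.f29461 IH) (Lpr_gt (K6.f29498 IH) (Lpe (f29487 IH) (Lpr_bt (K6.f69421 IH) (Lpn (LP (LK LD1_c2 LD2_c54 LD3_c5)))))))))))))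
theorem f138261 : Led Lsl_gf (LP (LK LD1_c4 LD2_c41 LD3_c21)) = (LP (LK LD1_c5 LD2_c55 LD3_c29)) :=
  Lgr Lrot147 (Lpr_ct (f138257 IH) (Lpr_gt (K4.f69448 IH) (Lpr_ct (K4.f69447 IH) (Lpe (K2.f69446 IH) (Lpe (K2.f37920 IH) (Lpe (K6.f69439 IH) (Lpe (K6.f69440 IH) (Lpr_gf (f69441 IH) (Lpe (f59550 IH) (Lpn (LP (LK LD1_c5 LD2_c55 LD3_c29))))))))))))
theorem f161070 : Led Lsl_gf (LP (LK LD1_c1 LD2_c4 LD3_c34)) = (LP (LK LD1_c0 LD2_c38 LD3_c27)) :=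
  Lgr Lrot144 (Lpr_dt (K7.f35246 IH) (Lpe (f71857 IH) (Lpr_dt (f161036 IH) (Lpe (f26868 IH) (Lpe (f59196 IH) (Lpr_gf (f138261 IH) (Lpe (f59547 IH) (Lpe (K6.f59537 IH) (Lpe (K6.f59536 IH) (Lpn (LP (LK LD1_c0 LD2_c38 LD3_c27))))))))))))
theorem f36005 : Led Lsl_gt (LP (LK LD1_c3 LD2_c57 LD3_c43)) = (LP (LK LD1_c2 LD2_c9 LD3_c50)) :=
  Lgr Lrot5 (Lpr_ft (K2.f35987 IH) (Lpr_at (K2.f35986 IH) (Lpe (K6.f36004 IH) (Lpn (LP (LK LD1_c2 LD2_c9 LD3_c50))))))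
theorem f36010 : Led Lsl_bt (LP (LK LD1_c1 LD2_c2 LD3_c12)) = (LP (LK LD1_c2 LD2_c10 LD3_c17)) :=
  Lre_b IH (LK LD1_c1 LD2_c2 LD3_c12) (LK LD1_c2 LD2_c10 LD3_c17) Lrfl Lrfl
theorem f138263 : Led Lsl_ct (LP (LK LD1_c1 LD2_c23 LD3_c1)) = (LP (LK LD1_c0 LD2_c38 LD3_c27)) :=
  Lre_c IH (LK LD1_c1 LD2_c23 LD3_c1) (LK LD1_c0 LD2_c38 LD3_c27) Lrfl Lrfl
theorem f161074 : Led Lsl_gt (LP (LK LD1_c2 LD2_c10 LD3_c17)) = (LP (LK LD1_c1 LD2_c23 LD3_c1)) :=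
  Lgr Lrot82 (Lpe (f36010 IH) (Lpr_ct (K6.f36009 IH) (Lpe (K6.f35239 IH) (Lpe (K7.f36008 IH) (Lpr_bt (K6.f36007 IH) (Lpe (f36005 IH) (Lpe (K2.f36149 IH) (Lpe (K2.f35220 IH) (Lpr_gf (f161070 IH) (Lpe (f138263 IH) (Lpn (LP (LK LD1_c1 LD2_c23 LD3_c1)))))))))))))
theorem f112469 : Led Lsl_dt (LP (LK LD1_c2 LD2_c10 LD3_c17)) = (LP (LK LD1_c4 LD2_c25 LD3_c59)) :=
  Lre_d IH (LK LD1_c2 LD2_c10 LD3_c17) (LK LD1_c4 LD2_c25 LD3_c59) Lrfl Lrfl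
theorem f159529 : Led Lsl_dt (LP (LK LD1_c1 LD2_c47 LD3_c39)) = (LP (LK LD1_c0 LD2_c53 LD3_c26)) :=
  Lgr Lrot6 (Lpr_gt (K7.f4459 IH) (Lpr_ct (K5.f12927 IH) (Lpr_gt (f159525 IH) (Lpe (K6.f146832 IH) (Lpe (K6.f66556 IH) (Lpe (K4.f12369 IH) (Lpe (K5.f90077 IH) (Lpe (K4.f12181 IH) (Lpe (K6.f21101 IH) (Lpn (LP (LK LD1_c0 LD2_c53 LD3_c26))))))))))))
theorem f143190 : Led Lsl_bt (LP (LK LD1_c4 LD2_c48 LD3_c12)) = (LP (LK LD1_c2 LD2_c22 LD3_c0)) :=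
  Lre_b IH (LK LD1_c4 LD2_c48 LD3_c12) (LK LD1_c2 LD2_c22 LD3_c0) Lrfl Lrfl
theorem f145276 : Led Lsl_dt (LP (LK LD1_c2 LD2_c22 LD3_c0)) = (LP (LK LD1_c1 LD2_c53 LD3_c44)) :=
  Lgr Lrot79 (Lpe (f143190 IH) (Lpr_df (K6.f145274 IH) (Lpe (K6.f122981 IH) (Lpn (LP (LK LD1_c1 LD2_c53 LD3_c44))))))
theorem f159543 : Led Lsl_gf (LP (LK LD1_c1 LD2_c47 LD3_c39)) = (LP (LK LD1_c1 LD2_c48 LD3_c29)) :=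
  Lgr Lrot144 (Lpr_dt (f159529 IH) (Lpr_gt (K6.f21101 IH) (Lpr_dt (K6.f95897 IH) (Lpe (K7.f21156 IH) (Lpe (f145276 IH) (Lpe (K6.f143184 IH) (Lpe (K5.f129129 IH) (Lpe (K5.f22637 IH) (Lpe (K7.f147734 IH) (Lpn (LP (LK LD1_c1 LD2_c48 LD3_c29))))))))))))
theorem f147736 : Led Lsl_cf (LP (LK LD1_c1 LD2_c48 LD3_c29)) = (LP (LK LD1_c1 LD2_c33 LD3_c38)) :=
  Lgr Lrot14 (Lpe (K7.f147733 IH) (Lpr_gf (K7.f147727 IH) (Lpe (K6.f116272 IH) (Lpe (K7.f146876 IH) (Lpr_ct (K6.f11768 IH) (Lpr_gt (K7.f144373 IH) (Lpr_dt (K7.f68471 IH) (Lpr_gt (K5.f22824 IH) (Lpr_dt (K5.f22664 IH) (Lpn (LP (LK LD1_c1 LD2_c33 LD3_c38))))))))))))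
theorem f99520 : Led Lsl_cf (LP (LK LD1_c5 LD2_c47 LD3_c23)) = (LP (LK LD1_c6 LD2_c32 LD3_c0)) :=
  Lgr Lrot11 (Lpr_ct (f99515 IH) (Lpn (LP (LK LD1_c6 LD2_c32 LD3_c0))))
theorem f73303 : Led Lsl_ct (LP (LK LD1_c5 LD2_c47 LD3_c24)) = (LP (LK LD1_c2 LD2_c49 LD3_c41)) :=
  Lre_c IH (LK LD1_c5 LD2_c47 LD3_c24) (LK LD1_c2 LD2_c49 LD3_c41) Lrfl Lrfl
theorem f73335 : Led Lsl_ct (LP (LK LD1_c2 LD2_c49 LD3_c41)) = (LP (LK LD1_c5 LD2_c47 LD3_c24)) :=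
  Lre_c IH (LK LD1_c2 LD2_c49 LD3_c41) (LK LD1_c5 LD2_c47 LD3_c24) Lrfl Lrfl
theorem f73336 : Led Lsl_ff (LP (LK LD1_c6 LD2_c14 LD3_c17)) = (LP (LK LD1_c5 LD2_c47 LD3_c24)) :=
  Lgr Lrot23 (Lpr_ct (f37206 IH) (Lpr_ft (K2.f73324 IH) (Lpr_ct (f73335 IH) (Lpn (LP (LK LD1_c5 LD2_c47 LD3_c24))))))
theorem f73455 : Led Lsl_bt (LP (LK LD1_c5 LD2_c46 LD3_c26)) = (LP (LK LD1_c5 LD2_c47 LD3_c24)) :=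
  Lgr Lrot35 (Lpe (f60347 IH) (Lpe (f69583 IH) (Lpr_ff (f73336 IH) (Lpn (LP (LK LD1_c5 LD2_c47 LD3_c24))))))
theorem f73461 : Led Lsl_bf (LP (LK LD1_c5 LD2_c46 LD3_c26)) = (LP (LK LD1_c5 LD2_c47 LD3_c24)) :=
  Lgr Lrot24 (Lpr_bt (f73455 IH) (Lpn (LP (LK LD1_c5 LD2_c47 LD3_c24))))
theorem f159587 : Led Lsl_bt (LP (LK LD1_c3 LD2_c13 LD3_c36)) = (LP (LK LD1_c4 LD2_c37 LD3_c26)) :=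
  Lgr Lrot22 (Lpr_ct (f147564 IH) (Lpr_gf (f159543 IH) (Lpr_cf (f147736 IH) (Lpe (K6.f22640 IH) (Lpe (f22641 IH) (Lpe (f99520 IH) (Lpe (f73326 IH) (Lpe (f73303 IH) (Lpe (f73461 IH) (Lpr_gf (K6.f99804 IH) (Lpn (LP (LK LD1_c4 LD2_c37 LD3_c26)))))))))))))
theorem f4460 : Led Lsl_bt (LP (LK LD1_c3 LD2_c41 LD3_c27)) = (LP (LK LD1_c1 LD2_c47 LD3_c39)) :=
  Lre_b IH (LK LD1_c3 LD2_c41 LD3_c27) (LK LD1_c1 LD2_c47 LD3_c39) Lrfl Lrfl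
theorem f100226 : Led Lsl_bt (LP (LK LD1_c2 LD2_c15 LD3_c56)) = (LP (LK LD1_c4 LD2_c37 LD3_c25)) :=
  Lre_b IH (LK LD1_c2 LD2_c15 LD3_c56) (LK LD1_c4 LD2_c37 LD3_c25) Lrfl Lrfl
theorem f159589 : Led Lsl_cf (LP (LK LD1_c3 LD2_c41 LD3_c27)) = (LP (LK LD1_c4 LD2_c37 LD3_c25)) :=
  Lgr Lrot97 (Lpr_bt (f4460 IH) (Lpe (K7.f147568 IH) (Lpr_bt (f159587 IH) (Lpr_ct (K6.f99813 IH) (Lpr_bt (f100226 IH) (Lpn (LP (LK LD1_c4 LD2_c37 LD3_c25))))))))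
theorem f24965 : Led Lsl_bt (LP (LK LD1_c0 LD2_c40 LD3_c37)) = (LP (LK LD1_c1 LD2_c27 LD3_c46)) :=
  Lre_b IH (LK LD1_c0 LD2_c40 LD3_c37) (LK LD1_c1 LD2_c27 LD3_c46) Lrfl Lrfl
theorem f100232 : Led Lsl_dt (LP (LK LD1_c2 LD2_c15 LD3_c55)) = (LP (LK LD1_c4 LD2_c37 LD3_c25)) :=
  Lre_d IH (LK LD1_c2 LD2_c15 LD3_c55) (LK LD1_c4 LD2_c37 LD3_c25) Lrfl Lrfl
theorem f160629 : Led Lsl_gt (LP (LK LD1_c1 LD2_c27 LD3_c46)) = (LP (LK LD1_c2 LD2_c15 LD3_c55)) :=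
  Lgr Lrot190 (Lpe (f24965 IH) (Lpe (K1.f24964 IH) (Lpe (K1.f24963 IH) (Lpe (K1.f24962 IH) (Lpe (K1.f7132 IH) (Lpe (K1.f3832 IH) (Lpe (K0.f7118 IH) (Lpr_gf (K0.f24948 IH) (Lpe (K0.f4461 IH) (Lpe (K0.f109 IH) (Lpe (K0.f110 IH) (Lpe (K0.f3943 IH) (Lpe (K3.f4456 IH) (Lpe (K4.f4457 IH) (Lpe (K5.f4458 IH) (Lpe (K7.f4459 IH) (Lpe (f4460 IH) (Lpr_cf (f159589 IH) (Lpe (f100232 IH) (Lpn (LP (LK LD1_c2 LD2_c15 LD3_c55))))))))))))))))))))))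
theorem f80530 : Led Lsl_ff (LP (LK LD1_c0 LD2_c5 LD3_c11)) = (LP (LK LD1_c0 LD2_c8 LD3_c11)) :=
  Lgr Lrot52 (Lpe (K1.f29314 IH) (Lpe (K1.f29321 IH) (Lpr_gf (K4.f80458 IH) (Lpn (LP (LK LD1_c0 LD2_c8 LD3_c11))))))
theorem f80847 : Led Lsl_ft (LP (LK LD1_c0 LD2_c6 LD3_c28)) = (LP (LK LD1_c0 LD2_c7 LD3_c28)) :=
  Lgr Lrot75 (Lpr_bf (K0.f2943 IH) (Lpr_ff (f80530 IH) (Lpr_bf (K1.f37296 IH) (Lpn (LP (LK LD1_c0 LD2_c7 LD3_c28))))))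
theorem f80851 : Led Lsl_ff (LP (LK LD1_c0 LD2_c14 LD3_c6)) = (LP (LK LD1_c0 LD2_c16 LD3_c47)) :=
  Lgr Lrot19 (Lpr_dt (K1.f3051 IH) (Lpr_ft (f80847 IH) (Lpr_dt (K1.f37124 IH) (Lpn (LP (LK LD1_c0 LD2_c16 LD3_c47))))))
theorem f37123 : Led Lsl_ct (LP (LK LD1_c0 LD2_c37 LD3_c41)) = (LP (LK LD1_c0 LD2_c16 LD3_c47)) :=
  Lre_c IH (LK LD1_c0 LD2_c37 LD3_c41) (LK LD1_c0 LD2_c16 LD3_c47) Lrfl Lrfl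
theorem f80855 : Led Lsl_ft (LP (LK LD1_c0 LD2_c31 LD3_c44)) = (LP (LK LD1_c0 LD2_c37 LD3_c41)) :=
  Lgr Lrot4 (Lpe (K0.f2963 IH) (Lpr_ff (f80851 IH) (Lpe (f37123 IH) (Lpn (LP (LK LD1_c0 LD2_c37 LD3_c41))))))
theorem f2953 : Led Lsl_bt (LP (LK LD1_c1 LD2_c9 LD3_c13)) = (LP (LK LD1_c0 LD2_c31 LD3_c44)) :=
  Lre_b IH (LK LD1_c1 LD2_c9 LD3_c13) (LK LD1_c0 LD2_c31 LD3_c44) Lrfl Lrfl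
theorem f37316 : Led Lsl_bt (LP (LK LD1_c0 LD2_c37 LD3_c41)) = (LP (LK LD1_c1 LD2_c21 LD3_c36)) :=
  Lre_b IH (LK LD1_c0 LD2_c37 LD3_c41) (LK LD1_c1 LD2_c21 LD3_c36) Lrfl Lrfl
theorem f80857 : Led Lsl_ff (LP (LK LD1_c1 LD2_c9 LD3_c13)) = (LP (LK LD1_c1 LD2_c21 LD3_c36)) :=
  Lgr Lrot25 (Lpr_bt (f2953 IH) (Lpr_ft (f80855 IH) (Lpr_bt (f37316 IH) (Lpn (LP (LK LD1_c1 LD2_c21 LD3_c36))))))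
theorem f2966 : Led Lsl_ct (LP (LK LD1_c0 LD2_c31 LD3_c43)) = (LP (LK LD1_c1 LD2_c9 LD3_c12)) :=
  Lre_c IH (LK LD1_c0 LD2_c31 LD3_c43) (LK LD1_c1 LD2_c9 LD3_c12) Lrfl Lrfl
theorem f2967 : Led Lsl_bt (LP (LK LD1_c1 LD2_c9 LD3_c12)) = (LP (LK LD1_c2 LD2_c24 LD3_c14)) :=
  Lre_b IH (LK LD1_c1 LD2_c9 LD3_c12) (LK LD1_c2 LD2_c24 LD3_c14) Lrfl Lrfl
theorem f2969 : Led Lsl_bt (LP (LK LD1_c1 LD2_c56 LD3_c46)) = (LP (LK LD1_c0 LD2_c55 LD3_c10)) :=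
  Lre_b IH (LK LD1_c1 LD2_c56 LD3_c46) (LK LD1_c0 LD2_c55 LD3_c10) Lrfl Lrfl
theorem f2970 : Led Lsl_ct (LP (LK LD1_c2 LD2_c24 LD3_c14)) = (LP (LK LD1_c1 LD2_c56 LD3_c46)) :=
  Lgr Lrot83 (Lpe (f2967 IH) (Lpe (f2966 IH) (Lpr_bf (K0.f2960 IH) (Lpe (K1.f2968 IH) (Lpe (f2969 IH) (Lpn (LP (LK LD1_c1 LD2_c56 LD3_c46))))))))
theorem f2998 : Led Lsl_cf (LP (LK LD1_c2 LD2_c24 LD3_c14)) = (LP (LK LD1_c1 LD2_c56 LD3_c46)) :=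
  Lgr Lrot11 (Lpr_ct (f2970 IH) (Lpn (LP (LK LD1_c1 LD2_c56 LD3_c46))))
theorem f3013 : Led Lsl_et (LP (LK LD1_c2 LD2_c24 LD3_c14)) = (LP (LK LD1_c1 LD2_c9 LD3_c13)) :=
  Lre_e IH (LK LD1_c2 LD2_c24 LD3_c14) (LK LD1_c1 LD2_c9 LD3_c13) Lrfl Lrfl
theorem f3014 : Led Lsl_et (LP (LK LD1_c0 LD2_c55 LD3_c12)) = (LP (LK LD1_c1 LD2_c56 LD3_c46)) :=
  Lre_e IH (LK LD1_c0 LD2_c55 LD3_c12) (LK LD1_c1 LD2_c56 LD3_c46) Lrfl Lrfl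
theorem f3015 : Led Lsl_ct (LP (LK LD1_c1 LD2_c9 LD3_c13)) = (LP (LK LD1_c0 LD2_c55 LD3_c12)) :=
  Lgr Lrot15 (Lpe (f3013 IH) (Lpr_cf (f2998 IH) (Lpe (f3014 IH) (Lpn (LP (LK LD1_c0 LD2_c55 LD3_c12))))))
theorem f37976 : Led Lsl_bt (LP (LK LD1_c1 LD2_c21 LD3_c36)) = (LP (LK LD1_c0 LD2_c37 LD3_c41)) :=
  Lre_b IH (LK LD1_c1 LD2_c21 LD3_c36) (LK LD1_c0 LD2_c37 LD3_c41) Lrfl Lrfl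
theorem f37977 : Led Lsl_ct (LP (LK LD1_c1 LD2_c27 LD3_c46)) = (LP (LK LD1_c1 LD2_c21 LD3_c36)) :=
  Lgr Lrot83 (Lpe (f24965 IH) (Lpe (K1.f24964 IH) (Lpr_bf (K1.f37970 IH) (Lpe (f37123 IH) (Lpe (f37976 IH) (Lpn (LP (LK LD1_c1 LD2_c21 LD3_c36))))))))
theorem f80865 : Led Lsl_ft (LP (LK LD1_c0 LD2_c55 LD3_c12)) = (LP (LK LD1_c1 LD2_c27 LD3_c46)) :=
  Lgr Lrot4 (Lpe (f3015 IH) (Lpr_ff (f80857 IH) (Lpe (f37977 IH) (Lpn (LP (LK LD1_c1 LD2_c27 LD3_c46))))))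
theorem f80873 : Led Lsl_ff (LP (LK LD1_c0 LD2_c55 LD3_c12)) = (LP (LK LD1_c1 LD2_c27 LD3_c46)) :=
  Lgr Lrot3 (Lpr_ft (f80865 IH) (Lpn (LP (LK LD1_c1 LD2_c27 LD3_c46))))
theorem f3022 : Led Lsl_at (LP (LK LD1_c0 LD2_c55 LD3_c12)) = (LP (LK LD1_c1 LD2_c56 LD3_c51)) :=
  Lre_a IH (LK LD1_c0 LD2_c55 LD3_c12) (LK LD1_c1 LD2_c56 LD3_c51) Lrfl Lrfl
theorem f160633 : Led Lsl_gf (LP (LK LD1_c1 LD2_c56 LD3_c51)) = (LP (LK LD1_c2 LD2_c15 LD3_c55)) :=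
  Lgr Lrot76 (Lpe (f3022 IH) (Lpr_ff (f80873 IH) (Lpr_gt (f160629 IH) (Lpn (LP (LK LD1_c2 LD2_c15 LD3_c55))))))
theorem f80879 : Led Lsl_at (LP (LK LD1_c3 LD2_c3 LD3_c36)) = (LP (LK LD1_c1 LD2_c27 LD3_c46)) :=
  Lre_a IH (LK LD1_c3 LD2_c3 LD3_c36) (LK LD1_c1 LD2_c27 LD3_c46) Lrfl Lrfl
theorem f80880 : Led Lsl_ft (LP (LK LD1_c1 LD2_c56 LD3_c51)) = (LP (LK LD1_c3 LD2_c3 LD3_c36)) :=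
  Lgr Lrot101 (Lpe (f3022 IH) (Lpr_ff (f80873 IH) (Lpe (f80879 IH) (Lpn (LP (LK LD1_c3 LD2_c3 LD3_c36))))))
theorem f80887 : Led Lsl_gt (LP (LK LD1_c3 LD2_c3 LD3_c35)) = (LP (LK LD1_c1 LD2_c27 LD3_c46)) :=
  Lre_g IH (LK LD1_c3 LD2_c3 LD3_c35) (LK LD1_c1 LD2_c27 LD3_c46) Lrfl Lrfl
theorem f80891 : Led Lsl_gt (LP (LK LD1_c1 LD2_c56 LD3_c51)) = (LP (LK LD1_c3 LD2_c3 LD3_c35)) :=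
  Lgr Lrot5 (Lpr_ft (f80880 IH) (Lpr_at (f80879 IH) (Lpe (f80887 IH) (Lpn (LP (LK LD1_c3 LD2_c3 LD3_c35))))))
theorem f160637 : Led Lsl_af (LP (LK LD1_c3 LD2_c3 LD3_c35)) = (LP (LK LD1_c1 LD2_c56 LD3_c49)) :=
  Lgr Lrot31 (Lpe (f80891 IH) (Lpr_gf (f160633 IH) (Lpr_ft (K6.f142159 IH) (Lpn (LP (LK LD1_c1 LD2_c56 LD3_c49))))))
theorem f80893 : Led Lsl_dt (LP (LK LD1_c3 LD2_c3 LD3_c35)) = (LP (LK LD1_c6 LD2_c13 LD3_c31)) :=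
  Lre_d IH (LK LD1_c3 LD2_c3 LD3_c35) (LK LD1_c6 LD2_c13 LD3_c31) Lrfl Lrfl
theorem f80877 : Led Lsl_dt (LP (LK LD1_c4 LD2_c0 LD3_c6)) = (LP (LK LD1_c1 LD2_c56 LD3_c49)) :=
  Lre_d IH (LK LD1_c4 LD2_c0 LD3_c6) (LK LD1_c1 LD2_c56 LD3_c49) Lrfl Lrfl
theorem f160643 : Led Lsl_at (LP (LK LD1_c6 LD2_c13 LD3_c31)) = (LP (LK LD1_c4 LD2_c0 LD3_c6)) :=
  Lgr Lrot51 (Lpe (f80893 IH) (Lpr_af (f160637 IH) (Lpe (f80877 IH) (Lpn (LP (LK LD1_c4 LD2_c0 LD3_c6))))))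
theorem f80869 : Led Lsl_at (LP (LK LD1_c1 LD2_c27 LD3_c46)) = (LP (LK LD1_c3 LD2_c3 LD3_c36)) :=
  Lre_a IH (LK LD1_c1 LD2_c27 LD3_c46) (LK LD1_c3 LD2_c3 LD3_c36) Lrfl Lrfl
theorem f80875 : Led Lsl_gt (LP (LK LD1_c1 LD2_c56 LD3_c49)) = (LP (LK LD1_c3 LD2_c3 LD3_c36)) :=
  Lgr Lrot46 (Lpe (K6.f3031 IH) (Lpr_ft (f80865 IH) (Lpr_at (f80869 IH) (Lpn (LP (LK LD1_c3 LD2_c3 LD3_c36))))))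
theorem f3030 : Led Lsl_at (LP (LK LD1_c1 LD2_c56 LD3_c51)) = (LP (LK LD1_c0 LD2_c55 LD3_c12)) :=
  Lre_a IH (LK LD1_c1 LD2_c56 LD3_c51) (LK LD1_c0 LD2_c55 LD3_c12) Lrfl Lrfl
theorem f80870 : Led Lsl_ff (LP (LK LD1_c1 LD2_c56 LD3_c51)) = (LP (LK LD1_c3 LD2_c3 LD3_c36)) :=
  Lgr Lrot30 (Lpr_at (f3030 IH) (Lpr_ft (f80865 IH) (Lpr_at (f80869 IH) (Lpn (LP (LK LD1_c3 LD2_c3 LD3_c36))))))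
theorem f3037 : Led Lsl_gt (LP (LK LD1_c1 LD2_c56 LD3_c50)) = (LP (LK LD1_c0 LD2_c55 LD3_c12)) :=
  Lre_g IH (LK LD1_c1 LD2_c56 LD3_c50) (LK LD1_c0 LD2_c55 LD3_c12) Lrfl Lrfl
theorem f80900 : Led Lsl_gf (LP (LK LD1_c1 LD2_c56 LD3_c50)) = (LP (LK LD1_c3 LD2_c3 LD3_c36)) :=
  Lgr Lrot47 (Lpr_gt (f3037 IH) (Lpe (f3030 IH) (Lpr_ff (f80870 IH) (Lpn (LP (LK LD1_c3 LD2_c3 LD3_c36))))))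
theorem f142161 : Led Lsl_at (LP (LK LD1_c2 LD2_c15 LD3_c55)) = (LP (LK LD1_c1 LD2_c56 LD3_c50)) :=
  Lgr Lrot26 (Lpr_ff (K6.f142155 IH) (Lpr_gt (f80875 IH) (Lpe (f80900 IH) (Lpn (LP (LK LD1_c1 LD2_c56 LD3_c50))))))
theorem f3049 : Led Lsl_dt (LP (LK LD1_c1 LD2_c56 LD3_c50)) = (LP (LK LD1_c4 LD2_c0 LD3_c8)) :=
  Lre_d IH (LK LD1_c1 LD2_c56 LD3_c50) (LK LD1_c4 LD2_c0 LD3_c8) Lrfl Lrfl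
theorem f142168 : Led Lsl_af (LP (LK LD1_c4 LD2_c37 LD3_c25)) = (LP (LK LD1_c4 LD2_c0 LD3_c8)) :=
  Lgr Lrot117 (Lpr_dt (K6.f100231 IH) (Lpr_at (f142161 IH) (Lpr_dt (f3049 IH) (Lpn (LP (LK LD1_c4 LD2_c0 LD3_c8))))))
theorem f142170 : Led Lsl_at (LP (LK LD1_c4 LD2_c37 LD3_c25)) = (LP (LK LD1_c4 LD2_c0 LD3_c8)) :=
  Lgr Lrot100 (Lpr_af (f142168 IH) (Lpn (LP (LK LD1_c4 LD2_c0 LD3_c8))))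
theorem f160655 : Led Lsl_ff (LP (LK LD1_c6 LD2_c13 LD3_c31)) = (LP (LK LD1_c4 LD2_c0 LD3_c8)) :=
  Lgr Lrot30 (Lpr_at (f160643 IH) (Lpe (K6.f142241 IH) (Lpr_at (f142170 IH) (Lpn (LP (LK LD1_c4 LD2_c0 LD3_c8))))))
theorem f160661 : Led Lsl_ft (LP (LK LD1_c6 LD2_c13 LD3_c31)) = (LP (LK LD1_c4 LD2_c0 LD3_c8)) :=
  Lgr Lrot48 (Lpr_ff (f160655 IH) (Lpn (LP (LK LD1_c4 LD2_c0 LD3_c8))))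
theorem f80348 : Led Lsl_bt (LP (LK LD1_c2 LD2_c9 LD3_c21)) = (LP (LK LD1_c4 LD2_c23 LD3_c52)) :=
  Lre_b IH (LK LD1_c2 LD2_c9 LD3_c21) (LK LD1_c4 LD2_c23 LD3_c52) Lrfl Lrfl
theorem f100228 : Led Lsl_gt (LP (LK LD1_c4 LD2_c23 LD3_c52)) = (LP (LK LD1_c4 LD2_c37 LD3_c25)) :=
  Lgr Lrot164 (Lpe (f80348 IH) (Lpe (K2.f80305 IH) (Lpe (K2.f80340 IH) (Lpe (f69337 IH) (Lpe (K2.f70559 IH) (Lpe (K6.f60400 IH) (Lpr_ct (K5.f60264 IH) (Lpr_gf (K6.f99804 IH) (Lpe (K6.f72270 IH) (Lpr_bt (f100226 IH) (Lpn (LP (LK LD1_c4 LD2_c37 LD3_c25)))))))))))))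
theorem f160665 : Led Lsl_gt (LP (LK LD1_c6 LD2_c13 LD3_c31)) = (LP (LK LD1_c4 LD2_c23 LD3_c52)) :=
  Lgr Lrot5 (Lpr_ft (f160661 IH) (Lpe (f142168 IH) (Lpe (f100228 IH) (Lpn (LP (LK LD1_c4 LD2_c23 LD3_c52))))))
theorem f142152 : Led Lsl_bf (LP (LK LD1_c4 LD2_c36 LD3_c38)) = (LP (LK LD1_c4 LD2_c0 LD3_c6)) :=
  Lgr Lrot93 (Lpr_dt (K6.f141298 IH) (Lpr_bt (K6.f142140 IH) (Lpr_dt (K6.f3032 IH) (Lpn (LP (LK LD1_c4 LD2_c0 LD3_c6))))))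
theorem f160647 : Led Lsl_at (LP (LK LD1_c4 LD2_c36 LD3_c38)) = (LP (LK LD1_c2 LD2_c15 LD3_c42)) :=
  Lre_a IH (LK LD1_c4 LD2_c36 LD3_c38) (LK LD1_c2 LD2_c15 LD3_c42) Lrfl Lrfl
theorem f142212 : Led Lsl_at (LP (LK LD1_c4 LD2_c36 LD3_c55)) = (LP (LK LD1_c9 LD2_c9 LD3_c37)) :=
  Lre_a IH (LK LD1_c4 LD2_c36 LD3_c55) (LK LD1_c9 LD2_c9 LD3_c37) Lrfl Lrfl
theorem f160648 : Led Lsl_bf (LP (LK LD1_c6 LD2_c13 LD3_c31)) = (LP (LK LD1_c9 LD2_c9 LD3_c37)) :=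
  Lgr Lrot81 (Lpr_at (f160643 IH) (Lpe (f142152 IH) (Lpr_at (f160647 IH) (Lpr_bt (K6.f99744 IH) (Lpr_at (f142212 IH) (Lpn (LP (LK LD1_c9 LD2_c9 LD3_c37))))))))
theorem f38246 : Led Lsl_gt (LP (LK LD1_c8 LD2_c48 LD3_c15)) = (LP (LK LD1_c16 LD2_c28 LD3_c22)) :=
  Lre_g IH (LK LD1_c8 LD2_c48 LD3_c15) (LK LD1_c16 LD2_c28 LD3_c22) Lrfl Lrfl
theorem f160667 : Led Lsl_ct (LP (LK LD1_c9 LD2_c9 LD3_c37)) = (LP (LK LD1_c16 LD2_c28 LD3_c22)) :=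
  Lgr Lrot63 (Lpe (f160648 IH) (Lpr_gt (f160665 IH) (Lpe (f80348 IH) (Lpe (K2.f80305 IH) (Lpe (K2.f80321 IH) (Lpe (K1.f38002 IH) (Lpr_bt (K4.f38243 IH) (Lpr_gt (K4.f38244 IH) (Lpr_ct (K4.f38245 IH) (Lpr_gt (f38246 IH) (Lpn (LP (LK LD1_c16 LD2_c28 LD3_c22)))))))))))))
theorem f142176 : Led Lsl_et (LP (LK LD1_c4 LD2_c37 LD3_c25)) = (LP (LK LD1_c9 LD2_c10 LD3_c27)) :=
  Lre_e IH (LK LD1_c4 LD2_c37 LD3_c25) (LK LD1_c9 LD2_c10 LD3_c27) Lrfl Lrfl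
theorem f142177 : Led Lsl_et (LP (LK LD1_c8 LD2_c1 LD3_c16)) = (LP (LK LD1_c4 LD2_c0 LD3_c8)) :=
  Lre_e IH (LK LD1_c8 LD2_c1 LD3_c16) (LK LD1_c4 LD2_c0 LD3_c8) Lrfl Lrfl
theorem f142178 : Led Lsl_at (LP (LK LD1_c9 LD2_c10 LD3_c27)) = (LP (LK LD1_c8 LD2_c1 LD3_c16)) :=
  Lgr Lrot80 (Lpe (f142176 IH) (Lpr_af (f142168 IH) (Lpe (f142177 IH) (Lpn (LP (LK LD1_c8 LD2_c1 LD3_c16))))))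
theorem f142182 : Led Lsl_bt (LP (LK LD1_c4 LD2_c37 LD3_c27)) = (LP (LK LD1_c9 LD2_c10 LD3_c27)) :=
  Lre_b IH (LK LD1_c4 LD2_c37 LD3_c27) (LK LD1_c9 LD2_c10 LD3_c27) Lrfl Lrfl
theorem f142183 : Led Lsl_at (LP (LK LD1_c9 LD2_c9 LD3_c50)) = (LP (LK LD1_c4 LD2_c37 LD3_c27)) :=
  Lre_a IH (LK LD1_c9 LD2_c9 LD3_c50) (LK LD1_c4 LD2_c37 LD3_c27) Lrfl Lrfl
theorem f142184 : Led Lsl_bt (LP (LK LD1_c17 LD2_c2 LD3_c39)) = (LP (LK LD1_c9 LD2_c9 LD3_c50)) :=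
  Lre_b IH (LK LD1_c17 LD2_c2 LD3_c39) (LK LD1_c9 LD2_c9 LD3_c50) Lrfl Lrfl
theorem f142185 : Led Lsl_bt (LP (LK LD1_c8 LD2_c1 LD3_c16)) = (LP (LK LD1_c15 LD2_c6 LD3_c9)) :=
  Lre_b IH (LK LD1_c8 LD2_c1 LD3_c16) (LK LD1_c15 LD2_c6 LD3_c9) Lrfl Lrfl
theorem f142186 : Led Lsl_af (LP (LK LD1_c17 LD2_c2 LD3_c39)) = (LP (LK LD1_c15 LD2_c6 LD3_c9)) :=
  Lgr Lrot36 (Lpr_bt (f142184 IH) (Lpr_at (f142183 IH) (Lpr_bt (f142182 IH) (Lpr_at (f142178 IH) (Lpr_bt (f142185 IH) (Lpn (LP (LK LD1_c15 LD2_c6 LD3_c9))))))))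
theorem f142190 : Led Lsl_at (LP (LK LD1_c17 LD2_c2 LD3_c39)) = (LP (LK LD1_c15 LD2_c6 LD3_c9)) :=
  Lgr Lrot100 (Lpr_af (f142186 IH) (Lpn (LP (LK LD1_c15 LD2_c6 LD3_c9))))
theorem f142200 : Led Lsl_et (LP (LK LD1_c9 LD2_c9 LD3_c41)) = (LP (LK LD1_c17 LD2_c2 LD3_c39)) :=
  Lre_e IH (LK LD1_c9 LD2_c9 LD3_c41) (LK LD1_c17 LD2_c2 LD3_c39) Lrfl Lrfl
theorem f142201 : Led Lsl_et (LP (LK LD1_c15 LD2_c6 LD3_c9)) = (LP (LK LD1_c8 LD2_c1 LD3_c15)) :=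
  Lre_e IH (LK LD1_c15 LD2_c6 LD3_c9) (LK LD1_c8 LD2_c1 LD3_c15) Lrfl Lrfl
theorem f142202 : Led Lsl_af (LP (LK LD1_c9 LD2_c9 LD3_c41)) = (LP (LK LD1_c8 LD2_c1 LD3_c15)) :=
  Lgr Lrot50 (Lpr_et (f142200 IH) (Lpr_at (f142190 IH) (Lpr_et (f142201 IH) (Lpn (LP (LK LD1_c8 LD2_c1 LD3_c15))))))
theorem f142211 : Led Lsl_ft (LP (LK LD1_c9 LD2_c9 LD3_c41)) = (LP (LK LD1_c4 LD2_c36 LD3_c55)) :=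
  Lre_f IH (LK LD1_c9 LD2_c9 LD3_c41) (LK LD1_c4 LD2_c36 LD3_c55) Lrfl Lrfl
theorem f142213 : Led Lsl_ft (LP (LK LD1_c9 LD2_c9 LD3_c37)) = (LP (LK LD1_c8 LD2_c1 LD3_c15)) :=
  Lgr Lrot101 (Lpe (f142212 IH) (Lpe (f142211 IH) (Lpr_af (f142202 IH) (Lpn (LP (LK LD1_c8 LD2_c1 LD3_c15))))))
theorem f142222 : Led Lsl_ff (LP (LK LD1_c9 LD2_c9 LD3_c37)) = (LP (LK LD1_c8 LD2_c1 LD3_c15)) :=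
  Lgr Lrot3 (Lpr_ft (f142213 IH) (Lpn (LP (LK LD1_c8 LD2_c1 LD3_c15))))
theorem f142206 : Led Lsl_ct (LP (LK LD1_c15 LD2_c6 LD3_c8)) = (LP (LK LD1_c8 LD2_c1 LD3_c15)) :=
  Lre_c IH (LK LD1_c15 LD2_c6 LD3_c8) (LK LD1_c8 LD2_c1 LD3_c15) Lrfl Lrfl
theorem f160675 : Led Lsl_ff (LP (LK LD1_c15 LD2_c6 LD3_c8)) = (LP (LK LD1_c16 LD2_c28 LD3_c22)) :=
  Lgr Lrot23 (Lpr_ct (f142206 IH) (Lpe (f142222 IH) (Lpr_ct (f160667 IH) (Lpn (LP (LK LD1_c16 LD2_c28 LD3_c22))))))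
theorem f160679 : Led Lsl_ft (LP (LK LD1_c15 LD2_c6 LD3_c8)) = (LP (LK LD1_c16 LD2_c28 LD3_c22)) :=
  Lgr Lrot48 (Lpr_ff (f160675 IH) (Lpn (LP (LK LD1_c16 LD2_c28 LD3_c22))))
theorem f112462 : Led Lsl_ct (LP (LK LD1_c9 LD2_c9 LD3_c39)) = (LP (LK LD1_c4 LD2_c36 LD3_c55)) :=
  Lre_c IH (LK LD1_c9 LD2_c9 LD3_c39) (LK LD1_c4 LD2_c36 LD3_c55) Lrfl Lrfl
theorem f160669 : Led Lsl_af (LP (LK LD1_c9 LD2_c9 LD3_c39)) = (LP (LK LD1_c16 LD2_c28 LD3_c22)) :=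
  Lgr Lrot68 (Lpr_ct (f112462 IH) (Lpr_at (f142212 IH) (Lpr_ct (f160667 IH) (Lpn (LP (LK LD1_c16 LD2_c28 LD3_c22))))))
theorem f119010 : Led Lsl_bt (LP (LK LD1_c4 LD2_c36 LD3_c55)) = (LP (LK LD1_c2 LD2_c15 LD3_c42)) :=
  Lre_b IH (LK LD1_c4 LD2_c36 LD3_c55) (LK LD1_c2 LD2_c15 LD3_c42) Lrfl Lrfl
theorem f112459 : Led Lsl_ct (LP (LK LD1_c4 LD2_c36 LD3_c55)) = (LP (LK LD1_c9 LD2_c9 LD3_c39)) :=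
  Lre_c IH (LK LD1_c4 LD2_c36 LD3_c55) (LK LD1_c9 LD2_c9 LD3_c39) Lrfl Lrfl
theorem f71001 : Led Lsl_bt (LP (LK LD1_c5 LD2_c53 LD3_c49)) = (LP (LK LD1_c2 LD2_c53 LD3_c17)) :=
  Lre_b IH (LK LD1_c5 LD2_c53 LD3_c49) (LK LD1_c2 LD2_c53 LD3_c17) Lrfl Lrfl
theorem f72127 : Led Lsl_bf (LP (LK LD1_c4 LD2_c25 LD3_c20)) = (LP (LK LD1_c4 LD2_c35 LD3_c60)) :=
  Lgr Lrot61 (Lpr_ft (K2.f72109 IH) (Lpr_bt (f71001 IH) (Lpe (K2.f70988 IH) (Lpn (LP (LK LD1_c4 LD2_c35 LD3_c60))))))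
theorem f72137 : Led Lsl_ct (LP (LK LD1_c7 LD2_c56 LD3_c60)) = (LP (LK LD1_c14 LD2_c59 LD3_c44)) :=
  Lre_c IH (LK LD1_c7 LD2_c56 LD3_c60) (LK LD1_c14 LD2_c59 LD3_c44) Lrfl Lrfl
theorem f138141 : Led Lsl_gf (LP (LK LD1_c9 LD2_c9 LD3_c39)) = (LP (LK LD1_c14 LD2_c59 LD3_c44)) :=
  Lgr Lrot129 (Lpe (f112459 IH) (Lpr_bt (f119010 IH) (Lpr_gt (K6.f99780 IH) (Lpe (f138098 IH) (Lpr_ct (f138121 IH) (Lpe (f70902 IH) (Lpe (K2.f70870 IH) (Lpe (f72127 IH) (Lpr_gt (K5.f72135 IH) (Lpr_ct (f72137 IH) (Lpn (LP (LK LD1_c14 LD2_c59 LD3_c44)))))))))))))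
theorem f160681 : Led Lsl_gt (LP (LK LD1_c15 LD2_c6 LD3_c8)) = (LP (LK LD1_c14 LD2_c59 LD3_c44)) :=
  Lgr Lrot5 (Lpr_ft (f160679 IH) (Lpe (f160669 IH) (Lpr_gf (f138141 IH) (Lpn (LP (LK LD1_c14 LD2_c59 LD3_c44))))))
theorem f147571 : Led Lsl_et (LP (LK LD1_c6 LD2_c30 LD3_c54)) = (LP (LK LD1_c3 LD2_c13 LD3_c36)) :=
  Lre_e IH (LK LD1_c6 LD2_c30 LD3_c54) (LK LD1_c3 LD2_c13 LD3_c36) Lrfl Lrfl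
theorem f139787 : Led Lsl_et (LP (LK LD1_c4 LD2_c37 LD3_c26)) = (LP (LK LD1_c9 LD2_c10 LD3_c28)) :=
  Lre_e IH (LK LD1_c4 LD2_c37 LD3_c26) (LK LD1_c9 LD2_c10 LD3_c28) Lrfl Lrfl
theorem f159591 : Led Lsl_bf (LP (LK LD1_c6 LD2_c30 LD3_c54)) = (LP (LK LD1_c9 LD2_c10 LD3_c28)) :=
  Lgr Lrot96 (Lpr_et (f147571 IH) (Lpr_bt (f159587 IH) (Lpr_et (f139787 IH) (Lpn (LP (LK LD1_c9 LD2_c10 LD3_c28))))))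
theorem f147576 : Led Lsl_et (LP (LK LD1_c3 LD2_c13 LD3_c36)) = (LP (LK LD1_c6 LD2_c30 LD3_c54)) :=
  Lre_e IH (LK LD1_c3 LD2_c13 LD3_c36) (LK LD1_c6 LD2_c30 LD3_c54) Lrfl Lrfl
theorem f147577 : Led Lsl_et (LP (LK LD1_c3 LD2_c41 LD3_c28)) = (LP (LK LD1_c1 LD2_c47 LD3_c39)) :=
  Lre_e IH (LK LD1_c3 LD2_c41 LD3_c28) (LK LD1_c1 LD2_c47 LD3_c39) Lrfl Lrfl
theorem f147578 : Led Lsl_ct (LP (LK LD1_c6 LD2_c30 LD3_c54)) = (LP (LK LD1_c3 LD2_c41 LD3_c28)) :=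
  Lgr Lrot15 (Lpe (f147576 IH) (Lpr_cf (K7.f147568 IH) (Lpe (f147577 IH) (Lpn (LP (LK LD1_c3 LD2_c41 LD3_c28))))))
theorem f159605 : Led Lsl_bt (LP (LK LD1_c3 LD2_c41 LD3_c28)) = (LP (LK LD1_c7 LD2_c23 LD3_c25)) :=
  Lre_b IH (LK LD1_c3 LD2_c41 LD3_c28) (LK LD1_c7 LD2_c23 LD3_c25) Lrfl Lrfl
theorem f159606 : Led Lsl_ct (LP (LK LD1_c4 LD2_c37 LD3_c27)) = (LP (LK LD1_c9 LD2_c10 LD3_c28)) :=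
  Lre_c IH (LK LD1_c4 LD2_c37 LD3_c27) (LK LD1_c9 LD2_c10 LD3_c28) Lrfl Lrfl
theorem f142197 : Led Lsl_bt (LP (LK LD1_c9 LD2_c10 LD3_c27)) = (LP (LK LD1_c4 LD2_c37 LD3_c27)) :=
  Lre_b IH (LK LD1_c9 LD2_c10 LD3_c27) (LK LD1_c4 LD2_c37 LD3_c27) Lrfl Lrfl
theorem f159607 : Led Lsl_ct (LP (LK LD1_c7 LD2_c23 LD3_c25)) = (LP (LK LD1_c9 LD2_c10 LD3_c27)) :=
  Lgr Lrot83 (Lpe (f159605 IH) (Lpe (f147578 IH) (Lpr_bf (f159591 IH) (Lpe (f159606 IH) (Lpe (f142197 IH) (Lpn (LP (LK LD1_c9 LD2_c10 LD3_c27))))))))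
theorem f159616 : Led Lsl_cf (LP (LK LD1_c7 LD2_c23 LD3_c25)) = (LP (LK LD1_c9 LD2_c10 LD3_c27)) :=
  Lgr Lrot11 (Lpr_ct (f159607 IH) (Lpn (LP (LK LD1_c9 LD2_c10 LD3_c27))))
theorem f159634 : Led Lsl_et (LP (LK LD1_c7 LD2_c23 LD3_c25)) = (LP (LK LD1_c3 LD2_c41 LD3_c27)) :=
  Lre_e IH (LK LD1_c7 LD2_c23 LD3_c25) (LK LD1_c3 LD2_c41 LD3_c27) Lrfl Lrfl
theorem f159635 : Led Lsl_ct (LP (LK LD1_c3 LD2_c41 LD3_c27)) = (LP (LK LD1_c4 LD2_c37 LD3_c25)) :=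
  Lgr Lrot15 (Lpe (f159634 IH) (Lpr_cf (f159616 IH) (Lpe (f142176 IH) (Lpn (LP (LK LD1_c4 LD2_c37 LD3_c25))))))
theorem f142157 : Led Lsl_ft (LP (LK LD1_c4 LD2_c37 LD3_c25)) = (LP (LK LD1_c4 LD2_c0 LD3_c6)) :=
  Lgr Lrot54 (Lpe (f100232 IH) (Lpr_ff (K6.f142155 IH) (Lpe (f80877 IH) (Lpn (LP (LK LD1_c4 LD2_c0 LD3_c6))))))
theorem f159642 : Led Lsl_ff (LP (LK LD1_c3 LD2_c41 LD3_c27)) = (LP (LK LD1_c3 LD2_c44 LD3_c8)) :=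
  Lgr Lrot23 (Lpr_ct (f159635 IH) (Lpr_ft (f142157 IH) (Lpr_ct (K6.f37085 IH) (Lpn (LP (LK LD1_c3 LD2_c44 LD3_c8))))))
theorem f159771 : Led Lsl_ft (LP (LK LD1_c3 LD2_c41 LD3_c27)) = (LP (LK LD1_c3 LD2_c44 LD3_c8)) :=
  Lgr Lrot48 (Lpr_ff (f159642 IH) (Lpn (LP (LK LD1_c3 LD2_c44 LD3_c8))))
theorem f142702 : Led Lsl_bt (LP (LK LD1_c0 LD2_c53 LD3_c26)) = (LP (LK LD1_c1 LD2_c53 LD3_c42)) :=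
  Lre_b IH (LK LD1_c0 LD2_c53 LD3_c26) (LK LD1_c1 LD2_c53 LD3_c42) Lrfl Lrfl
theorem f159536 : Led Lsl_df (LP (LK LD1_c3 LD2_c41 LD3_c27)) = (LP (LK LD1_c1 LD2_c53 LD3_c42)) :=
  Lgr Lrot12 (Lpr_bt (f4460 IH) (Lpr_dt (f159529 IH) (Lpr_bt (f142702 IH) (Lpn (LP (LK LD1_c1 LD2_c53 LD3_c42))))))
theorem f11765 : Led Lsl_bt (LP (LK LD1_c1 LD2_c54 LD3_c7)) = (LP (LK LD1_c0 LD2_c53 LD3_c39)) :=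
  Lre_b IH (LK LD1_c1 LD2_c54 LD3_c7) (LK LD1_c0 LD2_c53 LD3_c39) Lrfl Lrfl
theorem f142274 : Led Lsl_bt (LP (LK LD1_c1 LD2_c49 LD3_c7)) = (LP (LK LD1_c3 LD2_c44 LD3_c8)) :=
  Lre_b IH (LK LD1_c1 LD2_c49 LD3_c7) (LK LD1_c3 LD2_c44 LD3_c8) Lrfl Lrfl
theorem f142277 : Led Lsl_df (LP (LK LD1_c1 LD2_c54 LD3_c7)) = (LP (LK LD1_c3 LD2_c44 LD3_c8)) :=
  Lgr Lrot12 (Lpr_bt (f11765 IH) (Lpr_dt (K6.f142269 IH) (Lpr_bt (f142274 IH) (Lpn (LP (LK LD1_c3 LD2_c44 LD3_c8))))))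
theorem f159778 : Led Lsl_ff (LP (LK LD1_c1 LD2_c53 LD3_c42)) = (LP (LK LD1_c1 LD2_c54 LD3_c7)) :=
  Lgr Lrot19 (Lpe (f159536 IH) (Lpr_ft (f159771 IH) (Lpe (f142277 IH) (Lpn (LP (LK LD1_c1 LD2_c54 LD3_c7))))))
theorem f159784 : Led Lsl_ft (LP (LK LD1_c1 LD2_c53 LD3_c42)) = (LP (LK LD1_c1 LD2_c54 LD3_c7)) :=
  Lgr Lrot48 (Lpr_ff (f159778 IH) (Lpn (LP (LK LD1_c1 LD2_c54 LD3_c7))))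
theorem f11540 : Led Lsl_bt (LP (LK LD1_c1 LD2_c43 LD3_c17)) = (LP (LK LD1_c0 LD2_c48 LD3_c18)) :=
  Lre_b IH (LK LD1_c1 LD2_c43 LD3_c17) (LK LD1_c0 LD2_c48 LD3_c18) Lrfl Lrfl
theorem f11646 : Led Lsl_ct (LP (LK LD1_c1 LD2_c54 LD3_c7)) = (LP (LK LD1_c1 LD2_c43 LD3_c17)) :=
  Lgr Lrot83 (Lpe (f11645 IH) (Lpr_cf (K2.f11524 IH) (Lpe (K3.f11544 IH) (Lpe (K3.f6683 IH) (Lpe (f11540 IH) (Lpn (LP (LK LD1_c1 LD2_c43 LD3_c17))))))))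
theorem f88495 : Led Lsl_bt (LP (LK LD1_c1 LD2_c45 LD3_c9)) = (LP (LK LD1_c0 LD2_c49 LD3_c16)) :=
  Lre_b IH (LK LD1_c1 LD2_c45 LD3_c9) (LK LD1_c0 LD2_c49 LD3_c16) Lrfl Lrfl
theorem f6684 : Led Lsl_bt (LP (LK LD1_c0 LD2_c48 LD3_c18)) = (LP (LK LD1_c1 LD2_c43 LD3_c17)) :=
  Lre_b IH (LK LD1_c0 LD2_c48 LD3_c18) (LK LD1_c1 LD2_c43 LD3_c17) Lrfl Lrfl
theorem f128199 : Led Lsl_ff (LP (LK LD1_c1 LD2_c45 LD3_c9)) = (LP (LK LD1_c1 LD2_c43 LD3_c17)) :=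
  Lgr Lrot25 (Lpr_bt (f88495 IH) (Lpr_ft (K5.f128195 IH) (Lpr_bt (f6684 IH) (Lpn (LP (LK LD1_c1 LD2_c43 LD3_c17))))))
theorem f159796 : Led Lsl_cf (LP (LK LD1_c1 LD2_c53 LD3_c42)) = (LP (LK LD1_c1 LD2_c45 LD3_c9)) :=
  Lgr Lrot108 (Lpr_ft (f159784 IH) (Lpr_ct (f11646 IH) (Lpe (f128199 IH) (Lpn (LP (LK LD1_c1 LD2_c45 LD3_c9))))))
theorem f10239 : Led Lsl_gt (LP (LK LD1_c3 LD2_c36 LD3_c36)) = (LP (LK LD1_c1 LD2_c45 LD3_c9)) :=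
  Lre_g IH (LK LD1_c3 LD2_c36 LD3_c36) (LK LD1_c1 LD2_c45 LD3_c9) Lrfl Lrfl
theorem f142322 : Led Lsl_bt (LP (LK LD1_c1 LD2_c48 LD3_c7)) = (LP (LK LD1_c3 LD2_c42 LD3_c16)) :=
  Lre_b IH (LK LD1_c1 LD2_c48 LD3_c7) (LK LD1_c3 LD2_c42 LD3_c16) Lrfl Lrfl
theorem f108102 : Led Lsl_gt (LP (LK LD1_c3 LD2_c42 LD3_c16)) = (LP (LK LD1_c7 LD2_c25 LD3_c12)) :=
  Lre_g IH (LK LD1_c3 LD2_c42 LD3_c16) (LK LD1_c7 LD2_c25 LD3_c12) Lrfl Lrfl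
theorem f159645 : Led Lsl_ct (LP (LK LD1_c7 LD2_c25 LD3_c12)) = (LP (LK LD1_c4 LD2_c23 LD3_c52)) :=
  Lgr Lrot91 (Lpe (f108102 IH) (Lpe (f142322 IH) (Lpr_ct (K6.f124652 IH) (Lpr_gf (K6.f142287 IH) (Lpe (K6.f12916 IH) (Lpr_bt (K6.f12914 IH) (Lpe (K7.f4459 IH) (Lpe (f4460 IH) (Lpr_ct (f159635 IH) (Lpe (f100228 IH) (Lpn (LP (LK LD1_c4 LD2_c23 LD3_c52)))))))))))))
theorem f108090 : Led Lsl_dt (LP (LK LD1_c3 LD2_c42 LD3_c16)) = (LP (LK LD1_c1 LD2_c48 LD3_c6)) :=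
  Lre_d IH (LK LD1_c3 LD2_c42 LD3_c16) (LK LD1_c1 LD2_c48 LD3_c6) Lrfl Lrfl
theorem f108089 : Led Lsl_gt (LP (LK LD1_c1 LD2_c48 LD3_c6)) = (LP (LK LD1_c3 LD2_c42 LD3_c13)) :=
  Lre_g IH (LK LD1_c1 LD2_c48 LD3_c6) (LK LD1_c3 LD2_c42 LD3_c13) Lrfl Lrfl
theorem f159807 : Led Lsl_ct (LP (LK LD1_c3 LD2_c42 LD3_c13)) = (LP (LK LD1_c3 LD2_c36 LD3_c36)) :=
  Lgr Lrot152 (Lpe (f108089 IH) (Lpe (f108090 IH) (Lpr_gt (f108102 IH) (Lpr_ct (f159645 IH) (Lpr_gt (f100228 IH) (Lpe (f159589 IH) (Lpr_df (f159536 IH) (Lpr_cf (f159796 IH) (Lpe (f10239 IH) (Lpn (LP (LK LD1_c3 LD2_c36 LD3_c36))))))))))))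
theorem f108087 : Led Lsl_dt (LP (LK LD1_c1 LD2_c48 LD3_c6)) = (LP (LK LD1_c3 LD2_c42 LD3_c16)) :=
  Lre_d IH (LK LD1_c1 LD2_c48 LD3_c6) (LK LD1_c3 LD2_c42 LD3_c16) Lrfl Lrfl
theorem f159809 : Led Lsl_df (LP (LK LD1_c1 LD2_c53 LD3_c42)) = (LP (LK LD1_c3 LD2_c41 LD3_c27)) :=
  Lgr Lrot162 (Lpr_cf (f159796 IH) (Lpe (f10239 IH) (Lpe (f159807 IH) (Lpe (f108089 IH) (Lpr_dt (f108087 IH) (Lpr_gt (f108102 IH) (Lpr_ct (f159645 IH) (Lpr_gt (f100228 IH) (Lpe (f159589 IH) (Lpn (LP (LK LD1_c3 LD2_c41 LD3_c27))))))))))))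
theorem f159816 : Led Lsl_dt (LP (LK LD1_c1 LD2_c54 LD3_c7)) = (LP (LK LD1_c3 LD2_c44 LD3_c8)) :=
  Lgr Lrot60 (Lpe (f159784 IH) (Lpr_df (f159809 IH) (Lpr_ff (f159642 IH) (Lpn (LP (LK LD1_c3 LD2_c44 LD3_c8))))))
theorem f11767 : Led Lsl_at (LP (LK LD1_c3 LD2_c55 LD3_c3)) = (LP (LK LD1_c1 LD2_c54 LD3_c7)) :=
  Lre_a IH (LK LD1_c3 LD2_c55 LD3_c3) (LK LD1_c1 LD2_c54 LD3_c7) Lrfl Lrfl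
theorem f159773 : Led Lsl_at (LP (LK LD1_c3 LD2_c44 LD3_c8)) = (LP (LK LD1_c7 LD2_c29 LD3_c9)) :=
  Lre_a IH (LK LD1_c3 LD2_c44 LD3_c8) (LK LD1_c7 LD2_c29 LD3_c9) Lrfl Lrfl
theorem f159819 : Led Lsl_df (LP (LK LD1_c3 LD2_c55 LD3_c3)) = (LP (LK LD1_c7 LD2_c29 LD3_c9)) :=
  Lgr Lrot18 (Lpr_at (f11767 IH) (Lpr_dt (f159816 IH) (Lpr_at (f159773 IH) (Lpn (LP (LK LD1_c7 LD2_c29 LD3_c9))))))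
theorem f159854 : Led Lsl_dt (LP (LK LD1_c3 LD2_c55 LD3_c3)) = (LP (LK LD1_c7 LD2_c29 LD3_c9)) :=
  Lgr Lrot42 (Lpr_df (f159819 IH) (Lpn (LP (LK LD1_c7 LD2_c29 LD3_c9))))
theorem f147593 : Led Lsl_at (LP (LK LD1_c1 LD2_c53 LD3_c42)) = (LP (LK LD1_c3 LD2_c54 LD3_c10)) :=
  Lre_a IH (LK LD1_c1 LD2_c53 LD3_c42) (LK LD1_c3 LD2_c54 LD3_c10) Lrfl Lrfl
theorem f159781 : Led Lsl_ft (LP (LK LD1_c3 LD2_c54 LD3_c10)) = (LP (LK LD1_c3 LD2_c55 LD3_c3)) :=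
  Lgr Lrot101 (Lpe (f147593 IH) (Lpr_ff (f159778 IH) (Lpe (f11767 IH) (Lpn (LP (LK LD1_c3 LD2_c55 LD3_c3))))))
theorem f159639 : Led Lsl_at (LP (LK LD1_c7 LD2_c23 LD3_c24)) = (LP (LK LD1_c3 LD2_c41 LD3_c27)) :=
  Lre_a IH (LK LD1_c7 LD2_c23 LD3_c24) (LK LD1_c3 LD2_c41 LD3_c27) Lrfl Lrfl
theorem f159774 : Led Lsl_ff (LP (LK LD1_c7 LD2_c23 LD3_c24)) = (LP (LK LD1_c7 LD2_c29 LD3_c9)) :=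
  Lgr Lrot30 (Lpr_at (f159639 IH) (Lpr_ft (f159771 IH) (Lpr_at (f159773 IH) (Lpn (LP (LK LD1_c7 LD2_c29 LD3_c9))))))
theorem f159860 : Led Lsl_df (LP (LK LD1_c3 LD2_c54 LD3_c10)) = (LP (LK LD1_c7 LD2_c23 LD3_c24)) :=
  Lgr Lrot78 (Lpr_ft (f159781 IH) (Lpr_dt (f159854 IH) (Lpe (f159774 IH) (Lpn (LP (LK LD1_c7 LD2_c23 LD3_c24))))))
theorem f147594 : Led Lsl_bf (LP (LK LD1_c3 LD2_c54 LD3_c60)) = (LP (LK LD1_c3 LD2_c54 LD3_c10)) :=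
  Lgr Lrot81 (Lpr_at (K5.f121147 IH) (Lpr_bt (K5.f121009 IH) (Lpr_at (K7.f147591 IH) (Lpr_bt (f142702 IH) (Lpr_at (f147593 IH) (Lpn (LP (LK LD1_c3 LD2_c54 LD3_c10))))))))
theorem f159862 : Led Lsl_bt (LP (LK LD1_c7 LD2_c29 LD3_c2)) = (LP (LK LD1_c7 LD2_c23 LD3_c24)) :=
  Lgr Lrot95 (Lpr_df (K6.f121125 IH) (Lpr_bf (f147594 IH) (Lpr_df (f159860 IH) (Lpn (LP (LK LD1_c7 LD2_c23 LD3_c24))))))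
theorem f159869 : Led Lsl_bf (LP (LK LD1_c7 LD2_c29 LD3_c2)) = (LP (LK LD1_c7 LD2_c23 LD3_c24)) :=
  Lgr Lrot24 (Lpr_bt (f159862 IH) (Lpn (LP (LK LD1_c7 LD2_c23 LD3_c24))))
theorem f159640 : Led Lsl_cf (LP (LK LD1_c7 LD2_c23 LD3_c24)) = (LP (LK LD1_c4 LD2_c0 LD3_c8)) :=
  Lgr Lrot1 (Lpr_at (f159639 IH) (Lpr_ct (f159635 IH) (Lpr_at (f142170 IH) (Lpn (LP (LK LD1_c4 LD2_c0 LD3_c8))))))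
theorem f142173 : Led Lsl_bt (LP (LK LD1_c8 LD2_c1 LD3_c15)) = (LP (LK LD1_c4 LD2_c0 LD3_c8)) :=
  Lre_b IH (LK LD1_c8 LD2_c1 LD3_c15) (LK LD1_c4 LD2_c0 LD3_c8) Lrfl Lrfl
theorem f160561 : Led Lsl_bt (LP (LK LD1_c14 LD2_c7 LD3_c39)) = (LP (LK LD1_c15 LD2_c6 LD3_c8)) :=
  Lgr Lrot128 (Lpe (K7.f121136 IH) (Lpr_bf (f159869 IH) (Lpr_cf (f159640 IH) (Lpe (f142173 IH) (Lpe (f142206 IH) (Lpn (LP (LK LD1_c15 LD2_c6 LD3_c8))))))))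
theorem f72138 : Led Lsl_ct (LP (LK LD1_c14 LD2_c59 LD3_c44)) = (LP (LK LD1_c7 LD2_c56 LD3_c60)) :=
  Lre_c IH (LK LD1_c14 LD2_c59 LD3_c44) (LK LD1_c7 LD2_c56 LD3_c60) Lrfl Lrfl
theorem f112650 : Led Lsl_gt (LP (LK LD1_c2 LD2_c54 LD3_c28)) = (LP (LK LD1_c5 LD2_c56 LD3_c12)) :=
  Lre_g IH (LK LD1_c2 LD2_c54 LD3_c28) (LK LD1_c5 LD2_c56 LD3_c12) Lrfl Lrfl
theorem f119679 : Led Lsl_bt (LP (LK LD1_c11 LD2_c37 LD3_c40)) = (LP (LK LD1_c5 LD2_c56 LD3_c12)) :=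
  Lre_b IH (LK LD1_c11 LD2_c37 LD3_c40) (LK LD1_c5 LD2_c56 LD3_c12) Lrfl Lrfl
theorem f160683 : Led Lsl_cf (LP (LK LD1_c7 LD2_c22 LD3_c40)) = (LP (LK LD1_c11 LD2_c37 LD3_c40)) :=
  Lgr Lrot160 (Lpe (K7.f130265 IH) (Lpe (K6.f121144 IH) (Lpr_bt (f160561 IH) (Lpr_gt (f160681 IH) (Lpr_ct (f72138 IH) (Lpr_gt (K5.f37079 IH) (Lpr_cf (K4.f81778 IH) (Lpr_bt (K4.f112609 IH) (Lpr_gt (f112650 IH) (Lpe (f119679 IH) (Lpn (LP (LK LD1_c11 LD2_c37 LD3_c40)))))))))))))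
theorem f160685 : Led Lsl_ct (LP (LK LD1_c7 LD2_c22 LD3_c40)) = (LP (LK LD1_c11 LD2_c37 LD3_c40)) :=
  Lgr Lrot59 (Lpr_cf (f160683 IH) (Lpn (LP (LK LD1_c11 LD2_c37 LD3_c40))))
theorem f91419 : Led Lsl_dt (LP (LK LD1_c3 LD2_c7 LD3_c40)) = (LP (LK LD1_c1 LD2_c30 LD3_c3)) :=
  Lre_d IH (LK LD1_c3 LD2_c7 LD3_c40) (LK LD1_c1 LD2_c30 LD3_c3) Lrfl Lrfl
theorem f69244 : Led Lsl_dt (LP (LK LD1_c1 LD2_c30 LD3_c3)) = (LP (LK LD1_c3 LD2_c7 LD3_c40)) :=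
  Lre_d IH (LK LD1_c1 LD2_c30 LD3_c3) (LK LD1_c3 LD2_c7 LD3_c40) Lrfl Lrfl
theorem f107539 : Led Lsl_gf (LP (LK LD1_c4 LD2_c43 LD3_c45)) = (LP (LK LD1_c3 LD2_c7 LD3_c40)) :=
  Lgr Lrot143 (Lpe (K2.f82299 IH) (Lpe (K2.f23580 IH) (Lpe (K2.f23579 IH) (Lpr_gf (K4.f107537 IH) (Lpr_df (K4.f104220 IH) (Lpe (K1.f25018 IH) (Lpe (K5.f61864 IH) (Lpr_gt (K3.f61831 IH) (Lpr_dt (f69244 IH) (Lpn (LP (LK LD1_c3 LD2_c7 LD3_c40))))))))))))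
theorem f23439 : Led Lsl_dt (LP (LK LD1_c1 LD2_c7 LD3_c8)) = (LP (LK LD1_c2 LD2_c19 LD3_c51)) :=
  Lre_d IH (LK LD1_c1 LD2_c7 LD3_c8) (LK LD1_c2 LD2_c19 LD3_c51) Lrfl Lrfl
theorem f82301 : Led Lsl_at (LP (LK LD1_c2 LD2_c19 LD3_c51)) = (LP (LK LD1_c4 LD2_c43 LD3_c45)) :=
  Lgr Lrot51 (Lpe (f23439 IH) (Lpe (K4.f23442 IH) (Lpr_df (K2.f82299 IH) (Lpn (LP (LK LD1_c4 LD2_c43 LD3_c45))))))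
theorem f23584 : Led Lsl_dt (LP (LK LD1_c2 LD2_c19 LD3_c51)) = (LP (LK LD1_c1 LD2_c7 LD3_c8)) :=
  Lre_d IH (LK LD1_c2 LD2_c19 LD3_c51) (LK LD1_c1 LD2_c7 LD3_c8) Lrfl Lrfl
theorem f26146 : Led Lsl_dt (LP (LK LD1_c0 LD2_c42 LD3_c56)) = (LP (LK LD1_c1 LD2_c32 LD3_c42)) :=
  Lre_d IH (LK LD1_c0 LD2_c42 LD3_c56) (LK LD1_c1 LD2_c32 LD3_c42) Lrfl Lrfl
theorem f82349 : Led Lsl_ff (LP (LK LD1_c2 LD2_c19 LD3_c51)) = (LP (LK LD1_c1 LD2_c32 LD3_c42)) :=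
  Lgr Lrot19 (Lpr_dt (f23584 IH) (Lpr_ft (K4.f82342 IH) (Lpr_dt (f26146 IH) (Lpn (LP (LK LD1_c1 LD2_c32 LD3_c42))))))
theorem f107541 : Led Lsl_gt (LP (LK LD1_c1 LD2_c32 LD3_c42)) = (LP (LK LD1_c3 LD2_c7 LD3_c40)) :=
  Lgr Lrot5 (Lpe (f82349 IH) (Lpr_at (f82301 IH) (Lpr_gf (f107539 IH) (Lpn (LP (LK LD1_c3 LD2_c7 LD3_c40))))))
theorem f83042 : Led Lsl_bt (LP (LK LD1_c2 LD2_c19 LD3_c51)) = (LP (LK LD1_c4 LD2_c35 LD3_c27)) :=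
  Lgr Lrot95 (Lpe (f23439 IH) (Lpr_bf (f83023 IH) (Lpe (K2.f35223 IH) (Lpn (LP (LK LD1_c4 LD2_c35 LD3_c27))))))
theorem f83049 : Led Lsl_bf (LP (LK LD1_c1 LD2_c32 LD3_c42)) = (LP (LK LD1_c2 LD2_c54 LD3_c41)) :=
  Lgr Lrot61 (Lpe (f82349 IH) (Lpr_bt (f83042 IH) (Lpe (f83025 IH) (Lpn (LP (LK LD1_c2 LD2_c54 LD3_c41))))))
theorem f160687 : Led Lsl_gf (LP (LK LD1_c8 LD2_c46 LD3_c42)) = (LP (LK LD1_c5 LD2_c56 LD3_c12)) :=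
  Lgr Lrot85 (Lpe (K2.f71860 IH) (Lpr_ct (K2.f71859 IH) (Lpe (f83049 IH) (Lpr_gt (f107541 IH) (Lpr_dt (f91419 IH) (Lpe (K3.f91414 IH) (Lpr_bt (K3.f26132 IH) (Lpr_gt (K2.f91303 IH) (Lpr_dt (K2.f19343 IH) (Lpr_ct (K2.f19345 IH) (Lpr_bt (K4.f90112 IH) (Lpr_gt (K5.f109355 IH) (Lpr_dt (K3.f108776 IH) (Lpe (K3.f108777 IH) (Lpr_bt (K4.f116451 IH) (Lpr_gt (K7.f116504 IH) (Lpr_dt (K7.f116505 IH) (Lpr_ct (f160685 IH) (Lpr_bt (f119679 IH) (Lpn (LP (LK LD1_c5 LD2_c56 LD3_c12))))))))))))))))))))))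
theorem f26870 : Led Lsl_gt (LP (LK LD1_c0 LD2_c30 LD3_c4)) = (LP (LK LD1_c1 LD2_c5 LD3_c47)) :=
  Lre_g IH (LK LD1_c0 LD2_c30 LD3_c4) (LK LD1_c1 LD2_c5 LD3_c47) Lrfl Lrfl
theorem f26871 : Led Lsl_ct (LP (LK LD1_c1 LD2_c5 LD3_c47)) = (LP (LK LD1_c2 LD2_c17 LD3_c43)) :=
  Lre_c IH (LK LD1_c1 LD2_c5 LD3_c47) (LK LD1_c2 LD2_c17 LD3_c43) Lrfl Lrfl
theorem f36567 : Led Lsl_dt (LP (LK LD1_c2 LD2_c17 LD3_c43)) = (LP (LK LD1_c4 LD2_c41 LD3_c20)) :=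
  Lre_d IH (LK LD1_c2 LD2_c17 LD3_c43) (LK LD1_c4 LD2_c41 LD3_c20) Lrfl Lrfl
theorem f119670 : Led Lsl_ct (LP (LK LD1_c5 LD2_c56 LD3_c12)) = (LP (LK LD1_c4 LD2_c41 LD3_c20)) :=
  Lgr Lrot151 (Lpe (f112650 IH) (Lpe (K2.f71864 IH) (Lpe (K4.f81783 IH) (Lpr_dt (K4.f119650 IH) (Lpr_gt (K4.f36532 IH) (Lpe (f36520 IH) (Lpr_gt (f26870 IH) (Lpr_ct (f26871 IH) (Lpr_dt (f36567 IH) (Lpn (LP (LK LD1_c4 LD2_c41 LD3_c20))))))))))))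
theorem f119680 : Led Lsl_cf (LP (LK LD1_c5 LD2_c56 LD3_c12)) = (LP (LK LD1_c4 LD2_c41 LD3_c20)) :=
  Lgr Lrot11 (Lpr_ct (f119670 IH) (Lpn (LP (LK LD1_c4 LD2_c41 LD3_c20))))
theorem f161081 : Led Lsl_gt (LP (LK LD1_c4 LD2_c25 LD3_c59)) = (LP (LK LD1_c4 LD2_c41 LD3_c20)) :=
  Lgr Lrot9 (Lpe (f112469 IH) (Lpr_gt (f161074 IH) (Lpr_ct (f138263 IH) (Lpe (f161070 IH) (Lpr_ct (K2.f35244 IH) (Lpe (K2.f35248 IH) (Lpe (K7.f35249 IH) (Lpr_gf (f160687 IH) (Lpr_cf (f119680 IH) (Lpn (LP (LK LD1_c4 LD2_c41 LD3_c20))))))))))))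
theorem f36568 : Led Lsl_dt (LP (LK LD1_c4 LD2_c41 LD3_c20)) = (LP (LK LD1_c2 LD2_c17 LD3_c43)) :=
  Lre_d IH (LK LD1_c4 LD2_c41 LD3_c20) (LK LD1_c2 LD2_c17 LD3_c43) Lrfl Lrfl
theorem f23910 : Led Lsl_dt (LP (LK LD1_c4 LD2_c39 LD3_c60)) = (LP (LK LD1_c2 LD2_c17 LD3_c2)) :=
  Lre_d IH (LK LD1_c4 LD2_c39 LD3_c60) (LK LD1_c2 LD2_c17 LD3_c2) Lrfl Lrfl
theorem f141833 : Led Lsl_df (LP (LK LD1_c1 LD2_c23 LD3_c14)) = (LP (LK LD1_c1 LD2_c5 LD3_c47)) :=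
  Lgr Lrot183 (Lpr_ct (K7.f59560 IH) (Lpe (K7.f141829 IH) (Lpr_gt (f141831 IH) (Lpr_dt (f23910 IH) (Lpr_ct (f23909 IH) (Lpr_bt (f22468 IH) (Lpe (K0.f23895 IH) (Lpr_dt (K0.f23903 IH) (Lpe (K1.f37923 IH) (Lpr_bt (K1.f37431 IH) (Lpr_gt (K1.f37903 IH) (Lpr_dt (K1.f36297 IH) (Lpe (K1.f28505 IH) (Lpr_bt (K1.f36281 IH) (Lpe (K1.f34730 IH) (Lpr_dt (K0.f25917 IH) (Lpr_ct (K0.f25997 IH) (Lpr_bt (K4.f26861 IH) (Lpr_gt (f26870 IH) (Lpn (LP (LK LD1_c1 LD2_c5 LD3_c47))))))))))))))))))))))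
theorem f141852 : Led Lsl_dt (LP (LK LD1_c1 LD2_c23 LD3_c14)) = (LP (LK LD1_c1 LD2_c5 LD3_c47)) :=
  Lgr Lrot42 (Lpr_df (f141833 IH) (Lpn (LP (LK LD1_c1 LD2_c5 LD3_c47))))
theorem f161095 : Led Lsl_gf (LP (LK LD1_c2 LD2_c10 LD3_c17)) = (LP (LK LD1_c1 LD2_c23 LD3_c4)) :=
  Lgr Lrot144 (Lpr_dt (f112469 IH) (Lpr_gt (f161081 IH) (Lpr_dt (f36568 IH) (Lpe (f26871 IH) (Lpe (f141852 IH) (Lpe (K7.f59559 IH) (Lpe (K6.f24072 IH) (Lpe (K6.f69439 IH) (Lpe (K6.f69440 IH) (Lpn (LP (LK LD1_c1 LD2_c23 LD3_c4))))))))))))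
theorem f158243 : Led Lsl_bt (LP (LK LD1_c3 LD2_c59 LD3_c28)) = (LP (LK LD1_c8 LD2_c0 LD3_c5)) :=
  Lre_b IH (LK LD1_c3 LD2_c59 LD3_c28) (LK LD1_c8 LD2_c0 LD3_c5) Lrfl Lrfl
theorem f158244 : Led Lsl_ff (LP (LK LD1_c3 LD2_c59 LD3_c28)) = (LP (LK LD1_c2 LD2_c54 LD3_c5)) :=
  Lgr Lrot25 (Lpr_bt (f158243 IH) (Lpr_ft (f158238 IH) (Lpr_bt (K6.f69421 IH) (Lpn (LP (LK LD1_c2 LD2_c54 LD3_c5))))))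
theorem f161098 : Led Lsl_af (LP (LK LD1_c2 LD2_c10 LD3_c17)) = (LP (LK LD1_c3 LD2_c59 LD3_c28)) :=
  Lgr Lrot31 (Lpr_gf (f161095 IH) (Lpr_gf (f69441 IH) (Lpe (f158244 IH) (Lpn (LP (LK LD1_c3 LD2_c59 LD3_c28))))))
theorem f158401 : Led Lsl_at (LP (LK LD1_c3 LD2_c59 LD3_c27)) = (LP (LK LD1_c1 LD2_c56 LD3_c26)) :=
  Lre_a IH (LK LD1_c3 LD2_c59 LD3_c27) (LK LD1_c1 LD2_c56 LD3_c26) Lrfl Lrfl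
theorem f160900 : Led Lsl_df (LP (LK LD1_c3 LD2_c59 LD3_c27)) = (LP (LK LD1_c5 LD2_c47 LD3_c45)) :=
  Lgr Lrot18 (Lpr_at (f158401 IH) (Lpr_dt (K5.f37762 IH) (Lpr_at (f160896 IH) (Lpn (LP (LK LD1_c5 LD2_c47 LD3_c45))))))
theorem f161262 : Led Lsl_cf (LP (LK LD1_c2 LD2_c10 LD3_c17)) = (LP (LK LD1_c3 LD2_c59 LD3_c27)) :=
  Lgr Lrot102 (Lpr_af (f161098 IH) (Lpr_ff (f158244 IH) (Lpr_dt (f59547 IH) (Lpr_ct (f59548 IH) (Lpr_dt (f138786 IH) (Lpr_ct (K4.f96082 IH) (Lpr_dt (f160891 IH) (Lpe (f160881 IH) (Lpe (f160900 IH) (Lpn (LP (LK LD1_c3 LD2_c59 LD3_c27))))))))))))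
theorem f99742 : Led Lsl_ct (LP (LK LD1_c8 LD2_c49 LD3_c17)) = (LP (LK LD1_c4 LD2_c25 LD3_c59)) :=
  Lre_c IH (LK LD1_c8 LD2_c49 LD3_c17) (LK LD1_c4 LD2_c25 LD3_c59) Lrfl Lrfl
theorem f60361 : Led Lsl_bt (LP (LK LD1_c1 LD2_c20 LD3_c35)) = (LP (LK LD1_c2 LD2_c48 LD3_c58)) :=
  Lre_b IH (LK LD1_c1 LD2_c20 LD3_c35) (LK LD1_c2 LD2_c48 LD3_c58) Lrfl Lrfl
theorem f99745 : Led Lsl_ct (LP (LK LD1_c4 LD2_c25 LD3_c59)) = (LP (LK LD1_c8 LD2_c49 LD3_c17)) :=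
  Lre_c IH (LK LD1_c4 LD2_c25 LD3_c59) (LK LD1_c8 LD2_c49 LD3_c17) Lrfl Lrfl
theorem f112444 : Led Lsl_gf (LP (LK LD1_c8 LD2_c49 LD3_c17)) = (LP (LK LD1_c6 LD2_c24 LD3_c27)) :=
  Lgr Lrot129 (Lpe (f99745 IH) (Lpr_bt (f99741 IH) (Lpe (K5.f99659 IH) (Lpe (f60361 IH) (Lpe (K4.f59599 IH) (Lpe (K2.f69486 IH) (Lpr_cf (K2.f38236 IH) (Lpr_bt (K4.f36154 IH) (Lpr_gt (K4.f112440 IH) (Lpr_ct (K4.f36323 IH) (Lpn (LP (LK LD1_c6 LD2_c24 LD3_c27)))))))))))))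
theorem f161266 : Led Lsl_gt (LP (LK LD1_c2 LD2_c51 LD3_c40)) = (LP (LK LD1_c3 LD2_c59 LD3_c27)) :=
  Lgr Lrot150 (Lpe (K6.f137833 IH) (Lpe (K6.f34874 IH) (Lpe (f35230 IH) (Lpr_gt (K4.f112440 IH) (Lpr_ct (K4.f36323 IH) (Lpe (f112444 IH) (Lpr_ct (f99742 IH) (Lpe (f112469 IH) (Lpr_cf (f161262 IH) (Lpn (LP (LK LD1_c3 LD2_c59 LD3_c27))))))))))))
theorem f26399 : Led Lsl_bt (LP (LK LD1_c0 LD2_c17 LD3_c13)) = (LP (LK LD1_c0 LD2_c29 LD3_c41)) :=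
  Lre_b IH (LK LD1_c0 LD2_c17 LD3_c13) (LK LD1_c0 LD2_c29 LD3_c41) Lrfl Lrfl
theorem f40705 : Led Lsl_ct (LP (LK LD1_c0 LD2_c17 LD3_c13)) = (LP (LK LD1_c0 LD2_c32 LD3_c53)) :=
  Lre_c IH (LK LD1_c0 LD2_c17 LD3_c13) (LK LD1_c0 LD2_c32 LD3_c53) Lrfl Lrfl
theorem f158402 : Led Lsl_bt (LP (LK LD1_c2 LD2_c27 LD3_c8)) = (LP (LK LD1_c3 LD2_c59 LD3_c27)) :=
  Lgr Lrot62 (Lpe (K7.f99527 IH) (Lpr_bf (K4.f99523 IH) (Lpr_af (f158398 IH) (Lpe (K5.f37065 IH) (Lpe (f158401 IH) (Lpn (LP (LK LD1_c3 LD2_c59 LD3_c27))))))))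
theorem f161274 : Led Lsl_gf (LP (LK LD1_c0 LD2_c32 LD3_c53)) = (LP (LK LD1_c1 LD2_c10 LD3_c52)) :=
  Lgr Lrot126 (Lpe (f40705 IH) (Lpr_bt (f26399 IH) (Lpe (K6.f141984 IH) (Lpr_ct (K7.f141257 IH) (Lpr_gt (K7.f142120 IH) (Lpe (K6.f70481 IH) (Lpr_bt (K7.f137874 IH) (Lpr_gt (f161266 IH) (Lpe (f158402 IH) (Lpr_ct (K6.f138890 IH) (Lpn (LP (LK LD1_c1 LD2_c10 LD3_c52)))))))))))))
theorem f26398 : Led Lsl_ct (LP (LK LD1_c0 LD2_c32 LD3_c53)) = (LP (LK LD1_c0 LD2_c17 LD3_c13)) :=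
  Lre_c IH (LK LD1_c0 LD2_c32 LD3_c53) (LK LD1_c0 LD2_c17 LD3_c13) Lrfl Lrfl
theorem f139225 : Led Lsl_dt (LP (LK LD1_c0 LD2_c17 LD3_c13)) = (LP (LK LD1_c0 LD2_c38 LD3_c47)) :=
  Lre_d IH (LK LD1_c0 LD2_c17 LD3_c13) (LK LD1_c0 LD2_c38 LD3_c47) Lrfl Lrfl
theorem f104950 : Led Lsl_ct (LP (LK LD1_c4 LD2_c46 LD3_c34)) = (LP (LK LD1_c2 LD2_c21 LD3_c14)) :=
  Lre_c IH (LK LD1_c4 LD2_c46 LD3_c34) (LK LD1_c2 LD2_c21 LD3_c14) Lrfl Lrfl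
theorem f161279 : Led Lsl_gf (LP (LK LD1_c4 LD2_c46 LD3_c34)) = (LP (LK LD1_c2 LD2_c51 LD3_c18)) :=
  Lgr Lrot147 (Lpr_ct (f104950 IH) (Lpr_gt (K4.f26446 IH) (Lpr_ct (K3.f79244 IH) (Lpe (f139225 IH) (Lpe (f26398 IH) (Lpr_gf (f161274 IH) (Lpe (K6.f138890 IH) (Lpr_gf (K7.f150253 IH) (Lpr_df (K7.f26545 IH) (Lpn (LP (LK LD1_c2 LD2_c51 LD3_c18))))))))))))
theorem f26537 : Led Lsl_gt (LP (LK LD1_c2 LD2_c56 LD3_c14)) = (LP (LK LD1_c5 LD2_c59 LD3_c51)) :=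
  Lre_g IH (LK LD1_c2 LD2_c56 LD3_c14) (LK LD1_c5 LD2_c59 LD3_c51) Lrfl Lrfl
theorem f161285 : Led Lsl_cf (LP (LK LD1_c9 LD2_c47 LD3_c46)) = (LP (LK LD1_c5 LD2_c59 LD3_c51)) :=
  Lgr Lrot169 (Lpr_gt (K4.f104986 IH) (Lpr_ct (K4.f104952 IH) (Lpe (K4.f79305 IH) (Lpe (f104950 IH) (Lpr_gf (f161279 IH) (Lpe (K7.f26524 IH) (Lpe (K7.f26479 IH) (Lpe (K2.f26543 IH) (Lpr_gt (f26537 IH) (Lpn (LP (LK LD1_c5 LD2_c59 LD3_c51))))))))))))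
theorem f72474 : Led Lsl_dt (LP (LK LD1_c9 LD2_c47 LD3_c46)) = (LP (LK LD1_c4 LD2_c58 LD3_c37)) :=
  Lre_d IH (LK LD1_c9 LD2_c47 LD3_c46) (LK LD1_c4 LD2_c58 LD3_c37) Lrfl Lrfl
theorem f74693 : Led Lsl_ct (LP (LK LD1_c2 LD2_c55 LD3_c9)) = (LP (LK LD1_c1 LD2_c23 LD3_c32)) :=
  Lre_c IH (LK LD1_c2 LD2_c55 LD3_c9) (LK LD1_c1 LD2_c23 LD3_c32) Lrfl Lrfl
theorem f161293 : Led Lsl_gf (LP (LK LD1_c2 LD2_c54 LD3_c36)) = (LP (LK LD1_c1 LD2_c23 LD3_c32)) :=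
  Lgr Lrot104 (Lpe (f157046 IH) (Lpe (f72474 IH) (Lpr_cf (f161285 IH) (Lpe (f26537 IH) (Lpr_cf (K2.f72642 IH) (Lpe (K2.f75080 IH) (Lpr_df (K2.f72893 IH) (Lpr_gt (K4.f74689 IH) (Lpr_ct (f74693 IH) (Lpn (LP (LK LD1_c1 LD2_c23 LD3_c32))))))))))))
theorem f74709 : Led Lsl_dt (LP (LK LD1_c0 LD2_c38 LD3_c38)) = (LP (LK LD1_c1 LD2_c23 LD3_c32)) :=
  Lre_d IH (LK LD1_c0 LD2_c38 LD3_c38) (LK LD1_c1 LD2_c23 LD3_c32) Lrfl Lrfl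
theorem f161296 : Led Lsl_gf (LP (LK LD1_c1 LD2_c23 LD3_c3)) = (LP (LK LD1_c0 LD2_c38 LD3_c38)) :=
  Lgr Lrot147 (Lpe (K7.f81948 IH) (Lpr_gt (K4.f74534 IH) (Lpr_ct (K4.f74364 IH) (Lpe (K2.f72466 IH) (Lpe (K4.f72462 IH) (Lpe (K4.f72471 IH) (Lpr_cf (f157046 IH) (Lpr_gf (f161293 IH) (Lpe (f74709 IH) (Lpn (LP (LK LD1_c0 LD2_c38 LD3_c38))))))))))))
theorem f74197 : Led Lsl_ct (LP (LK LD1_c0 LD2_c32 LD3_c52)) = (LP (LK LD1_c1 LD2_c10 LD3_c54)) :=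
  Lre_c IH (LK LD1_c0 LD2_c32 LD3_c52) (LK LD1_c1 LD2_c10 LD3_c54) Lrfl Lrfl
theorem f72419 : Led Lsl_gt (LP (LK LD1_c1 LD2_c10 LD3_c53)) = (LP (LK LD1_c2 LD2_c27 LD3_c17)) :=
  Lre_g IH (LK LD1_c1 LD2_c10 LD3_c53) (LK LD1_c2 LD2_c27 LD3_c17) Lrfl Lrfl
theorem f150342 : Led Lsl_bt (LP (LK LD1_c0 LD2_c17 LD3_c11)) = (LP (LK LD1_c0 LD2_c38 LD3_c38)) :=
  Lre_b IH (LK LD1_c0 LD2_c17 LD3_c11) (LK LD1_c0 LD2_c38 LD3_c38) Lrfl Lrfl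
theorem f161306 : Led Lsl_bf (LP (LK LD1_c2 LD2_c27 LD3_c17)) = (LP (LK LD1_c2 LD2_c55 LD3_c15)) :=
  Lgr Lrot34 (Lpe (f72419 IH) (Lpe (K6.f82028 IH) (Lpr_ct (f74197 IH) (Lpe (K4.f74534 IH) (Lpr_cf (K7.f81948 IH) (Lpr_gf (f161296 IH) (Lpe (f150342 IH) (Lpr_ct (K2.f26539 IH) (Lpe (K6.f72574 IH) (Lpe (f72587 IH) (Lpn (LP (LK LD1_c2 LD2_c55 LD3_c15)))))))))))))
theorem f150257 : Led Lsl_bt (LP (LK LD1_c0 LD2_c17 LD3_c12)) = (LP (LK LD1_c0 LD2_c38 LD3_c43)) :=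
  Lre_b IH (LK LD1_c0 LD2_c17 LD3_c12) (LK LD1_c0 LD2_c38 LD3_c43) Lrfl Lrfl
theorem f157615 : Led Lsl_gt (LP (LK LD1_c1 LD2_c22 LD3_c37)) = (LP (LK LD1_c0 LD2_c38 LD3_c43)) :=
  Lgr Lrot94 (Lpe (K5.f72259 IH) (Lpr_gt (K2.f20406 IH) (Lpr_dt (K7.f20402 IH) (Lpe (K6.f116724 IH) (Lpr_dt (K6.f66374 IH) (Lpe (K5.f66378 IH) (Lpe (K5.f117851 IH) (Lpr_gf (f157603 IH) (Lpe (f137172 IH) (Lpn (LP (LK LD1_c0 LD2_c38 LD3_c43))))))))))))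
theorem f158460 : Led Lsl_ct (LP (LK LD1_c4 LD2_c25 LD3_c47)) = (LP (LK LD1_c2 LD2_c53 LD3_c4)) :=
  Lgr Lrot40 (Lpr_ff (K6.f138871 IH) (Lpr_cf (f158458 IH) (Lpe (f158266 IH) (Lpn (LP (LK LD1_c2 LD2_c53 LD3_c4))))))
theorem f161319 : Led Lsl_gt (LP (LK LD1_c2 LD2_c27 LD3_c17)) = (LP (LK LD1_c4 LD2_c25 LD3_c47)) :=
  Lgr Lrot82 (Lpr_bf (f161306 IH) (Lpr_ct (f72587 IH) (Lpe (f150382 IH) (Lpe (f72536 IH) (Lpr_bt (f150257 IH) (Lpe (f157615 IH) (Lpe (K2.f72394 IH) (Lpr_ct (K2.f71210 IH) (Lpe (f71211 IH) (Lpe (f158460 IH) (Lpn (LP (LK LD1_c4 LD2_c25 LD3_c47)))))))))))))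
theorem f112400 : Led Lsl_gt (LP (LK LD1_c1 LD2_c4 LD3_c43)) = (LP (LK LD1_c2 LD2_c15 LD3_c14)) :=
  Lre_g IH (LK LD1_c1 LD2_c4 LD3_c43) (LK LD1_c2 LD2_c15 LD3_c14) Lrfl Lrfl
theorem f161322 : Led Lsl_cf (LP (LK LD1_c2 LD2_c27 LD3_c17)) = (LP (LK LD1_c2 LD2_c15 LD3_c14)) :=
  Lgr Lrot169 (Lpr_gt (f161319 IH) (Lpr_ct (f158460 IH) (Lpe (f71212 IH) (Lpe (f138140 IH) (Lpe (f158583 IH) (Lpe (K4.f75084 IH) (Lpe (K4.f112393 IH) (Lpe (K4.f37812 IH) (Lpr_gt (f112400 IH) (Lpn (LP (LK LD1_c2 LD2_c15 LD3_c14))))))))))))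
theorem f158262 : Led Lsl_ct (LP (LK LD1_c2 LD2_c53 LD3_c4)) = (LP (LK LD1_c4 LD2_c25 LD3_c47)) :=
  Lgr Lrot83 (Lpr_bf (f158258 IH) (Lpe (f158194 IH) (Lpe (f38524 IH) (Lpe (K6.f80135 IH) (Lpe (K6.f138877 IH) (Lpn (LP (LK LD1_c4 LD2_c25 LD3_c47))))))))
theorem f158260 : Led Lsl_bt (LP (LK LD1_c2 LD2_c53 LD3_c4)) = (LP (LK LD1_c4 LD2_c0 LD3_c40)) :=
  Lgr Lrot127 (Lpr_bf (f158258 IH) (Lpn (LP (LK LD1_c4 LD2_c0 LD3_c40))))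
theorem f161324 : Led Lsl_bt (LP (LK LD1_c2 LD2_c15 LD3_c14)) = (LP (LK LD1_c2 LD2_c14 LD3_c51)) :=
  Lgr Lrot92 (Lpe (f161322 IH) (Lpr_gt (f161319 IH) (Lpe (f158262 IH) (Lpr_bt (f158260 IH) (Lpe (f158212 IH) (Lpe (K7.f29333 IH) (Lpr_gt (K7.f37045 IH) (Lpe (K7.f37053 IH) (Lpr_bt (K7.f37054 IH) (Lpe (K7.f37055 IH) (Lpn (LP (LK LD1_c2 LD2_c14 LD3_c51)))))))))))))
theorem f161328 : Led Lsl_cf (LP (LK LD1_c2 LD2_c15 LD3_c14)) = (LP (LK LD1_c2 LD2_c27 LD3_c17)) :=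
  Lgr Lrot97 (Lpr_bt (f161324 IH) (Lpr_ct (K7.f35232 IH) (Lpr_bt (K7.f101607 IH) (Lpr_ct (f72585 IH) (Lpe (f161306 IH) (Lpn (LP (LK LD1_c2 LD2_c27 LD3_c17))))))))
theorem f37835 : Led Lsl_bt (LP (LK LD1_c2 LD2_c15 LD3_c7)) = (LP (LK LD1_c1 LD2_c4 LD3_c41)) :=
  Lre_b IH (LK LD1_c2 LD2_c15 LD3_c7) (LK LD1_c1 LD2_c4 LD3_c41) Lrfl Lrfl
theorem f161315 : Led Lsl_bt (LP (LK LD1_c2 LD2_c27 LD3_c17)) = (LP (LK LD1_c2 LD2_c55 LD3_c15)) :=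
  Lgr Lrot127 (Lpr_bf (f161306 IH) (Lpn (LP (LK LD1_c2 LD2_c55 LD3_c15))))
theorem f101690 : Led Lsl_gt (LP (LK LD1_c1 LD2_c56 LD3_c23)) = (LP (LK LD1_c3 LD2_c59 LD3_c19)) :=
  Lre_g IH (LK LD1_c1 LD2_c56 LD3_c23) (LK LD1_c3 LD2_c59 LD3_c19) Lrfl Lrfl
theorem f161344 : Led Lsl_ct (LP (LK LD1_c2 LD2_c15 LD3_c7)) = (LP (LK LD1_c3 LD2_c59 LD3_c19)) :=
  Lgr Lrot10 (Lpr_bt (f37835 IH) (Lpr_gt (K7.f37767 IH) (Lpr_ct (K2.f34722 IH) (Lpr_gt (f112400 IH) (Lpr_cf (f161328 IH) (Lpr_bt (f161315 IH) (Lpe (f150384 IH) (Lpe (K6.f139368 IH) (Lpr_ct (K7.f37818 IH) (Lpr_gt (f101690 IH) (Lpn (LP (LK LD1_c3 LD2_c59 LD3_c19)))))))))))))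
theorem f158435 : Led Lsl_gf (LP (LK LD1_c2 LD2_c54 LD3_c21)) = (LP (LK LD1_c1 LD2_c56 LD3_c26)) :=
  Lgr Lrot147 (Lpr_ct (K6.f81820 IH) (Lpe (K6.f81818 IH) (Lpe (K2.f35220 IH) (Lpe (K2.f35254 IH) (Lpe (f35255 IH) (Lpe (K4.f83029 IH) (Lpr_cf (f119897 IH) (Lpr_gf (f158429 IH) (Lpe (K5.f37762 IH) (Lpn (LP (LK LD1_c1 LD2_c56 LD3_c26))))))))))))
theorem f161356 : Led Lsl_gf (LP (LK LD1_c1 LD2_c56 LD3_c27)) = (LP (LK LD1_c3 LD2_c59 LD3_c19)) :=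
  Lgr Lrot126 (Lpe (f37071 IH) (Lpr_bt (f112572 IH) (Lpe (f158435 IH) (Lpr_ct (K6.f81820 IH) (Lpe (K6.f81818 IH) (Lpe (K2.f35244 IH) (Lpe (K2.f71818 IH) (Lpe (f71120 IH) (Lpe (f37835 IH) (Lpr_ct (f161344 IH) (Lpn (LP (LK LD1_c3 LD2_c59 LD3_c19)))))))))))))
theorem f101603 : Led Lsl_ct (LP (LK LD1_c3 LD2_c59 LD3_c34)) = (LP (LK LD1_c1 LD2_c56 LD3_c28)) :=
  Lre_c IH (LK LD1_c3 LD2_c59 LD3_c34) (LK LD1_c1 LD2_c56 LD3_c28) Lrfl Lrfl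
theorem f161360 : Led Lsl_gt (LP (LK LD1_c1 LD2_c4 LD3_c51)) = (LP (LK LD1_c2 LD2_c15 LD3_c7)) :=
  Lgr Lrot9 (Lpe (K4.f99594 IH) (Lpr_gt (f158439 IH) (Lpr_ct (f129116 IH) (Lpe (f157635 IH) (Lpr_ct (f101603 IH) (Lpe (K5.f101600 IH) (Lpe (K7.f37043 IH) (Lpr_gf (f161356 IH) (Lpe (f161344 IH) (Lpn (LP (LK LD1_c2 LD2_c15 LD3_c7))))))))))))
theorem f139525 : Led Lsl_ft (LP (LK LD1_c1 LD2_c4 LD3_c51)) = (LP (LK LD1_c2 LD2_c15 LD3_c38)) :=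
  Lre_f IH (LK LD1_c1 LD2_c4 LD3_c51) (LK LD1_c2 LD2_c15 LD3_c38) Lrfl Lrfl
theorem f37822 : Led Lsl_gt (LP (LK LD1_c2 LD2_c15 LD3_c7)) = (LP (LK LD1_c4 LD2_c35 LD3_c51)) :=
  Lre_g IH (LK LD1_c2 LD2_c15 LD3_c7) (LK LD1_c4 LD2_c35 LD3_c51) Lrfl Lrfl
theorem f161369 : Led Lsl_at (LP (LK LD1_c2 LD2_c15 LD3_c38)) = (LP (LK LD1_c4 LD2_c35 LD3_c51)) :=
  Lgr Lrot26 (Lpe (f139525 IH) (Lpr_gt (f161360 IH) (Lpr_gt (f37822 IH) (Lpn (LP (LK LD1_c4 LD2_c35 LD3_c51))))))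
theorem f99513 : Led Lsl_dt (LP (LK LD1_c5 LD2_c47 LD3_c23)) = (LP (LK LD1_c3 LD2_c3 LD3_c15)) :=
  Lgr Lrot42 (Lpr_df (f99507 IH) (Lpn (LP (LK LD1_c3 LD2_c3 LD3_c15))))
theorem f161386 : Led Lsl_ct (LP (LK LD1_c3 LD2_c3 LD3_c15)) = (LP (LK LD1_c4 LD2_c35 LD3_c51)) :=
  Lgr Lrot98 (Lpe (f99513 IH) (Lpr_cf (f99520 IH) (Lpe (f157671 IH) (Lpe (f129249 IH) (Lpr_df (f139504 IH) (Lpe (K4.f99611 IH) (Lpe (f99598 IH) (Lpr_ft (f139525 IH) (Lpr_at (f161369 IH) (Lpn (LP (LK LD1_c4 LD2_c35 LD3_c51))))))))))))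
theorem f70535 : Led Lsl_df (LP (LK LD1_c2 LD2_c10 LD3_c30)) = (LP (LK LD1_c1 LD2_c27 LD3_c32)) :=
  Lgr Lrot12 (Lpr_bt (K1.f16566 IH) (Lpr_dt (K2.f70437 IH) (Lpr_bt (f59585 IH) (Lpn (LP (LK LD1_c1 LD2_c27 LD3_c32))))))
theorem f38520 : Led Lsl_gt (LP (LK LD1_c2 LD2_c10 LD3_c30)) = (LP (LK LD1_c4 LD2_c26 LD3_c35)) :=
  Lre_g IH (LK LD1_c2 LD2_c10 LD3_c30) (LK LD1_c4 LD2_c26 LD3_c35) Lrfl Lrfl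
theorem f147602 : Led Lsl_gf (LP (LK LD1_c1 LD2_c49 LD3_c4)) = (LP (LK LD1_c1 LD2_c53 LD3_c61)) :=
  Lgr Lrot143 (Lpr_dt (K4.f116118 IH) (Lpr_cf (K4.f97284 IH) (Lpe (K3.f21171 IH) (Lpe (K6.f21159 IH) (Lpe (K6.f142714 IH) (Lpe (K6.f142692 IH) (Lpr_cf (K4.f95854 IH) (Lpr_gt (K7.f147600 IH) (Lpr_dt (K5.f84906 IH) (Lpn (LP (LK LD1_c1 LD2_c53 LD3_c61))))))))))))
theorem f59687 : Led Lsl_gt (LP (LK LD1_c3 LD2_c19 LD3_c6)) = (LP (LK LD1_c1 LD2_c36 LD3_c0)) :=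
  Lre_g IH (LK LD1_c3 LD2_c19 LD3_c6) (LK LD1_c1 LD2_c36 LD3_c0) Lrfl Lrfl
theorem f59688 : Led Lsl_bt (LP (LK LD1_c6 LD2_c42 LD3_c12)) = (LP (LK LD1_c3 LD2_c19 LD3_c6)) :=
  Lre_b IH (LK LD1_c6 LD2_c42 LD3_c12) (LK LD1_c3 LD2_c19 LD3_c6) Lrfl Lrfl
theorem f156901 : Led Lsl_ct (LP (LK LD1_c6 LD2_c42 LD3_c12)) = (LP (LK LD1_c4 LD2_c26 LD3_c35)) :=
  Lgr Lrot10 (Lpr_bt (f59688 IH) (Lpr_gt (f59687 IH) (Lpe (K6.f134713 IH) (Lpe (f147602 IH) (Lpe (K4.f116082 IH) (Lpr_bt (K7.f156890 IH) (Lpr_gt (K7.f38022 IH) (Lpe (K0.f16127 IH) (Lpr_ct (f40015 IH) (Lpr_gt (f38520 IH) (Lpn (LP (LK LD1_c4 LD2_c26 LD3_c35)))))))))))))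
theorem f156903 : Led Lsl_cf (LP (LK LD1_c6 LD2_c42 LD3_c12)) = (LP (LK LD1_c4 LD2_c26 LD3_c35)) :=
  Lgr Lrot11 (Lpr_ct (f156901 IH) (Lpn (LP (LK LD1_c4 LD2_c26 LD3_c35))))
theorem f100417 : Led Lsl_ff (LP (LK LD1_c0 LD2_c54 LD3_c35)) = (LP (LK LD1_c1 LD2_c27 LD3_c32)) :=
  Lgr Lrot30 (Lpr_at (K7.f37864 IH) (Lpr_ft (K5.f99588 IH) (Lpr_at (K5.f99587 IH) (Lpn (LP (LK LD1_c1 LD2_c27 LD3_c32))))))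
theorem f101650 : Led Lsl_gf (LP (LK LD1_c1 LD2_c55 LD3_c44)) = (LP (LK LD1_c3 LD2_c3 LD3_c15)) :=
  Lgr Lrot76 (Lpe (K7.f37864 IH) (Lpr_ff (f100417 IH) (Lpr_gt (f59553 IH) (Lpn (LP (LK LD1_c3 LD2_c3 LD3_c15))))))
theorem f157748 : Led Lsl_dt (LP (LK LD1_c7 LD2_c59 LD3_c53)) = (LP (LK LD1_c3 LD2_c59 LD3_c19)) :=
  Lre_d IH (LK LD1_c7 LD2_c59 LD3_c53) (LK LD1_c3 LD2_c59 LD3_c19) Lrfl Lrfl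
theorem f157742 : Led Lsl_gt (LP (LK LD1_c7 LD2_c25 LD3_c41)) = (LP (LK LD1_c6 LD2_c42 LD3_c9)) :=
  Lgr Lrot5 (Lpr_ft (f157733 IH) (Lpr_at (K7.f139524 IH) (Lpe (f129255 IH) (Lpn (LP (LK LD1_c6 LD2_c42 LD3_c9))))))
theorem f73810 : Led Lsl_dt (LP (LK LD1_c0 LD2_c40 LD3_c52)) = (LP (LK LD1_c1 LD2_c22 LD3_c3)) :=
  Lgr Lrot60 (Lpr_ff (K2.f73282 IH) (Lpe (K6.f59475 IH) (Lpr_ff (K2.f73804 IH) (Lpn (LP (LK LD1_c1 LD2_c22 LD3_c3))))))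
theorem f112547 : Led Lsl_dt (LP (LK LD1_c3 LD2_c59 LD3_c22)) = (LP (LK LD1_c1 LD2_c56 LD3_c23)) :=
  Lre_d IH (LK LD1_c3 LD2_c59 LD3_c22) (LK LD1_c1 LD2_c56 LD3_c23) Lrfl Lrfl
theorem f149353 : Led Lsl_gt (LP (LK LD1_c6 LD2_c24 LD3_c31)) = (LP (LK LD1_c3 LD2_c59 LD3_c22)) :=
  Lgr Lrot49 (Lpe (f117622 IH) (Lpe (f138553 IH) (Lpe (f73430 IH) (Lpr_gt (f60853 IH) (Lpr_dt (f73810 IH) (Lpr_gt (K7.f149347 IH) (Lpr_dt (K6.f37819 IH) (Lpe (K7.f37772 IH) (Lpe (f112547 IH) (Lpn (LP (LK LD1_c3 LD2_c59 LD3_c22))))))))))))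
theorem f101691 : Led Lsl_dt (LP (LK LD1_c3 LD2_c59 LD3_c19)) = (LP (LK LD1_c7 LD2_c59 LD3_c53)) :=
  Lre_d IH (LK LD1_c3 LD2_c59 LD3_c19) (LK LD1_c7 LD2_c59 LD3_c53) Lrfl Lrfl
theorem f139790 : Led Lsl_dt (LP (LK LD1_c6 LD2_c42 LD3_c9)) = (LP (LK LD1_c12 LD2_c49 LD3_c27)) :=
  Lre_d IH (LK LD1_c6 LD2_c42 LD3_c9) (LK LD1_c12 LD2_c49 LD3_c27) Lrfl Lrfl
theorem f157746 : Led Lsl_cf (LP (LK LD1_c7 LD2_c59 LD3_c53)) = (LP (LK LD1_c12 LD2_c49 LD3_c27)) :=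
  Lgr Lrot14 (Lpe (f101691 IH) (Lpe (f101690 IH) (Lpe (f112547 IH) (Lpe (f149353 IH) (Lpr_ct (f117623 IH) (Lpr_gt (f157702 IH) (Lpe (f157697 IH) (Lpr_gt (f157742 IH) (Lpr_dt (f139790 IH) (Lpn (LP (LK LD1_c12 LD2_c49 LD3_c27))))))))))))
theorem f139792 : Led Lsl_dt (LP (LK LD1_c12 LD2_c49 LD3_c27)) = (LP (LK LD1_c6 LD2_c42 LD3_c9)) :=
  Lre_d IH (LK LD1_c12 LD2_c49 LD3_c27) (LK LD1_c6 LD2_c42 LD3_c9) Lrfl Lrfl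
theorem f80130 : Led Lsl_ct (LP (LK LD1_c8 LD2_c50 LD3_c45)) = (LP (LK LD1_c4 LD2_c26 LD3_c36)) :=
  Lre_c IH (LK LD1_c8 LD2_c50 LD3_c45) (LK LD1_c4 LD2_c26 LD3_c36) Lrfl Lrfl
theorem f157677 : Led Lsl_gf (LP (LK LD1_c12 LD2_c49 LD3_c27)) = (LP (LK LD1_c8 LD2_c50 LD3_c45)) :=
  Lgr Lrot144 (Lpr_dt (f139792 IH) (Lpr_gt (f129255 IH) (Lpr_dt (f157671 IH) (Lpe (f99515 IH) (Lpr_df (f99507 IH) (Lpe (f59553 IH) (Lpe (f99555 IH) (Lpe (f38025 IH) (Lpe (f80130 IH) (Lpn (LP (LK LD1_c8 LD2_c50 LD3_c45))))))))))))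
theorem f101684 : Led Lsl_ct (LP (LK LD1_c4 LD2_c26 LD3_c36)) = (LP (LK LD1_c8 LD2_c50 LD3_c45)) :=
  Lre_c IH (LK LD1_c4 LD2_c26 LD3_c36) (LK LD1_c8 LD2_c50 LD3_c45) Lrfl Lrfl
theorem f161371 : Led Lsl_gt (LP (LK LD1_c3 LD2_c57 LD3_c57)) = (LP (LK LD1_c4 LD2_c26 LD3_c36)) :=
  Lgr Lrot9 (Lpe (K1.f40080 IH) (Lpr_gt (K4.f99583 IH) (Lpr_ct (K4.f99593 IH) (Lpr_gt (f161360 IH) (Lpr_ct (f161344 IH) (Lpe (f157748 IH) (Lpr_cf (f157746 IH) (Lpr_gf (f157677 IH) (Lpe (f101684 IH) (Lpn (LP (LK LD1_c4 LD2_c26 LD3_c36))))))))))))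
theorem f149209 : Led Lsl_df (LP (LK LD1_c3 LD2_c4 LD3_c0)) = (LP (LK LD1_c4 LD2_c26 LD3_c36)) :=
  Lgr Lrot155 (Lpr_gt (K4.f37226 IH) (Lpr_ct (K2.f60850 IH) (Lpr_gt (K4.f60852 IH) (Lpr_ct (f60866 IH) (Lpr_dt (f60868 IH) (Lpr_cf (f149203 IH) (Lpe (f38104 IH) (Lpe (f38103 IH) (Lpe (f38025 IH) (Lpn (LP (LK LD1_c4 LD2_c26 LD3_c36))))))))))))
theorem f99559 : Led Lsl_dt (LP (LK LD1_c4 LD2_c36 LD3_c41)) = (LP (LK LD1_c2 LD2_c15 LD3_c33)) :=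
  Lre_d IH (LK LD1_c4 LD2_c36 LD3_c41) (LK LD1_c2 LD2_c15 LD3_c33) Lrfl Lrfl
theorem f99560 : Led Lsl_gf (LP (LK LD1_c2 LD2_c16 LD3_c3)) = (LP (LK LD1_c4 LD2_c36 LD3_c41)) :=
  Lgr Lrot147 (Lpr_ct (K4.f40595 IH) (Lpr_gt (K4.f40354 IH) (Lpr_ct (K2.f40338 IH) (Lpr_df (K4.f99540 IH) (Lpe (K6.f69322 IH) (Lpe (K5.f69325 IH) (Lpe (K4.f69324 IH) (Lpe (f20418 IH) (Lpe (f99559 IH) (Lpn (LP (LK LD1_c4 LD2_c36 LD3_c41))))))))))))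
theorem f99566 : Led Lsl_dt (LP (LK LD1_c2 LD2_c15 LD3_c33)) = (LP (LK LD1_c4 LD2_c36 LD3_c41)) :=
  Lre_d IH (LK LD1_c2 LD2_c15 LD3_c33) (LK LD1_c4 LD2_c36 LD3_c41) Lrfl Lrfl
theorem f161388 : Led Lsl_gf (LP (LK LD1_c2 LD2_c15 LD3_c33)) = (LP (LK LD1_c4 LD2_c35 LD3_c51)) :=
  Lgr Lrot148 (Lpr_dt (f99566 IH) (Lpe (f99560 IH) (Lpe (K4.f79933 IH) (Lpe (K4.f60856 IH) (Lpr_df (f149209 IH) (Lpe (f161371 IH) (Lpe (K1.f40080 IH) (Lpr_gf (f101650 IH) (Lpr_ct (f161386 IH) (Lpn (LP (LK LD1_c4 LD2_c35 LD3_c51))))))))))))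
theorem f101694 : Led Lsl_dt (LP (LK LD1_c7 LD2_c59 LD3_c55)) = (LP (LK LD1_c3 LD2_c59 LD3_c20)) :=
  Lre_d IH (LK LD1_c7 LD2_c59 LD3_c55) (LK LD1_c3 LD2_c59 LD3_c20) Lrfl Lrfl
theorem f101693 : Led Lsl_dt (LP (LK LD1_c3 LD2_c59 LD3_c20)) = (LP (LK LD1_c7 LD2_c59 LD3_c55)) :=
  Lre_d IH (LK LD1_c3 LD2_c59 LD3_c20) (LK LD1_c7 LD2_c59 LD3_c55) Lrfl Lrfl
theorem f80254 : Led Lsl_ct (LP (LK LD1_c6 LD2_c15 LD3_c55)) = (LP (LK LD1_c12 LD2_c9 LD3_c27)) :=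
  Lre_c IH (LK LD1_c6 LD2_c15 LD3_c55) (LK LD1_c12 LD2_c9 LD3_c27) Lrfl Lrfl
theorem f68521 : Led Lsl_gt (LP (LK LD1_c6 LD2_c31 LD3_c53)) = (LP (LK LD1_c3 LD2_c14 LD3_c7)) :=
  Lre_g IH (LK LD1_c6 LD2_c31 LD3_c53) (LK LD1_c3 LD2_c14 LD3_c7) Lrfl Lrfl
theorem f99143 : Led Lsl_ct (LP (LK LD1_c11 LD2_c37 LD3_c32)) = (LP (LK LD1_c5 LD2_c56 LD3_c9)) :=
  Lre_c IH (LK LD1_c11 LD2_c37 LD3_c32) (LK LD1_c5 LD2_c56 LD3_c9) Lrfl Lrfl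
theorem f119821 : Led Lsl_ff (LP (LK LD1_c11 LD2_c37 LD3_c32)) = (LP (LK LD1_c12 LD2_c22 LD3_c2)) :=
  Lgr Lrot23 (Lpr_ct (f99143 IH) (Lpr_ft (f119819 IH) (Lpr_ct (f117623 IH) (Lpn (LP (LK LD1_c12 LD2_c22 LD3_c2))))))
theorem f81785 : Led Lsl_ct (LP (LK LD1_c5 LD2_c56 LD3_c9)) = (LP (LK LD1_c11 LD2_c37 LD3_c32)) :=
  Lre_c IH (LK LD1_c5 LD2_c56 LD3_c9) (LK LD1_c11 LD2_c37 LD3_c32) Lrfl Lrfl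
theorem f81093 : Led Lsl_ct (LP (LK LD1_c12 LD2_c9 LD3_c27)) = (LP (LK LD1_c6 LD2_c15 LD3_c55)) :=
  Lre_c IH (LK LD1_c12 LD2_c9 LD3_c27) (LK LD1_c6 LD2_c15 LD3_c55) Lrfl Lrfl
theorem f119808 : Led Lsl_at (LP (LK LD1_c11 LD2_c37 LD3_c32)) = (LP (LK LD1_c12 LD2_c9 LD3_c27)) :=
  Lgr Lrot107 (Lpe (f81785 IH) (Lpr_af (f119803 IH) (Lpe (f81093 IH) (Lpn (LP (LK LD1_c12 LD2_c9 LD3_c27))))))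
theorem f157704 : Led Lsl_gf (LP (LK LD1_c12 LD2_c9 LD3_c27)) = (LP (LK LD1_c9 LD2_c9 LD3_c26)) :=
  Lgr Lrot76 (Lpe (f119808 IH) (Lpr_ff (f119821 IH) (Lpr_gt (f157702 IH) (Lpn (LP (LK LD1_c9 LD2_c9 LD3_c26))))))
theorem f68518 : Led Lsl_dt (LP (LK LD1_c3 LD2_c14 LD3_c7)) = (LP (LK LD1_c6 LD2_c31 LD3_c55)) :=
  Lre_d IH (LK LD1_c3 LD2_c14 LD3_c7) (LK LD1_c6 LD2_c31 LD3_c55) Lrfl Lrfl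
theorem f157707 : Led Lsl_dt (LP (LK LD1_c12 LD2_c9 LD3_c27)) = (LP (LK LD1_c6 LD2_c31 LD3_c53)) :=
  Lgr Lrot57 (Lpr_gf (f157704 IH) (Lpe (f99592 IH) (Lpr_gt (K6.f137959 IH) (Lpr_dt (K2.f56748 IH) (Lpr_gt (K7.f59430 IH) (Lpe (K7.f156747 IH) (Lpr_cf (K7.f156728 IH) (Lpe (f68518 IH) (Lpe (f68521 IH) (Lpn (LP (LK LD1_c6 LD2_c31 LD3_c53))))))))))))
theorem f157711 : Led Lsl_df (LP (LK LD1_c12 LD2_c9 LD3_c27)) = (LP (LK LD1_c6 LD2_c31 LD3_c53)) :=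
  Lgr Lrot38 (Lpr_dt (f157707 IH) (Lpn (LP (LK LD1_c6 LD2_c31 LD3_c53))))
theorem f73305 : Led Lsl_dt (LP (LK LD1_c12 LD2_c6 LD3_c59)) = (LP (LK LD1_c11 LD2_c24 LD3_c58)) :=
  Lgr Lrot42 (Lpr_df (K2.f73299 IH) (Lpn (LP (LK LD1_c11 LD2_c24 LD3_c58))))
theorem f60670 : Led Lsl_ct (LP (LK LD1_c6 LD2_c14 LD3_c15)) = (LP (LK LD1_c12 LD2_c6 LD3_c59)) :=
  Lre_c IH (LK LD1_c6 LD2_c14 LD3_c15) (LK LD1_c12 LD2_c6 LD3_c59) Lrfl Lrfl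
theorem f157804 : Led Lsl_gt (LP (LK LD1_c12 LD2_c9 LD3_c27)) = (LP (LK LD1_c6 LD2_c32 LD3_c0)) :=
  Lgr Lrot9 (Lpr_df (f157711 IH) (Lpr_gt (f68521 IH) (Lpr_ct (f68462 IH) (Lpr_gt (f157789 IH) (Lpr_ct (K2.f73298 IH) (Lpe (f73305 IH) (Lpe (f60670 IH) (Lpr_gf (f73327 IH) (Lpr_cf (f99520 IH) (Lpn (LP (LK LD1_c6 LD2_c32 LD3_c0))))))))))))
theorem f129256 : Led Lsl_gt (LP (LK LD1_c3 LD2_c19 LD3_c3)) = (LP (LK LD1_c6 LD2_c42 LD3_c8)) :=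
  Lre_g IH (LK LD1_c3 LD2_c19 LD3_c3) (LK LD1_c6 LD2_c42 LD3_c8) Lrfl Lrfl
theorem f139503 : Led Lsl_dt (LP (LK LD1_c6 LD2_c42 LD3_c8)) = (LP (LK LD1_c12 LD2_c49 LD3_c24)) :=
  Lre_d IH (LK LD1_c6 LD2_c42 LD3_c8) (LK LD1_c12 LD2_c49 LD3_c24) Lrfl Lrfl
theorem f160954 : Led Lsl_cf (LP (LK LD1_c7 LD2_c59 LD3_c55)) = (LP (LK LD1_c12 LD2_c49 LD3_c24)) :=
  Lgr Lrot14 (Lpe (f101693 IH) (Lpr_gf (f160946 IH) (Lpe (f101605 IH) (Lpr_gf (f112567 IH) (Lpr_ct (f80254 IH) (Lpr_gt (f157804 IH) (Lpe (f157675 IH) (Lpr_gt (f129256 IH) (Lpr_dt (f139503 IH) (Lpn (LP (LK LD1_c12 LD2_c49 LD3_c24))))))))))))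
theorem f161390 : Led Lsl_gt (LP (LK LD1_c6 LD2_c42 LD3_c12)) = (LP (LK LD1_c12 LD2_c49 LD3_c24)) :=
  Lgr Lrot150 (Lpr_cf (f156903 IH) (Lpe (f38520 IH) (Lpr_df (f70535 IH) (Lpr_gt (f59553 IH) (Lpr_ct (f161386 IH) (Lpe (f161388 IH) (Lpe (f160942 IH) (Lpe (f101694 IH) (Lpr_cf (f160954 IH) (Lpn (LP (LK LD1_c12 LD2_c49 LD3_c24))))))))))))
theorem f80549 : Led Lsl_bt (LP (LK LD1_c1 LD2_c1 LD3_c51)) = (LP (LK LD1_c2 LD2_c9 LD3_c25)) :=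
  Lre_b IH (LK LD1_c1 LD2_c1 LD3_c51) (LK LD1_c2 LD2_c9 LD3_c25) Lrfl Lrfl
theorem f36529 : Led Lsl_gt (LP (LK LD1_c4 LD2_c23 LD3_c60)) = (LP (LK LD1_c2 LD2_c9 LD3_c25)) :=
  Lre_g IH (LK LD1_c4 LD2_c23 LD3_c60) (LK LD1_c2 LD2_c9 LD3_c25) Lrfl Lrfl
theorem f160952 : Led Lsl_ct (LP (LK LD1_c7 LD2_c59 LD3_c55)) = (LP (LK LD1_c12 LD2_c49 LD3_c24)) :=
  Lgr Lrot7 (Lpe (f101693 IH) (Lpr_gf (f160946 IH) (Lpe (f101605 IH) (Lpr_gf (f112567 IH) (Lpe (f81093 IH) (Lpr_gt (f157804 IH) (Lpe (f157675 IH) (Lpr_gt (f129256 IH) (Lpr_dt (f139503 IH) (Lpn (LP (LK LD1_c12 LD2_c49 LD3_c24))))))))))))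
theorem f161392 : Led Lsl_bf (LP (LK LD1_c4 LD2_c23 LD3_c60)) = (LP (LK LD1_c7 LD2_c59 LD3_c55)) :=
  Lgr Lrot156 (Lpr_gt (f36529 IH) (Lpe (f80549 IH) (Lpe (K4.f70551 IH) (Lpr_gt (K4.f38011 IH) (Lpe (K4.f16615 IH) (Lpr_bt (K0.f16143 IH) (Lpr_gt (f38520 IH) (Lpe (f156903 IH) (Lpr_gt (f161390 IH) (Lpe (f160952 IH) (Lpn (LP (LK LD1_c7 LD2_c59 LD3_c55)))))))))))))
theorem f161400 : Led Lsl_dt (LP (LK LD1_c4 LD2_c23 LD3_c60)) = (LP (LK LD1_c2 LD2_c9 LD3_c45)) :=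
  Lgr Lrot79 (Lpr_bf (f161392 IH) (Lpe (f101693 IH) (Lpr_bf (f160934 IH) (Lpn (LP (LK LD1_c2 LD2_c9 LD3_c45))))))
theorem f35341 : Led Lsl_dt (LP (LK LD1_c2 LD2_c14 LD3_c49)) = (LP (LK LD1_c4 LD2_c35 LD3_c15)) :=
  Lre_d IH (LK LD1_c2 LD2_c14 LD3_c49) (LK LD1_c4 LD2_c35 LD3_c15) Lrfl Lrfl
theorem f161418 : Led Lsl_ct (LP (LK LD1_c8 LD2_c45 LD3_c46)) = (LP (LK LD1_c4 LD2_c35 LD3_c15)) :=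
  Lgr Lrot151 (Lpe (f35871 IH) (Lpe (f35870 IH) (Lpe (f36529 IH) (Lpr_dt (f161400 IH) (Lpr_gt (K6.f34880 IH) (Lpr_ct (K2.f34755 IH) (Lpr_gt (K5.f26614 IH) (Lpr_ct (K5.f26615 IH) (Lpr_dt (f35341 IH) (Lpn (LP (LK LD1_c4 LD2_c35 LD3_c15))))))))))))
theorem f139125 : Led Lsl_df (LP (LK LD1_c8 LD2_c45 LD3_c46)) = (LP (LK LD1_c9 LD2_c47 LD3_c50)) :=
  Lgr Lrot38 (Lpr_dt (f139123 IH) (Lpn (LP (LK LD1_c9 LD2_c47 LD3_c50))))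
theorem f161425 : Led Lsl_gt (LP (LK LD1_c4 LD2_c25 LD3_c40)) = (LP (LK LD1_c2 LD2_c14 LD3_c49)) :=
  Lgr Lrot189 (Lpe (f158724 IH) (Lpe (f158834 IH) (Lpr_ct (f117722 IH) (Lpr_gt (f117741 IH) (Lpr_dt (K6.f35226 IH) (Lpr_gt (f139058 IH) (Lpe (f139125 IH) (Lpr_ct (f161418 IH) (Lpe (f35341 IH) (Lpn (LP (LK LD1_c2 LD2_c14 LD3_c49))))))))))))
theorem f35344 : Led Lsl_ct (LP (LK LD1_c2 LD2_c14 LD3_c49)) = (LP (LK LD1_c1 LD2_c4 LD3_c32)) :=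
  Lre_c IH (LK LD1_c2 LD2_c14 LD3_c49) (LK LD1_c1 LD2_c4 LD3_c32) Lrfl Lrfl
theorem f161427 : Led Lsl_gf (LP (LK LD1_c0 LD2_c38 LD3_c29)) = (LP (LK LD1_c1 LD2_c4 LD3_c32)) :=
  Lgr Lrot104 (Lpr_ct (K2.f71911 IH) (Lpe (K4.f71934 IH) (Lpe (K4.f71883 IH) (Lpe (K4.f117676 IH) (Lpe (f116805 IH) (Lpe (f112487 IH) (Lpr_df (f158731 IH) (Lpr_gt (f161425 IH) (Lpr_ct (f35344 IH) (Lpn (LP (LK LD1_c1 LD2_c4 LD3_c32))))))))))))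
theorem f71949 : Led Lsl_dt (LP (LK LD1_c0 LD2_c38 LD3_c29)) = (LP (LK LD1_c1 LD2_c23 LD3_c8)) :=
  Lre_d IH (LK LD1_c0 LD2_c38 LD3_c29) (LK LD1_c1 LD2_c23 LD3_c8) Lrfl Lrfl
theorem f117016 : Led Lsl_dt (LP (LK LD1_c2 LD2_c14 LD3_c50)) = (LP (LK LD1_c1 LD2_c4 LD3_c32)) :=
  Lre_d IH (LK LD1_c2 LD2_c14 LD3_c50) (LK LD1_c1 LD2_c4 LD3_c32) Lrfl Lrfl
theorem f161435 : Led Lsl_gt (LP (LK LD1_c1 LD2_c5 LD3_c4)) = (LP (LK LD1_c2 LD2_c14 LD3_c50)) :=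
  Lgr Lrot94 (Lpe (K6.f26361 IH) (Lpr_gt (K6.f61661 IH) (Lpr_dt (K7.f149712 IH) (Lpr_gt (f137719 IH) (Lpr_dt (K6.f71913 IH) (Lpe (K6.f71842 IH) (Lpe (f71949 IH) (Lpr_gf (f161427 IH) (Lpe (f117016 IH) (Lpn (LP (LK LD1_c2 LD2_c14 LD3_c50))))))))))))
theorem f117013 : Led Lsl_ct (LP (LK LD1_c4 LD2_c35 LD3_c16)) = (LP (LK LD1_c2 LD2_c14 LD3_c50)) :=
  Lre_c IH (LK LD1_c4 LD2_c35 LD3_c16) (LK LD1_c2 LD2_c14 LD3_c50) Lrfl Lrfl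
theorem f161443 : Led Lsl_bf (LP (LK LD1_c4 LD2_c38 LD3_c8)) = (LP (LK LD1_c4 LD2_c35 LD3_c16)) :=
  Lgr Lrot165 (Lpr_gt (K6.f36593 IH) (Lpr_ct (K6.f63824 IH) (Lpe (K6.f139771 IH) (Lpr_cf (K6.f141189 IH) (Lpe (K6.f141219 IH) (Lpr_gt (K5.f26267 IH) (Lpe (f150449 IH) (Lpr_ct (K6.f26361 IH) (Lpr_gt (f161435 IH) (Lpe (f117013 IH) (Lpn (LP (LK LD1_c4 LD2_c35 LD3_c16)))))))))))))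
theorem f26873 : Led Lsl_gt (LP (LK LD1_c4 LD2_c38 LD3_c31)) = (LP (LK LD1_c2 LD2_c16 LD3_c18)) :=
  Lre_g IH (LK LD1_c4 LD2_c38 LD3_c31) (LK LD1_c2 LD2_c16 LD3_c18) Lrfl Lrfl
theorem f161451 : Led Lsl_bt (LP (LK LD1_c3 LD2_c1 LD3_c50)) = (LP (LK LD1_c4 LD2_c38 LD3_c31)) :=
  Lgr Lrot130 (Lpr_ct (K3.f96052 IH) (Lpr_gf (K3.f63799 IH) (Lpe (K3.f63731 IH) (Lpr_bt (K6.f63808 IH) (Lpe (K6.f36593 IH) (Lpr_bf (f161443 IH) (Lpr_ct (f117013 IH) (Lpe (f161435 IH) (Lpe (K6.f26361 IH) (Lpe (f26873 IH) (Lpn (LP (LK LD1_c4 LD2_c38 LD3_c31)))))))))))))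
theorem f130670 : Led Lsl_ff (LP (LK LD1_c3 LD2_c1 LD3_c50)) = (LP (LK LD1_c1 LD2_c34 LD3_c32)) :=
  Lgr Lrot23 (Lpr_ct (K3.f96052 IH) (Lpr_ft (K5.f130664 IH) (Lpe (K2.f65701 IH) (Lpn (LP (LK LD1_c1 LD2_c34 LD3_c32))))))
theorem f149667 : Led Lsl_bf (LP (LK LD1_c1 LD2_c34 LD3_c32)) = (LP (LK LD1_c2 LD2_c57 LD3_c15)) :=
  Lgr Lrot93 (Lpr_dt (K2.f65271 IH) (Lpr_bt (K6.f7160 IH) (Lpr_dt (K7.f149665 IH) (Lpn (LP (LK LD1_c2 LD2_c57 LD3_c15))))))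
theorem f161464 : Led Lsl_ff (LP (LK LD1_c2 LD2_c57 LD3_c15)) = (LP (LK LD1_c4 LD2_c38 LD3_c31)) :=
  Lgr Lrot25 (Lpe (f149667 IH) (Lpe (f130670 IH) (Lpr_bt (f161451 IH) (Lpn (LP (LK LD1_c4 LD2_c38 LD3_c31))))))
theorem f161471 : Led Lsl_ft (LP (LK LD1_c2 LD2_c57 LD3_c15)) = (LP (LK LD1_c4 LD2_c38 LD3_c31)) :=
  Lgr Lrot48 (Lpr_ff (f161464 IH) (Lpn (LP (LK LD1_c4 LD2_c38 LD3_c31))))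
theorem f109928 : Led Lsl_bt (LP (LK LD1_c4 LD2_c34 LD3_c27)) = (LP (LK LD1_c2 LD2_c14 LD3_c12)) :=
  Lre_b IH (LK LD1_c4 LD2_c34 LD3_c27) (LK LD1_c2 LD2_c14 LD3_c12) Lrfl Lrfl
theorem f161457 : Led Lsl_cf (LP (LK LD1_c4 LD2_c34 LD3_c27)) = (LP (LK LD1_c4 LD2_c38 LD3_c31)) :=
  Lgr Lrot97 (Lpr_bt (f109928 IH) (Lpr_ct (K3.f109918 IH) (Lpr_bt (K3.f63809 IH) (Lpe (K3.f96043 IH) (Lpr_bt (f161451 IH) (Lpn (LP (LK LD1_c4 LD2_c38 LD3_c31))))))))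
theorem f161473 : Led Lsl_ff (LP (LK LD1_c2 LD2_c50 LD3_c9)) = (LP (LK LD1_c4 LD2_c34 LD3_c27)) :=
  Lgr Lrot23 (Lpe (K6.f56764 IH) (Lpr_ft (f161471 IH) (Lpe (f161457 IH) (Lpn (LP (LK LD1_c4 LD2_c34 LD3_c27))))))
theorem f149699 : Led Lsl_ct (LP (LK LD1_c4 LD2_c38 LD3_c30)) = (LP (LK LD1_c5 LD2_c48 LD3_c14)) :=
  Lgr Lrot83 (Lpe (K6.f124510 IH) (Lpe (K6.f124527 IH) (Lpr_bf (K6.f141722 IH) (Lpe (K7.f139706 IH) (Lpr_bf (K7.f149697 IH) (Lpn (LP (LK LD1_c5 LD2_c48 LD3_c14))))))))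
theorem f137718 : Led Lsl_ct (LP (LK LD1_c6 LD2_c33 LD3_c57)) = (LP (LK LD1_c3 LD2_c15 LD3_c34)) :=
  Lre_c IH (LK LD1_c6 LD2_c33 LD3_c57) (LK LD1_c3 LD2_c15 LD3_c34) Lrfl Lrfl
theorem f109937 : Led Lsl_bt (LP (LK LD1_c2 LD2_c14 LD3_c12)) = (LP (LK LD1_c4 LD2_c34 LD3_c27)) :=
  Lre_b IH (LK LD1_c2 LD2_c14 LD3_c12) (LK LD1_c4 LD2_c34 LD3_c27) Lrfl Lrfl
theorem f109938 : Led Lsl_dt (LP (LK LD1_c4 LD2_c34 LD3_c27)) = (LP (LK LD1_c2 LD2_c14 LD3_c27)) :=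
  Lgr Lrot79 (Lpe (f109937 IH) (Lpr_df (f109935 IH) (Lpe (K6.f35235 IH) (Lpn (LP (LK LD1_c2 LD2_c14 LD3_c27))))))
theorem f161414 : Led Lsl_df (LP (LK LD1_c4 LD2_c23 LD3_c60)) = (LP (LK LD1_c2 LD2_c9 LD3_c45)) :=
  Lgr Lrot38 (Lpr_dt (f161400 IH) (Lpn (LP (LK LD1_c2 LD2_c9 LD3_c45))))
theorem f112837 : Led Lsl_ct (LP (LK LD1_c4 LD2_c23 LD3_c60)) = (LP (LK LD1_c8 LD2_c45 LD3_c44)) :=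
  Lre_c IH (LK LD1_c4 LD2_c23 LD3_c60) (LK LD1_c8 LD2_c45 LD3_c44) Lrfl Lrfl
theorem f161485 : Led Lsl_df (LP (LK LD1_c6 LD2_c33 LD3_c57)) = (LP (LK LD1_c8 LD2_c45 LD3_c44)) :=
  Lgr Lrot13 (Lpr_ct (f137718 IH) (Lpe (f149718 IH) (Lpr_ct (f149699 IH) (Lpe (K7.f56802 IH) (Lpr_ff (f161473 IH) (Lpr_dt (f109938 IH) (Lpr_ct (K6.f35236 IH) (Lpe (f161414 IH) (Lpr_ct (f112837 IH) (Lpn (LP (LK LD1_c8 LD2_c45 LD3_c44))))))))))))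
theorem f96632 : Led Lsl_gt (LP (LK LD1_c6 LD2_c35 LD3_c26)) = (LP (LK LD1_c12 LD2_c36 LD3_c52)) :=
  Lre_g IH (LK LD1_c6 LD2_c35 LD3_c26) (LK LD1_c12 LD2_c36 LD3_c52) Lrfl Lrfl
theorem f26588 : Led Lsl_bt (LP (LK LD1_c0 LD2_c13 LD3_c2)) = (LP (LK LD1_c0 LD2_c5 LD3_c57)) :=
  Lre_b IH (LK LD1_c0 LD2_c13 LD3_c2) (LK LD1_c0 LD2_c5 LD3_c57) Lrfl Lrfl
theorem f27175 : Led Lsl_dt (LP (LK LD1_c1 LD2_c2 LD3_c14)) = (LP (LK LD1_c0 LD2_c28 LD3_c23)) :=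
  Lre_d IH (LK LD1_c1 LD2_c2 LD3_c14) (LK LD1_c0 LD2_c28 LD3_c23) Lrfl Lrfl
theorem f16157 : Led Lsl_bt (LP (LK LD1_c4 LD2_c26 LD3_c13)) = (LP (LK LD1_c2 LD2_c10 LD3_c23)) :=
  Lre_b IH (LK LD1_c4 LD2_c26 LD3_c13) (LK LD1_c2 LD2_c10 LD3_c23) Lrfl Lrfl
theorem f27177 : Led Lsl_ct (LP (LK LD1_c8 LD2_c49 LD3_c52)) = (LP (LK LD1_c4 LD2_c26 LD3_c13)) :=
  Lre_c IH (LK LD1_c8 LD2_c49 LD3_c52) (LK LD1_c4 LD2_c26 LD3_c13) Lrfl Lrfl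
theorem f116774 : Led Lsl_dt (LP (LK LD1_c12 LD2_c36 LD3_c52)) = (LP (LK LD1_c8 LD2_c49 LD3_c52)) :=
  Lgr Lrot182 (Lpe (f96632 IH) (Lpe (K4.f79644 IH) (Lpe (K3.f60971 IH) (Lpr_df (K5.f114470 IH) (Lpe (K4.f114466 IH) (Lpe (K4.f62645 IH) (Lpe (K1.f24971 IH) (Lpe (K4.f89451 IH) (Lpr_gf (K4.f116726 IH) (Lpe (K4.f27160 IH) (Lpe (K0.f27155 IH) (Lpe (K0.f20603 IH) (Lpe (K0.f20307 IH) (Lpe (f26588 IH) (Lpe (K2.f27174 IH) (Lpe (f27175 IH) (Lpe (K7.f27176 IH) (Lpe (f16157 IH) (Lpe (f27177 IH) (Lpn (LP (LK LD1_c8 LD2_c49 LD3_c52))))))))))))))))))))))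
theorem f161500 : Led Lsl_gt (LP (LK LD1_c8 LD2_c49 LD3_c52)) = (LP (LK LD1_c8 LD2_c45 LD3_c44)) :=
  Lgr Lrot49 (Lpe (f116774 IH) (Lpe (f96632 IH) (Lpe (K4.f60980 IH) (Lpr_gt (f113992 IH) (Lpr_dt (f26866 IH) (Lpr_gt (K6.f61661 IH) (Lpr_dt (K7.f149712 IH) (Lpe (f137718 IH) (Lpr_df (f161485 IH) (Lpn (LP (LK LD1_c8 LD2_c45 LD3_c44))))))))))))
theorem f16158 : Led Lsl_ct (LP (LK LD1_c4 LD2_c26 LD3_c13)) = (LP (LK LD1_c8 LD2_c49 LD3_c52)) :=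
  Lre_c IH (LK LD1_c4 LD2_c26 LD3_c13) (LK LD1_c8 LD2_c49 LD3_c52) Lrfl Lrfl
theorem f16154 : Led Lsl_gt (LP (LK LD1_c4 LD2_c25 LD3_c38)) = (LP (LK LD1_c2 LD2_c10 LD3_c23)) :=
  Lre_g IH (LK LD1_c4 LD2_c25 LD3_c38) (LK LD1_c2 LD2_c10 LD3_c23) Lrfl Lrfl
theorem f161396 : Led Lsl_bt (LP (LK LD1_c4 LD2_c23 LD3_c60)) = (LP (LK LD1_c7 LD2_c59 LD3_c55)) :=
  Lgr Lrot127 (Lpr_bf (f161392 IH) (Lpn (LP (LK LD1_c7 LD2_c59 LD3_c55))))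
theorem f149985 : Led Lsl_df (LP (LK LD1_c1 LD2_c20 LD3_c55)) = (LP (LK LD1_c1 LD2_c56 LD3_c31)) :=
  Lgr Lrot38 (Lpr_dt (K7.f149982 IH) (Lpn (LP (LK LD1_c1 LD2_c56 LD3_c31))))
theorem f73468 : Led Lsl_ct (LP (LK LD1_c2 LD2_c49 LD3_c32)) = (LP (LK LD1_c1 LD2_c20 LD3_c55)) :=
  Lre_c IH (LK LD1_c2 LD2_c49 LD3_c32) (LK LD1_c1 LD2_c20 LD3_c55) Lrfl Lrfl
theorem f138539 : Led Lsl_dt (LP (LK LD1_c5 LD2_c47 LD3_c15)) = (LP (LK LD1_c2 LD2_c49 LD3_c32)) :=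
  Lre_d IH (LK LD1_c5 LD2_c47 LD3_c15) (LK LD1_c2 LD2_c49 LD3_c32) Lrfl Lrfl
theorem f160950 : Led Lsl_gt (LP (LK LD1_c7 LD2_c59 LD3_c55)) = (LP (LK LD1_c5 LD2_c47 LD3_c15)) :=
  Lgr Lrot49 (Lpe (f101693 IH) (Lpr_gf (f160946 IH) (Lpe (f37071 IH) (Lpr_gt (K5.f37042 IH) (Lpr_dt (K1.f40035 IH) (Lpr_gt (K7.f36254 IH) (Lpe (f149985 IH) (Lpe (f73468 IH) (Lpe (f138539 IH) (Lpn (LP (LK LD1_c5 LD2_c47 LD3_c15))))))))))))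
theorem f35528 : Led Lsl_gt (LP (LK LD1_c3 LD2_c57 LD3_c59)) = (LP (LK LD1_c1 LD2_c55 LD3_c45)) :=
  Lre_g IH (LK LD1_c3 LD2_c57 LD3_c59) (LK LD1_c1 LD2_c55 LD3_c45) Lrfl Lrfl
theorem f73290 : Led Lsl_at (LP (LK LD1_c1 LD2_c20 LD3_c57)) = (LP (LK LD1_c0 LD2_c37 LD3_c23)) :=
  Lre_a IH (LK LD1_c1 LD2_c20 LD3_c57) (LK LD1_c0 LD2_c37 LD3_c23) Lrfl Lrfl
theorem f73291 : Led Lsl_ft (LP (LK LD1_c1 LD2_c28 LD3_c26)) = (LP (LK LD1_c1 LD2_c20 LD3_c57)) :=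
  Lgr Lrot101 (Lpe (K2.f60863 IH) (Lpr_ff (K2.f73282 IH) (Lpe (f73290 IH) (Lpn (LP (LK LD1_c1 LD2_c20 LD3_c57))))))
theorem f73470 : Led Lsl_gt (LP (LK LD1_c1 LD2_c28 LD3_c26)) = (LP (LK LD1_c1 LD2_c20 LD3_c56)) :=
  Lgr Lrot5 (Lpr_ft (f73291 IH) (Lpr_at (f73290 IH) (Lpe (f73285 IH) (Lpn (LP (LK LD1_c1 LD2_c20 LD3_c56))))))
theorem f73395 : Led Lsl_at (LP (LK LD1_c2 LD2_c49 LD3_c37)) = (LP (LK LD1_c1 LD2_c20 LD3_c58)) :=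
  Lre_a IH (LK LD1_c2 LD2_c49 LD3_c37) (LK LD1_c1 LD2_c20 LD3_c58) Lrfl Lrfl
theorem f73384 : Led Lsl_gt (LP (LK LD1_c2 LD2_c49 LD3_c40)) = (LP (LK LD1_c1 LD2_c20 LD3_c58)) :=
  Lre_g IH (LK LD1_c2 LD2_c49 LD3_c40) (LK LD1_c1 LD2_c20 LD3_c58) Lrfl Lrfl
theorem f73412 : Led Lsl_gt (LP (LK LD1_c3 LD2_c4 LD3_c1)) = (LP (LK LD1_c2 LD2_c49 LD3_c40)) :=
  Lgr Lrot5 (Lpr_ft (K4.f73405 IH) (Lpr_at (f73395 IH) (Lpe (f73384 IH) (Lpn (LP (LK LD1_c2 LD2_c49 LD3_c40))))))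
theorem f157824 : Led Lsl_df (LP (LK LD1_c3 LD2_c57 LD3_c59)) = (LP (LK LD1_c2 LD2_c49 LD3_c40)) :=
  Lgr Lrot153 (Lpr_gt (f35528 IH) (Lpr_dt (K1.f35527 IH) (Lpe (K1.f35530 IH) (Lpe (K1.f37454 IH) (Lpe (f36251 IH) (Lpr_df (f157809 IH) (Lpe (f73470 IH) (Lpe (K2.f60847 IH) (Lpr_gt (f73412 IH) (Lpn (LP (LK LD1_c2 LD2_c49 LD3_c40))))))))))))
theorem f59258 : Led Lsl_gt (LP (LK LD1_c3 LD2_c57 LD3_c60)) = (LP (LK LD1_c7 LD2_c57 LD3_c19)) :=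
  Lre_g IH (LK LD1_c3 LD2_c57 LD3_c60) (LK LD1_c7 LD2_c57 LD3_c19) Lrfl Lrfl
theorem f157843 : Led Lsl_ct (LP (LK LD1_c7 LD2_c57 LD3_c19)) = (LP (LK LD1_c5 LD2_c47 LD3_c15)) :=
  Lgr Lrot110 (Lpe (f59258 IH) (Lpe (K1.f37879 IH) (Lpe (f35528 IH) (Lpr_df (f157824 IH) (Lpr_gt (f73384 IH) (Lpr_ct (K2.f56747 IH) (Lpr_gt (K7.f56587 IH) (Lpr_ct (f59474 IH) (Lpe (f138539 IH) (Lpn (LP (LK LD1_c5 LD2_c47 LD3_c15))))))))))))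
theorem f157845 : Led Lsl_cf (LP (LK LD1_c7 LD2_c57 LD3_c19)) = (LP (LK LD1_c5 LD2_c47 LD3_c15)) :=
  Lgr Lrot11 (Lpr_ct (f157843 IH) (Lpn (LP (LK LD1_c5 LD2_c47 LD3_c15))))
theorem f161511 : Led Lsl_gf (LP (LK LD1_c8 LD2_c50 LD3_c2)) = (LP (LK LD1_c7 LD2_c57 LD3_c19)) :=
  Lgr Lrot129 (Lpe (K7.f16156 IH) (Lpe (K0.f16138 IH) (Lpr_gt (f16154 IH) (Lpe (f16157 IH) (Lpr_ct (f16158 IH) (Lpr_gt (f161500 IH) (Lpe (f112837 IH) (Lpr_bt (f161396 IH) (Lpr_gt (f160950 IH) (Lpe (f157845 IH) (Lpn (LP (LK LD1_c7 LD2_c57 LD3_c19)))))))))))))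
theorem f16155 : Led Lsl_ct (LP (LK LD1_c2 LD2_c10 LD3_c23)) = (LP (LK LD1_c4 LD2_c26 LD3_c14)) :=
  Lre_c IH (LK LD1_c2 LD2_c10 LD3_c23) (LK LD1_c4 LD2_c26 LD3_c14) Lrfl Lrfl
theorem f139777 : Led Lsl_df (LP (LK LD1_c4 LD2_c25 LD3_c52)) = (LP (LK LD1_c5 LD2_c50 LD3_c15)) :=
  Lgr Lrot162 (Lpe (K6.f80846 IH) (Lpe (K6.f99733 IH) (Lpe (K6.f60350 IH) (Lpr_gf (K6.f99804 IH) (Lpe (f139773 IH) (Lpr_gt (K6.f139769 IH) (Lpr_ct (K6.f15585 IH) (Lpr_gt (K6.f15594 IH) (Lpe (K6.f139759 IH) (Lpn (LP (LK LD1_c5 LD2_c50 LD3_c15))))))))))))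
theorem f139764 : Led Lsl_gt (LP (LK LD1_c11 LD2_c28 LD3_c45)) = (LP (LK LD1_c5 LD2_c50 LD3_c15)) :=
  Lre_g IH (LK LD1_c11 LD2_c28 LD3_c45) (LK LD1_c5 LD2_c50 LD3_c15) Lrfl Lrfl
theorem f80227 : Led Lsl_ct (LP (LK LD1_c4 LD2_c26 LD3_c11)) = (LP (LK LD1_c2 LD2_c10 LD3_c22)) :=
  Lre_c IH (LK LD1_c4 LD2_c26 LD3_c11) (LK LD1_c2 LD2_c10 LD3_c22) Lrfl Lrfl
theorem f80228 : Led Lsl_gt (LP (LK LD1_c8 LD2_c49 LD3_c46)) = (LP (LK LD1_c4 LD2_c26 LD3_c11)) :=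
  Lre_g IH (LK LD1_c8 LD2_c49 LD3_c46) (LK LD1_c4 LD2_c26 LD3_c11) Lrfl Lrfl
theorem f139767 : Led Lsl_df (LP (LK LD1_c11 LD2_c28 LD3_c45)) = (LP (LK LD1_c8 LD2_c49 LD3_c46)) :=
  Lgr Lrot155 (Lpr_gt (f139764 IH) (Lpr_ct (K6.f139756 IH) (Lpr_gt (K6.f36593 IH) (Lpr_ct (K6.f63824 IH) (Lpr_dt (K6.f16614 IH) (Lpe (K0.f16136 IH) (Lpe (K7.f16159 IH) (Lpe (f80227 IH) (Lpe (f80228 IH) (Lpn (LP (LK LD1_c8 LD2_c49 LD3_c46))))))))))))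
theorem f141171 : Led Lsl_gt (LP (LK LD1_c4 LD2_c26 LD3_c14)) = (LP (LK LD1_c8 LD2_c49 LD3_c46)) :=
  Lgr Lrot94 (Lpe (f16155 IH) (Lpr_gt (K7.f27176 IH) (Lpr_dt (f27175 IH) (Lpr_gt (K6.f35893 IH) (Lpr_dt (K6.f80845 IH) (Lpe (f99720 IH) (Lpr_df (f139777 IH) (Lpe (f139764 IH) (Lpr_df (f139767 IH) (Lpn (LP (LK LD1_c8 LD2_c49 LD3_c46))))))))))))
theorem f81835 : Led Lsl_bt (LP (LK LD1_c1 LD2_c22 LD3_c47)) = (LP (LK LD1_c1 LD2_c23 LD3_c4)) :=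
  Lgr Lrot127 (Lpr_bf (K6.f81833 IH) (Lpn (LP (LK LD1_c1 LD2_c23 LD3_c4))))
theorem f138873 : Led Lsl_at (LP (LK LD1_c1 LD2_c10 LD3_c53)) = (LP (LK LD1_c2 LD2_c27 LD3_c18)) :=
  Lre_a IH (LK LD1_c1 LD2_c10 LD3_c53) (LK LD1_c2 LD2_c27 LD3_c18) Lrfl Lrfl
theorem f138874 : Led Lsl_ft (LP (LK LD1_c2 LD2_c26 LD3_c60)) = (LP (LK LD1_c1 LD2_c10 LD3_c53)) :=
  Lre_f IH (LK LD1_c2 LD2_c26 LD3_c60) (LK LD1_c1 LD2_c10 LD3_c53) Lrfl Lrfl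
theorem f158466 : Led Lsl_gt (LP (LK LD1_c2 LD2_c26 LD3_c60)) = (LP (LK LD1_c2 LD2_c53 LD3_c24)) :=
  Lgr Lrot5 (Lpr_ft (f138874 IH) (Lpr_at (f138873 IH) (Lpr_gf (f158464 IH) (Lpn (LP (LK LD1_c2 LD2_c53 LD3_c24))))))
theorem f161102 : Led Lsl_ct (LP (LK LD1_c3 LD2_c59 LD3_c21)) = (LP (LK LD1_c2 LD2_c26 LD3_c60)) :=
  Lgr Lrot64 (Lpr_bt (f132700 IH) (Lpe (f101692 IH) (Lpr_bf (f160934 IH) (Lpe (K6.f35241 IH) (Lpe (f160932 IH) (Lpr_cf (f160930 IH) (Lpr_gf (f161095 IH) (Lpe (f81835 IH) (Lpr_ct (K6.f71024 IH) (Lpe (f158466 IH) (Lpn (LP (LK LD1_c2 LD2_c26 LD3_c60)))))))))))))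
theorem f149404 : Led Lsl_gt (LP (LK LD1_c2 LD2_c15 LD3_c5)) = (LP (LK LD1_c3 LD2_c59 LD3_c21)) :=
  Lgr Lrot94 (Lpe (K7.f104777 IH) (Lpr_gt (K7.f149400 IH) (Lpr_dt (K2.f71007 IH) (Lpe (f138483 IH) (Lpr_dt (K6.f80266 IH) (Lpe (K5.f60871 IH) (Lpe (K6.f80269 IH) (Lpe (f132687 IH) (Lpr_df (f132691 IH) (Lpn (LP (LK LD1_c3 LD2_c59 LD3_c21))))))))))))
theorem f149289 : Led Lsl_gt (LP (LK LD1_c4 LD2_c35 LD3_c48)) = (LP (LK LD1_c9 LD2_c7 LD3_c59)) :=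
  Lre_g IH (LK LD1_c4 LD2_c35 LD3_c48) (LK LD1_c9 LD2_c7 LD3_c59) Lrfl Lrfl
theorem f71195 : Led Lsl_dt (LP (LK LD1_c2 LD2_c53 LD3_c25)) = (LP (LK LD1_c1 LD2_c22 LD3_c47)) :=
  Lre_d IH (LK LD1_c2 LD2_c53 LD3_c25) (LK LD1_c1 LD2_c22 LD3_c47) Lrfl Lrfl
theorem f76303 : Led Lsl_ct (LP (LK LD1_c5 LD2_c54 LD3_c4)) = (LP (LK LD1_c2 LD2_c53 LD3_c25)) :=
  Lre_c IH (LK LD1_c5 LD2_c54 LD3_c4) (LK LD1_c2 LD2_c53 LD3_c25) Lrfl Lrfl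
theorem f76315 : Led Lsl_gt (LP (LK LD1_c11 LD2_c33 LD3_c56)) = (LP (LK LD1_c5 LD2_c54 LD3_c4)) :=
  Lre_g IH (LK LD1_c11 LD2_c33 LD3_c56) (LK LD1_c5 LD2_c54 LD3_c4) Lrfl Lrfl
theorem f161116 : Led Lsl_ct (LP (LK LD1_c9 LD2_c7 LD3_c59)) = (LP (LK LD1_c11 LD2_c33 LD3_c56)) :=
  Lgr Lrot152 (Lpe (f149289 IH) (Lpe (K7.f149021 IH) (Lpr_gt (f149404 IH) (Lpr_ct (f161102 IH) (Lpr_gt (f158466 IH) (Lpr_ct (K4.f71025 IH) (Lpe (f71195 IH) (Lpe (f76303 IH) (Lpe (f76315 IH) (Lpn (LP (LK LD1_c11 LD2_c33 LD3_c56))))))))))))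
theorem f161163 : Led Lsl_cf (LP (LK LD1_c9 LD2_c7 LD3_c59)) = (LP (LK LD1_c11 LD2_c33 LD3_c56)) :=
  Lgr Lrot11 (Lpr_ct (f161116 IH) (Lpn (LP (LK LD1_c11 LD2_c33 LD3_c56))))
theorem f78318 : Led Lsl_bt (LP (LK LD1_c4 LD2_c45 LD3_c38)) = (LP (LK LD1_c9 LD2_c23 LD3_c56)) :=
  Lre_b IH (LK LD1_c4 LD2_c45 LD3_c38) (LK LD1_c9 LD2_c23 LD3_c56) Lrfl Lrfl
theorem f78281 : Led Lsl_df (LP (LK LD1_c4 LD2_c45 LD3_c38)) = (LP (LK LD1_c4 LD2_c42 LD3_c37)) :=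
  Lgr Lrot38 (Lpr_dt (K6.f78251 IH) (Lpn (LP (LK LD1_c4 LD2_c42 LD3_c37))))
theorem f78330 : Led Lsl_bf (LP (LK LD1_c4 LD2_c42 LD3_c37)) = (LP (LK LD1_c7 LD2_c56 LD3_c44)) :=
  Lgr Lrot93 (Lpe (f78281 IH) (Lpr_bt (f78318 IH) (Lpr_dt (K6.f78326 IH) (Lpn (LP (LK LD1_c7 LD2_c56 LD3_c44))))))
theorem f78329 : Led Lsl_ct (LP (LK LD1_c14 LD2_c59 LD3_c27)) = (LP (LK LD1_c7 LD2_c56 LD3_c43)) :=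
  Lre_c IH (LK LD1_c14 LD2_c59 LD3_c27) (LK LD1_c7 LD2_c56 LD3_c43) Lrfl Lrfl
theorem f110857 : Led Lsl_gt (LP (LK LD1_c9 LD2_c16 LD3_c24)) = (LP (LK LD1_c17 LD2_c10 LD3_c60)) :=
  Lre_g IH (LK LD1_c9 LD2_c16 LD3_c24) (LK LD1_c17 LD2_c10 LD3_c60) Lrfl Lrfl
theorem f110858 : Led Lsl_gt (LP (LK LD1_c17 LD2_c10 LD3_c60)) = (LP (LK LD1_c9 LD2_c26 LD3_c23)) :=
  Lgr Lrot46 (Lpe (f110857 IH) (Lpr_ft (K7.f110848 IH) (Lpr_at (K7.f110577 IH) (Lpn (LP (LK LD1_c9 LD2_c26 LD3_c23))))))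
theorem f161173 : Led Lsl_bf (LP (LK LD1_c17 LD2_c10 LD3_c60)) = (LP (LK LD1_c11 LD2_c33 LD3_c56)) :=
  Lgr Lrot156 (Lpr_gt (f110858 IH) (Lpr_bf (K7.f150123 IH) (Lpr_ct (f78329 IH) (Lpr_gt (K7.f59247 IH) (Lpe (K6.f59235 IH) (Lpe (f78330 IH) (Lpe (K7.f149926 IH) (Lpr_ct (K7.f149042 IH) (Lpr_gt (f149289 IH) (Lpr_cf (f161163 IH) (Lpn (LP (LK LD1_c11 LD2_c33 LD3_c56)))))))))))))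
theorem f110851 : Led Lsl_bt (LP (LK LD1_c4 LD2_c40 LD3_c31)) = (LP (LK LD1_c9 LD2_c16 LD3_c24)) :=
  Lre_b IH (LK LD1_c4 LD2_c40 LD3_c31) (LK LD1_c9 LD2_c16 LD3_c24) Lrfl Lrfl
theorem f37826 : Led Lsl_dt (LP (LK LD1_c4 LD2_c35 LD3_c54)) = (LP (LK LD1_c2 LD2_c15 LD3_c8)) :=
  Lre_d IH (LK LD1_c4 LD2_c35 LD3_c54) (LK LD1_c2 LD2_c15 LD3_c8) Lrfl Lrfl
theorem f149297 : Led Lsl_ct (LP (LK LD1_c4 LD2_c44 LD3_c49)) = (LP (LK LD1_c4 LD2_c35 LD3_c54)) :=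
  Lgr Lrot176 (Lpe (K6.f102923 IH) (Lpe (K3.f102345 IH) (Lpe (K7.f149085 IH) (Lpe (K4.f34734 IH) (Lpe (K4.f34733 IH) (Lpe (K7.f35551 IH) (Lpe (K7.f104778 IH) (Lpe (K7.f149042 IH) (Lpr_df (K7.f149161 IH) (Lpr_cf (K7.f94793 IH) (Lpr_df (K7.f149292 IH) (Lpe (K7.f71122 IH) (Lpe (K7.f37814 IH) (Lpe (K7.f37768 IH) (Lpe (f37826 IH) (Lpn (LP (LK LD1_c4 LD2_c35 LD3_c54))))))))))))))))))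
theorem f161177 : Led Lsl_gf (LP (LK LD1_c4 LD2_c35 LD3_c54)) = (LP (LK LD1_c9 LD2_c7 LD3_c59)) :=
  Lgr Lrot126 (Lpe (f149297 IH) (Lpr_bt (K7.f102960 IH) (Lpr_gt (K3.f102963 IH) (Lpr_ct (K3.f103256 IH) (Lpe (K3.f103264 IH) (Lpe (K4.f110789 IH) (Lpr_bt (f110851 IH) (Lpr_gt (f110857 IH) (Lpr_bf (f161173 IH) (Lpe (f161163 IH) (Lpn (LP (LK LD1_c9 LD2_c7 LD3_c59)))))))))))))
theorem f59257 : Led Lsl_bt (LP (LK LD1_c1 LD2_c55 LD3_c45)) = (LP (LK LD1_c0 LD2_c54 LD3_c36)) :=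
  Lre_b IH (LK LD1_c1 LD2_c55 LD3_c45) (LK LD1_c0 LD2_c54 LD3_c36) Lrfl Lrfl
theorem f161179 : Led Lsl_bt (LP (LK LD1_c5 LD2_c47 LD3_c15)) = (LP (LK LD1_c9 LD2_c7 LD3_c59)) :=
  Lgr Lrot130 (Lpe (f157845 IH) (Lpe (f59258 IH) (Lpe (K1.f37879 IH) (Lpr_bt (f59257 IH) (Lpe (K1.f59244 IH) (Lpe (K6.f59248 IH) (Lpr_ct (K6.f59233 IH) (Lpe (K7.f149928 IH) (Lpr_cf (K7.f149334 IH) (Lpr_gf (f161177 IH) (Lpn (LP (LK LD1_c9 LD2_c7 LD3_c59)))))))))))))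
theorem f149015 : Led Lsl_bf (LP (LK LD1_c4 LD2_c35 LD3_c48)) = (LP (LK LD1_c5 LD2_c51 LD3_c1)) :=
  Lgr Lrot93 (Lpr_dt (K7.f104778 IH) (Lpr_bt (K7.f149009 IH) (Lpr_dt (K7.f141927 IH) (Lpn (LP (LK LD1_c5 LD2_c51 LD3_c1))))))
theorem f161513 : Led Lsl_cf (LP (LK LD1_c8 LD2_c49 LD3_c46)) = (LP (LK LD1_c5 LD2_c51 LD3_c1)) :=
  Lgr Lrot163 (Lpe (f141171 IH) (Lpe (f16155 IH) (Lpe (f16154 IH) (Lpr_bf (K0.f16138 IH) (Lpr_ct (K7.f16156 IH) (Lpr_gf (f161511 IH) (Lpr_cf (f157845 IH) (Lpr_bt (f161179 IH) (Lpe (f149289 IH) (Lpr_bf (f149015 IH) (Lpn (LP (LK LD1_c5 LD2_c51 LD3_c1)))))))))))))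
theorem f142085 : Led Lsl_dt (LP (LK LD1_c2 LD2_c49 LD3_c5)) = (LP (LK LD1_c5 LD2_c46 LD3_c47)) :=
  Lre_d IH (LK LD1_c2 LD2_c49 LD3_c5) (LK LD1_c5 LD2_c46 LD3_c47) Lrfl Lrfl
theorem f161527 : Led Lsl_gt (LP (LK LD1_c5 LD2_c46 LD3_c47)) = (LP (LK LD1_c5 LD2_c51 LD3_c1)) :=
  Lgr Lrot9 (Lpe (f142085 IH) (Lpr_gt (K4.f73025 IH) (Lpr_ct (K4.f57258 IH) (Lpr_gt (f132406 IH) (Lpr_ct (f142074 IH) (Lpr_df (f80223 IH) (Lpe (f80227 IH) (Lpe (f80228 IH) (Lpr_cf (f161513 IH) (Lpn (LP (LK LD1_c5 LD2_c51 LD3_c1))))))))))))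
theorem f114923 : Led Lsl_dt (LP (LK LD1_c4 LD2_c26 LD3_c8)) = (LP (LK LD1_c3 LD2_c17 LD3_c52)) :=
  Lre_d IH (LK LD1_c4 LD2_c26 LD3_c8) (LK LD1_c3 LD2_c17 LD3_c52) Lrfl Lrfl
theorem f14762 : Led Lsl_gt (LP (LK LD1_c8 LD2_c49 LD3_c38)) = (LP (LK LD1_c4 LD2_c26 LD3_c8)) :=
  Lre_g IH (LK LD1_c8 LD2_c49 LD3_c38) (LK LD1_c4 LD2_c26 LD3_c8) Lrfl Lrfl
theorem f161535 : Led Lsl_cf (LP (LK LD1_c5 LD2_c46 LD3_c47)) = (LP (LK LD1_c8 LD2_c49 LD3_c38)) :=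
  Lgr Lrot166 (Lpr_gt (f161527 IH) (Lpr_dt (K7.f24202 IH) (Lpe (K7.f149001 IH) (Lpr_dt (K7.f141258 IH) (Lpe (K7.f141259 IH) (Lpe (K6.f139671 IH) (Lpr_gf (K7.f139668 IH) (Lpe (f114923 IH) (Lpe (f14762 IH) (Lpn (LP (LK LD1_c8 LD2_c49 LD3_c38))))))))))))
theorem f73027 : Led Lsl_gt (LP (LK LD1_c2 LD2_c48 LD3_c56)) = (LP (LK LD1_c1 LD2_c20 LD3_c34)) :=
  Lre_g IH (LK LD1_c2 LD2_c48 LD3_c56) (LK LD1_c1 LD2_c20 LD3_c34) Lrfl Lrfl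
theorem f139588 : Led Lsl_gt (LP (LK LD1_c4 LD2_c26 LD3_c21)) = (LP (LK LD1_c8 LD2_c49 LD3_c38)) :=
  Lre_g IH (LK LD1_c4 LD2_c26 LD3_c21) (LK LD1_c8 LD2_c49 LD3_c38) Lrfl Lrfl
theorem f161544 : Led Lsl_df (LP (LK LD1_c2 LD2_c48 LD3_c56)) = (LP (LK LD1_c4 LD2_c26 LD3_c6)) :=
  Lgr Lrot155 (Lpr_gt (f73027 IH) (Lpr_ct (K5.f56598 IH) (Lpr_gt (K4.f73023 IH) (Lpr_ct (K4.f73024 IH) (Lpr_dt (f142085 IH) (Lpr_cf (f161535 IH) (Lpe (f139588 IH) (Lpe (K7.f139590 IH) (Lpe (K7.f37894 IH) (Lpn (LP (LK LD1_c4 LD2_c26 LD3_c6))))))))))))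
theorem f148954 : Led Lsl_at (LP (LK LD1_c1 LD2_c2 LD3_c11)) = (LP (LK LD1_c2 LD2_c10 LD3_c11)) :=
  Lre_a IH (LK LD1_c1 LD2_c2 LD3_c11) (LK LD1_c2 LD2_c10 LD3_c11) Lrfl Lrfl
theorem f148956 : Led Lsl_gf (LP (LK LD1_c1 LD2_c2 LD3_c13)) = (LP (LK LD1_c2 LD2_c10 LD3_c16)) :=
  Lgr Lrot47 (Lpr_gt (K7.f148947 IH) (Lpe (f148954 IH) (Lpe (f148955 IH) (Lpn (LP (LK LD1_c2 LD2_c10 LD3_c16))))))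
theorem f75443 : Led Lsl_et (LP (LK LD1_c2 LD2_c27 LD3_c35)) = (LP (LK LD1_c1 LD2_c10 LD3_c58)) :=
  Lre_e IH (LK LD1_c2 LD2_c27 LD3_c35) (LK LD1_c1 LD2_c10 LD3_c58) Lrfl Lrfl
theorem f75444 : Led Lsl_dt (LP (LK LD1_c4 LD2_c59 LD3_c28)) = (LP (LK LD1_c2 LD2_c27 LD3_c35)) :=
  Lre_d IH (LK LD1_c4 LD2_c59 LD3_c28) (LK LD1_c2 LD2_c27 LD3_c35) Lrfl Lrfl
theorem f75445 : Led Lsl_et (LP (LK LD1_c1 LD2_c24 LD3_c48)) = (LP (LK LD1_c2 LD2_c58 LD3_c17)) :=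
  Lre_e IH (LK LD1_c1 LD2_c24 LD3_c48) (LK LD1_c2 LD2_c58 LD3_c17) Lrfl Lrfl
theorem f56025 : Led Lsl_dt (LP (LK LD1_c2 LD2_c58 LD3_c17)) = (LP (LK LD1_c6 LD2_c4 LD3_c15)) :=
  Lre_d IH (LK LD1_c2 LD2_c58 LD3_c17) (LK LD1_c6 LD2_c4 LD3_c15) Lrfl Lrfl
theorem f75446 : Led Lsl_ef (LP (LK LD1_c4 LD2_c59 LD3_c28)) = (LP (LK LD1_c6 LD2_c4 LD3_c15)) :=
  Lgr Lrot73 (Lpr_dt (f75444 IH) (Lpr_et (f75443 IH) (Lpr_dt (K4.f75398 IH) (Lpr_et (f75445 IH) (Lpr_dt (f56025 IH) (Lpn (LP (LK LD1_c6 LD2_c4 LD3_c15))))))))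
theorem f75478 : Led Lsl_et (LP (LK LD1_c4 LD2_c59 LD3_c28)) = (LP (LK LD1_c6 LD2_c4 LD3_c15)) :=
  Lgr Lrot87 (Lpr_ef (f75446 IH) (Lpn (LP (LK LD1_c6 LD2_c4 LD3_c15))))
theorem f75485 : Led Lsl_bt (LP (LK LD1_c9 LD2_c49 LD3_c5)) = (LP (LK LD1_c4 LD2_c59 LD3_c28)) :=
  Lre_b IH (LK LD1_c9 LD2_c49 LD3_c5) (LK LD1_c4 LD2_c59 LD3_c28) Lrfl Lrfl
theorem f75486 : Led Lsl_bt (LP (LK LD1_c6 LD2_c4 LD3_c15)) = (LP (LK LD1_c11 LD2_c51 LD3_c59)) :=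
  Lre_b IH (LK LD1_c6 LD2_c4 LD3_c15) (LK LD1_c11 LD2_c51 LD3_c59) Lrfl Lrfl
theorem f75487 : Led Lsl_ef (LP (LK LD1_c9 LD2_c49 LD3_c5)) = (LP (LK LD1_c11 LD2_c51 LD3_c59)) :=
  Lgr Lrot29 (Lpr_bt (f75485 IH) (Lpr_et (f75478 IH) (Lpr_bt (f75486 IH) (Lpn (LP (LK LD1_c11 LD2_c51 LD3_c59))))))
theorem f57011 : Led Lsl_dt (LP (LK LD1_c9 LD2_c49 LD3_c5)) = (LP (LK LD1_c4 LD2_c59 LD3_c21)) :=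
  Lre_d IH (LK LD1_c9 LD2_c49 LD3_c5) (LK LD1_c4 LD2_c59 LD3_c21) Lrfl Lrfl
theorem f75494 : Led Lsl_dt (LP (LK LD1_c6 LD2_c4 LD3_c14)) = (LP (LK LD1_c11 LD2_c51 LD3_c59)) :=
  Lre_d IH (LK LD1_c6 LD2_c4 LD3_c14) (LK LD1_c11 LD2_c51 LD3_c59) Lrfl Lrfl
theorem f75495 : Led Lsl_et (LP (LK LD1_c2 LD2_c58 LD3_c15)) = (LP (LK LD1_c6 LD2_c4 LD3_c14)) :=
  Lre_e IH (LK LD1_c2 LD2_c58 LD3_c15) (LK LD1_c6 LD2_c4 LD3_c14) Lrfl Lrfl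
theorem f75496 : Led Lsl_dt (LP (LK LD1_c2 LD2_c27 LD3_c33)) = (LP (LK LD1_c2 LD2_c58 LD3_c15)) :=
  Lgr Lrot77 (Lpe (K4.f56854 IH) (Lpe (f57011 IH) (Lpr_ef (f75487 IH) (Lpe (f75494 IH) (Lpe (f75495 IH) (Lpn (LP (LK LD1_c2 LD2_c58 LD3_c15))))))))
theorem f161554 : Led Lsl_cf (LP (LK LD1_c2 LD2_c48 LD3_c56)) = (LP (LK LD1_c2 LD2_c58 LD3_c15)) :=
  Lgr Lrot14 (Lpr_df (f161544 IH) (Lpe (K7.f40086 IH) (Lpe (K7.f139611 IH) (Lpr_gf (f148956 IH) (Lpr_ct (f138885 IH) (Lpe (f158137 IH) (Lpr_dt (K7.f82035 IH) (Lpr_gt (K7.f82050 IH) (Lpr_dt (f75496 IH) (Lpn (LP (LK LD1_c2 LD2_c58 LD3_c15))))))))))))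
theorem f132472 : Led Lsl_dt (LP (LK LD1_c5 LD2_c47 LD3_c52)) = (LP (LK LD1_c2 LD2_c49 LD3_c58)) :=
  Lre_d IH (LK LD1_c5 LD2_c47 LD3_c52) (LK LD1_c2 LD2_c49 LD3_c58) Lrfl Lrfl
theorem f161561 : Led Lsl_gt (LP (LK LD1_c2 LD2_c49 LD3_c58)) = (LP (LK LD1_c2 LD2_c58 LD3_c15)) :=
  Lgr Lrot9 (Lpe (f132472 IH) (Lpe (f132473 IH) (Lpr_ct (K6.f99968 IH) (Lpr_gt (K6.f27159 IH) (Lpr_ct (K4.f27157 IH) (Lpr_df (K5.f59875 IH) (Lpe (K5.f56598 IH) (Lpe (f73027 IH) (Lpr_cf (f161554 IH) (Lpn (LP (LK LD1_c2 LD2_c58 LD3_c15))))))))))))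
theorem f99927 : Led Lsl_gf (LP (LK LD1_c4 LD2_c37 LD3_c6)) = (LP (LK LD1_c3 LD2_c2 LD3_c3)) :=
  Lgr Lrot76 (Lpr_af (K6.f99913 IH) (Lpe (K6.f99912 IH) (Lpr_gt (K6.f23040 IH) (Lpn (LP (LK LD1_c3 LD2_c2 LD3_c3))))))
theorem f75078 : Led Lsl_bt (LP (LK LD1_c1 LD2_c24 LD3_c48)) = (LP (LK LD1_c2 LD2_c58 LD3_c15)) :=
  Lre_b IH (LK LD1_c1 LD2_c24 LD3_c48) (LK LD1_c2 LD2_c58 LD3_c15) Lrfl Lrfl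
theorem f75439 : Led Lsl_df (LP (LK LD1_c2 LD2_c27 LD3_c33)) = (LP (LK LD1_c2 LD2_c58 LD3_c15)) :=
  Lgr Lrot12 (Lpr_bt (K4.f56839 IH) (Lpr_dt (K4.f75398 IH) (Lpr_bt (f75078 IH) (Lpn (LP (LK LD1_c2 LD2_c58 LD3_c15))))))
theorem f161563 : Led Lsl_gt (LP (LK LD1_c6 LD2_c38 LD3_c56)) = (LP (LK LD1_c3 LD2_c17 LD3_c46)) :=
  Lgr Lrot49 (Lpe (f156966 IH) (Lpr_gf (f99927 IH) (Lpr_cf (K6.f99697 IH) (Lpr_gt (f157889 IH) (Lpr_dt (f132472 IH) (Lpr_gt (f161561 IH) (Lpe (f75439 IH) (Lpe (K7.f56851 IH) (Lpe (K6.f56860 IH) (Lpn (LP (LK LD1_c3 LD2_c17 LD3_c46))))))))))))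
theorem f22559 : Led Lsl_bt (LP (LK LD1_c0 LD2_c43 LD3_c28)) = (LP (LK LD1_c1 LD2_c33 LD3_c42)) :=
  Lre_b IH (LK LD1_c0 LD2_c43 LD3_c28) (LK LD1_c1 LD2_c33 LD3_c42) Lrfl Lrfl
theorem f22562 : Led Lsl_ct (LP (LK LD1_c1 LD2_c33 LD3_c42)) = (LP (LK LD1_c3 LD2_c14 LD3_c16)) :=
  Lre_c IH (LK LD1_c1 LD2_c33 LD3_c42) (LK LD1_c3 LD2_c14 LD3_c16) Lrfl Lrfl
theorem f22564 : Led Lsl_ct (LP (LK LD1_c5 LD2_c52 LD3_c22)) = (LP (LK LD1_c2 LD2_c52 LD3_c33)) :=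
  Lre_c IH (LK LD1_c5 LD2_c52 LD3_c22) (LK LD1_c2 LD2_c52 LD3_c33) Lrfl Lrfl
theorem f22565 : Led Lsl_bt (LP (LK LD1_c3 LD2_c14 LD3_c16)) = (LP (LK LD1_c5 LD2_c52 LD3_c22)) :=
  Lgr Lrot128 (Lpe (f22562 IH) (Lpe (f22559 IH) (Lpr_cf (K7.f22554 IH) (Lpe (K7.f22563 IH) (Lpe (f22564 IH) (Lpn (LP (LK LD1_c5 LD2_c52 LD3_c22))))))))
theorem f22573 : Led Lsl_ft (LP (LK LD1_c1 LD2_c33 LD3_c39)) = (LP (LK LD1_c3 LD2_c14 LD3_c16)) :=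
  Lre_f IH (LK LD1_c1 LD2_c33 LD3_c39) (LK LD1_c3 LD2_c14 LD3_c16) Lrfl Lrfl
theorem f22574 : Led Lsl_ft (LP (LK LD1_c5 LD2_c52 LD3_c22)) = (LP (LK LD1_c2 LD2_c52 LD3_c29)) :=
  Lre_f IH (LK LD1_c5 LD2_c52 LD3_c22) (LK LD1_c2 LD2_c52 LD3_c29) Lrfl Lrfl
theorem f22575 : Led Lsl_bf (LP (LK LD1_c1 LD2_c33 LD3_c39)) = (LP (LK LD1_c2 LD2_c52 LD3_c29)) :=
  Lgr Lrot61 (Lpr_ft (f22573 IH) (Lpr_bt (f22565 IH) (Lpr_ft (f22574 IH) (Lpn (LP (LK LD1_c2 LD2_c52 LD3_c29))))))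
theorem f22591 : Led Lsl_et (LP (LK LD1_c1 LD2_c33 LD3_c39)) = (LP (LK LD1_c0 LD2_c43 LD3_c24)) :=
  Lre_e IH (LK LD1_c1 LD2_c33 LD3_c39) (LK LD1_c0 LD2_c43 LD3_c24) Lrfl Lrfl
theorem f22592 : Led Lsl_et (LP (LK LD1_c1 LD2_c22 LD3_c18)) = (LP (LK LD1_c2 LD2_c52 LD3_c29)) :=
  Lre_e IH (LK LD1_c1 LD2_c22 LD3_c18) (LK LD1_c2 LD2_c52 LD3_c29) Lrfl Lrfl
theorem f22593 : Led Lsl_bt (LP (LK LD1_c0 LD2_c43 LD3_c24)) = (LP (LK LD1_c1 LD2_c22 LD3_c18)) :=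
  Lgr Lrot119 (Lpe (f22591 IH) (Lpr_bf (f22575 IH) (Lpe (f22592 IH) (Lpn (LP (LK LD1_c1 LD2_c22 LD3_c18))))))
theorem f22625 : Led Lsl_gt (LP (LK LD1_c2 LD2_c52 LD3_c27)) = (LP (LK LD1_c1 LD2_c22 LD3_c18)) :=
  Lre_g IH (LK LD1_c2 LD2_c52 LD3_c27) (LK LD1_c1 LD2_c22 LD3_c18) Lrfl Lrfl
theorem f22626 : Led Lsl_bt (LP (LK LD1_c5 LD2_c52 LD3_c17)) = (LP (LK LD1_c2 LD2_c52 LD3_c27)) :=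
  Lre_b IH (LK LD1_c5 LD2_c52 LD3_c17) (LK LD1_c2 LD2_c52 LD3_c27) Lrfl Lrfl
theorem f161570 : Led Lsl_ct (LP (LK LD1_c5 LD2_c52 LD3_c17)) = (LP (LK LD1_c3 LD2_c17 LD3_c46)) :=
  Lgr Lrot63 (Lpr_bt (f22626 IH) (Lpr_gt (f22625 IH) (Lpe (f22593 IH) (Lpr_ct (f22483 IH) (Lpr_gt (K3.f22497 IH) (Lpe (K6.f22622 IH) (Lpr_bt (K6.f22623 IH) (Lpr_gt (K6.f22624 IH) (Lpr_ct (f156964 IH) (Lpr_gt (f161563 IH) (Lpn (LP (LK LD1_c3 LD2_c17 LD3_c46)))))))))))))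
theorem f161576 : Led Lsl_gt (LP (LK LD1_c5 LD2_c52 LD3_c17)) = (LP (LK LD1_c11 LD2_c31 LD3_c20)) :=
  Lre_g IH (LK LD1_c5 LD2_c52 LD3_c17) (LK LD1_c11 LD2_c31 LD3_c20) Lrfl Lrfl
theorem f157253 : Led Lsl_ff (LP (LK LD1_c9 LD2_c9 LD3_c45)) = (LP (LK LD1_c8 LD2_c49 LD3_c7)) :=
  Lgr Lrot3 (Lpr_ft (f157249 IH) (Lpn (LP (LK LD1_c8 LD2_c49 LD3_c7))))
theorem f157255 : Led Lsl_at (LP (LK LD1_c9 LD2_c9 LD3_c45)) = (LP (LK LD1_c8 LD2_c49 LD3_c8)) :=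
  Lgr Lrot66 (Lpr_ff (f157253 IH) (Lpe (f157234 IH) (Lpr_ff (f157229 IH) (Lpn (LP (LK LD1_c8 LD2_c49 LD3_c8))))))
theorem f99735 : Led Lsl_gt (LP (LK LD1_c4 LD2_c26 LD3_c1)) = (LP (LK LD1_c8 LD2_c49 LD3_c8)) :=
  Lre_g IH (LK LD1_c4 LD2_c26 LD3_c1) (LK LD1_c8 LD2_c49 LD3_c8) Lrfl Lrfl
theorem f157259 : Led Lsl_gf (LP (LK LD1_c4 LD2_c26 LD3_c1)) = (LP (LK LD1_c8 LD2_c49 LD3_c7)) :=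
  Lgr Lrot47 (Lpr_gt (f99735 IH) (Lpe (f157255 IH) (Lpr_ff (f157253 IH) (Lpn (LP (LK LD1_c8 LD2_c49 LD3_c7))))))
theorem f161577 : Led Lsl_dt (LP (LK LD1_c11 LD2_c31 LD3_c20)) = (LP (LK LD1_c8 LD2_c49 LD3_c7)) :=
  Lgr Lrot115 (Lpe (f161576 IH) (Lpr_ct (f161570 IH) (Lpr_gt (K6.f116863 IH) (Lpr_dt (K5.f27158 IH) (Lpr_gt (K6.f23040 IH) (Lpr_dt (K6.f100247 IH) (Lpe (K6.f100354 IH) (Lpe (K6.f99705 IH) (Lpr_gf (f157259 IH) (Lpn (LP (LK LD1_c8 LD2_c49 LD3_c7))))))))))))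
theorem f147506 : Led Lsl_dt (LP (LK LD1_c5 LD2_c46 LD3_c26)) = (LP (LK LD1_c6 LD2_c31 LD3_c21)) :=
  Lgr Lrot42 (Lpr_df (K6.f147499 IH) (Lpn (LP (LK LD1_c6 LD2_c31 LD3_c21))))
theorem f132528 : Led Lsl_ct (LP (LK LD1_c6 LD2_c38 LD3_c57)) = (LP (LK LD1_c3 LD2_c17 LD3_c43)) :=
  Lre_c IH (LK LD1_c6 LD2_c38 LD3_c57) (LK LD1_c3 LD2_c17 LD3_c43) Lrfl Lrfl
theorem f161584 : Led Lsl_gt (LP (LK LD1_c11 LD2_c31 LD3_c20)) = (LP (LK LD1_c6 LD2_c38 LD3_c57)) :=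
  Lgr Lrot146 (Lpr_dt (f161577 IH) (Lpe (f157259 IH) (Lpr_ct (K6.f99723 IH) (Lpe (K5.f99659 IH) (Lpr_ct (K5.f60264 IH) (Lpr_dt (f147506 IH) (Lpr_cf (f156961 IH) (Lpe (f156960 IH) (Lpe (f132528 IH) (Lpn (LP (LK LD1_c6 LD2_c38 LD3_c57))))))))))))
theorem f132534 : Led Lsl_dt (LP (LK LD1_c1 LD2_c35 LD3_c24)) = (LP (LK LD1_c3 LD2_c17 LD3_c43)) :=
  Lre_d IH (LK LD1_c1 LD2_c35 LD3_c24) (LK LD1_c3 LD2_c17 LD3_c43) Lrfl Lrfl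
theorem f148916 : Led Lsl_at (LP (LK LD1_c2 LD2_c50 LD3_c11)) = (LP (LK LD1_c4 LD2_c58 LD3_c21)) :=
  Lgr Lrot66 (Lpe (K6.f141932 IH) (Lpr_af (K7.f141905 IH) (Lpr_ff (K7.f148914 IH) (Lpn (LP (LK LD1_c4 LD2_c58 LD3_c21))))))
theorem f149880 : Led Lsl_gf (LP (LK LD1_c3 LD2_c17 LD3_c42)) = (LP (LK LD1_c4 LD2_c34 LD3_c29)) :=
  Lgr Lrot47 (Lpr_gt (K7.f149878 IH) (Lpe (f148916 IH) (Lpe (K6.f141932 IH) (Lpn (LP (LK LD1_c4 LD2_c34 LD3_c29))))))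
theorem f152571 : Led Lsl_gt (LP (LK LD1_c3 LD2_c12 LD3_c27)) = (LP (LK LD1_c6 LD2_c28 LD3_c59)) :=
  Lre_g IH (LK LD1_c3 LD2_c12 LD3_c27) (LK LD1_c6 LD2_c28 LD3_c59) Lrfl Lrfl
theorem f161586 : Led Lsl_cf (LP (LK LD1_c11 LD2_c31 LD3_c20)) = (LP (LK LD1_c6 LD2_c28 LD3_c59)) :=
  Lgr Lrot169 (Lpr_gt (f161584 IH) (Lpr_ct (f132528 IH) (Lpe (f132534 IH) (Lpe (f26509 IH) (Lpr_gf (f149880 IH) (Lpr_cf (K5.f130558 IH) (Lpe (K5.f99567 IH) (Lpr_df (K7.f152532 IH) (Lpr_gt (f152571 IH) (Lpn (LP (LK LD1_c6 LD2_c28 LD3_c59))))))))))))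
theorem f161582 : Led Lsl_df (LP (LK LD1_c11 LD2_c31 LD3_c20)) = (LP (LK LD1_c8 LD2_c49 LD3_c7)) :=
  Lgr Lrot38 (Lpr_dt (f161577 IH) (Lpn (LP (LK LD1_c8 LD2_c49 LD3_c7))))
theorem f70482 : Led Lsl_dt (LP (LK LD1_c4 LD2_c24 LD3_c42)) = (LP (LK LD1_c8 LD2_c46 LD3_c16)) :=
  Lgr Lrot27 (Lpe (K6.f70481 IH) (Lpe (K6.f38522 IH) (Lpe (K6.f38523 IH) (Lpe (K6.f35893 IH) (Lpe (f27175 IH) (Lpr_gt (K6.f38100 IH) (Lpr_ct (K6.f38101 IH) (Lpr_gt (K6.f38102 IH) (Lpr_ct (K6.f70454 IH) (Lpn (LP (LK LD1_c8 LD2_c46 LD3_c16))))))))))))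
theorem f139701 : Led Lsl_df (LP (LK LD1_c3 LD2_c20 LD3_c19)) = (LP (LK LD1_c6 LD2_c20 LD3_c16)) :=
  Lgr Lrot155 (Lpr_gt (K6.f139698 IH) (Lpr_ct (K6.f57107 IH) (Lpr_gt (K4.f40100 IH) (Lpr_ct (K4.f56837 IH) (Lpr_dt (f57097 IH) (Lpe (K7.f139552 IH) (Lpe (K7.f13600 IH) (Lpr_cf (K7.f139672 IH) (Lpe (K7.f128956 IH) (Lpn (LP (LK LD1_c6 LD2_c20 LD3_c16))))))))))))
theorem f161521 : Led Lsl_ct (LP (LK LD1_c11 LD2_c28 LD3_c45)) = (LP (LK LD1_c6 LD2_c20 LD3_c16)) :=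
  Lgr Lrot176 (Lpr_df (f139767 IH) (Lpr_cf (f161513 IH) (Lpe (K7.f141927 IH) (Lpe (K7.f8370 IH) (Lpe (K6.f136305 IH) (Lpe (K7.f56806 IH) (Lpe (K7.f141967 IH) (Lpr_cf (K7.f141986 IH) (Lpe (K7.f142021 IH) (Lpr_cf (K6.f70444 IH) (Lpe (f70482 IH) (Lpe (K6.f70481 IH) (Lpr_df (K6.f141735 IH) (Lpe (K6.f139703 IH) (Lpr_df (f139701 IH) (Lpn (LP (LK LD1_c6 LD2_c20 LD3_c16))))))))))))))))))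
theorem f161596 : Led Lsl_dt (LP (LK LD1_c5 LD2_c51 LD3_c14)) = (LP (LK LD1_c6 LD2_c28 LD3_c59)) :=
  Lgr Lrot105 (Lpe (f157168 IH) (Lpe (K6.f141250 IH) (Lpe (K7.f128956 IH) (Lpe (f161521 IH) (Lpr_gt (f139764 IH) (Lpe (f139777 IH) (Lpr_gt (f99915 IH) (Lpe (f161582 IH) (Lpr_cf (f161586 IH) (Lpn (LP (LK LD1_c6 LD2_c28 LD3_c59))))))))))))
theorem f161593 : Led Lsl_ct (LP (LK LD1_c11 LD2_c31 LD3_c20)) = (LP (LK LD1_c6 LD2_c28 LD3_c59)) :=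
  Lgr Lrot59 (Lpr_cf (f161586 IH) (Lpn (LP (LK LD1_c6 LD2_c28 LD3_c59))))
theorem f161607 : Led Lsl_ct (LP (LK LD1_c6 LD2_c20 LD3_c16)) = (LP (LK LD1_c11 LD2_c28 LD3_c45)) :=
  Lgr Lrot8 (Lpr_gt (K7.f128956 IH) (Lpr_dt (K6.f141250 IH) (Lpr_gt (f157168 IH) (Lpr_dt (f161596 IH) (Lpe (f161593 IH) (Lpr_df (f161582 IH) (Lpe (f99915 IH) (Lpr_df (f139777 IH) (Lpe (f139764 IH) (Lpn (LP (LK LD1_c11 LD2_c28 LD3_c45))))))))))))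
theorem f151175 : Led Lsl_bf (LP (LK LD1_c11 LD2_c48 LD3_c56)) = (LP (LK LD1_c6 LD2_c20 LD3_c16)) :=
  Lgr Lrot24 (Lpr_bt (K7.f151173 IH) (Lpn (LP (LK LD1_c6 LD2_c20 LD3_c16))))
theorem f82017 : Led Lsl_bt (LP (LK LD1_c2 LD2_c57 LD3_c14)) = (LP (LK LD1_c6 LD2_c2 LD3_c17)) :=
  Lre_b IH (LK LD1_c2 LD2_c57 LD3_c14) (LK LD1_c6 LD2_c2 LD3_c17) Lrfl Lrfl
theorem f161446 : Led Lsl_bt (LP (LK LD1_c4 LD2_c38 LD3_c8)) = (LP (LK LD1_c4 LD2_c35 LD3_c16)) :=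
  Lgr Lrot127 (Lpr_bf (f161443 IH) (Lpn (LP (LK LD1_c4 LD2_c35 LD3_c16))))
theorem f36250 : Led Lsl_bt (LP (LK LD1_c0 LD2_c24 LD3_c56)) = (LP (LK LD1_c0 LD2_c55 LD3_c2)) :=
  Lre_b IH (LK LD1_c0 LD2_c24 LD3_c56) (LK LD1_c0 LD2_c55 LD3_c2) Lrfl Lrfl
theorem f117014 : Led Lsl_ct (LP (LK LD1_c2 LD2_c14 LD3_c50)) = (LP (LK LD1_c4 LD2_c35 LD3_c16)) :=
  Lre_c IH (LK LD1_c2 LD2_c14 LD3_c50) (LK LD1_c4 LD2_c35 LD3_c16) Lrfl Lrfl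
theorem f161441 : Led Lsl_gf (LP (LK LD1_c8 LD2_c0 LD3_c31)) = (LP (LK LD1_c4 LD2_c35 LD3_c16)) :=
  Lgr Lrot129 (Lpe (f36253 IH) (Lpr_bt (f36252 IH) (Lpr_gt (f36251 IH) (Lpe (f36250 IH) (Lpe (K1.f36226 IH) (Lpe (K0.f26049 IH) (Lpe (K0.f26357 IH) (Lpr_bt (f26377 IH) (Lpr_gt (f161435 IH) (Lpr_ct (f117014 IH) (Lpn (LP (LK LD1_c4 LD2_c35 LD3_c16)))))))))))))
theorem f161621 : Led Lsl_gf (LP (LK LD1_c5 LD2_c56 LD3_c0)) = (LP (LK LD1_c3 LD2_c59 LD3_c44)) :=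
  Lgr Lrot129 (Lpe (K6.f82000 IH) (Lpr_bt (f82017 IH) (Lpr_gt (K7.f82018 IH) (Lpr_bf (f151175 IH) (Lpr_ct (f161607 IH) (Lpr_gt (f139764 IH) (Lpr_cf (K6.f139759 IH) (Lpr_bt (f161446 IH) (Lpe (f161441 IH) (Lpr_ct (f37455 IH) (Lpn (LP (LK LD1_c3 LD2_c59 LD3_c44)))))))))))))
theorem f161627 : Led Lsl_df (LP (LK LD1_c6 LD2_c10 LD3_c53)) = (LP (LK LD1_c4 LD2_c35 LD3_c16)) :=
  Lgr Lrot155 (Lpr_gt (f99976 IH) (Lpr_ct (f158830 IH) (Lpr_gt (K7.f149578 IH) (Lpe (K7.f137762 IH) (Lpr_dt (K6.f137745 IH) (Lpr_cf (K6.f82009 IH) (Lpr_gf (f161621 IH) (Lpe (f37455 IH) (Lpr_gf (f161441 IH) (Lpn (LP (LK LD1_c4 LD2_c35 LD3_c16))))))))))))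
theorem f35229 : Led Lsl_dt (LP (LK LD1_c1 LD2_c4 LD3_c32)) = (LP (LK LD1_c2 LD2_c14 LD3_c50)) :=
  Lre_d IH (LK LD1_c1 LD2_c4 LD3_c32) (LK LD1_c2 LD2_c14 LD3_c50) Lrfl Lrfl
theorem f35340 : Led Lsl_dt (LP (LK LD1_c4 LD2_c35 LD3_c15)) = (LP (LK LD1_c2 LD2_c14 LD3_c49)) :=
  Lre_d IH (LK LD1_c4 LD2_c35 LD3_c15) (LK LD1_c2 LD2_c14 LD3_c49) Lrfl Lrfl
theorem f160866 : Led Lsl_ct (LP (LK LD1_c9 LD2_c7 LD3_c13)) = (LP (LK LD1_c9 LD2_c47 LD3_c50)) :=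
  Lgr Lrot59 (Lpr_cf (f160862 IH) (Lpn (LP (LK LD1_c9 LD2_c47 LD3_c50))))
theorem f35231 : Led Lsl_dt (LP (LK LD1_c1 LD2_c4 LD3_c33)) = (LP (LK LD1_c2 LD2_c14 LD3_c52)) :=
  Lre_d IH (LK LD1_c1 LD2_c4 LD3_c33) (LK LD1_c2 LD2_c14 LD3_c52) Lrfl Lrfl
theorem f37068 : Led Lsl_dt (LP (LK LD1_c4 LD2_c35 LD3_c18)) = (LP (LK LD1_c2 LD2_c14 LD3_c51)) :=
  Lre_d IH (LK LD1_c4 LD2_c35 LD3_c18) (LK LD1_c2 LD2_c14 LD3_c51) Lrfl Lrfl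
theorem f161629 : Led Lsl_ct (LP (LK LD1_c8 LD2_c45 LD3_c47)) = (LP (LK LD1_c4 LD2_c35 LD3_c18)) :=
  Lgr Lrot176 (Lpr_df (K6.f139077 IH) (Lpe (K6.f138974 IH) (Lpr_df (f161627 IH) (Lpe (f117014 IH) (Lpe (f35229 IH) (Lpe (f35344 IH) (Lpe (f35340 IH) (Lpe (f161418 IH) (Lpr_df (f139125 IH) (Lpe (f160866 IH) (Lpe (f160861 IH) (Lpe (K7.f101619 IH) (Lpe (f35231 IH) (Lpe (K7.f35232 IH) (Lpe (f37068 IH) (Lpn (LP (LK LD1_c4 LD2_c35 LD3_c18))))))))))))))))))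
theorem f69444 : Led Lsl_ct (LP (LK LD1_c2 LD2_c54 LD3_c10)) = (LP (LK LD1_c5 LD2_c55 LD3_c39)) :=
  Lre_c IH (LK LD1_c2 LD2_c54 LD3_c10) (LK LD1_c5 LD2_c55 LD3_c39) Lrfl Lrfl
theorem f161671 : Led Lsl_ff (LP (LK LD1_c2 LD2_c54 LD3_c10)) = (LP (LK LD1_c4 LD2_c35 LD3_c18)) :=
  Lgr Lrot23 (Lpr_ct (f69444 IH) (Lpe (K6.f139117 IH) (Lpr_ct (f161629 IH) (Lpn (LP (LK LD1_c4 LD2_c35 LD3_c18))))))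
theorem f161679 : Led Lsl_at (LP (LK LD1_c2 LD2_c54 LD3_c10)) = (LP (LK LD1_c4 LD2_c35 LD3_c15)) :=
  Lgr Lrot33 (Lpr_ff (f161671 IH) (Lpr_dt (f37068 IH) (Lpr_ct (K7.f35232 IH) (Lpr_dt (f35231 IH) (Lpr_ct (K7.f101619 IH) (Lpr_dt (f160861 IH) (Lpr_ct (f160866 IH) (Lpe (f139125 IH) (Lpr_ct (f161418 IH) (Lpn (LP (LK LD1_c4 LD2_c35 LD3_c15))))))))))))
theorem f69443 : Led Lsl_dt (LP (LK LD1_c1 LD2_c23 LD3_c4)) = (LP (LK LD1_c2 LD2_c54 LD3_c10)) :=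
  Lre_d IH (LK LD1_c1 LD2_c23 LD3_c4) (LK LD1_c2 LD2_c54 LD3_c10) Lrfl Lrfl
theorem f161681 : Led Lsl_af (LP (LK LD1_c1 LD2_c23 LD3_c4)) = (LP (LK LD1_c2 LD2_c14 LD3_c49)) :=
  Lgr Lrot117 (Lpr_dt (f69443 IH) (Lpr_at (f161679 IH) (Lpr_dt (f35340 IH) (Lpn (LP (LK LD1_c2 LD2_c14 LD3_c49))))))
theorem f69451 : Led Lsl_dt (LP (LK LD1_c1 LD2_c23 LD3_c5)) = (LP (LK LD1_c0 LD2_c38 LD3_c28)) :=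
  Lre_d IH (LK LD1_c1 LD2_c23 LD3_c5) (LK LD1_c0 LD2_c38 LD3_c28) Lrfl Lrfl
theorem f71954 : Led Lsl_dt (LP (LK LD1_c5 LD2_c55 LD3_c43)) = (LP (LK LD1_c2 LD2_c54 LD3_c12)) :=
  Lre_d IH (LK LD1_c5 LD2_c55 LD3_c43) (LK LD1_c2 LD2_c54 LD3_c12) Lrfl Lrfl
theorem f161708 : Led Lsl_ft (LP (LK LD1_c1 LD2_c23 LD3_c1)) = (LP (LK LD1_c2 LD2_c14 LD3_c49)) :=
  Lgr Lrot2 (Lpr_gt (K6.f59537 IH) (Lpe (f69441 IH) (Lpr_af (f161681 IH) (Lpn (LP (LK LD1_c2 LD2_c14 LD3_c49))))))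
theorem f59556 : Led Lsl_dt (LP (LK LD1_c1 LD2_c23 LD3_c1)) = (LP (LK LD1_c2 LD2_c54 LD3_c6)) :=
  Lre_d IH (LK LD1_c1 LD2_c23 LD3_c1) (LK LD1_c2 LD2_c54 LD3_c6) Lrfl Lrfl
theorem f149615 : Led Lsl_ct (LP (LK LD1_c2 LD2_c54 LD3_c6)) = (LP (LK LD1_c5 LD2_c55 LD3_c32)) :=
  Lre_c IH (LK LD1_c2 LD2_c54 LD3_c6) (LK LD1_c5 LD2_c55 LD3_c32) Lrfl Lrfl
theorem f149654 : Led Lsl_dt (LP (LK LD1_c5 LD2_c55 LD3_c32)) = (LP (LK LD1_c11 LD2_c36 LD3_c21)) :=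
  Lre_d IH (LK LD1_c5 LD2_c55 LD3_c32) (LK LD1_c11 LD2_c36 LD3_c21) Lrfl Lrfl
theorem f161710 : Led Lsl_cf (LP (LK LD1_c5 LD2_c55 LD3_c43)) = (LP (LK LD1_c11 LD2_c36 LD3_c21)) :=
  Lgr Lrot116 (Lpr_dt (f71954 IH) (Lpr_ct (K6.f69450 IH) (Lpr_dt (f69451 IH) (Lpr_ct (K6.f69453 IH) (Lpr_af (f161681 IH) (Lpe (f161708 IH) (Lpr_dt (f59556 IH) (Lpr_ct (f149615 IH) (Lpr_dt (f149654 IH) (Lpn (LP (LK LD1_c11 LD2_c36 LD3_c21))))))))))))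
theorem f139121 : Led Lsl_at (LP (LK LD1_c8 LD2_c45 LD3_c46)) = (LP (LK LD1_c5 LD2_c55 LD3_c39)) :=
  Lgr Lrot100 (Lpr_af (f139119 IH) (Lpn (LP (LK LD1_c5 LD2_c55 LD3_c39))))
theorem f161720 : Led Lsl_ff (LP (LK LD1_c8 LD2_c45 LD3_c46)) = (LP (LK LD1_c5 LD2_c55 LD3_c32)) :=
  Lgr Lrot103 (Lpr_at (f139121 IH) (Lpe (f69444 IH) (Lpe (f69443 IH) (Lpe (K6.f69453 IH) (Lpe (f69451 IH) (Lpe (K6.f69450 IH) (Lpe (f71954 IH) (Lpr_cf (f161710 IH) (Lpe (f149654 IH) (Lpn (LP (LK LD1_c5 LD2_c55 LD3_c32))))))))))))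
theorem f161731 : Led Lsl_ft (LP (LK LD1_c8 LD2_c45 LD3_c46)) = (LP (LK LD1_c5 LD2_c55 LD3_c32)) :=
  Lgr Lrot48 (Lpr_ff (f161720 IH) (Lpn (LP (LK LD1_c5 LD2_c55 LD3_c32))))
theorem f161739 : Led Lsl_ff (LP (LK LD1_c9 LD2_c47 LD3_c50)) = (LP (LK LD1_c11 LD2_c36 LD3_c21)) :=
  Lgr Lrot19 (Lpe (f139125 IH) (Lpr_ft (f161731 IH) (Lpr_dt (f149654 IH) (Lpn (LP (LK LD1_c11 LD2_c36 LD3_c21))))))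
theorem f149660 : Led Lsl_dt (LP (LK LD1_c11 LD2_c36 LD3_c21)) = (LP (LK LD1_c5 LD2_c55 LD3_c32)) :=
  Lre_d IH (LK LD1_c11 LD2_c36 LD3_c21) (LK LD1_c5 LD2_c55 LD3_c32) Lrfl Lrfl
theorem f149608 : Led Lsl_ct (LP (LK LD1_c5 LD2_c55 LD3_c32)) = (LP (LK LD1_c2 LD2_c54 LD3_c6)) :=
  Lre_c IH (LK LD1_c5 LD2_c55 LD3_c32) (LK LD1_c2 LD2_c54 LD3_c6) Lrfl Lrfl
theorem f59562 : Led Lsl_dt (LP (LK LD1_c2 LD2_c54 LD3_c6)) = (LP (LK LD1_c1 LD2_c23 LD3_c1)) :=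
  Lre_d IH (LK LD1_c2 LD2_c54 LD3_c6) (LK LD1_c1 LD2_c23 LD3_c1) Lrfl Lrfl
theorem f37937 : Led Lsl_dt (LP (LK LD1_c0 LD2_c38 LD3_c27)) = (LP (LK LD1_c1 LD2_c23 LD3_c2)) :=
  Lre_d IH (LK LD1_c0 LD2_c38 LD3_c27) (LK LD1_c1 LD2_c23 LD3_c2) Lrfl Lrfl
theorem f37938 : Led Lsl_ct (LP (LK LD1_c1 LD2_c23 LD3_c2)) = (LP (LK LD1_c2 LD2_c54 LD3_c7)) :=
  Lre_c IH (LK LD1_c1 LD2_c23 LD3_c2) (LK LD1_c2 LD2_c54 LD3_c7) Lrfl Lrfl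
theorem f161237 : Led Lsl_dt (LP (LK LD1_c2 LD2_c54 LD3_c7)) = (LP (LK LD1_c5 LD2_c55 LD3_c36)) :=
  Lre_d IH (LK LD1_c2 LD2_c54 LD3_c7) (LK LD1_c5 LD2_c55 LD3_c36) Lrfl Lrfl
theorem f161747 : Led Lsl_cf (LP (LK LD1_c4 LD2_c58 LD3_c39)) = (LP (LK LD1_c5 LD2_c55 LD3_c36)) :=
  Lgr Lrot102 (Lpe (f81925 IH) (Lpr_ff (f161739 IH) (Lpr_dt (f149660 IH) (Lpr_ct (f149608 IH) (Lpr_dt (f59562 IH) (Lpr_ct (f138263 IH) (Lpr_dt (f37937 IH) (Lpr_ct (f37938 IH) (Lpr_dt (f161237 IH) (Lpn (LP (LK LD1_c5 LD2_c55 LD3_c36))))))))))))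
theorem f71955 : Led Lsl_ct (LP (LK LD1_c1 LD2_c23 LD3_c15)) = (LP (LK LD1_c2 LD2_c54 LD3_c37)) :=
  Lre_c IH (LK LD1_c1 LD2_c23 LD3_c15) (LK LD1_c2 LD2_c54 LD3_c37) Lrfl Lrfl
theorem f161100 : Led Lsl_gf (LP (LK LD1_c5 LD2_c56 LD3_c30)) = (LP (LK LD1_c2 LD2_c54 LD3_c37)) :=
  Lgr Lrot104 (Lpe (f160881 IH) (Lpe (f160919 IH) (Lpr_cf (f160930 IH) (Lpr_gf (f161095 IH) (Lpe (K6.f69453 IH) (Lpr_gf (K6.f71951 IH) (Lpe (K2.f35254 IH) (Lpe (f71857 IH) (Lpr_ct (f71955 IH) (Lpn (LP (LK LD1_c2 LD2_c54 LD3_c37))))))))))))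
theorem f161083 : Led Lsl_ct (LP (LK LD1_c2 LD2_c54 LD3_c7)) = (LP (LK LD1_c1 LD2_c23 LD3_c2)) :=
  Lre_c IH (LK LD1_c2 LD2_c54 LD3_c7) (LK LD1_c1 LD2_c23 LD3_c2) Lrfl Lrfl
theorem f161228 : Led Lsl_dt (LP (LK LD1_c5 LD2_c55 LD3_c36)) = (LP (LK LD1_c2 LD2_c54 LD3_c7)) :=
  Lre_d IH (LK LD1_c5 LD2_c55 LD3_c36) (LK LD1_c2 LD2_c54 LD3_c7) Lrfl Lrfl
theorem f161229 : Led Lsl_gt (LP (LK LD1_c7 LD2_c31 LD3_c36)) = (LP (LK LD1_c5 LD2_c55 LD3_c36)) :=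
  Lgr Lrot49 (Lpr_df (f160893 IH) (Lpr_gf (f161100 IH) (Lpe (f71955 IH) (Lpr_gt (f71856 IH) (Lpr_dt (K2.f24081 IH) (Lpr_gt (K6.f37936 IH) (Lpr_dt (f37937 IH) (Lpe (f161083 IH) (Lpe (f161228 IH) (Lpn (LP (LK LD1_c5 LD2_c55 LD3_c36))))))))))))
theorem f141855 : Led Lsl_gt (LP (LK LD1_c1 LD2_c23 LD3_c14)) = (LP (LK LD1_c2 LD2_c14 LD3_c53)) :=
  Lgr Lrot49 (Lpr_df (f141833 IH) (Lpe (f26870 IH) (Lpr_cf (f36520 IH) (Lpr_gt (K4.f23392 IH) (Lpe (K4.f112626 IH) (Lpe (K6.f81795 IH) (Lpr_dt (K2.f35248 IH) (Lpe (K2.f35244 IH) (Lpe (K2.f35254 IH) (Lpn (LP (LK LD1_c2 LD2_c14 LD3_c53))))))))))))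
theorem f149567 : Led Lsl_ct (LP (LK LD1_c5 LD2_c56 LD3_c15)) = (LP (LK LD1_c3 LD2_c15 LD3_c33)) :=
  Lgr Lrot59 (Lpr_cf (K7.f149547 IH) (Lpn (LP (LK LD1_c3 LD2_c15 LD3_c33))))
theorem f161755 : Led Lsl_gt (LP (LK LD1_c4 LD2_c58 LD3_c39)) = (LP (LK LD1_c5 LD2_c56 LD3_c15)) :=
  Lgr Lrot187 (Lpr_cf (f161747 IH) (Lpe (f161229 IH) (Lpr_dt (f160891 IH) (Lpr_gt (f141778 IH) (Lpr_ct (K7.f83004 IH) (Lpr_gt (f141855 IH) (Lpr_ct (K7.f35247 IH) (Lpr_dt (K7.f149569 IH) (Lpe (f149567 IH) (Lpn (LP (LK LD1_c5 LD2_c56 LD3_c15))))))))))))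
theorem f161763 : Led Lsl_df (LP (LK LD1_c4 LD2_c35 LD3_c21)) = (LP (LK LD1_c3 LD2_c15 LD3_c33)) :=
  Lgr Lrot162 (Lpe (K7.f35247 IH) (Lpe (f141855 IH) (Lpe (K7.f83004 IH) (Lpe (f141778 IH) (Lpe (f160893 IH) (Lpr_gt (f161229 IH) (Lpe (f161747 IH) (Lpr_gt (f161755 IH) (Lpr_ct (f149567 IH) (Lpn (LP (LK LD1_c3 LD2_c15 LD3_c33))))))))))))
theorem f81799 : Led Lsl_dt (LP (LK LD1_c6 LD2_c33 LD3_c56)) = (LP (LK LD1_c11 LD2_c37 LD3_c31)) :=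
  Lgr Lrot6 (Lpr_gt (K6.f65633 IH) (Lpr_ct (K6.f65551 IH) (Lpe (K6.f80296 IH) (Lpr_ct (K6.f71876 IH) (Lpr_df (K2.f71860 IH) (Lpe (K2.f35293 IH) (Lpr_gf (K6.f81795 IH) (Lpe (K4.f81797 IH) (Lpe (K6.f81798 IH) (Lpn (LP (LK LD1_c11 LD2_c37 LD3_c31))))))))))))
theorem f161796 : Led Lsl_gf (LP (LK LD1_c6 LD2_c33 LD3_c56)) = (LP (LK LD1_c11 LD2_c37 LD3_c20)) :=
  Lgr Lrot144 (Lpr_dt (f81799 IH) (Lpr_gt (K6.f81798 IH) (Lpr_dt (K4.f112865 IH) (Lpe (K4.f60980 IH) (Lpe (K4.f112266 IH) (Lpr_gf (K4.f83064 IH) (Lpr_df (f161763 IH) (Lpe (K7.f137743 IH) (Lpr_cf (K7.f137762 IH) (Lpn (LP (LK LD1_c11 LD2_c37 LD3_c20))))))))))))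
theorem f96000 : Led Lsl_bt (LP (LK LD1_c12 LD2_c1 LD3_c52)) = (LP (LK LD1_c6 LD2_c10 LD3_c39)) :=
  Lre_b IH (LK LD1_c12 LD2_c1 LD3_c52) (LK LD1_c6 LD2_c10 LD3_c39) Lrfl Lrfl
theorem f161799 : Led Lsl_cf (LP (LK LD1_c6 LD2_c33 LD3_c56)) = (LP (LK LD1_c12 LD2_c1 LD3_c52)) :=
  Lgr Lrot58 (Lpr_gf (f161796 IH) (Lpe (K6.f137753 IH) (Lpr_bt (K7.f137736 IH) (Lpe (K7.f149750 IH) (Lpe (K4.f117054 IH) (Lpr_ct (K4.f63724 IH) (Lpe (K6.f111349 IH) (Lpe (K7.f105220 IH) (Lpr_gf (f129469 IH) (Lpe (f96000 IH) (Lpn (LP (LK LD1_c12 LD2_c1 LD3_c52)))))))))))))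
theorem f161429 : Led Lsl_gt (LP (LK LD1_c9 LD2_c7 LD3_c9)) = (LP (LK LD1_c4 LD2_c35 LD3_c16)) :=
  Lre_g IH (LK LD1_c9 LD2_c7 LD3_c9) (LK LD1_c4 LD2_c35 LD3_c16) Lrfl Lrfl
theorem f161636 : Led Lsl_cf (LP (LK LD1_c5 LD2_c47 LD3_c42)) = (LP (LK LD1_c9 LD2_c7 LD3_c9)) :=
  Lgr Lrot166 (Lpe (K6.f119838 IH) (Lpr_dt (K7.f136249 IH) (Lpr_gt (f158433 IH) (Lpr_dt (K5.f37762 IH) (Lpr_ct (K5.f112497 IH) (Lpe (f150346 IH) (Lpe (f99976 IH) (Lpr_df (f161627 IH) (Lpe (f161429 IH) (Lpn (LP (LK LD1_c9 LD2_c7 LD3_c9))))))))))))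
theorem f127644 : Led Lsl_bt (LP (LK LD1_c6 LD2_c34 LD3_c29)) = (LP (LK LD1_c3 LD2_c15 LD3_c36)) :=
  Lre_b IH (LK LD1_c6 LD2_c34 LD3_c29) (LK LD1_c3 LD2_c15 LD3_c36) Lrfl Lrfl
theorem f141532 : Led Lsl_gf (LP (LK LD1_c11 LD2_c40 LD3_c28)) = (LP (LK LD1_c12 LD2_c35 LD3_c20)) :=
  Lgr Lrot47 (Lpr_gt (K6.f72595 IH) (Lpr_af (K6.f130481 IH) (Lpr_ff (K6.f141524 IH) (Lpn (LP (LK LD1_c12 LD2_c35 LD3_c20))))))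
theorem f101643 : Led Lsl_bt (LP (LK LD1_c9 LD2_c7 LD3_c12)) = (LP (LK LD1_c4 LD2_c35 LD3_c19)) :=
  Lre_b IH (LK LD1_c9 LD2_c7 LD3_c12) (LK LD1_c4 LD2_c35 LD3_c19) Lrfl Lrfl
theorem f161646 : Led Lsl_gt (LP (LK LD1_c4 LD2_c35 LD3_c19)) = (LP (LK LD1_c9 LD2_c7 LD3_c9)) :=
  Lgr Lrot82 (Lpe (f101643 IH) (Lpr_ct (K7.f101622 IH) (Lpr_gf (f141532 IH) (Lpe (K6.f103939 IH) (Lpr_bt (f127644 IH) (Lpe (K3.f65631 IH) (Lpr_bf (f149667 IH) (Lpr_ct (K7.f56771 IH) (Lpr_gf (K6.f119838 IH) (Lpr_cf (f161636 IH) (Lpn (LP (LK LD1_c9 LD2_c7 LD3_c9)))))))))))))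
theorem f161803 : Led Lsl_gt (LP (LK LD1_c9 LD2_c7 LD3_c13)) = (LP (LK LD1_c12 LD2_c1 LD3_c52)) :=
  Lgr Lrot9 (Lpe (f160861 IH) (Lpr_gt (f161646 IH) (Lpe (f161636 IH) (Lpe (K6.f119838 IH) (Lpe (K6.f56764 IH) (Lpe (K7.f149665 IH) (Lpe (K6.f65551 IH) (Lpe (K6.f65633 IH) (Lpr_cf (f161799 IH) (Lpn (LP (LK LD1_c12 LD2_c1 LD3_c52))))))))))))
theorem f117678 : Led Lsl_gt (LP (LK LD1_c3 LD2_c10 LD3_c12)) = (LP (LK LD1_c6 LD2_c25 LD3_c3)) :=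
  Lre_g IH (LK LD1_c3 LD2_c10 LD3_c12) (LK LD1_c6 LD2_c25 LD3_c3) Lrfl Lrfl
theorem f161805 : Led Lsl_cf (LP (LK LD1_c11 LD2_c37 LD3_c31)) = (LP (LK LD1_c6 LD2_c25 LD3_c3)) :=
  Lgr Lrot175 (Lpe (K6.f81801 IH) (Lpr_cf (f161799 IH) (Lpe (f161803 IH) (Lpr_cf (f160862 IH) (Lpe (f139058 IH) (Lpr_dt (K6.f35336 IH) (Lpe (K4.f117670 IH) (Lpr_ct (K4.f116790 IH) (Lpr_gt (f117678 IH) (Lpn (LP (LK LD1_c6 LD2_c25 LD3_c3))))))))))))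
theorem f69210 : Led Lsl_gt (LP (LK LD1_c1 LD2_c31 LD3_c15)) = (LP (LK LD1_c3 LD2_c10 LD3_c10)) :=
  Lre_g IH (LK LD1_c1 LD2_c31 LD3_c15) (LK LD1_c3 LD2_c10 LD3_c10) Lrfl Lrfl
theorem f161811 : Led Lsl_cf (LP (LK LD1_c3 LD2_c4 LD3_c43)) = (LP (LK LD1_c3 LD2_c10 LD3_c10)) :=
  Lgr Lrot169 (Lpe (f161008 IH) (Lpr_ct (K4.f117540 IH) (Lpe (K4.f112834 IH) (Lpe (K4.f81797 IH) (Lpe (K6.f81798 IH) (Lpr_cf (f161805 IH) (Lpe (f117678 IH) (Lpe (K4.f116806 IH) (Lpr_gt (f69210 IH) (Lpn (LP (LK LD1_c3 LD2_c10 LD3_c10))))))))))))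
theorem f161073 : Led Lsl_dt (LP (LK LD1_c1 LD2_c23 LD3_c2)) = (LP (LK LD1_c0 LD2_c38 LD3_c27)) :=
  Lre_d IH (LK LD1_c1 LD2_c23 LD3_c2) (LK LD1_c0 LD2_c38 LD3_c27) Lrfl Lrfl
theorem f161794 : Led Lsl_gf (LP (LK LD1_c1 LD2_c23 LD3_c2)) = (LP (LK LD1_c0 LD2_c38 LD3_c55)) :=
  Lgr Lrot144 (Lpr_dt (f161073 IH) (Lpe (f161070 IH) (Lpr_dt (K7.f35246 IH) (Lpe (f35255 IH) (Lpr_df (f161763 IH) (Lpe (K7.f137743 IH) (Lpr_df (K6.f137747 IH) (Lpe (K6.f56863 IH) (Lpe (K6.f56760 IH) (Lpn (LP (LK LD1_c0 LD2_c38 LD3_c55))))))))))))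
theorem f161254 : Led Lsl_gt (LP (LK LD1_c2 LD2_c54 LD3_c7)) = (LP (LK LD1_c5 LD2_c55 LD3_c34)) :=
  Lre_g IH (LK LD1_c2 LD2_c54 LD3_c7) (LK LD1_c5 LD2_c55 LD3_c34) Lrfl Lrfl
theorem f161821 : Led Lsl_cf (LP (LK LD1_c3 LD2_c24 LD3_c0)) = (LP (LK LD1_c5 LD2_c55 LD3_c34)) :=
  Lgr Lrot99 (Lpe (f149236 IH) (Lpr_cf (f161811 IH) (Lpe (f69210 IH) (Lpe (K4.f69209 IH) (Lpe (K4.f68538 IH) (Lpe (K6.f68568 IH) (Lpe (f161794 IH) (Lpr_ct (f37938 IH) (Lpr_gt (f161254 IH) (Lpn (LP (LK LD1_c5 LD2_c55 LD3_c34))))))))))))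
theorem f141711 : Led Lsl_at (LP (LK LD1_c6 LD2_c10 LD3_c31)) = (LP (LK LD1_c3 LD2_c1 LD3_c54)) :=
  Lre_a IH (LK LD1_c6 LD2_c10 LD3_c31) (LK LD1_c3 LD2_c1 LD3_c54) Lrfl Lrfl
theorem f141712 : Led Lsl_dt (LP (LK LD1_c9 LD2_c12 LD3_c53)) = (LP (LK LD1_c6 LD2_c10 LD3_c31)) :=
  Lgr Lrot44 (Lpr_af (K6.f141709 IH) (Lpe (K4.f115592 IH) (Lpe (f141711 IH) (Lpn (LP (LK LD1_c6 LD2_c10 LD3_c31))))))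
theorem f108692 : Led Lsl_gt (LP (LK LD1_c6 LD2_c34 LD3_c51)) = (LP (LK LD1_c3 LD2_c15 LD3_c46)) :=
  Lre_g IH (LK LD1_c6 LD2_c34 LD3_c51) (LK LD1_c3 LD2_c15 LD3_c46) Lrfl Lrfl
theorem f117116 : Led Lsl_dt (LP (LK LD1_c6 LD2_c34 LD3_c51)) = (LP (LK LD1_c12 LD2_c36 LD3_c3)) :=
  Lre_d IH (LK LD1_c6 LD2_c34 LD3_c51) (LK LD1_c12 LD2_c36 LD3_c3) Lrfl Lrfl
theorem f157291 : Led Lsl_gt (LP (LK LD1_c12 LD2_c36 LD3_c3)) = (LP (LK LD1_c12 LD2_c27 LD3_c54)) :=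
  Lgr Lrot9 (Lpe (f117116 IH) (Lpr_gt (f108692 IH) (Lpr_ct (K4.f108687 IH) (Lpr_gt (K4.f62952 IH) (Lpe (K4.f117101 IH) (Lpe (K7.f117075 IH) (Lpe (K4.f61940 IH) (Lpe (K7.f66095 IH) (Lpr_cf (f157278 IH) (Lpn (LP (LK LD1_c12 LD2_c27 LD3_c54))))))))))))
theorem f157293 : Led Lsl_ct (LP (LK LD1_c6 LD2_c35 LD3_c1)) = (LP (LK LD1_c12 LD2_c36 LD3_c3)) :=
  Lgr Lrot186 (Lpe (K7.f149746 IH) (Lpr_dt (f141712 IH) (Lpr_gt (K7.f119639 IH) (Lpe (K6.f119979 IH) (Lpe (K6.f141620 IH) (Lpr_ct (K7.f149849 IH) (Lpe (K7.f149818 IH) (Lpr_cf (f157278 IH) (Lpe (f157291 IH) (Lpn (LP (LK LD1_c12 LD2_c36 LD3_c3))))))))))))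
theorem f161837 : Led Lsl_bt (LP (LK LD1_c5 LD2_c55 LD3_c34)) = (LP (LK LD1_c11 LD2_c36 LD3_c25)) :=
  Lre_b IH (LK LD1_c5 LD2_c55 LD3_c34) (LK LD1_c11 LD2_c36 LD3_c25) Lrfl Lrfl
theorem f161838 : Led Lsl_gt (LP (LK LD1_c12 LD2_c40 LD3_c41)) = (LP (LK LD1_c11 LD2_c36 LD3_c25)) :=
  Lgr Lrot164 (Lpe (f149830 IH) (Lpe (K7.f141716 IH) (Lpe (f157291 IH) (Lpe (f157293 IH) (Lpe (K7.f149746 IH) (Lpe (K7.f124526 IH) (Lpr_ct (f149699 IH) (Lpr_gf (f161010 IH) (Lpr_cf (f161821 IH) (Lpr_bt (f161837 IH) (Lpn (LP (LK LD1_c11 LD2_c36 LD3_c25)))))))))))))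
theorem f149808 : Led Lsl_bf (LP (LK LD1_c9 LD2_c10 LD3_c4)) = (LP (LK LD1_c6 LD2_c35 LD3_c1)) :=
  Lgr Lrot93 (Lpe (K7.f141217 IH) (Lpr_bt (K7.f148864 IH) (Lpr_dt (K7.f149806 IH) (Lpn (LP (LK LD1_c6 LD2_c35 LD3_c1))))))
theorem f124776 : Led Lsl_ct (LP (LK LD1_c12 LD2_c14 LD3_c59)) = (LP (LK LD1_c6 LD2_c20 LD3_c9)) :=
  Lre_c IH (LK LD1_c12 LD2_c14 LD3_c59) (LK LD1_c6 LD2_c20 LD3_c9) Lrfl Lrfl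
theorem f91488 : Led Lsl_at (LP (LK LD1_c12 LD2_c14 LD3_c59)) = (LP (LK LD1_c6 LD2_c20 LD3_c10)) :=
  Lre_a IH (LK LD1_c12 LD2_c14 LD3_c59) (LK LD1_c6 LD2_c20 LD3_c10) Lrfl Lrfl
theorem f124755 : Led Lsl_at (LP (LK LD1_c6 LD2_c49 LD3_c48)) = (LP (LK LD1_c13 LD2_c1 LD3_c5)) :=
  Lre_a IH (LK LD1_c6 LD2_c49 LD3_c48) (LK LD1_c13 LD2_c1 LD3_c5) Lrfl Lrfl
theorem f124762 : Led Lsl_ff (LP (LK LD1_c12 LD2_c14 LD3_c59)) = (LP (LK LD1_c13 LD2_c1 LD3_c5)) :=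
  Lgr Lrot30 (Lpr_at (f91488 IH) (Lpr_ft (K5.f124760 IH) (Lpr_at (f124755 IH) (Lpn (LP (LK LD1_c13 LD2_c1 LD3_c5))))))
theorem f141334 : Led Lsl_ct (LP (LK LD1_c9 LD2_c10 LD3_c37)) = (LP (LK LD1_c13 LD2_c1 LD3_c5)) :=
  Lgr Lrot40 (Lpr_ff (K6.f141330 IH) (Lpe (f124776 IH) (Lpr_ff (f124762 IH) (Lpn (LP (LK LD1_c13 LD2_c1 LD3_c5))))))
theorem f40409 : Led Lsl_ct (LP (LK LD1_c3 LD2_c24 LD3_c1)) = (LP (LK LD1_c1 LD2_c38 LD3_c18)) :=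
  Lre_c IH (LK LD1_c3 LD2_c24 LD3_c1) (LK LD1_c1 LD2_c38 LD3_c18) Lrfl Lrfl
theorem f40410 : Led Lsl_bt (LP (LK LD1_c3 LD2_c24 LD3_c1)) = (LP (LK LD1_c6 LD2_c51 LD3_c1)) :=
  Lre_b IH (LK LD1_c3 LD2_c24 LD3_c1) (LK LD1_c6 LD2_c51 LD3_c1) Lrfl Lrfl
theorem f94928 : Led Lsl_gf (LP (LK LD1_c6 LD2_c51 LD3_c1)) = (LP (LK LD1_c6 LD2_c20 LD3_c10)) :=
  Lgr Lrot124 (Lpe (f40410 IH) (Lpr_ct (f40409 IH) (Lpr_gt (f40334 IH) (Lpe (K2.f40338 IH) (Lpr_bt (K6.f40372 IH) (Lpr_gt (K2.f83735 IH) (Lpe (K2.f83736 IH) (Lpr_gt (K3.f94924 IH) (Lpe (K4.f26134 IH) (Lpr_bt (K5.f91433 IH) (Lpn (LP (LK LD1_c6 LD2_c20 LD3_c10)))))))))))))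
theorem f124768 : Led Lsl_gt (LP (LK LD1_c6 LD2_c51 LD3_c1)) = (LP (LK LD1_c13 LD2_c1 LD3_c5)) :=
  Lgr Lrot46 (Lpr_gf (f94928 IH) (Lpr_ft (K5.f124760 IH) (Lpr_at (f124755 IH) (Lpn (LP (LK LD1_c13 LD2_c1 LD3_c5))))))
theorem f161840 : Led Lsl_cf (LP (LK LD1_c6 LD2_c51 LD3_c1)) = (LP (LK LD1_c11 LD2_c36 LD3_c25)) :=
  Lgr Lrot125 (Lpr_gt (f124768 IH) (Lpe (f141334 IH) (Lpr_bt (K6.f141329 IH) (Lpr_gt (K7.f100290 IH) (Lpr_bf (f149808 IH) (Lpr_ct (f157293 IH) (Lpr_gt (f157291 IH) (Lpr_cf (K7.f141716 IH) (Lpr_bt (f149830 IH) (Lpr_gt (f161838 IH) (Lpn (LP (LK LD1_c11 LD2_c36 LD3_c25)))))))))))))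
theorem f81992 : Led Lsl_bt (LP (LK LD1_c5 LD2_c55 LD3_c42)) = (LP (LK LD1_c2 LD2_c54 LD3_c12)) :=
  Lre_b IH (LK LD1_c5 LD2_c55 LD3_c42) (LK LD1_c2 LD2_c54 LD3_c12) Lrfl Lrfl
theorem f161823 : Led Lsl_bt (LP (LK LD1_c11 LD2_c36 LD3_c25)) = (LP (LK LD1_c5 LD2_c55 LD3_c34)) :=
  Lre_b IH (LK LD1_c11 LD2_c36 LD3_c25) (LK LD1_c5 LD2_c55 LD3_c34) Lrfl Lrfl
theorem f161843 : Led Lsl_gf (LP (LK LD1_c2 LD2_c54 LD3_c12)) = (LP (LK LD1_c5 LD2_c55 LD3_c34)) :=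
  Lgr Lrot124 (Lpe (f81992 IH) (Lpe (K6.f81958 IH) (Lpr_gt (K6.f81967 IH) (Lpe (K6.f94937 IH) (Lpr_bt (K6.f91443 IH) (Lpr_gt (K6.f91442 IH) (Lpr_ct (K5.f82004 IH) (Lpe (f94928 IH) (Lpr_cf (f161840 IH) (Lpr_bt (f161823 IH) (Lpn (LP (LK LD1_c5 LD2_c55 LD3_c34)))))))))))))
theorem f40670 : Led Lsl_bt (LP (LK LD1_c3 LD2_c24 LD3_c0)) = (LP (LK LD1_c1 LD2_c38 LD3_c18)) :=
  Lre_b IH (LK LD1_c3 LD2_c24 LD3_c0) (LK LD1_c1 LD2_c38 LD3_c18) Lrfl Lrfl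
theorem f56862 : Led Lsl_gt (LP (LK LD1_c3 LD2_c17 LD3_c45)) = (LP (LK LD1_c6 LD2_c39 LD3_c0)) :=
  Lre_g IH (LK LD1_c3 LD2_c17 LD3_c45) (LK LD1_c6 LD2_c39 LD3_c0) Lrfl Lrfl
theorem f161833 : Led Lsl_dt (LP (LK LD1_c6 LD2_c39 LD3_c0)) = (LP (LK LD1_c5 LD2_c55 LD3_c34)) :=
  Lgr Lrot182 (Lpe (f56862 IH) (Lpe (K4.f56845 IH) (Lpr_cf (K4.f56840 IH) (Lpr_df (f75439 IH) (Lpe (f161561 IH) (Lpe (f132430 IH) (Lpe (K4.f79077 IH) (Lpe (K4.f79076 IH) (Lpe (K4.f112440 IH) (Lpe (K4.f36154 IH) (Lpe (K1.f38002 IH) (Lpe (K1.f37996 IH) (Lpr_gf (K2.f69355 IH) (Lpe (K6.f69361 IH) (Lpe (K5.f59552 IH) (Lpe (f99538 IH) (Lpe (f40334 IH) (Lpe (f40670 IH) (Lpr_cf (f161821 IH) (Lpn (LP (LK LD1_c5 LD2_c55 LD3_c34))))))))))))))))))))))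
theorem f161847 : Led Lsl_gf (LP (LK LD1_c6 LD2_c25 LD3_c16)) = (LP (LK LD1_c6 LD2_c39 LD3_c0)) :=
  Lgr Lrot147 (Lpr_ct (f117719 IH) (Lpr_gt (K4.f64561 IH) (Lpr_ct (K4.f64547 IH) (Lpe (f56777 IH) (Lpe (K6.f56760 IH) (Lpr_gf (K6.f81997 IH) (Lpe (K6.f69450 IH) (Lpr_gf (f161843 IH) (Lpe (f161833 IH) (Lpn (LP (LK LD1_c6 LD2_c39 LD3_c0))))))))))))
theorem f161849 : Led Lsl_df (LP (LK LD1_c6 LD2_c39 LD3_c0)) = (LP (LK LD1_c5 LD2_c55 LD3_c34)) :=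
  Lgr Lrot155 (Lpe (f161847 IH) (Lpr_ct (f117719 IH) (Lpr_gt (K4.f64561 IH) (Lpr_ct (K4.f64547 IH) (Lpr_dt (K4.f64481 IH) (Lpe (K6.f56760 IH) (Lpr_gf (K6.f81997 IH) (Lpe (K6.f69450 IH) (Lpr_gf (f161843 IH) (Lpn (LP (LK LD1_c5 LD2_c55 LD3_c34))))))))))))
theorem f119728 : Led Lsl_at (LP (LK LD1_c6 LD2_c33 LD3_c57)) = (LP (LK LD1_c3 LD2_c15 LD3_c16)) :=
  Lre_a IH (LK LD1_c6 LD2_c33 LD3_c57) (LK LD1_c3 LD2_c15 LD3_c16) Lrfl Lrfl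
theorem f161487 : Led Lsl_at (LP (LK LD1_c5 LD2_c56 LD3_c1)) = (LP (LK LD1_c8 LD2_c45 LD3_c44)) :=
  Lgr Lrot51 (Lpr_df (K6.f119726 IH) (Lpe (f119728 IH) (Lpr_df (f161485 IH) (Lpn (LP (LK LD1_c8 LD2_c45 LD3_c44))))))
theorem f161507 : Led Lsl_gf (LP (LK LD1_c8 LD2_c49 LD3_c52)) = (LP (LK LD1_c8 LD2_c45 LD3_c42)) :=
  Lgr Lrot47 (Lpr_gt (f161500 IH) (Lpe (f161487 IH) (Lpr_ff (K6.f137704 IH) (Lpn (LP (LK LD1_c8 LD2_c45 LD3_c42))))))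
theorem f117020 : Led Lsl_df (LP (LK LD1_c12 LD2_c36 LD3_c52)) = (LP (LK LD1_c8 LD2_c49 LD3_c52)) :=
  Lgr Lrot38 (Lpr_dt (f116774 IH) (Lpn (LP (LK LD1_c8 LD2_c49 LD3_c52))))
theorem f161861 : Led Lsl_cf (LP (LK LD1_c6 LD2_c39 LD3_c0)) = (LP (LK LD1_c12 LD2_c36 LD3_c52)) :=
  Lgr Lrot14 (Lpr_df (f161849 IH) (Lpe (f161254 IH) (Lpe (f161228 IH) (Lpe (f161229 IH) (Lpe (K4.f96074 IH) (Lpr_gt (K4.f96072 IH) (Lpr_dt (K6.f137646 IH) (Lpe (f161507 IH) (Lpe (f117020 IH) (Lpn (LP (LK LD1_c12 LD2_c36 LD3_c52))))))))))))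
theorem f160848 : Led Lsl_gf (LP (LK LD1_c3 LD2_c16 LD3_c4)) = (LP (LK LD1_c6 LD2_c2 LD3_c12)) :=
  Lgr Lrot104 (Lpr_ct (K4.f60980 IH) (Lpe (K4.f112865 IH) (Lpe (K4.f81788 IH) (Lpe (K4.f81782 IH) (Lpe (K4.f69447 IH) (Lpe (K4.f69448 IH) (Lpr_df (K6.f112873 IH) (Lpe (K4.f80032 IH) (Lpr_ct (f160826 IH) (Lpn (LP (LK LD1_c6 LD2_c2 LD3_c12))))))))))))
theorem f64576 : Led Lsl_dt (LP (LK LD1_c6 LD2_c2 LD3_c12)) = (LP (LK LD1_c2 LD2_c57 LD3_c12)) :=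
  Lre_d IH (LK LD1_c6 LD2_c2 LD3_c12) (LK LD1_c2 LD2_c57 LD3_c12) Lrfl Lrfl
theorem f161826 : Led Lsl_ct (LP (LK LD1_c3 LD2_c24 LD3_c0)) = (LP (LK LD1_c5 LD2_c55 LD3_c34)) :=
  Lgr Lrot59 (Lpr_cf (f161821 IH) (Lpn (LP (LK LD1_c5 LD2_c55 LD3_c34))))
theorem f161483 : Led Lsl_gf (LP (LK LD1_c3 LD2_c24 LD3_c0)) = (LP (LK LD1_c4 LD2_c34 LD3_c27)) :=
  Lgr Lrot47 (Lpe (f161010 IH) (Lpe (K7.f56802 IH) (Lpr_ff (f161473 IH) (Lpn (LP (LK LD1_c4 LD2_c34 LD3_c27))))))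
theorem f161863 : Led Lsl_gt (LP (LK LD1_c2 LD2_c57 LD3_c12)) = (LP (LK LD1_c4 LD2_c38 LD3_c31)) :=
  Lgr Lrot9 (Lpe (f64576 IH) (Lpe (f160848 IH) (Lpr_ct (K4.f60980 IH) (Lpr_gt (f96632 IH) (Lpe (f161861 IH) (Lpr_df (f161849 IH) (Lpe (f161826 IH) (Lpr_gf (f161483 IH) (Lpr_cf (f161457 IH) (Lpn (LP (LK LD1_c4 LD2_c38 LD3_c31))))))))))))
theorem f26865 : Led Lsl_at (LP (LK LD1_c4 LD2_c38 LD3_c28)) = (LP (LK LD1_c2 LD2_c16 LD3_c18)) :=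
  Lre_a IH (LK LD1_c4 LD2_c38 LD3_c28) (LK LD1_c2 LD2_c16 LD3_c18) Lrfl Lrfl
theorem f161870 : Led Lsl_ft (LP (LK LD1_c2 LD2_c57 LD3_c12)) = (LP (LK LD1_c4 LD2_c38 LD3_c28)) :=
  Lgr Lrot2 (Lpr_gt (f161863 IH) (Lpr_gt (f26873 IH) (Lpe (f26865 IH) (Lpn (LP (LK LD1_c4 LD2_c38 LD3_c28))))))
theorem f161894 : Led Lsl_ff (LP (LK LD1_c2 LD2_c57 LD3_c12)) = (LP (LK LD1_c4 LD2_c38 LD3_c28)) :=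
  Lgr Lrot3 (Lpr_ft (f161870 IH) (Lpn (LP (LK LD1_c4 LD2_c38 LD3_c28))))
theorem f69242 : Led Lsl_at (LP (LK LD1_c2 LD2_c57 LD3_c12)) = (LP (LK LD1_c1 LD2_c24 LD3_c23)) :=
  Lre_a IH (LK LD1_c2 LD2_c57 LD3_c12) (LK LD1_c1 LD2_c24 LD3_c23) Lrfl Lrfl
theorem f161905 : Led Lsl_gf (LP (LK LD1_c2 LD2_c57 LD3_c15)) = (LP (LK LD1_c4 LD2_c38 LD3_c28)) :=
  Lgr Lrot47 (Lpr_gt (K6.f56761 IH) (Lpe (f69242 IH) (Lpr_ff (f161894 IH) (Lpn (LP (LK LD1_c4 LD2_c38 LD3_c28))))))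
theorem f26892 : Led Lsl_ct (LP (LK LD1_c2 LD2_c16 LD3_c17)) = (LP (LK LD1_c4 LD2_c38 LD3_c28)) :=
  Lre_c IH (LK LD1_c2 LD2_c16 LD3_c17) (LK LD1_c4 LD2_c38 LD3_c28) Lrfl Lrfl
theorem f161913 : Led Lsl_gt (LP (LK LD1_c1 LD2_c23 LD3_c2)) = (LP (LK LD1_c2 LD2_c16 LD3_c17)) :=
  Lgr Lrot9 (Lpe (f37937 IH) (Lpe (f161070 IH) (Lpr_ct (K2.f35244 IH) (Lpr_gt (K7.f149582 IH) (Lpr_ct (K6.f112861 IH) (Lpe (K7.f136249 IH) (Lpe (K7.f56771 IH) (Lpr_gf (f161905 IH) (Lpe (f26892 IH) (Lpn (LP (LK LD1_c2 LD2_c16 LD3_c17))))))))))))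
theorem f26767 : Led Lsl_et (LP (LK LD1_c0 LD2_c29 LD3_c44)) = (LP (LK LD1_c1 LD2_c5 LD3_c5)) :=
  Lre_e IH (LK LD1_c0 LD2_c29 LD3_c44) (LK LD1_c1 LD2_c5 LD3_c5) Lrfl Lrfl
theorem f26774 : Led Lsl_dt (LP (LK LD1_c1 LD2_c5 LD3_c5)) = (LP (LK LD1_c2 LD2_c16 LD3_c22)) :=
  Lre_d IH (LK LD1_c1 LD2_c5 LD3_c5) (LK LD1_c2 LD2_c16 LD3_c22) Lrfl Lrfl
theorem f26766 : Led Lsl_et (LP (LK LD1_c0 LD2_c30 LD3_c5)) = (LP (LK LD1_c0 LD2_c13 LD3_c21)) :=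
  Lre_e IH (LK LD1_c0 LD2_c30 LD3_c5) (LK LD1_c0 LD2_c13 LD3_c21) Lrfl Lrfl
theorem f25927 : Led Lsl_dt (LP (LK LD1_c1 LD2_c5 LD3_c51)) = (LP (LK LD1_c0 LD2_c30 LD3_c5)) :=
  Lre_d IH (LK LD1_c1 LD2_c5 LD3_c51) (LK LD1_c0 LD2_c30 LD3_c5) Lrfl Lrfl
theorem f26775 : Led Lsl_et (LP (LK LD1_c2 LD2_c16 LD3_c22)) = (LP (LK LD1_c1 LD2_c5 LD3_c51)) :=
  Lgr Lrot71 (Lpe (f26774 IH) (Lpe (f26767 IH) (Lpr_df (K0.f26762 IH) (Lpe (f26766 IH) (Lpe (f25927 IH) (Lpn (LP (LK LD1_c1 LD2_c5 LD3_c51))))))))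
theorem f26805 : Led Lsl_ef (LP (LK LD1_c2 LD2_c16 LD3_c22)) = (LP (LK LD1_c1 LD2_c5 LD3_c51)) :=
  Lgr Lrot88 (Lpr_et (f26775 IH) (Lpn (LP (LK LD1_c1 LD2_c5 LD3_c51))))
theorem f26827 : Led Lsl_bt (LP (LK LD1_c2 LD2_c16 LD3_c22)) = (LP (LK LD1_c4 LD2_c38 LD3_c36)) :=
  Lre_b IH (LK LD1_c2 LD2_c16 LD3_c22) (LK LD1_c4 LD2_c38 LD3_c36) Lrfl Lrfl
theorem f26828 : Led Lsl_bt (LP (LK LD1_c2 LD2_c17 LD3_c49)) = (LP (LK LD1_c1 LD2_c5 LD3_c51)) :=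
  Lre_b IH (LK LD1_c2 LD2_c17 LD3_c49) (LK LD1_c1 LD2_c5 LD3_c51) Lrfl Lrfl
theorem f26829 : Led Lsl_et (LP (LK LD1_c4 LD2_c38 LD3_c36)) = (LP (LK LD1_c2 LD2_c17 LD3_c49)) :=
  Lgr Lrot74 (Lpe (f26827 IH) (Lpr_ef (f26805 IH) (Lpe (f26828 IH) (Lpn (LP (LK LD1_c2 LD2_c17 LD3_c49))))))
theorem f26840 : Led Lsl_dt (LP (LK LD1_c2 LD2_c16 LD3_c19)) = (LP (LK LD1_c4 LD2_c38 LD3_c36)) :=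
  Lre_d IH (LK LD1_c2 LD2_c16 LD3_c19) (LK LD1_c4 LD2_c38 LD3_c36) Lrfl Lrfl
theorem f26841 : Led Lsl_et (LP (LK LD1_c1 LD2_c5 LD3_c4)) = (LP (LK LD1_c2 LD2_c16 LD3_c19)) :=
  Lre_e IH (LK LD1_c1 LD2_c5 LD3_c4) (LK LD1_c2 LD2_c16 LD3_c19) Lrfl Lrfl
theorem f26842 : Led Lsl_dt (LP (LK LD1_c2 LD2_c17 LD3_c49)) = (LP (LK LD1_c1 LD2_c5 LD3_c50)) :=
  Lre_d IH (LK LD1_c2 LD2_c17 LD3_c49) (LK LD1_c1 LD2_c5 LD3_c50) Lrfl Lrfl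
theorem f26843 : Led Lsl_et (LP (LK LD1_c1 LD2_c5 LD3_c50)) = (LP (LK LD1_c0 LD2_c30 LD3_c4)) :=
  Lre_e IH (LK LD1_c1 LD2_c5 LD3_c50) (LK LD1_c0 LD2_c30 LD3_c4) Lrfl Lrfl
theorem f26844 : Led Lsl_df (LP (LK LD1_c1 LD2_c5 LD3_c4)) = (LP (LK LD1_c0 LD2_c30 LD3_c4)) :=
  Lgr Lrot70 (Lpr_et (f26841 IH) (Lpr_dt (f26840 IH) (Lpr_et (f26829 IH) (Lpr_dt (f26842 IH) (Lpr_et (f26843 IH) (Lpn (LP (LK LD1_c0 LD2_c30 LD3_c4))))))))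
theorem f26857 : Led Lsl_at (LP (LK LD1_c1 LD2_c5 LD3_c4)) = (LP (LK LD1_c2 LD2_c16 LD3_c17)) :=
  Lre_a IH (LK LD1_c1 LD2_c5 LD3_c4) (LK LD1_c2 LD2_c16 LD3_c17) Lrfl Lrfl
theorem f26858 : Led Lsl_at (LP (LK LD1_c1 LD2_c5 LD3_c49)) = (LP (LK LD1_c0 LD2_c30 LD3_c4)) :=
  Lre_a IH (LK LD1_c1 LD2_c5 LD3_c49) (LK LD1_c0 LD2_c30 LD3_c4) Lrfl Lrfl
theorem f26859 : Led Lsl_dt (LP (LK LD1_c2 LD2_c16 LD3_c17)) = (LP (LK LD1_c1 LD2_c5 LD3_c49)) :=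
  Lgr Lrot44 (Lpe (f26857 IH) (Lpr_df (f26844 IH) (Lpe (f26858 IH) (Lpn (LP (LK LD1_c1 LD2_c5 LD3_c49))))))
theorem f36517 : Led Lsl_at (LP (LK LD1_c1 LD2_c1 LD3_c50)) = (LP (LK LD1_c2 LD2_c9 LD3_c24)) :=
  Lre_a IH (LK LD1_c1 LD2_c1 LD3_c50) (LK LD1_c2 LD2_c9 LD3_c24) Lrfl Lrfl
theorem f36518 : Led Lsl_cf (LP (LK LD1_c1 LD2_c5 LD3_c49)) = (LP (LK LD1_c2 LD2_c9 LD3_c24)) :=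
  Lgr Lrot1 (Lpr_at (f26858 IH) (Lpr_ct (K4.f36492 IH) (Lpr_at (f36517 IH) (Lpn (LP (LK LD1_c2 LD2_c9 LD3_c24))))))
theorem f36589 : Led Lsl_dt (LP (LK LD1_c4 LD2_c23 LD3_c58)) = (LP (LK LD1_c2 LD2_c9 LD3_c24)) :=
  Lre_d IH (LK LD1_c4 LD2_c23 LD3_c58) (LK LD1_c2 LD2_c9 LD3_c24) Lrfl Lrfl
theorem f161922 : Led Lsl_gt (LP (LK LD1_c2 LD2_c54 LD3_c22)) = (LP (LK LD1_c4 LD2_c23 LD3_c58)) :=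
  Lgr Lrot49 (Lpe (K6.f81823 IH) (Lpe (K6.f81817 IH) (Lpe (K2.f37920 IH) (Lpr_gt (K6.f37936 IH) (Lpr_dt (f37937 IH) (Lpr_gt (f161913 IH) (Lpr_dt (f26859 IH) (Lpr_cf (f36518 IH) (Lpe (f36589 IH) (Lpn (LP (LK LD1_c4 LD2_c23 LD3_c58))))))))))))
theorem f119740 : Led Lsl_gt (LP (LK LD1_c11 LD2_c37 LD3_c14)) = (LP (LK LD1_c5 LD2_c56 LD3_c1)) :=
  Lre_g IH (LK LD1_c11 LD2_c37 LD3_c14) (LK LD1_c5 LD2_c56 LD3_c1) Lrfl Lrfl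
theorem f149669 : Led Lsl_df (LP (LK LD1_c1 LD2_c34 LD3_c31)) = (LP (LK LD1_c2 LD2_c57 LD3_c15)) :=
  Lgr Lrot38 (Lpr_dt (K7.f149665 IH) (Lpn (LP (LK LD1_c2 LD2_c57 LD3_c15))))
theorem f64534 : Led Lsl_at (LP (LK LD1_c6 LD2_c2 LD3_c12)) = (LP (LK LD1_c2 LD2_c57 LD3_c16)) :=
  Lre_a IH (LK LD1_c6 LD2_c2 LD3_c12) (LK LD1_c2 LD2_c57 LD3_c16) Lrfl Lrfl
theorem f64536 : Led Lsl_ff (LP (LK LD1_c6 LD2_c2 LD3_c12)) = (LP (LK LD1_c3 LD2_c16 LD3_c42)) :=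
  Lgr Lrot52 (Lpr_at (f64534 IH) (Lpr_gf (K4.f64482 IH) (Lpe (K7.f64535 IH) (Lpn (LP (LK LD1_c3 LD2_c16 LD3_c42))))))
theorem f64579 : Led Lsl_ft (LP (LK LD1_c6 LD2_c2 LD3_c12)) = (LP (LK LD1_c3 LD2_c16 LD3_c42)) :=
  Lgr Lrot48 (Lpr_ff (f64536 IH) (Lpn (LP (LK LD1_c3 LD2_c16 LD3_c42))))
theorem f161898 : Led Lsl_dt (LP (LK LD1_c3 LD2_c16 LD3_c42)) = (LP (LK LD1_c4 LD2_c38 LD3_c28)) :=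
  Lgr Lrot60 (Lpe (f64579 IH) (Lpe (f64586 IH) (Lpr_ff (f161894 IH) (Lpn (LP (LK LD1_c4 LD2_c38 LD3_c28))))))
theorem f64543 : Led Lsl_gt (LP (LK LD1_c6 LD2_c36 LD3_c23)) = (LP (LK LD1_c3 LD2_c16 LD3_c31)) :=
  Lre_g IH (LK LD1_c6 LD2_c36 LD3_c23) (LK LD1_c3 LD2_c16 LD3_c31) Lrfl Lrfl
theorem f117811 : Led Lsl_gt (LP (LK LD1_c11 LD2_c48 LD3_c60)) = (LP (LK LD1_c6 LD2_c36 LD3_c23)) :=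
  Lgr Lrot5 (Lpr_ft (K4.f117797 IH) (Lpr_at (K5.f66401 IH) (Lpe (f64543 IH) (Lpn (LP (LK LD1_c6 LD2_c36 LD3_c23))))))
theorem f161911 : Led Lsl_df (LP (LK LD1_c11 LD2_c37 LD3_c14)) = (LP (LK LD1_c6 LD2_c36 LD3_c23)) :=
  Lgr Lrot153 (Lpr_gt (f119740 IH) (Lpr_dt (K6.f119731 IH) (Lpe (K6.f65550 IH) (Lpr_df (f149669 IH) (Lpr_gf (f161905 IH) (Lpe (f161898 IH) (Lpe (K7.f117714 IH) (Lpe (K4.f117685 IH) (Lpr_gt (f117811 IH) (Lpn (LP (LK LD1_c6 LD2_c36 LD3_c23))))))))))))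
theorem f36587 : Led Lsl_ct (LP (LK LD1_c4 LD2_c23 LD3_c58)) = (LP (LK LD1_c8 LD2_c45 LD3_c40)) :=
  Lre_c IH (LK LD1_c4 LD2_c23 LD3_c58) (LK LD1_c8 LD2_c45 LD3_c40) Lrfl Lrfl
theorem f161935 : Led Lsl_df (LP (LK LD1_c6 LD2_c2 LD3_c21)) = (LP (LK LD1_c8 LD2_c45 LD3_c40)) :=
  Lgr Lrot162 (Lpe (K4.f64542 IH) (Lpr_gf (K4.f64482 IH) (Lpe (K4.f64538 IH) (Lpe (f64543 IH) (Lpe (f161911 IH) (Lpr_gt (f119740 IH) (Lpr_ct (K6.f82027 IH) (Lpr_gt (f161922 IH) (Lpr_ct (f36587 IH) (Lpn (LP (LK LD1_c8 LD2_c45 LD3_c40))))))))))))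
theorem f161743 : Led Lsl_at (LP (LK LD1_c9 LD2_c47 LD3_c51)) = (LP (LK LD1_c11 LD2_c36 LD3_c21)) :=
  Lgr Lrot66 (Lpe (K6.f81922 IH) (Lpe (f81925 IH) (Lpr_ff (f161739 IH) (Lpn (LP (LK LD1_c11 LD2_c36 LD3_c21))))))
theorem f161759 : Led Lsl_gf (LP (LK LD1_c11 LD2_c36 LD3_c21)) = (LP (LK LD1_c5 LD2_c56 LD3_c15)) :=
  Lgr Lrot76 (Lpe (f161743 IH) (Lpe (K6.f81922 IH) (Lpr_gt (f161755 IH) (Lpn (LP (LK LD1_c5 LD2_c56 LD3_c15))))))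
theorem f161947 : Led Lsl_gt (LP (LK LD1_c5 LD2_c55 LD3_c32)) = (LP (LK LD1_c8 LD2_c45 LD3_c40)) :=
  Lgr Lrot49 (Lpe (f149660 IH) (Lpr_gf (f161759 IH) (Lpr_cf (K7.f149547 IH) (Lpr_gt (K7.f65552 IH) (Lpr_dt (K7.f149665 IH) (Lpr_gt (K6.f56761 IH) (Lpr_dt (f56777 IH) (Lpe (K4.f64547 IH) (Lpr_df (f161935 IH) (Lpn (LP (LK LD1_c8 LD2_c45 LD3_c40))))))))))))
theorem f149656 : Led Lsl_bt (LP (LK LD1_c11 LD2_c36 LD3_c20)) = (LP (LK LD1_c5 LD2_c55 LD3_c32)) :=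
  Lre_b IH (LK LD1_c11 LD2_c36 LD3_c20) (LK LD1_c5 LD2_c55 LD3_c32) Lrfl Lrfl
theorem f36590 : Led Lsl_ct (LP (LK LD1_c8 LD2_c45 LD3_c40)) = (LP (LK LD1_c4 LD2_c23 LD3_c58)) :=
  Lre_c IH (LK LD1_c8 LD2_c45 LD3_c40) (LK LD1_c4 LD2_c23 LD3_c58) Lrfl Lrfl
theorem f161931 : Led Lsl_gf (LP (LK LD1_c2 LD2_c54 LD3_c24)) = (LP (LK LD1_c4 LD2_c23 LD3_c58)) :=
  Lgr Lrot76 (Lpe (K6.f137768 IH) (Lpe (K6.f137706 IH) (Lpr_gt (f161922 IH) (Lpn (LP (LK LD1_c4 LD2_c23 LD3_c58))))))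
theorem f149590 : Led Lsl_bt (LP (LK LD1_c5 LD2_c56 LD3_c4)) = (LP (LK LD1_c11 LD2_c37 LD3_c19)) :=
  Lre_b IH (LK LD1_c5 LD2_c56 LD3_c4) (LK LD1_c11 LD2_c37 LD3_c19) Lrfl Lrfl
theorem f149646 : Led Lsl_bt (LP (LK LD1_c20 LD2_c35 LD3_c51)) = (LP (LK LD1_c11 LD2_c37 LD3_c18)) :=
  Lre_b IH (LK LD1_c20 LD2_c35 LD3_c51) (LK LD1_c11 LD2_c37 LD3_c18) Lrfl Lrfl
theorem f149651 : Led Lsl_ct (LP (LK LD1_c20 LD2_c35 LD3_c51)) = (LP (LK LD1_c11 LD2_c37 LD3_c19)) :=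
  Lre_c IH (LK LD1_c20 LD2_c35 LD3_c51) (LK LD1_c11 LD2_c37 LD3_c19) Lrfl Lrfl
theorem f144257 : Led Lsl_bt (LP (LK LD1_c3 LD2_c14 LD3_c8)) = (LP (LK LD1_c6 LD2_c31 LD3_c55)) :=
  Lre_b IH (LK LD1_c3 LD2_c14 LD3_c8) (LK LD1_c6 LD2_c31 LD3_c55) Lrfl Lrfl
theorem f124609 : Led Lsl_dt (LP (LK LD1_c6 LD2_c30 LD3_c48)) = (LP (LK LD1_c3 LD2_c13 LD3_c34)) :=
  Lre_d IH (LK LD1_c6 LD2_c30 LD3_c48) (LK LD1_c3 LD2_c13 LD3_c34) Lrfl Lrfl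
theorem f148108 : Led Lsl_gf (LP (LK LD1_c6 LD2_c30 LD3_c48)) = (LP (LK LD1_c3 LD2_c43 LD3_c17)) :=
  Lgr Lrot143 (Lpr_dt (f124609 IH) (Lpe (K5.f124592 IH) (Lpe (K4.f114989 IH) (Lpe (K2.f12080 IH) (Lpe (K5.f12109 IH) (Lpe (K5.f128325 IH) (Lpe (K4.f107289 IH) (Lpr_gt (K7.f148101 IH) (Lpr_dt (K7.f148107 IH) (Lpn (LP (LK LD1_c3 LD2_c43 LD3_c17))))))))))))
theorem f148120 : Led Lsl_bt (LP (LK LD1_c7 LD2_c27 LD3_c11)) = (LP (LK LD1_c3 LD2_c43 LD3_c17)) :=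
  Lre_b IH (LK LD1_c7 LD2_c27 LD3_c11) (LK LD1_c3 LD2_c43 LD3_c17) Lrfl Lrfl
theorem f148138 : Led Lsl_ct (LP (LK LD1_c7 LD2_c27 LD3_c11)) = (LP (LK LD1_c14 LD2_c4 LD3_c48)) :=
  Lre_c IH (LK LD1_c7 LD2_c27 LD3_c11) (LK LD1_c14 LD2_c4 LD3_c48) Lrfl Lrfl
theorem f159008 : Led Lsl_gt (LP (LK LD1_c11 LD2_c37 LD3_c19)) = (LP (LK LD1_c14 LD2_c4 LD3_c48)) :=
  Lgr Lrot65 (Lpe (f149651 IH) (Lpr_bt (f149646 IH) (Lpr_gf (f159005 IH) (Lpe (f144257 IH) (Lpr_ct (K6.f129099 IH) (Lpe (K6.f12585 IH) (Lpe (K6.f144249 IH) (Lpr_gf (f148108 IH) (Lpe (f148120 IH) (Lpr_ct (f148138 IH) (Lpn (LP (LK LD1_c14 LD2_c4 LD3_c48)))))))))))))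
theorem f123877 : Led Lsl_bt (LP (LK LD1_c1 LD2_c49 LD3_c1)) = (LP (LK LD1_c3 LD2_c43 LD3_c57)) :=
  Lre_b IH (LK LD1_c1 LD2_c49 LD3_c1) (LK LD1_c3 LD2_c43 LD3_c57) Lrfl Lrfl
theorem f148121 : Led Lsl_ct (LP (LK LD1_c14 LD2_c4 LD3_c48)) = (LP (LK LD1_c7 LD2_c27 LD3_c11)) :=
  Lre_c IH (LK LD1_c14 LD2_c4 LD3_c48) (LK LD1_c7 LD2_c27 LD3_c11) Lrfl Lrfl
theorem f148122 : Led Lsl_bt (LP (LK LD1_c7 LD2_c28 LD3_c37)) = (LP (LK LD1_c14 LD2_c4 LD3_c48)) :=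
  Lgr Lrot128 (Lpe (K5.f123691 IH) (Lpe (f123877 IH) (Lpr_cf (K7.f148110 IH) (Lpe (f148120 IH) (Lpe (f148121 IH) (Lpn (LP (LK LD1_c14 LD2_c4 LD3_c48))))))))
theorem f161953 : Led Lsl_ct (LP (LK LD1_c11 LD2_c36 LD3_c20)) = (LP (LK LD1_c7 LD2_c28 LD3_c35)) :=
  Lgr Lrot10 (Lpr_bt (f149656 IH) (Lpr_gt (f161947 IH) (Lpr_ct (f36590 IH) (Lpe (f161931 IH) (Lpe (K6.f119701 IH) (Lpr_bt (f149590 IH) (Lpr_gt (f159008 IH) (Lpe (f148122 IH) (Lpr_ct (K5.f123649 IH) (Lpr_gt (f123607 IH) (Lpn (LP (LK LD1_c7 LD2_c28 LD3_c35)))))))))))))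
theorem f148946 : Led Lsl_bt (LP (LK LD1_c2 LD2_c10 LD3_c11)) = (LP (LK LD1_c4 LD2_c25 LD3_c40)) :=
  Lre_b IH (LK LD1_c2 LD2_c10 LD3_c11) (LK LD1_c4 LD2_c25 LD3_c40) Lrfl Lrfl
theorem f155769 : Led Lsl_at (LP (LK LD1_c3 LD2_c7 LD3_c18)) = (LP (LK LD1_c1 LD2_c30 LD3_c5)) :=
  Lre_a IH (LK LD1_c3 LD2_c7 LD3_c18) (LK LD1_c1 LD2_c30 LD3_c5) Lrfl Lrfl
theorem f152445 : Led Lsl_ft (LP (LK LD1_c4 LD2_c41 LD3_c48)) = (LP (LK LD1_c3 LD2_c7 LD3_c18)) :=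
  Lgr Lrot54 (Lpe (K7.f152392 IH) (Lpr_ff (K7.f152424 IH) (Lpe (f104687 IH) (Lpn (LP (LK LD1_c3 LD2_c7 LD3_c18))))))
theorem f155770 : Led Lsl_at (LP (LK LD1_c2 LD2_c19 LD3_c18)) = (LP (LK LD1_c4 LD2_c41 LD3_c48)) :=
  Lgr Lrot66 (Lpr_ff (f155767 IH) (Lpe (f155769 IH) (Lpe (f152445 IH) (Lpn (LP (LK LD1_c4 LD2_c41 LD3_c48))))))
theorem f61148 : Led Lsl_at (LP (LK LD1_c2 LD2_c18 LD3_c8)) = (LP (LK LD1_c4 LD2_c41 LD3_c41)) :=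
  Lre_a IH (LK LD1_c2 LD2_c18 LD3_c8) (LK LD1_c4 LD2_c41 LD3_c41) Lrfl Lrfl
theorem f155780 : Led Lsl_cf (LP (LK LD1_c2 LD2_c19 LD3_c18)) = (LP (LK LD1_c4 LD2_c41 LD3_c41)) :=
  Lgr Lrot1 (Lpr_at (f155770 IH) (Lpr_ct (K7.f61175 IH) (Lpr_at (f61148 IH) (Lpn (LP (LK LD1_c4 LD2_c41 LD3_c41))))))
theorem f104684 : Led Lsl_dt (LP (LK LD1_c2 LD2_c17 LD3_c60)) = (LP (LK LD1_c4 LD2_c41 LD3_c41)) :=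
  Lre_d IH (LK LD1_c2 LD2_c17 LD3_c60) (LK LD1_c4 LD2_c41 LD3_c41) Lrfl Lrfl
theorem f104785 : Led Lsl_bt (LP (LK LD1_c9 LD2_c8 LD3_c0)) = (LP (LK LD1_c17 LD2_c0 LD3_c22)) :=
  Lre_b IH (LK LD1_c9 LD2_c8 LD3_c0) (LK LD1_c17 LD2_c0 LD3_c22) Lrfl Lrfl
theorem f130317 : Led Lsl_dt (LP (LK LD1_c17 LD2_c0 LD3_c22)) = (LP (LK LD1_c14 LD2_c13 LD3_c49)) :=
  Lgr Lrot79 (Lpe (f104785 IH) (Lpe (K7.f128351 IH) (Lpr_bf (f130313 IH) (Lpn (LP (LK LD1_c14 LD2_c13 LD3_c49))))))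
theorem f126490 : Led Lsl_gt (LP (LK LD1_c7 LD2_c35 LD3_c53)) = (LP (LK LD1_c12 LD2_c33 LD3_c42)) :=
  Lgr Lrot46 (Lpr_gf (K5.f126488 IH) (Lpr_ft (K2.f95617 IH) (Lpr_at (K4.f93212 IH) (Lpn (LP (LK LD1_c12 LD2_c33 LD3_c42))))))
theorem f126497 : Led Lsl_dt (LP (LK LD1_c3 LD2_c47 LD3_c29)) = (LP (LK LD1_c7 LD2_c35 LD3_c53)) :=
  Lre_d IH (LK LD1_c3 LD2_c47 LD3_c29) (LK LD1_c7 LD2_c35 LD3_c53) Lrfl Lrfl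
theorem f129422 : Led Lsl_cf (LP (LK LD1_c7 LD2_c35 LD3_c53)) = (LP (LK LD1_c14 LD2_c12 LD3_c51)) :=
  Lgr Lrot99 (Lpe (f126497 IH) (Lpr_cf (K6.f126482 IH) (Lpe (K5.f129368 IH) (Lpr_cf (K5.f129370 IH) (Lpr_gf (K5.f127868 IH) (Lpe (K5.f96143 IH) (Lpr_gt (f129417 IH) (Lpr_ct (f9803 IH) (Lpe (f111442 IH) (Lpn (LP (LK LD1_c14 LD2_c12 LD3_c51))))))))))))
theorem f111440 : Led Lsl_dt (LP (LK LD1_c7 LD2_c32 LD3_c13)) = (LP (LK LD1_c14 LD2_c12 LD3_c52)) :=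
  Lre_d IH (LK LD1_c7 LD2_c32 LD3_c13) (LK LD1_c14 LD2_c12 LD3_c52) Lrfl Lrfl
theorem f130326 : Led Lsl_gf (LP (LK LD1_c17 LD2_c0 LD3_c22)) = (LP (LK LD1_c14 LD2_c12 LD3_c52)) :=
  Lgr Lrot143 (Lpr_dt (f130317 IH) (Lpe (K6.f130308 IH) (Lpr_df (K6.f130257 IH) (Lpe (f123603 IH) (Lpe (K4.f111276 IH) (Lpe (f126490 IH) (Lpr_cf (f129422 IH) (Lpr_gt (K5.f93624 IH) (Lpr_dt (f111440 IH) (Lpn (LP (LK LD1_c14 LD2_c12 LD3_c52))))))))))))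
theorem f104788 : Led Lsl_bt (LP (LK LD1_c9 LD2_c48 LD3_c50)) = (LP (LK LD1_c4 LD2_c59 LD3_c11)) :=
  Lre_b IH (LK LD1_c9 LD2_c48 LD3_c50) (LK LD1_c4 LD2_c59 LD3_c11) Lrfl Lrfl
theorem f104789 : Led Lsl_ct (LP (LK LD1_c17 LD2_c0 LD3_c22)) = (LP (LK LD1_c9 LD2_c48 LD3_c50)) :=
  Lgr Lrot83 (Lpe (f104785 IH) (Lpr_cf (K4.f104780 IH) (Lpe (K4.f104786 IH) (Lpe (K7.f104787 IH) (Lpe (f104788 IH) (Lpn (LP (LK LD1_c9 LD2_c48 LD3_c50))))))))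
theorem f129472 : Led Lsl_ct (LP (LK LD1_c14 LD2_c12 LD3_c50)) = (LP (LK LD1_c13 LD2_c0 LD3_c52)) :=
  Lgr Lrot59 (Lpr_cf (f129467 IH) (Lpn (LP (LK LD1_c13 LD2_c0 LD3_c52))))
theorem f91972 : Led Lsl_ct (LP (LK LD1_c6 LD2_c49 LD3_c25)) = (LP (LK LD1_c3 LD2_c22 LD3_c59)) :=
  Lre_c IH (LK LD1_c6 LD2_c49 LD3_c25) (LK LD1_c3 LD2_c22 LD3_c59) Lrfl Lrfl
theorem f127587 : Led Lsl_ct (LP (LK LD1_c12 LD2_c24 LD3_c7)) = (LP (LK LD1_c6 LD2_c25 LD3_c58)) :=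
  Lre_c IH (LK LD1_c12 LD2_c24 LD3_c7) (LK LD1_c6 LD2_c25 LD3_c58) Lrfl Lrfl
theorem f94708 : Led Lsl_bt (LP (LK LD1_c1 LD2_c40 LD3_c14)) = (LP (LK LD1_c3 LD2_c27 LD3_c16)) :=
  Lre_b IH (LK LD1_c1 LD2_c40 LD3_c14) (LK LD1_c3 LD2_c27 LD3_c16) Lrfl Lrfl
theorem f127588 : Led Lsl_bt (LP (LK LD1_c6 LD2_c25 LD3_c58)) = (LP (LK LD1_c3 LD2_c22 LD3_c60)) :=
  Lgr Lrot128 (Lpe (f127587 IH) (Lpr_bf (K5.f127583 IH) (Lpe (K5.f15618 IH) (Lpe (f94708 IH) (Lpr_cf (K2.f94702 IH) (Lpn (LP (LK LD1_c3 LD2_c22 LD3_c60))))))))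
theorem f95429 : Led Lsl_ft (LP (LK LD1_c3 LD2_c22 LD3_c60)) = (LP (LK LD1_c3 LD2_c44 LD3_c50)) :=
  Lgr Lrot4 (Lpe (K2.f94695 IH) (Lpr_ff (K2.f95425 IH) (Lpe (K2.f95272 IH) (Lpn (LP (LK LD1_c3 LD2_c44 LD3_c50))))))
theorem f95282 : Led Lsl_bt (LP (LK LD1_c3 LD2_c44 LD3_c50)) = (LP (LK LD1_c7 LD2_c30 LD3_c39)) :=
  Lre_b IH (LK LD1_c3 LD2_c44 LD3_c50) (LK LD1_c7 LD2_c30 LD3_c39) Lrfl Lrfl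
theorem f127601 : Led Lsl_ff (LP (LK LD1_c6 LD2_c25 LD3_c58)) = (LP (LK LD1_c7 LD2_c30 LD3_c39)) :=
  Lgr Lrot25 (Lpr_bt (f127588 IH) (Lpr_ft (f95429 IH) (Lpr_bt (f95282 IH) (Lpn (LP (LK LD1_c7 LD2_c30 LD3_c39))))))
theorem f93213 : Led Lsl_dt (LP (LK LD1_c3 LD2_c44 LD3_c49)) = (LP (LK LD1_c7 LD2_c30 LD3_c39)) :=
  Lre_d IH (LK LD1_c3 LD2_c44 LD3_c49) (LK LD1_c7 LD2_c30 LD3_c39) Lrfl Lrfl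
theorem f127605 : Led Lsl_dt (LP (LK LD1_c6 LD2_c25 LD3_c58)) = (LP (LK LD1_c3 LD2_c22 LD3_c59)) :=
  Lgr Lrot60 (Lpr_ff (f127601 IH) (Lpe (f93213 IH) (Lpe (K2.f95641 IH) (Lpn (LP (LK LD1_c3 LD2_c22 LD3_c59))))))
theorem f130328 : Led Lsl_gt (LP (LK LD1_c9 LD2_c48 LD3_c50)) = (LP (LK LD1_c12 LD2_c24 LD3_c7)) :=
  Lgr Lrot150 (Lpe (f104789 IH) (Lpr_gf (f130326 IH) (Lpe (f111440 IH) (Lpr_gt (f93597 IH) (Lpr_ct (f129472 IH) (Lpr_gt (f95634 IH) (Lpr_ct (f91972 IH) (Lpe (f127605 IH) (Lpe (f127587 IH) (Lpn (LP (LK LD1_c12 LD2_c24 LD3_c7))))))))))))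
theorem f124449 : Led Lsl_bt (LP (LK LD1_c4 LD2_c41 LD3_c47)) = (LP (LK LD1_c2 LD2_c18 LD3_c6)) :=
  Lre_b IH (LK LD1_c4 LD2_c41 LD3_c47) (LK LD1_c2 LD2_c18 LD3_c6) Lrfl Lrfl
theorem f124450 : Led Lsl_ct (LP (LK LD1_c9 LD2_c18 LD3_c12)) = (LP (LK LD1_c4 LD2_c41 LD3_c47)) :=
  Lre_c IH (LK LD1_c9 LD2_c18 LD3_c12) (LK LD1_c4 LD2_c41 LD3_c47) Lrfl Lrfl
theorem f124451 : Led Lsl_bt (LP (LK LD1_c6 LD2_c18 LD3_c3)) = (LP (LK LD1_c9 LD2_c18 LD3_c12)) :=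
  Lgr Lrot128 (Lpr_cf (K4.f113345 IH) (Lpe (K7.f113347 IH) (Lpr_cf (K7.f124434 IH) (Lpe (f124449 IH) (Lpe (f124450 IH) (Lpn (LP (LK LD1_c9 LD2_c18 LD3_c12))))))))
theorem f104795 : Led Lsl_bt (LP (LK LD1_c4 LD2_c59 LD3_c11)) = (LP (LK LD1_c9 LD2_c48 LD3_c50)) :=
  Lre_b IH (LK LD1_c4 LD2_c59 LD3_c11) (LK LD1_c9 LD2_c48 LD3_c50) Lrfl Lrfl
theorem f124499 : Led Lsl_gf (LP (LK LD1_c9 LD2_c48 LD3_c50)) = (LP (LK LD1_c9 LD2_c18 LD3_c12)) :=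
  Lgr Lrot124 (Lpe (f104795 IH) (Lpr_ct (K7.f104787 IH) (Lpr_gt (K4.f26003 IH) (Lpe (K4.f20421 IH) (Lpr_bt (K7.f60982 IH) (Lpr_gt (K7.f114860 IH) (Lpr_ct (K3.f78764 IH) (Lpe (K4.f114862 IH) (Lpe (K4.f113348 IH) (Lpr_bt (f124451 IH) (Lpn (LP (LK LD1_c9 LD2_c18 LD3_c12)))))))))))))
theorem f130330 : Led Lsl_ft (LP (LK LD1_c9 LD2_c18 LD3_c12)) = (LP (LK LD1_c6 LD2_c25 LD3_c59)) :=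
  Lgr Lrot2 (Lpe (f124499 IH) (Lpr_gt (f130328 IH) (Lpe (K5.f79165 IH) (Lpn (LP (LK LD1_c6 LD2_c25 LD3_c59))))))
theorem f130336 : Led Lsl_ff (LP (LK LD1_c9 LD2_c18 LD3_c12)) = (LP (LK LD1_c6 LD2_c25 LD3_c59)) :=
  Lgr Lrot3 (Lpr_ft (f130330 IH) (Lpn (LP (LK LD1_c6 LD2_c25 LD3_c59))))
theorem f130338 : Led Lsl_ft (LP (LK LD1_c4 LD2_c41 LD3_c47)) = (LP (LK LD1_c3 LD2_c10 LD3_c46)) :=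
  Lgr Lrot4 (Lpe (f124450 IH) (Lpr_ff (f130336 IH) (Lpe (K5.f69190 IH) (Lpn (LP (LK LD1_c3 LD2_c10 LD3_c46))))))
theorem f124455 : Led Lsl_bt (LP (LK LD1_c2 LD2_c18 LD3_c6)) = (LP (LK LD1_c4 LD2_c41 LD3_c47)) :=
  Lre_b IH (LK LD1_c2 LD2_c18 LD3_c6) (LK LD1_c4 LD2_c41 LD3_c47) Lrfl Lrfl
theorem f130369 : Led Lsl_ff (LP (LK LD1_c2 LD2_c18 LD3_c6)) = (LP (LK LD1_c1 LD2_c31 LD3_c48)) :=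
  Lgr Lrot25 (Lpr_bt (f124455 IH) (Lpr_ft (f130338 IH) (Lpr_bt (K5.f69189 IH) (Lpn (LP (LK LD1_c1 LD2_c31 LD3_c48))))))
theorem f127591 : Led Lsl_at (LP (LK LD1_c3 LD2_c10 LD3_c46)) = (LP (LK LD1_c6 LD2_c25 LD3_c58)) :=
  Lre_a IH (LK LD1_c3 LD2_c10 LD3_c46) (LK LD1_c6 LD2_c25 LD3_c58) Lrfl Lrfl
theorem f95531 : Led Lsl_at (LP (LK LD1_c3 LD2_c22 LD3_c60)) = (LP (LK LD1_c3 LD2_c44 LD3_c58)) :=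
  Lgr Lrot100 (Lpr_af (K2.f95438 IH) (Lpn (LP (LK LD1_c3 LD2_c44 LD3_c58))))
theorem f127592 : Led Lsl_af (LP (LK LD1_c1 LD2_c31 LD3_c48)) = (LP (LK LD1_c2 LD2_c18 LD3_c7)) :=
  Lgr Lrot36 (Lpr_bt (K5.f79106 IH) (Lpr_at (f127591 IH) (Lpr_bt (f127588 IH) (Lpr_at (f95531 IH) (Lpr_bt (K3.f104723 IH) (Lpn (LP (LK LD1_c2 LD2_c18 LD3_c7))))))))
theorem f107466 : Led Lsl_ft (LP (LK LD1_c0 LD2_c43 LD3_c30)) = (LP (LK LD1_c1 LD2_c7 LD3_c12)) :=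
  Lgr Lrot54 (Lpe (K3.f24309 IH) (Lpr_ff (K3.f107460 IH) (Lpe (K4.f23486 IH) (Lpn (LP (LK LD1_c1 LD2_c7 LD3_c12))))))
theorem f107468 : Led Lsl_ff (LP (LK LD1_c1 LD2_c32 LD3_c31)) = (LP (LK LD1_c2 LD2_c19 LD3_c47)) :=
  Lgr Lrot25 (Lpe (K3.f26158 IH) (Lpr_ft (f107466 IH) (Lpe (K3.f23478 IH) (Lpn (LP (LK LD1_c2 LD2_c19 LD3_c47))))))
theorem f107470 : Led Lsl_ft (LP (LK LD1_c1 LD2_c32 LD3_c31)) = (LP (LK LD1_c2 LD2_c19 LD3_c47)) :=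
  Lgr Lrot48 (Lpr_ff (f107468 IH) (Lpn (LP (LK LD1_c2 LD2_c19 LD3_c47))))
theorem f109987 : Led Lsl_ft (LP (LK LD1_c1 LD2_c31 LD3_c49)) = (LP (LK LD1_c2 LD2_c18 LD3_c7)) :=
  Lgr Lrot4 (Lpr_cf (K3.f109978 IH) (Lpe (f107470 IH) (Lpr_cf (K3.f104304 IH) (Lpn (LP (LK LD1_c2 LD2_c18 LD3_c7))))))
theorem f130372 : Led Lsl_at (LP (LK LD1_c2 LD2_c18 LD3_c6)) = (LP (LK LD1_c1 LD2_c31 LD3_c49)) :=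
  Lgr Lrot66 (Lpr_ff (f130369 IH) (Lpr_af (f127592 IH) (Lpe (f109987 IH) (Lpn (LP (LK LD1_c1 LD2_c31 LD3_c49))))))
theorem f152521 : Led Lsl_gt (LP (LK LD1_c1 LD2_c31 LD3_c48)) = (LP (LK LD1_c2 LD2_c17 LD3_c60)) :=
  Lgr Lrot5 (Lpe (f130369 IH) (Lpr_at (f130372 IH) (Lpr_gf (K7.f152497 IH) (Lpn (LP (LK LD1_c2 LD2_c17 LD3_c60))))))
theorem f79197 : Led Lsl_dt (LP (LK LD1_c12 LD2_c24 LD3_c9)) = (LP (LK LD1_c6 LD2_c25 LD3_c59)) :=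
  Lre_d IH (LK LD1_c12 LD2_c24 LD3_c9) (LK LD1_c6 LD2_c25 LD3_c59) Lrfl Lrfl
theorem f121146 : Led Lsl_at (LP (LK LD1_c3 LD2_c44 LD3_c6)) = (LP (LK LD1_c7 LD2_c29 LD3_c2)) :=
  Lre_a IH (LK LD1_c3 LD2_c44 LD3_c6) (LK LD1_c7 LD2_c29 LD3_c2) Lrfl Lrfl
theorem f130267 : Led Lsl_gt (LP (LK LD1_c3 LD2_c41 LD3_c25)) = (LP (LK LD1_c7 LD2_c22 LD3_c40)) :=
  Lgr Lrot5 (Lpe (K5.f129326 IH) (Lpr_at (f121146 IH) (Lpr_gf (K7.f130265 IH) (Lpn (LP (LK LD1_c7 LD2_c22 LD3_c40))))))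
theorem f116510 : Led Lsl_ct (LP (LK LD1_c3 LD2_c41 LD3_c10)) = (LP (LK LD1_c7 LD2_c22 LD3_c39)) :=
  Lre_c IH (LK LD1_c3 LD2_c41 LD3_c10) (LK LD1_c7 LD2_c22 LD3_c39) Lrfl Lrfl
theorem f91312 : Led Lsl_bt (LP (LK LD1_c13 LD2_c1 LD3_c32)) = (LP (LK LD1_c6 LD2_c50 LD3_c18)) :=
  Lre_b IH (LK LD1_c13 LD2_c1 LD3_c32) (LK LD1_c6 LD2_c50 LD3_c18) Lrfl Lrfl
theorem f130089 : Led Lsl_ff (LP (LK LD1_c6 LD2_c49 LD3_c60)) = (LP (LK LD1_c6 LD2_c32 LD3_c44)) :=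
  Lgr Lrot3 (Lpr_ft (K5.f130082 IH) (Lpn (LP (LK LD1_c6 LD2_c32 LD3_c44))))
theorem f130091 : Led Lsl_ct (LP (LK LD1_c6 LD2_c49 LD3_c32)) = (LP (LK LD1_c6 LD2_c32 LD3_c44)) :=
  Lgr Lrot40 (Lpe (K5.f94026 IH) (Lpe (K6.f93278 IH) (Lpr_ff (f130089 IH) (Lpn (LP (LK LD1_c6 LD2_c32 LD3_c44))))))
theorem f120259 : Led Lsl_gt (LP (LK LD1_c12 LD2_c32 LD3_c55)) = (LP (LK LD1_c6 LD2_c32 LD3_c44)) :=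
  Lre_g IH (LK LD1_c12 LD2_c32 LD3_c55) (LK LD1_c6 LD2_c32 LD3_c44) Lrfl Lrfl
theorem f130095 : Led Lsl_ct (LP (LK LD1_c13 LD2_c1 LD3_c32)) = (LP (LK LD1_c12 LD2_c32 LD3_c55)) :=
  Lgr Lrot64 (Lpr_bt (f91312 IH) (Lpe (K6.f83796 IH) (Lpe (K5.f83772 IH) (Lpr_ct (K2.f90580 IH) (Lpe (K2.f91303 IH) (Lpe (K4.f26134 IH) (Lpe (K3.f94931 IH) (Lpe (K5.f93269 IH) (Lpr_ct (f130091 IH) (Lpe (f120259 IH) (Lpn (LP (LK LD1_c12 LD2_c32 LD3_c55)))))))))))))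
theorem f137481 : Led Lsl_gt (LP (LK LD1_c12 LD2_c24 LD3_c12)) = (LP (LK LD1_c12 LD2_c32 LD3_c55)) :=
  Lgr Lrot65 (Lpe (f69154 IH) (Lpr_bt (f69153 IH) (Lpe (f69151 IH) (Lpe (K7.f69130 IH) (Lpr_ct (K6.f26518 IH) (Lpr_gf (K6.f133157 IH) (Lpe (K6.f133142 IH) (Lpr_gf (K6.f137474 IH) (Lpe (f91312 IH) (Lpr_ct (f130095 IH) (Lpn (LP (LK LD1_c12 LD2_c32 LD3_c55)))))))))))))
theorem f155560 : Led Lsl_df (LP (LK LD1_c7 LD2_c22 LD3_c39)) = (LP (LK LD1_c12 LD2_c32 LD3_c55)) :=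
  Lgr Lrot84 (Lpe (f116510 IH) (Lpe (K7.f123673 IH) (Lpe (f130267 IH) (Lpr_df (K5.f124038 IH) (Lpe (K5.f95898 IH) (Lpe (K5.f126477 IH) (Lpe (K6.f145031 IH) (Lpr_dt (f155541 IH) (Lpr_gt (f137481 IH) (Lpn (LP (LK LD1_c12 LD2_c32 LD3_c55))))))))))))
theorem f155548 : Led Lsl_gf (LP (LK LD1_c11 LD2_c26 LD3_c5)) = (LP (LK LD1_c6 LD2_c25 LD3_c61)) :=
  Lgr Lrot126 (Lpe (K5.f57529 IH) (Lpr_bt (K5.f57528 IH) (Lpe (K6.f135862 IH) (Lpr_ct (K6.f135834 IH) (Lpr_gt (K6.f135918 IH) (Lpe (K6.f56805 IH) (Lpr_bt (K6.f146667 IH) (Lpe (K7.f146678 IH) (Lpr_bf (f155537 IH) (Lpr_ct (f137486 IH) (Lpn (LP (LK LD1_c6 LD2_c25 LD3_c61)))))))))))))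
theorem f79112 : Led Lsl_gt (LP (LK LD1_c3 LD2_c10 LD3_c46)) = (LP (LK LD1_c6 LD2_c25 LD3_c57)) :=
  Lre_g IH (LK LD1_c3 LD2_c10 LD3_c46) (LK LD1_c6 LD2_c25 LD3_c57) Lrfl Lrfl
theorem f135869 : Led Lsl_dt (LP (LK LD1_c6 LD2_c25 LD3_c57)) = (LP (LK LD1_c11 LD2_c26 LD3_c5)) :=
  Lgr Lrot182 (Lpe (f79112 IH) (Lpe (K5.f79106 IH) (Lpr_cf (K2.f79095 IH) (Lpe (K4.f23452 IH) (Lpe (K4.f104164 IH) (Lpe (K3.f79283 IH) (Lpe (K0.f23307 IH) (Lpe (K3.f23318 IH) (Lpe (K3.f98873 IH) (Lpe (K5.f127054 IH) (Lpr_cf (K5.f127066 IH) (Lpe (K5.f127075 IH) (Lpe (K3.f57467 IH) (Lpr_bf (K1.f57263 IH) (Lpr_cf (K6.f64335 IH) (Lpe (K6.f135865 IH) (Lpr_gf (K6.f135862 IH) (Lpe (K5.f57528 IH) (Lpe (K6.f130104 IH) (Lpn (LP (LK LD1_c11 LD2_c26 LD3_c5))))))))))))))))))))))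
theorem f135871 : Led Lsl_df (LP (LK LD1_c6 LD2_c25 LD3_c57)) = (LP (LK LD1_c11 LD2_c26 LD3_c5)) :=
  Lgr Lrot38 (Lpr_dt (f135869 IH) (Lpn (LP (LK LD1_c11 LD2_c26 LD3_c5))))
theorem f76105 : Led Lsl_gt (LP (LK LD1_c4 LD2_c59 LD3_c33)) = (LP (LK LD1_c9 LD2_c49 LD3_c29)) :=
  Lre_g IH (LK LD1_c4 LD2_c59 LD3_c33) (LK LD1_c9 LD2_c49 LD3_c29) Lrfl Lrfl
theorem f130342 : Led Lsl_at (LP (LK LD1_c9 LD2_c18 LD3_c12)) = (LP (LK LD1_c9 LD2_c49 LD3_c29)) :=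
  Lgr Lrot26 (Lpr_ff (f130336 IH) (Lpr_gt (K6.f79342 IH) (Lpr_gt (f76105 IH) (Lpn (LP (LK LD1_c9 LD2_c49 LD3_c29))))))
theorem f79166 : Led Lsl_dt (LP (LK LD1_c6 LD2_c25 LD3_c59)) = (LP (LK LD1_c12 LD2_c24 LD3_c9)) :=
  Lre_d IH (LK LD1_c6 LD2_c25 LD3_c59) (LK LD1_c12 LD2_c24 LD3_c9) Lrfl Lrfl
theorem f127604 : Led Lsl_at (LP (LK LD1_c6 LD2_c25 LD3_c58)) = (LP (LK LD1_c3 LD2_c10 LD3_c46)) :=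
  Lre_a IH (LK LD1_c6 LD2_c25 LD3_c58) (LK LD1_c3 LD2_c10 LD3_c46) Lrfl Lrfl
theorem f93217 : Led Lsl_dt (LP (LK LD1_c7 LD2_c30 LD3_c39)) = (LP (LK LD1_c3 LD2_c44 LD3_c49)) :=
  Lre_d IH (LK LD1_c7 LD2_c30 LD3_c39) (LK LD1_c3 LD2_c44 LD3_c49) Lrfl Lrfl
theorem f93199 : Led Lsl_df (LP (LK LD1_c7 LD2_c30 LD3_c43)) = (LP (LK LD1_c6 LD2_c33 LD3_c11)) :=
  Lgr Lrot12 (Lpr_bt (K4.f93198 IH) (Lpr_dt (K2.f93195 IH) (Lpr_bt (K2.f93183 IH) (Lpn (LP (LK LD1_c6 LD2_c33 LD3_c11))))))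
theorem f127610 : Led Lsl_cf (LP (LK LD1_c12 LD2_c24 LD3_c9)) = (LP (LK LD1_c13 LD2_c6 LD3_c19)) :=
  Lgr Lrot161 (Lpr_dt (f79197 IH) (Lpr_ct (K5.f79160 IH) (Lpe (f127604 IH) (Lpr_ff (f127601 IH) (Lpr_dt (f93217 IH) (Lpr_ct (K4.f93190 IH) (Lpe (f93199 IH) (Lpr_ct (K4.f97677 IH) (Lpr_dt (K5.f97682 IH) (Lpn (LP (LK LD1_c13 LD2_c6 LD3_c19))))))))))))
theorem f127612 : Led Lsl_ct (LP (LK LD1_c12 LD2_c24 LD3_c9)) = (LP (LK LD1_c13 LD2_c6 LD3_c19)) :=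
  Lgr Lrot59 (Lpr_cf (f127610 IH) (Lpn (LP (LK LD1_c13 LD2_c6 LD3_c19))))
theorem f97687 : Led Lsl_dt (LP (LK LD1_c13 LD2_c6 LD3_c19)) = (LP (LK LD1_c6 LD2_c53 LD3_c45)) :=
  Lre_d IH (LK LD1_c13 LD2_c6 LD3_c19) (LK LD1_c6 LD2_c53 LD3_c45) Lrfl Lrfl
theorem f130344 : Led Lsl_cf (LP (LK LD1_c9 LD2_c49 LD3_c29)) = (LP (LK LD1_c7 LD2_c30 LD3_c39)) :=
  Lgr Lrot102 (Lpe (f130342 IH) (Lpr_ff (f130336 IH) (Lpr_dt (f79166 IH) (Lpr_ct (f127612 IH) (Lpr_dt (f97687 IH) (Lpe (K4.f97680 IH) (Lpr_dt (K4.f93207 IH) (Lpe (K2.f93184 IH) (Lpr_dt (f93213 IH) (Lpn (LP (LK LD1_c7 LD2_c30 LD3_c39))))))))))))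
theorem f127608 : Led Lsl_ft (LP (LK LD1_c6 LD2_c25 LD3_c58)) = (LP (LK LD1_c7 LD2_c30 LD3_c39)) :=
  Lgr Lrot48 (Lpr_ff (f127601 IH) (Lpn (LP (LK LD1_c7 LD2_c30 LD3_c39))))
theorem f130350 : Led Lsl_ft (LP (LK LD1_c9 LD2_c49 LD3_c29)) = (LP (LK LD1_c12 LD2_c24 LD3_c7)) :=
  Lgr Lrot4 (Lpr_cf (f130344 IH) (Lpe (f127608 IH) (Lpe (f127587 IH) (Lpn (LP (LK LD1_c12 LD2_c24 LD3_c7))))))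
theorem f130354 : Led Lsl_ff (LP (LK LD1_c9 LD2_c49 LD3_c29)) = (LP (LK LD1_c12 LD2_c24 LD3_c7)) :=
  Lgr Lrot3 (Lpr_ft (f130350 IH) (Lpn (LP (LK LD1_c12 LD2_c24 LD3_c7))))
theorem f130356 : Led Lsl_at (LP (LK LD1_c9 LD2_c49 LD3_c29)) = (LP (LK LD1_c9 LD2_c18 LD3_c12)) :=
  Lgr Lrot66 (Lpr_ff (f130354 IH) (Lpe (K5.f79165 IH) (Lpe (f130330 IH) (Lpn (LP (LK LD1_c9 LD2_c18 LD3_c12))))))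
theorem f130358 : Led Lsl_af (LP (LK LD1_c7 LD2_c30 LD3_c39)) = (LP (LK LD1_c4 LD2_c41 LD3_c47)) :=
  Lgr Lrot68 (Lpe (f130344 IH) (Lpr_at (f130356 IH) (Lpr_ct (f124450 IH) (Lpn (LP (LK LD1_c4 LD2_c41 LD3_c47))))))
theorem f124456 : Led Lsl_ct (LP (LK LD1_c4 LD2_c41 LD3_c47)) = (LP (LK LD1_c9 LD2_c18 LD3_c12)) :=
  Lre_c IH (LK LD1_c4 LD2_c41 LD3_c47) (LK LD1_c9 LD2_c18 LD3_c12) Lrfl Lrfl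
theorem f130332 : Led Lsl_ff (LP (LK LD1_c4 LD2_c41 LD3_c47)) = (LP (LK LD1_c3 LD2_c10 LD3_c46)) :=
  Lgr Lrot23 (Lpr_ct (f124456 IH) (Lpr_ft (f130330 IH) (Lpr_ct (K5.f79160 IH) (Lpn (LP (LK LD1_c3 LD2_c10 LD3_c46))))))
theorem f130364 : Led Lsl_gf (LP (LK LD1_c7 LD2_c30 LD3_c39)) = (LP (LK LD1_c6 LD2_c25 LD3_c57)) :=
  Lgr Lrot76 (Lpr_af (f130358 IH) (Lpr_ff (f130332 IH) (Lpr_gt (f79112 IH) (Lpn (LP (LK LD1_c6 LD2_c25 LD3_c57))))))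
theorem f155566 : Led Lsl_gt (LP (LK LD1_c7 LD2_c22 LD3_c39)) = (LP (LK LD1_c7 LD2_c30 LD3_c43)) :=
  Lgr Lrot49 (Lpr_df (f155560 IH) (Lpe (f137481 IH) (Lpe (f69154 IH) (Lpe (f155548 IH) (Lpe (f135871 IH) (Lpe (f130364 IH) (Lpr_dt (f93217 IH) (Lpr_cf (K2.f93184 IH) (Lpe (K4.f93207 IH) (Lpn (LP (LK LD1_c7 LD2_c30 LD3_c43))))))))))))
theorem f123714 : Led Lsl_ct (LP (LK LD1_c7 LD2_c22 LD3_c48)) = (LP (LK LD1_c13 LD2_c57 LD3_c11)) :=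
  Lre_c IH (LK LD1_c7 LD2_c22 LD3_c48) (LK LD1_c13 LD2_c57 LD3_c11) Lrfl Lrfl
theorem f155572 : Led Lsl_gt (LP (LK LD1_c13 LD2_c57 LD3_c11)) = (LP (LK LD1_c12 LD2_c24 LD3_c9)) :=
  Lgr Lrot150 (Lpe (f123714 IH) (Lpe (K5.f116530 IH) (Lpe (K5.f116501 IH) (Lpr_gt (K7.f116504 IH) (Lpr_ct (f116510 IH) (Lpr_gt (f155566 IH) (Lpr_ct (K4.f97677 IH) (Lpe (f97687 IH) (Lpe (f127612 IH) (Lpn (LP (LK LD1_c12 LD2_c24 LD3_c9))))))))))))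
theorem f161423 : Led Lsl_cf (LP (LK LD1_c8 LD2_c45 LD3_c46)) = (LP (LK LD1_c4 LD2_c35 LD3_c15)) :=
  Lgr Lrot11 (Lpr_ct (f161418 IH) (Lpn (LP (LK LD1_c4 LD2_c35 LD3_c15))))
theorem f161430 : Led Lsl_bf (LP (LK LD1_c13 LD2_c57 LD3_c11)) = (LP (LK LD1_c8 LD2_c45 LD3_c46)) :=
  Lgr Lrot184 (Lpr_gt (f155572 IH) (Lpr_dt (f79197 IH) (Lpr_ct (K5.f79160 IH) (Lpr_bt (K5.f69189 IH) (Lpr_gt (f152521 IH) (Lpr_dt (f104684 IH) (Lpe (f155780 IH) (Lpe (f150455 IH) (Lpr_gt (f149576 IH) (Lpe (f119899 IH) (Lpr_ct (K7.f119918 IH) (Lpe (f157041 IH) (Lpr_gt (f138970 IH) (Lpr_dt (K6.f138921 IH) (Lpe (K7.f138904 IH) (Lpr_bt (f148946 IH) (Lpr_gt (f161425 IH) (Lpr_dt (f35341 IH) (Lpe (f161423 IH) (Lpn (LP (LK LD1_c8 LD2_c45 LD3_c46))))))))))))))))))))))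
theorem f161724 : Led Lsl_ft (LP (LK LD1_c13 LD2_c57 LD3_c11)) = (LP (LK LD1_c11 LD2_c36 LD3_c20)) :=
  Lgr Lrot75 (Lpr_bf (f161430 IH) (Lpr_ff (f161720 IH) (Lpe (f149656 IH) (Lpn (LP (LK LD1_c11 LD2_c36 LD3_c20))))))
theorem f161958 : Led Lsl_ff (LP (LK LD1_c7 LD2_c22 LD3_c48)) = (LP (LK LD1_c7 LD2_c28 LD3_c35)) :=
  Lgr Lrot23 (Lpr_ct (f123714 IH) (Lpr_ft (f161724 IH) (Lpr_ct (f161953 IH) (Lpn (LP (LK LD1_c7 LD2_c28 LD3_c35))))))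
theorem f161966 : Led Lsl_at (LP (LK LD1_c7 LD2_c22 LD3_c48)) = (LP (LK LD1_c7 LD2_c28 LD3_c36)) :=
  Lgr Lrot26 (Lpr_ff (f161958 IH) (Lpe (f124008 IH) (Lpr_gt (K5.f123896 IH) (Lpn (LP (LK LD1_c7 LD2_c28 LD3_c36))))))
theorem f161970 : Led Lsl_af (LP (LK LD1_c3 LD2_c54 LD3_c58)) = (LP (LK LD1_c3 LD2_c54 LD3_c3)) :=
  Lgr Lrot117 (Lpe (K5.f123715 IH) (Lpr_at (f161966 IH) (Lpe (K5.f123928 IH) (Lpn (LP (LK LD1_c3 LD2_c54 LD3_c3))))))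
theorem f161982 : Led Lsl_ft (LP (LK LD1_c3 LD2_c54 LD3_c59)) = (LP (LK LD1_c3 LD2_c54 LD3_c3)) :=
  Lgr Lrot2 (Lpr_gt (K5.f121018 IH) (Lpr_gt (K5.f121020 IH) (Lpr_af (f161970 IH) (Lpn (LP (LK LD1_c3 LD2_c54 LD3_c3))))))
theorem f161992 : Led Lsl_ff (LP (LK LD1_c3 LD2_c54 LD3_c59)) = (LP (LK LD1_c3 LD2_c54 LD3_c3)) :=
  Lgr Lrot3 (Lpr_ft (f161982 IH) (Lpn (LP (LK LD1_c3 LD2_c54 LD3_c3))))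
theorem f162000 : Led Lsl_at (LP (LK LD1_c3 LD2_c54 LD3_c59)) = (LP (LK LD1_c3 LD2_c54 LD3_c2)) :=
  Lgr Lrot26 (Lpr_ff (f161992 IH) (Lpr_gt (K5.f95898 IH) (Lpr_gt (K6.f95859 IH) (Lpn (LP (LK LD1_c3 LD2_c54 LD3_c2))))))
theorem f161976 : Led Lsl_at (LP (LK LD1_c3 LD2_c54 LD3_c58)) = (LP (LK LD1_c3 LD2_c54 LD3_c3)) :=
  Lgr Lrot100 (Lpr_af (f161970 IH) (Lpn (LP (LK LD1_c3 LD2_c54 LD3_c3))))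
theorem f162008 : Led Lsl_ff (LP (LK LD1_c3 LD2_c54 LD3_c58)) = (LP (LK LD1_c3 LD2_c54 LD3_c2)) :=
  Lgr Lrot30 (Lpr_at (f161976 IH) (Lpe (f161992 IH) (Lpr_at (f162000 IH) (Lpn (LP (LK LD1_c3 LD2_c54 LD3_c2))))))
theorem f126481 : Led Lsl_at (LP (LK LD1_c7 LD2_c35 LD3_c52)) = (LP (LK LD1_c3 LD2_c47 LD3_c29)) :=
  Lre_a IH (LK LD1_c7 LD2_c35 LD3_c52) (LK LD1_c3 LD2_c47 LD3_c29) Lrfl Lrfl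
theorem f161978 : Led Lsl_ct (LP (LK LD1_c3 LD2_c54 LD3_c58)) = (LP (LK LD1_c7 LD2_c35 LD3_c52)) :=
  Lgr Lrot111 (Lpr_af (f161970 IH) (Lpe (K5.f126477 IH) (Lpe (f126481 IH) (Lpn (LP (LK LD1_c7 LD2_c35 LD3_c52))))))
theorem f162010 : Led Lsl_ft (LP (LK LD1_c7 LD2_c35 LD3_c52)) = (LP (LK LD1_c7 LD2_c49 LD3_c41)) :=
  Lgr Lrot4 (Lpe (f161978 IH) (Lpr_ff (f162008 IH) (Lpe (K6.f126480 IH) (Lpn (LP (LK LD1_c7 LD2_c49 LD3_c41))))))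
theorem f162002 : Led Lsl_af (LP (LK LD1_c7 LD2_c30 LD3_c11)) = (LP (LK LD1_c7 LD2_c49 LD3_c41)) :=
  Lgr Lrot68 (Lpe (K5.f129559 IH) (Lpr_at (f162000 IH) (Lpr_ct (K6.f95899 IH) (Lpn (LP (LK LD1_c7 LD2_c49 LD3_c41))))))
theorem f162014 : Led Lsl_gt (LP (LK LD1_c7 LD2_c35 LD3_c52)) = (LP (LK LD1_c6 LD2_c56 LD3_c13)) :=
  Lgr Lrot5 (Lpr_ft (f162010 IH) (Lpe (f162002 IH) (Lpe (K5.f129579 IH) (Lpn (LP (LK LD1_c6 LD2_c56 LD3_c13))))))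
theorem f147587 : Led Lsl_bt (LP (LK LD1_c3 LD2_c54 LD3_c4)) = (LP (LK LD1_c3 LD2_c55 LD3_c3)) :=
  Lgr Lrot62 (Lpe (K5.f126471 IH) (Lpe (K4.f95853 IH) (Lpr_af (K7.f147584 IH) (Lpe (f11765 IH) (Lpe (f11767 IH) (Lpn (LP (LK LD1_c3 LD2_c55 LD3_c3))))))))
theorem f159791 : Led Lsl_at (LP (LK LD1_c3 LD2_c54 LD3_c10)) = (LP (LK LD1_c1 LD2_c53 LD3_c42)) :=
  Lre_a IH (LK LD1_c3 LD2_c54 LD3_c10) (LK LD1_c1 LD2_c53 LD3_c42) Lrfl Lrfl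
theorem f11761 : Led Lsl_at (LP (LK LD1_c1 LD2_c54 LD3_c7)) = (LP (LK LD1_c3 LD2_c55 LD3_c3)) :=
  Lre_a IH (LK LD1_c1 LD2_c54 LD3_c7) (LK LD1_c3 LD2_c55 LD3_c3) Lrfl Lrfl
theorem f159792 : Led Lsl_ff (LP (LK LD1_c3 LD2_c54 LD3_c10)) = (LP (LK LD1_c3 LD2_c55 LD3_c3)) :=
  Lgr Lrot30 (Lpr_at (f159791 IH) (Lpr_ft (f159784 IH) (Lpr_at (f11761 IH) (Lpn (LP (LK LD1_c3 LD2_c55 LD3_c3))))))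
theorem f159644 : Led Lsl_gt (LP (LK LD1_c3 LD2_c54 LD3_c9)) = (LP (LK LD1_c1 LD2_c53 LD3_c42)) :=
  Lre_g IH (LK LD1_c3 LD2_c54 LD3_c9) (LK LD1_c1 LD2_c53 LD3_c42) Lrfl Lrfl
theorem f160613 : Led Lsl_gf (LP (LK LD1_c3 LD2_c54 LD3_c9)) = (LP (LK LD1_c3 LD2_c55 LD3_c3)) :=
  Lgr Lrot47 (Lpr_gt (f159644 IH) (Lpe (f159791 IH) (Lpr_ff (f159792 IH) (Lpn (LP (LK LD1_c3 LD2_c55 LD3_c3))))))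
theorem f162026 : Led Lsl_bt (LP (LK LD1_c3 LD2_c54 LD3_c58)) = (LP (LK LD1_c3 LD2_c54 LD3_c9)) :=
  Lgr Lrot92 (Lpr_ct (f161978 IH) (Lpr_gt (f162014 IH) (Lpe (K5.f122712 IH) (Lpr_bt (K6.f142543 IH) (Lpr_gt (K6.f95132 IH) (Lpr_ct (K6.f95028 IH) (Lpr_gt (K5.f91299 IH) (Lpe (K5.f129376 IH) (Lpr_bt (f147587 IH) (Lpe (f160613 IH) (Lpn (LP (LK LD1_c3 LD2_c54 LD3_c9)))))))))))))
theorem f123702 : Led Lsl_bt (LP (LK LD1_c1 LD2_c47 LD3_c33)) = (LP (LK LD1_c3 LD2_c41 LD3_c13)) :=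
  Lre_b IH (LK LD1_c1 LD2_c47 LD3_c33) (LK LD1_c3 LD2_c41 LD3_c13) Lrfl Lrfl
theorem f147451 : Led Lsl_ct (LP (LK LD1_c3 LD2_c26 LD3_c41)) = (LP (LK LD1_c6 LD2_c31 LD3_c25)) :=
  Lgr Lrot152 (Lpr_gf (K5.f131694 IH) (Lpe (K5.f12837 IH) (Lpr_gt (K3.f12763 IH) (Lpr_ct (K3.f12774 IH) (Lpe (K3.f109120 IH) (Lpe (K3.f108777 IH) (Lpe (K6.f116272 IH) (Lpe (K6.f146900 IH) (Lpr_gf (K6.f147447 IH) (Lpn (LP (LK LD1_c6 LD2_c31 LD3_c25))))))))))))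
theorem f128004 : Led Lsl_bt (LP (LK LD1_c3 LD2_c26 LD3_c41)) = (LP (LK LD1_c6 LD2_c55 LD3_c13)) :=
  Lre_b IH (LK LD1_c3 LD2_c26 LD3_c41) (LK LD1_c6 LD2_c55 LD3_c13) Lrfl Lrfl
theorem f95030 : Led Lsl_gt (LP (LK LD1_c13 LD2_c8 LD3_c51)) = (LP (LK LD1_c6 LD2_c55 LD3_c13)) :=
  Lre_g IH (LK LD1_c13 LD2_c8 LD3_c51) (LK LD1_c6 LD2_c55 LD3_c13) Lrfl Lrfl
theorem f155623 : Led Lsl_bf (LP (LK LD1_c13 LD2_c8 LD3_c51)) = (LP (LK LD1_c13 LD2_c6 LD3_c19)) :=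
  Lgr Lrot156 (Lpr_gt (f95030 IH) (Lpe (f128004 IH) (Lpr_ct (f147451 IH) (Lpe (K6.f147447 IH) (Lpr_cf (K6.f146904 IH) (Lpr_bt (f123702 IH) (Lpr_gt (K5.f116530 IH) (Lpr_ct (f123714 IH) (Lpr_gt (f155572 IH) (Lpr_cf (f127610 IH) (Lpn (LP (LK LD1_c13 LD2_c6 LD3_c19)))))))))))))
theorem f155627 : Led Lsl_dt (LP (LK LD1_c13 LD2_c8 LD3_c51)) = (LP (LK LD1_c7 LD2_c27 LD3_c36)) :=
  Lgr Lrot79 (Lpr_bf (f155623 IH) (Lpe (K5.f97682 IH) (Lpr_bf (K5.f108900 IH) (Lpn (LP (LK LD1_c7 LD2_c27 LD3_c36))))))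
theorem f128001 : Led Lsl_gt (LP (LK LD1_c13 LD2_c55 LD3_c32)) = (LP (LK LD1_c13 LD2_c8 LD3_c51)) :=
  Lgr Lrot5 (Lpr_ft (K5.f127992 IH) (Lpr_at (K5.f127998 IH) (Lpe (f95030 IH) (Lpn (LP (LK LD1_c13 LD2_c8 LD3_c51))))))
theorem f95630 : Led Lsl_dt (LP (LK LD1_c6 LD2_c49 LD3_c25)) = (LP (LK LD1_c13 LD2_c0 LD3_c53)) :=
  Lre_d IH (LK LD1_c6 LD2_c49 LD3_c25) (LK LD1_c13 LD2_c0 LD3_c53) Lrfl Lrfl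
theorem f129403 : Led Lsl_df (LP (LK LD1_c3 LD2_c54 LD3_c2)) = (LP (LK LD1_c7 LD2_c28 LD3_c35)) :=
  Lgr Lrot155 (Lpe (f129351 IH) (Lpr_ct (f129372 IH) (Lpr_gt (K5.f127870 IH) (Lpr_ct (K6.f114455 IH) (Lpr_dt (f127888 IH) (Lpr_cf (f129398 IH) (Lpe (f123910 IH) (Lpe (f116460 IH) (Lpr_gf (f124008 IH) (Lpn (LP (LK LD1_c7 LD2_c28 LD3_c35))))))))))))
theorem f129406 : Led Lsl_df (LP (LK LD1_c7 LD2_c49 LD3_c41)) = (LP (LK LD1_c13 LD2_c0 LD3_c52)) :=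
  Lgr Lrot84 (Lpe (K6.f95899 IH) (Lpr_df (f129403 IH) (Lpe (f123607 IH) (Lpe (K5.f123608 IH) (Lpe (K4.f123595 IH) (Lpe (K5.f123949 IH) (Lpr_gt (f123966 IH) (Lpe (K4.f111280 IH) (Lpr_gt (f122309 IH) (Lpn (LP (LK LD1_c13 LD2_c0 LD3_c52))))))))))))
theorem f129410 : Led Lsl_dt (LP (LK LD1_c7 LD2_c49 LD3_c41)) = (LP (LK LD1_c13 LD2_c0 LD3_c52)) :=
  Lgr Lrot42 (Lpr_df (f129406 IH) (Lpn (LP (LK LD1_c13 LD2_c0 LD3_c52))))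
theorem f155642 : Led Lsl_gt (LP (LK LD1_c7 LD2_c35 LD3_c36)) = (LP (LK LD1_c7 LD2_c49 LD3_c41)) :=
  Lgr Lrot94 (Lpr_cf (K6.f114438 IH) (Lpr_gt (K6.f137232 IH) (Lpe (K5.f122681 IH) (Lpr_gt (f128001 IH) (Lpr_dt (f155627 IH) (Lpe (K4.f108898 IH) (Lpe (f95630 IH) (Lpe (f95634 IH) (Lpe (f129410 IH) (Lpn (LP (LK LD1_c7 LD2_c49 LD3_c41))))))))))))
theorem f11771 : Led Lsl_gt (LP (LK LD1_c3 LD2_c55 LD3_c2)) = (LP (LK LD1_c1 LD2_c54 LD3_c7)) :=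
  Lre_g IH (LK LD1_c3 LD2_c55 LD3_c2) (LK LD1_c1 LD2_c54 LD3_c7) Lrfl Lrfl
theorem f155648 : Led Lsl_bf (LP (LK LD1_c3 LD2_c55 LD3_c2)) = (LP (LK LD1_c3 LD2_c54 LD3_c2)) :=
  Lgr Lrot156 (Lpr_gt (f11771 IH) (Lpe (f11645 IH) (Lpr_ct (K6.f11648 IH) (Lpe (K3.f96970 IH) (Lpe (K5.f13548 IH) (Lpr_bt (K6.f91720 IH) (Lpr_gt (K6.f91721 IH) (Lpe (K6.f114438 IH) (Lpr_gt (f155642 IH) (Lpe (K6.f95899 IH) (Lpn (LP (LK LD1_c3 LD2_c54 LD3_c2)))))))))))))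
theorem f155650 : Led Lsl_bt (LP (LK LD1_c3 LD2_c55 LD3_c2)) = (LP (LK LD1_c3 LD2_c54 LD3_c2)) :=
  Lgr Lrot127 (Lpr_bf (f155648 IH) (Lpn (LP (LK LD1_c3 LD2_c54 LD3_c2))))
theorem f162034 : Led Lsl_ff (LP (LK LD1_c3 LD2_c55 LD3_c2)) = (LP (LK LD1_c3 LD2_c54 LD3_c9)) :=
  Lgr Lrot25 (Lpr_bt (f155650 IH) (Lpe (f162008 IH) (Lpr_bt (f162026 IH) (Lpn (LP (LK LD1_c3 LD2_c54 LD3_c9))))))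
theorem f142718 : Led Lsl_gt (LP (LK LD1_c1 LD2_c53 LD3_c42)) = (LP (LK LD1_c3 LD2_c54 LD3_c8)) :=
  Lre_g IH (LK LD1_c1 LD2_c53 LD3_c42) (LK LD1_c3 LD2_c54 LD3_c8) Lrfl Lrfl
theorem f162038 : Led Lsl_at (LP (LK LD1_c3 LD2_c55 LD3_c2)) = (LP (LK LD1_c3 LD2_c54 LD3_c8)) :=
  Lgr Lrot26 (Lpr_ff (f162034 IH) (Lpr_gt (f159644 IH) (Lpr_gt (f142718 IH) (Lpn (LP (LK LD1_c3 LD2_c54 LD3_c8))))))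
theorem f162040 : Led Lsl_af (LP (LK LD1_c3 LD2_c55 LD3_c2)) = (LP (LK LD1_c3 LD2_c54 LD3_c8)) :=
  Lgr Lrot0 (Lpr_at (f162038 IH) (Lpn (LP (LK LD1_c3 LD2_c54 LD3_c8))))
theorem f121148 : Led Lsl_et (LP (LK LD1_c14 LD2_c7 LD3_c40)) = (LP (LK LD1_c7 LD2_c29 LD3_c2)) :=
  Lre_e IH (LK LD1_c14 LD2_c7 LD3_c40) (LK LD1_c7 LD2_c29 LD3_c2) Lrfl Lrfl
theorem f159867 : Led Lsl_et (LP (LK LD1_c7 LD2_c23 LD3_c24)) = (LP (LK LD1_c13 LD2_c58 LD3_c21)) :=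
  Lre_e IH (LK LD1_c7 LD2_c23 LD3_c24) (LK LD1_c13 LD2_c58 LD3_c21) Lrfl Lrfl
theorem f159871 : Led Lsl_bf (LP (LK LD1_c14 LD2_c7 LD3_c40)) = (LP (LK LD1_c13 LD2_c58 LD3_c21)) :=
  Lgr Lrot96 (Lpr_et (f121148 IH) (Lpr_bt (f159862 IH) (Lpr_et (f159867 IH) (Lpn (LP (LK LD1_c13 LD2_c58 LD3_c21))))))
theorem f159877 : Led Lsl_bt (LP (LK LD1_c14 LD2_c7 LD3_c40)) = (LP (LK LD1_c13 LD2_c58 LD3_c21)) :=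
  Lgr Lrot127 (Lpr_bf (f159871 IH) (Lpn (LP (LK LD1_c13 LD2_c58 LD3_c21))))
theorem f159879 : Led Lsl_at (LP (LK LD1_c7 LD2_c29 LD3_c4)) = (LP (LK LD1_c14 LD2_c7 LD3_c40)) :=
  Lre_a IH (LK LD1_c7 LD2_c29 LD3_c4) (LK LD1_c14 LD2_c7 LD3_c40) Lrfl Lrfl
theorem f159880 : Led Lsl_bt (LP (LK LD1_c3 LD2_c44 LD3_c7)) = (LP (LK LD1_c7 LD2_c29 LD3_c4)) :=
  Lre_b IH (LK LD1_c3 LD2_c44 LD3_c7) (LK LD1_c7 LD2_c29 LD3_c4) Lrfl Lrfl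
theorem f159613 : Led Lsl_at (LP (LK LD1_c13 LD2_c58 LD3_c21)) = (LP (LK LD1_c7 LD2_c23 LD3_c25)) :=
  Lre_a IH (LK LD1_c13 LD2_c58 LD3_c21) (LK LD1_c7 LD2_c23 LD3_c25) Lrfl Lrfl
theorem f159625 : Led Lsl_bt (LP (LK LD1_c7 LD2_c23 LD3_c25)) = (LP (LK LD1_c3 LD2_c41 LD3_c28)) :=
  Lre_b IH (LK LD1_c7 LD2_c23 LD3_c25) (LK LD1_c3 LD2_c41 LD3_c28) Lrfl Lrfl
theorem f159881 : Led Lsl_af (LP (LK LD1_c3 LD2_c44 LD3_c7)) = (LP (LK LD1_c3 LD2_c41 LD3_c28)) :=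
  Lgr Lrot36 (Lpr_bt (f159880 IH) (Lpr_at (f159879 IH) (Lpr_bt (f159877 IH) (Lpr_at (f159613 IH) (Lpr_bt (f159625 IH) (Lpn (LP (LK LD1_c3 LD2_c41 LD3_c28))))))))
theorem f129318 : Led Lsl_ft (LP (LK LD1_c3 LD2_c44 LD3_c7)) = (LP (LK LD1_c7 LD2_c29 LD3_c8)) :=
  Lre_f IH (LK LD1_c3 LD2_c44 LD3_c7) (LK LD1_c7 LD2_c29 LD3_c8) Lrfl Lrfl
theorem f159887 : Led Lsl_ft (LP (LK LD1_c7 LD2_c23 LD3_c29)) = (LP (LK LD1_c3 LD2_c41 LD3_c28)) :=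
  Lre_f IH (LK LD1_c7 LD2_c23 LD3_c29) (LK LD1_c3 LD2_c41 LD3_c28) Lrfl Lrfl
theorem f159888 : Led Lsl_at (LP (LK LD1_c7 LD2_c29 LD3_c8)) = (LP (LK LD1_c7 LD2_c23 LD3_c29)) :=
  Lgr Lrot66 (Lpe (f129318 IH) (Lpr_af (f159881 IH) (Lpe (f159887 IH) (Lpn (LP (LK LD1_c7 LD2_c23 LD3_c29))))))
theorem f159899 : Led Lsl_dt (LP (LK LD1_c14 LD2_c7 LD3_c53)) = (LP (LK LD1_c7 LD2_c29 LD3_c8)) :=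
  Lre_d IH (LK LD1_c14 LD2_c7 LD3_c53) (LK LD1_c7 LD2_c29 LD3_c8) Lrfl Lrfl
theorem f159892 : Led Lsl_dt (LP (LK LD1_c7 LD2_c23 LD3_c29)) = (LP (LK LD1_c13 LD2_c58 LD3_c34)) :=
  Lre_d IH (LK LD1_c7 LD2_c23 LD3_c29) (LK LD1_c13 LD2_c58 LD3_c34) Lrfl Lrfl
theorem f159900 : Led Lsl_af (LP (LK LD1_c14 LD2_c7 LD3_c53)) = (LP (LK LD1_c13 LD2_c58 LD3_c34)) :=
  Lgr Lrot117 (Lpr_dt (f159899 IH) (Lpr_at (f159888 IH) (Lpr_dt (f159892 IH) (Lpn (LP (LK LD1_c13 LD2_c58 LD3_c34))))))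
theorem f159904 : Led Lsl_at (LP (LK LD1_c14 LD2_c7 LD3_c53)) = (LP (LK LD1_c13 LD2_c58 LD3_c34)) :=
  Lgr Lrot100 (Lpr_af (f159900 IH) (Lpn (LP (LK LD1_c13 LD2_c58 LD3_c34))))
theorem f121067 : Led Lsl_ft (LP (LK LD1_c7 LD2_c29 LD3_c7)) = (LP (LK LD1_c14 LD2_c7 LD3_c53)) :=
  Lre_f IH (LK LD1_c7 LD2_c29 LD3_c7) (LK LD1_c14 LD2_c7 LD3_c53) Lrfl Lrfl
theorem f159913 : Led Lsl_ft (LP (LK LD1_c13 LD2_c58 LD3_c34)) = (LP (LK LD1_c7 LD2_c23 LD3_c28)) :=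
  Lre_f IH (LK LD1_c13 LD2_c58 LD3_c34) (LK LD1_c7 LD2_c23 LD3_c28) Lrfl Lrfl
theorem f159914 : Led Lsl_af (LP (LK LD1_c7 LD2_c29 LD3_c7)) = (LP (LK LD1_c7 LD2_c23 LD3_c28)) :=
  Lgr Lrot45 (Lpr_ft (f121067 IH) (Lpr_at (f159904 IH) (Lpr_ft (f159913 IH) (Lpn (LP (LK LD1_c7 LD2_c23 LD3_c28))))))
theorem f159538 : Led Lsl_dt (LP (LK LD1_c7 LD2_c23 LD3_c28)) = (LP (LK LD1_c3 LD2_c41 LD3_c28)) :=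
  Lre_d IH (LK LD1_c7 LD2_c23 LD3_c28) (LK LD1_c3 LD2_c41 LD3_c28) Lrfl Lrfl
theorem f142707 : Led Lsl_et (LP (LK LD1_c0 LD2_c53 LD3_c26)) = (LP (LK LD1_c1 LD2_c53 LD3_c43)) :=
  Lre_e IH (LK LD1_c0 LD2_c53 LD3_c26) (LK LD1_c1 LD2_c53 LD3_c43) Lrfl Lrfl
theorem f134742 : Led Lsl_dt (LP (LK LD1_c1 LD2_c53 LD3_c43)) = (LP (LK LD1_c3 LD2_c54 LD3_c12)) :=
  Lre_d IH (LK LD1_c1 LD2_c53 LD3_c43) (LK LD1_c3 LD2_c54 LD3_c12) Lrfl Lrfl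
theorem f159539 : Led Lsl_ef (LP (LK LD1_c7 LD2_c23 LD3_c28)) = (LP (LK LD1_c3 LD2_c54 LD3_c12)) :=
  Lgr Lrot73 (Lpr_dt (f159538 IH) (Lpr_et (f147577 IH) (Lpr_dt (f159529 IH) (Lpr_et (f142707 IH) (Lpr_dt (f134742 IH) (Lpn (LP (LK LD1_c3 LD2_c54 LD3_c12))))))))
theorem f159922 : Led Lsl_at (LP (LK LD1_c3 LD2_c55 LD3_c0)) = (LP (LK LD1_c3 LD2_c54 LD3_c12)) :=
  Lgr Lrot80 (Lpe (K5.f121065 IH) (Lpr_af (f159914 IH) (Lpr_ef (f159539 IH) (Lpn (LP (LK LD1_c3 LD2_c54 LD3_c12))))))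
theorem f121058 : Led Lsl_bt (LP (LK LD1_c7 LD2_c51 LD3_c40)) = (LP (LK LD1_c3 LD2_c55 LD3_c0)) :=
  Lre_b IH (LK LD1_c7 LD2_c51 LD3_c40) (LK LD1_c3 LD2_c55 LD3_c0) Lrfl Lrfl
theorem f121102 : Led Lsl_at (LP (LK LD1_c14 LD2_c49 LD3_c32)) = (LP (LK LD1_c7 LD2_c51 LD3_c40)) :=
  Lre_a IH (LK LD1_c14 LD2_c49 LD3_c32) (LK LD1_c7 LD2_c51 LD3_c40) Lrfl Lrfl
theorem f159934 : Led Lsl_bt (LP (LK LD1_c3 LD2_c54 LD3_c12)) = (LP (LK LD1_c7 LD2_c49 LD3_c57)) :=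
  Lre_b IH (LK LD1_c3 LD2_c54 LD3_c12) (LK LD1_c7 LD2_c49 LD3_c57) Lrfl Lrfl
theorem f159935 : Led Lsl_at (LP (LK LD1_c7 LD2_c49 LD3_c57)) = (LP (LK LD1_c14 LD2_c46 LD3_c20)) :=
  Lre_a IH (LK LD1_c7 LD2_c49 LD3_c57) (LK LD1_c14 LD2_c46 LD3_c20) Lrfl Lrfl
theorem f159936 : Led Lsl_bf (LP (LK LD1_c14 LD2_c49 LD3_c32)) = (LP (LK LD1_c14 LD2_c46 LD3_c20)) :=
  Lgr Lrot81 (Lpr_at (f121102 IH) (Lpr_bt (f121058 IH) (Lpr_at (f159922 IH) (Lpr_bt (f159934 IH) (Lpr_at (f159935 IH) (Lpn (LP (LK LD1_c14 LD2_c46 LD3_c20))))))))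
theorem f121141 : Led Lsl_dt (LP (LK LD1_c14 LD2_c49 LD3_c32)) = (LP (LK LD1_c7 LD2_c51 LD3_c37)) :=
  Lre_d IH (LK LD1_c14 LD2_c49 LD3_c32) (LK LD1_c7 LD2_c51 LD3_c37) Lrfl Lrfl
theorem f159790 : Led Lsl_dt (LP (LK LD1_c7 LD2_c49 LD3_c54)) = (LP (LK LD1_c14 LD2_c46 LD3_c20)) :=
  Lre_d IH (LK LD1_c7 LD2_c49 LD3_c54) (LK LD1_c14 LD2_c46 LD3_c20) Lrfl Lrfl
theorem f159983 : Led Lsl_bt (LP (LK LD1_c7 LD2_c51 LD3_c37)) = (LP (LK LD1_c7 LD2_c49 LD3_c54)) :=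
  Lgr Lrot95 (Lpe (f121141 IH) (Lpr_bf (f159936 IH) (Lpe (f159790 IH) (Lpn (LP (LK LD1_c7 LD2_c49 LD3_c54))))))
theorem f159987 : Led Lsl_bf (LP (LK LD1_c7 LD2_c51 LD3_c37)) = (LP (LK LD1_c7 LD2_c49 LD3_c54)) :=
  Lgr Lrot24 (Lpr_bt (f159983 IH) (Lpn (LP (LK LD1_c7 LD2_c49 LD3_c54))))
theorem f121142 : Led Lsl_et (LP (LK LD1_c7 LD2_c51 LD3_c37)) = (LP (LK LD1_c3 LD2_c54 LD3_c60)) :=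
  Lre_e IH (LK LD1_c7 LD2_c51 LD3_c37) (LK LD1_c3 LD2_c54 LD3_c60) Lrfl Lrfl
theorem f159864 : Led Lsl_et (LP (LK LD1_c3 LD2_c54 LD3_c10)) = (LP (LK LD1_c7 LD2_c49 LD3_c54)) :=
  Lre_e IH (LK LD1_c3 LD2_c54 LD3_c10) (LK LD1_c7 LD2_c49 LD3_c54) Lrfl Lrfl
theorem f159994 : Led Lsl_bt (LP (LK LD1_c3 LD2_c54 LD3_c60)) = (LP (LK LD1_c3 LD2_c54 LD3_c10)) :=
  Lgr Lrot119 (Lpe (f121142 IH) (Lpr_bf (f159987 IH) (Lpe (f159864 IH) (Lpn (LP (LK LD1_c3 LD2_c54 LD3_c10))))))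
theorem f160000 : Led Lsl_gf (LP (LK LD1_c3 LD2_c55 LD3_c2)) = (LP (LK LD1_c3 LD2_c54 LD3_c10)) :=
  Lgr Lrot124 (Lpr_bf (f155648 IH) (Lpr_ct (K6.f95899 IH) (Lpr_gt (K6.f145011 IH) (Lpe (K6.f144998 IH) (Lpe (K6.f142545 IH) (Lpr_gt (K5.f122690 IH) (Lpe (K4.f120968 IH) (Lpe (K5.f127868 IH) (Lpe (f129372 IH) (Lpr_bt (f159994 IH) (Lpn (LP (LK LD1_c3 LD2_c54 LD3_c10)))))))))))))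
theorem f159786 : Led Lsl_gf (LP (LK LD1_c3 LD2_c54 LD3_c10)) = (LP (LK LD1_c3 LD2_c55 LD3_c1)) :=
  Lgr Lrot76 (Lpe (f147593 IH) (Lpr_ff (f159778 IH) (Lpr_gt (f11656 IH) (Lpn (LP (LK LD1_c3 LD2_c55 LD3_c1))))))
theorem f162047 : Led Lsl_ft (LP (LK LD1_c3 LD2_c55 LD3_c1)) = (LP (LK LD1_c3 LD2_c54 LD3_c8)) :=
  Lgr Lrot2 (Lpe (f159786 IH) (Lpe (f160000 IH) (Lpr_af (f162040 IH) (Lpn (LP (LK LD1_c3 LD2_c54 LD3_c8))))))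
theorem f162051 : Led Lsl_ff (LP (LK LD1_c3 LD2_c55 LD3_c1)) = (LP (LK LD1_c3 LD2_c54 LD3_c8)) :=
  Lgr Lrot3 (Lpr_ft (f162047 IH) (Lpn (LP (LK LD1_c3 LD2_c54 LD3_c8))))
theorem f162053 : Led Lsl_at (LP (LK LD1_c3 LD2_c55 LD3_c1)) = (LP (LK LD1_c3 LD2_c54 LD3_c9)) :=
  Lgr Lrot66 (Lpr_ff (f162051 IH) (Lpe (f162038 IH) (Lpr_ff (f162034 IH) (Lpn (LP (LK LD1_c3 LD2_c54 LD3_c9))))))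
theorem f162029 : Led Lsl_bf (LP (LK LD1_c3 LD2_c54 LD3_c58)) = (LP (LK LD1_c3 LD2_c54 LD3_c9)) :=
  Lgr Lrot24 (Lpr_bt (f162026 IH) (Lpn (LP (LK LD1_c3 LD2_c54 LD3_c9))))
theorem f162056 : Led Lsl_af (LP (LK LD1_c7 LD2_c51 LD3_c43)) = (LP (LK LD1_c7 LD2_c40 LD3_c45)) :=
  Lgr Lrot36 (Lpr_bt (f11830 IH) (Lpr_at (f162053 IH) (Lpe (f162029 IH) (Lpr_at (f161976 IH) (Lpe (K6.f144964 IH) (Lpn (LP (LK LD1_c7 LD2_c40 LD3_c45))))))))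
theorem f162064 : Led Lsl_at (LP (LK LD1_c7 LD2_c21 LD3_c0)) = (LP (LK LD1_c6 LD2_c54 LD3_c40)) :=
  Lgr Lrot107 (Lpe (f132076 IH) (Lpr_af (f162056 IH) (Lpe (K6.f144951 IH) (Lpn (LP (LK LD1_c6 LD2_c54 LD3_c40))))))
theorem f102624 : Led Lsl_gt (LP (LK LD1_c6 LD2_c54 LD3_c41)) = (LP (LK LD1_c3 LD2_c26 LD3_c24)) :=
  Lre_g IH (LK LD1_c6 LD2_c54 LD3_c41) (LK LD1_c3 LD2_c26 LD3_c24) Lrfl Lrfl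
theorem f162093 : Led Lsl_ff (LP (LK LD1_c7 LD2_c21 LD3_c0)) = (LP (LK LD1_c6 LD2_c54 LD3_c41)) :=
  Lgr Lrot52 (Lpr_at (f162064 IH) (Lpe (K6.f102622 IH) (Lpe (f102624 IH) (Lpn (LP (LK LD1_c6 LD2_c54 LD3_c41))))))
theorem f162095 : Led Lsl_ft (LP (LK LD1_c7 LD2_c21 LD3_c0)) = (LP (LK LD1_c6 LD2_c54 LD3_c41)) :=
  Lgr Lrot48 (Lpr_ff (f162093 IH) (Lpn (LP (LK LD1_c6 LD2_c54 LD3_c41))))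
theorem f162098 : Led Lsl_af (LP (LK LD1_c7 LD2_c20 LD3_c61)) = (LP (LK LD1_c6 LD2_c54 LD3_c41)) :=
  Lgr Lrot31 (Lpe (K5.f107281 IH) (Lpe (f107305 IH) (Lpr_ft (f162095 IH) (Lpn (LP (LK LD1_c6 LD2_c54 LD3_c41))))))
theorem f132143 : Led Lsl_et (LP (LK LD1_c7 LD2_c51 LD3_c43)) = (LP (LK LD1_c14 LD2_c49 LD3_c43)) :=
  Lre_e IH (LK LD1_c7 LD2_c51 LD3_c43) (LK LD1_c14 LD2_c49 LD3_c43) Lrfl Lrfl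
theorem f145100 : Led Lsl_et (LP (LK LD1_c14 LD2_c28 LD3_c37)) = (LP (LK LD1_c7 LD2_c40 LD3_c45)) :=
  Lre_e IH (LK LD1_c14 LD2_c28 LD3_c37) (LK LD1_c7 LD2_c40 LD3_c45) Lrfl Lrfl
theorem f162066 : Led Lsl_at (LP (LK LD1_c14 LD2_c49 LD3_c43)) = (LP (LK LD1_c14 LD2_c28 LD3_c37)) :=
  Lgr Lrot80 (Lpe (f132143 IH) (Lpr_af (f162056 IH) (Lpe (f145100 IH) (Lpn (LP (LK LD1_c14 LD2_c28 LD3_c37))))))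
theorem f132134 : Led Lsl_et (LP (LK LD1_c14 LD2_c49 LD3_c43)) = (LP (LK LD1_c7 LD2_c51 LD3_c43)) :=
  Lre_e IH (LK LD1_c14 LD2_c49 LD3_c43) (LK LD1_c7 LD2_c51 LD3_c43) Lrfl Lrfl
theorem f132135 : Led Lsl_et (LP (LK LD1_c7 LD2_c21 LD3_c0)) = (LP (LK LD1_c13 LD2_c53 LD3_c53)) :=
  Lre_e IH (LK LD1_c7 LD2_c21 LD3_c0) (LK LD1_c13 LD2_c53 LD3_c53) Lrfl Lrfl
theorem f132136 : Led Lsl_cf (LP (LK LD1_c14 LD2_c49 LD3_c43)) = (LP (LK LD1_c13 LD2_c53 LD3_c53)) :=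
  Lgr Lrot39 (Lpr_et (f132134 IH) (Lpr_ct (f132076 IH) (Lpr_et (f132135 IH) (Lpn (LP (LK LD1_c13 LD2_c53 LD3_c53))))))
theorem f144955 : Led Lsl_et (LP (LK LD1_c13 LD2_c7 LD3_c52)) = (LP (LK LD1_c6 LD2_c54 LD3_c40)) :=
  Lre_e IH (LK LD1_c13 LD2_c7 LD3_c52) (LK LD1_c6 LD2_c54 LD3_c40) Lrfl Lrfl
theorem f144956 : Led Lsl_et (LP (LK LD1_c7 LD2_c40 LD3_c45)) = (LP (LK LD1_c14 LD2_c28 LD3_c37)) :=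
  Lre_e IH (LK LD1_c7 LD2_c40 LD3_c45) (LK LD1_c14 LD2_c28 LD3_c37) Lrfl Lrfl
theorem f144957 : Led Lsl_cf (LP (LK LD1_c13 LD2_c7 LD3_c52)) = (LP (LK LD1_c14 LD2_c28 LD3_c37)) :=
  Lgr Lrot39 (Lpr_et (f144955 IH) (Lpr_ct (K6.f144951 IH) (Lpr_et (f144956 IH) (Lpn (LP (LK LD1_c14 LD2_c28 LD3_c37))))))
theorem f162070 : Led Lsl_af (LP (LK LD1_c13 LD2_c53 LD3_c53)) = (LP (LK LD1_c13 LD2_c7 LD3_c52)) :=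
  Lgr Lrot68 (Lpe (f132136 IH) (Lpr_at (f162066 IH) (Lpe (f144957 IH) (Lpn (LP (LK LD1_c13 LD2_c7 LD3_c52))))))
theorem f162072 : Led Lsl_at (LP (LK LD1_c13 LD2_c53 LD3_c53)) = (LP (LK LD1_c13 LD2_c7 LD3_c52)) :=
  Lgr Lrot100 (Lpr_af (f162070 IH) (Lpn (LP (LK LD1_c13 LD2_c7 LD3_c52))))
theorem f162080 : Led Lsl_af (LP (LK LD1_c7 LD2_c21 LD3_c0)) = (LP (LK LD1_c6 LD2_c54 LD3_c40)) :=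
  Lgr Lrot50 (Lpr_et (f132135 IH) (Lpr_at (f162072 IH) (Lpr_et (f144955 IH) (Lpn (LP (LK LD1_c6 LD2_c54 LD3_c40))))))
theorem f162104 : Led Lsl_ft (LP (LK LD1_c7 LD2_c20 LD3_c61)) = (LP (LK LD1_c6 LD2_c54 LD3_c40)) :=
  Lgr Lrot101 (Lpr_af (f162098 IH) (Lpe (f162095 IH) (Lpr_af (f162080 IH) (Lpn (LP (LK LD1_c6 LD2_c54 LD3_c40))))))
theorem f162110 : Led Lsl_ff (LP (LK LD1_c7 LD2_c20 LD3_c61)) = (LP (LK LD1_c6 LD2_c54 LD3_c40)) :=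
  Lgr Lrot3 (Lpr_ft (f162104 IH) (Lpn (LP (LK LD1_c6 LD2_c54 LD3_c40))))
theorem f144962 : Led Lsl_bf (LP (LK LD1_c6 LD2_c54 LD3_c40)) = (LP (LK LD1_c3 LD2_c47 LD3_c30)) :=
  Lgr Lrot24 (Lpr_bt (K6.f144960 IH) (Lpn (LP (LK LD1_c3 LD2_c47 LD3_c30))))
theorem f162112 : Led Lsl_ft (LP (LK LD1_c7 LD2_c30 LD3_c12)) = (LP (LK LD1_c3 LD2_c47 LD3_c30)) :=
  Lgr Lrot75 (Lpe (K6.f129562 IH) (Lpr_ff (f162110 IH) (Lpr_bf (f144962 IH) (Lpn (LP (LK LD1_c3 LD2_c47 LD3_c30))))))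
theorem f25272 : Led Lsl_et (LP (LK LD1_c2 LD2_c14 LD3_c32)) = (LP (LK LD1_c4 LD2_c34 LD3_c53)) :=
  Lre_e IH (LK LD1_c2 LD2_c14 LD3_c32) (LK LD1_c4 LD2_c34 LD3_c53) Lrfl Lrfl
theorem f25337 : Led Lsl_dt (LP (LK LD1_c4 LD2_c34 LD3_c53)) = (LP (LK LD1_c9 LD2_c6 LD3_c25)) :=
  Lre_d IH (LK LD1_c4 LD2_c34 LD3_c53) (LK LD1_c9 LD2_c6 LD3_c25) Lrfl Lrfl
theorem f103763 : Led Lsl_et (LP (LK LD1_c6 LD2_c53 LD3_c13)) = (LP (LK LD1_c3 LD2_c25 LD3_c39)) :=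
  Lre_e IH (LK LD1_c6 LD2_c53 LD3_c13) (LK LD1_c3 LD2_c25 LD3_c39) Lrfl Lrfl
theorem f115878 : Led Lsl_dt (LP (LK LD1_c13 LD2_c5 LD3_c24)) = (LP (LK LD1_c6 LD2_c53 LD3_c13)) :=
  Lre_d IH (LK LD1_c13 LD2_c5 LD3_c24) (LK LD1_c6 LD2_c53 LD3_c13) Lrfl Lrfl
theorem f146533 : Led Lsl_et (LP (LK LD1_c9 LD2_c6 LD3_c25)) = (LP (LK LD1_c13 LD2_c5 LD3_c24)) :=
  Lgr Lrot71 (Lpe (f25337 IH) (Lpe (f25272 IH) (Lpr_df (K7.f146490 IH) (Lpe (f103763 IH) (Lpe (f115878 IH) (Lpn (LP (LK LD1_c13 LD2_c5 LD3_c24))))))))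
theorem f146540 : Led Lsl_ef (LP (LK LD1_c9 LD2_c6 LD3_c25)) = (LP (LK LD1_c13 LD2_c5 LD3_c24)) :=
  Lgr Lrot88 (Lpr_et (f146533 IH) (Lpn (LP (LK LD1_c13 LD2_c5 LD3_c24))))
theorem f25249 : Led Lsl_bt (LP (LK LD1_c1 LD2_c7 LD3_c20)) = (LP (LK LD1_c0 LD2_c30 LD3_c54)) :=
  Lre_b IH (LK LD1_c1 LD2_c7 LD3_c20) (LK LD1_c0 LD2_c30 LD3_c54) Lrfl Lrfl
theorem f25250 : Led Lsl_ct (LP (LK LD1_c2 LD2_c20 LD3_c8)) = (LP (LK LD1_c1 LD2_c7 LD3_c20)) :=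
  Lre_c IH (LK LD1_c2 LD2_c20 LD3_c8) (LK LD1_c1 LD2_c7 LD3_c20) Lrfl Lrfl
theorem f25229 : Led Lsl_bt (LP (LK LD1_c1 LD2_c4 LD3_c25)) = (LP (LK LD1_c2 LD2_c14 LD3_c33)) :=
  Lre_b IH (LK LD1_c1 LD2_c4 LD3_c25) (LK LD1_c2 LD2_c14 LD3_c33) Lrfl Lrfl
theorem f25251 : Led Lsl_ct (LP (LK LD1_c2 LD2_c14 LD3_c33)) = (LP (LK LD1_c4 LD2_c34 LD3_c53)) :=
  Lre_c IH (LK LD1_c2 LD2_c14 LD3_c33) (LK LD1_c4 LD2_c34 LD3_c53) Lrfl Lrfl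
theorem f25252 : Led Lsl_bf (LP (LK LD1_c2 LD2_c20 LD3_c8)) = (LP (LK LD1_c4 LD2_c34 LD3_c53)) :=
  Lgr Lrot90 (Lpr_ct (f25250 IH) (Lpr_bt (f25249 IH) (Lpr_ct (K7.f25219 IH) (Lpr_bt (f25229 IH) (Lpr_ct (f25251 IH) (Lpn (LP (LK LD1_c4 LD2_c34 LD3_c53))))))))
theorem f25271 : Led Lsl_et (LP (LK LD1_c2 LD2_c20 LD3_c8)) = (LP (LK LD1_c1 LD2_c7 LD3_c19)) :=
  Lre_e IH (LK LD1_c2 LD2_c20 LD3_c8) (LK LD1_c1 LD2_c7 LD3_c19) Lrfl Lrfl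
theorem f25273 : Led Lsl_bt (LP (LK LD1_c1 LD2_c7 LD3_c19)) = (LP (LK LD1_c2 LD2_c14 LD3_c32)) :=
  Lgr Lrot119 (Lpe (f25271 IH) (Lpr_bf (f25252 IH) (Lpe (f25272 IH) (Lpn (LP (LK LD1_c2 LD2_c14 LD3_c32))))))
theorem f25287 : Led Lsl_at (LP (LK LD1_c2 LD2_c19 LD3_c61)) = (LP (LK LD1_c1 LD2_c7 LD3_c19)) :=
  Lre_a IH (LK LD1_c2 LD2_c19 LD3_c61) (LK LD1_c1 LD2_c7 LD3_c19) Lrfl Lrfl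
theorem f20376 : Led Lsl_at (LP (LK LD1_c2 LD2_c14 LD3_c32)) = (LP (LK LD1_c4 LD2_c34 LD3_c49)) :=
  Lre_a IH (LK LD1_c2 LD2_c14 LD3_c32) (LK LD1_c4 LD2_c34 LD3_c49) Lrfl Lrfl
theorem f25289 : Led Lsl_bt (LP (LK LD1_c4 LD2_c34 LD3_c49)) = (LP (LK LD1_c9 LD2_c6 LD3_c15)) :=
  Lre_b IH (LK LD1_c4 LD2_c34 LD3_c49) (LK LD1_c9 LD2_c6 LD3_c15) Lrfl Lrfl
theorem f25290 : Led Lsl_af (LP (LK LD1_c4 LD2_c44 LD3_c5)) = (LP (LK LD1_c9 LD2_c6 LD3_c15)) :=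
  Lgr Lrot36 (Lpr_bt (K7.f25288 IH) (Lpr_at (f25287 IH) (Lpr_bt (f25273 IH) (Lpr_at (f20376 IH) (Lpr_bt (f25289 IH) (Lpn (LP (LK LD1_c9 LD2_c6 LD3_c15))))))))
theorem f25300 : Led Lsl_at (LP (LK LD1_c4 LD2_c44 LD3_c5)) = (LP (LK LD1_c9 LD2_c6 LD3_c15)) :=
  Lgr Lrot100 (Lpr_af (f25290 IH) (Lpn (LP (LK LD1_c9 LD2_c6 LD3_c15))))
theorem f25308 : Led Lsl_et (LP (LK LD1_c9 LD2_c21 LD3_c3)) = (LP (LK LD1_c4 LD2_c44 LD3_c5)) :=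
  Lre_e IH (LK LD1_c9 LD2_c21 LD3_c3) (LK LD1_c4 LD2_c44 LD3_c5) Lrfl Lrfl
theorem f25309 : Led Lsl_et (LP (LK LD1_c9 LD2_c6 LD3_c15)) = (LP (LK LD1_c16 LD2_c57 LD3_c59)) :=
  Lre_e IH (LK LD1_c9 LD2_c6 LD3_c15) (LK LD1_c16 LD2_c57 LD3_c59) Lrfl Lrfl
theorem f25310 : Led Lsl_af (LP (LK LD1_c9 LD2_c21 LD3_c3)) = (LP (LK LD1_c16 LD2_c57 LD3_c59)) :=
  Lgr Lrot50 (Lpr_et (f25308 IH) (Lpr_at (f25300 IH) (Lpr_et (f25309 IH) (Lpn (LP (LK LD1_c16 LD2_c57 LD3_c59))))))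
theorem f25316 : Led Lsl_dt (LP (LK LD1_c9 LD2_c21 LD3_c3)) = (LP (LK LD1_c17 LD2_c17 LD3_c4)) :=
  Lre_d IH (LK LD1_c9 LD2_c21 LD3_c3) (LK LD1_c17 LD2_c17 LD3_c4) Lrfl Lrfl
theorem f25317 : Led Lsl_dt (LP (LK LD1_c26 LD2_c53 LD3_c28)) = (LP (LK LD1_c16 LD2_c57 LD3_c59)) :=
  Lre_d IH (LK LD1_c26 LD2_c53 LD3_c28) (LK LD1_c16 LD2_c57 LD3_c59) Lrfl Lrfl
theorem f25318 : Led Lsl_at (LP (LK LD1_c17 LD2_c17 LD3_c4)) = (LP (LK LD1_c26 LD2_c53 LD3_c28)) :=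
  Lgr Lrot51 (Lpe (f25316 IH) (Lpr_af (f25310 IH) (Lpe (f25317 IH) (Lpn (LP (LK LD1_c26 LD2_c53 LD3_c28))))))
theorem f25323 : Led Lsl_bt (LP (LK LD1_c9 LD2_c21 LD3_c4)) = (LP (LK LD1_c17 LD2_c17 LD3_c4)) :=
  Lre_b IH (LK LD1_c9 LD2_c21 LD3_c4) (LK LD1_c17 LD2_c17 LD3_c4) Lrfl Lrfl
theorem f25324 : Led Lsl_at (LP (LK LD1_c4 LD2_c44 LD3_c19)) = (LP (LK LD1_c9 LD2_c21 LD3_c4)) :=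
  Lre_a IH (LK LD1_c4 LD2_c44 LD3_c19) (LK LD1_c9 LD2_c21 LD3_c4) Lrfl Lrfl
theorem f25325 : Led Lsl_bt (LP (LK LD1_c26 LD2_c53 LD3_c28)) = (LP (LK LD1_c16 LD2_c58 LD3_c0)) :=
  Lre_b IH (LK LD1_c26 LD2_c53 LD3_c28) (LK LD1_c16 LD2_c58 LD3_c0) Lrfl Lrfl
theorem f25326 : Led Lsl_at (LP (LK LD1_c16 LD2_c58 LD3_c0)) = (LP (LK LD1_c9 LD2_c6 LD3_c25)) :=
  Lre_a IH (LK LD1_c16 LD2_c58 LD3_c0) (LK LD1_c9 LD2_c6 LD3_c25) Lrfl Lrfl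
theorem f25327 : Led Lsl_bf (LP (LK LD1_c4 LD2_c44 LD3_c19)) = (LP (LK LD1_c9 LD2_c6 LD3_c25)) :=
  Lgr Lrot81 (Lpr_at (f25324 IH) (Lpr_bt (f25323 IH) (Lpr_at (f25318 IH) (Lpr_bt (f25325 IH) (Lpr_at (f25326 IH) (Lpn (LP (LK LD1_c9 LD2_c6 LD3_c25))))))))
theorem f25338 : Led Lsl_et (LP (LK LD1_c4 LD2_c44 LD3_c19)) = (LP (LK LD1_c9 LD2_c21 LD3_c21)) :=
  Lre_e IH (LK LD1_c4 LD2_c44 LD3_c19) (LK LD1_c9 LD2_c21 LD3_c21) Lrfl Lrfl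
theorem f146549 : Led Lsl_bt (LP (LK LD1_c9 LD2_c21 LD3_c21)) = (LP (LK LD1_c13 LD2_c5 LD3_c24)) :=
  Lgr Lrot119 (Lpe (f25338 IH) (Lpr_bf (f25327 IH) (Lpr_ef (f146540 IH) (Lpn (LP (LK LD1_c13 LD2_c5 LD3_c24))))))
theorem f146560 : Led Lsl_dt (LP (LK LD1_c4 LD2_c44 LD3_c16)) = (LP (LK LD1_c9 LD2_c21 LD3_c21)) :=
  Lre_d IH (LK LD1_c4 LD2_c44 LD3_c16) (LK LD1_c9 LD2_c21 LD3_c21) Lrfl Lrfl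
theorem f146561 : Led Lsl_bf (LP (LK LD1_c4 LD2_c44 LD3_c16)) = (LP (LK LD1_c6 LD2_c53 LD3_c13)) :=
  Lgr Lrot93 (Lpr_dt (f146560 IH) (Lpr_bt (f146549 IH) (Lpr_dt (f115878 IH) (Lpn (LP (LK LD1_c6 LD2_c53 LD3_c13))))))
theorem f146567 : Led Lsl_bt (LP (LK LD1_c4 LD2_c44 LD3_c16)) = (LP (LK LD1_c6 LD2_c53 LD3_c13)) :=
  Lgr Lrot127 (Lpr_bf (f146561 IH) (Lpn (LP (LK LD1_c6 LD2_c53 LD3_c13))))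
theorem f116728 : Led Lsl_et (LP (LK LD1_c2 LD2_c20 LD3_c7)) = (LP (LK LD1_c4 LD2_c44 LD3_c16)) :=
  Lre_e IH (LK LD1_c2 LD2_c20 LD3_c7) (LK LD1_c4 LD2_c44 LD3_c16) Lrfl Lrfl
theorem f146573 : Led Lsl_bf (LP (LK LD1_c2 LD2_c20 LD3_c7)) = (LP (LK LD1_c3 LD2_c25 LD3_c39)) :=
  Lgr Lrot96 (Lpr_et (f116728 IH) (Lpr_bt (f146567 IH) (Lpr_et (f103763 IH) (Lpn (LP (LK LD1_c3 LD2_c25 LD3_c39))))))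
theorem f156475 : Led Lsl_ct (LP (LK LD1_c6 LD2_c33 LD3_c9)) = (LP (LK LD1_c6 LD2_c53 LD3_c14)) :=
  Lgr Lrot83 (Lpe (f24149 IH) (Lpr_cf (K7.f156471 IH) (Lpr_bf (f146573 IH) (Lpe (K4.f115867 IH) (Lpe (f95238 IH) (Lpn (LP (LK LD1_c6 LD2_c53 LD3_c14))))))))
theorem f145131 : Led Lsl_cf (LP (LK LD1_c7 LD2_c37 LD3_c61)) = (LP (LK LD1_c3 LD2_c48 LD3_c30)) :=
  Lgr Lrot97 (Lpr_bt (K6.f145127 IH) (Lpe (K6.f64335 IH) (Lpe (K1.f57263 IH) (Lpr_ct (K4.f64307 IH) (Lpr_bt (K6.f64412 IH) (Lpn (LP (LK LD1_c3 LD2_c48 LD3_c30))))))))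
theorem f92190 : Led Lsl_af (LP (LK LD1_c9 LD2_c5 LD3_c49)) = (LP (LK LD1_c4 LD2_c47 LD3_c43)) :=
  Lgr Lrot0 (Lpr_at (K6.f92188 IH) (Lpn (LP (LK LD1_c4 LD2_c47 LD3_c43))))
theorem f62588 : Led Lsl_gt (LP (LK LD1_c3 LD2_c19 LD3_c42)) = (LP (LK LD1_c6 LD2_c43 LD3_c10)) :=
  Lre_g IH (LK LD1_c3 LD2_c19 LD3_c42) (LK LD1_c6 LD2_c43 LD3_c10) Lrfl Lrfl
theorem f135832 : Led Lsl_gf (LP (LK LD1_c9 LD2_c5 LD3_c49)) = (LP (LK LD1_c6 LD2_c43 LD3_c10)) :=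
  Lgr Lrot76 (Lpr_af (f92190 IH) (Lpr_ff (K6.f135825 IH) (Lpr_gt (f62588 IH) (Lpn (LP (LK LD1_c6 LD2_c43 LD3_c10))))))
theorem f157330 : Led Lsl_df (LP (LK LD1_c6 LD2_c43 LD3_c10)) = (LP (LK LD1_c6 LD2_c59 LD3_c43)) :=
  Lgr Lrot153 (Lpe (f135832 IH) (Lpe (K6.f145124 IH) (Lpr_cf (f145131 IH) (Lpe (K6.f135819 IH) (Lpe (K7.f92194 IH) (Lpr_df (K7.f156675 IH) (Lpe (K7.f115896 IH) (Lpe (f156475 IH) (Lpr_gt (f157326 IH) (Lpn (LP (LK LD1_c6 LD2_c59 LD3_c43))))))))))))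
theorem f157338 : Led Lsl_dt (LP (LK LD1_c6 LD2_c43 LD3_c10)) = (LP (LK LD1_c6 LD2_c59 LD3_c43)) :=
  Lgr Lrot42 (Lpr_df (f157330 IH) (Lpn (LP (LK LD1_c6 LD2_c59 LD3_c43))))
theorem f95249 : Led Lsl_dt (LP (LK LD1_c1 LD2_c39 LD3_c43)) = (LP (LK LD1_c3 LD2_c26 LD3_c4)) :=
  Lre_d IH (LK LD1_c1 LD2_c39 LD3_c43) (LK LD1_c3 LD2_c26 LD3_c4) Lrfl Lrfl
theorem f130452 : Led Lsl_df (LP (LK LD1_c6 LD2_c59 LD3_c42)) = (LP (LK LD1_c12 LD2_c45 LD3_c18)) :=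
  Lgr Lrot162 (Lpr_cf (K6.f123958 IH) (Lpe (K5.f123945 IH) (Lpr_cf (K4.f116452 IH) (Lpe (K4.f9801 IH) (Lpr_dt (f95249 IH) (Lpr_gt (K5.f94698 IH) (Lpe (K6.f127688 IH) (Lpe (K6.f130441 IH) (Lpr_ct (K6.f130446 IH) (Lpn (LP (LK LD1_c12 LD2_c45 LD3_c18))))))))))))
theorem f130445 : Led Lsl_bt (LP (LK LD1_c6 LD2_c39 LD3_c44)) = (LP (LK LD1_c12 LD2_c45 LD3_c18)) :=
  Lre_b IH (LK LD1_c6 LD2_c39 LD3_c44) (LK LD1_c12 LD2_c45 LD3_c18) Lrfl Lrfl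
theorem f130454 : Led Lsl_dt (LP (LK LD1_c3 LD2_c29 LD3_c0)) = (LP (LK LD1_c6 LD2_c39 LD3_c44)) :=
  Lgr Lrot79 (Lpe (K5.f18636 IH) (Lpr_df (f130452 IH) (Lpe (f130445 IH) (Lpn (LP (LK LD1_c6 LD2_c39 LD3_c44))))))
theorem f130456 : Led Lsl_df (LP (LK LD1_c3 LD2_c29 LD3_c0)) = (LP (LK LD1_c6 LD2_c39 LD3_c44)) :=
  Lgr Lrot38 (Lpr_dt (f130454 IH) (Lpn (LP (LK LD1_c6 LD2_c39 LD3_c44))))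
theorem f157342 : Led Lsl_gf (LP (LK LD1_c6 LD2_c43 LD3_c12)) = (LP (LK LD1_c7 LD2_c30 LD3_c15)) :=
  Lgr Lrot144 (Lpr_dt (K6.f57468 IH) (Lpr_gt (f62588 IH) (Lpr_dt (f157338 IH) (Lpe (f18634 IH) (Lpr_df (f130456 IH) (Lpe (K6.f104284 IH) (Lpe (K0.f14711 IH) (Lpe (K5.f14737 IH) (Lpe (K5.f14738 IH) (Lpn (LP (LK LD1_c7 LD2_c30 LD3_c15))))))))))))
theorem f145103 : Led Lsl_af (LP (LK LD1_c6 LD2_c43 LD3_c12)) = (LP (LK LD1_c6 LD2_c54 LD3_c46)) :=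
  Lgr Lrot0 (Lpr_at (K6.f145101 IH) (Lpn (LP (LK LD1_c6 LD2_c54 LD3_c46))))
theorem f157344 : Led Lsl_gt (LP (LK LD1_c7 LD2_c37 LD3_c61)) = (LP (LK LD1_c7 LD2_c30 LD3_c15)) :=
  Lgr Lrot5 (Lpr_ft (K6.f145116 IH) (Lpe (f145103 IH) (Lpr_gf (f157342 IH) (Lpn (LP (LK LD1_c7 LD2_c30 LD3_c15))))))
theorem f162118 : Led Lsl_af (LP (LK LD1_c7 LD2_c30 LD3_c15)) = (LP (LK LD1_c3 LD2_c47 LD3_c30)) :=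
  Lgr Lrot31 (Lpe (f157344 IH) (Lpe (K6.f145249 IH) (Lpr_ft (f162112 IH) (Lpn (LP (LK LD1_c3 LD2_c47 LD3_c30))))))
theorem f89753 : Led Lsl_et (LP (LK LD1_c7 LD2_c30 LD3_c15)) = (LP (LK LD1_c14 LD2_c10 LD3_c17)) :=
  Lre_e IH (LK LD1_c7 LD2_c30 LD3_c15) (LK LD1_c14 LD2_c10 LD3_c17) Lrfl Lrfl
theorem f64444 : Led Lsl_et (LP (LK LD1_c7 LD2_c35 LD3_c55)) = (LP (LK LD1_c3 LD2_c47 LD3_c30)) :=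
  Lre_e IH (LK LD1_c7 LD2_c35 LD3_c55) (LK LD1_c3 LD2_c47 LD3_c30) Lrfl Lrfl
theorem f162126 : Led Lsl_at (LP (LK LD1_c14 LD2_c10 LD3_c17)) = (LP (LK LD1_c7 LD2_c35 LD3_c55)) :=
  Lgr Lrot80 (Lpe (f89753 IH) (Lpr_af (f162118 IH) (Lpe (f64444 IH) (Lpn (LP (LK LD1_c7 LD2_c35 LD3_c55))))))
theorem f89750 : Led Lsl_dt (LP (LK LD1_c23 LD2_c45 LD3_c30)) = (LP (LK LD1_c14 LD2_c10 LD3_c17)) :=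
  Lre_d IH (LK LD1_c23 LD2_c45 LD3_c30) (LK LD1_c14 LD2_c10 LD3_c17) Lrfl Lrfl
theorem f64445 : Led Lsl_dt (LP (LK LD1_c7 LD2_c35 LD3_c55)) = (LP (LK LD1_c14 LD2_c19 LD3_c28)) :=
  Lre_d IH (LK LD1_c7 LD2_c35 LD3_c55) (LK LD1_c14 LD2_c19 LD3_c28) Lrfl Lrfl
theorem f162134 : Led Lsl_af (LP (LK LD1_c23 LD2_c45 LD3_c30)) = (LP (LK LD1_c14 LD2_c19 LD3_c28)) :=
  Lgr Lrot117 (Lpr_dt (f89750 IH) (Lpr_at (f162126 IH) (Lpr_dt (f64445 IH) (Lpn (LP (LK LD1_c14 LD2_c19 LD3_c28))))))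
theorem f89734 : Led Lsl_et (LP (LK LD1_c7 LD2_c7 LD3_c28)) = (LP (LK LD1_c13 LD2_c29 LD3_c57)) :=
  Lre_e IH (LK LD1_c7 LD2_c7 LD3_c28) (LK LD1_c13 LD2_c29 LD3_c57) Lrfl Lrfl
theorem f89735 : Led Lsl_et (LP (LK LD1_c14 LD2_c10 LD3_c17)) = (LP (LK LD1_c7 LD2_c30 LD3_c15)) :=
  Lre_e IH (LK LD1_c14 LD2_c10 LD3_c17) (LK LD1_c7 LD2_c30 LD3_c15) Lrfl Lrfl
theorem f89736 : Led Lsl_bt (LP (LK LD1_c13 LD2_c29 LD3_c57)) = (LP (LK LD1_c14 LD2_c10 LD3_c17)) :=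
  Lgr Lrot119 (Lpe (f89734 IH) (Lpr_bf (K5.f89729 IH) (Lpe (f89735 IH) (Lpn (LP (LK LD1_c14 LD2_c10 LD3_c17))))))
theorem f89741 : Led Lsl_dt (LP (LK LD1_c22 LD2_c50 LD3_c43)) = (LP (LK LD1_c13 LD2_c29 LD3_c57)) :=
  Lre_d IH (LK LD1_c22 LD2_c50 LD3_c43) (LK LD1_c13 LD2_c29 LD3_c57) Lrfl Lrfl
theorem f89742 : Led Lsl_dt (LP (LK LD1_c14 LD2_c10 LD3_c17)) = (LP (LK LD1_c23 LD2_c45 LD3_c30)) :=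
  Lre_d IH (LK LD1_c14 LD2_c10 LD3_c17) (LK LD1_c23 LD2_c45 LD3_c30) Lrfl Lrfl
theorem f89743 : Led Lsl_bf (LP (LK LD1_c22 LD2_c50 LD3_c43)) = (LP (LK LD1_c23 LD2_c45 LD3_c30)) :=
  Lgr Lrot93 (Lpr_dt (f89741 IH) (Lpr_bt (f89736 IH) (Lpr_dt (f89742 IH) (Lpn (LP (LK LD1_c23 LD2_c45 LD3_c30))))))
theorem f144966 : Led Lsl_et (LP (LK LD1_c3 LD2_c47 LD3_c30)) = (LP (LK LD1_c7 LD2_c35 LD3_c55)) :=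
  Lre_e IH (LK LD1_c3 LD2_c47 LD3_c30) (LK LD1_c7 LD2_c35 LD3_c55) Lrfl Lrfl
theorem f144967 : Led Lsl_bf (LP (LK LD1_c13 LD2_c7 LD3_c52)) = (LP (LK LD1_c7 LD2_c35 LD3_c55)) :=
  Lgr Lrot96 (Lpr_et (f144955 IH) (Lpr_bt (K6.f144960 IH) (Lpr_et (f144966 IH) (Lpn (LP (LK LD1_c7 LD2_c35 LD3_c55))))))
theorem f144973 : Led Lsl_dt (LP (LK LD1_c13 LD2_c7 LD3_c52)) = (LP (LK LD1_c22 LD2_c19 LD3_c52)) :=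
  Lre_d IH (LK LD1_c13 LD2_c7 LD3_c52) (LK LD1_c22 LD2_c19 LD3_c52) Lrfl Lrfl
theorem f144974 : Led Lsl_dt (LP (LK LD1_c14 LD2_c19 LD3_c28)) = (LP (LK LD1_c7 LD2_c35 LD3_c55)) :=
  Lre_d IH (LK LD1_c14 LD2_c19 LD3_c28) (LK LD1_c7 LD2_c35 LD3_c55) Lrfl Lrfl
theorem f144975 : Led Lsl_bt (LP (LK LD1_c22 LD2_c19 LD3_c52)) = (LP (LK LD1_c14 LD2_c19 LD3_c28)) :=
  Lgr Lrot95 (Lpe (f144973 IH) (Lpr_bf (f144967 IH) (Lpe (f144974 IH) (Lpn (LP (LK LD1_c14 LD2_c19 LD3_c28))))))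
theorem f123475 : Led Lsl_dt (LP (LK LD1_c13 LD2_c53 LD3_c53)) = (LP (LK LD1_c23 LD2_c24 LD3_c3)) :=
  Lre_d IH (LK LD1_c13 LD2_c53 LD3_c53) (LK LD1_c23 LD2_c24 LD3_c3) Lrfl Lrfl
theorem f144985 : Led Lsl_dt (LP (LK LD1_c22 LD2_c19 LD3_c52)) = (LP (LK LD1_c13 LD2_c7 LD3_c52)) :=
  Lre_d IH (LK LD1_c22 LD2_c19 LD3_c52) (LK LD1_c13 LD2_c7 LD3_c52) Lrfl Lrfl
theorem f162074 : Led Lsl_at (LP (LK LD1_c23 LD2_c24 LD3_c3)) = (LP (LK LD1_c22 LD2_c19 LD3_c52)) :=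
  Lgr Lrot51 (Lpe (f123475 IH) (Lpr_af (f162070 IH) (Lpe (f144985 IH) (Lpn (LP (LK LD1_c22 LD2_c19 LD3_c52))))))
theorem f132132 : Led Lsl_cf (LP (LK LD1_c7 LD2_c51 LD3_c43)) = (LP (LK LD1_c7 LD2_c21 LD3_c0)) :=
  Lgr Lrot11 (Lpr_ct (f132076 IH) (Lpn (LP (LK LD1_c7 LD2_c21 LD3_c0))))
theorem f144887 : Led Lsl_bf (LP (LK LD1_c3 LD2_c48 LD3_c21)) = (LP (LK LD1_c7 LD2_c21 LD3_c0)) :=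
  Lgr Lrot156 (Lpr_gt (f17412 IH) (Lpe (K3.f17308 IH) (Lpe (K0.f17311 IH) (Lpe (K3.f96758 IH) (Lpr_cf (K3.f91236 IH) (Lpr_bt (K4.f91262 IH) (Lpr_gt (K4.f91265 IH) (Lpr_ct (K5.f91266 IH) (Lpr_gt (f144879 IH) (Lpr_cf (f132132 IH) (Lpn (LP (LK LD1_c7 LD2_c21 LD3_c0)))))))))))))
theorem f127436 : Led Lsl_et (LP (LK LD1_c3 LD2_c48 LD3_c21)) = (LP (LK LD1_c7 LD2_c37 LD3_c45)) :=
  Lre_e IH (LK LD1_c3 LD2_c48 LD3_c21) (LK LD1_c7 LD2_c37 LD3_c45) Lrfl Lrfl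
theorem f123474 : Led Lsl_et (LP (LK LD1_c13 LD2_c53 LD3_c53)) = (LP (LK LD1_c7 LD2_c21 LD3_c0)) :=
  Lre_e IH (LK LD1_c13 LD2_c53 LD3_c53) (LK LD1_c7 LD2_c21 LD3_c0) Lrfl Lrfl
theorem f144891 : Led Lsl_bt (LP (LK LD1_c7 LD2_c37 LD3_c45)) = (LP (LK LD1_c13 LD2_c53 LD3_c53)) :=
  Lgr Lrot119 (Lpe (f127436 IH) (Lpr_bf (f144887 IH) (Lpe (f123474 IH) (Lpn (LP (LK LD1_c13 LD2_c53 LD3_c53))))))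
theorem f144895 : Led Lsl_dt (LP (LK LD1_c14 LD2_c22 LD3_c41)) = (LP (LK LD1_c7 LD2_c37 LD3_c45)) :=
  Lre_d IH (LK LD1_c14 LD2_c22 LD3_c41) (LK LD1_c7 LD2_c37 LD3_c45) Lrfl Lrfl
theorem f144896 : Led Lsl_bf (LP (LK LD1_c14 LD2_c22 LD3_c41)) = (LP (LK LD1_c23 LD2_c24 LD3_c3)) :=
  Lgr Lrot93 (Lpr_dt (f144895 IH) (Lpr_bt (f144891 IH) (Lpr_dt (f123475 IH) (Lpn (LP (LK LD1_c23 LD2_c24 LD3_c3))))))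
theorem f144898 : Led Lsl_bt (LP (LK LD1_c14 LD2_c22 LD3_c41)) = (LP (LK LD1_c23 LD2_c24 LD3_c3)) :=
  Lgr Lrot127 (Lpr_bf (f144896 IH) (Lpn (LP (LK LD1_c23 LD2_c24 LD3_c3))))
theorem f162141 : Led Lsl_at (LP (LK LD1_c22 LD2_c50 LD3_c43)) = (LP (LK LD1_c14 LD2_c22 LD3_c41)) :=
  Lgr Lrot67 (Lpr_bf (f89743 IH) (Lpr_af (f162134 IH) (Lpe (f144975 IH) (Lpe (f162074 IH) (Lpe (f144898 IH) (Lpn (LP (LK LD1_c14 LD2_c22 LD3_c41))))))))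
theorem f162148 : Led Lsl_af (LP (LK LD1_c22 LD2_c50 LD3_c43)) = (LP (LK LD1_c14 LD2_c22 LD3_c41)) :=
  Lgr Lrot0 (Lpr_at (f162141 IH) (Lpn (LP (LK LD1_c14 LD2_c22 LD3_c41))))
theorem f93030 : Led Lsl_dt (LP (LK LD1_c7 LD2_c37 LD3_c45)) = (LP (LK LD1_c14 LD2_c22 LD3_c41)) :=
  Lre_d IH (LK LD1_c7 LD2_c37 LD3_c45) (LK LD1_c14 LD2_c22 LD3_c41) Lrfl Lrfl
theorem f162155 : Led Lsl_at (LP (LK LD1_c13 LD2_c29 LD3_c57)) = (LP (LK LD1_c7 LD2_c37 LD3_c45)) :=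
  Lgr Lrot51 (Lpe (f89741 IH) (Lpr_af (f162148 IH) (Lpe (f93030 IH) (Lpn (LP (LK LD1_c7 LD2_c37 LD3_c45))))))
theorem f93029 : Led Lsl_et (LP (LK LD1_c7 LD2_c37 LD3_c45)) = (LP (LK LD1_c3 LD2_c48 LD3_c21)) :=
  Lre_e IH (LK LD1_c7 LD2_c37 LD3_c45) (LK LD1_c3 LD2_c48 LD3_c21) Lrfl Lrfl
theorem f162157 : Led Lsl_af (LP (LK LD1_c7 LD2_c7 LD3_c28)) = (LP (LK LD1_c3 LD2_c48 LD3_c21)) :=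
  Lgr Lrot50 (Lpr_et (f89734 IH) (Lpr_at (f162155 IH) (Lpr_et (f93029 IH) (Lpn (LP (LK LD1_c3 LD2_c48 LD3_c21))))))
theorem f96333 : Led Lsl_gt (LP (LK LD1_c7 LD2_c7 LD3_c29)) = (LP (LK LD1_c3 LD2_c33 LD3_c17)) :=
  Lre_g IH (LK LD1_c7 LD2_c7 LD3_c29) (LK LD1_c3 LD2_c33 LD3_c17) Lrfl Lrfl
theorem f162159 : Led Lsl_ft (LP (LK LD1_c7 LD2_c7 LD3_c29)) = (LP (LK LD1_c3 LD2_c48 LD3_c21)) :=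
  Lgr Lrot2 (Lpr_gt (f96333 IH) (Lpr_gt (K5.f89721 IH) (Lpr_af (f162157 IH) (Lpn (LP (LK LD1_c3 LD2_c48 LD3_c21))))))
theorem f162165 : Led Lsl_ff (LP (LK LD1_c7 LD2_c7 LD3_c29)) = (LP (LK LD1_c3 LD2_c48 LD3_c21)) :=
  Lgr Lrot3 (Lpr_ft (f162159 IH) (Lpn (LP (LK LD1_c3 LD2_c48 LD3_c21))))
theorem f162171 : Led Lsl_at (LP (LK LD1_c7 LD2_c7 LD3_c29)) = (LP (LK LD1_c3 LD2_c48 LD3_c20)) :=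
  Lgr Lrot26 (Lpr_ff (f162165 IH) (Lpr_gt (f17412 IH) (Lpr_gt (K3.f17317 IH) (Lpn (LP (LK LD1_c3 LD2_c48 LD3_c20))))))
theorem f144889 : Led Lsl_bt (LP (LK LD1_c3 LD2_c48 LD3_c21)) = (LP (LK LD1_c7 LD2_c21 LD3_c0)) :=
  Lgr Lrot127 (Lpr_bf (f144887 IH) (Lpn (LP (LK LD1_c7 LD2_c21 LD3_c0))))
theorem f162122 : Led Lsl_at (LP (LK LD1_c7 LD2_c7 LD3_c28)) = (LP (LK LD1_c3 LD2_c48 LD3_c21)) :=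
  Lgr Lrot67 (Lpr_bf (K5.f89729 IH) (Lpr_af (f162118 IH) (Lpe (K6.f144960 IH) (Lpe (f162064 IH) (Lpe (f144889 IH) (Lpn (LP (LK LD1_c3 LD2_c48 LD3_c21))))))))
theorem f162181 : Led Lsl_ff (LP (LK LD1_c7 LD2_c7 LD3_c28)) = (LP (LK LD1_c3 LD2_c48 LD3_c20)) :=
  Lgr Lrot30 (Lpr_at (f162122 IH) (Lpe (f162165 IH) (Lpr_at (f162171 IH) (Lpn (LP (LK LD1_c3 LD2_c48 LD3_c20))))))
theorem f162187 : Led Lsl_ft (LP (LK LD1_c7 LD2_c7 LD3_c28)) = (LP (LK LD1_c3 LD2_c48 LD3_c20)) :=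
  Lgr Lrot48 (Lpr_ff (f162181 IH) (Lpn (LP (LK LD1_c3 LD2_c48 LD3_c20))))
theorem f96779 : Led Lsl_cf (LP (LK LD1_c7 LD2_c7 LD3_c49)) = (LP (LK LD1_c3 LD2_c48 LD3_c20)) :=
  Lgr Lrot11 (Lpr_ct (K3.f96771 IH) (Lpn (LP (LK LD1_c3 LD2_c48 LD3_c20))))
theorem f162191 : Led Lsl_ff (LP (LK LD1_c7 LD2_c14 LD3_c2)) = (LP (LK LD1_c7 LD2_c7 LD3_c49)) :=
  Lgr Lrot23 (Lpe (K6.f96471 IH) (Lpr_ft (f162187 IH) (Lpe (f96779 IH) (Lpn (LP (LK LD1_c7 LD2_c7 LD3_c49))))))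
theorem f162193 : Led Lsl_ft (LP (LK LD1_c3 LD2_c36 LD3_c55)) = (LP (LK LD1_c3 LD2_c33 LD3_c27)) :=
  Lgr Lrot75 (Lpe (K6.f17481 IH) (Lpr_ff (f162191 IH) (Lpe (K3.f96776 IH) (Lpn (LP (LK LD1_c3 LD2_c33 LD3_c27))))))
theorem f162200 : Led Lsl_af (LP (LK LD1_c3 LD2_c36 LD3_c54)) = (LP (LK LD1_c3 LD2_c33 LD3_c27)) :=
  Lgr Lrot31 (Lpe (K6.f17478 IH) (Lpe (K6.f17480 IH) (Lpr_ft (f162193 IH) (Lpn (LP (LK LD1_c3 LD2_c33 LD3_c27))))))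
theorem f155707 : Led Lsl_et (LP (LK LD1_c3 LD2_c36 LD3_c54)) = (LP (LK LD1_c7 LD2_c14 LD3_c1)) :=
  Lre_e IH (LK LD1_c3 LD2_c36 LD3_c54) (LK LD1_c7 LD2_c14 LD3_c1) Lrfl Lrfl
theorem f96800 : Led Lsl_et (LP (LK LD1_c7 LD2_c7 LD3_c50)) = (LP (LK LD1_c3 LD2_c33 LD3_c27)) :=
  Lre_e IH (LK LD1_c7 LD2_c7 LD3_c50) (LK LD1_c3 LD2_c33 LD3_c27) Lrfl Lrfl
theorem f162206 : Led Lsl_at (LP (LK LD1_c7 LD2_c14 LD3_c1)) = (LP (LK LD1_c7 LD2_c7 LD3_c50)) :=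
  Lgr Lrot80 (Lpe (f155707 IH) (Lpr_af (f162200 IH) (Lpe (f96800 IH) (Lpn (LP (LK LD1_c7 LD2_c7 LD3_c50))))))
theorem f136382 : Led Lsl_ct (LP (LK LD1_c13 LD2_c41 LD3_c24)) = (LP (LK LD1_c7 LD2_c14 LD3_c1)) :=
  Lre_c IH (LK LD1_c13 LD2_c41 LD3_c24) (LK LD1_c7 LD2_c14 LD3_c1) Lrfl Lrfl
theorem f96781 : Led Lsl_et (LP (LK LD1_c13 LD2_c30 LD3_c21)) = (LP (LK LD1_c7 LD2_c7 LD3_c49)) :=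
  Lre_e IH (LK LD1_c13 LD2_c30 LD3_c21) (LK LD1_c7 LD2_c7 LD3_c49) Lrfl Lrfl
theorem f95146 : Led Lsl_et (LP (LK LD1_c3 LD2_c48 LD3_c20)) = (LP (LK LD1_c7 LD2_c37 LD3_c43)) :=
  Lre_e IH (LK LD1_c3 LD2_c48 LD3_c20) (LK LD1_c7 LD2_c37 LD3_c43) Lrfl Lrfl
theorem f96782 : Led Lsl_cf (LP (LK LD1_c13 LD2_c30 LD3_c21)) = (LP (LK LD1_c7 LD2_c37 LD3_c43)) :=
  Lgr Lrot39 (Lpr_et (f96781 IH) (Lpr_ct (K3.f96771 IH) (Lpr_et (f95146 IH) (Lpn (LP (LK LD1_c7 LD2_c37 LD3_c43))))))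
theorem f96785 : Led Lsl_bt (LP (LK LD1_c13 LD2_c30 LD3_c21)) = (LP (LK LD1_c7 LD2_c7 LD3_c50)) :=
  Lre_b IH (LK LD1_c13 LD2_c30 LD3_c21) (LK LD1_c7 LD2_c7 LD3_c50) Lrfl Lrfl
theorem f15664 : Led Lsl_et (LP (LK LD1_c7 LD2_c36 LD3_c0)) = (LP (LK LD1_c3 LD2_c47 LD3_c34)) :=
  Lre_e IH (LK LD1_c7 LD2_c36 LD3_c0) (LK LD1_c3 LD2_c47 LD3_c34) Lrfl Lrfl
theorem f95147 : Led Lsl_bf (LP (LK LD1_c7 LD2_c36 LD3_c0)) = (LP (LK LD1_c7 LD2_c37 LD3_c43)) :=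
  Lgr Lrot96 (Lpr_et (f15664 IH) (Lpr_bt (K3.f95142 IH) (Lpr_et (f95146 IH) (Lpn (LP (LK LD1_c7 LD2_c37 LD3_c43))))))
theorem f95149 : Led Lsl_bt (LP (LK LD1_c7 LD2_c36 LD3_c0)) = (LP (LK LD1_c7 LD2_c37 LD3_c43)) :=
  Lgr Lrot127 (Lpr_bf (f95147 IH) (Lpn (LP (LK LD1_c7 LD2_c37 LD3_c43))))
theorem f95171 : Led Lsl_ct (LP (LK LD1_c3 LD2_c47 LD3_c36)) = (LP (LK LD1_c7 LD2_c36 LD3_c0)) :=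
  Lre_c IH (LK LD1_c3 LD2_c47 LD3_c36) (LK LD1_c7 LD2_c36 LD3_c0) Lrfl Lrfl
theorem f95172 : Led Lsl_bt (LP (LK LD1_c7 LD2_c35 LD3_c61)) = (LP (LK LD1_c3 LD2_c47 LD3_c36)) :=
  Lre_b IH (LK LD1_c7 LD2_c35 LD3_c61) (LK LD1_c3 LD2_c47 LD3_c36) Lrfl Lrfl
theorem f96786 : Led Lsl_ct (LP (LK LD1_c7 LD2_c7 LD3_c50)) = (LP (LK LD1_c7 LD2_c35 LD3_c61)) :=
  Lgr Lrot83 (Lpe (f96785 IH) (Lpr_cf (f96782 IH) (Lpe (f95149 IH) (Lpe (f95171 IH) (Lpe (f95172 IH) (Lpn (LP (LK LD1_c7 LD2_c35 LD3_c61))))))))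
theorem f162210 : Led Lsl_af (LP (LK LD1_c13 LD2_c41 LD3_c24)) = (LP (LK LD1_c7 LD2_c35 LD3_c61)) :=
  Lgr Lrot68 (Lpr_ct (f136382 IH) (Lpr_at (f162206 IH) (Lpr_ct (f96786 IH) (Lpn (LP (LK LD1_c7 LD2_c35 LD3_c61))))))
theorem f162227 : Led Lsl_at (LP (LK LD1_c13 LD2_c41 LD3_c24)) = (LP (LK LD1_c7 LD2_c35 LD3_c61)) :=
  Lgr Lrot100 (Lpr_af (f162210 IH) (Lpn (LP (LK LD1_c7 LD2_c35 LD3_c61))))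
theorem f136371 : Led Lsl_et (LP (LK LD1_c7 LD2_c14 LD3_c0)) = (LP (LK LD1_c13 LD2_c41 LD3_c24)) :=
  Lre_e IH (LK LD1_c7 LD2_c14 LD3_c0) (LK LD1_c13 LD2_c41 LD3_c24) Lrfl Lrfl
theorem f96820 : Led Lsl_et (LP (LK LD1_c7 LD2_c35 LD3_c61)) = (LP (LK LD1_c3 LD2_c47 LD3_c33)) :=
  Lre_e IH (LK LD1_c7 LD2_c35 LD3_c61) (LK LD1_c3 LD2_c47 LD3_c33) Lrfl Lrfl
theorem f162240 : Led Lsl_af (LP (LK LD1_c7 LD2_c14 LD3_c0)) = (LP (LK LD1_c3 LD2_c47 LD3_c33)) :=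
  Lgr Lrot50 (Lpr_et (f136371 IH) (Lpr_at (f162227 IH) (Lpr_et (f96820 IH) (Lpn (LP (LK LD1_c3 LD2_c47 LD3_c33))))))
theorem f26190 : Led Lsl_bt (LP (LK LD1_c1 LD2_c48 LD3_c6)) = (LP (LK LD1_c0 LD2_c50 LD3_c48)) :=
  Lre_b IH (LK LD1_c1 LD2_c48 LD3_c6) (LK LD1_c0 LD2_c50 LD3_c48) Lrfl Lrfl
theorem f108021 : Led Lsl_ct (LP (LK LD1_c0 LD2_c48 LD3_c24)) = (LP (LK LD1_c0 LD2_c49 LD3_c48)) :=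
  Lgr Lrot53 (Lpe (K5.f10504 IH) (Lpr_cf (K3.f98469 IH) (Lpe (K3.f11539 IH) (Lpe (K2.f6671 IH) (Lpr_df (K5.f98604 IH) (Lpr_ft (K3.f108009 IH) (Lpe (K3.f108019 IH) (Lpe (K3.f385 IH) (Lpe (K3.f5259 IH) (Lpn (LP (LK LD1_c0 LD2_c49 LD3_c48))))))))))))
theorem f6109 : Led Lsl_bt (LP (LK LD1_c1 LD2_c43 LD3_c31)) = (LP (LK LD1_c0 LD2_c48 LD3_c24)) :=
  Lre_b IH (LK LD1_c1 LD2_c43 LD3_c31) (LK LD1_c0 LD2_c48 LD3_c24) Lrfl Lrfl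
theorem f26187 : Led Lsl_bf (LP (LK LD1_c0 LD2_c22 LD3_c57)) = (LP (LK LD1_c0 LD2_c49 LD3_c48)) :=
  Lgr Lrot24 (Lpr_bt (K4.f26185 IH) (Lpn (LP (LK LD1_c0 LD2_c49 LD3_c48))))
theorem f26212 : Led Lsl_bt (LP (LK LD1_c0 LD2_c50 LD3_c48)) = (LP (LK LD1_c1 LD2_c48 LD3_c6)) :=
  Lre_b IH (LK LD1_c0 LD2_c50 LD3_c48) (LK LD1_c1 LD2_c48 LD3_c6) Lrfl Lrfl
theorem f108023 : Led Lsl_cf (LP (LK LD1_c1 LD2_c43 LD3_c31)) = (LP (LK LD1_c1 LD2_c48 LD3_c6)) :=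
  Lgr Lrot97 (Lpr_bt (f6109 IH) (Lpr_ct (f108021 IH) (Lpe (f26187 IH) (Lpr_ct (K4.f26197 IH) (Lpr_bt (f26212 IH) (Lpn (LP (LK LD1_c1 LD2_c48 LD3_c6))))))))
theorem f108028 : Led Lsl_gt (LP (LK LD1_c3 LD2_c33 LD3_c35)) = (LP (LK LD1_c1 LD2_c43 LD3_c31)) :=
  Lre_g IH (LK LD1_c3 LD2_c33 LD3_c35) (LK LD1_c1 LD2_c43 LD3_c31) Lrfl Lrfl
theorem f155664 : Led Lsl_ct (LP (LK LD1_c3 LD2_c55 LD3_c2)) = (LP (LK LD1_c3 LD2_c33 LD3_c35)) :=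
  Lgr Lrot64 (Lpr_bt (f155650 IH) (Lpe (K6.f95859 IH) (Lpe (K4.f95853 IH) (Lpe (K4.f95854 IH) (Lpe (K4.f124061 IH) (Lpr_cf (K5.f120970 IH) (Lpe (K4.f26198 IH) (Lpe (f26190 IH) (Lpe (f108023 IH) (Lpe (f108028 IH) (Lpn (LP (LK LD1_c3 LD2_c33 LD3_c35)))))))))))))
theorem f155663 : Led Lsl_et (LP (LK LD1_c7 LD2_c51 LD3_c45)) = (LP (LK LD1_c3 LD2_c55 LD3_c2)) :=
  Lre_e IH (LK LD1_c7 LD2_c51 LD3_c45) (LK LD1_c3 LD2_c55 LD3_c2) Lrfl Lrfl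
theorem f155670 : Led Lsl_et (LP (LK LD1_c3 LD2_c33 LD3_c35)) = (LP (LK LD1_c7 LD2_c8 LD3_c2)) :=
  Lre_e IH (LK LD1_c3 LD2_c33 LD3_c35) (LK LD1_c7 LD2_c8 LD3_c2) Lrfl Lrfl
theorem f155671 : Led Lsl_cf (LP (LK LD1_c7 LD2_c51 LD3_c45)) = (LP (LK LD1_c7 LD2_c8 LD3_c2)) :=
  Lgr Lrot39 (Lpr_et (f155663 IH) (Lpr_ct (f155664 IH) (Lpr_et (f155670 IH) (Lpn (LP (LK LD1_c7 LD2_c8 LD3_c2))))))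
theorem f155675 : Led Lsl_ct (LP (LK LD1_c7 LD2_c51 LD3_c45)) = (LP (LK LD1_c7 LD2_c8 LD3_c2)) :=
  Lgr Lrot59 (Lpr_cf (f155671 IH) (Lpn (LP (LK LD1_c7 LD2_c8 LD3_c2))))
theorem f155652 : Led Lsl_et (LP (LK LD1_c3 LD2_c55 LD3_c2)) = (LP (LK LD1_c7 LD2_c51 LD3_c45)) :=
  Lre_e IH (LK LD1_c3 LD2_c55 LD3_c2) (LK LD1_c7 LD2_c51 LD3_c45) Lrfl Lrfl
theorem f129353 : Led Lsl_et (LP (LK LD1_c7 LD2_c49 LD3_c42)) = (LP (LK LD1_c3 LD2_c54 LD3_c2)) :=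
  Lre_e IH (LK LD1_c7 LD2_c49 LD3_c42) (LK LD1_c3 LD2_c54 LD3_c2) Lrfl Lrfl
theorem f155653 : Led Lsl_bt (LP (LK LD1_c7 LD2_c51 LD3_c45)) = (LP (LK LD1_c7 LD2_c49 LD3_c42)) :=
  Lgr Lrot119 (Lpe (f155652 IH) (Lpr_bf (f155648 IH) (Lpe (f129353 IH) (Lpn (LP (LK LD1_c7 LD2_c49 LD3_c42))))))
theorem f155655 : Led Lsl_bf (LP (LK LD1_c7 LD2_c51 LD3_c45)) = (LP (LK LD1_c7 LD2_c49 LD3_c42)) :=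
  Lgr Lrot24 (Lpr_bt (f155653 IH) (Lpn (LP (LK LD1_c7 LD2_c49 LD3_c42))))
theorem f136376 : Led Lsl_ct (LP (LK LD1_c14 LD2_c46 LD3_c5)) = (LP (LK LD1_c7 LD2_c49 LD3_c42)) :=
  Lre_c IH (LK LD1_c14 LD2_c46 LD3_c5) (LK LD1_c7 LD2_c49 LD3_c42) Lrfl Lrfl
theorem f129414 : Led Lsl_et (LP (LK LD1_c14 LD2_c46 LD3_c5)) = (LP (LK LD1_c7 LD2_c49 LD3_c41)) :=
  Lre_e IH (LK LD1_c14 LD2_c46 LD3_c5) (LK LD1_c7 LD2_c49 LD3_c41) Lrfl Lrfl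
theorem f136372 : Led Lsl_bf (LP (LK LD1_c14 LD2_c46 LD3_c5)) = (LP (LK LD1_c13 LD2_c41 LD3_c24)) :=
  Lgr Lrot96 (Lpr_et (f129414 IH) (Lpr_bt (K6.f136363 IH) (Lpr_et (f136371 IH) (Lpn (LP (LK LD1_c13 LD2_c41 LD3_c24))))))
theorem f136377 : Led Lsl_ct (LP (LK LD1_c7 LD2_c14 LD3_c1)) = (LP (LK LD1_c13 LD2_c41 LD3_c24)) :=
  Lre_c IH (LK LD1_c7 LD2_c14 LD3_c1) (LK LD1_c13 LD2_c41 LD3_c24) Lrfl Lrfl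
theorem f155680 : Led Lsl_bf (LP (LK LD1_c7 LD2_c14 LD3_c1)) = (LP (LK LD1_c7 LD2_c8 LD3_c2)) :=
  Lgr Lrot90 (Lpr_ct (f136377 IH) (Lpe (f136372 IH) (Lpr_ct (f136376 IH) (Lpe (f155655 IH) (Lpr_ct (f155675 IH) (Lpn (LP (LK LD1_c7 LD2_c8 LD3_c2))))))))
theorem f155689 : Led Lsl_et (LP (LK LD1_c7 LD2_c14 LD3_c1)) = (LP (LK LD1_c3 LD2_c36 LD3_c54)) :=
  Lre_e IH (LK LD1_c7 LD2_c14 LD3_c1) (LK LD1_c3 LD2_c36 LD3_c54) Lrfl Lrfl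
theorem f155690 : Led Lsl_bt (LP (LK LD1_c3 LD2_c36 LD3_c54)) = (LP (LK LD1_c3 LD2_c33 LD3_c35)) :=
  Lgr Lrot119 (Lpe (f155689 IH) (Lpr_bf (f155680 IH) (Lpe (f155670 IH) (Lpn (LP (LK LD1_c3 LD2_c33 LD3_c35))))))
theorem f108027 : Led Lsl_bt (LP (LK LD1_c0 LD2_c48 LD3_c24)) = (LP (LK LD1_c1 LD2_c43 LD3_c31)) :=
  Lre_b IH (LK LD1_c0 LD2_c48 LD3_c24) (LK LD1_c1 LD2_c43 LD3_c31) Lrfl Lrfl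
theorem f155692 : Led Lsl_gf (LP (LK LD1_c7 LD2_c14 LD3_c0)) = (LP (LK LD1_c6 LD2_c55 LD3_c54)) :=
  Lgr Lrot129 (Lpe (K6.f17479 IH) (Lpr_bt (f155690 IH) (Lpr_gt (f108028 IH) (Lpe (f108027 IH) (Lpr_ct (f108021 IH) (Lpe (K6.f107231 IH) (Lpr_cf (K3.f88482 IH) (Lpr_bt (K3.f88496 IH) (Lpr_gt (K3.f88498 IH) (Lpe (K3.f89697 IH) (Lpn (LP (LK LD1_c6 LD2_c55 LD3_c54)))))))))))))
theorem f15651 : Led Lsl_gt (LP (LK LD1_c6 LD2_c54 LD3_c46)) = (LP (LK LD1_c3 LD2_c47 LD3_c34)) :=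
  Lgr Lrot82 (Lpe (K6.f15634 IH) (Lpr_ct (K6.f15635 IH) (Lpe (K3.f12059 IH) (Lpr_cf (K3.f15079 IH) (Lpr_bt (K3.f15201 IH) (Lpe (K3.f11980 IH) (Lpe (K3.f15273 IH) (Lpr_ct (K0.f14723 IH) (Lpe (K3.f15274 IH) (Lpe (K3.f15275 IH) (Lpn (LP (LK LD1_c3 LD2_c47 LD3_c34)))))))))))))
theorem f145118 : Led Lsl_gf (LP (LK LD1_c3 LD2_c48 LD3_c30)) = (LP (LK LD1_c3 LD2_c47 LD3_c34)) :=
  Lgr Lrot76 (Lpe (K6.f64455 IH) (Lpr_ff (K6.f145112 IH) (Lpr_gt (f15651 IH) (Lpn (LP (LK LD1_c3 LD2_c47 LD3_c34))))))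
theorem f145120 : Led Lsl_gt (LP (LK LD1_c6 LD2_c55 LD3_c55)) = (LP (LK LD1_c7 LD2_c7 LD3_c49)) :=
  Lgr Lrot149 (Lpe (K3.f89713 IH) (Lpr_gf (K3.f97869 IH) (Lpe (K5.f97862 IH) (Lpe (K3.f89813 IH) (Lpe (K3.f57467 IH) (Lpr_cf (K5.f64414 IH) (Lpr_bt (K6.f64412 IH) (Lpr_gf (f145118 IH) (Lpr_bf (K3.f95144 IH) (Lpe (f96779 IH) (Lpn (LP (LK LD1_c7 LD2_c7 LD3_c49)))))))))))))
theorem f89695 : Led Lsl_bt (LP (LK LD1_c3 LD2_c27 LD3_c0)) = (LP (LK LD1_c6 LD2_c55 LD3_c54)) :=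
  Lre_b IH (LK LD1_c3 LD2_c27 LD3_c0) (LK LD1_c6 LD2_c55 LD3_c54) Lrfl Lrfl
theorem f16687 : Led Lsl_ct (LP (LK LD1_c3 LD2_c44 LD3_c35)) = (LP (LK LD1_c7 LD2_c30 LD3_c15)) :=
  Lre_c IH (LK LD1_c3 LD2_c44 LD3_c35) (LK LD1_c7 LD2_c30 LD3_c15) Lrfl Lrfl
theorem f89732 : Led Lsl_bt (LP (LK LD1_c7 LD2_c7 LD3_c28)) = (LP (LK LD1_c7 LD2_c30 LD3_c15)) :=
  Lgr Lrot127 (Lpr_bf (K5.f89729 IH) (Lpn (LP (LK LD1_c7 LD2_c30 LD3_c15))))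
theorem f96481 : Led Lsl_bt (LP (LK LD1_c3 LD2_c44 LD3_c35)) = (LP (LK LD1_c7 LD2_c14 LD3_c3)) :=
  Lgr Lrot128 (Lpe (K5.f14738 IH) (Lpe (f89732 IH) (Lpr_cf (K6.f96471 IH) (Lpe (K6.f96479 IH) (Lpe (K6.f96480 IH) (Lpn (LP (LK LD1_c7 LD2_c14 LD3_c3))))))))
theorem f157348 : Led Lsl_gf (LP (LK LD1_c6 LD2_c55 LD3_c54)) = (LP (LK LD1_c7 LD2_c14 LD3_c3)) :=
  Lgr Lrot124 (Lpe (f89695 IH) (Lpr_ct (K3.f89713 IH) (Lpr_gt (f145120 IH) (Lpr_cf (f96779 IH) (Lpe (K3.f95144 IH) (Lpe (f145118 IH) (Lpe (f145131 IH) (Lpr_gt (f157344 IH) (Lpe (f16687 IH) (Lpr_bt (f96481 IH) (Lpn (LP (LK LD1_c7 LD2_c14 LD3_c3)))))))))))))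
theorem f162246 : Led Lsl_ft (LP (LK LD1_c7 LD2_c14 LD3_c3)) = (LP (LK LD1_c3 LD2_c47 LD3_c33)) :=
  Lgr Lrot2 (Lpe (f157348 IH) (Lpe (f155692 IH) (Lpr_af (f162240 IH) (Lpn (LP (LK LD1_c3 LD2_c47 LD3_c33))))))
theorem f96504 : Led Lsl_dt (LP (LK LD1_c13 LD2_c41 LD3_c27)) = (LP (LK LD1_c7 LD2_c14 LD3_c3)) :=
  Lre_d IH (LK LD1_c13 LD2_c41 LD3_c27) (LK LD1_c7 LD2_c14 LD3_c3) Lrfl Lrfl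
theorem f96814 : Led Lsl_dt (LP (LK LD1_c3 LD2_c47 LD3_c33)) = (LP (LK LD1_c7 LD2_c35 LD3_c60)) :=
  Lre_d IH (LK LD1_c3 LD2_c47 LD3_c33) (LK LD1_c7 LD2_c35 LD3_c60) Lrfl Lrfl
theorem f162250 : Led Lsl_ff (LP (LK LD1_c13 LD2_c41 LD3_c27)) = (LP (LK LD1_c7 LD2_c35 LD3_c60)) :=
  Lgr Lrot19 (Lpr_dt (f96504 IH) (Lpr_ft (f162246 IH) (Lpr_dt (f96814 IH) (Lpn (LP (LK LD1_c7 LD2_c35 LD3_c60))))))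
theorem f162257 : Led Lsl_ft (LP (LK LD1_c13 LD2_c41 LD3_c27)) = (LP (LK LD1_c7 LD2_c35 LD3_c60)) :=
  Lgr Lrot48 (Lpr_ff (f162250 IH) (Lpn (LP (LK LD1_c7 LD2_c35 LD3_c60))))
theorem f96485 : Led Lsl_et (LP (LK LD1_c13 LD2_c41 LD3_c26)) = (LP (LK LD1_c7 LD2_c14 LD3_c2)) :=
  Lre_e IH (LK LD1_c13 LD2_c41 LD3_c26) (LK LD1_c7 LD2_c14 LD3_c2) Lrfl Lrfl
theorem f96486 : Led Lsl_ct (LP (LK LD1_c13 LD2_c29 LD3_c57)) = (LP (LK LD1_c13 LD2_c41 LD3_c26)) :=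
  Lgr Lrot15 (Lpe (f89734 IH) (Lpr_cf (K6.f96471 IH) (Lpe (f96485 IH) (Lpn (LP (LK LD1_c13 LD2_c41 LD3_c26))))))
theorem f96492 : Led Lsl_cf (LP (LK LD1_c13 LD2_c29 LD3_c57)) = (LP (LK LD1_c13 LD2_c41 LD3_c26)) :=
  Lgr Lrot11 (Lpr_ct (f96486 IH) (Lpn (LP (LK LD1_c13 LD2_c41 LD3_c26))))
theorem f89740 : Led Lsl_ct (LP (LK LD1_c14 LD2_c10 LD3_c17)) = (LP (LK LD1_c7 LD2_c30 LD3_c17)) :=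
  Lre_c IH (LK LD1_c14 LD2_c10 LD3_c17) (LK LD1_c7 LD2_c30 LD3_c17) Lrfl Lrfl
theorem f96494 : Led Lsl_bt (LP (LK LD1_c7 LD2_c14 LD3_c4)) = (LP (LK LD1_c13 LD2_c41 LD3_c26)) :=
  Lre_b IH (LK LD1_c7 LD2_c14 LD3_c4) (LK LD1_c13 LD2_c41 LD3_c26) Lrfl Lrfl
theorem f96495 : Led Lsl_ct (LP (LK LD1_c13 LD2_c41 LD3_c28)) = (LP (LK LD1_c7 LD2_c14 LD3_c4)) :=
  Lre_c IH (LK LD1_c13 LD2_c41 LD3_c28) (LK LD1_c7 LD2_c14 LD3_c4) Lrfl Lrfl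
theorem f96496 : Led Lsl_bt (LP (LK LD1_c7 LD2_c30 LD3_c17)) = (LP (LK LD1_c13 LD2_c41 LD3_c28)) :=
  Lgr Lrot128 (Lpe (f89740 IH) (Lpe (f89736 IH) (Lpr_cf (f96492 IH) (Lpe (f96494 IH) (Lpe (f96495 IH) (Lpn (LP (LK LD1_c13 LD2_c41 LD3_c28))))))))
theorem f96499 : Led Lsl_et (LP (LK LD1_c3 LD2_c44 LD3_c35)) = (LP (LK LD1_c7 LD2_c30 LD3_c17)) :=
  Lre_e IH (LK LD1_c3 LD2_c44 LD3_c35) (LK LD1_c7 LD2_c30 LD3_c17) Lrfl Lrfl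
theorem f96500 : Led Lsl_et (LP (LK LD1_c13 LD2_c41 LD3_c28)) = (LP (LK LD1_c7 LD2_c14 LD3_c3)) :=
  Lre_e IH (LK LD1_c13 LD2_c41 LD3_c28) (LK LD1_c7 LD2_c14 LD3_c3) Lrfl Lrfl
theorem f96501 : Led Lsl_bf (LP (LK LD1_c3 LD2_c44 LD3_c35)) = (LP (LK LD1_c7 LD2_c14 LD3_c3)) :=
  Lgr Lrot96 (Lpr_et (f96499 IH) (Lpr_bt (f96496 IH) (Lpr_et (f96500 IH) (Lpn (LP (LK LD1_c7 LD2_c14 LD3_c3))))))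
theorem f14741 : Led Lsl_dt (LP (LK LD1_c3 LD2_c44 LD3_c35)) = (LP (LK LD1_c7 LD2_c30 LD3_c16)) :=
  Lre_d IH (LK LD1_c3 LD2_c44 LD3_c35) (LK LD1_c7 LD2_c30 LD3_c16) Lrfl Lrfl
theorem f96505 : Led Lsl_bt (LP (LK LD1_c7 LD2_c30 LD3_c16)) = (LP (LK LD1_c13 LD2_c41 LD3_c27)) :=
  Lgr Lrot95 (Lpe (f14741 IH) (Lpr_bf (f96501 IH) (Lpe (f96504 IH) (Lpn (LP (LK LD1_c13 LD2_c41 LD3_c27))))))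
theorem f162259 : Led Lsl_bt (LP (LK LD1_c7 LD2_c35 LD3_c60)) = (LP (LK LD1_c3 LD2_c47 LD3_c35)) :=
  Lre_b IH (LK LD1_c7 LD2_c35 LD3_c60) (LK LD1_c3 LD2_c47 LD3_c35) Lrfl Lrfl
theorem f162260 : Led Lsl_ff (LP (LK LD1_c7 LD2_c30 LD3_c16)) = (LP (LK LD1_c3 LD2_c47 LD3_c35)) :=
  Lgr Lrot25 (Lpr_bt (f96505 IH) (Lpr_ft (f162257 IH) (Lpr_bt (f162259 IH) (Lpn (LP (LK LD1_c3 LD2_c47 LD3_c35))))))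
theorem f14740 : Led Lsl_dt (LP (LK LD1_c7 LD2_c30 LD3_c16)) = (LP (LK LD1_c3 LD2_c44 LD3_c35)) :=
  Lre_d IH (LK LD1_c7 LD2_c30 LD3_c16) (LK LD1_c3 LD2_c44 LD3_c35) Lrfl Lrfl
theorem f15658 : Led Lsl_dt (LP (LK LD1_c1 LD2_c50 LD3_c52)) = (LP (LK LD1_c3 LD2_c47 LD3_c35)) :=
  Lre_d IH (LK LD1_c1 LD2_c50 LD3_c52) (LK LD1_c3 LD2_c47 LD3_c35) Lrfl Lrfl
theorem f162263 : Led Lsl_ft (LP (LK LD1_c3 LD2_c44 LD3_c35)) = (LP (LK LD1_c1 LD2_c50 LD3_c52)) :=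
  Lgr Lrot54 (Lpe (f14740 IH) (Lpr_ff (f162260 IH) (Lpe (f15658 IH) (Lpn (LP (LK LD1_c1 LD2_c50 LD3_c52))))))
theorem f162269 : Led Lsl_af (LP (LK LD1_c3 LD2_c44 LD3_c34)) = (LP (LK LD1_c1 LD2_c50 LD3_c52)) :=
  Lgr Lrot31 (Lpe (K6.f14733 IH) (Lpe (K5.f14737 IH) (Lpr_ft (f162263 IH) (Lpn (LP (LK LD1_c1 LD2_c50 LD3_c52))))))
theorem f156624 : Led Lsl_et (LP (LK LD1_c3 LD2_c44 LD3_c34)) = (LP (LK LD1_c7 LD2_c30 LD3_c14)) :=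
  Lre_e IH (LK LD1_c3 LD2_c44 LD3_c34) (LK LD1_c7 LD2_c30 LD3_c14) Lrfl Lrfl
theorem f17114 : Led Lsl_et (LP (LK LD1_c3 LD2_c47 LD3_c36)) = (LP (LK LD1_c1 LD2_c50 LD3_c52)) :=
  Lre_e IH (LK LD1_c3 LD2_c47 LD3_c36) (LK LD1_c1 LD2_c50 LD3_c52) Lrfl Lrfl
theorem f162277 : Led Lsl_at (LP (LK LD1_c7 LD2_c30 LD3_c14)) = (LP (LK LD1_c3 LD2_c47 LD3_c36)) :=
  Lgr Lrot80 (Lpe (f156624 IH) (Lpr_af (f162269 IH) (Lpe (f17114 IH) (Lpn (LP (LK LD1_c3 LD2_c47 LD3_c36))))))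
theorem f162287 : Led Lsl_dt (LP (LK LD1_c14 LD2_c10 LD3_c16)) = (LP (LK LD1_c7 LD2_c30 LD3_c14)) :=
  Lre_d IH (LK LD1_c14 LD2_c10 LD3_c16) (LK LD1_c7 LD2_c30 LD3_c14) Lrfl Lrfl
theorem f17115 : Led Lsl_dt (LP (LK LD1_c3 LD2_c47 LD3_c36)) = (LP (LK LD1_c7 LD2_c36 LD3_c2)) :=
  Lre_d IH (LK LD1_c3 LD2_c47 LD3_c36) (LK LD1_c7 LD2_c36 LD3_c2) Lrfl Lrfl
theorem f162288 : Led Lsl_af (LP (LK LD1_c14 LD2_c10 LD3_c16)) = (LP (LK LD1_c7 LD2_c36 LD3_c2)) :=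
  Lgr Lrot117 (Lpr_dt (f162287 IH) (Lpr_at (f162277 IH) (Lpr_dt (f17115 IH) (Lpn (LP (LK LD1_c7 LD2_c36 LD3_c2))))))
theorem f162296 : Led Lsl_et (LP (LK LD1_c14 LD2_c10 LD3_c16)) = (LP (LK LD1_c23 LD2_c45 LD3_c28)) :=
  Lre_e IH (LK LD1_c14 LD2_c10 LD3_c16) (LK LD1_c23 LD2_c45 LD3_c28) Lrfl Lrfl
theorem f162297 : Led Lsl_et (LP (LK LD1_c14 LD2_c19 LD3_c45)) = (LP (LK LD1_c7 LD2_c36 LD3_c2)) :=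
  Lre_e IH (LK LD1_c14 LD2_c19 LD3_c45) (LK LD1_c7 LD2_c36 LD3_c2) Lrfl Lrfl
theorem f162298 : Led Lsl_at (LP (LK LD1_c23 LD2_c45 LD3_c28)) = (LP (LK LD1_c14 LD2_c19 LD3_c45)) :=
  Lgr Lrot80 (Lpe (f162296 IH) (Lpr_af (f162288 IH) (Lpe (f162297 IH) (Lpn (LP (LK LD1_c14 LD2_c19 LD3_c45))))))
theorem f156626 : Led Lsl_dt (LP (LK LD1_c14 LD2_c10 LD3_c15)) = (LP (LK LD1_c23 LD2_c45 LD3_c28)) :=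
  Lre_d IH (LK LD1_c14 LD2_c10 LD3_c15) (LK LD1_c23 LD2_c45 LD3_c28) Lrfl Lrfl
theorem f162308 : Led Lsl_dt (LP (LK LD1_c14 LD2_c19 LD3_c45)) = (LP (LK LD1_c7 LD2_c36 LD3_c1)) :=
  Lre_d IH (LK LD1_c14 LD2_c19 LD3_c45) (LK LD1_c7 LD2_c36 LD3_c1) Lrfl Lrfl
theorem f162309 : Led Lsl_af (LP (LK LD1_c14 LD2_c10 LD3_c15)) = (LP (LK LD1_c7 LD2_c36 LD3_c1)) :=
  Lgr Lrot117 (Lpr_dt (f156626 IH) (Lpr_at (f162298 IH) (Lpr_dt (f162308 IH) (Lpn (LP (LK LD1_c7 LD2_c36 LD3_c1))))))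
theorem f162312 : Led Lsl_at (LP (LK LD1_c14 LD2_c10 LD3_c15)) = (LP (LK LD1_c7 LD2_c36 LD3_c1)) :=
  Lgr Lrot100 (Lpr_af (f162309 IH) (Lpn (LP (LK LD1_c7 LD2_c36 LD3_c1))))
theorem f162319 : Led Lsl_et (LP (LK LD1_c7 LD2_c30 LD3_c13)) = (LP (LK LD1_c14 LD2_c10 LD3_c15)) :=
  Lre_e IH (LK LD1_c7 LD2_c30 LD3_c13) (LK LD1_c14 LD2_c10 LD3_c15) Lrfl Lrfl
theorem f162265 : Led Lsl_et (LP (LK LD1_c7 LD2_c36 LD3_c1)) = (LP (LK LD1_c3 LD2_c47 LD3_c35)) :=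
  Lre_e IH (LK LD1_c7 LD2_c36 LD3_c1) (LK LD1_c3 LD2_c47 LD3_c35) Lrfl Lrfl
theorem f162320 : Led Lsl_af (LP (LK LD1_c7 LD2_c30 LD3_c13)) = (LP (LK LD1_c3 LD2_c47 LD3_c35)) :=
  Lgr Lrot50 (Lpr_et (f162319 IH) (Lpr_at (f162312 IH) (Lpr_et (f162265 IH) (Lpn (LP (LK LD1_c3 LD2_c47 LD3_c35))))))
theorem f96507 : Led Lsl_bf (LP (LK LD1_c7 LD2_c30 LD3_c16)) = (LP (LK LD1_c13 LD2_c41 LD3_c27)) :=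
  Lgr Lrot24 (Lpr_bt (f96505 IH) (Lpn (LP (LK LD1_c13 LD2_c41 LD3_c27))))
theorem f162252 : Led Lsl_bt (LP (LK LD1_c3 LD2_c47 LD3_c35)) = (LP (LK LD1_c7 LD2_c35 LD3_c60)) :=
  Lre_b IH (LK LD1_c3 LD2_c47 LD3_c35) (LK LD1_c7 LD2_c35 LD3_c60) Lrfl Lrfl
theorem f162253 : Led Lsl_ft (LP (LK LD1_c7 LD2_c30 LD3_c16)) = (LP (LK LD1_c3 LD2_c47 LD3_c35)) :=
  Lgr Lrot75 (Lpr_bf (f96507 IH) (Lpr_ff (f162250 IH) (Lpe (f162252 IH) (Lpn (LP (LK LD1_c3 LD2_c47 LD3_c35))))))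
theorem f162326 : Led Lsl_gf (LP (LK LD1_c3 LD2_c50 LD3_c13)) = (LP (LK LD1_c7 LD2_c30 LD3_c16)) :=
  Lgr Lrot47 (Lpe (K7.f156620 IH) (Lpr_af (f162320 IH) (Lpe (f162253 IH) (Lpn (LP (LK LD1_c7 LD2_c30 LD3_c16))))))
theorem f18913 : Led Lsl_et (LP (LK LD1_c3 LD2_c28 LD3_c15)) = (LP (LK LD1_c6 LD2_c58 LD3_c43)) :=
  Lre_e IH (LK LD1_c3 LD2_c28 LD3_c15) (LK LD1_c6 LD2_c58 LD3_c43) Lrfl Lrfl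
theorem f18917 : Led Lsl_gt (LP (LK LD1_c6 LD2_c58 LD3_c43)) = (LP (LK LD1_c13 LD2_c14 LD3_c52)) :=
  Lre_g IH (LK LD1_c6 LD2_c58 LD3_c43) (LK LD1_c13 LD2_c14 LD3_c52) Lrfl Lrfl
theorem f19001 : Led Lsl_et (LP (LK LD1_c22 LD2_c29 LD3_c48)) = (LP (LK LD1_c13 LD2_c14 LD3_c52)) :=
  Lre_e IH (LK LD1_c22 LD2_c29 LD3_c48) (LK LD1_c13 LD2_c14 LD3_c52) Lrfl Lrfl
theorem f14768 : Led Lsl_et (LP (LK LD1_c3 LD2_c47 LD3_c38)) = (LP (LK LD1_c1 LD2_c50 LD3_c53)) :=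
  Lre_e IH (LK LD1_c3 LD2_c47 LD3_c38) (LK LD1_c1 LD2_c50 LD3_c53) Lrfl Lrfl
theorem f14787 : Led Lsl_dt (LP (LK LD1_c3 LD2_c47 LD3_c38)) = (LP (LK LD1_c7 LD2_c36 LD3_c8)) :=
  Lre_d IH (LK LD1_c3 LD2_c47 LD3_c38) (LK LD1_c7 LD2_c36 LD3_c8) Lrfl Lrfl
theorem f14799 : Led Lsl_gt (LP (LK LD1_c14 LD2_c19 LD3_c60)) = (LP (LK LD1_c7 LD2_c36 LD3_c8)) :=
  Lre_g IH (LK LD1_c14 LD2_c19 LD3_c60) (LK LD1_c7 LD2_c36 LD3_c8) Lrfl Lrfl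
theorem f162332 : Led Lsl_dt (LP (LK LD1_c22 LD2_c29 LD3_c48)) = (LP (LK LD1_c14 LD2_c19 LD3_c60)) :=
  Lgr Lrot136 (Lpr_et (f19001 IH) (Lpe (f18917 IH) (Lpe (f18913 IH) (Lpr_dt (K7.f63112 IH) (Lpr_gf (f162326 IH) (Lpe (f14741 IH) (Lpe (K5.f16685 IH) (Lpe (f14768 IH) (Lpr_dt (f14787 IH) (Lpe (f14799 IH) (Lpn (LP (LK LD1_c14 LD2_c19 LD3_c60)))))))))))))
theorem f18670 : Led Lsl_at (LP (LK LD1_c13 LD2_c16 LD3_c34)) = (LP (LK LD1_c6 LD2_c59 LD3_c54)) :=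
  Lre_a IH (LK LD1_c13 LD2_c16 LD3_c34) (LK LD1_c6 LD2_c59 LD3_c54) Lrfl Lrfl
theorem f18671 : Led Lsl_et (LP (LK LD1_c6 LD2_c59 LD3_c54)) = (LP (LK LD1_c13 LD2_c14 LD3_c55)) :=
  Lre_e IH (LK LD1_c6 LD2_c59 LD3_c54) (LK LD1_c13 LD2_c14 LD3_c55) Lrfl Lrfl
theorem f18672 : Led Lsl_at (LP (LK LD1_c13 LD2_c14 LD3_c55)) = (LP (LK LD1_c13 LD2_c2 LD3_c52)) :=
  Lgr Lrot80 (Lpe (f18671 IH) (Lpe (f18670 IH) (Lpr_ef (K2.f18663 IH) (Lpn (LP (LK LD1_c13 LD2_c2 LD3_c52))))))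
theorem f18914 : Led Lsl_ft (LP (LK LD1_c6 LD2_c58 LD3_c43)) = (LP (LK LD1_c13 LD2_c14 LD3_c55)) :=
  Lre_f IH (LK LD1_c6 LD2_c58 LD3_c43) (LK LD1_c13 LD2_c14 LD3_c55) Lrfl Lrfl
theorem f18994 : Led Lsl_gt (LP (LK LD1_c13 LD2_c14 LD3_c52)) = (LP (LK LD1_c13 LD2_c2 LD3_c52)) :=
  Lgr Lrot46 (Lpe (f18917 IH) (Lpr_ft (f18914 IH) (Lpr_at (f18672 IH) (Lpn (LP (LK LD1_c13 LD2_c2 LD3_c52))))))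
theorem f15840 : Led Lsl_dt (LP (LK LD1_c13 LD2_c2 LD3_c52)) = (LP (LK LD1_c22 LD2_c12 LD3_c34)) :=
  Lre_d IH (LK LD1_c13 LD2_c2 LD3_c52) (LK LD1_c22 LD2_c12 LD3_c34) Lrfl Lrfl
theorem f16055 : Led Lsl_gt (LP (LK LD1_c7 LD2_c36 LD3_c34)) = (LP (LK LD1_c14 LD2_c19 LD3_c60)) :=
  Lre_g IH (LK LD1_c7 LD2_c36 LD3_c34) (LK LD1_c14 LD2_c19 LD3_c60) Lrfl Lrfl
theorem f14794 : Led Lsl_dt (LP (LK LD1_c3 LD2_c47 LD3_c46)) = (LP (LK LD1_c7 LD2_c36 LD3_c34)) :=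
  Lre_d IH (LK LD1_c3 LD2_c47 LD3_c46) (LK LD1_c7 LD2_c36 LD3_c34) Lrfl Lrfl
theorem f14868 : Led Lsl_et (LP (LK LD1_c3 LD2_c47 LD3_c46)) = (LP (LK LD1_c7 LD2_c30 LD3_c21)) :=
  Lre_e IH (LK LD1_c3 LD2_c47 LD3_c46) (LK LD1_c7 LD2_c30 LD3_c21) Lrfl Lrfl
theorem f15916 : Led Lsl_ft (LP (LK LD1_c6 LD2_c54 LD3_c23)) = (LP (LK LD1_c3 LD2_c26 LD3_c13)) :=
  Lre_f IH (LK LD1_c6 LD2_c54 LD3_c23) (LK LD1_c3 LD2_c26 LD3_c13) Lrfl Lrfl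
theorem f15917 : Led Lsl_ft (LP (LK LD1_c3 LD2_c26 LD3_c13)) = (LP (LK LD1_c6 LD2_c54 LD3_c23)) :=
  Lre_f IH (LK LD1_c3 LD2_c26 LD3_c13) (LK LD1_c6 LD2_c54 LD3_c23) Lrfl Lrfl
theorem f15918 : Led Lsl_cf (LP (LK LD1_c6 LD2_c54 LD3_c23)) = (LP (LK LD1_c6 LD2_c54 LD3_c23)) :=
  Lgr Lrot108 (Lpr_ft (f15916 IH) (Lpr_ct (K0.f15887 IH) (Lpr_ft (f15917 IH) (Lpn (LP (LK LD1_c6 LD2_c54 LD3_c23))))))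
theorem f15702 : Led Lsl_at (LP (LK LD1_c1 LD2_c52 LD3_c51)) = (LP (LK LD1_c3 LD2_c44 LD3_c39)) :=
  Lre_a IH (LK LD1_c1 LD2_c52 LD3_c51) (LK LD1_c3 LD2_c44 LD3_c39) Lrfl Lrfl
theorem f14890 : Led Lsl_bt (LP (LK LD1_c3 LD2_c44 LD3_c39)) = (LP (LK LD1_c7 LD2_c30 LD3_c21)) :=
  Lre_b IH (LK LD1_c3 LD2_c44 LD3_c39) (LK LD1_c7 LD2_c30 LD3_c21) Lrfl Lrfl
theorem f15303 : Led Lsl_at (LP (LK LD1_c3 LD2_c26 LD3_c16)) = (LP (LK LD1_c1 LD2_c40 LD3_c21)) :=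
  Lre_a IH (LK LD1_c3 LD2_c26 LD3_c16) (LK LD1_c1 LD2_c40 LD3_c21) Lrfl Lrfl
theorem f15281 : Led Lsl_bt (LP (LK LD1_c6 LD2_c54 LD3_c23)) = (LP (LK LD1_c3 LD2_c26 LD3_c16)) :=
  Lre_b IH (LK LD1_c6 LD2_c54 LD3_c23) (LK LD1_c3 LD2_c26 LD3_c16) Lrfl Lrfl
theorem f15703 : Led Lsl_at (LP (LK LD1_c7 LD2_c30 LD3_c21)) = (LP (LK LD1_c6 LD2_c54 LD3_c23)) :=
  Lgr Lrot67 (Lpe (f14890 IH) (Lpe (f15702 IH) (Lpr_bf (K0.f15682 IH) (Lpe (f15303 IH) (Lpe (f15281 IH) (Lpn (LP (LK LD1_c6 LD2_c54 LD3_c23))))))))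
theorem f14767 : Led Lsl_et (LP (LK LD1_c1 LD2_c50 LD3_c53)) = (LP (LK LD1_c3 LD2_c47 LD3_c38)) :=
  Lre_e IH (LK LD1_c1 LD2_c50 LD3_c53) (LK LD1_c3 LD2_c47 LD3_c38) Lrfl Lrfl
theorem f14769 : Led Lsl_ct (LP (LK LD1_c3 LD2_c47 LD3_c38)) = (LP (LK LD1_c3 LD2_c47 LD3_c38)) :=
  Lgr Lrot15 (Lpe (f14767 IH) (Lpr_cf (K0.f14754 IH) (Lpe (f14768 IH) (Lpn (LP (LK LD1_c3 LD2_c47 LD3_c38))))))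
theorem f14789 : Led Lsl_ft (LP (LK LD1_c7 LD2_c36 LD3_c9)) = (LP (LK LD1_c3 LD2_c47 LD3_c38)) :=
  Lre_f IH (LK LD1_c7 LD2_c36 LD3_c9) (LK LD1_c3 LD2_c47 LD3_c38) Lrfl Lrfl
theorem f14790 : Led Lsl_ft (LP (LK LD1_c3 LD2_c47 LD3_c38)) = (LP (LK LD1_c7 LD2_c36 LD3_c9)) :=
  Lre_f IH (LK LD1_c3 LD2_c47 LD3_c38) (LK LD1_c7 LD2_c36 LD3_c9) Lrfl Lrfl
theorem f14791 : Led Lsl_cf (LP (LK LD1_c7 LD2_c36 LD3_c9)) = (LP (LK LD1_c7 LD2_c36 LD3_c9)) :=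
  Lgr Lrot108 (Lpr_ft (f14789 IH) (Lpr_ct (f14769 IH) (Lpr_ft (f14790 IH) (Lpn (LP (LK LD1_c7 LD2_c36 LD3_c9))))))
theorem f14810 : Led Lsl_at (LP (LK LD1_c7 LD2_c36 LD3_c9)) = (LP (LK LD1_c3 LD2_c47 LD3_c46)) :=
  Lre_a IH (LK LD1_c7 LD2_c36 LD3_c9) (LK LD1_c3 LD2_c47 LD3_c46) Lrfl Lrfl
theorem f14811 : Led Lsl_at (LP (LK LD1_c3 LD2_c47 LD3_c46)) = (LP (LK LD1_c7 LD2_c36 LD3_c9)) :=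
  Lre_a IH (LK LD1_c3 LD2_c47 LD3_c46) (LK LD1_c7 LD2_c36 LD3_c9) Lrfl Lrfl
theorem f14812 : Led Lsl_ct (LP (LK LD1_c3 LD2_c47 LD3_c46)) = (LP (LK LD1_c3 LD2_c47 LD3_c46)) :=
  Lgr Lrot111 (Lpe (f14810 IH) (Lpr_cf (f14791 IH) (Lpe (f14811 IH) (Lpn (LP (LK LD1_c3 LD2_c47 LD3_c46))))))
theorem f14867 : Led Lsl_et (LP (LK LD1_c7 LD2_c30 LD3_c21)) = (LP (LK LD1_c3 LD2_c47 LD3_c46)) :=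
  Lre_e IH (LK LD1_c7 LD2_c30 LD3_c21) (LK LD1_c3 LD2_c47 LD3_c46) Lrfl Lrfl
theorem f14869 : Led Lsl_cf (LP (LK LD1_c7 LD2_c30 LD3_c21)) = (LP (LK LD1_c7 LD2_c30 LD3_c21)) :=
  Lgr Lrot39 (Lpr_et (f14867 IH) (Lpr_ct (f14812 IH) (Lpr_et (f14868 IH) (Lpn (LP (LK LD1_c7 LD2_c30 LD3_c21))))))
theorem f15938 : Led Lsl_at (LP (LK LD1_c6 LD2_c54 LD3_c23)) = (LP (LK LD1_c7 LD2_c30 LD3_c21)) :=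
  Lgr Lrot107 (Lpr_cf (f15918 IH) (Lpe (f15703 IH) (Lpr_cf (f14869 IH) (Lpn (LP (LK LD1_c7 LD2_c30 LD3_c21))))))
theorem f15922 : Led Lsl_gt (LP (LK LD1_c3 LD2_c26 LD3_c13)) = (LP (LK LD1_c6 LD2_c54 LD3_c20)) :=
  Lre_g IH (LK LD1_c3 LD2_c26 LD3_c13) (LK LD1_c6 LD2_c54 LD3_c20) Lrfl Lrfl
theorem f16048 : Led Lsl_gt (LP (LK LD1_c6 LD2_c54 LD3_c20)) = (LP (LK LD1_c7 LD2_c30 LD3_c21)) :=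
  Lgr Lrot46 (Lpe (f15922 IH) (Lpr_ft (f15917 IH) (Lpr_at (f15938 IH) (Lpn (LP (LK LD1_c7 LD2_c30 LD3_c21))))))
theorem f16053 : Led Lsl_et (LP (LK LD1_c13 LD2_c7 LD3_c17)) = (LP (LK LD1_c6 LD2_c54 LD3_c20)) :=
  Lre_e IH (LK LD1_c13 LD2_c7 LD3_c17) (LK LD1_c6 LD2_c54 LD3_c20) Lrfl Lrfl
theorem f16054 : Led Lsl_dt (LP (LK LD1_c13 LD2_c7 LD3_c17)) = (LP (LK LD1_c22 LD2_c19 LD3_c7)) :=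
  Lre_d IH (LK LD1_c13 LD2_c7 LD3_c17) (LK LD1_c22 LD2_c19 LD3_c7) Lrfl Lrfl
theorem f162342 : Led Lsl_gt (LP (LK LD1_c22 LD2_c12 LD3_c34)) = (LP (LK LD1_c22 LD2_c19 LD3_c7)) :=
  Lgr Lrot139 (Lpe (f15840 IH) (Lpe (f18994 IH) (Lpe (f19001 IH) (Lpr_dt (f162332 IH) (Lpe (f16055 IH) (Lpe (f14794 IH) (Lpr_et (f14868 IH) (Lpe (f16048 IH) (Lpe (f16053 IH) (Lpr_dt (f16054 IH) (Lpn (LP (LK LD1_c22 LD2_c19 LD3_c7)))))))))))))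
theorem f18682 : Led Lsl_gt (LP (LK LD1_c6 LD2_c59 LD3_c51)) = (LP (LK LD1_c13 LD2_c16 LD3_c34)) :=
  Lre_g IH (LK LD1_c6 LD2_c59 LD3_c51) (LK LD1_c13 LD2_c16 LD3_c34) Lrfl Lrfl
theorem f18683 : Led Lsl_et (LP (LK LD1_c13 LD2_c16 LD3_c42)) = (LP (LK LD1_c6 LD2_c59 LD3_c51)) :=
  Lre_e IH (LK LD1_c13 LD2_c16 LD3_c42) (LK LD1_c6 LD2_c59 LD3_c51) Lrfl Lrfl
theorem f14891 : Led Lsl_dt (LP (LK LD1_c7 LD2_c30 LD3_c21)) = (LP (LK LD1_c14 LD2_c10 LD3_c29)) :=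
  Lre_d IH (LK LD1_c7 LD2_c30 LD3_c21) (LK LD1_c14 LD2_c10 LD3_c29) Lrfl Lrfl
theorem f15941 : Led Lsl_ct (LP (LK LD1_c13 LD2_c7 LD3_c24)) = (LP (LK LD1_c22 LD2_c19 LD3_c22)) :=
  Lre_c IH (LK LD1_c13 LD2_c7 LD3_c24) (LK LD1_c22 LD2_c19 LD3_c22) Lrfl Lrfl
theorem f15942 : Led Lsl_dt (LP (LK LD1_c22 LD2_c19 LD3_c22)) = (LP (LK LD1_c30 LD2_c25 LD3_c38)) :=
  Lre_d IH (LK LD1_c22 LD2_c19 LD3_c22) (LK LD1_c30 LD2_c25 LD3_c38) Lrfl Lrfl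
theorem f15943 : Led Lsl_dt (LP (LK LD1_c13 LD2_c7 LD3_c24)) = (LP (LK LD1_c6 LD2_c54 LD3_c23)) :=
  Lre_d IH (LK LD1_c13 LD2_c7 LD3_c24) (LK LD1_c6 LD2_c54 LD3_c23) Lrfl Lrfl
theorem f15956 : Led Lsl_ct (LP (LK LD1_c14 LD2_c10 LD3_c28)) = (LP (LK LD1_c7 LD2_c30 LD3_c20)) :=
  Lre_c IH (LK LD1_c14 LD2_c10 LD3_c28) (LK LD1_c7 LD2_c30 LD3_c20) Lrfl Lrfl
theorem f15957 : Led Lsl_dt (LP (LK LD1_c23 LD2_c45 LD3_c50)) = (LP (LK LD1_c14 LD2_c10 LD3_c28)) :=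
  Lre_d IH (LK LD1_c23 LD2_c45 LD3_c50) (LK LD1_c14 LD2_c10 LD3_c28) Lrfl Lrfl
theorem f15958 : Led Lsl_ct (LP (LK LD1_c30 LD2_c25 LD3_c38)) = (LP (LK LD1_c23 LD2_c45 LD3_c50)) :=
  Lgr Lrot53 (Lpe (f15942 IH) (Lpe (f15941 IH) (Lpe (K7.f15940 IH) (Lpr_cf (f15918 IH) (Lpe (f15943 IH) (Lpr_ft (K7.f15955 IH) (Lpe (K7.f15441 IH) (Lpe (f15956 IH) (Lpe (f15957 IH) (Lpn (LP (LK LD1_c23 LD2_c45 LD3_c50))))))))))))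
theorem f15968 : Led Lsl_ft (LP (LK LD1_c22 LD2_c19 LD3_c22)) = (LP (LK LD1_c13 LD2_c7 LD3_c23)) :=
  Lre_f IH (LK LD1_c22 LD2_c19 LD3_c22) (LK LD1_c13 LD2_c7 LD3_c23) Lrfl Lrfl
theorem f15965 : Led Lsl_dt (LP (LK LD1_c7 LD2_c30 LD3_c20)) = (LP (LK LD1_c3 LD2_c44 LD3_c36)) :=
  Lre_d IH (LK LD1_c7 LD2_c30 LD3_c20) (LK LD1_c3 LD2_c44 LD3_c36) Lrfl Lrfl
theorem f14717 : Led Lsl_et (LP (LK LD1_c1 LD2_c49 LD3_c20)) = (LP (LK LD1_c3 LD2_c44 LD3_c36)) :=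
  Lre_e IH (LK LD1_c1 LD2_c49 LD3_c20) (LK LD1_c3 LD2_c44 LD3_c36) Lrfl Lrfl
theorem f14719 : Led Lsl_ct (LP (LK LD1_c3 LD2_c44 LD3_c36)) = (LP (LK LD1_c3 LD2_c44 LD3_c36)) :=
  Lgr Lrot15 (Lpe (f14717 IH) (Lpr_cf (K0.f14664 IH) (Lpe (K7.f14718 IH) (Lpn (LP (LK LD1_c3 LD2_c44 LD3_c36))))))
theorem f15947 : Led Lsl_ct (LP (LK LD1_c7 LD2_c30 LD3_c20)) = (LP (LK LD1_c14 LD2_c10 LD3_c28)) :=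
  Lre_c IH (LK LD1_c7 LD2_c30 LD3_c20) (LK LD1_c14 LD2_c10 LD3_c28) Lrfl Lrfl
theorem f15969 : Led Lsl_at (LP (LK LD1_c13 LD2_c7 LD3_c23)) = (LP (LK LD1_c14 LD2_c10 LD3_c28)) :=
  Lgr Lrot33 (Lpe (f15968 IH) (Lpr_dt (f15942 IH) (Lpr_ct (f15958 IH) (Lpr_dt (f15957 IH) (Lpr_ct (f15956 IH) (Lpr_dt (f15965 IH) (Lpr_ct (f14719 IH) (Lpr_dt (K7.f15946 IH) (Lpr_ct (f15947 IH) (Lpn (LP (LK LD1_c14 LD2_c10 LD3_c28))))))))))))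
theorem f15910 : Led Lsl_ct (LP (LK LD1_c6 LD2_c54 LD3_c22)) = (LP (LK LD1_c13 LD2_c7 LD3_c23)) :=
  Lre_c IH (LK LD1_c6 LD2_c54 LD3_c22) (LK LD1_c13 LD2_c7 LD3_c23) Lrfl Lrfl
theorem f15977 : Led Lsl_af (LP (LK LD1_c6 LD2_c54 LD3_c22)) = (LP (LK LD1_c7 LD2_c30 LD3_c20)) :=
  Lgr Lrot68 (Lpr_ct (f15910 IH) (Lpr_at (f15969 IH) (Lpr_ct (f15956 IH) (Lpn (LP (LK LD1_c7 LD2_c30 LD3_c20))))))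
theorem f15924 : Led Lsl_gt (LP (LK LD1_c13 LD2_c7 LD3_c22)) = (LP (LK LD1_c6 LD2_c54 LD3_c22)) :=
  Lre_g IH (LK LD1_c13 LD2_c7 LD3_c22) (LK LD1_c6 LD2_c54 LD3_c22) Lrfl Lrfl
theorem f14897 : Led Lsl_ft (LP (LK LD1_c14 LD2_c10 LD3_c29)) = (LP (LK LD1_c7 LD2_c30 LD3_c20)) :=
  Lre_f IH (LK LD1_c14 LD2_c10 LD3_c29) (LK LD1_c7 LD2_c30 LD3_c20) Lrfl Lrfl
theorem f15993 : Led Lsl_gf (LP (LK LD1_c13 LD2_c7 LD3_c22)) = (LP (LK LD1_c14 LD2_c10 LD3_c29)) :=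
  Lgr Lrot47 (Lpr_gt (f15924 IH) (Lpr_af (f15977 IH) (Lpe (f14897 IH) (Lpn (LP (LK LD1_c14 LD2_c10 LD3_c29))))))
theorem f162354 : Led Lsl_dt (LP (LK LD1_c13 LD2_c16 LD3_c42)) = (LP (LK LD1_c13 LD2_c7 LD3_c22)) :=
  Lgr Lrot56 (Lpr_et (f18683 IH) (Lpr_gt (f18682 IH) (Lpr_ef (K2.f18663 IH) (Lpr_dt (f15840 IH) (Lpr_gt (f162342 IH) (Lpe (f16054 IH) (Lpr_et (f16053 IH) (Lpr_gt (f16048 IH) (Lpr_dt (f14891 IH) (Lpe (f15993 IH) (Lpn (LP (LK LD1_c13 LD2_c7 LD3_c22)))))))))))))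
theorem f18753 : Led Lsl_gt (LP (LK LD1_c3 LD2_c29 LD3_c4)) = (LP (LK LD1_c6 LD2_c59 LD3_c51)) :=
  Lre_g IH (LK LD1_c3 LD2_c29 LD3_c4) (LK LD1_c6 LD2_c59 LD3_c51) Lrfl Lrfl
theorem f15909 : Led Lsl_dt (LP (LK LD1_c3 LD2_c26 LD3_c13)) = (LP (LK LD1_c6 LD2_c54 LD3_c22)) :=
  Lre_d IH (LK LD1_c3 LD2_c26 LD3_c13) (LK LD1_c6 LD2_c54 LD3_c22) Lrfl Lrfl
theorem f162370 : Led Lsl_gf (LP (LK LD1_c3 LD2_c29 LD3_c3)) = (LP (LK LD1_c3 LD2_c47 LD3_c35)) :=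
  Lgr Lrot134 (Lpe (f18631 IH) (Lpr_et (K2.f18748 IH) (Lpr_gt (f18753 IH) (Lpe (f18683 IH) (Lpr_dt (f162354 IH) (Lpr_gt (f15924 IH) (Lpe (f15909 IH) (Lpr_et (K0.f15913 IH) (Lpe (K3.f17110 IH) (Lpr_dt (f15658 IH) (Lpn (LP (LK LD1_c3 LD2_c47 LD3_c35)))))))))))))
theorem f162374 : Led Lsl_af (LP (LK LD1_c3 LD2_c47 LD3_c31)) = (LP (LK LD1_c7 LD2_c30 LD3_c16)) :=
  Lgr Lrot31 (Lpe (f129435 IH) (Lpr_gf (f162370 IH) (Lpe (f162260 IH) (Lpn (LP (LK LD1_c7 LD2_c30 LD3_c16))))))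
theorem f63491 : Led Lsl_bt (LP (LK LD1_c1 LD2_c27 LD3_c4)) = (LP (LK LD1_c3 LD2_c2 LD3_c6)) :=
  Lre_b IH (LK LD1_c1 LD2_c27 LD3_c4) (LK LD1_c3 LD2_c2 LD3_c6) Lrfl Lrfl
theorem f63492 : Led Lsl_bt (LP (LK LD1_c6 LD2_c10 LD3_c57)) = (LP (LK LD1_c7 LD2_c41 LD3_c28)) :=
  Lgr Lrot128 (Lpe (K6.f60365 IH) (Lpe (f63491 IH) (Lpr_cf (K2.f63375 IH) (Lpe (K7.f63111 IH) (Lpe (f63419 IH) (Lpn (LP (LK LD1_c7 LD2_c41 LD3_c28))))))))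
theorem f63509 : Led Lsl_bf (LP (LK LD1_c6 LD2_c10 LD3_c57)) = (LP (LK LD1_c7 LD2_c41 LD3_c28)) :=
  Lgr Lrot24 (Lpr_bt (f63492 IH) (Lpn (LP (LK LD1_c7 LD2_c41 LD3_c28))))
theorem f148440 : Led Lsl_ct (LP (LK LD1_c1 LD2_c48 LD3_c27)) = (LP (LK LD1_c0 LD2_c50 LD3_c59)) :=
  Lre_c IH (LK LD1_c1 LD2_c48 LD3_c27) (LK LD1_c0 LD2_c50 LD3_c59) Lrfl Lrfl
theorem f155516 : Led Lsl_bt (LP (LK LD1_c1 LD2_c48 LD3_c27)) = (LP (LK LD1_c3 LD2_c42 LD3_c53)) :=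
  Lre_b IH (LK LD1_c1 LD2_c48 LD3_c27) (LK LD1_c3 LD2_c42 LD3_c53) Lrfl Lrfl
theorem f155517 : Led Lsl_gt (LP (LK LD1_c3 LD2_c42 LD3_c53)) = (LP (LK LD1_c7 LD2_c26 LD3_c27)) :=
  Lre_g IH (LK LD1_c3 LD2_c42 LD3_c53) (LK LD1_c7 LD2_c26 LD3_c27) Lrfl Lrfl
theorem f162330 : Led Lsl_ct (LP (LK LD1_c7 LD2_c26 LD3_c27)) = (LP (LK LD1_c7 LD2_c30 LD3_c16)) :=
  Lgr Lrot91 (Lpe (f155517 IH) (Lpe (f155516 IH) (Lpr_ct (f148440 IH) (Lpe (K7.f147777 IH) (Lpe (K6.f22622 IH) (Lpr_bt (K6.f22623 IH) (Lpe (K6.f147485 IH) (Lpr_bf (f63509 IH) (Lpr_ct (f63419 IH) (Lpr_gf (f162326 IH) (Lpn (LP (LK LD1_c7 LD2_c30 LD3_c16)))))))))))))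
theorem f162385 : Led Lsl_at (LP (LK LD1_c6 LD2_c31 LD3_c11)) = (LP (LK LD1_c7 LD2_c26 LD3_c27)) :=
  Lgr Lrot107 (Lpe (f156555 IH) (Lpr_af (f162374 IH) (Lpe (f162330 IH) (Lpn (LP (LK LD1_c7 LD2_c26 LD3_c27))))))
theorem f162565 : Led Lsl_gt (LP (LK LD1_c7 LD2_c26 LD3_c28)) = (LP (LK LD1_c3 LD2_c42 LD3_c53)) :=
  Lre_g IH (LK LD1_c7 LD2_c26 LD3_c28) (LK LD1_c3 LD2_c42 LD3_c53) Lrfl Lrfl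
theorem f162566 : Led Lsl_ff (LP (LK LD1_c6 LD2_c31 LD3_c11)) = (LP (LK LD1_c7 LD2_c26 LD3_c28)) :=
  Lgr Lrot52 (Lpr_at (f162385 IH) (Lpe (f155517 IH) (Lpe (f162565 IH) (Lpn (LP (LK LD1_c7 LD2_c26 LD3_c28))))))
theorem f162570 : Led Lsl_ft (LP (LK LD1_c6 LD2_c31 LD3_c11)) = (LP (LK LD1_c7 LD2_c26 LD3_c28)) :=
  Lgr Lrot48 (Lpr_ff (f162566 IH) (Lpn (LP (LK LD1_c7 LD2_c26 LD3_c28))))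
theorem f148370 : Led Lsl_gt (LP (LK LD1_c3 LD2_c13 LD3_c48)) = (LP (LK LD1_c6 LD2_c31 LD3_c10)) :=
  Lre_g IH (LK LD1_c3 LD2_c13 LD3_c48) (LK LD1_c6 LD2_c31 LD3_c10) Lrfl Lrfl
theorem f162574 : Led Lsl_af (LP (LK LD1_c6 LD2_c31 LD3_c10)) = (LP (LK LD1_c7 LD2_c26 LD3_c28)) :=
  Lgr Lrot31 (Lpe (f148370 IH) (Lpe (f22670 IH) (Lpr_ft (f162570 IH) (Lpn (LP (LK LD1_c7 LD2_c26 LD3_c28))))))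
theorem f162562 : Led Lsl_af (LP (LK LD1_c6 LD2_c31 LD3_c11)) = (LP (LK LD1_c7 LD2_c26 LD3_c27)) :=
  Lgr Lrot0 (Lpr_at (f162385 IH) (Lpn (LP (LK LD1_c7 LD2_c26 LD3_c27))))
theorem f162582 : Led Lsl_ft (LP (LK LD1_c6 LD2_c31 LD3_c10)) = (LP (LK LD1_c7 LD2_c26 LD3_c27)) :=
  Lgr Lrot101 (Lpr_af (f162574 IH) (Lpe (f162570 IH) (Lpr_af (f162562 IH) (Lpn (LP (LK LD1_c7 LD2_c26 LD3_c27))))))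
theorem f162590 : Led Lsl_ff (LP (LK LD1_c6 LD2_c31 LD3_c10)) = (LP (LK LD1_c7 LD2_c26 LD3_c27)) :=
  Lgr Lrot3 (Lpr_ft (f162582 IH) (Lpn (LP (LK LD1_c7 LD2_c26 LD3_c27))))
theorem f156559 : Led Lsl_cf (LP (LK LD1_c3 LD2_c47 LD3_c31)) = (LP (LK LD1_c6 LD2_c31 LD3_c11)) :=
  Lgr Lrot11 (Lpr_ct (f156555 IH) (Lpn (LP (LK LD1_c6 LD2_c31 LD3_c11))))
theorem f15656 : Led Lsl_dt (LP (LK LD1_c3 LD2_c47 LD3_c35)) = (LP (LK LD1_c1 LD2_c50 LD3_c52)) :=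
  Lre_d IH (LK LD1_c3 LD2_c47 LD3_c35) (LK LD1_c1 LD2_c50 LD3_c52) Lrfl Lrfl
theorem f162275 : Led Lsl_at (LP (LK LD1_c7 LD2_c30 LD3_c13)) = (LP (LK LD1_c3 LD2_c47 LD3_c35)) :=
  Lgr Lrot51 (Lpe (K7.f14734 IH) (Lpr_af (f162269 IH) (Lpe (f15656 IH) (Lpn (LP (LK LD1_c3 LD2_c47 LD3_c35))))))
theorem f162391 : Led Lsl_ft (LP (LK LD1_c3 LD2_c47 LD3_c31)) = (LP (LK LD1_c7 LD2_c30 LD3_c13)) :=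
  Lgr Lrot101 (Lpr_af (f162374 IH) (Lpr_ff (f162260 IH) (Lpe (f162275 IH) (Lpn (LP (LK LD1_c7 LD2_c30 LD3_c13))))))
theorem f162568 : Led Lsl_ct (LP (LK LD1_c7 LD2_c30 LD3_c13)) = (LP (LK LD1_c7 LD2_c26 LD3_c28)) :=
  Lgr Lrot40 (Lpe (f162391 IH) (Lpr_cf (f156559 IH) (Lpr_ff (f162566 IH) (Lpn (LP (LK LD1_c7 LD2_c26 LD3_c28))))))
theorem f162579 : Led Lsl_ct (LP (LK LD1_c6 LD2_c31 LD3_c10)) = (LP (LK LD1_c3 LD2_c47 LD3_c35)) :=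
  Lgr Lrot111 (Lpr_af (f162574 IH) (Lpe (f162568 IH) (Lpr_af (f162320 IH) (Lpn (LP (LK LD1_c3 LD2_c47 LD3_c35))))))
theorem f162606 : Led Lsl_ct (LP (LK LD1_c7 LD2_c30 LD3_c16)) = (LP (LK LD1_c7 LD2_c26 LD3_c27)) :=
  Lgr Lrot40 (Lpr_ff (f162260 IH) (Lpe (f162579 IH) (Lpr_ff (f162590 IH) (Lpn (LP (LK LD1_c7 LD2_c26 LD3_c27))))))
theorem f162328 : Led Lsl_gt (LP (LK LD1_c6 LD2_c56 LD3_c5)) = (LP (LK LD1_c7 LD2_c30 LD3_c16)) :=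
  Lgr Lrot5 (Lpe (K7.f90954 IH) (Lpr_at (K7.f63406 IH) (Lpr_gf (f162326 IH) (Lpn (LP (LK LD1_c7 LD2_c30 LD3_c16))))))
theorem f90939 : Led Lsl_df (LP (LK LD1_c3 LD2_c29 LD3_c2)) = (LP (LK LD1_c6 LD2_c56 LD3_c5)) :=
  Lgr Lrot12 (Lpr_bt (K4.f18231 IH) (Lpr_dt (K2.f90934 IH) (Lpr_bt (K7.f90938 IH) (Lpn (LP (LK LD1_c6 LD2_c56 LD3_c5))))))
theorem f151502 : Led Lsl_ff (LP (LK LD1_c6 LD2_c53 LD3_c14)) = (LP (LK LD1_c7 LD2_c32 LD3_c27)) :=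
  Lgr Lrot3 (Lpr_ft (K7.f151498 IH) (Lpn (LP (LK LD1_c7 LD2_c32 LD3_c27))))
theorem f157324 : Led Lsl_ct (LP (LK LD1_c3 LD2_c45 LD3_c52)) = (LP (LK LD1_c7 LD2_c32 LD3_c27)) :=
  Lgr Lrot40 (Lpe (f58794 IH) (Lpr_cf (f157319 IH) (Lpr_ff (f151502 IH) (Lpn (LP (LK LD1_c7 LD2_c32 LD3_c27))))))
theorem f18635 : Led Lsl_ct (LP (LK LD1_c6 LD2_c59 LD3_c43)) = (LP (LK LD1_c3 LD2_c29 LD3_c0)) :=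
  Lre_c IH (LK LD1_c6 LD2_c59 LD3_c43) (LK LD1_c3 LD2_c29 LD3_c0) Lrfl Lrfl
theorem f123956 : Led Lsl_bf (LP (LK LD1_c6 LD2_c59 LD3_c43)) = (LP (LK LD1_c7 LD2_c22 LD3_c9)) :=
  Lgr Lrot90 (Lpr_ct (f18635 IH) (Lpr_bt (f123955 IH) (Lpr_ct (K5.f123949 IH) (Lpr_bt (K7.f123636 IH) (Lpe (K4.f123597 IH) (Lpn (LP (LK LD1_c7 LD2_c22 LD3_c9))))))))
theorem f123637 : Led Lsl_ct (LP (LK LD1_c7 LD2_c22 LD3_c9)) = (LP (LK LD1_c7 LD2_c28 LD3_c30)) :=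
  Lgr Lrot59 (Lpr_cf (K4.f123597 IH) (Lpn (LP (LK LD1_c7 LD2_c28 LD3_c30))))
theorem f157354 : Led Lsl_bf (LP (LK LD1_c7 LD2_c32 LD3_c27)) = (LP (LK LD1_c5 LD2_c51 LD3_c23)) :=
  Lgr Lrot34 (Lpr_gf (f157328 IH) (Lpr_bf (f123956 IH) (Lpr_ct (f123637 IH) (Lpr_gf (K7.f147834 IH) (Lpe (K7.f103644 IH) (Lpe (K4.f115829 IH) (Lpr_bf (K4.f115791 IH) (Lpr_ct (K4.f115835 IH) (Lpr_gf (K4.f103767 IH) (Lpe (K4.f8354 IH) (Lpn (LP (LK LD1_c5 LD2_c51 LD3_c23)))))))))))))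
theorem f25307 : Led Lsl_bt (LP (LK LD1_c9 LD2_c6 LD3_c15)) = (LP (LK LD1_c4 LD2_c34 LD3_c49)) :=
  Lre_b IH (LK LD1_c9 LD2_c6 LD3_c15) (LK LD1_c4 LD2_c34 LD3_c49) Lrfl Lrfl
theorem f157359 : Led Lsl_dt (LP (LK LD1_c7 LD2_c32 LD3_c27)) = (LP (LK LD1_c9 LD2_c6 LD3_c15)) :=
  Lgr Lrot79 (Lpr_bf (f157354 IH) (Lpe (K7.f151673 IH) (Lpe (f25307 IH) (Lpn (LP (LK LD1_c9 LD2_c6 LD3_c15))))))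
theorem f22607 : Led Lsl_at (LP (LK LD1_c1 LD2_c33 LD3_c28)) = (LP (LK LD1_c0 LD2_c43 LD3_c24)) :=
  Lre_a IH (LK LD1_c1 LD2_c33 LD3_c28) (LK LD1_c0 LD2_c43 LD3_c24) Lrfl Lrfl
theorem f22609 : Led Lsl_at (LP (LK LD1_c1 LD2_c22 LD3_c18)) = (LP (LK LD1_c2 LD2_c52 LD3_c18)) :=
  Lre_a IH (LK LD1_c1 LD2_c22 LD3_c18) (LK LD1_c2 LD2_c52 LD3_c18) Lrfl Lrfl
theorem f22610 : Led Lsl_bt (LP (LK LD1_c2 LD2_c52 LD3_c18)) = (LP (LK LD1_c5 LD2_c52 LD3_c1)) :=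
  Lre_b IH (LK LD1_c2 LD2_c52 LD3_c18) (LK LD1_c5 LD2_c52 LD3_c1) Lrfl Lrfl
theorem f22611 : Led Lsl_af (LP (LK LD1_c3 LD2_c13 LD3_c48)) = (LP (LK LD1_c5 LD2_c52 LD3_c1)) :=
  Lgr Lrot36 (Lpr_bt (f22608 IH) (Lpr_at (f22607 IH) (Lpr_bt (f22593 IH) (Lpr_at (f22609 IH) (Lpr_bt (f22610 IH) (Lpn (LP (LK LD1_c5 LD2_c52 LD3_c1))))))))
theorem f22666 : Led Lsl_at (LP (LK LD1_c3 LD2_c13 LD3_c48)) = (LP (LK LD1_c5 LD2_c52 LD3_c1)) :=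
  Lgr Lrot100 (Lpr_af (f22611 IH) (Lpn (LP (LK LD1_c5 LD2_c52 LD3_c1))))
theorem f156524 : Led Lsl_ct (LP (LK LD1_c5 LD2_c52 LD3_c1)) = (LP (LK LD1_c9 LD2_c6 LD3_c15)) :=
  Lgr Lrot111 (Lpe (f22666 IH) (Lpr_cf (f156522 IH) (Lpr_af (f25290 IH) (Lpn (LP (LK LD1_c9 LD2_c6 LD3_c15))))))
theorem f162610 : Led Lsl_gf (LP (LK LD1_c5 LD2_c52 LD3_c1)) = (LP (LK LD1_c7 LD2_c26 LD3_c27)) :=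
  Lgr Lrot104 (Lpr_ct (f156524 IH) (Lpe (f157359 IH) (Lpe (f157324 IH) (Lpe (K7.f151504 IH) (Lpe (K7.f94639 IH) (Lpe (K7.f18666 IH) (Lpr_df (f90939 IH) (Lpr_gt (f162328 IH) (Lpr_ct (f162606 IH) (Lpn (LP (LK LD1_c7 LD2_c26 LD3_c27))))))))))))
theorem f162576 : Led Lsl_at (LP (LK LD1_c6 LD2_c31 LD3_c10)) = (LP (LK LD1_c7 LD2_c26 LD3_c28)) :=
  Lgr Lrot100 (Lpr_af (f162574 IH) (Lpn (LP (LK LD1_c7 LD2_c26 LD3_c28))))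
theorem f162614 : Led Lsl_gt (LP (LK LD1_c5 LD2_c52 LD3_c1)) = (LP (LK LD1_c7 LD2_c26 LD3_c28)) :=
  Lgr Lrot46 (Lpr_gf (f162610 IH) (Lpe (f162590 IH) (Lpr_at (f162576 IH) (Lpn (LP (LK LD1_c7 LD2_c26 LD3_c28))))))
theorem f151989 : Led Lsl_ct (LP (LK LD1_c2 LD2_c52 LD3_c18)) = (LP (LK LD1_c1 LD2_c22 LD3_c15)) :=
  Lre_c IH (LK LD1_c2 LD2_c52 LD3_c18) (LK LD1_c1 LD2_c22 LD3_c15) Lrfl Lrfl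
theorem f22674 : Led Lsl_bt (LP (LK LD1_c5 LD2_c52 LD3_c1)) = (LP (LK LD1_c2 LD2_c52 LD3_c18)) :=
  Lre_b IH (LK LD1_c5 LD2_c52 LD3_c1) (LK LD1_c2 LD2_c52 LD3_c18) Lrfl Lrfl
theorem f151990 : Led Lsl_ct (LP (LK LD1_c9 LD2_c6 LD3_c15)) = (LP (LK LD1_c5 LD2_c52 LD3_c1)) :=
  Lgr Lrot83 (Lpe (f25289 IH) (Lpe (K7.f20373 IH) (Lpr_bf (K7.f151978 IH) (Lpe (f151989 IH) (Lpe (f22674 IH) (Lpn (LP (LK LD1_c5 LD2_c52 LD3_c1))))))))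
theorem f162397 : Led Lsl_ff (LP (LK LD1_c3 LD2_c47 LD3_c31)) = (LP (LK LD1_c7 LD2_c30 LD3_c13)) :=
  Lgr Lrot3 (Lpr_ft (f162391 IH) (Lpn (LP (LK LD1_c7 LD2_c30 LD3_c13))))
theorem f162572 : Led Lsl_cf (LP (LK LD1_c7 LD2_c30 LD3_c13)) = (LP (LK LD1_c7 LD2_c26 LD3_c28)) :=
  Lgr Lrot108 (Lpe (f162397 IH) (Lpr_ct (f156555 IH) (Lpr_ft (f162570 IH) (Lpn (LP (LK LD1_c7 LD2_c26 LD3_c28))))))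
theorem f145145 : Led Lsl_ct (LP (LK LD1_c6 LD2_c54 LD3_c46)) = (LP (LK LD1_c6 LD2_c43 LD3_c12)) :=
  Lgr Lrot59 (Lpr_cf (K6.f145141 IH) (Lpn (LP (LK LD1_c6 LD2_c43 LD3_c12))))
theorem f162620 : Led Lsl_gf (LP (LK LD1_c9 LD2_c6 LD3_c15)) = (LP (LK LD1_c6 LD2_c33 LD3_c7)) :=
  Lgr Lrot147 (Lpr_ct (f151990 IH) (Lpr_gt (f162614 IH) (Lpe (f162572 IH) (Lpe (K7.f14734 IH) (Lpe (K6.f14743 IH) (Lpr_gf (K6.f145247 IH) (Lpe (f145145 IH) (Lpe (K6.f145097 IH) (Lpe (f157297 IH) (Lpn (LP (LK LD1_c6 LD2_c33 LD3_c7))))))))))))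
theorem f151501 : Led Lsl_et (LP (LK LD1_c7 LD2_c32 LD3_c27)) = (LP (LK LD1_c14 LD2_c13 LD3_c16)) :=
  Lre_e IH (LK LD1_c7 LD2_c32 LD3_c27) (LK LD1_c14 LD2_c13 LD3_c16) Lrfl Lrfl
theorem f65947 : Led Lsl_et (LP (LK LD1_c11 LD2_c30 LD3_c11)) = (LP (LK LD1_c5 LD2_c51 LD3_c23)) :=
  Lre_e IH (LK LD1_c11 LD2_c30 LD3_c11) (LK LD1_c5 LD2_c51 LD3_c23) Lrfl Lrfl
theorem f157361 : Led Lsl_bt (LP (LK LD1_c14 LD2_c13 LD3_c16)) = (LP (LK LD1_c11 LD2_c30 LD3_c11)) :=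
  Lgr Lrot119 (Lpe (f151501 IH) (Lpr_bf (f157354 IH) (Lpe (f65947 IH) (Lpn (LP (LK LD1_c11 LD2_c30 LD3_c11))))))
theorem f157370 : Led Lsl_dt (LP (LK LD1_c23 LD2_c48 LD3_c46)) = (LP (LK LD1_c14 LD2_c13 LD3_c16)) :=
  Lre_d IH (LK LD1_c23 LD2_c48 LD3_c46) (LK LD1_c14 LD2_c13 LD3_c16) Lrfl Lrfl
theorem f65948 : Led Lsl_dt (LP (LK LD1_c11 LD2_c30 LD3_c11)) = (LP (LK LD1_c20 LD2_c27 LD3_c24)) :=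
  Lre_d IH (LK LD1_c11 LD2_c30 LD3_c11) (LK LD1_c20 LD2_c27 LD3_c24) Lrfl Lrfl
theorem f157371 : Led Lsl_bf (LP (LK LD1_c23 LD2_c48 LD3_c46)) = (LP (LK LD1_c20 LD2_c27 LD3_c24)) :=
  Lgr Lrot93 (Lpr_dt (f157370 IH) (Lpr_bt (f157361 IH) (Lpr_dt (f65948 IH) (Lpn (LP (LK LD1_c20 LD2_c27 LD3_c24))))))
theorem f151679 : Led Lsl_et (LP (LK LD1_c9 LD2_c6 LD3_c16)) = (LP (LK LD1_c4 LD2_c34 LD3_c49)) :=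
  Lre_e IH (LK LD1_c9 LD2_c6 LD3_c16) (LK LD1_c4 LD2_c34 LD3_c49) Lrfl Lrfl
theorem f151680 : Led Lsl_dt (LP (LK LD1_c16 LD2_c58 LD3_c0)) = (LP (LK LD1_c9 LD2_c6 LD3_c16)) :=
  Lre_d IH (LK LD1_c16 LD2_c58 LD3_c0) (LK LD1_c9 LD2_c6 LD3_c16) Lrfl Lrfl
theorem f151681 : Led Lsl_et (LP (LK LD1_c5 LD2_c51 LD3_c23)) = (LP (LK LD1_c11 LD2_c30 LD3_c11)) :=
  Lre_e IH (LK LD1_c5 LD2_c51 LD3_c23) (LK LD1_c11 LD2_c30 LD3_c11) Lrfl Lrfl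
theorem f151682 : Led Lsl_ef (LP (LK LD1_c16 LD2_c58 LD3_c0)) = (LP (LK LD1_c20 LD2_c27 LD3_c24)) :=
  Lgr Lrot73 (Lpr_dt (f151680 IH) (Lpr_et (f151679 IH) (Lpr_dt (K7.f151673 IH) (Lpr_et (f151681 IH) (Lpr_dt (f65948 IH) (Lpn (LP (LK LD1_c20 LD2_c27 LD3_c24))))))))
theorem f151698 : Led Lsl_et (LP (LK LD1_c16 LD2_c58 LD3_c0)) = (LP (LK LD1_c20 LD2_c27 LD3_c24)) :=
  Lgr Lrot87 (Lpr_ef (f151682 IH) (Lpn (LP (LK LD1_c20 LD2_c27 LD3_c24))))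
theorem f157380 : Led Lsl_et (LP (LK LD1_c23 LD2_c48 LD3_c46)) = (LP (LK LD1_c26 LD2_c53 LD3_c28)) :=
  Lgr Lrot74 (Lpr_bf (f157371 IH) (Lpe (f151698 IH) (Lpe (f25325 IH) (Lpn (LP (LK LD1_c26 LD2_c53 LD3_c28))))))
theorem f157356 : Led Lsl_dt (LP (LK LD1_c14 LD2_c13 LD3_c16)) = (LP (LK LD1_c23 LD2_c48 LD3_c46)) :=
  Lre_d IH (LK LD1_c14 LD2_c13 LD3_c16) (LK LD1_c23 LD2_c48 LD3_c46) Lrfl Lrfl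
theorem f25303 : Led Lsl_et (LP (LK LD1_c16 LD2_c57 LD3_c59)) = (LP (LK LD1_c9 LD2_c6 LD3_c15)) :=
  Lre_e IH (LK LD1_c16 LD2_c57 LD3_c59) (LK LD1_c9 LD2_c6 LD3_c15) Lrfl Lrfl
theorem f157385 : Led Lsl_df (LP (LK LD1_c7 LD2_c32 LD3_c27)) = (LP (LK LD1_c9 LD2_c6 LD3_c15)) :=
  Lgr Lrot70 (Lpr_et (f151501 IH) (Lpr_dt (f157356 IH) (Lpr_et (f157380 IH) (Lpr_dt (f25317 IH) (Lpr_et (f25303 IH) (Lpn (LP (LK LD1_c9 LD2_c6 LD3_c15))))))))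
theorem f25304 : Led Lsl_gt (LP (LK LD1_c9 LD2_c21 LD3_c2)) = (LP (LK LD1_c4 LD2_c44 LD3_c5)) :=
  Lre_g IH (LK LD1_c9 LD2_c21 LD3_c2) (LK LD1_c4 LD2_c44 LD3_c5) Lrfl Lrfl
theorem f157302 : Led Lsl_df (LP (LK LD1_c6 LD2_c33 LD3_c7)) = (LP (LK LD1_c3 LD2_c47 LD3_c30)) :=
  Lgr Lrot38 (Lpr_dt (f157297 IH) (Lpn (LP (LK LD1_c3 LD2_c47 LD3_c30))))
theorem f162622 : Led Lsl_df (LP (LK LD1_c9 LD2_c21 LD3_c2)) = (LP (LK LD1_c7 LD2_c30 LD3_c15)) :=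
  Lgr Lrot153 (Lpr_gt (f25304 IH) (Lpe (f157352 IH) (Lpe (f157350 IH) (Lpr_df (f157385 IH) (Lpr_gf (f162620 IH) (Lpr_df (f157302 IH) (Lpr_gf (K6.f64439 IH) (Lpe (K6.f145137 IH) (Lpr_gt (f157344 IH) (Lpn (LP (LK LD1_c7 LD2_c30 LD3_c15))))))))))))
theorem f90963 : Led Lsl_ct (LP (LK LD1_c6 LD2_c56 LD3_c5)) = (LP (LK LD1_c13 LD2_c10 LD3_c14)) :=
  Lre_c IH (LK LD1_c6 LD2_c56 LD3_c5) (LK LD1_c13 LD2_c10 LD3_c14) Lrfl Lrfl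
theorem f15861 : Led Lsl_ct (LP (LK LD1_c13 LD2_c2 LD3_c47)) = (LP (LK LD1_c6 LD2_c51 LD3_c32)) :=
  Lre_c IH (LK LD1_c13 LD2_c2 LD3_c47) (LK LD1_c6 LD2_c51 LD3_c32) Lrfl Lrfl
theorem f63413 : Led Lsl_af (LP (LK LD1_c13 LD2_c2 LD3_c47)) = (LP (LK LD1_c7 LD2_c41 LD3_c28)) :=
  Lgr Lrot68 (Lpr_ct (f15861 IH) (Lpr_at (K7.f63406 IH) (Lpr_ct (f63412 IH) (Lpn (LP (LK LD1_c7 LD2_c41 LD3_c28))))))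
theorem f63427 : Led Lsl_at (LP (LK LD1_c13 LD2_c2 LD3_c47)) = (LP (LK LD1_c7 LD2_c41 LD3_c28)) :=
  Lgr Lrot100 (Lpr_af (f63413 IH) (Lpn (LP (LK LD1_c7 LD2_c41 LD3_c28))))
theorem f90970 : Led Lsl_ff (LP (LK LD1_c13 LD2_c2 LD3_c47)) = (LP (LK LD1_c13 LD2_c10 LD3_c14)) :=
  Lgr Lrot30 (Lpr_at (f63427 IH) (Lpe (f63605 IH) (Lpr_at (f90966 IH) (Lpn (LP (LK LD1_c13 LD2_c10 LD3_c14))))))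
theorem f63425 : Led Lsl_gt (LP (LK LD1_c14 LD2_c29 LD3_c49)) = (LP (LK LD1_c7 LD2_c41 LD3_c28)) :=
  Lre_g IH (LK LD1_c14 LD2_c29 LD3_c49) (LK LD1_c7 LD2_c41 LD3_c28) Lrfl Lrfl
theorem f90974 : Led Lsl_gf (LP (LK LD1_c14 LD2_c29 LD3_c49)) = (LP (LK LD1_c13 LD2_c10 LD3_c14)) :=
  Lgr Lrot47 (Lpr_gt (f63425 IH) (Lpe (f63427 IH) (Lpr_ff (f90970 IH) (Lpn (LP (LK LD1_c13 LD2_c10 LD3_c14))))))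
theorem f162630 : Led Lsl_cf (LP (LK LD1_c9 LD2_c21 LD3_c2)) = (LP (LK LD1_c14 LD2_c29 LD3_c49)) :=
  Lgr Lrot99 (Lpr_df (f162622 IH) (Lpe (f16687 IH) (Lpe (K5.f16685 IH) (Lpr_cf (K0.f14754 IH) (Lpe (K5.f14771 IH) (Lpe (K7.f14772 IH) (Lpr_gt (K7.f156622 IH) (Lpr_ct (f90963 IH) (Lpe (f90974 IH) (Lpn (LP (LK LD1_c14 LD2_c29 LD3_c49))))))))))))
theorem f162635 : Led Lsl_ct (LP (LK LD1_c9 LD2_c21 LD3_c2)) = (LP (LK LD1_c14 LD2_c29 LD3_c49)) :=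
  Lgr Lrot59 (Lpr_cf (f162630 IH) (Lpn (LP (LK LD1_c14 LD2_c29 LD3_c49))))
theorem f93540 : Led Lsl_gt (LP (LK LD1_c3 LD2_c45 LD3_c41)) = (LP (LK LD1_c7 LD2_c31 LD3_c61)) :=
  Lre_g IH (LK LD1_c3 LD2_c45 LD3_c41) (LK LD1_c7 LD2_c31 LD3_c61) Lrfl Lrfl
theorem f162639 : Led Lsl_bt (LP (LK LD1_c9 LD2_c21 LD3_c2)) = (LP (LK LD1_c7 LD2_c31 LD3_c61)) :=
  Lgr Lrot92 (Lpr_ct (f162635 IH) (Lpr_gt (f63425 IH) (Lpe (f63412 IH) (Lpr_bt (K7.f63111 IH) (Lpe (K3.f64907 IH) (Lpe (K3.f66156 IH) (Lpr_gt (K3.f64911 IH) (Lpe (K3.f94139 IH) (Lpr_bt (K4.f94135 IH) (Lpr_gt (f93540 IH) (Lpn (LP (LK LD1_c7 LD2_c31 LD3_c61)))))))))))))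
theorem f90947 : Led Lsl_bt (LP (LK LD1_c6 LD2_c56 LD3_c5)) = (LP (LK LD1_c3 LD2_c27 LD3_c5)) :=
  Lre_b IH (LK LD1_c6 LD2_c56 LD3_c5) (LK LD1_c3 LD2_c27 LD3_c5) Lrfl Lrfl
theorem f162648 : Led Lsl_gf (LP (LK LD1_c7 LD2_c38 LD3_c15)) = (LP (LK LD1_c7 LD2_c31 LD3_c61)) :=
  Lgr Lrot181 (Lpe (K4.f111847 IH) (Lpr_gt (K4.f90976 IH) (Lpe (K4.f89715 IH) (Lpr_bt (K4.f90171 IH) (Lpr_gt (K2.f90152 IH) (Lpe (f90947 IH) (Lpr_ct (f90963 IH) (Lpe (f90974 IH) (Lpe (f162635 IH) (Lpr_bt (f162639 IH) (Lpn (LP (LK LD1_c7 LD2_c31 LD3_c61)))))))))))))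
theorem f96941 : Led Lsl_dt (LP (LK LD1_c3 LD2_c27 LD3_c3)) = (LP (LK LD1_c1 LD2_c40 LD3_c8)) :=
  Lre_d IH (LK LD1_c3 LD2_c27 LD3_c3) (LK LD1_c1 LD2_c40 LD3_c8) Lrfl Lrfl
theorem f162652 : Led Lsl_dt (LP (LK LD1_c7 LD2_c7 LD3_c28)) = (LP (LK LD1_c7 LD2_c31 LD3_c61)) :=
  Lgr Lrot6 (Lpr_gt (K5.f127906 IH) (Lpe (K5.f17407 IH) (Lpe (K5.f127902 IH) (Lpr_ct (K3.f89720 IH) (Lpe (f96941 IH) (Lpe (K5.f90172 IH) (Lpe (K4.f90976 IH) (Lpr_cf (K4.f111847 IH) (Lpr_gf (f162648 IH) (Lpn (LP (LK LD1_c7 LD2_c31 LD3_c61))))))))))))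
theorem f89752 : Led Lsl_et (LP (LK LD1_c13 LD2_c29 LD3_c57)) = (LP (LK LD1_c7 LD2_c7 LD3_c28)) :=
  Lre_e IH (LK LD1_c13 LD2_c29 LD3_c57) (LK LD1_c7 LD2_c7 LD3_c28) Lrfl Lrfl
theorem f162645 : Led Lsl_et (LP (LK LD1_c7 LD2_c31 LD3_c61)) = (LP (LK LD1_c14 LD2_c12 LD3_c30)) :=
  Lre_e IH (LK LD1_c7 LD2_c31 LD3_c61) (LK LD1_c14 LD2_c12 LD3_c30) Lrfl Lrfl
theorem f162655 : Led Lsl_dt (LP (LK LD1_c14 LD2_c12 LD3_c30)) = (LP (LK LD1_c23 LD2_c47 LD3_c42)) :=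
  Lre_d IH (LK LD1_c14 LD2_c12 LD3_c30) (LK LD1_c23 LD2_c47 LD3_c42) Lrfl Lrfl
theorem f162658 : Led Lsl_ef (LP (LK LD1_c22 LD2_c50 LD3_c43)) = (LP (LK LD1_c23 LD2_c47 LD3_c42)) :=
  Lgr Lrot73 (Lpr_dt (f89741 IH) (Lpr_et (f89752 IH) (Lpr_dt (f162652 IH) (Lpr_et (f162645 IH) (Lpr_dt (f162655 IH) (Lpn (LP (LK LD1_c23 LD2_c47 LD3_c42))))))))
theorem f162668 : Led Lsl_et (LP (LK LD1_c22 LD2_c50 LD3_c43)) = (LP (LK LD1_c23 LD2_c47 LD3_c42)) :=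
  Lgr Lrot87 (Lpr_ef (f162658 IH) (Lpn (LP (LK LD1_c23 LD2_c47 LD3_c42))))
theorem f144903 : Led Lsl_et (LP (LK LD1_c24 LD2_c0 LD3_c51)) = (LP (LK LD1_c14 LD2_c22 LD3_c41)) :=
  Lre_e IH (LK LD1_c24 LD2_c0 LD3_c51) (LK LD1_c14 LD2_c22 LD3_c41) Lrfl Lrfl
theorem f162671 : Led Lsl_af (LP (LK LD1_c24 LD2_c0 LD3_c51)) = (LP (LK LD1_c23 LD2_c47 LD3_c42)) :=
  Lgr Lrot50 (Lpr_et (f144903 IH) (Lpe (f162148 IH) (Lpr_et (f162668 IH) (Lpn (LP (LK LD1_c23 LD2_c47 LD3_c42))))))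
theorem f162676 : Led Lsl_dt (LP (LK LD1_c24 LD2_c0 LD3_c51)) = (LP (LK LD1_c14 LD2_c22 LD3_c40)) :=
  Lre_d IH (LK LD1_c24 LD2_c0 LD3_c51) (LK LD1_c14 LD2_c22 LD3_c40) Lrfl Lrfl
theorem f162677 : Led Lsl_at (LP (LK LD1_c14 LD2_c22 LD3_c40)) = (LP (LK LD1_c14 LD2_c12 LD3_c30)) :=
  Lgr Lrot51 (Lpe (f162676 IH) (Lpr_af (f162671 IH) (Lpe (f162655 IH) (Lpn (LP (LK LD1_c14 LD2_c12 LD3_c30))))))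
theorem f162679 : Led Lsl_af (LP (LK LD1_c14 LD2_c22 LD3_c40)) = (LP (LK LD1_c14 LD2_c12 LD3_c30)) :=
  Lgr Lrot0 (Lpr_at (f162677 IH) (Lpn (LP (LK LD1_c14 LD2_c12 LD3_c30))))
theorem f127434 : Led Lsl_et (LP (LK LD1_c14 LD2_c22 LD3_c40)) = (LP (LK LD1_c7 LD2_c37 LD3_c44)) :=
  Lre_e IH (LK LD1_c14 LD2_c22 LD3_c40) (LK LD1_c7 LD2_c37 LD3_c44) Lrfl Lrfl
theorem f162681 : Led Lsl_at (LP (LK LD1_c7 LD2_c37 LD3_c44)) = (LP (LK LD1_c7 LD2_c31 LD3_c61)) :=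
  Lgr Lrot80 (Lpe (f127434 IH) (Lpr_af (f162679 IH) (Lpe (f162645 IH) (Lpn (LP (LK LD1_c7 LD2_c31 LD3_c61))))))
theorem f111352 : Led Lsl_dt (LP (LK LD1_c1 LD2_c50 LD3_c48)) = (LP (LK LD1_c3 LD2_c47 LD3_c25)) :=
  Lre_d IH (LK LD1_c1 LD2_c50 LD3_c48) (LK LD1_c3 LD2_c47 LD3_c25) Lrfl Lrfl
theorem f144883 : Led Lsl_dt (LP (LK LD1_c12 LD2_c1 LD3_c53)) = (LP (LK LD1_c7 LD2_c21 LD3_c0)) :=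
  Lgr Lrot27 (Lpe (f95999 IH) (Lpe (f95998 IH) (Lpe (K7.f64402 IH) (Lpe (K4.f117056 IH) (Lpe (f111352 IH) (Lpr_gt (K4.f91265 IH) (Lpr_ct (K5.f91266 IH) (Lpr_gt (f144879 IH) (Lpr_ct (f132076 IH) (Lpn (LP (LK LD1_c7 LD2_c21 LD3_c0))))))))))))
theorem f105229 : Led Lsl_gt (LP (LK LD1_c3 LD2_c45 LD3_c30)) = (LP (LK LD1_c1 LD2_c49 LD3_c53)) :=
  Lre_g IH (LK LD1_c3 LD2_c45 LD3_c30) (LK LD1_c1 LD2_c49 LD3_c53) Lrfl Lrfl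
theorem f105233 : Led Lsl_ct (LP (LK LD1_c7 LD2_c31 LD3_c40)) = (LP (LK LD1_c3 LD2_c45 LD3_c30)) :=
  Lre_c IH (LK LD1_c7 LD2_c31 LD3_c40) (LK LD1_c3 LD2_c45 LD3_c30) Lrfl Lrfl
theorem f156484 : Led Lsl_bf (LP (LK LD1_c6 LD2_c33 LD3_c7)) = (LP (LK LD1_c7 LD2_c31 LD3_c40)) :=
  Lgr Lrot34 (Lpe (f156462 IH) (Lpe (f24199 IH) (Lpr_ct (K7.f24305 IH) (Lpr_gf (K7.f156479 IH) (Lpe (K5.f25297 IH) (Lpr_gf (K7.f127090 IH) (Lpe (K4.f111228 IH) (Lpr_ct (K4.f62951 IH) (Lpe (f105229 IH) (Lpe (f105233 IH) (Lpn (LP (LK LD1_c7 LD2_c31 LD3_c40)))))))))))))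
theorem f157299 : Led Lsl_df (LP (LK LD1_c7 LD2_c31 LD3_c40)) = (LP (LK LD1_c6 LD2_c54 LD3_c40)) :=
  Lgr Lrot12 (Lpe (f156484 IH) (Lpr_dt (f157297 IH) (Lpe (f144962 IH) (Lpn (LP (LK LD1_c6 LD2_c54 LD3_c40))))))
theorem f162091 : Led Lsl_af (LP (LK LD1_c12 LD2_c1 LD3_c53)) = (LP (LK LD1_c7 LD2_c31 LD3_c40)) :=
  Lgr Lrot117 (Lpr_dt (f144883 IH) (Lpr_at (f162064 IH) (Lpe (f157299 IH) (Lpn (LP (LK LD1_c7 LD2_c31 LD3_c40))))))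
theorem f162641 : Led Lsl_bf (LP (LK LD1_c9 LD2_c21 LD3_c2)) = (LP (LK LD1_c7 LD2_c31 LD3_c61)) :=
  Lgr Lrot24 (Lpr_bt (f162639 IH) (Lpn (LP (LK LD1_c7 LD2_c31 LD3_c61))))
theorem f162625 : Led Lsl_at (LP (LK LD1_c9 LD2_c21 LD3_c2)) = (LP (LK LD1_c6 LD2_c33 LD3_c7)) :=
  Lgr Lrot51 (Lpr_df (f162622 IH) (Lpr_af (f162118 IH) (Lpe (f157297 IH) (Lpn (LP (LK LD1_c6 LD2_c33 LD3_c7))))))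
theorem f162683 : Led Lsl_bf (LP (LK LD1_c7 LD2_c31 LD3_c40)) = (LP (LK LD1_c6 LD2_c33 LD3_c7)) :=
  Lgr Lrot81 (Lpe (f162091 IH) (Lpr_bt (f127432 IH) (Lpr_at (f162681 IH) (Lpe (f162641 IH) (Lpr_at (f162625 IH) (Lpn (LP (LK LD1_c6 LD2_c33 LD3_c7))))))))
theorem f162108 : Led Lsl_ff (LP (LK LD1_c12 LD2_c1 LD3_c55)) = (LP (LK LD1_c7 LD2_c31 LD3_c40)) :=
  Lgr Lrot19 (Lpe (K7.f145262 IH) (Lpr_ft (f162104 IH) (Lpe (f157299 IH) (Lpn (LP (LK LD1_c7 LD2_c31 LD3_c40))))))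
theorem f162690 : Led Lsl_ft (LP (LK LD1_c9 LD2_c21 LD3_c1)) = (LP (LK LD1_c6 LD2_c33 LD3_c7)) :=
  Lgr Lrot75 (Lpe (K7.f156605 IH) (Lpr_ff (f162108 IH) (Lpr_bf (f162683 IH) (Lpn (LP (LK LD1_c6 LD2_c33 LD3_c7))))))
theorem f15862 : Led Lsl_dt (LP (LK LD1_c3 LD2_c24 LD3_c27)) = (LP (LK LD1_c6 LD2_c51 LD3_c32)) :=
  Lre_d IH (LK LD1_c3 LD2_c24 LD3_c27) (LK LD1_c6 LD2_c51 LD3_c32) Lrfl Lrfl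
theorem f63415 : Led Lsl_df (LP (LK LD1_c3 LD2_c28 LD3_c15)) = (LP (LK LD1_c3 LD2_c50 LD3_c13)) :=
  Lgr Lrot18 (Lpr_at (K2.f18613 IH) (Lpr_dt (f15862 IH) (Lpr_at (K7.f63406 IH) (Lpn (LP (LK LD1_c3 LD2_c50 LD3_c13))))))
theorem f24195 : Led Lsl_dt (LP (LK LD1_c3 LD2_c14 LD3_c49)) = (LP (LK LD1_c6 LD2_c33 LD3_c9)) :=
  Lre_d IH (LK LD1_c3 LD2_c14 LD3_c49) (LK LD1_c6 LD2_c33 LD3_c9) Lrfl Lrfl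
theorem f151493 : Led Lsl_dt (LP (LK LD1_c6 LD2_c53 LD3_c14)) = (LP (LK LD1_c5 LD2_c51 LD3_c3)) :=
  Lgr Lrot44 (Lpr_af (K7.f151487 IH) (Lpe (f24195 IH) (Lpe (K7.f24134 IH) (Lpn (LP (LK LD1_c5 LD2_c51 LD3_c3))))))
theorem f162637 : Led Lsl_gf (LP (LK LD1_c9 LD2_c21 LD3_c2)) = (LP (LK LD1_c5 LD2_c51 LD3_c3)) :=
  Lgr Lrot179 (Lpr_ct (f162635 IH) (Lpr_gt (f63425 IH) (Lpr_ct (f63419 IH) (Lpe (f63415 IH) (Lpr_cf (K4.f18621 IH) (Lpe (K7.f18665 IH) (Lpr_cf (K7.f94627 IH) (Lpe (K7.f115896 IH) (Lpr_dt (f151493 IH) (Lpn (LP (LK LD1_c5 LD2_c51 LD3_c3))))))))))))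
theorem f162695 : Led Lsl_af (LP (LK LD1_c9 LD2_c21 LD3_c2)) = (LP (LK LD1_c6 LD2_c33 LD3_c7)) :=
  Lgr Lrot31 (Lpr_gf (f162637 IH) (Lpr_gf (K7.f156603 IH) (Lpr_ft (f162690 IH) (Lpn (LP (LK LD1_c6 LD2_c33 LD3_c7))))))
theorem f162656 : Led Lsl_af (LP (LK LD1_c7 LD2_c37 LD3_c44)) = (LP (LK LD1_c7 LD2_c31 LD3_c61)) :=
  Lgr Lrot117 (Lpr_dt (f93028 IH) (Lpe (f162157 IH) (Lpr_dt (f162652 IH) (Lpn (LP (LK LD1_c7 LD2_c31 LD3_c61))))))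
theorem f127437 : Led Lsl_bf (LP (LK LD1_c12 LD2_c1 LD3_c53)) = (LP (LK LD1_c7 LD2_c37 LD3_c44)) :=
  Lgr Lrot24 (Lpr_bt (f127432 IH) (Lpn (LP (LK LD1_c7 LD2_c37 LD3_c44))))
theorem f162697 : Led Lsl_at (LP (LK LD1_c12 LD2_c1 LD3_c53)) = (LP (LK LD1_c7 LD2_c31 LD3_c40)) :=
  Lgr Lrot67 (Lpr_bf (f127437 IH) (Lpr_af (f162656 IH) (Lpe (f162639 IH) (Lpr_af (f162695 IH) (Lpr_bf (f156484 IH) (Lpn (LP (LK LD1_c7 LD2_c31 LD3_c40))))))))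
theorem f162706 : Led Lsl_af (LP (LK LD1_c6 LD2_c10 LD3_c39)) = (LP (LK LD1_c3 LD2_c45 LD3_c30)) :=
  Lgr Lrot68 (Lpr_ct (f95999 IH) (Lpr_at (f162697 IH) (Lpr_ct (f105233 IH) (Lpn (LP (LK LD1_c3 LD2_c45 LD3_c30))))))
theorem f162711 : Led Lsl_ft (LP (LK LD1_c6 LD2_c10 LD3_c40)) = (LP (LK LD1_c3 LD2_c45 LD3_c30)) :=
  Lgr Lrot2 (Lpr_gt (K7.f96001 IH) (Lpr_gt (f95998 IH) (Lpr_af (f162706 IH) (Lpn (LP (LK LD1_c3 LD2_c45 LD3_c30))))))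
theorem f162715 : Led Lsl_ff (LP (LK LD1_c6 LD2_c10 LD3_c40)) = (LP (LK LD1_c3 LD2_c45 LD3_c30)) :=
  Lgr Lrot3 (Lpr_ft (f162711 IH) (Lpn (LP (LK LD1_c3 LD2_c45 LD3_c30))))
theorem f162721 : Led Lsl_at (LP (LK LD1_c6 LD2_c10 LD3_c40)) = (LP (LK LD1_c3 LD2_c45 LD3_c29)) :=
  Lgr Lrot26 (Lpr_ff (f162715 IH) (Lpr_gt (f105229 IH) (Lpr_gt (K4.f79329 IH) (Lpn (LP (LK LD1_c3 LD2_c45 LD3_c29))))))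
theorem f162708 : Led Lsl_at (LP (LK LD1_c6 LD2_c10 LD3_c39)) = (LP (LK LD1_c3 LD2_c45 LD3_c30)) :=
  Lgr Lrot100 (Lpr_af (f162706 IH) (Lpn (LP (LK LD1_c3 LD2_c45 LD3_c30))))
theorem f162727 : Led Lsl_ff (LP (LK LD1_c6 LD2_c10 LD3_c39)) = (LP (LK LD1_c3 LD2_c45 LD3_c29)) :=
  Lgr Lrot30 (Lpr_at (f162708 IH) (Lpe (f162715 IH) (Lpr_at (f162721 IH) (Lpn (LP (LK LD1_c3 LD2_c45 LD3_c29))))))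
theorem f162733 : Led Lsl_ft (LP (LK LD1_c6 LD2_c10 LD3_c39)) = (LP (LK LD1_c3 LD2_c45 LD3_c29)) :=
  Lgr Lrot48 (Lpr_ff (f162727 IH) (Lpn (LP (LK LD1_c3 LD2_c45 LD3_c29))))
theorem f162740 : Led Lsl_ff (LP (LK LD1_c12 LD2_c1 LD3_c53)) = (LP (LK LD1_c7 LD2_c31 LD3_c37)) :=
  Lgr Lrot23 (Lpr_ct (f117059 IH) (Lpr_ft (f162733 IH) (Lpr_ct (K4.f96085 IH) (Lpn (LP (LK LD1_c7 LD2_c31 LD3_c37))))))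
theorem f162744 : Led Lsl_dt (LP (LK LD1_c6 LD2_c54 LD3_c41)) = (LP (LK LD1_c7 LD2_c31 LD3_c37)) :=
  Lgr Lrot60 (Lpe (f162095 IH) (Lpe (f144883 IH) (Lpr_ff (f162740 IH) (Lpn (LP (LK LD1_c7 LD2_c31 LD3_c37))))))
theorem f111872 : Led Lsl_gf (LP (LK LD1_c3 LD2_c45 LD3_c13)) = (LP (LK LD1_c1 LD2_c51 LD3_c61)) :=
  Lgr Lrot181 (Lpr_ct (K4.f62951 IH) (Lpr_gt (K4.f79329 IH) (Lpe (K4.f96081 IH) (Lpr_bt (K4.f111863 IH) (Lpr_gt (K4.f92450 IH) (Lpe (K4.f94135 IH) (Lpr_ct (K3.f94139 IH) (Lpr_gt (K3.f96188 IH) (Lpr_cf (K3.f84961 IH) (Lpr_bt (K4.f87384 IH) (Lpn (LP (LK LD1_c1 LD2_c51 LD3_c61)))))))))))))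
theorem f96335 : Led Lsl_gt (LP (LK LD1_c3 LD2_c49 LD3_c55)) = (LP (LK LD1_c7 LD2_c40 LD3_c44)) :=
  Lre_g IH (LK LD1_c3 LD2_c49 LD3_c55) (LK LD1_c7 LD2_c40 LD3_c44) Lrfl Lrfl
theorem f162753 : Led Lsl_cf (LP (LK LD1_c6 LD2_c54 LD3_c41)) = (LP (LK LD1_c7 LD2_c40 LD3_c44)) :=
  Lgr Lrot175 (Lpr_dt (f162744 IH) (Lpe (K4.f96085 IH) (Lpe (K4.f79329 IH) (Lpe (K4.f62951 IH) (Lpr_gf (f111872 IH) (Lpr_dt (K7.f87372 IH) (Lpr_gt (K6.f84966 IH) (Lpr_ct (K6.f96334 IH) (Lpr_gt (f96335 IH) (Lpn (LP (LK LD1_c7 LD2_c40 LD3_c44))))))))))))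
theorem f142683 : Led Lsl_ct (LP (LK LD1_c1 LD2_c48 LD3_c18)) = (LP (LK LD1_c3 LD2_c26 LD3_c24)) :=
  Lgr Lrot59 (Lpr_cf (K6.f142680 IH) (Lpn (LP (LK LD1_c3 LD2_c26 LD3_c24))))
theorem f120989 : Led Lsl_bt (LP (LK LD1_c1 LD2_c48 LD3_c18)) = (LP (LK LD1_c0 LD2_c50 LD3_c55)) :=
  Lre_b IH (LK LD1_c1 LD2_c48 LD3_c18) (LK LD1_c0 LD2_c50 LD3_c55) Lrfl Lrfl
theorem f142705 : Led Lsl_cf (LP (LK LD1_c0 LD2_c49 LD3_c15)) = (LP (LK LD1_c0 LD2_c53 LD3_c26)) :=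
  Lgr Lrot11 (Lpr_ct (K6.f142698 IH) (Lpn (LP (LK LD1_c0 LD2_c53 LD3_c26))))
theorem f162764 : Led Lsl_bf (LP (LK LD1_c3 LD2_c54 LD3_c8)) = (LP (LK LD1_c7 LD2_c40 LD3_c44)) :=
  Lgr Lrot34 (Lpe (f142718 IH) (Lpe (f142702 IH) (Lpe (f142705 IH) (Lpr_gf (K6.f142694 IH) (Lpr_cf (K5.f132166 IH) (Lpe (K6.f142330 IH) (Lpe (f120989 IH) (Lpr_ct (f142683 IH) (Lpe (f102624 IH) (Lpr_cf (f162753 IH) (Lpn (LP (LK LD1_c7 LD2_c40 LD3_c44)))))))))))))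
theorem f159799 : Led Lsl_gt (LP (LK LD1_c3 LD2_c54 LD3_c8)) = (LP (LK LD1_c3 LD2_c55 LD3_c3)) :=
  Lgr Lrot46 (Lpe (f142718 IH) (Lpr_ft (f159784 IH) (Lpr_at (f11761 IH) (Lpn (LP (LK LD1_c3 LD2_c55 LD3_c3))))))
theorem f11650 : Led Lsl_et (LP (LK LD1_c0 LD2_c53 LD3_c39)) = (LP (LK LD1_c1 LD2_c54 LD3_c8)) :=
  Lre_e IH (LK LD1_c0 LD2_c53 LD3_c39) (LK LD1_c1 LD2_c54 LD3_c8) Lrfl Lrfl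
theorem f11652 : Led Lsl_ct (LP (LK LD1_c1 LD2_c54 LD3_c8)) = (LP (LK LD1_c1 LD2_c43 LD3_c15)) :=
  Lgr Lrot15 (Lpe (f11650 IH) (Lpr_cf (K2.f11524 IH) (Lpe (K3.f11651 IH) (Lpn (LP (LK LD1_c1 LD2_c43 LD3_c15))))))
theorem f11667 : Led Lsl_ft (LP (LK LD1_c3 LD2_c55 LD3_c6)) = (LP (LK LD1_c1 LD2_c54 LD3_c8)) :=
  Lre_f IH (LK LD1_c3 LD2_c55 LD3_c6) (LK LD1_c1 LD2_c54 LD3_c8) Lrfl Lrfl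
theorem f11668 : Led Lsl_ft (LP (LK LD1_c1 LD2_c43 LD3_c15)) = (LP (LK LD1_c3 LD2_c33 LD3_c2)) :=
  Lre_f IH (LK LD1_c1 LD2_c43 LD3_c15) (LK LD1_c3 LD2_c33 LD3_c2) Lrfl Lrfl
theorem f11669 : Led Lsl_cf (LP (LK LD1_c3 LD2_c55 LD3_c6)) = (LP (LK LD1_c3 LD2_c33 LD3_c2)) :=
  Lgr Lrot108 (Lpr_ft (f11667 IH) (Lpr_ct (f11652 IH) (Lpr_ft (f11668 IH) (Lpn (LP (LK LD1_c3 LD2_c33 LD3_c2))))))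
theorem f11688 : Led Lsl_ct (LP (LK LD1_c3 LD2_c55 LD3_c6)) = (LP (LK LD1_c3 LD2_c33 LD3_c2)) :=
  Lgr Lrot59 (Lpr_cf (f11669 IH) (Lpn (LP (LK LD1_c3 LD2_c33 LD3_c2))))
theorem f11696 : Led Lsl_bt (LP (LK LD1_c7 LD2_c51 LD3_c50)) = (LP (LK LD1_c3 LD2_c55 LD3_c6)) :=
  Lre_b IH (LK LD1_c7 LD2_c51 LD3_c50) (LK LD1_c3 LD2_c55 LD3_c6) Lrfl Lrfl
theorem f11695 : Led Lsl_bt (LP (LK LD1_c3 LD2_c33 LD3_c2)) = (LP (LK LD1_c1 LD2_c43 LD3_c22)) :=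
  Lre_b IH (LK LD1_c3 LD2_c33 LD3_c2) (LK LD1_c1 LD2_c43 LD3_c22) Lrfl Lrfl
theorem f11697 : Led Lsl_ct (LP (LK LD1_c1 LD2_c43 LD3_c22)) = (LP (LK LD1_c3 LD2_c33 LD3_c12)) :=
  Lre_c IH (LK LD1_c1 LD2_c43 LD3_c22) (LK LD1_c3 LD2_c33 LD3_c12) Lrfl Lrfl
theorem f11698 : Led Lsl_bt (LP (LK LD1_c3 LD2_c33 LD3_c12)) = (LP (LK LD1_c7 LD2_c7 LD3_c5)) :=
  Lre_b IH (LK LD1_c3 LD2_c33 LD3_c12) (LK LD1_c7 LD2_c7 LD3_c5) Lrfl Lrfl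
theorem f11699 : Led Lsl_cf (LP (LK LD1_c7 LD2_c51 LD3_c50)) = (LP (LK LD1_c7 LD2_c7 LD3_c5)) :=
  Lgr Lrot97 (Lpr_bt (f11696 IH) (Lpr_ct (f11688 IH) (Lpr_bt (f11695 IH) (Lpr_ct (f11697 IH) (Lpr_bt (f11698 IH) (Lpn (LP (LK LD1_c7 LD2_c7 LD3_c5))))))))
theorem f11713 : Led Lsl_ft (LP (LK LD1_c7 LD2_c51 LD3_c50)) = (LP (LK LD1_c3 LD2_c55 LD3_c4)) :=
  Lre_f IH (LK LD1_c7 LD2_c51 LD3_c50) (LK LD1_c3 LD2_c55 LD3_c4) Lrfl Lrfl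
theorem f11714 : Led Lsl_ft (LP (LK LD1_c3 LD2_c33 LD3_c6)) = (LP (LK LD1_c7 LD2_c7 LD3_c5)) :=
  Lre_f IH (LK LD1_c3 LD2_c33 LD3_c6) (LK LD1_c7 LD2_c7 LD3_c5) Lrfl Lrfl
theorem f11715 : Led Lsl_ct (LP (LK LD1_c3 LD2_c55 LD3_c4)) = (LP (LK LD1_c3 LD2_c33 LD3_c6)) :=
  Lgr Lrot40 (Lpe (f11713 IH) (Lpr_cf (f11699 IH) (Lpe (f11714 IH) (Lpn (LP (LK LD1_c3 LD2_c33 LD3_c6))))))
theorem f11739 : Led Lsl_et (LP (LK LD1_c1 LD2_c54 LD3_c7)) = (LP (LK LD1_c3 LD2_c55 LD3_c4)) :=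
  Lre_e IH (LK LD1_c1 LD2_c54 LD3_c7) (LK LD1_c3 LD2_c55 LD3_c4) Lrfl Lrfl
theorem f11740 : Led Lsl_et (LP (LK LD1_c3 LD2_c33 LD3_c6)) = (LP (LK LD1_c1 LD2_c43 LD3_c17)) :=
  Lre_e IH (LK LD1_c3 LD2_c33 LD3_c6) (LK LD1_c1 LD2_c43 LD3_c17) Lrfl Lrfl
theorem f11741 : Led Lsl_cf (LP (LK LD1_c1 LD2_c54 LD3_c7)) = (LP (LK LD1_c1 LD2_c43 LD3_c17)) :=
  Lgr Lrot39 (Lpr_et (f11739 IH) (Lpr_ct (f11715 IH) (Lpr_et (f11740 IH) (Lpn (LP (LK LD1_c1 LD2_c43 LD3_c17))))))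
theorem f11762 : Led Lsl_at (LP (LK LD1_c3 LD2_c33 LD3_c4)) = (LP (LK LD1_c1 LD2_c43 LD3_c17)) :=
  Lre_a IH (LK LD1_c3 LD2_c33 LD3_c4) (LK LD1_c1 LD2_c43 LD3_c17) Lrfl Lrfl
theorem f11763 : Led Lsl_ct (LP (LK LD1_c3 LD2_c55 LD3_c3)) = (LP (LK LD1_c3 LD2_c33 LD3_c4)) :=
  Lgr Lrot111 (Lpe (f11761 IH) (Lpr_cf (f11741 IH) (Lpe (f11762 IH) (Lpn (LP (LK LD1_c3 LD2_c33 LD3_c4))))))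
theorem f159998 : Led Lsl_bf (LP (LK LD1_c3 LD2_c54 LD3_c4)) = (LP (LK LD1_c3 LD2_c55 LD3_c3)) :=
  Lgr Lrot61 (Lpe (K5.f129338 IH) (Lpr_bt (f159994 IH) (Lpr_ft (f159781 IH) (Lpn (LP (LK LD1_c3 LD2_c55 LD3_c3))))))
theorem f129363 : Led Lsl_et (LP (LK LD1_c3 LD2_c54 LD3_c4)) = (LP (LK LD1_c7 LD2_c49 LD3_c44)) :=
  Lre_e IH (LK LD1_c3 LD2_c54 LD3_c4) (LK LD1_c7 LD2_c49 LD3_c44) Lrfl Lrfl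
theorem f11774 : Led Lsl_et (LP (LK LD1_c7 LD2_c51 LD3_c46)) = (LP (LK LD1_c3 LD2_c55 LD3_c3)) :=
  Lre_e IH (LK LD1_c7 LD2_c51 LD3_c46) (LK LD1_c3 LD2_c55 LD3_c3) Lrfl Lrfl
theorem f160006 : Led Lsl_bt (LP (LK LD1_c7 LD2_c49 LD3_c44)) = (LP (LK LD1_c7 LD2_c51 LD3_c46)) :=
  Lgr Lrot119 (Lpe (f129363 IH) (Lpr_bf (f159998 IH) (Lpe (f11774 IH) (Lpn (LP (LK LD1_c7 LD2_c51 LD3_c46))))))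
theorem f129504 : Led Lsl_ft (LP (LK LD1_c14 LD2_c46 LD3_c10)) = (LP (LK LD1_c7 LD2_c49 LD3_c44)) :=
  Lre_f IH (LK LD1_c14 LD2_c46 LD3_c10) (LK LD1_c7 LD2_c49 LD3_c44) Lrfl Lrfl
theorem f11718 : Led Lsl_ft (LP (LK LD1_c7 LD2_c51 LD3_c46)) = (LP (LK LD1_c14 LD2_c49 LD3_c47)) :=
  Lre_f IH (LK LD1_c7 LD2_c51 LD3_c46) (LK LD1_c14 LD2_c49 LD3_c47) Lrfl Lrfl
theorem f160014 : Led Lsl_bf (LP (LK LD1_c14 LD2_c46 LD3_c10)) = (LP (LK LD1_c14 LD2_c49 LD3_c47)) :=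
  Lgr Lrot61 (Lpr_ft (f129504 IH) (Lpr_bt (f160006 IH) (Lpr_ft (f11718 IH) (Lpn (LP (LK LD1_c14 LD2_c49 LD3_c47))))))
theorem f160019 : Led Lsl_bt (LP (LK LD1_c14 LD2_c46 LD3_c10)) = (LP (LK LD1_c14 LD2_c49 LD3_c47)) :=
  Lgr Lrot127 (Lpr_bf (f160014 IH) (Lpn (LP (LK LD1_c14 LD2_c49 LD3_c47))))
theorem f160023 : Led Lsl_at (LP (LK LD1_c7 LD2_c49 LD3_c48)) = (LP (LK LD1_c14 LD2_c46 LD3_c10)) :=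
  Lre_a IH (LK LD1_c7 LD2_c49 LD3_c48) (LK LD1_c14 LD2_c46 LD3_c10) Lrfl Lrfl
theorem f95874 : Led Lsl_bt (LP (LK LD1_c3 LD2_c54 LD3_c7)) = (LP (LK LD1_c7 LD2_c49 LD3_c48)) :=
  Lre_b IH (LK LD1_c3 LD2_c54 LD3_c7) (LK LD1_c7 LD2_c49 LD3_c48) Lrfl Lrfl
theorem f11717 : Led Lsl_at (LP (LK LD1_c14 LD2_c49 LD3_c47)) = (LP (LK LD1_c7 LD2_c51 LD3_c50)) :=
  Lre_a IH (LK LD1_c14 LD2_c49 LD3_c47) (LK LD1_c7 LD2_c51 LD3_c50) Lrfl Lrfl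
theorem f160024 : Led Lsl_af (LP (LK LD1_c3 LD2_c54 LD3_c7)) = (LP (LK LD1_c3 LD2_c55 LD3_c6)) :=
  Lgr Lrot36 (Lpr_bt (f95874 IH) (Lpr_at (f160023 IH) (Lpr_bt (f160019 IH) (Lpr_at (f11717 IH) (Lpr_bt (f11696 IH) (Lpn (LP (LK LD1_c3 LD2_c55 LD3_c6))))))))
theorem f95877 : Led Lsl_dt (LP (LK LD1_c3 LD2_c54 LD3_c7)) = (LP (LK LD1_c7 LD2_c49 LD3_c51)) :=
  Lre_d IH (LK LD1_c3 LD2_c54 LD3_c7) (LK LD1_c7 LD2_c49 LD3_c51) Lrfl Lrfl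
theorem f11692 : Led Lsl_dt (LP (LK LD1_c7 LD2_c51 LD3_c54)) = (LP (LK LD1_c3 LD2_c55 LD3_c6)) :=
  Lre_d IH (LK LD1_c7 LD2_c51 LD3_c54) (LK LD1_c3 LD2_c55 LD3_c6) Lrfl Lrfl
theorem f160029 : Led Lsl_at (LP (LK LD1_c7 LD2_c49 LD3_c51)) = (LP (LK LD1_c7 LD2_c51 LD3_c54)) :=
  Lgr Lrot51 (Lpe (f95877 IH) (Lpr_af (f160024 IH) (Lpe (f11692 IH) (Lpn (LP (LK LD1_c7 LD2_c51 LD3_c54))))))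
theorem f95868 : Led Lsl_ft (LP (LK LD1_c3 LD2_c54 LD3_c6)) = (LP (LK LD1_c7 LD2_c49 LD3_c51)) :=
  Lre_f IH (LK LD1_c3 LD2_c54 LD3_c6) (LK LD1_c7 LD2_c49 LD3_c51) Lrfl Lrfl
theorem f11703 : Led Lsl_ft (LP (LK LD1_c7 LD2_c51 LD3_c54)) = (LP (LK LD1_c3 LD2_c55 LD3_c5)) :=
  Lre_f IH (LK LD1_c7 LD2_c51 LD3_c54) (LK LD1_c3 LD2_c55 LD3_c5) Lrfl Lrfl
theorem f160040 : Led Lsl_af (LP (LK LD1_c3 LD2_c54 LD3_c6)) = (LP (LK LD1_c3 LD2_c55 LD3_c5)) :=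
  Lgr Lrot45 (Lpr_ft (f95868 IH) (Lpr_at (f160029 IH) (Lpr_ft (f11703 IH) (Lpn (LP (LK LD1_c3 LD2_c55 LD3_c5))))))
theorem f95888 : Led Lsl_ct (LP (LK LD1_c3 LD2_c54 LD3_c6)) = (LP (LK LD1_c7 LD2_c49 LD3_c50)) :=
  Lre_c IH (LK LD1_c3 LD2_c54 LD3_c6) (LK LD1_c7 LD2_c49 LD3_c50) Lrfl Lrfl
theorem f11665 : Led Lsl_ct (LP (LK LD1_c7 LD2_c51 LD3_c53)) = (LP (LK LD1_c3 LD2_c55 LD3_c5)) :=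
  Lre_c IH (LK LD1_c7 LD2_c51 LD3_c53) (LK LD1_c3 LD2_c55 LD3_c5) Lrfl Lrfl
theorem f160051 : Led Lsl_at (LP (LK LD1_c7 LD2_c49 LD3_c50)) = (LP (LK LD1_c7 LD2_c51 LD3_c53)) :=
  Lgr Lrot107 (Lpe (f95888 IH) (Lpr_af (f160040 IH) (Lpe (f11665 IH) (Lpn (LP (LK LD1_c7 LD2_c51 LD3_c53))))))
theorem f160073 : Led Lsl_ft (LP (LK LD1_c14 LD2_c46 LD3_c18)) = (LP (LK LD1_c7 LD2_c49 LD3_c50)) :=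
  Lre_f IH (LK LD1_c14 LD2_c46 LD3_c18) (LK LD1_c7 LD2_c49 LD3_c50) Lrfl Lrfl
theorem f11813 : Led Lsl_ct (LP (LK LD1_c3 LD2_c55 LD3_c5)) = (LP (LK LD1_c7 LD2_c51 LD3_c53)) :=
  Lre_c IH (LK LD1_c3 LD2_c55 LD3_c5) (LK LD1_c7 LD2_c51 LD3_c53) Lrfl Lrfl
theorem f11812 : Led Lsl_dt (LP (LK LD1_c1 LD2_c54 LD3_c8)) = (LP (LK LD1_c3 LD2_c55 LD3_c5)) :=
  Lre_d IH (LK LD1_c1 LD2_c54 LD3_c8) (LK LD1_c3 LD2_c55 LD3_c5) Lrfl Lrfl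
theorem f11662 : Led Lsl_cf (LP (LK LD1_c1 LD2_c54 LD3_c8)) = (LP (LK LD1_c1 LD2_c43 LD3_c15)) :=
  Lgr Lrot11 (Lpr_ct (f11652 IH) (Lpn (LP (LK LD1_c1 LD2_c43 LD3_c15))))
theorem f107609 : Led Lsl_dt (LP (LK LD1_c13 LD2_c4 LD3_c37)) = (LP (LK LD1_c6 LD2_c52 LD3_c39)) :=
  Lre_d IH (LK LD1_c13 LD2_c4 LD3_c37) (LK LD1_c6 LD2_c52 LD3_c39) Lrfl Lrfl
theorem f107610 : Led Lsl_ct (LP (LK LD1_c22 LD2_c15 LD3_c5)) = (LP (LK LD1_c13 LD2_c4 LD3_c37)) :=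
  Lre_c IH (LK LD1_c22 LD2_c15 LD3_c5) (LK LD1_c13 LD2_c4 LD3_c37) Lrfl Lrfl
theorem f160075 : Led Lsl_dt (LP (LK LD1_c14 LD2_c46 LD3_c18)) = (LP (LK LD1_c22 LD2_c15 LD3_c5)) :=
  Lgr Lrot159 (Lpr_ft (f160073 IH) (Lpr_at (f160051 IH) (Lpe (f11813 IH) (Lpe (f11812 IH) (Lpr_cf (f11662 IH) (Lpe (K3.f11674 IH) (Lpe (K3.f107601 IH) (Lpe (f107609 IH) (Lpe (f107610 IH) (Lpn (LP (LK LD1_c22 LD2_c15 LD3_c5))))))))))))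
theorem f160077 : Led Lsl_df (LP (LK LD1_c14 LD2_c46 LD3_c18)) = (LP (LK LD1_c22 LD2_c15 LD3_c5)) :=
  Lgr Lrot38 (Lpr_dt (f160075 IH) (Lpn (LP (LK LD1_c22 LD2_c15 LD3_c5))))
theorem f95880 : Led Lsl_ct (LP (LK LD1_c14 LD2_c46 LD3_c18)) = (LP (LK LD1_c7 LD2_c49 LD3_c51)) :=
  Lre_c IH (LK LD1_c14 LD2_c46 LD3_c18) (LK LD1_c7 LD2_c49 LD3_c51) Lrfl Lrfl
theorem f95879 : Led Lsl_dt (LP (LK LD1_c7 LD2_c49 LD3_c51)) = (LP (LK LD1_c3 LD2_c54 LD3_c7)) :=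
  Lre_d IH (LK LD1_c7 LD2_c49 LD3_c51) (LK LD1_c3 LD2_c54 LD3_c7) Lrfl Lrfl
theorem f95843 : Led Lsl_ft (LP (LK LD1_c3 LD2_c13 LD3_c31)) = (LP (LK LD1_c6 LD2_c30 LD3_c44)) :=
  Lre_f IH (LK LD1_c3 LD2_c13 LD3_c31) (LK LD1_c6 LD2_c30 LD3_c44) Lrfl Lrfl
theorem f95865 : Led Lsl_ft (LP (LK LD1_c3 LD2_c54 LD3_c7)) = (LP (LK LD1_c1 LD2_c53 LD3_c41)) :=
  Lre_f IH (LK LD1_c3 LD2_c54 LD3_c7) (LK LD1_c1 LD2_c53 LD3_c41) Lrfl Lrfl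
theorem f95866 : Led Lsl_ct (LP (LK LD1_c6 LD2_c30 LD3_c44)) = (LP (LK LD1_c3 LD2_c54 LD3_c7)) :=
  Lgr Lrot40 (Lpe (f95843 IH) (Lpr_cf (K5.f95857 IH) (Lpe (f95865 IH) (Lpn (LP (LK LD1_c3 LD2_c54 LD3_c7))))))
theorem f95875 : Led Lsl_cf (LP (LK LD1_c6 LD2_c30 LD3_c44)) = (LP (LK LD1_c3 LD2_c54 LD3_c7)) :=
  Lgr Lrot11 (Lpr_ct (f95866 IH) (Lpn (LP (LK LD1_c3 LD2_c54 LD3_c7))))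
theorem f160081 : Led Lsl_ct (LP (LK LD1_c13 LD2_c4 LD3_c37)) = (LP (LK LD1_c22 LD2_c15 LD3_c5)) :=
  Lre_c IH (LK LD1_c13 LD2_c4 LD3_c37) (LK LD1_c22 LD2_c15 LD3_c5) Lrfl Lrfl
theorem f160082 : Led Lsl_dt (LP (LK LD1_c6 LD2_c52 LD3_c39)) = (LP (LK LD1_c13 LD2_c4 LD3_c37)) :=
  Lre_d IH (LK LD1_c6 LD2_c52 LD3_c39) (LK LD1_c13 LD2_c4 LD3_c37) Lrfl Lrfl
theorem f106876 : Led Lsl_et (LP (LK LD1_c6 LD2_c52 LD3_c39)) = (LP (LK LD1_c3 LD2_c25 LD3_c11)) :=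
  Lre_e IH (LK LD1_c6 LD2_c52 LD3_c39) (LK LD1_c3 LD2_c25 LD3_c11) Lrfl Lrfl
theorem f107591 : Led Lsl_cf (LP (LK LD1_c6 LD2_c52 LD3_c39)) = (LP (LK LD1_c3 LD2_c33 LD3_c1)) :=
  Lgr Lrot39 (Lpr_et (f106876 IH) (Lpr_ct (K3.f106863 IH) (Lpr_et (K3.f107572 IH) (Lpn (LP (LK LD1_c3 LD2_c33 LD3_c1))))))
theorem f11666 : Led Lsl_dt (LP (LK LD1_c1 LD2_c43 LD3_c15)) = (LP (LK LD1_c3 LD2_c33 LD3_c1)) :=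
  Lre_d IH (LK LD1_c1 LD2_c43 LD3_c15) (LK LD1_c3 LD2_c33 LD3_c1) Lrfl Lrfl
theorem f160084 : Led Lsl_af (LP (LK LD1_c6 LD2_c30 LD3_c44)) = (LP (LK LD1_c3 LD2_c33 LD3_c2)) :=
  Lgr Lrot109 (Lpr_cf (f95875 IH) (Lpe (f95879 IH) (Lpe (f95880 IH) (Lpr_df (f160077 IH) (Lpe (f160081 IH) (Lpe (f160082 IH) (Lpr_cf (f107591 IH) (Lpe (f11666 IH) (Lpr_ft (f11668 IH) (Lpn (LP (LK LD1_c3 LD2_c33 LD3_c2))))))))))))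
theorem f95850 : Led Lsl_ft (LP (LK LD1_c6 LD2_c30 LD3_c44)) = (LP (LK LD1_c3 LD2_c13 LD3_c31)) :=
  Lre_f IH (LK LD1_c6 LD2_c30 LD3_c44) (LK LD1_c3 LD2_c13 LD3_c31) Lrfl Lrfl
theorem f160088 : Led Lsl_at (LP (LK LD1_c3 LD2_c13 LD3_c31)) = (LP (LK LD1_c1 LD2_c43 LD3_c15)) :=
  Lgr Lrot66 (Lpe (f95850 IH) (Lpr_af (f160084 IH) (Lpe (f11668 IH) (Lpn (LP (LK LD1_c1 LD2_c43 LD3_c15))))))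
theorem f107169 : Led Lsl_af (LP (LK LD1_c3 LD2_c15 LD3_c19)) = (LP (LK LD1_c1 LD2_c45 LD3_c12)) :=
  Lgr Lrot0 (Lpr_at (K3.f107166 IH) (Lpn (LP (LK LD1_c1 LD2_c45 LD3_c12))))
theorem f17380 : Led Lsl_bt (LP (LK LD1_c0 LD2_c49 LD3_c20)) = (LP (LK LD1_c1 LD2_c45 LD3_c12)) :=
  Lre_b IH (LK LD1_c0 LD2_c49 LD3_c20) (LK LD1_c1 LD2_c45 LD3_c12) Lrfl Lrfl
theorem f11658 : Led Lsl_bt (LP (LK LD1_c1 LD2_c43 LD3_c15)) = (LP (LK LD1_c0 LD2_c48 LD3_c19)) :=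
  Lre_b IH (LK LD1_c1 LD2_c43 LD3_c15) (LK LD1_c0 LD2_c48 LD3_c19) Lrfl Lrfl
theorem f160094 : Led Lsl_af (LP (LK LD1_c0 LD2_c49 LD3_c20)) = (LP (LK LD1_c0 LD2_c48 LD3_c19)) :=
  Lgr Lrot36 (Lpr_bt (f17380 IH) (Lpe (f107169 IH) (Lpe (K4.f95836 IH) (Lpr_at (f160088 IH) (Lpr_bt (f11658 IH) (Lpn (LP (LK LD1_c0 LD2_c48 LD3_c19))))))))
theorem f17320 : Led Lsl_ct (LP (LK LD1_c0 LD2_c49 LD3_c20)) = (LP (LK LD1_c1 LD2_c45 LD3_c15)) :=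
  Lre_c IH (LK LD1_c0 LD2_c49 LD3_c20) (LK LD1_c1 LD2_c45 LD3_c15) Lrfl Lrfl
theorem f11583 : Led Lsl_ct (LP (LK LD1_c1 LD2_c43 LD3_c19)) = (LP (LK LD1_c0 LD2_c48 LD3_c19)) :=
  Lre_c IH (LK LD1_c1 LD2_c43 LD3_c19) (LK LD1_c0 LD2_c48 LD3_c19) Lrfl Lrfl
theorem f160100 : Led Lsl_at (LP (LK LD1_c1 LD2_c45 LD3_c15)) = (LP (LK LD1_c1 LD2_c43 LD3_c19)) :=
  Lgr Lrot107 (Lpe (f17320 IH) (Lpr_af (f160094 IH) (Lpe (f11583 IH) (Lpn (LP (LK LD1_c1 LD2_c43 LD3_c19))))))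
theorem f160204 : Led Lsl_af (LP (LK LD1_c1 LD2_c45 LD3_c15)) = (LP (LK LD1_c1 LD2_c43 LD3_c19)) :=
  Lgr Lrot0 (Lpr_at (f160100 IH) (Lpn (LP (LK LD1_c1 LD2_c43 LD3_c19))))
theorem f96773 : Led Lsl_et (LP (LK LD1_c1 LD2_c45 LD3_c15)) = (LP (LK LD1_c0 LD2_c49 LD3_c19)) :=
  Lre_e IH (LK LD1_c1 LD2_c45 LD3_c15) (LK LD1_c0 LD2_c49 LD3_c19) Lrfl Lrfl
theorem f96998 : Led Lsl_et (LP (LK LD1_c0 LD2_c48 LD3_c18)) = (LP (LK LD1_c1 LD2_c43 LD3_c19)) :=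
  Lre_e IH (LK LD1_c0 LD2_c48 LD3_c18) (LK LD1_c1 LD2_c43 LD3_c19) Lrfl Lrfl
theorem f160450 : Led Lsl_at (LP (LK LD1_c0 LD2_c49 LD3_c19)) = (LP (LK LD1_c0 LD2_c48 LD3_c18)) :=
  Lgr Lrot80 (Lpe (f96773 IH) (Lpr_af (f160204 IH) (Lpe (f96998 IH) (Lpn (LP (LK LD1_c0 LD2_c48 LD3_c18))))))
theorem f11776 : Led Lsl_at (LP (LK LD1_c1 LD2_c43 LD3_c17)) = (LP (LK LD1_c3 LD2_c33 LD3_c4)) :=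
  Lre_a IH (LK LD1_c1 LD2_c43 LD3_c17) (LK LD1_c3 LD2_c33 LD3_c4) Lrfl Lrfl
theorem f160461 : Led Lsl_bf (LP (LK LD1_c3 LD2_c36 LD3_c45)) = (LP (LK LD1_c3 LD2_c33 LD3_c4)) :=
  Lgr Lrot81 (Lpr_at (K5.f17405 IH) (Lpr_bt (K3.f17307 IH) (Lpr_at (f160450 IH) (Lpr_bt (f6684 IH) (Lpr_at (f11776 IH) (Lpn (LP (LK LD1_c3 LD2_c33 LD3_c4))))))))
theorem f127860 : Led Lsl_ff (LP (LK LD1_c3 LD2_c33 LD3_c20)) = (LP (LK LD1_c3 LD2_c36 LD3_c45)) :=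
  Lgr Lrot3 (Lpr_ft (K5.f127845 IH) (Lpn (LP (LK LD1_c3 LD2_c36 LD3_c45))))
theorem f128183 : Led Lsl_at (LP (LK LD1_c3 LD2_c36 LD3_c37)) = (LP (LK LD1_c1 LD2_c45 LD3_c9)) :=
  Lre_a IH (LK LD1_c3 LD2_c36 LD3_c37) (LK LD1_c1 LD2_c45 LD3_c9) Lrfl Lrfl
theorem f104074 : Led Lsl_at (LP (LK LD1_c1 LD2_c43 LD3_c25)) = (LP (LK LD1_c3 LD2_c33 LD3_c20)) :=
  Lre_a IH (LK LD1_c1 LD2_c43 LD3_c25) (LK LD1_c3 LD2_c33 LD3_c20) Lrfl Lrfl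
theorem f128184 : Led Lsl_bf (LP (LK LD1_c3 LD2_c36 LD3_c37)) = (LP (LK LD1_c3 LD2_c33 LD3_c20)) :=
  Lgr Lrot81 (Lpr_at (f128183 IH) (Lpr_bt (f88495 IH) (Lpr_at (K5.f128177 IH) (Lpr_bt (K3.f6679 IH) (Lpr_at (f104074 IH) (Lpn (LP (LK LD1_c3 LD2_c33 LD3_c20))))))))
theorem f160467 : Led Lsl_ft (LP (LK LD1_c3 LD2_c36 LD3_c37)) = (LP (LK LD1_c3 LD2_c33 LD3_c4)) :=
  Lgr Lrot75 (Lpr_bf (f128184 IH) (Lpr_ff (f127860 IH) (Lpr_bf (f160461 IH) (Lpn (LP (LK LD1_c3 LD2_c33 LD3_c4))))))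
theorem f160470 : Led Lsl_ff (LP (LK LD1_c3 LD2_c36 LD3_c37)) = (LP (LK LD1_c3 LD2_c33 LD3_c4)) :=
  Lgr Lrot3 (Lpr_ft (f160467 IH) (Lpn (LP (LK LD1_c3 LD2_c33 LD3_c4))))
theorem f160475 : Led Lsl_gf (LP (LK LD1_c3 LD2_c36 LD3_c36)) = (LP (LK LD1_c3 LD2_c33 LD3_c4)) :=
  Lgr Lrot47 (Lpr_gt (f10239 IH) (Lpe (f128183 IH) (Lpr_ff (f160470 IH) (Lpn (LP (LK LD1_c3 LD2_c33 LD3_c4))))))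
theorem f142703 : Led Lsl_cf (LP (LK LD1_c1 LD2_c45 LD3_c9)) = (LP (LK LD1_c1 LD2_c53 LD3_c42)) :=
  Lgr Lrot97 (Lpr_bt (f88495 IH) (Lpr_ct (K3.f6105 IH) (Lpr_bt (K4.f88619 IH) (Lpr_ct (K6.f142698 IH) (Lpr_bt (f142702 IH) (Lpn (LP (LK LD1_c1 LD2_c53 LD3_c42))))))))
theorem f90082 : Led Lsl_bt (LP (LK LD1_c1 LD2_c53 LD3_c42)) = (LP (LK LD1_c0 LD2_c53 LD3_c26)) :=
  Lre_b IH (LK LD1_c1 LD2_c53 LD3_c42) (LK LD1_c0 LD2_c53 LD3_c26) Lrfl Lrfl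
theorem f12404 : Led Lsl_bt (LP (LK LD1_c0 LD2_c50 LD3_c18)) = (LP (LK LD1_c1 LD2_c47 LD3_c1)) :=
  Lre_b IH (LK LD1_c0 LD2_c50 LD3_c18) (LK LD1_c1 LD2_c47 LD3_c1) Lrfl Lrfl
theorem f36494 : Led Lsl_gt (LP (LK LD1_c1 LD2_c47 LD3_c1)) = (LP (LK LD1_c3 LD2_c40 LD3_c5)) :=
  Lre_g IH (LK LD1_c1 LD2_c47 LD3_c1) (LK LD1_c3 LD2_c40 LD3_c5) Lrfl Lrfl
theorem f160592 : Led Lsl_bt (LP (LK LD1_c3 LD2_c42 LD3_c13)) = (LP (LK LD1_c3 LD2_c40 LD3_c5)) :=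
  Lgr Lrot92 (Lpr_ct (f159807 IH) (Lpr_gt (f10239 IH) (Lpr_cf (f142703 IH) (Lpr_bt (f90082 IH) (Lpr_gt (K6.f21101 IH) (Lpr_ct (K4.f12181 IH) (Lpr_gt (K5.f90077 IH) (Lpe (K4.f12359 IH) (Lpr_bt (f12404 IH) (Lpr_gt (f36494 IH) (Lpn (LP (LK LD1_c3 LD2_c40 LD3_c5)))))))))))))
theorem f159383 : Led Lsl_ff (LP (LK LD1_c1 LD2_c48 LD3_c6)) = (LP (LK LD1_c1 LD2_c47 LD3_c1)) :=
  Lgr Lrot25 (Lpr_bt (f26190 IH) (Lpr_ft (f159379 IH) (Lpr_bt (f12404 IH) (Lpn (LP (LK LD1_c1 LD2_c47 LD3_c1))))))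
theorem f108083 : Led Lsl_at (LP (LK LD1_c1 LD2_c48 LD3_c6)) = (LP (LK LD1_c3 LD2_c42 LD3_c15)) :=
  Lre_a IH (LK LD1_c1 LD2_c48 LD3_c6) (LK LD1_c3 LD2_c42 LD3_c15) Lrfl Lrfl
theorem f159505 : Led Lsl_gf (LP (LK LD1_c3 LD2_c42 LD3_c15)) = (LP (LK LD1_c3 LD2_c40 LD3_c5)) :=
  Lgr Lrot76 (Lpe (f108083 IH) (Lpr_ff (f159383 IH) (Lpr_gt (f36494 IH) (Lpn (LP (LK LD1_c3 LD2_c40 LD3_c5))))))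
theorem f108088 : Led Lsl_at (LP (LK LD1_c3 LD2_c42 LD3_c15)) = (LP (LK LD1_c1 LD2_c48 LD3_c6)) :=
  Lre_a IH (LK LD1_c3 LD2_c42 LD3_c15) (LK LD1_c1 LD2_c48 LD3_c6) Lrfl Lrfl
theorem f159368 : Led Lsl_at (LP (LK LD1_c1 LD2_c47 LD3_c12)) = (LP (LK LD1_c3 LD2_c40 LD3_c30)) :=
  Lre_a IH (LK LD1_c1 LD2_c47 LD3_c12) (LK LD1_c3 LD2_c40 LD3_c30) Lrfl Lrfl
theorem f159369 : Led Lsl_bf (LP (LK LD1_c3 LD2_c42 LD3_c15)) = (LP (LK LD1_c3 LD2_c40 LD3_c30)) :=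
  Lgr Lrot81 (Lpr_at (f108088 IH) (Lpr_bt (f26190 IH) (Lpr_at (f159364 IH) (Lpr_bt (K6.f95909 IH) (Lpr_at (f159368 IH) (Lpn (LP (LK LD1_c3 LD2_c40 LD3_c30))))))))
theorem f159463 : Led Lsl_ct (LP (LK LD1_c3 LD2_c40 LD3_c30)) = (LP (LK LD1_c7 LD2_c21 LD3_c1)) :=
  Lre_c IH (LK LD1_c3 LD2_c40 LD3_c30) (LK LD1_c7 LD2_c21 LD3_c1) Lrfl Lrfl
theorem f162766 : Led Lsl_gf (LP (LK LD1_c6 LD2_c54 LD3_c41)) = (LP (LK LD1_c7 LD2_c21 LD3_c1)) :=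
  Lgr Lrot126 (Lpr_cf (f162753 IH) (Lpe (f162764 IH) (Lpr_gt (f159799 IH) (Lpr_ct (f11763 IH) (Lpe (f160475 IH) (Lpe (f159807 IH) (Lpr_bt (f160592 IH) (Lpe (f159505 IH) (Lpr_bf (f159369 IH) (Lpr_ct (f159463 IH) (Lpn (LP (LK LD1_c7 LD2_c21 LD3_c1)))))))))))))
theorem f142328 : Led Lsl_bf (LP (LK LD1_c3 LD2_c42 LD3_c36)) = (LP (LK LD1_c7 LD2_c25 LD3_c1)) :=
  Lgr Lrot34 (Lpe (K6.f142327 IH) (Lpe (K6.f121004 IH) (Lpr_ct (K4.f120982 IH) (Lpe (K6.f142285 IH) (Lpe (K6.f134724 IH) (Lpr_gf (K6.f142320 IH) (Lpe (K5.f121009 IH) (Lpe (K5.f121205 IH) (Lpe (K5.f88234 IH) (Lpe (K6.f127937 IH) (Lpn (LP (LK LD1_c7 LD2_c25 LD3_c1)))))))))))))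
theorem f162770 : Led Lsl_gt (LP (LK LD1_c3 LD2_c42 LD3_c36)) = (LP (LK LD1_c3 LD2_c40 LD3_c30)) :=
  Lgr Lrot82 (Lpr_bf (f142328 IH) (Lpr_ct (K6.f127937 IH) (Lpe (K5.f127926 IH) (Lpe (K5.f129376 IH) (Lpr_bt (f147587 IH) (Lpe (f159799 IH) (Lpr_bf (f162764 IH) (Lpe (f162753 IH) (Lpr_gf (f162766 IH) (Lpe (f159463 IH) (Lpn (LP (LK LD1_c3 LD2_c40 LD3_c30)))))))))))))
theorem f135952 : Led Lsl_et (LP (LK LD1_c1 LD2_c52 LD3_c6)) = (LP (LK LD1_c3 LD2_c50 LD3_c23)) :=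
  Lre_e IH (LK LD1_c1 LD2_c52 LD3_c6) (LK LD1_c3 LD2_c50 LD3_c23) Lrfl Lrfl
theorem f136351 : Led Lsl_dt (LP (LK LD1_c3 LD2_c50 LD3_c23)) = (LP (LK LD1_c7 LD2_c41 LD3_c52)) :=
  Lre_d IH (LK LD1_c3 LD2_c50 LD3_c23) (LK LD1_c7 LD2_c41 LD3_c52) Lrfl Lrfl
theorem f135937 : Led Lsl_et (LP (LK LD1_c6 LD2_c0 LD3_c4)) = (LP (LK LD1_c2 LD2_c56 LD3_c21)) :=
  Lre_e IH (LK LD1_c6 LD2_c0 LD3_c4) (LK LD1_c2 LD2_c56 LD3_c21) Lrfl Lrfl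
theorem f136929 : Led Lsl_dt (LP (LK LD1_c11 LD2_c44 LD3_c38)) = (LP (LK LD1_c6 LD2_c0 LD3_c4)) :=
  Lre_d IH (LK LD1_c11 LD2_c44 LD3_c38) (LK LD1_c6 LD2_c0 LD3_c4) Lrfl Lrfl
theorem f136930 : Led Lsl_et (LP (LK LD1_c7 LD2_c41 LD3_c52)) = (LP (LK LD1_c11 LD2_c44 LD3_c38)) :=
  Lgr Lrot71 (Lpe (f136351 IH) (Lpe (f135952 IH) (Lpr_df (K6.f136924 IH) (Lpe (f135937 IH) (Lpe (f136929 IH) (Lpn (LP (LK LD1_c11 LD2_c44 LD3_c38))))))))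
theorem f137205 : Led Lsl_ef (LP (LK LD1_c7 LD2_c41 LD3_c52)) = (LP (LK LD1_c11 LD2_c44 LD3_c38)) :=
  Lgr Lrot88 (Lpr_et (f136930 IH) (Lpn (LP (LK LD1_c11 LD2_c44 LD3_c38))))
theorem f137207 : Led Lsl_bt (LP (LK LD1_c7 LD2_c41 LD3_c52)) = (LP (LK LD1_c14 LD2_c30 LD3_c36)) :=
  Lre_b IH (LK LD1_c7 LD2_c41 LD3_c52) (LK LD1_c14 LD2_c30 LD3_c36) Lrfl Lrfl
theorem f137208 : Led Lsl_bt (LP (LK LD1_c20 LD2_c45 LD3_c61)) = (LP (LK LD1_c11 LD2_c44 LD3_c38)) :=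
  Lre_b IH (LK LD1_c20 LD2_c45 LD3_c61) (LK LD1_c11 LD2_c44 LD3_c38) Lrfl Lrfl
theorem f137209 : Led Lsl_et (LP (LK LD1_c14 LD2_c30 LD3_c36)) = (LP (LK LD1_c20 LD2_c45 LD3_c61)) :=
  Lgr Lrot74 (Lpe (f137207 IH) (Lpr_ef (f137205 IH) (Lpe (f137208 IH) (Lpn (LP (LK LD1_c20 LD2_c45 LD3_c61))))))
theorem f96157 : Led Lsl_dt (LP (LK LD1_c7 LD2_c41 LD3_c51)) = (LP (LK LD1_c14 LD2_c30 LD3_c36)) :=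
  Lre_d IH (LK LD1_c7 LD2_c41 LD3_c51) (LK LD1_c14 LD2_c30 LD3_c36) Lrfl Lrfl
theorem f96162 : Led Lsl_et (LP (LK LD1_c3 LD2_c50 LD3_c22)) = (LP (LK LD1_c7 LD2_c41 LD3_c51)) :=
  Lre_e IH (LK LD1_c3 LD2_c50 LD3_c22) (LK LD1_c7 LD2_c41 LD3_c51) Lrfl Lrfl
theorem f137214 : Led Lsl_dt (LP (LK LD1_c20 LD2_c45 LD3_c61)) = (LP (LK LD1_c11 LD2_c44 LD3_c37)) :=
  Lre_d IH (LK LD1_c20 LD2_c45 LD3_c61) (LK LD1_c11 LD2_c44 LD3_c37) Lrfl Lrfl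
theorem f137215 : Led Lsl_et (LP (LK LD1_c11 LD2_c44 LD3_c37)) = (LP (LK LD1_c6 LD2_c0 LD3_c3)) :=
  Lre_e IH (LK LD1_c11 LD2_c44 LD3_c37) (LK LD1_c6 LD2_c0 LD3_c3) Lrfl Lrfl
theorem f137216 : Led Lsl_df (LP (LK LD1_c3 LD2_c50 LD3_c22)) = (LP (LK LD1_c6 LD2_c0 LD3_c3)) :=
  Lgr Lrot70 (Lpr_et (f96162 IH) (Lpr_dt (f96157 IH) (Lpr_et (f137209 IH) (Lpr_dt (f137214 IH) (Lpr_et (f137215 IH) (Lpn (LP (LK LD1_c6 LD2_c0 LD3_c3))))))))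
theorem f72664 : Led Lsl_ct (LP (LK LD1_c2 LD2_c56 LD3_c23)) = (LP (LK LD1_c6 LD2_c0 LD3_c3)) :=
  Lre_c IH (LK LD1_c2 LD2_c56 LD3_c23) (LK LD1_c6 LD2_c0 LD3_c3) Lrfl Lrfl
theorem f107513 : Led Lsl_cf (LP (LK LD1_c3 LD2_c7 LD3_c31)) = (LP (LK LD1_c2 LD2_c20 LD3_c54)) :=
  Lgr Lrot11 (Lpr_ct (K3.f107509 IH) (Lpn (LP (LK LD1_c2 LD2_c20 LD3_c54))))
theorem f72645 : Led Lsl_ct (LP (LK LD1_c1 LD2_c24 LD3_c3)) = (LP (LK LD1_c0 LD2_c38 LD3_c49)) :=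
  Lre_c IH (LK LD1_c1 LD2_c24 LD3_c3) (LK LD1_c0 LD2_c38 LD3_c49) Lrfl Lrfl
theorem f76143 : Led Lsl_bt (LP (LK LD1_c1 LD2_c24 LD3_c3)) = (LP (LK LD1_c2 LD2_c56 LD3_c23)) :=
  Lre_b IH (LK LD1_c1 LD2_c24 LD3_c3) (LK LD1_c2 LD2_c56 LD3_c23) Lrfl Lrfl
theorem f110359 : Led Lsl_gt (LP (LK LD1_c4 LD2_c45 LD3_c36)) = (LP (LK LD1_c2 LD2_c56 LD3_c23)) :=
  Lgr Lrot164 (Lpe (K4.f103009 IH) (Lpe (f107513 IH) (Lpr_gf (K4.f110354 IH) (Lpe (K4.f102118 IH) (Lpe (K3.f72660 IH) (Lpe (K4.f72659 IH) (Lpr_ct (K2.f69350 IH) (Lpe (K6.f56766 IH) (Lpe (f72645 IH) (Lpr_bt (f76143 IH) (Lpn (LP (LK LD1_c2 LD2_c56 LD3_c23)))))))))))))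
theorem f120626 : Led Lsl_ct (LP (LK LD1_c3 LD2_c19 LD3_c46)) = (LP (LK LD1_c4 LD2_c45 LD3_c36)) :=
  Lgr Lrot59 (Lpr_cf (K4.f120622 IH) (Lpn (LP (LK LD1_c4 LD2_c45 LD3_c36))))
theorem f120305 : Led Lsl_ct (LP (LK LD1_c6 LD2_c43 LD3_c20)) = (LP (LK LD1_c12 LD2_c51 LD3_c34)) :=
  Lre_c IH (LK LD1_c6 LD2_c43 LD3_c20) (LK LD1_c12 LD2_c51 LD3_c34) Lrfl Lrfl
theorem f14025 : Led Lsl_dt (LP (LK LD1_c4 LD2_c45 LD3_c18)) = (LP (LK LD1_c9 LD2_c23 LD3_c19)) :=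
  Lre_d IH (LK LD1_c4 LD2_c45 LD3_c18) (LK LD1_c9 LD2_c23 LD3_c19) Lrfl Lrfl
theorem f14046 : Led Lsl_at (LP (LK LD1_c11 LD2_c45 LD3_c58)) = (LP (LK LD1_c6 LD2_c0 LD3_c47)) :=
  Lre_a IH (LK LD1_c11 LD2_c45 LD3_c58) (LK LD1_c6 LD2_c0 LD3_c47) Lrfl Lrfl
theorem f14110 : Led Lsl_ff (LP (LK LD1_c11 LD2_c45 LD3_c58)) = (LP (LK LD1_c11 LD2_c43 LD3_c15)) :=
  Lgr Lrot30 (Lpr_at (f14046 IH) (Lpr_ft (K0.f14004 IH) (Lpr_at (K7.f14088 IH) (Lpn (LP (LK LD1_c11 LD2_c43 LD3_c15))))))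
theorem f14122 : Led Lsl_ft (LP (LK LD1_c11 LD2_c45 LD3_c58)) = (LP (LK LD1_c11 LD2_c43 LD3_c15)) :=
  Lgr Lrot48 (Lpr_ff (f14110 IH) (Lpn (LP (LK LD1_c11 LD2_c43 LD3_c15))))
theorem f14128 : Led Lsl_ft (LP (LK LD1_c5 LD2_c59 LD3_c21)) = (LP (LK LD1_c9 LD2_c23 LD3_c19)) :=
  Lre_f IH (LK LD1_c5 LD2_c59 LD3_c21) (LK LD1_c9 LD2_c23 LD3_c19) Lrfl Lrfl
theorem f14129 : Led Lsl_cf (LP (LK LD1_c11 LD2_c45 LD3_c58)) = (LP (LK LD1_c9 LD2_c23 LD3_c19)) :=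
  Lgr Lrot108 (Lpr_ft (f14122 IH) (Lpr_ct (K4.f14104 IH) (Lpr_ft (f14128 IH) (Lpn (LP (LK LD1_c9 LD2_c23 LD3_c19))))))
theorem f77166 : Led Lsl_bt (LP (LK LD1_c4 LD2_c59 LD3_c48)) = (LP (LK LD1_c3 LD2_c22 LD3_c40)) :=
  Lre_b IH (LK LD1_c4 LD2_c59 LD3_c48) (LK LD1_c3 LD2_c22 LD3_c40) Lrfl Lrfl
theorem f14118 : Led Lsl_bt (LP (LK LD1_c5 LD2_c59 LD3_c21)) = (LP (LK LD1_c2 LD2_c56 LD3_c3)) :=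
  Lre_b IH (LK LD1_c5 LD2_c59 LD3_c21) (LK LD1_c2 LD2_c56 LD3_c3) Lrfl Lrfl
theorem f77167 : Led Lsl_bt (LP (LK LD1_c6 LD2_c21 LD3_c5)) = (LP (LK LD1_c11 LD2_c43 LD3_c15)) :=
  Lgr Lrot128 (Lpr_cf (K2.f77160 IH) (Lpe (f77166 IH) (Lpe (K4.f14357 IH) (Lpe (f14118 IH) (Lpe (K4.f14104 IH) (Lpn (LP (LK LD1_c11 LD2_c43 LD3_c15))))))))
theorem f77228 : Led Lsl_bt (LP (LK LD1_c11 LD2_c45 LD3_c58)) = (LP (LK LD1_c6 LD2_c21 LD3_c8)) :=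
  Lgr Lrot35 (Lpr_ff (f14110 IH) (Lpe (f77167 IH) (Lpr_ff (K3.f77226 IH) (Lpn (LP (LK LD1_c6 LD2_c21 LD3_c8))))))
theorem f88531 : Led Lsl_gt (LP (LK LD1_c1 LD2_c50 LD3_c37)) = (LP (LK LD1_c3 LD2_c46 LD3_c61)) :=
  Lre_g IH (LK LD1_c1 LD2_c50 LD3_c37) (LK LD1_c3 LD2_c46 LD3_c61) Lrfl Lrfl
theorem f120634 : Led Lsl_df (LP (LK LD1_c6 LD2_c43 LD3_c20)) = (LP (LK LD1_c3 LD2_c46 LD3_c61)) :=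
  Lgr Lrot183 (Lpr_ct (f120305 IH) (Lpr_bt (K7.f120630 IH) (Lpr_gt (K7.f14146 IH) (Lpr_dt (f14025 IH) (Lpe (f14129 IH) (Lpr_bt (f77228 IH) (Lpe (K3.f79330 IH) (Lpr_dt (K3.f23340 IH) (Lpr_ct (K3.f23339 IH) (Lpr_bt (K3.f65393 IH) (Lpr_gt (K1.f65387 IH) (Lpr_dt (K2.f62947 IH) (Lpr_ct (K4.f13676 IH) (Lpr_bt (K6.f11389 IH) (Lpe (K2.f87569 IH) (Lpe (K2.f88462 IH) (Lpr_ct (K3.f63719 IH) (Lpr_bt (K3.f87919 IH) (Lpr_gt (f88531 IH) (Lpn (LP (LK LD1_c3 LD2_c46 LD3_c61))))))))))))))))))))))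
theorem f137219 : Led Lsl_gf (LP (LK LD1_c1 LD2_c51 LD3_c43)) = (LP (LK LD1_c3 LD2_c46 LD3_c61)) :=
  Lgr Lrot147 (Lpr_ct (K3.f88584 IH) (Lpe (K6.f88595 IH) (Lpe (K6.f96148 IH) (Lpr_df (f137216 IH) (Lpe (f72664 IH) (Lpe (f110359 IH) (Lpe (f120626 IH) (Lpe (K7.f103535 IH) (Lpr_df (f120634 IH) (Lpn (LP (LK LD1_c3 LD2_c46 LD3_c61))))))))))))
theorem f159462 : Led Lsl_ct (LP (LK LD1_c7 LD2_c21 LD3_c1)) = (LP (LK LD1_c3 LD2_c40 LD3_c30)) :=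
  Lre_c IH (LK LD1_c7 LD2_c21 LD3_c1) (LK LD1_c3 LD2_c40 LD3_c30) Lrfl Lrfl
theorem f162783 : Led Lsl_bf (LP (LK LD1_c3 LD2_c46 LD3_c61)) = (LP (LK LD1_c7 LD2_c21 LD3_c1)) :=
  Lgr Lrot156 (Lpe (f137219 IH) (Lpr_bf (K3.f89765 IH) (Lpe (K5.f89767 IH) (Lpe (K5.f129923 IH) (Lpr_cf (K4.f116692 IH) (Lpe (K4.f116661 IH) (Lpr_gt (K6.f137234 IH) (Lpe (K6.f142525 IH) (Lpr_gt (f162770 IH) (Lpe (f159462 IH) (Lpn (LP (LK LD1_c7 LD2_c21 LD3_c1)))))))))))))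
theorem f120642 : Led Lsl_et (LP (LK LD1_c3 LD2_c46 LD3_c61)) = (LP (LK LD1_c7 LD2_c34 LD3_c50)) :=
  Lre_e IH (LK LD1_c3 LD2_c46 LD3_c61) (LK LD1_c7 LD2_c34 LD3_c50) Lrfl Lrfl
theorem f162772 : Led Lsl_et (LP (LK LD1_c13 LD2_c53 LD3_c54)) = (LP (LK LD1_c7 LD2_c21 LD3_c1)) :=
  Lre_e IH (LK LD1_c13 LD2_c53 LD3_c54) (LK LD1_c7 LD2_c21 LD3_c1) Lrfl Lrfl
theorem f162794 : Led Lsl_bt (LP (LK LD1_c7 LD2_c34 LD3_c50)) = (LP (LK LD1_c13 LD2_c53 LD3_c54)) :=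
  Lgr Lrot119 (Lpe (f120642 IH) (Lpr_bf (f162783 IH) (Lpe (f162772 IH) (Lpn (LP (LK LD1_c13 LD2_c53 LD3_c54))))))
theorem f162798 : Led Lsl_bf (LP (LK LD1_c7 LD2_c34 LD3_c50)) = (LP (LK LD1_c13 LD2_c53 LD3_c54)) :=
  Lgr Lrot24 (Lpr_bt (f162794 IH) (Lpn (LP (LK LD1_c13 LD2_c53 LD3_c54))))
theorem f160386 : Led Lsl_ct (LP (LK LD1_c7 LD2_c21 LD3_c9)) = (LP (LK LD1_c13 LD2_c53 LD3_c54)) :=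
  Lre_c IH (LK LD1_c7 LD2_c21 LD3_c9) (LK LD1_c13 LD2_c53 LD3_c54) Lrfl Lrfl
theorem f26203 : Led Lsl_bt (LP (LK LD1_c1 LD2_c48 LD3_c8)) = (LP (LK LD1_c3 LD2_c42 LD3_c17)) :=
  Lre_b IH (LK LD1_c1 LD2_c48 LD3_c8) (LK LD1_c3 LD2_c42 LD3_c17) Lrfl Lrfl
theorem f108132 : Led Lsl_at (LP (LK LD1_c3 LD2_c42 LD3_c17)) = (LP (LK LD1_c7 LD2_c25 LD3_c11)) :=
  Lre_a IH (LK LD1_c3 LD2_c42 LD3_c17) (LK LD1_c7 LD2_c25 LD3_c11) Lrfl Lrfl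
theorem f159358 : Led Lsl_bt (LP (LK LD1_c3 LD2_c40 LD3_c32)) = (LP (LK LD1_c1 LD2_c47 LD3_c14)) :=
  Lre_b IH (LK LD1_c3 LD2_c40 LD3_c32) (LK LD1_c1 LD2_c47 LD3_c14) Lrfl Lrfl
theorem f159359 : Led Lsl_at (LP (LK LD1_c7 LD2_c21 LD3_c9)) = (LP (LK LD1_c3 LD2_c40 LD3_c32)) :=
  Lre_a IH (LK LD1_c7 LD2_c21 LD3_c9) (LK LD1_c3 LD2_c40 LD3_c32) Lrfl Lrfl
theorem f159360 : Led Lsl_bt (LP (LK LD1_c7 LD2_c25 LD3_c11)) = (LP (LK LD1_c7 LD2_c21 LD3_c9)) :=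
  Lgr Lrot62 (Lpe (f108132 IH) (Lpe (f26203 IH) (Lpr_af (f159353 IH) (Lpe (f159358 IH) (Lpe (f159359 IH) (Lpn (LP (LK LD1_c7 LD2_c21 LD3_c9))))))))
theorem f10508 : Led Lsl_et (LP (LK LD1_c1 LD2_c43 LD3_c33)) = (LP (LK LD1_c0 LD2_c48 LD3_c24)) :=
  Lre_e IH (LK LD1_c1 LD2_c43 LD3_c33) (LK LD1_c0 LD2_c48 LD3_c24) Lrfl Lrfl
theorem f108025 : Led Lsl_cf (LP (LK LD1_c1 LD2_c43 LD3_c33)) = (LP (LK LD1_c1 LD2_c46 LD3_c4)) :=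
  Lgr Lrot39 (Lpr_et (f10508 IH) (Lpr_ct (f108021 IH) (Lpr_et (K5.f26192 IH) (Lpn (LP (LK LD1_c1 LD2_c46 LD3_c4))))))
theorem f108032 : Led Lsl_ct (LP (LK LD1_c1 LD2_c43 LD3_c33)) = (LP (LK LD1_c1 LD2_c46 LD3_c4)) :=
  Lgr Lrot59 (Lpr_cf (f108025 IH) (Lpn (LP (LK LD1_c1 LD2_c46 LD3_c4))))
theorem f108043 : Led Lsl_bt (LP (LK LD1_c3 LD2_c33 LD3_c38)) = (LP (LK LD1_c1 LD2_c43 LD3_c33)) :=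
  Lre_b IH (LK LD1_c3 LD2_c33 LD3_c38) (LK LD1_c1 LD2_c43 LD3_c33) Lrfl Lrfl
theorem f26191 : Led Lsl_et (LP (LK LD1_c0 LD2_c50 LD3_c49)) = (LP (LK LD1_c0 LD2_c22 LD3_c57)) :=
  Lre_e IH (LK LD1_c0 LD2_c50 LD3_c49) (LK LD1_c0 LD2_c22 LD3_c57) Lrfl Lrfl
theorem f26193 : Led Lsl_bf (LP (LK LD1_c0 LD2_c50 LD3_c49)) = (LP (LK LD1_c1 LD2_c46 LD3_c4)) :=
  Lgr Lrot96 (Lpr_et (f26191 IH) (Lpr_bt (K4.f26185 IH) (Lpr_et (K5.f26192 IH) (Lpn (LP (LK LD1_c1 LD2_c46 LD3_c4))))))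
theorem f26202 : Led Lsl_ct (LP (LK LD1_c0 LD2_c50 LD3_c49)) = (LP (LK LD1_c1 LD2_c48 LD3_c8)) :=
  Lre_c IH (LK LD1_c0 LD2_c50 LD3_c49) (LK LD1_c1 LD2_c48 LD3_c8) Lrfl Lrfl
theorem f108044 : Led Lsl_cf (LP (LK LD1_c3 LD2_c33 LD3_c38)) = (LP (LK LD1_c3 LD2_c42 LD3_c17)) :=
  Lgr Lrot97 (Lpr_bt (f108043 IH) (Lpr_ct (f108032 IH) (Lpe (f26193 IH) (Lpr_ct (f26202 IH) (Lpr_bt (f26203 IH) (Lpn (LP (LK LD1_c3 LD2_c42 LD3_c17))))))))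
theorem f108052 : Led Lsl_at (LP (LK LD1_c3 LD2_c33 LD3_c38)) = (LP (LK LD1_c7 LD2_c8 LD3_c3)) :=
  Lre_a IH (LK LD1_c3 LD2_c33 LD3_c38) (LK LD1_c7 LD2_c8 LD3_c3) Lrfl Lrfl
theorem f108053 : Led Lsl_at (LP (LK LD1_c7 LD2_c25 LD3_c11)) = (LP (LK LD1_c3 LD2_c42 LD3_c17)) :=
  Lre_a IH (LK LD1_c7 LD2_c25 LD3_c11) (LK LD1_c3 LD2_c42 LD3_c17) Lrfl Lrfl
theorem f108054 : Led Lsl_ct (LP (LK LD1_c7 LD2_c8 LD3_c3)) = (LP (LK LD1_c7 LD2_c25 LD3_c11)) :=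
  Lgr Lrot111 (Lpe (f108052 IH) (Lpr_cf (f108044 IH) (Lpe (f108053 IH) (Lpn (LP (LK LD1_c7 LD2_c25 LD3_c11))))))
theorem f160208 : Led Lsl_ft (LP (LK LD1_c3 LD2_c36 LD3_c52)) = (LP (LK LD1_c1 LD2_c45 LD3_c15)) :=
  Lre_f IH (LK LD1_c3 LD2_c36 LD3_c52) (LK LD1_c1 LD2_c45 LD3_c15) Lrfl Lrfl
theorem f128203 : Led Lsl_ft (LP (LK LD1_c1 LD2_c43 LD3_c19)) = (LP (LK LD1_c3 LD2_c33 LD3_c12)) :=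
  Lre_f IH (LK LD1_c1 LD2_c43 LD3_c19) (LK LD1_c3 LD2_c33 LD3_c12) Lrfl Lrfl
theorem f160209 : Led Lsl_af (LP (LK LD1_c3 LD2_c36 LD3_c52)) = (LP (LK LD1_c3 LD2_c33 LD3_c12)) :=
  Lgr Lrot45 (Lpr_ft (f160208 IH) (Lpr_at (f160100 IH) (Lpr_ft (f128203 IH) (Lpn (LP (LK LD1_c3 LD2_c33 LD3_c12))))))
theorem f11605 : Led Lsl_gt (LP (LK LD1_c1 LD2_c43 LD3_c19)) = (LP (LK LD1_c3 LD2_c33 LD3_c9)) :=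
  Lre_g IH (LK LD1_c1 LD2_c43 LD3_c19) (LK LD1_c3 LD2_c33 LD3_c9) Lrfl Lrfl
theorem f160225 : Led Lsl_gf (LP (LK LD1_c3 LD2_c36 LD3_c52)) = (LP (LK LD1_c3 LD2_c33 LD3_c9)) :=
  Lgr Lrot76 (Lpr_af (f160209 IH) (Lpe (f128203 IH) (Lpr_gt (f11605 IH) (Lpn (LP (LK LD1_c3 LD2_c33 LD3_c9))))))
theorem f107973 : Led Lsl_dt (LP (LK LD1_c3 LD2_c36 LD3_c52)) = (LP (LK LD1_c7 LD2_c13 LD3_c59)) :=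
  Lre_d IH (LK LD1_c3 LD2_c36 LD3_c52) (LK LD1_c7 LD2_c13 LD3_c59) Lrfl Lrfl
theorem f108549 : Led Lsl_et (LP (LK LD1_c7 LD2_c7 LD3_c14)) = (LP (LK LD1_c3 LD2_c33 LD3_c9)) :=
  Lre_e IH (LK LD1_c7 LD2_c7 LD3_c14) (LK LD1_c3 LD2_c33 LD3_c9) Lrfl Lrfl
theorem f108547 : Led Lsl_gf (LP (LK LD1_c1 LD2_c44 LD3_c42)) = (LP (LK LD1_c0 LD2_c49 LD3_c9)) :=
  Lgr Lrot47 (Lpr_gt (K3.f19355 IH) (Lpr_af (K3.f108537 IH) (Lpe (K3.f108506 IH) (Lpn (LP (LK LD1_c0 LD2_c49 LD3_c9))))))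
theorem f94496 : Led Lsl_et (LP (LK LD1_c1 LD2_c44 LD3_c57)) = (LP (LK LD1_c0 LD2_c49 LD3_c9)) :=
  Lre_e IH (LK LD1_c1 LD2_c44 LD3_c57) (LK LD1_c0 LD2_c49 LD3_c9) Lrfl Lrfl
theorem f94497 : Led Lsl_dt (LP (LK LD1_c1 LD2_c44 LD3_c57)) = (LP (LK LD1_c3 LD2_c36 LD3_c10)) :=
  Lre_d IH (LK LD1_c1 LD2_c44 LD3_c57) (LK LD1_c3 LD2_c36 LD3_c10) Lrfl Lrfl
theorem f108468 : Led Lsl_gt (LP (LK LD1_c7 LD2_c12 LD3_c43)) = (LP (LK LD1_c3 LD2_c36 LD3_c10)) :=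
  Lre_g IH (LK LD1_c7 LD2_c12 LD3_c43) (LK LD1_c3 LD2_c36 LD3_c10) Lrfl Lrfl
theorem f108550 : Led Lsl_dt (LP (LK LD1_c7 LD2_c7 LD3_c14)) = (LP (LK LD1_c7 LD2_c12 LD3_c43)) :=
  Lgr Lrot136 (Lpr_et (f108549 IH) (Lpe (f11605 IH) (Lpe (f96998 IH) (Lpr_dt (K3.f11539 IH) (Lpe (K3.f11537 IH) (Lpe (K3.f98478 IH) (Lpr_gf (f108547 IH) (Lpe (f94496 IH) (Lpr_dt (f94497 IH) (Lpe (f108468 IH) (Lpn (LP (LK LD1_c7 LD2_c12 LD3_c43)))))))))))))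
theorem f108315 : Led Lsl_dt (LP (LK LD1_c3 LD2_c36 LD3_c10)) = (LP (LK LD1_c1 LD2_c44 LD3_c57)) :=
  Lre_d IH (LK LD1_c3 LD2_c36 LD3_c10) (LK LD1_c1 LD2_c44 LD3_c57) Lrfl Lrfl
theorem f98547 : Led Lsl_dt (LP (LK LD1_c1 LD2_c42 LD3_c53)) = (LP (LK LD1_c3 LD2_c32 LD3_c23)) :=
  Lre_d IH (LK LD1_c1 LD2_c42 LD3_c53) (LK LD1_c3 LD2_c32 LD3_c23) Lrfl Lrfl
theorem f108316 : Led Lsl_af (LP (LK LD1_c3 LD2_c36 LD3_c10)) = (LP (LK LD1_c3 LD2_c32 LD3_c23)) :=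
  Lgr Lrot117 (Lpr_dt (f108315 IH) (Lpr_at (K3.f108308 IH) (Lpr_dt (f98547 IH) (Lpn (LP (LK LD1_c3 LD2_c32 LD3_c23))))))
theorem f108381 : Led Lsl_ft (LP (LK LD1_c7 LD2_c5 LD3_c51)) = (LP (LK LD1_c3 LD2_c32 LD3_c23)) :=
  Lre_f IH (LK LD1_c7 LD2_c5 LD3_c51) (LK LD1_c3 LD2_c32 LD3_c23) Lrfl Lrfl
theorem f108469 : Led Lsl_gf (LP (LK LD1_c7 LD2_c12 LD3_c43)) = (LP (LK LD1_c7 LD2_c5 LD3_c51)) :=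
  Lgr Lrot47 (Lpr_gt (f108468 IH) (Lpr_af (f108316 IH) (Lpe (f108381 IH) (Lpn (LP (LK LD1_c7 LD2_c5 LD3_c51))))))
theorem f108252 : Led Lsl_dt (LP (LK LD1_c3 LD2_c32 LD3_c24)) = (LP (LK LD1_c7 LD2_c5 LD3_c51)) :=
  Lre_d IH (LK LD1_c3 LD2_c32 LD3_c24) (LK LD1_c7 LD2_c5 LD3_c51) Lrfl Lrfl
theorem f11550 : Led Lsl_gt (LP (LK LD1_c1 LD2_c43 LD3_c1)) = (LP (LK LD1_c3 LD2_c32 LD3_c40)) :=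
  Lre_g IH (LK LD1_c1 LD2_c43 LD3_c1) (LK LD1_c3 LD2_c32 LD3_c40) Lrfl Lrfl
theorem f108635 : Led Lsl_gf (LP (LK LD1_c3 LD2_c35 LD3_c51)) = (LP (LK LD1_c3 LD2_c32 LD3_c40)) :=
  Lgr Lrot76 (Lpr_af (K3.f108622 IH) (Lpe (K3.f108621 IH) (Lpr_gt (f11550 IH) (Lpn (LP (LK LD1_c3 LD2_c32 LD3_c40))))))
theorem f11551 : Led Lsl_et (LP (LK LD1_c7 LD2_c6 LD3_c12)) = (LP (LK LD1_c3 LD2_c32 LD3_c40)) :=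
  Lre_e IH (LK LD1_c7 LD2_c6 LD3_c12) (LK LD1_c3 LD2_c32 LD3_c40) Lrfl Lrfl
theorem f11549 : Led Lsl_et (LP (LK LD1_c0 LD2_c48 LD3_c9)) = (LP (LK LD1_c1 LD2_c43 LD3_c1)) :=
  Lre_e IH (LK LD1_c0 LD2_c48 LD3_c9) (LK LD1_c1 LD2_c43 LD3_c1) Lrfl Lrfl
theorem f11552 : Led Lsl_et (LP (LK LD1_c1 LD2_c43 LD3_c19)) = (LP (LK LD1_c0 LD2_c48 LD3_c18)) :=
  Lre_e IH (LK LD1_c1 LD2_c43 LD3_c19) (LK LD1_c0 LD2_c48 LD3_c18) Lrfl Lrfl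
theorem f11553 : Led Lsl_dt (LP (LK LD1_c1 LD2_c43 LD3_c19)) = (LP (LK LD1_c3 LD2_c33 LD3_c11)) :=
  Lre_d IH (LK LD1_c1 LD2_c43 LD3_c19) (LK LD1_c3 LD2_c33 LD3_c11) Lrfl Lrfl
theorem f11554 : Led Lsl_gt (LP (LK LD1_c7 LD2_c7 LD3_c18)) = (LP (LK LD1_c3 LD2_c33 LD3_c11)) :=
  Lre_g IH (LK LD1_c7 LD2_c7 LD3_c18) (LK LD1_c3 LD2_c33 LD3_c11) Lrfl Lrfl
theorem f11555 : Led Lsl_dt (LP (LK LD1_c7 LD2_c6 LD3_c12)) = (LP (LK LD1_c7 LD2_c7 LD3_c18)) :=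
  Lgr Lrot136 (Lpr_et (f11551 IH) (Lpe (f11550 IH) (Lpe (f11549 IH) (Lpr_dt (K3.f11548 IH) (Lpe (K3.f11534 IH) (Lpe (K3.f11533 IH) (Lpr_gf (K2.f11529 IH) (Lpe (f11552 IH) (Lpr_dt (f11553 IH) (Lpe (f11554 IH) (Lpn (LP (LK LD1_c7 LD2_c7 LD3_c18)))))))))))))
theorem f160227 : Led Lsl_gt (LP (LK LD1_c7 LD2_c13 LD3_c59)) = (LP (LK LD1_c7 LD2_c7 LD3_c18)) :=
  Lgr Lrot139 (Lpe (f107973 IH) (Lpr_gf (f160225 IH) (Lpe (f108549 IH) (Lpr_dt (f108550 IH) (Lpr_gf (f108469 IH) (Lpe (f108252 IH) (Lpe (K3.f108239 IH) (Lpr_gf (f108635 IH) (Lpe (f11551 IH) (Lpr_dt (f11555 IH) (Lpn (LP (LK LD1_c7 LD2_c7 LD3_c18)))))))))))))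
theorem f107983 : Led Lsl_ft (LP (LK LD1_c7 LD2_c13 LD3_c59)) = (LP (LK LD1_c3 LD2_c36 LD3_c51)) :=
  Lre_f IH (LK LD1_c7 LD2_c13 LD3_c59) (LK LD1_c3 LD2_c36 LD3_c51) Lrfl Lrfl
theorem f160229 : Led Lsl_at (LP (LK LD1_c3 LD2_c36 LD3_c51)) = (LP (LK LD1_c3 LD2_c33 LD3_c11)) :=
  Lgr Lrot26 (Lpe (f107983 IH) (Lpr_gt (f160227 IH) (Lpr_gt (f11554 IH) (Lpn (LP (LK LD1_c3 LD2_c33 LD3_c11))))))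
theorem f160235 : Led Lsl_et (LP (LK LD1_c7 LD2_c13 LD3_c50)) = (LP (LK LD1_c3 LD2_c36 LD3_c51)) :=
  Lre_e IH (LK LD1_c7 LD2_c13 LD3_c50) (LK LD1_c3 LD2_c36 LD3_c51) Lrfl Lrfl
theorem f160236 : Led Lsl_et (LP (LK LD1_c3 LD2_c33 LD3_c11)) = (LP (LK LD1_c7 LD2_c7 LD3_c10)) :=
  Lre_e IH (LK LD1_c3 LD2_c33 LD3_c11) (LK LD1_c7 LD2_c7 LD3_c10) Lrfl Lrfl
theorem f160237 : Led Lsl_af (LP (LK LD1_c7 LD2_c13 LD3_c50)) = (LP (LK LD1_c7 LD2_c7 LD3_c10)) :=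
  Lgr Lrot50 (Lpr_et (f160235 IH) (Lpr_at (f160229 IH) (Lpr_et (f160236 IH) (Lpn (LP (LK LD1_c7 LD2_c7 LD3_c10))))))
theorem f93097 : Led Lsl_dt (LP (LK LD1_c7 LD2_c13 LD3_c50)) = (LP (LK LD1_c3 LD2_c36 LD3_c48)) :=
  Lre_d IH (LK LD1_c7 LD2_c13 LD3_c50) (LK LD1_c3 LD2_c36 LD3_c48) Lrfl Lrfl
theorem f96996 : Led Lsl_dt (LP (LK LD1_c3 LD2_c33 LD3_c8)) = (LP (LK LD1_c7 LD2_c7 LD3_c10)) :=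
  Lre_d IH (LK LD1_c3 LD2_c33 LD3_c8) (LK LD1_c7 LD2_c7 LD3_c10) Lrfl Lrfl
theorem f160292 : Led Lsl_at (LP (LK LD1_c3 LD2_c36 LD3_c48)) = (LP (LK LD1_c3 LD2_c33 LD3_c8)) :=
  Lgr Lrot51 (Lpe (f93097 IH) (Lpr_af (f160237 IH) (Lpe (f96996 IH) (Lpn (LP (LK LD1_c3 LD2_c33 LD3_c8))))))
theorem f160294 : Led Lsl_af (LP (LK LD1_c3 LD2_c36 LD3_c48)) = (LP (LK LD1_c3 LD2_c33 LD3_c8)) :=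
  Lgr Lrot0 (Lpr_at (f160292 IH) (Lpn (LP (LK LD1_c3 LD2_c33 LD3_c8))))
theorem f10685 : Led Lsl_et (LP (LK LD1_c1 LD2_c45 LD3_c19)) = (LP (LK LD1_c3 LD2_c36 LD3_c59)) :=
  Lre_e IH (LK LD1_c1 LD2_c45 LD3_c19) (LK LD1_c3 LD2_c36 LD3_c59) Lrfl Lrfl
theorem f93084 : Led Lsl_et (LP (LK LD1_c3 LD2_c36 LD3_c48)) = (LP (LK LD1_c1 LD2_c45 LD3_c14)) :=
  Lre_e IH (LK LD1_c3 LD2_c36 LD3_c48) (LK LD1_c1 LD2_c45 LD3_c14) Lrfl Lrfl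
theorem f93085 : Led Lsl_ct (LP (LK LD1_c3 LD2_c36 LD3_c59)) = (LP (LK LD1_c3 LD2_c36 LD3_c48)) :=
  Lgr Lrot15 (Lpe (f10685 IH) (Lpr_cf (K3.f93079 IH) (Lpe (f93084 IH) (Lpn (LP (LK LD1_c3 LD2_c36 LD3_c48))))))
theorem f93088 : Led Lsl_cf (LP (LK LD1_c3 LD2_c36 LD3_c59)) = (LP (LK LD1_c3 LD2_c36 LD3_c48)) :=
  Lgr Lrot11 (Lpr_ct (f93085 IH) (Lpn (LP (LK LD1_c3 LD2_c36 LD3_c48))))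
theorem f10505 : Led Lsl_et (LP (LK LD1_c1 LD2_c43 LD3_c32)) = (LP (LK LD1_c3 LD2_c33 LD3_c39)) :=
  Lre_e IH (LK LD1_c1 LD2_c43 LD3_c32) (LK LD1_c3 LD2_c33 LD3_c39) Lrfl Lrfl
theorem f96995 : Led Lsl_et (LP (LK LD1_c3 LD2_c33 LD3_c8)) = (LP (LK LD1_c1 LD2_c43 LD3_c18)) :=
  Lre_e IH (LK LD1_c3 LD2_c33 LD3_c8) (LK LD1_c1 LD2_c43 LD3_c18) Lrfl Lrfl
theorem f98472 : Led Lsl_ct (LP (LK LD1_c3 LD2_c33 LD3_c39)) = (LP (LK LD1_c3 LD2_c33 LD3_c8)) :=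
  Lgr Lrot15 (Lpe (f10505 IH) (Lpr_cf (K3.f98469 IH) (Lpe (f96995 IH) (Lpn (LP (LK LD1_c3 LD2_c33 LD3_c8))))))
theorem f160310 : Led Lsl_at (LP (LK LD1_c3 LD2_c36 LD3_c59)) = (LP (LK LD1_c3 LD2_c33 LD3_c39)) :=
  Lgr Lrot107 (Lpr_cf (f93088 IH) (Lpr_af (f160294 IH) (Lpe (f98472 IH) (Lpn (LP (LK LD1_c3 LD2_c33 LD3_c39))))))
theorem f93090 : Led Lsl_dt (LP (LK LD1_c7 LD2_c14 LD3_c14)) = (LP (LK LD1_c3 LD2_c36 LD3_c59)) :=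
  Lre_d IH (LK LD1_c7 LD2_c14 LD3_c14) (LK LD1_c3 LD2_c36 LD3_c59) Lrfl Lrfl
theorem f128250 : Led Lsl_dt (LP (LK LD1_c3 LD2_c33 LD3_c39)) = (LP (LK LD1_c7 LD2_c8 LD3_c9)) :=
  Lre_d IH (LK LD1_c3 LD2_c33 LD3_c39) (LK LD1_c7 LD2_c8 LD3_c9) Lrfl Lrfl
theorem f160317 : Led Lsl_af (LP (LK LD1_c7 LD2_c14 LD3_c14)) = (LP (LK LD1_c7 LD2_c8 LD3_c9)) :=
  Lgr Lrot117 (Lpr_dt (f93090 IH) (Lpr_at (f160310 IH) (Lpr_dt (f128250 IH) (Lpn (LP (LK LD1_c7 LD2_c8 LD3_c9))))))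
theorem f160339 : Led Lsl_et (LP (LK LD1_c7 LD2_c14 LD3_c14)) = (LP (LK LD1_c3 LD2_c36 LD3_c60)) :=
  Lre_e IH (LK LD1_c7 LD2_c14 LD3_c14) (LK LD1_c3 LD2_c36 LD3_c60) Lrfl Lrfl
theorem f160340 : Led Lsl_et (LP (LK LD1_c3 LD2_c33 LD3_c40)) = (LP (LK LD1_c7 LD2_c8 LD3_c9)) :=
  Lre_e IH (LK LD1_c3 LD2_c33 LD3_c40) (LK LD1_c7 LD2_c8 LD3_c9) Lrfl Lrfl
theorem f160341 : Led Lsl_at (LP (LK LD1_c3 LD2_c36 LD3_c60)) = (LP (LK LD1_c3 LD2_c33 LD3_c40)) :=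
  Lgr Lrot80 (Lpe (f160339 IH) (Lpr_af (f160317 IH) (Lpe (f160340 IH) (Lpn (LP (LK LD1_c3 LD2_c33 LD3_c40))))))
theorem f160343 : Led Lsl_af (LP (LK LD1_c3 LD2_c36 LD3_c60)) = (LP (LK LD1_c3 LD2_c33 LD3_c40)) :=
  Lgr Lrot0 (Lpr_at (f160341 IH) (Lpn (LP (LK LD1_c3 LD2_c33 LD3_c40))))
theorem f17487 : Led Lsl_dt (LP (LK LD1_c3 LD2_c36 LD3_c60)) = (LP (LK LD1_c1 LD2_c45 LD3_c20)) :=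
  Lre_d IH (LK LD1_c3 LD2_c36 LD3_c60) (LK LD1_c1 LD2_c45 LD3_c20) Lrfl Lrfl
theorem f10509 : Led Lsl_dt (LP (LK LD1_c1 LD2_c43 LD3_c33)) = (LP (LK LD1_c3 LD2_c33 LD3_c40)) :=
  Lre_d IH (LK LD1_c1 LD2_c43 LD3_c33) (LK LD1_c3 LD2_c33 LD3_c40) Lrfl Lrfl
theorem f160369 : Led Lsl_at (LP (LK LD1_c1 LD2_c45 LD3_c20)) = (LP (LK LD1_c1 LD2_c43 LD3_c33)) :=
  Lgr Lrot51 (Lpe (f17487 IH) (Lpr_af (f160343 IH) (Lpe (f10509 IH) (Lpn (LP (LK LD1_c1 LD2_c43 LD3_c33))))))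
theorem f17491 : Led Lsl_bt (LP (LK LD1_c3 LD2_c36 LD3_c58)) = (LP (LK LD1_c1 LD2_c45 LD3_c20)) :=
  Lre_b IH (LK LD1_c3 LD2_c36 LD3_c58) (LK LD1_c1 LD2_c45 LD3_c20) Lrfl Lrfl
theorem f96575 : Led Lsl_at (LP (LK LD1_c7 LD2_c14 LD3_c6)) = (LP (LK LD1_c3 LD2_c36 LD3_c58)) :=
  Lre_a IH (LK LD1_c7 LD2_c14 LD3_c6) (LK LD1_c3 LD2_c36 LD3_c58) Lrfl Lrfl
theorem f108029 : Led Lsl_bt (LP (LK LD1_c1 LD2_c43 LD3_c33)) = (LP (LK LD1_c3 LD2_c33 LD3_c38)) :=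
  Lre_b IH (LK LD1_c1 LD2_c43 LD3_c33) (LK LD1_c3 LD2_c33 LD3_c38) Lrfl Lrfl
theorem f160373 : Led Lsl_bf (LP (LK LD1_c7 LD2_c14 LD3_c6)) = (LP (LK LD1_c7 LD2_c8 LD3_c3)) :=
  Lgr Lrot81 (Lpr_at (f96575 IH) (Lpr_bt (f17491 IH) (Lpr_at (f160369 IH) (Lpr_bt (f108029 IH) (Lpr_at (f108052 IH) (Lpn (LP (LK LD1_c7 LD2_c8 LD3_c3))))))))
theorem f160375 : Led Lsl_bt (LP (LK LD1_c7 LD2_c14 LD3_c6)) = (LP (LK LD1_c7 LD2_c8 LD3_c3)) :=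
  Lgr Lrot127 (Lpr_bf (f160373 IH) (Lpn (LP (LK LD1_c7 LD2_c8 LD3_c3))))
theorem f162812 : Led Lsl_ct (LP (LK LD1_c7 LD2_c34 LD3_c50)) = (LP (LK LD1_c7 LD2_c14 LD3_c6)) :=
  Lgr Lrot83 (Lpr_bf (f162798 IH) (Lpe (f160386 IH) (Lpe (f159360 IH) (Lpe (f108054 IH) (Lpe (f160375 IH) (Lpn (LP (LK LD1_c7 LD2_c14 LD3_c6))))))))
theorem f160378 : Led Lsl_et (LP (LK LD1_c7 LD2_c14 LD3_c6)) = (LP (LK LD1_c3 LD2_c36 LD3_c56)) :=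
  Lre_e IH (LK LD1_c7 LD2_c14 LD3_c6) (LK LD1_c3 LD2_c36 LD3_c56) Lrfl Lrfl
theorem f162821 : Led Lsl_cf (LP (LK LD1_c3 LD2_c46 LD3_c61)) = (LP (LK LD1_c3 LD2_c36 LD3_c56)) :=
  Lgr Lrot39 (Lpr_et (f120642 IH) (Lpr_ct (f162812 IH) (Lpr_et (f160378 IH) (Lpn (LP (LK LD1_c3 LD2_c36 LD3_c56))))))
theorem f162825 : Led Lsl_ct (LP (LK LD1_c3 LD2_c46 LD3_c61)) = (LP (LK LD1_c3 LD2_c36 LD3_c56)) :=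
  Lgr Lrot59 (Lpr_cf (f162821 IH) (Lpn (LP (LK LD1_c3 LD2_c36 LD3_c56))))
theorem f162831 : Led Lsl_gf (LP (LK LD1_c3 LD2_c33 LD3_c27)) = (LP (LK LD1_c3 LD2_c36 LD3_c56)) :=
  Lgr Lrot129 (Lpr_cf (K3.f96777 IH) (Lpr_bt (K3.f17112 IH) (Lpr_gt (K3.f15274 IH) (Lpe (K5.f17279 IH) (Lpr_ct (K3.f17280 IH) (Lpr_gt (K2.f63718 IH) (Lpe (K2.f63848 IH) (Lpr_bt (K3.f87919 IH) (Lpr_gt (f88531 IH) (Lpr_ct (f162825 IH) (Lpn (LP (LK LD1_c3 LD2_c36 LD3_c56)))))))))))))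
theorem f158530 : Led Lsl_at (LP (LK LD1_c3 LD2_c33 LD3_c28)) = (LP (LK LD1_c1 LD2_c43 LD3_c28)) :=
  Lre_a IH (LK LD1_c3 LD2_c33 LD3_c28) (LK LD1_c1 LD2_c43 LD3_c28) Lrfl Lrfl
theorem f162835 : Led Lsl_ff (LP (LK LD1_c3 LD2_c33 LD3_c28)) = (LP (LK LD1_c3 LD2_c36 LD3_c56)) :=
  Lgr Lrot52 (Lpr_at (f158530 IH) (Lpe (K3.f96769 IH) (Lpr_gf (f162831 IH) (Lpn (LP (LK LD1_c3 LD2_c36 LD3_c56))))))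
theorem f162841 : Led Lsl_ft (LP (LK LD1_c3 LD2_c33 LD3_c28)) = (LP (LK LD1_c3 LD2_c36 LD3_c56)) :=
  Lgr Lrot48 (Lpr_ff (f162835 IH) (Lpn (LP (LK LD1_c3 LD2_c36 LD3_c56))))
theorem f96527 : Led Lsl_at (LP (LK LD1_c3 LD2_c36 LD3_c56)) = (LP (LK LD1_c1 LD2_c45 LD3_c18)) :=
  Lre_a IH (LK LD1_c3 LD2_c36 LD3_c56) (LK LD1_c1 LD2_c45 LD3_c18) Lrfl Lrfl
theorem f162848 : Led Lsl_gt (LP (LK LD1_c3 LD2_c33 LD3_c28)) = (LP (LK LD1_c3 LD2_c36 LD3_c55)) :=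
  Lgr Lrot5 (Lpr_ft (f162841 IH) (Lpr_at (f96527 IH) (Lpe (K6.f17480 IH) (Lpn (LP (LK LD1_c3 LD2_c36 LD3_c55))))))
theorem f162852 : Led Lsl_cf (LP (LK LD1_c3 LD2_c33 LD3_c28)) = (LP (LK LD1_c1 LD2_c51 LD3_c41)) :=
  Lgr Lrot125 (Lpr_gt (f162848 IH) (Lpe (K6.f96480 IH) (Lpe (f96501 IH) (Lpr_gt (K5.f14737 IH) (Lpe (K0.f14663 IH) (Lpr_ct (K0.f14661 IH) (Lpr_gt (K2.f14679 IH) (Lpe (K2.f84982 IH) (Lpr_bt (K3.f84983 IH) (Lpr_gt (K3.f11547 IH) (Lpn (LP (LK LD1_c1 LD2_c51 LD3_c41)))))))))))))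
theorem f110244 : Led Lsl_bt (LP (LK LD1_c1 LD2_c51 LD3_c41)) = (LP (LK LD1_c3 LD2_c49 LD3_c17)) :=
  Lre_b IH (LK LD1_c1 LD2_c51 LD3_c41) (LK LD1_c3 LD2_c49 LD3_c17) Lrfl Lrfl
theorem f156618 : Led Lsl_bt (LP (LK LD1_c7 LD2_c30 LD3_c12)) = (LP (LK LD1_c7 LD2_c20 LD3_c61)) :=
  Lgr Lrot95 (Lpr_df (K7.f156613 IH) (Lpe (K7.f156605 IH) (Lpe (f145260 IH) (Lpn (LP (LK LD1_c7 LD2_c20 LD3_c61))))))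
theorem f162854 : Led Lsl_gf (LP (LK LD1_c3 LD2_c49 LD3_c17)) = (LP (LK LD1_c7 LD2_c20 LD3_c61)) :=
  Lgr Lrot124 (Lpe (f110244 IH) (Lpe (f162852 IH) (Lpr_gt (f162848 IH) (Lpe (K6.f96480 IH) (Lpe (f96501 IH) (Lpr_gt (K5.f14737 IH) (Lpe (K0.f14664 IH) (Lpr_gt (K6.f14733 IH) (Lpe (K6.f14743 IH) (Lpr_bt (f156618 IH) (Lpn (LP (LK LD1_c7 LD2_c20 LD3_c61)))))))))))))
theorem f162856 : Led Lsl_gt (LP (LK LD1_c3 LD2_c49 LD3_c17)) = (LP (LK LD1_c7 LD2_c21 LD3_c0)) :=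
  Lgr Lrot46 (Lpr_gf (f162854 IH) (Lpr_ft (f162104 IH) (Lpe (f162080 IH) (Lpn (LP (LK LD1_c7 LD2_c21 LD3_c0))))))
theorem f162858 : Led Lsl_at (LP (LK LD1_c7 LD2_c21 LD3_c1)) = (LP (LK LD1_c3 LD2_c40 LD3_c24)) :=
  Lre_a IH (LK LD1_c7 LD2_c21 LD3_c1) (LK LD1_c3 LD2_c40 LD3_c24) Lrfl Lrfl
theorem f162859 : Led Lsl_ft (LP (LK LD1_c3 LD2_c49 LD3_c17)) = (LP (LK LD1_c7 LD2_c21 LD3_c1)) :=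
  Lgr Lrot2 (Lpr_gt (f162856 IH) (Lpr_gt (f107305 IH) (Lpe (f162858 IH) (Lpn (LP (LK LD1_c7 LD2_c21 LD3_c1))))))
theorem f162867 : Led Lsl_ff (LP (LK LD1_c3 LD2_c49 LD3_c17)) = (LP (LK LD1_c7 LD2_c21 LD3_c1)) :=
  Lgr Lrot3 (Lpr_ft (f162859 IH) (Lpn (LP (LK LD1_c7 LD2_c21 LD3_c1))))
theorem f162873 : Led Lsl_at (LP (LK LD1_c3 LD2_c49 LD3_c17)) = (LP (LK LD1_c3 LD2_c26 LD3_c24)) :=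
  Lgr Lrot26 (Lpr_ff (f162867 IH) (Lpe (f162766 IH) (Lpr_gt (f102624 IH) (Lpn (LP (LK LD1_c3 LD2_c26 LD3_c24))))))
theorem f162789 : Led Lsl_at (LP (LK LD1_c3 LD2_c40 LD3_c24)) = (LP (LK LD1_c7 LD2_c21 LD3_c1)) :=
  Lre_a IH (LK LD1_c3 LD2_c40 LD3_c24) (LK LD1_c7 LD2_c21 LD3_c1) Lrfl Lrfl
theorem f162883 : Led Lsl_ff (LP (LK LD1_c3 LD2_c40 LD3_c24)) = (LP (LK LD1_c3 LD2_c26 LD3_c24)) :=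
  Lgr Lrot30 (Lpr_at (f162789 IH) (Lpe (f162867 IH) (Lpr_at (f162873 IH) (Lpn (LP (LK LD1_c3 LD2_c26 LD3_c24))))))
theorem f162887 : Led Lsl_ft (LP (LK LD1_c3 LD2_c40 LD3_c24)) = (LP (LK LD1_c3 LD2_c26 LD3_c24)) :=
  Lgr Lrot48 (Lpr_ff (f162883 IH) (Lpn (LP (LK LD1_c3 LD2_c26 LD3_c24))))
theorem f122731 : Led Lsl_dt (LP (LK LD1_c7 LD2_c21 LD3_c2)) = (LP (LK LD1_c3 LD2_c40 LD3_c24)) :=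
  Lre_d IH (LK LD1_c7 LD2_c21 LD3_c2) (LK LD1_c3 LD2_c40 LD3_c24) Lrfl Lrfl
theorem f95239 : Led Lsl_bt (LP (LK LD1_c6 LD2_c53 LD3_c22)) = (LP (LK LD1_c3 LD2_c25 LD3_c44)) :=
  Lre_b IH (LK LD1_c6 LD2_c53 LD3_c22) (LK LD1_c3 LD2_c25 LD3_c44) Lrfl Lrfl
theorem f102593 : Led Lsl_dt (LP (LK LD1_c3 LD2_c26 LD3_c24)) = (LP (LK LD1_c6 LD2_c53 LD3_c22)) :=
  Lgr Lrot79 (Lpe (K6.f102592 IH) (Lpr_df (K6.f102586 IH) (Lpe (f95239 IH) (Lpn (LP (LK LD1_c6 LD2_c53 LD3_c22))))))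
theorem f162889 : Led Lsl_ff (LP (LK LD1_c7 LD2_c21 LD3_c2)) = (LP (LK LD1_c6 LD2_c53 LD3_c22)) :=
  Lgr Lrot19 (Lpr_dt (f122731 IH) (Lpr_ft (f162887 IH) (Lpr_dt (f102593 IH) (Lpn (LP (LK LD1_c6 LD2_c53 LD3_c22))))))
theorem f102543 : Led Lsl_et (LP (LK LD1_c1 LD2_c39 LD3_c54)) = (LP (LK LD1_c3 LD2_c26 LD3_c25)) :=
  Lre_e IH (LK LD1_c1 LD2_c39 LD3_c54) (LK LD1_c3 LD2_c26 LD3_c25) Lrfl Lrfl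
theorem f102560 : Led Lsl_dt (LP (LK LD1_c3 LD2_c26 LD3_c25)) = (LP (LK LD1_c6 LD2_c54 LD3_c43)) :=
  Lre_d IH (LK LD1_c3 LD2_c26 LD3_c25) (LK LD1_c6 LD2_c54 LD3_c43) Lrfl Lrfl
theorem f102533 : Led Lsl_et (LP (LK LD1_c6 LD2_c53 LD3_c23)) = (LP (LK LD1_c3 LD2_c25 LD3_c44)) :=
  Lre_e IH (LK LD1_c6 LD2_c53 LD3_c23) (LK LD1_c3 LD2_c25 LD3_c44) Lrfl Lrfl
theorem f102595 : Led Lsl_dt (LP (LK LD1_c13 LD2_c5 LD3_c44)) = (LP (LK LD1_c6 LD2_c53 LD3_c23)) :=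
  Lre_d IH (LK LD1_c13 LD2_c5 LD3_c44) (LK LD1_c6 LD2_c53 LD3_c23) Lrfl Lrfl
theorem f102596 : Led Lsl_et (LP (LK LD1_c6 LD2_c54 LD3_c43)) = (LP (LK LD1_c13 LD2_c5 LD3_c44)) :=
  Lgr Lrot71 (Lpe (f102560 IH) (Lpe (f102543 IH) (Lpr_df (K6.f102586 IH) (Lpe (f102533 IH) (Lpe (f102595 IH) (Lpn (LP (LK LD1_c13 LD2_c5 LD3_c44))))))))
theorem f102603 : Led Lsl_ef (LP (LK LD1_c6 LD2_c54 LD3_c43)) = (LP (LK LD1_c13 LD2_c5 LD3_c44)) :=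
  Lgr Lrot88 (Lpr_et (f102596 IH) (Lpn (LP (LK LD1_c13 LD2_c5 LD3_c44))))
theorem f102606 : Led Lsl_bt (LP (LK LD1_c6 LD2_c54 LD3_c43)) = (LP (LK LD1_c13 LD2_c7 LD3_c56)) :=
  Lre_b IH (LK LD1_c6 LD2_c54 LD3_c43) (LK LD1_c13 LD2_c7 LD3_c56) Lrfl Lrfl
theorem f102607 : Led Lsl_bt (LP (LK LD1_c22 LD2_c16 LD3_c37)) = (LP (LK LD1_c13 LD2_c5 LD3_c44)) :=
  Lre_b IH (LK LD1_c22 LD2_c16 LD3_c37) (LK LD1_c13 LD2_c5 LD3_c44) Lrfl Lrfl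
theorem f102608 : Led Lsl_et (LP (LK LD1_c13 LD2_c7 LD3_c56)) = (LP (LK LD1_c22 LD2_c16 LD3_c37)) :=
  Lgr Lrot74 (Lpe (f102606 IH) (Lpr_ef (f102603 IH) (Lpe (f102607 IH) (Lpn (LP (LK LD1_c22 LD2_c16 LD3_c37))))))
theorem f102612 : Led Lsl_dt (LP (LK LD1_c6 LD2_c54 LD3_c42)) = (LP (LK LD1_c13 LD2_c7 LD3_c56)) :=
  Lre_d IH (LK LD1_c6 LD2_c54 LD3_c42) (LK LD1_c13 LD2_c7 LD3_c56) Lrfl Lrfl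
theorem f102613 : Led Lsl_et (LP (LK LD1_c3 LD2_c26 LD3_c24)) = (LP (LK LD1_c6 LD2_c54 LD3_c42)) :=
  Lre_e IH (LK LD1_c3 LD2_c26 LD3_c24) (LK LD1_c6 LD2_c54 LD3_c42) Lrfl Lrfl
theorem f102614 : Led Lsl_dt (LP (LK LD1_c22 LD2_c16 LD3_c37)) = (LP (LK LD1_c13 LD2_c5 LD3_c43)) :=
  Lre_d IH (LK LD1_c22 LD2_c16 LD3_c37) (LK LD1_c13 LD2_c5 LD3_c43) Lrfl Lrfl
theorem f102615 : Led Lsl_et (LP (LK LD1_c13 LD2_c5 LD3_c43)) = (LP (LK LD1_c6 LD2_c53 LD3_c22)) :=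
  Lre_e IH (LK LD1_c13 LD2_c5 LD3_c43) (LK LD1_c6 LD2_c53 LD3_c22) Lrfl Lrfl
theorem f102616 : Led Lsl_df (LP (LK LD1_c3 LD2_c26 LD3_c24)) = (LP (LK LD1_c6 LD2_c53 LD3_c22)) :=
  Lgr Lrot70 (Lpr_et (f102613 IH) (Lpr_dt (f102612 IH) (Lpr_et (f102608 IH) (Lpr_dt (f102614 IH) (Lpr_et (f102615 IH) (Lpn (LP (LK LD1_c6 LD2_c53 LD3_c22))))))))
theorem f148788 : Led Lsl_gf (LP (LK LD1_c12 LD2_c37 LD3_c15)) = (LP (LK LD1_c6 LD2_c53 LD3_c22)) :=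
  Lgr Lrot147 (Lpr_ct (K7.f128840 IH) (Lpr_gt (K7.f93907 IH) (Lpr_ct (K7.f148762 IH) (Lpe (K7.f84967 IH) (Lpe (K6.f96389 IH) (Lpe (K6.f144867 IH) (Lpe (K6.f144951 IH) (Lpe (K6.f102622 IH) (Lpr_df (f102616 IH) (Lpn (LP (LK LD1_c6 LD2_c53 LD3_c22))))))))))))
theorem f162894 : Led Lsl_at (LP (LK LD1_c7 LD2_c21 LD3_c2)) = (LP (LK LD1_c12 LD2_c51 LD3_c33)) :=
  Lgr Lrot26 (Lpr_ff (f162889 IH) (Lpe (f148788 IH) (Lpr_gt (K7.f151468 IH) (Lpn (LP (LK LD1_c12 LD2_c51 LD3_c33))))))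
theorem f109403 : Led Lsl_et (LP (LK LD1_c4 LD2_c48 LD3_c51)) = (LP (LK LD1_c9 LD2_c30 LD3_c11)) :=
  Lre_e IH (LK LD1_c4 LD2_c48 LD3_c51) (LK LD1_c9 LD2_c30 LD3_c11) Lrfl Lrfl
theorem f109404 : Led Lsl_dt (LP (LK LD1_c9 LD2_c30 LD3_c11)) = (LP (LK LD1_c17 LD2_c31 LD3_c30)) :=
  Lre_d IH (LK LD1_c9 LD2_c30 LD3_c11) (LK LD1_c17 LD2_c31 LD3_c30) Lrfl Lrfl
theorem f109405 : Led Lsl_et (LP (LK LD1_c7 LD2_c35 LD3_c22)) = (LP (LK LD1_c3 LD2_c47 LD3_c15)) :=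
  Lre_e IH (LK LD1_c7 LD2_c35 LD3_c22) (LK LD1_c3 LD2_c47 LD3_c15) Lrfl Lrfl
theorem f109406 : Led Lsl_dt (LP (LK LD1_c14 LD2_c18 LD3_c32)) = (LP (LK LD1_c7 LD2_c35 LD3_c22)) :=
  Lre_d IH (LK LD1_c14 LD2_c18 LD3_c32) (LK LD1_c7 LD2_c35 LD3_c22) Lrfl Lrfl
theorem f109407 : Led Lsl_et (LP (LK LD1_c17 LD2_c31 LD3_c30)) = (LP (LK LD1_c14 LD2_c18 LD3_c32)) :=
  Lgr Lrot71 (Lpe (f109404 IH) (Lpe (f109403 IH) (Lpr_df (K3.f109396 IH) (Lpe (f109405 IH) (Lpe (f109406 IH) (Lpn (LP (LK LD1_c14 LD2_c18 LD3_c32))))))))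
theorem f109417 : Led Lsl_ef (LP (LK LD1_c17 LD2_c31 LD3_c30)) = (LP (LK LD1_c14 LD2_c18 LD3_c32)) :=
  Lgr Lrot88 (Lpr_et (f109407 IH) (Lpn (LP (LK LD1_c14 LD2_c18 LD3_c32))))
theorem f109420 : Led Lsl_bt (LP (LK LD1_c17 LD2_c31 LD3_c30)) = (LP (LK LD1_c27 LD2_c21 LD3_c8)) :=
  Lre_b IH (LK LD1_c17 LD2_c31 LD3_c30) (LK LD1_c27 LD2_c21 LD3_c8) Lrfl Lrfl
theorem f109421 : Led Lsl_bt (LP (LK LD1_c23 LD2_c56 LD3_c31)) = (LP (LK LD1_c14 LD2_c18 LD3_c32)) :=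
  Lre_b IH (LK LD1_c23 LD2_c56 LD3_c31) (LK LD1_c14 LD2_c18 LD3_c32) Lrfl Lrfl
theorem f109422 : Led Lsl_et (LP (LK LD1_c27 LD2_c21 LD3_c8)) = (LP (LK LD1_c23 LD2_c56 LD3_c31)) :=
  Lgr Lrot74 (Lpe (f109420 IH) (Lpr_ef (f109417 IH) (Lpe (f109421 IH) (Lpn (LP (LK LD1_c23 LD2_c56 LD3_c31))))))
theorem f109428 : Led Lsl_dt (LP (LK LD1_c17 LD2_c31 LD3_c29)) = (LP (LK LD1_c27 LD2_c21 LD3_c8)) :=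
  Lre_d IH (LK LD1_c17 LD2_c31 LD3_c29) (LK LD1_c27 LD2_c21 LD3_c8) Lrfl Lrfl
theorem f109429 : Led Lsl_et (LP (LK LD1_c9 LD2_c30 LD3_c10)) = (LP (LK LD1_c17 LD2_c31 LD3_c29)) :=
  Lre_e IH (LK LD1_c9 LD2_c30 LD3_c10) (LK LD1_c17 LD2_c31 LD3_c29) Lrfl Lrfl
theorem f109430 : Led Lsl_dt (LP (LK LD1_c23 LD2_c56 LD3_c31)) = (LP (LK LD1_c14 LD2_c18 LD3_c31)) :=
  Lre_d IH (LK LD1_c23 LD2_c56 LD3_c31) (LK LD1_c14 LD2_c18 LD3_c31) Lrfl Lrfl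
theorem f109432 : Led Lsl_df (LP (LK LD1_c9 LD2_c30 LD3_c10)) = (LP (LK LD1_c7 LD2_c35 LD3_c21)) :=
  Lgr Lrot70 (Lpr_et (f109429 IH) (Lpr_dt (f109428 IH) (Lpr_et (f109422 IH) (Lpr_dt (f109430 IH) (Lpr_et (K6.f109431 IH) (Lpn (LP (LK LD1_c7 LD2_c35 LD3_c21))))))))
theorem f110242 : Led Lsl_df (LP (LK LD1_c1 LD2_c51 LD3_c41)) = (LP (LK LD1_c3 LD2_c46 LD3_c38)) :=
  Lgr Lrot155 (Lpe (K3.f88602 IH) (Lpr_ct (K3.f88522 IH) (Lpe (K3.f88608 IH) (Lpr_ct (K3.f110230 IH) (Lpe (f109432 IH) (Lpe (K3.f103173 IH) (Lpr_gf (K3.f103171 IH) (Lpr_cf (K3.f78101 IH) (Lpr_gf (K3.f109893 IH) (Lpn (LP (LK LD1_c3 LD2_c46 LD3_c38))))))))))))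
theorem f109897 : Led Lsl_bt (LP (LK LD1_c7 LD2_c34 LD3_c4)) = (LP (LK LD1_c3 LD2_c46 LD3_c38)) :=
  Lre_b IH (LK LD1_c7 LD2_c34 LD3_c4) (LK LD1_c3 LD2_c46 LD3_c38) Lrfl Lrfl
theorem f110245 : Led Lsl_dt (LP (LK LD1_c3 LD2_c49 LD3_c17)) = (LP (LK LD1_c7 LD2_c34 LD3_c4)) :=
  Lgr Lrot79 (Lpe (f110244 IH) (Lpr_df (f110242 IH) (Lpe (f109897 IH) (Lpn (LP (LK LD1_c7 LD2_c34 LD3_c4))))))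
theorem f110281 : Led Lsl_df (LP (LK LD1_c3 LD2_c49 LD3_c17)) = (LP (LK LD1_c7 LD2_c34 LD3_c4)) :=
  Lgr Lrot38 (Lpr_dt (f110245 IH) (Lpn (LP (LK LD1_c7 LD2_c34 LD3_c4))))
theorem f103534 : Led Lsl_bt (LP (LK LD1_c1 LD2_c36 LD3_c17)) = (LP (LK LD1_c3 LD2_c19 LD3_c46)) :=
  Lre_b IH (LK LD1_c1 LD2_c36 LD3_c17) (LK LD1_c3 LD2_c19 LD3_c46) Lrfl Lrfl
theorem f146713 : Led Lsl_gf (LP (LK LD1_c12 LD2_c40 LD3_c52)) = (LP (LK LD1_c6 LD2_c44 LD3_c19)) :=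
  Lgr Lrot129 (Lpe (K7.f141609 IH) (Lpr_bt (K7.f103536 IH) (Lpr_gt (K7.f103535 IH) (Lpe (f103534 IH) (Lpe (K4.f103521 IH) (Lpr_gt (K3.f107505 IH) (Lpe (K4.f62284 IH) (Lpr_bt (K6.f62180 IH) (Lpr_gt (K6.f146697 IH) (Lpe (K7.f146695 IH) (Lpn (LP (LK LD1_c6 LD2_c44 LD3_c19)))))))))))))
theorem f141611 : Led Lsl_cf (LP (LK LD1_c12 LD2_c51 LD3_c33)) = (LP (LK LD1_c12 LD2_c40 LD3_c52)) :=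
  Lgr Lrot11 (Lpr_ct (K7.f141609 IH) (Lpn (LP (LK LD1_c12 LD2_c40 LD3_c52))))
theorem f162781 : Led Lsl_df (LP (LK LD1_c12 LD2_c51 LD3_c33)) = (LP (LK LD1_c7 LD2_c21 LD3_c1)) :=
  Lgr Lrot162 (Lpr_cf (f141611 IH) (Lpr_gf (f146713 IH) (Lpr_cf (K7.f146695 IH) (Lpe (K6.f146697 IH) (Lpe (K5.f116665 IH) (Lpr_gt (K6.f137234 IH) (Lpe (K6.f142525 IH) (Lpr_gt (f162770 IH) (Lpr_ct (f159463 IH) (Lpn (LP (LK LD1_c7 LD2_c21 LD3_c1))))))))))))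
theorem f162865 : Led Lsl_ff (LP (LK LD1_c7 LD2_c34 LD3_c4)) = (LP (LK LD1_c12 LD2_c51 LD3_c33)) :=
  Lgr Lrot19 (Lpe (f110281 IH) (Lpr_ft (f162859 IH) (Lpe (f162781 IH) (Lpn (LP (LK LD1_c12 LD2_c51 LD3_c33))))))
theorem f162900 : Led Lsl_af (LP (LK LD1_c6 LD2_c53 LD3_c22)) = (LP (LK LD1_c7 LD2_c34 LD3_c4)) :=
  Lgr Lrot45 (Lpe (f162889 IH) (Lpr_at (f162894 IH) (Lpe (f162865 IH) (Lpn (LP (LK LD1_c7 LD2_c34 LD3_c4))))))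
theorem f158504 : Led Lsl_bt (LP (LK LD1_c6 LD2_c0 LD3_c37)) = (LP (LK LD1_c11 LD2_c45 LD3_c35)) :=
  Lre_b IH (LK LD1_c6 LD2_c0 LD3_c37) (LK LD1_c11 LD2_c45 LD3_c35) Lrfl Lrfl
theorem f103266 : Led Lsl_bt (LP (LK LD1_c2 LD2_c20 LD3_c55)) = (LP (LK LD1_c1 LD2_c7 LD3_c47)) :=
  Lre_b IH (LK LD1_c2 LD2_c20 LD3_c55) (LK LD1_c1 LD2_c7 LD3_c47) Lrfl Lrfl
theorem f158585 : Led Lsl_gt (LP (LK LD1_c11 LD2_c45 LD3_c35)) = (LP (LK LD1_c12 LD2_c51 LD3_c34)) :=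
  Lgr Lrot82 (Lpe (f158504 IH) (Lpr_ct (f158580 IH) (Lpe (K7.f78211 IH) (Lpe (K6.f78291 IH) (Lpr_bt (f103266 IH) (Lpe (K3.f13804 IH) (Lpe (K7.f78650 IH) (Lpe (K4.f120622 IH) (Lpe (K7.f103535 IH) (Lpe (K7.f120304 IH) (Lpn (LP (LK LD1_c12 LD2_c51 LD3_c34)))))))))))))
theorem f158507 : Led Lsl_cf (LP (LK LD1_c11 LD2_c45 LD3_c35)) = (LP (LK LD1_c13 LD2_c47 LD3_c3)) :=
  Lgr Lrot11 (Lpr_ct (f158497 IH) (Lpn (LP (LK LD1_c13 LD2_c47 LD3_c3))))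
theorem f130403 : Led Lsl_bf (LP (LK LD1_c13 LD2_c1 LD3_c15)) = (LP (LK LD1_c13 LD2_c47 LD3_c3)) :=
  Lgr Lrot24 (Lpr_bt (K6.f130303 IH) (Lpn (LP (LK LD1_c13 LD2_c47 LD3_c3))))
theorem f130018 : Led Lsl_at (LP (LK LD1_c3 LD2_c27 LD3_c10)) = (LP (LK LD1_c3 LD2_c48 LD3_c11)) :=
  Lgr Lrot100 (Lpr_af (K6.f130016 IH) (Lpn (LP (LK LD1_c3 LD2_c48 LD3_c11))))
theorem f145019 : Led Lsl_af (LP (LK LD1_c3 LD2_c49 LD3_c58)) = (LP (LK LD1_c7 LD2_c35 LD3_c51)) :=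
  Lgr Lrot36 (Lpr_bt (K5.f65964 IH) (Lpe (K6.f144810 IH) (Lpr_bt (K5.f116688 IH) (Lpr_at (f130018 IH) (Lpr_bt (K6.f145015 IH) (Lpn (LP (LK LD1_c7 LD2_c35 LD3_c51))))))))
theorem f145038 : Led Lsl_gt (LP (LK LD1_c7 LD2_c30 LD3_c11)) = (LP (LK LD1_c3 LD2_c49 LD3_c58)) :=
  Lgr Lrot46 (Lpe (K5.f129579 IH) (Lpr_ft (K6.f145029 IH) (Lpe (f145019 IH) (Lpn (LP (LK LD1_c3 LD2_c49 LD3_c58))))))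
theorem f129360 : Led Lsl_dt (LP (LK LD1_c7 LD2_c23 LD3_c19)) = (LP (LK LD1_c3 LD2_c54 LD3_c4)) :=
  Lgr Lrot42 (Lpr_df (K6.f129355 IH) (Lpn (LP (LK LD1_c3 LD2_c54 LD3_c4))))
theorem f127921 : Led Lsl_df (LP (LK LD1_c3 LD2_c26 LD3_c47)) = (LP (LK LD1_c6 LD2_c53 LD3_c61)) :=
  Lgr Lrot78 (Lpr_ft (K5.f127917 IH) (Lpr_dt (K6.f88245 IH) (Lpe (K5.f127733 IH) (Lpn (LP (LK LD1_c6 LD2_c53 LD3_c61))))))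
theorem f123635 : Led Lsl_dt (LP (LK LD1_c3 LD2_c43 LD3_c54)) = (LP (LK LD1_c7 LD2_c28 LD3_c28)) :=
  Lre_d IH (LK LD1_c3 LD2_c43 LD3_c54) (LK LD1_c7 LD2_c28 LD3_c28) Lrfl Lrfl
theorem f129382 : Led Lsl_gf (LP (LK LD1_c7 LD2_c23 LD3_c19)) = (LP (LK LD1_c7 LD2_c28 LD3_c28)) :=
  Lgr Lrot154 (Lpr_dt (f129360 IH) (Lpr_ct (K5.f129376 IH) (Lpr_df (f127921 IH) (Lpe (K5.f94698 IH) (Lpe (f95249 IH) (Lpr_gf (K4.f103620 IH) (Lpr_ct (K5.f123578 IH) (Lpr_gt (K5.f123599 IH) (Lpr_dt (f123635 IH) (Lpn (LP (LK LD1_c7 LD2_c28 LD3_c28))))))))))))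
theorem f129319 : Led Lsl_at (LP (LK LD1_c3 LD2_c41 LD3_c25)) = (LP (LK LD1_c7 LD2_c23 LD3_c19)) :=
  Lre_a IH (LK LD1_c3 LD2_c41 LD3_c25) (LK LD1_c7 LD2_c23 LD3_c19) Lrfl Lrfl
theorem f129482 : Led Lsl_gt (LP (LK LD1_c3 LD2_c44 LD3_c6)) = (LP (LK LD1_c7 LD2_c28 LD3_c28)) :=
  Lgr Lrot5 (Lpr_ft (K5.f129316 IH) (Lpr_at (f129319 IH) (Lpr_gf (f129382 IH) (Lpn (LP (LK LD1_c7 LD2_c28 LD3_c28))))))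
theorem f123634 : Led Lsl_dt (LP (LK LD1_c7 LD2_c28 LD3_c28)) = (LP (LK LD1_c3 LD2_c43 LD3_c54)) :=
  Lre_d IH (LK LD1_c7 LD2_c28 LD3_c28) (LK LD1_c3 LD2_c43 LD3_c54) Lrfl Lrfl
theorem f130255 : Led Lsl_dt (LP (LK LD1_c13 LD2_c1 LD3_c15)) = (LP (LK LD1_c7 LD2_c28 LD3_c27)) :=
  Lgr Lrot6 (Lpr_gt (K6.f93279 IH) (Lpr_ct (K6.f93278 IH) (Lpr_gt (K6.f83916 IH) (Lpr_ct (K6.f130248 IH) (Lpe (K4.f12846 IH) (Lpe (K4.f12772 IH) (Lpe (K4.f12829 IH) (Lpe (K4.f108898 IH) (Lpr_gf (K5.f123601 IH) (Lpn (LP (LK LD1_c7 LD2_c28 LD3_c27))))))))))))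
theorem f123505 : Led Lsl_dt (LP (LK LD1_c3 LD2_c49 LD3_c58)) = (LP (LK LD1_c7 LD2_c40 LD3_c52)) :=
  Lre_d IH (LK LD1_c3 LD2_c49 LD3_c58) (LK LD1_c7 LD2_c40 LD3_c52) Lrfl Lrfl
theorem f145040 : Led Lsl_gf (LP (LK LD1_c13 LD2_c1 LD3_c15)) = (LP (LK LD1_c7 LD2_c40 LD3_c52)) :=
  Lgr Lrot143 (Lpr_dt (f130255 IH) (Lpe (K5.f123600 IH) (Lpe (f123634 IH) (Lpe (f129482 IH) (Lpr_df (K6.f121021 IH) (Lpe (K5.f121018 IH) (Lpr_cf (K5.f129559 IH) (Lpr_gt (f145038 IH) (Lpr_dt (f123505 IH) (Lpn (LP (LK LD1_c7 LD2_c40 LD3_c52))))))))))))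
theorem f144766 : Led Lsl_bt (LP (LK LD1_c3 LD2_c49 LD3_c60)) = (LP (LK LD1_c7 LD2_c40 LD3_c52)) :=
  Lre_b IH (LK LD1_c3 LD2_c49 LD3_c60) (LK LD1_c7 LD2_c40 LD3_c52) Lrfl Lrfl
theorem f93664 : Led Lsl_gt (LP (LK LD1_c3 LD2_c16 LD3_c10)) = (LP (LK LD1_c6 LD2_c35 LD3_c37)) :=
  Lre_g IH (LK LD1_c3 LD2_c16 LD3_c10) (LK LD1_c6 LD2_c35 LD3_c37) Lrfl Lrfl
theorem f93864 : Led Lsl_gf (LP (LK LD1_c3 LD2_c17 LD3_c29)) = (LP (LK LD1_c6 LD2_c35 LD3_c37)) :=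
  Lgr Lrot76 (Lpe (K7.f93438 IH) (Lpr_ff (K7.f93857 IH) (Lpr_gt (f93664 IH) (Lpn (LP (LK LD1_c6 LD2_c35 LD3_c37))))))
theorem f93866 : Led Lsl_ct (LP (LK LD1_c12 LD2_c37 LD3_c13)) = (LP (LK LD1_c6 LD2_c35 LD3_c37)) :=
  Lre_c IH (LK LD1_c12 LD2_c37 LD3_c13) (LK LD1_c6 LD2_c35 LD3_c37) Lrfl Lrfl
theorem f120637 : Led Lsl_bt (LP (LK LD1_c6 LD2_c43 LD3_c20)) = (LP (LK LD1_c12 LD2_c51 LD3_c33)) :=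
  Lre_b IH (LK LD1_c6 LD2_c43 LD3_c20) (LK LD1_c12 LD2_c51 LD3_c33) Lrfl Lrfl
theorem f158587 : Led Lsl_gf (LP (LK LD1_c12 LD2_c37 LD3_c13)) = (LP (LK LD1_c12 LD2_c51 LD3_c33)) :=
  Lgr Lrot181 (Lpr_ct (f93866 IH) (Lpe (f93864 IH) (Lpr_cf (K7.f151451 IH) (Lpr_bt (f144766 IH) (Lpe (f145040 IH) (Lpr_bf (f130403 IH) (Lpe (f158507 IH) (Lpr_gt (f158585 IH) (Lpe (f120305 IH) (Lpr_bt (f120637 IH) (Lpn (LP (LK LD1_c12 LD2_c51 LD3_c33)))))))))))))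
theorem f162904 : Led Lsl_gf (LP (LK LD1_c6 LD2_c53 LD3_c22)) = (LP (LK LD1_c12 LD2_c37 LD3_c13)) :=
  Lgr Lrot76 (Lpr_af (f162900 IH) (Lpr_ff (f162865 IH) (Lpe (f158587 IH) (Lpn (LP (LK LD1_c12 LD2_c37 LD3_c13))))))
theorem f93867 : Led Lsl_ct (LP (LK LD1_c6 LD2_c35 LD3_c37)) = (LP (LK LD1_c12 LD2_c37 LD3_c13)) :=
  Lre_c IH (LK LD1_c6 LD2_c35 LD3_c37) (LK LD1_c12 LD2_c37 LD3_c13) Lrfl Lrfl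
theorem f79135 : Led Lsl_gt (LP (LK LD1_c6 LD2_c36 LD3_c38)) = (LP (LK LD1_c3 LD2_c16 LD3_c38)) :=
  Lre_g IH (LK LD1_c6 LD2_c36 LD3_c38) (LK LD1_c3 LD2_c16 LD3_c38) Lrfl Lrfl
theorem f79136 : Led Lsl_bt (LP (LK LD1_c12 LD2_c39 LD3_c7)) = (LP (LK LD1_c6 LD2_c36 LD3_c38)) :=
  Lre_b IH (LK LD1_c12 LD2_c39 LD3_c7) (LK LD1_c6 LD2_c36 LD3_c38) Lrfl Lrfl
theorem f162908 : Led Lsl_cf (LP (LK LD1_c6 LD2_c53 LD3_c22)) = (LP (LK LD1_c12 LD2_c39 LD3_c7)) :=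
  Lgr Lrot163 (Lpr_gf (f162904 IH) (Lpe (f93867 IH) (Lpe (f93664 IH) (Lpe (K7.f93659 IH) (Lpe (K3.f93660 IH) (Lpr_gf (K3.f94121 IH) (Lpr_cf (K2.f79120 IH) (Lpr_bt (K7.f79117 IH) (Lpe (f79135 IH) (Lpe (f79136 IH) (Lpn (LP (LK LD1_c12 LD2_c39 LD3_c7)))))))))))))
theorem f162919 : Led Lsl_gt (LP (LK LD1_c6 LD2_c37 LD3_c35)) = (LP (LK LD1_c12 LD2_c39 LD3_c7)) :=
  Lgr Lrot150 (Lpe (K6.f141597 IH) (Lpe (K7.f96305 IH) (Lpe (K7.f151402 IH) (Lpr_gt (K6.f91263 IH) (Lpr_ct (K5.f132228 IH) (Lpe (K6.f142690 IH) (Lpr_ct (f142683 IH) (Lpr_df (f102616 IH) (Lpr_cf (f162908 IH) (Lpn (LP (LK LD1_c12 LD2_c39 LD3_c7))))))))))))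
theorem f65359 : Led Lsl_ct (LP (LK LD1_c1 LD2_c52 LD3_c28)) = (LP (LK LD1_c3 LD2_c51 LD3_c15)) :=
  Lre_c IH (LK LD1_c1 LD2_c52 LD3_c28) (LK LD1_c3 LD2_c51 LD3_c15) Lrfl Lrfl
theorem f146717 : Led Lsl_af (LP (LK LD1_c6 LD2_c44 LD3_c19)) = (LP (LK LD1_c3 LD2_c51 LD3_c15)) :=
  Lgr Lrot68 (Lpr_ct (K6.f146715 IH) (Lpr_at (K7.f115644 IH) (Lpr_ct (f65359 IH) (Lpn (LP (LK LD1_c3 LD2_c51 LD3_c15))))))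
theorem f162923 : Led Lsl_gf (LP (LK LD1_c6 LD2_c44 LD3_c19)) = (LP (LK LD1_c12 LD2_c39 LD3_c7)) :=
  Lgr Lrot76 (Lpr_af (f146717 IH) (Lpr_ff (K6.f141595 IH) (Lpr_gt (f162919 IH) (Lpn (LP (LK LD1_c12 LD2_c39 LD3_c7))))))
theorem f121984 : Led Lsl_gt (LP (LK LD1_c6 LD2_c53 LD3_c6)) = (LP (LK LD1_c3 LD2_c25 LD3_c34)) :=
  Lre_g IH (LK LD1_c6 LD2_c53 LD3_c6) (LK LD1_c3 LD2_c25 LD3_c34) Lrfl Lrfl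
theorem f162915 : Led Lsl_ct (LP (LK LD1_c6 LD2_c53 LD3_c22)) = (LP (LK LD1_c12 LD2_c39 LD3_c7)) :=
  Lgr Lrot59 (Lpr_cf (f162908 IH) (Lpn (LP (LK LD1_c12 LD2_c39 LD3_c7))))
theorem f162929 : Led Lsl_df (LP (LK LD1_c6 LD2_c53 LD3_c6)) = (LP (LK LD1_c12 LD2_c37 LD3_c13)) :=
  Lgr Lrot155 (Lpr_gt (f121984 IH) (Lpr_ct (K6.f122128 IH) (Lpr_gt (K6.f122137 IH) (Lpr_ct (K7.f136963 IH) (Lpr_dt (K7.f146652 IH) (Lpe (K6.f146715 IH) (Lpr_gf (f162923 IH) (Lpe (f162915 IH) (Lpr_gf (f162904 IH) (Lpn (LP (LK LD1_c12 LD2_c37 LD3_c13))))))))))))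
theorem f151220 : Led Lsl_cf (LP (LK LD1_c7 LD2_c43 LD3_c57)) = (LP (LK LD1_c12 LD2_c14 LD3_c38)) :=
  Lgr Lrot108 (Lpe (K7.f151196 IH) (Lpe (K7.f141718 IH) (Lpr_ft (K7.f151216 IH) (Lpn (LP (LK LD1_c12 LD2_c14 LD3_c38))))))
theorem f98865 : Led Lsl_ct (LP (LK LD1_c3 LD2_c7 LD3_c34)) = (LP (LK LD1_c6 LD2_c19 LD3_c57)) :=
  Lre_c IH (LK LD1_c3 LD2_c7 LD3_c34) (LK LD1_c6 LD2_c19 LD3_c57) Lrfl Lrfl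
theorem f151427 : Led Lsl_df (LP (LK LD1_c6 LD2_c35 LD3_c37)) = (LP (LK LD1_c6 LD2_c0 LD3_c30)) :=
  Lgr Lrot155 (Lpe (f93864 IH) (Lpe (K7.f151417 IH) (Lpr_gt (K7.f151419 IH) (Lpr_ct (f65359 IH) (Lpr_dt (K7.f65380 IH) (Lpr_cf (f151220 IH) (Lpe (K7.f91473 IH) (Lpe (f98865 IH) (Lpr_gf (K7.f110548 IH) (Lpn (LP (LK LD1_c6 LD2_c0 LD3_c30))))))))))))
theorem f17909 : Led Lsl_dt (LP (LK LD1_c3 LD2_c36 LD3_c5)) = (LP (LK LD1_c1 LD2_c44 LD3_c55)) :=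
  Lre_d IH (LK LD1_c3 LD2_c36 LD3_c5) (LK LD1_c1 LD2_c44 LD3_c55) Lrfl Lrfl
theorem f97077 : Led Lsl_bt (LP (LK LD1_c3 LD2_c35 LD3_c46)) = (LP (LK LD1_c7 LD2_c12 LD3_c8)) :=
  Lre_b IH (LK LD1_c3 LD2_c35 LD3_c46) (LK LD1_c7 LD2_c12 LD3_c8) Lrfl Lrfl
theorem f108503 : Led Lsl_bt (LP (LK LD1_c1 LD2_c44 LD3_c56)) = (LP (LK LD1_c3 LD2_c36 LD3_c5)) :=
  Lre_b IH (LK LD1_c1 LD2_c44 LD3_c56) (LK LD1_c3 LD2_c36 LD3_c5) Lrfl Lrfl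
theorem f108539 : Led Lsl_gt (LP (LK LD1_c7 LD2_c12 LD3_c8)) = (LP (LK LD1_c3 LD2_c36 LD3_c5)) :=
  Lgr Lrot164 (Lpe (f97077 IH) (Lpe (K3.f97416 IH) (Lpr_gf (K3.f97414 IH) (Lpr_cf (K3.f98013 IH) (Lpe (K3.f6563 IH) (Lpe (K4.f6116 IH) (Lpe (K3.f17641 IH) (Lpr_gf (K3.f10600 IH) (Lpr_cf (K3.f108528 IH) (Lpr_bt (f108503 IH) (Lpn (LP (LK LD1_c3 LD2_c36 LD3_c5)))))))))))))
theorem f103949 : Led Lsl_df (LP (LK LD1_c3 LD2_c33 LD3_c17)) = (LP (LK LD1_c7 LD2_c0 LD3_c27)) :=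
  Lgr Lrot12 (Lpr_bt (K3.f12039 IH) (Lpr_dt (K3.f103946 IH) (Lpr_bt (K5.f103948 IH) (Lpn (LP (LK LD1_c7 LD2_c0 LD3_c27))))))
theorem f103513 : Led Lsl_ct (LP (LK LD1_c6 LD2_c32 LD3_c48)) = (LP (LK LD1_c3 LD2_c14 LD3_c42)) :=
  Lre_c IH (LK LD1_c6 LD2_c32 LD3_c48) (LK LD1_c3 LD2_c14 LD3_c42) Lrfl Lrfl
theorem f120457 : Led Lsl_ct (LP (LK LD1_c3 LD2_c36 LD3_c3)) = (LP (LK LD1_c6 LD2_c32 LD3_c55)) :=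
  Lgr Lrot40 (Lpr_ff (K7.f109502 IH) (Lpr_cf (K7.f109565 IH) (Lpr_ff (K4.f120448 IH) (Lpn (LP (LK LD1_c6 LD2_c32 LD3_c55))))))
theorem f17802 : Led Lsl_gt (LP (LK LD1_c7 LD2_c0 LD3_c17)) = (LP (LK LD1_c3 LD2_c29 LD3_c20)) :=
  Lre_g IH (LK LD1_c7 LD2_c0 LD3_c17) (LK LD1_c3 LD2_c29 LD3_c20) Lrfl Lrfl
theorem f17911 : Led Lsl_dt (LP (LK LD1_c7 LD2_c0 LD3_c17)) = (LP (LK LD1_c13 LD2_c17 LD3_c22)) :=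
  Lre_d IH (LK LD1_c7 LD2_c0 LD3_c17) (LK LD1_c13 LD2_c17 LD3_c22) Lrfl Lrfl
theorem f127655 : Led Lsl_gt (LP (LK LD1_c13 LD2_c17 LD3_c22)) = (LP (LK LD1_c7 LD2_c0 LD3_c27)) :=
  Lgr Lrot9 (Lpe (f17911 IH) (Lpr_gt (f17802 IH) (Lpe (K4.f17884 IH) (Lpr_gt (K3.f10765 IH) (Lpr_ct (f120457 IH) (Lpe (K4.f120447 IH) (Lpe (f103513 IH) (Lpe (K5.f95268 IH) (Lpr_cf (K5.f127641 IH) (Lpn (LP (LK LD1_c7 LD2_c0 LD3_c27))))))))))))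
theorem f151432 : Led Lsl_bt (LP (LK LD1_c12 LD2_c37 LD3_c13)) = (LP (LK LD1_c13 LD2_c17 LD3_c22)) :=
  Lgr Lrot178 (Lpe (f93867 IH) (Lpr_df (f151427 IH) (Lpe (K7.f110550 IH) (Lpe (K6.f65057 IH) (Lpr_cf (K3.f65052 IH) (Lpe (K3.f64793 IH) (Lpr_gf (K2.f89299 IH) (Lpe (K2.f17787 IH) (Lpe (K2.f17788 IH) (Lpe (f17909 IH) (Lpe (f108539 IH) (Lpe (f97077 IH) (Lpe (K3.f97388 IH) (Lpr_df (K3.f97374 IH) (Lpe (K3.f97371 IH) (Lpe (K6.f96470 IH) (Lpe (K3.f12040 IH) (Lpr_df (f103949 IH) (Lpe (f127655 IH) (Lpn (LP (LK LD1_c13 LD2_c17 LD3_c22))))))))))))))))))))))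
theorem f151435 : Led Lsl_bf (LP (LK LD1_c12 LD2_c37 LD3_c13)) = (LP (LK LD1_c13 LD2_c17 LD3_c22)) :=
  Lgr Lrot24 (Lpr_bt (f151432 IH) (Lpn (LP (LK LD1_c13 LD2_c17 LD3_c22))))
theorem f162931 : Led Lsl_bt (LP (LK LD1_c6 LD2_c53 LD3_c6)) = (LP (LK LD1_c7 LD2_c0 LD3_c17)) :=
  Lgr Lrot95 (Lpr_df (f162929 IH) (Lpr_bf (f151435 IH) (Lpe (f17911 IH) (Lpn (LP (LK LD1_c7 LD2_c0 LD3_c17))))))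
theorem f89685 : Led Lsl_dt (LP (LK LD1_c3 LD2_c33 LD3_c21)) = (LP (LK LD1_c1 LD2_c43 LD3_c25)) :=
  Lre_d IH (LK LD1_c3 LD2_c33 LD3_c21) (LK LD1_c1 LD2_c43 LD3_c25) Lrfl Lrfl
theorem f5390 : Led Lsl_bf (LP (LK LD1_c0 LD2_c49 LD3_c53)) = (LP (LK LD1_c0 LD2_c50 LD3_c5)) :=
  Lgr Lrot93 (Lpr_dt (K3.f380 IH) (Lpr_bt (K2.f5341 IH) (Lpr_dt (K2.f4978 IH) (Lpn (LP (LK LD1_c0 LD2_c50 LD3_c5))))))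
theorem f5399 : Led Lsl_bt (LP (LK LD1_c0 LD2_c49 LD3_c53)) = (LP (LK LD1_c0 LD2_c50 LD3_c5)) :=
  Lgr Lrot127 (Lpr_bf (f5390 IH) (Lpn (LP (LK LD1_c0 LD2_c50 LD3_c5))))
theorem f97152 : Led Lsl_bt (LP (LK LD1_c3 LD2_c33 LD3_c7)) = (LP (LK LD1_c7 LD2_c7 LD3_c6)) :=
  Lre_b IH (LK LD1_c3 LD2_c33 LD3_c7) (LK LD1_c7 LD2_c7 LD3_c6) Lrfl Lrfl
theorem f98091 : Led Lsl_bt (LP (LK LD1_c1 LD2_c43 LD3_c26)) = (LP (LK LD1_c3 LD2_c33 LD3_c21)) :=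
  Lre_b IH (LK LD1_c1 LD2_c43 LD3_c26) (LK LD1_c3 LD2_c33 LD3_c21) Lrfl Lrfl
theorem f98500 : Led Lsl_gt (LP (LK LD1_c7 LD2_c7 LD3_c6)) = (LP (LK LD1_c3 LD2_c33 LD3_c21)) :=
  Lgr Lrot164 (Lpe (f97152 IH) (Lpr_ct (K3.f97153 IH) (Lpe (K3.f98083 IH) (Lpe (K3.f92516 IH) (Lpe (K2.f92526 IH) (Lpe (f5399 IH) (Lpr_ct (K0.f377 IH) (Lpr_gf (K3.f98490 IH) (Lpr_cf (K3.f98081 IH) (Lpr_bt (f98091 IH) (Lpn (LP (LK LD1_c3 LD2_c33 LD3_c21)))))))))))))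
theorem f96974 : Led Lsl_bt (LP (LK LD1_c7 LD2_c7 LD3_c6)) = (LP (LK LD1_c3 LD2_c33 LD3_c7)) :=
  Lre_b IH (LK LD1_c7 LD2_c7 LD3_c6) (LK LD1_c3 LD2_c33 LD3_c7) Lrfl Lrfl
theorem f98484 : Led Lsl_dt (LP (LK LD1_c3 LD2_c35 LD3_c39)) = (LP (LK LD1_c7 LD2_c7 LD3_c6)) :=
  Lgr Lrot79 (Lpe (K3.f98483 IH) (Lpr_df (K3.f98480 IH) (Lpe (f96974 IH) (Lpn (LP (LK LD1_c7 LD2_c7 LD3_c6))))))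
theorem f127657 : Led Lsl_gf (LP (LK LD1_c7 LD2_c0 LD3_c17)) = (LP (LK LD1_c3 LD2_c45 LD3_c40)) :=
  Lgr Lrot144 (Lpr_dt (f17911 IH) (Lpr_gt (f127655 IH) (Lpe (f103949 IH) (Lpe (K6.f89684 IH) (Lpe (f89685 IH) (Lpe (f98500 IH) (Lpe (f98484 IH) (Lpe (K4.f111491 IH) (Lpe (K4.f92444 IH) (Lpn (LP (LK LD1_c3 LD2_c45 LD3_c40))))))))))))
theorem f109268 : Led Lsl_at (LP (LK LD1_c0 LD2_c51 LD3_c51)) = (LP (LK LD1_c1 LD2_c41 LD3_c25)) :=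
  Lgr Lrot51 (Lpe (K3.f89125 IH) (Lpr_af (K3.f109261 IH) (Lpr_df (K3.f64620 IH) (Lpn (LP (LK LD1_c1 LD2_c41 LD3_c25))))))
theorem f92362 : Led Lsl_bt (LP (LK LD1_c1 LD2_c49 LD3_c57)) = (LP (LK LD1_c0 LD2_c51 LD3_c51)) :=
  Lre_b IH (LK LD1_c1 LD2_c49 LD3_c57) (LK LD1_c0 LD2_c51 LD3_c51) Lrfl Lrfl
theorem f92448 : Led Lsl_at (LP (LK LD1_c3 LD2_c45 LD3_c40)) = (LP (LK LD1_c1 LD2_c49 LD3_c57)) :=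
  Lre_a IH (LK LD1_c3 LD2_c45 LD3_c40) (LK LD1_c1 LD2_c49 LD3_c57) Lrfl Lrfl
theorem f111462 : Led Lsl_bf (LP (LK LD1_c3 LD2_c45 LD3_c40)) = (LP (LK LD1_c3 LD2_c26 LD3_c2)) :=
  Lgr Lrot81 (Lpr_at (f92448 IH) (Lpr_bt (f92362 IH) (Lpr_at (f109268 IH) (Lpr_bt (K4.f64819 IH) (Lpr_at (K4.f111452 IH) (Lpn (LP (LK LD1_c3 LD2_c26 LD3_c2))))))))
theorem f12591 : Led Lsl_bt (LP (LK LD1_c1 LD2_c47 LD3_c22)) = (LP (LK LD1_c0 LD2_c50 LD3_c28)) :=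
  Lre_b IH (LK LD1_c1 LD2_c47 LD3_c22) (LK LD1_c0 LD2_c50 LD3_c28) Lrfl Lrfl
theorem f116191 : Led Lsl_bt (LP (LK LD1_c0 LD2_c50 LD3_c28)) = (LP (LK LD1_c1 LD2_c47 LD3_c22)) :=
  Lre_b IH (LK LD1_c0 LD2_c50 LD3_c28) (LK LD1_c1 LD2_c47 LD3_c22) Lrfl Lrfl
theorem f5395 : Led Lsl_bt (LP (LK LD1_c1 LD2_c46 LD3_c40)) = (LP (LK LD1_c0 LD2_c50 LD3_c4)) :=
  Lre_b IH (LK LD1_c1 LD2_c46 LD3_c40) (LK LD1_c0 LD2_c50 LD3_c4) Lrfl Lrfl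
theorem f128317 : Led Lsl_ct (LP (LK LD1_c1 LD2_c47 LD3_c22)) = (LP (LK LD1_c1 LD2_c46 LD3_c40)) :=
  Lgr Lrot83 (Lpe (f116191 IH) (Lpe (K6.f12574 IH) (Lpr_bf (K5.f128310 IH) (Lpr_cf (K2.f94416 IH) (Lpe (f5395 IH) (Lpn (LP (LK LD1_c1 LD2_c46 LD3_c40))))))))
theorem f94456 : Led Lsl_gt (LP (LK LD1_c1 LD2_c46 LD3_c40)) = (LP (LK LD1_c3 LD2_c39 LD3_c26)) :=
  Lre_g IH (LK LD1_c1 LD2_c46 LD3_c40) (LK LD1_c3 LD2_c39 LD3_c26) Lrfl Lrfl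
theorem f124030 : Led Lsl_et (LP (LK LD1_c0 LD2_c50 LD3_c34)) = (LP (LK LD1_c1 LD2_c47 LD3_c37)) :=
  Lre_e IH (LK LD1_c0 LD2_c50 LD3_c34) (LK LD1_c1 LD2_c47 LD3_c37) Lrfl Lrfl
theorem f123583 : Led Lsl_et (LP (LK LD1_c1 LD2_c49 LD3_c2)) = (LP (LK LD1_c0 LD2_c51 LD3_c18)) :=
  Lre_e IH (LK LD1_c1 LD2_c49 LD3_c2) (LK LD1_c0 LD2_c51 LD3_c18) Lrfl Lrfl
theorem f146918 : Led Lsl_at (LP (LK LD1_c1 LD2_c47 LD3_c37)) = (LP (LK LD1_c1 LD2_c49 LD3_c2)) :=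
  Lgr Lrot80 (Lpe (f124030 IH) (Lpr_af (K7.f146913 IH) (Lpe (f123583 IH) (Lpn (LP (LK LD1_c1 LD2_c49 LD3_c2))))))
theorem f146931 : Led Lsl_ft (LP (LK LD1_c3 LD2_c41 LD3_c24)) = (LP (LK LD1_c1 LD2_c47 LD3_c37)) :=
  Lre_f IH (LK LD1_c3 LD2_c41 LD3_c24) (LK LD1_c1 LD2_c47 LD3_c37) Lrfl Lrfl
theorem f130750 : Led Lsl_ft (LP (LK LD1_c1 LD2_c49 LD3_c2)) = (LP (LK LD1_c3 LD2_c43 LD3_c61)) :=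
  Lre_f IH (LK LD1_c1 LD2_c49 LD3_c2) (LK LD1_c3 LD2_c43 LD3_c61) Lrfl Lrfl
theorem f146932 : Led Lsl_af (LP (LK LD1_c3 LD2_c41 LD3_c24)) = (LP (LK LD1_c3 LD2_c43 LD3_c61)) :=
  Lgr Lrot45 (Lpr_ft (f146931 IH) (Lpr_at (f146918 IH) (Lpr_ft (f130750 IH) (Lpn (LP (LK LD1_c3 LD2_c43 LD3_c61))))))
theorem f146934 : Led Lsl_dt (LP (LK LD1_c3 LD2_c41 LD3_c24)) = (LP (LK LD1_c7 LD2_c23 LD3_c18)) :=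
  Lre_d IH (LK LD1_c3 LD2_c41 LD3_c24) (LK LD1_c7 LD2_c23 LD3_c18) Lrfl Lrfl
theorem f130746 : Led Lsl_dt (LP (LK LD1_c7 LD2_c28 LD3_c50)) = (LP (LK LD1_c3 LD2_c43 LD3_c61)) :=
  Lre_d IH (LK LD1_c7 LD2_c28 LD3_c50) (LK LD1_c3 LD2_c43 LD3_c61) Lrfl Lrfl
theorem f146944 : Led Lsl_at (LP (LK LD1_c7 LD2_c23 LD3_c18)) = (LP (LK LD1_c7 LD2_c28 LD3_c50)) :=
  Lgr Lrot51 (Lpe (f146934 IH) (Lpr_af (f146932 IH) (Lpe (f130746 IH) (Lpn (LP (LK LD1_c7 LD2_c28 LD3_c50))))))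
theorem f146957 : Led Lsl_et (LP (LK LD1_c13 LD2_c58 LD3_c14)) = (LP (LK LD1_c7 LD2_c23 LD3_c18)) :=
  Lre_e IH (LK LD1_c13 LD2_c58 LD3_c14) (LK LD1_c7 LD2_c23 LD3_c18) Lrfl Lrfl
theorem f146958 : Led Lsl_et (LP (LK LD1_c7 LD2_c28 LD3_c50)) = (LP (LK LD1_c14 LD2_c7 LD3_c18)) :=
  Lre_e IH (LK LD1_c7 LD2_c28 LD3_c50) (LK LD1_c14 LD2_c7 LD3_c18) Lrfl Lrfl
theorem f146959 : Led Lsl_af (LP (LK LD1_c13 LD2_c58 LD3_c14)) = (LP (LK LD1_c14 LD2_c7 LD3_c18)) :=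
  Lgr Lrot50 (Lpr_et (f146957 IH) (Lpr_at (f146944 IH) (Lpr_et (f146958 IH) (Lpn (LP (LK LD1_c14 LD2_c7 LD3_c18))))))
theorem f146970 : Led Lsl_ft (LP (LK LD1_c13 LD2_c58 LD3_c14)) = (LP (LK LD1_c23 LD2_c30 LD3_c14)) :=
  Lre_f IH (LK LD1_c13 LD2_c58 LD3_c14) (LK LD1_c23 LD2_c30 LD3_c14) Lrfl Lrfl
theorem f146971 : Led Lsl_ft (LP (LK LD1_c23 LD2_c41 LD3_c34)) = (LP (LK LD1_c14 LD2_c7 LD3_c18)) :=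
  Lre_f IH (LK LD1_c23 LD2_c41 LD3_c34) (LK LD1_c14 LD2_c7 LD3_c18) Lrfl Lrfl
theorem f146972 : Led Lsl_at (LP (LK LD1_c23 LD2_c30 LD3_c14)) = (LP (LK LD1_c23 LD2_c41 LD3_c34)) :=
  Lgr Lrot66 (Lpe (f146970 IH) (Lpr_af (f146959 IH) (Lpe (f146971 IH) (Lpn (LP (LK LD1_c23 LD2_c41 LD3_c34))))))
theorem f146990 : Led Lsl_et (LP (LK LD1_c13 LD2_c58 LD3_c7)) = (LP (LK LD1_c23 LD2_c30 LD3_c14)) :=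
  Lre_e IH (LK LD1_c13 LD2_c58 LD3_c7) (LK LD1_c23 LD2_c30 LD3_c14) Lrfl Lrfl
theorem f123871 : Led Lsl_et (LP (LK LD1_c23 LD2_c41 LD3_c34)) = (LP (LK LD1_c14 LD2_c7 LD3_c11)) :=
  Lre_e IH (LK LD1_c23 LD2_c41 LD3_c34) (LK LD1_c14 LD2_c7 LD3_c11) Lrfl Lrfl
theorem f146991 : Led Lsl_af (LP (LK LD1_c13 LD2_c58 LD3_c7)) = (LP (LK LD1_c14 LD2_c7 LD3_c11)) :=
  Lgr Lrot50 (Lpr_et (f146990 IH) (Lpr_at (f146972 IH) (Lpr_et (f123871 IH) (Lpn (LP (LK LD1_c14 LD2_c7 LD3_c11))))))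
theorem f147008 : Led Lsl_ft (LP (LK LD1_c13 LD2_c58 LD3_c7)) = (LP (LK LD1_c7 LD2_c23 LD3_c14)) :=
  Lre_f IH (LK LD1_c13 LD2_c58 LD3_c7) (LK LD1_c7 LD2_c23 LD3_c14) Lrfl Lrfl
theorem f147009 : Led Lsl_ft (LP (LK LD1_c7 LD2_c28 LD3_c45)) = (LP (LK LD1_c14 LD2_c7 LD3_c11)) :=
  Lre_f IH (LK LD1_c7 LD2_c28 LD3_c45) (LK LD1_c14 LD2_c7 LD3_c11) Lrfl Lrfl
theorem f147010 : Led Lsl_at (LP (LK LD1_c7 LD2_c23 LD3_c14)) = (LP (LK LD1_c7 LD2_c28 LD3_c45)) :=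
  Lgr Lrot66 (Lpe (f147008 IH) (Lpr_af (f146991 IH) (Lpe (f147009 IH) (Lpn (LP (LK LD1_c7 LD2_c28 LD3_c45))))))
theorem f147030 : Led Lsl_ct (LP (LK LD1_c13 LD2_c58 LD3_c6)) = (LP (LK LD1_c7 LD2_c23 LD3_c14)) :=
  Lre_c IH (LK LD1_c13 LD2_c58 LD3_c6) (LK LD1_c7 LD2_c23 LD3_c14) Lrfl Lrfl
theorem f147031 : Led Lsl_ct (LP (LK LD1_c7 LD2_c28 LD3_c45)) = (LP (LK LD1_c14 LD2_c7 LD3_c10)) :=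
  Lre_c IH (LK LD1_c7 LD2_c28 LD3_c45) (LK LD1_c14 LD2_c7 LD3_c10) Lrfl Lrfl
theorem f147032 : Led Lsl_af (LP (LK LD1_c13 LD2_c58 LD3_c6)) = (LP (LK LD1_c14 LD2_c7 LD3_c10)) :=
  Lgr Lrot68 (Lpr_ct (f147030 IH) (Lpr_at (f147010 IH) (Lpr_ct (f147031 IH) (Lpn (LP (LK LD1_c14 LD2_c7 LD3_c10))))))
theorem f147064 : Led Lsl_et (LP (LK LD1_c13 LD2_c58 LD3_c6)) = (LP (LK LD1_c7 LD2_c23 LD3_c17)) :=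
  Lre_e IH (LK LD1_c13 LD2_c58 LD3_c6) (LK LD1_c7 LD2_c23 LD3_c17) Lrfl Lrfl
theorem f147065 : Led Lsl_et (LP (LK LD1_c7 LD2_c28 LD3_c49)) = (LP (LK LD1_c14 LD2_c7 LD3_c10)) :=
  Lre_e IH (LK LD1_c7 LD2_c28 LD3_c49) (LK LD1_c14 LD2_c7 LD3_c10) Lrfl Lrfl
theorem f147066 : Led Lsl_at (LP (LK LD1_c7 LD2_c23 LD3_c17)) = (LP (LK LD1_c7 LD2_c28 LD3_c49)) :=
  Lgr Lrot80 (Lpe (f147064 IH) (Lpr_af (f147032 IH) (Lpe (f147065 IH) (Lpn (LP (LK LD1_c7 LD2_c28 LD3_c49))))))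
theorem f147076 : Led Lsl_af (LP (LK LD1_c7 LD2_c23 LD3_c17)) = (LP (LK LD1_c7 LD2_c28 LD3_c49)) :=
  Lgr Lrot0 (Lpr_at (f147066 IH) (Lpn (LP (LK LD1_c7 LD2_c28 LD3_c49))))
theorem f147095 : Led Lsl_ct (LP (LK LD1_c7 LD2_c23 LD3_c17)) = (LP (LK LD1_c3 LD2_c41 LD3_c23)) :=
  Lre_c IH (LK LD1_c7 LD2_c23 LD3_c17) (LK LD1_c3 LD2_c41 LD3_c23) Lrfl Lrfl
theorem f146946 : Led Lsl_ct (LP (LK LD1_c3 LD2_c43 LD3_c60)) = (LP (LK LD1_c7 LD2_c28 LD3_c49)) :=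
  Lre_c IH (LK LD1_c3 LD2_c43 LD3_c60) (LK LD1_c7 LD2_c28 LD3_c49) Lrfl Lrfl
theorem f147096 : Led Lsl_at (LP (LK LD1_c3 LD2_c41 LD3_c23)) = (LP (LK LD1_c3 LD2_c43 LD3_c60)) :=
  Lgr Lrot107 (Lpe (f147095 IH) (Lpr_af (f147076 IH) (Lpe (f146946 IH) (Lpn (LP (LK LD1_c3 LD2_c43 LD3_c60))))))
theorem f147143 : Led Lsl_bt (LP (LK LD1_c7 LD2_c23 LD3_c10)) = (LP (LK LD1_c3 LD2_c41 LD3_c23)) :=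
  Lre_b IH (LK LD1_c7 LD2_c23 LD3_c10) (LK LD1_c3 LD2_c41 LD3_c23) Lrfl Lrfl
theorem f147144 : Led Lsl_at (LP (LK LD1_c13 LD2_c57 LD3_c45)) = (LP (LK LD1_c7 LD2_c23 LD3_c10)) :=
  Lre_a IH (LK LD1_c13 LD2_c57 LD3_c45) (LK LD1_c7 LD2_c23 LD3_c10) Lrfl Lrfl
theorem f147145 : Led Lsl_bt (LP (LK LD1_c3 LD2_c43 LD3_c60)) = (LP (LK LD1_c7 LD2_c28 LD3_c41)) :=
  Lre_b IH (LK LD1_c3 LD2_c43 LD3_c60) (LK LD1_c7 LD2_c28 LD3_c41) Lrfl Lrfl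
theorem f123796 : Led Lsl_at (LP (LK LD1_c7 LD2_c28 LD3_c41)) = (LP (LK LD1_c14 LD2_c6 LD3_c45)) :=
  Lre_a IH (LK LD1_c7 LD2_c28 LD3_c41) (LK LD1_c14 LD2_c6 LD3_c45) Lrfl Lrfl
theorem f147146 : Led Lsl_bf (LP (LK LD1_c13 LD2_c57 LD3_c45)) = (LP (LK LD1_c14 LD2_c6 LD3_c45)) :=
  Lgr Lrot81 (Lpr_at (f147144 IH) (Lpr_bt (f147143 IH) (Lpr_at (f147096 IH) (Lpr_bt (f147145 IH) (Lpr_at (f123796 IH) (Lpn (LP (LK LD1_c14 LD2_c6 LD3_c45))))))))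
theorem f147159 : Led Lsl_dt (LP (LK LD1_c13 LD2_c57 LD3_c45)) = (LP (LK LD1_c7 LD2_c23 LD3_c4)) :=
  Lre_d IH (LK LD1_c13 LD2_c57 LD3_c45) (LK LD1_c7 LD2_c23 LD3_c4) Lrfl Lrfl
theorem f123681 : Led Lsl_dt (LP (LK LD1_c7 LD2_c28 LD3_c34)) = (LP (LK LD1_c14 LD2_c6 LD3_c45)) :=
  Lre_d IH (LK LD1_c7 LD2_c28 LD3_c34) (LK LD1_c14 LD2_c6 LD3_c45) Lrfl Lrfl
theorem f147160 : Led Lsl_bt (LP (LK LD1_c7 LD2_c23 LD3_c4)) = (LP (LK LD1_c7 LD2_c28 LD3_c34)) :=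
  Lgr Lrot95 (Lpe (f147159 IH) (Lpr_bf (f147146 IH) (Lpe (f123681 IH) (Lpn (LP (LK LD1_c7 LD2_c28 LD3_c34))))))
theorem f147182 : Led Lsl_et (LP (LK LD1_c3 LD2_c41 LD3_c19)) = (LP (LK LD1_c7 LD2_c23 LD3_c4)) :=
  Lre_e IH (LK LD1_c3 LD2_c41 LD3_c19) (LK LD1_c7 LD2_c23 LD3_c4) Lrfl Lrfl
theorem f123680 : Led Lsl_et (LP (LK LD1_c7 LD2_c28 LD3_c34)) = (LP (LK LD1_c3 LD2_c43 LD3_c56)) :=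
  Lre_e IH (LK LD1_c7 LD2_c28 LD3_c34) (LK LD1_c3 LD2_c43 LD3_c56) Lrfl Lrfl
theorem f147183 : Led Lsl_bf (LP (LK LD1_c3 LD2_c41 LD3_c19)) = (LP (LK LD1_c3 LD2_c43 LD3_c56)) :=
  Lgr Lrot96 (Lpr_et (f147182 IH) (Lpr_bt (f147160 IH) (Lpr_et (f123680 IH) (Lpn (LP (LK LD1_c3 LD2_c43 LD3_c56))))))
theorem f116131 : Led Lsl_bt (LP (LK LD1_c0 LD2_c51 LD3_c19)) = (LP (LK LD1_c1 LD2_c49 LD3_c3)) :=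
  Lre_b IH (LK LD1_c0 LD2_c51 LD3_c19) (LK LD1_c1 LD2_c49 LD3_c3) Lrfl Lrfl
theorem f116239 : Led Lsl_at (LP (LK LD1_c1 LD2_c49 LD3_c3)) = (LP (LK LD1_c3 LD2_c44 LD3_c2)) :=
  Lre_a IH (LK LD1_c1 LD2_c49 LD3_c3) (LK LD1_c3 LD2_c44 LD3_c2) Lrfl Lrfl
theorem f116270 : Led Lsl_bf (LP (LK LD1_c3 LD2_c41 LD3_c12)) = (LP (LK LD1_c3 LD2_c44 LD3_c2)) :=
  Lgr Lrot81 (Lpr_at (K4.f116269 IH) (Lpr_bt (K4.f12906 IH) (Lpr_at (K4.f116121 IH) (Lpr_bt (f116131 IH) (Lpr_at (f116239 IH) (Lpn (LP (LK LD1_c3 LD2_c44 LD3_c2))))))))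
theorem f147187 : Led Lsl_ft (LP (LK LD1_c3 LD2_c41 LD3_c19)) = (LP (LK LD1_c3 LD2_c44 LD3_c2)) :=
  Lgr Lrot75 (Lpr_bf (f147183 IH) (Lpe (K5.f123684 IH) (Lpr_bf (f116270 IH) (Lpn (LP (LK LD1_c3 LD2_c44 LD3_c2))))))
theorem f147193 : Led Lsl_ff (LP (LK LD1_c3 LD2_c41 LD3_c19)) = (LP (LK LD1_c3 LD2_c44 LD3_c2)) :=
  Lgr Lrot3 (Lpr_ft (f147187 IH) (Lpn (LP (LK LD1_c3 LD2_c44 LD3_c2))))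
theorem f147185 : Led Lsl_at (LP (LK LD1_c3 LD2_c41 LD3_c19)) = (LP (LK LD1_c1 LD2_c47 LD3_c35)) :=
  Lre_a IH (LK LD1_c3 LD2_c41 LD3_c19) (LK LD1_c1 LD2_c47 LD3_c35) Lrfl Lrfl
theorem f147200 : Led Lsl_ft (LP (LK LD1_c1 LD2_c47 LD3_c35)) = (LP (LK LD1_c1 LD2_c49 LD3_c3)) :=
  Lgr Lrot101 (Lpe (f147185 IH) (Lpr_ff (f147193 IH) (Lpe (f116239 IH) (Lpn (LP (LK LD1_c1 LD2_c49 LD3_c3))))))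
theorem f124037 : Led Lsl_gt (LP (LK LD1_c1 LD2_c47 LD3_c35)) = (LP (LK LD1_c3 LD2_c41 LD3_c17)) :=
  Lre_g IH (LK LD1_c1 LD2_c47 LD3_c35) (LK LD1_c3 LD2_c41 LD3_c17) Lrfl Lrfl
theorem f147312 : Led Lsl_gt (LP (LK LD1_c3 LD2_c41 LD3_c17)) = (LP (LK LD1_c3 LD2_c44 LD3_c2)) :=
  Lgr Lrot46 (Lpe (f124037 IH) (Lpr_ft (f147200 IH) (Lpr_at (f116239 IH) (Lpn (LP (LK LD1_c3 LD2_c44 LD3_c2))))))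
theorem f109475 : Led Lsl_gt (LP (LK LD1_c1 LD2_c41 LD3_c29)) = (LP (LK LD1_c0 LD2_c48 LD3_c8)) :=
  Lgr Lrot49 (Lpr_df (K3.f109462 IH) (Lpe (K2.f5754 IH) (Lpe (K2.f5710 IH) (Lpe (K2.f5756 IH) (Lpr_dt (K0.f396 IH) (Lpr_gt (K2.f92342 IH) (Lpr_dt (K2.f10788 IH) (Lpe (K2.f10786 IH) (Lpe (K2.f10783 IH) (Lpn (LP (LK LD1_c0 LD2_c48 LD3_c8))))))))))))
theorem f93169 : Led Lsl_bt (LP (LK LD1_c0 LD2_c50 LD3_c4)) = (LP (LK LD1_c1 LD2_c46 LD3_c40)) :=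
  Lre_b IH (LK LD1_c0 LD2_c50 LD3_c4) (LK LD1_c1 LD2_c46 LD3_c40) Lrfl Lrfl
theorem f147315 : Led Lsl_cf (LP (LK LD1_c3 LD2_c41 LD3_c17)) = (LP (LK LD1_c3 LD2_c39 LD3_c26)) :=
  Lgr Lrot125 (Lpr_gt (f147312 IH) (Lpe (K4.f116188 IH) (Lpr_bt (K4.f108543 IH) (Lpr_gt (K4.f111491 IH) (Lpe (K3.f98483 IH) (Lpe (K3.f109477 IH) (Lpr_gt (f109475 IH) (Lpr_cf (K2.f94416 IH) (Lpr_bt (f93169 IH) (Lpr_gt (f94456 IH) (Lpn (LP (LK LD1_c3 LD2_c39 LD3_c26)))))))))))))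
theorem f147321 : Led Lsl_ct (LP (LK LD1_c3 LD2_c41 LD3_c17)) = (LP (LK LD1_c3 LD2_c39 LD3_c26)) :=
  Lgr Lrot59 (Lpr_cf (f147315 IH) (Lpn (LP (LK LD1_c3 LD2_c39 LD3_c26))))
theorem f147320 : Led Lsl_bt (LP (LK LD1_c3 LD2_c41 LD3_c17)) = (LP (LK LD1_c7 LD2_c22 LD3_c61)) :=
  Lre_b IH (LK LD1_c3 LD2_c41 LD3_c17) (LK LD1_c7 LD2_c22 LD3_c61) Lrfl Lrfl
theorem f147800 : Led Lsl_gt (LP (LK LD1_c7 LD2_c22 LD3_c61)) = (LP (LK LD1_c7 LD2_c26 LD3_c30)) :=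
  Lgr Lrot82 (Lpe (f147320 IH) (Lpr_ct (f147321 IH) (Lpe (f94456 IH) (Lpe (f128317 IH) (Lpr_bt (f12591 IH) (Lpe (K4.f12581 IH) (Lpe (K7.f122485 IH) (Lpr_ct (K6.f122614 IH) (Lpe (K4.f65362 IH) (Lpr_cf (K7.f147782 IH) (Lpn (LP (LK LD1_c7 LD2_c26 LD3_c30)))))))))))))
theorem f162938 : Led Lsl_ct (LP (LK LD1_c6 LD2_c53 LD3_c6)) = (LP (LK LD1_c7 LD2_c22 LD3_c61)) :=
  Lgr Lrot64 (Lpr_bt (f162931 IH) (Lpr_gf (f127657 IH) (Lpr_bf (f111462 IH) (Lpe (K4.f116452 IH) (Lpr_gf (K5.f123689 IH) (Lpe (f123605 IH) (Lpe (f123603 IH) (Lpe (K6.f111131 IH) (Lpr_ct (K7.f147793 IH) (Lpe (f147800 IH) (Lpn (LP (LK LD1_c7 LD2_c22 LD3_c61)))))))))))))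
theorem f94564 : Led Lsl_at (LP (LK LD1_c1 LD2_c46 LD3_c38)) = (LP (LK LD1_c3 LD2_c39 LD3_c22)) :=
  Lre_a IH (LK LD1_c1 LD2_c46 LD3_c38) (LK LD1_c3 LD2_c39 LD3_c22) Lrfl Lrfl
theorem f121850 : Led Lsl_gf (LP (LK LD1_c3 LD2_c39 LD3_c22)) = (LP (LK LD1_c3 LD2_c38 LD3_c24)) :=
  Lgr Lrot76 (Lpe (f94564 IH) (Lpr_ff (K4.f121843 IH) (Lpr_gt (K6.f18026 IH) (Lpn (LP (LK LD1_c3 LD2_c38 LD3_c24))))))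
theorem f94538 : Led Lsl_at (LP (LK LD1_c3 LD2_c39 LD3_c22)) = (LP (LK LD1_c1 LD2_c46 LD3_c38)) :=
  Lre_a IH (LK LD1_c3 LD2_c39 LD3_c22) (LK LD1_c1 LD2_c46 LD3_c38) Lrfl Lrfl
theorem f121863 : Led Lsl_cf (LP (LK LD1_c3 LD2_c39 LD3_c22)) = (LP (LK LD1_c3 LD2_c29 LD3_c37)) :=
  Lgr Lrot1 (Lpr_at (f94538 IH) (Lpr_ct (K2.f94485 IH) (Lpr_at (K4.f121858 IH) (Lpn (LP (LK LD1_c3 LD2_c29 LD3_c37))))))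
theorem f121862 : Led Lsl_bt (LP (LK LD1_c3 LD2_c29 LD3_c37)) = (LP (LK LD1_c7 LD2_c0 LD3_c49)) :=
  Lre_b IH (LK LD1_c3 LD2_c29 LD3_c37) (LK LD1_c7 LD2_c0 LD3_c49) Lrfl Lrfl
theorem f162947 : Led Lsl_gf (LP (LK LD1_c6 LD2_c53 LD3_c6)) = (LP (LK LD1_c7 LD2_c0 LD3_c49)) :=
  Lgr Lrot181 (Lpr_ct (f162938 IH) (Lpr_gt (f147800 IH) (Lpe (K7.f147793 IH) (Lpr_bt (K6.f111131 IH) (Lpr_gt (f123603 IH) (Lpe (K6.f123609 IH) (Lpr_ct (K6.f108909 IH) (Lpe (f121850 IH) (Lpr_cf (f121863 IH) (Lpr_bt (f121862 IH) (Lpn (LP (LK LD1_c7 LD2_c0 LD3_c49)))))))))))))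
theorem f162949 : Led Lsl_gf (LP (LK LD1_c12 LD2_c1 LD3_c53)) = (LP (LK LD1_c7 LD2_c39 LD3_c34)) :=
  Lgr Lrot147 (Lpr_ct (f117059 IH) (Lpe (f129469 IH) (Lpr_ct (K7.f105220 IH) (Lpr_df (K4.f111233 IH) (Lpr_cf (K7.f147782 IH) (Lpe (f147800 IH) (Lpe (f162938 IH) (Lpr_gf (f162947 IH) (Lpe (f157511 IH) (Lpn (LP (LK LD1_c7 LD2_c39 LD3_c34))))))))))))
theorem f127439 : Led Lsl_bt (LP (LK LD1_c6 LD2_c10 LD3_c39)) = (LP (LK LD1_c12 LD2_c1 LD3_c52)) :=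
  Lre_b IH (LK LD1_c6 LD2_c10 LD3_c39) (LK LD1_c12 LD2_c1 LD3_c52) Lrfl Lrfl
theorem f158003 : Led Lsl_bt (LP (LK LD1_c5 LD2_c51 LD3_c14)) = (LP (LK LD1_c11 LD2_c29 LD3_c56)) :=
  Lre_b IH (LK LD1_c5 LD2_c51 LD3_c14) (LK LD1_c11 LD2_c29 LD3_c56) Lrfl Lrfl
theorem f162953 : Led Lsl_gt (LP (LK LD1_c12 LD2_c1 LD3_c52)) = (LP (LK LD1_c6 LD2_c10 LD3_c53)) :=
  Lgr Lrot164 (Lpe (f127439 IH) (Lpr_ct (f95999 IH) (Lpr_gf (f162949 IH) (Lpr_cf (f87369 IH) (Lpr_gf (f157995 IH) (Lpe (f158003 IH) (Lpr_ct (f8368 IH) (Lpe (f157207 IH) (Lpr_cf (K6.f99948 IH) (Lpr_bt (K6.f99975 IH) (Lpn (LP (LK LD1_c6 LD2_c10 LD3_c53)))))))))))))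
theorem f161801 : Led Lsl_ct (LP (LK LD1_c6 LD2_c33 LD3_c56)) = (LP (LK LD1_c12 LD2_c1 LD3_c52)) :=
  Lgr Lrot59 (Lpr_cf (f161799 IH) (Lpn (LP (LK LD1_c12 LD2_c1 LD3_c52))))
theorem f72561 : Led Lsl_bt (LP (LK LD1_c2 LD2_c55 LD3_c20)) = (LP (LK LD1_c5 LD2_c57 LD3_c57)) :=
  Lre_b IH (LK LD1_c2 LD2_c55 LD3_c20) (LK LD1_c5 LD2_c57 LD3_c57) Lrfl Lrfl
theorem f72807 : Led Lsl_gt (LP (LK LD1_c5 LD2_c57 LD3_c57)) = (LP (LK LD1_c11 LD2_c40 LD3_c38)) :=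
  Lre_g IH (LK LD1_c5 LD2_c57 LD3_c57) (LK LD1_c11 LD2_c40 LD3_c38) Lrfl Lrfl
theorem f162965 : Led Lsl_bt (LP (LK LD1_c6 LD2_c33 LD3_c56)) = (LP (LK LD1_c11 LD2_c40 LD3_c38)) :=
  Lgr Lrot92 (Lpr_ct (f161801 IH) (Lpr_gt (f162953 IH) (Lpr_cf (f139043 IH) (Lpr_bt (K6.f138973 IH) (Lpr_gt (f150275 IH) (Lpr_ct (f72556 IH) (Lpr_gt (f72555 IH) (Lpe (K2.f72468 IH) (Lpr_bt (f72561 IH) (Lpr_gt (f72807 IH) (Lpn (LP (LK LD1_c11 LD2_c40 LD3_c38)))))))))))))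
theorem f162969 : Led Lsl_cf (LP (LK LD1_c7 LD2_c37 LD3_c44)) = (LP (LK LD1_c11 LD2_c40 LD3_c38)) :=
  Lgr Lrot97 (Lpe (f127437 IH) (Lpr_ct (f117059 IH) (Lpr_bt (f127439 IH) (Lpe (f161799 IH) (Lpr_bt (f162965 IH) (Lpn (LP (LK LD1_c11 LD2_c40 LD3_c38))))))))
theorem f111089 : Led Lsl_ct (LP (LK LD1_c9 LD2_c21 LD3_c8)) = (LP (LK LD1_c4 LD2_c44 LD3_c10)) :=
  Lre_c IH (LK LD1_c9 LD2_c21 LD3_c8) (LK LD1_c4 LD2_c44 LD3_c10) Lrfl Lrfl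
theorem f127262 : Led Lsl_dt (LP (LK LD1_c7 LD2_c32 LD3_c0)) = (LP (LK LD1_c7 LD2_c7 LD3_c29)) :=
  Lgr Lrot6 (Lpr_gt (K4.f92450 IH) (Lpr_ct (K4.f89128 IH) (Lpe (K4.f111875 IH) (Lpr_ct (f111089 IH) (Lpr_df (K5.f127253 IH) (Lpe (K3.f97864 IH) (Lpe (K3.f10464 IH) (Lpe (K3.f12040 IH) (Lpe (f96333 IH) (Lpn (LP (LK LD1_c7 LD2_c7 LD3_c29))))))))))))
theorem f127431 : Led Lsl_dt (LP (LK LD1_c3 LD2_c48 LD3_c21)) = (LP (LK LD1_c7 LD2_c37 LD3_c44)) :=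
  Lre_d IH (LK LD1_c3 LD2_c48 LD3_c21) (LK LD1_c7 LD2_c37 LD3_c44) Lrfl Lrfl
theorem f162163 : Led Lsl_ff (LP (LK LD1_c7 LD2_c32 LD3_c0)) = (LP (LK LD1_c7 LD2_c37 LD3_c44)) :=
  Lgr Lrot19 (Lpr_dt (f127262 IH) (Lpr_ft (f162159 IH) (Lpr_dt (f127431 IH) (Lpn (LP (LK LD1_c7 LD2_c37 LD3_c44))))))
theorem f162975 : Led Lsl_ft (LP (LK LD1_c14 LD2_c12 LD3_c31)) = (LP (LK LD1_c11 LD2_c40 LD3_c38)) :=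
  Lgr Lrot4 (Lpe (K4.f111838 IH) (Lpr_ff (f162163 IH) (Lpr_cf (f162969 IH) (Lpn (LP (LK LD1_c11 LD2_c40 LD3_c38))))))
theorem f162981 : Led Lsl_ff (LP (LK LD1_c14 LD2_c12 LD3_c31)) = (LP (LK LD1_c11 LD2_c40 LD3_c38)) :=
  Lgr Lrot3 (Lpr_ft (f162975 IH) (Lpn (LP (LK LD1_c11 LD2_c40 LD3_c38))))
theorem f162983 : Led Lsl_ft (LP (LK LD1_c12 LD2_c1 LD3_c30)) = (LP (LK LD1_c6 LD2_c33 LD3_c56)) :=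
  Lgr Lrot75 (Lpr_bf (K4.f111859 IH) (Lpr_ff (f162981 IH) (Lpe (f162965 IH) (Lpn (LP (LK LD1_c6 LD2_c33 LD3_c56))))))
theorem f138013 : Led Lsl_cf (LP (LK LD1_c5 LD2_c56 LD3_c29)) = (LP (LK LD1_c5 LD2_c47 LD3_c28)) :=
  Lgr Lrot11 (Lpr_ct (K7.f138011 IH) (Lpn (LP (LK LD1_c5 LD2_c47 LD3_c28))))
theorem f96092 : Led Lsl_gt (LP (LK LD1_c6 LD2_c10 LD3_c23)) = (LP (LK LD1_c12 LD2_c1 LD3_c29)) :=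
  Lre_g IH (LK LD1_c6 LD2_c10 LD3_c23) (LK LD1_c12 LD2_c1 LD3_c29) Lrfl Lrfl
theorem f162988 : Led Lsl_af (LP (LK LD1_c12 LD2_c1 LD3_c29)) = (LP (LK LD1_c6 LD2_c33 LD3_c56)) :=
  Lgr Lrot31 (Lpe (f96092 IH) (Lpe (K4.f96072 IH) (Lpr_ft (f162983 IH) (Lpn (LP (LK LD1_c6 LD2_c33 LD3_c56))))))
theorem f118887 : Led Lsl_at (LP (LK LD1_c5 LD2_c56 LD3_c8)) = (LP (LK LD1_c6 LD2_c24 LD3_c33)) :=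
  Lgr Lrot33 (Lpr_ff (K5.f118872 IH) (Lpr_dt (K4.f79078 IH) (Lpr_ct (K4.f64538 IH) (Lpr_dt (K4.f64544 IH) (Lpr_ct (K4.f66160 IH) (Lpr_dt (K4.f66264 IH) (Lpe (K4.f117625 IH) (Lpr_dt (K4.f117603 IH) (Lpr_ct (K4.f117604 IH) (Lpn (LP (LK LD1_c6 LD2_c24 LD3_c33))))))))))))
theorem f118889 : Led Lsl_gt (LP (LK LD1_c8 LD2_c49 LD3_c17)) = (LP (LK LD1_c6 LD2_c24 LD3_c33)) :=
  Lgr Lrot46 (Lpr_gf (f112444 IH) (Lpe (K5.f118872 IH) (Lpr_at (f118887 IH) (Lpn (LP (LK LD1_c6 LD2_c24 LD3_c33))))))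
theorem f118891 : Led Lsl_df (LP (LK LD1_c8 LD2_c49 LD3_c17)) = (LP (LK LD1_c12 LD2_c1 LD3_c29)) :=
  Lgr Lrot153 (Lpr_gt (f118889 IH) (Lpe (K4.f117683 IH) (Lpe (K4.f82016 IH) (Lpr_df (K4.f117693 IH) (Lpe (K4.f27162 IH) (Lpe (K2.f35223 IH) (Lpr_gf (K4.f103585 IH) (Lpe (K4.f61794 IH) (Lpr_gt (f96092 IH) (Lpn (LP (LK LD1_c12 LD2_c1 LD3_c29))))))))))))
theorem f137724 : Led Lsl_gf (LP (LK LD1_c6 LD2_c33 LD3_c57)) = (LP (LK LD1_c12 LD2_c1 LD3_c29)) :=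
  Lgr Lrot147 (Lpr_ct (f137718 IH) (Lpr_gt (f137719 IH) (Lpr_ct (f112823 IH) (Lpe (K6.f35226 IH) (Lpe (K2.f35225 IH) (Lpe (K4.f117647 IH) (Lpe (K5.f117646 IH) (Lpe (f118889 IH) (Lpr_df (f118891 IH) (Lpn (LP (LK LD1_c12 LD2_c1 LD3_c29))))))))))))
theorem f161253 : Led Lsl_gt (LP (LK LD1_c5 LD2_c55 LD3_c36)) = (LP (LK LD1_c11 LD2_c36 LD3_c28)) :=
  Lre_g IH (LK LD1_c5 LD2_c55 LD3_c36) (LK LD1_c11 LD2_c36 LD3_c28) Lrfl Lrfl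
theorem f161831 : Led Lsl_cf (LP (LK LD1_c12 LD2_c1 LD3_c29)) = (LP (LK LD1_c11 LD2_c36 LD3_c28)) :=
  Lgr Lrot169 (Lpe (f137724 IH) (Lpr_ct (f137718 IH) (Lpe (K7.f149712 IH) (Lpr_cf (K7.f149703 IH) (Lpr_gf (f161010 IH) (Lpr_cf (f161821 IH) (Lpe (f161254 IH) (Lpe (f161228 IH) (Lpr_gt (f161253 IH) (Lpn (LP (LK LD1_c11 LD2_c36 LD3_c28))))))))))))
theorem f162990 : Led Lsl_dt (LP (LK LD1_c5 LD2_c56 LD3_c29)) = (LP (LK LD1_c11 LD2_c36 LD3_c28)) :=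
  Lgr Lrot120 (Lpr_cf (f138013 IH) (Lpe (K6.f137999 IH) (Lpe (K6.f59545 IH) (Lpe (f59550 IH) (Lpe (f59551 IH) (Lpr_df (f138811 IH) (Lpr_ft (f162983 IH) (Lpe (f162988 IH) (Lpr_cf (f161831 IH) (Lpn (LP (LK LD1_c11 LD2_c36 LD3_c28))))))))))))
theorem f141764 : Led Lsl_dt (LP (LK LD1_c4 LD2_c38 LD3_c3)) = (LP (LK LD1_c2 LD2_c54 LD3_c34)) :=
  Lgr Lrot6 (Lpr_gt (K7.f80029 IH) (Lpr_ct (K7.f141757 IH) (Lpe (K7.f118883 IH) (Lpr_ct (K4.f117685 IH) (Lpr_df (K4.f117693 IH) (Lpr_cf (K4.f117501 IH) (Lpe (K6.f138780 IH) (Lpe (K7.f138011 IH) (Lpe (K7.f59561 IH) (Lpn (LP (LK LD1_c2 LD2_c54 LD3_c34))))))))))))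
theorem f80037 : Led Lsl_gt (LP (LK LD1_c9 LD2_c11 LD3_c48)) = (LP (LK LD1_c4 LD2_c38 LD3_c3)) :=
  Lre_g IH (LK LD1_c9 LD2_c11 LD3_c48) (LK LD1_c4 LD2_c38 LD3_c3) Lrfl Lrfl
theorem f138788 : Led Lsl_cf (LP (LK LD1_c9 LD2_c11 LD3_c48)) = (LP (LK LD1_c6 LD2_c36 LD3_c23)) :=
  Lgr Lrot169 (Lpr_gt (f80037 IH) (Lpr_ct (f80036 IH) (Lpe (K6.f112875 IH) (Lpe (f138257 IH) (Lpr_gf (f138261 IH) (Lpe (f59551 IH) (Lpr_gf (f138782 IH) (Lpe (K5.f117681 IH) (Lpr_gt (f117811 IH) (Lpn (LP (LK LD1_c6 LD2_c36 LD3_c23))))))))))))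
theorem f138790 : Led Lsl_ct (LP (LK LD1_c9 LD2_c11 LD3_c48)) = (LP (LK LD1_c6 LD2_c36 LD3_c23)) :=
  Lgr Lrot59 (Lpr_cf (f138788 IH) (Lpn (LP (LK LD1_c6 LD2_c36 LD3_c23))))
theorem f118895 : Led Lsl_dt (LP (LK LD1_c8 LD2_c49 LD3_c17)) = (LP (LK LD1_c12 LD2_c1 LD3_c29)) :=
  Lgr Lrot42 (Lpr_df (f118891 IH) (Lpn (LP (LK LD1_c12 LD2_c1 LD3_c29))))
theorem f162999 : Led Lsl_ct (LP (LK LD1_c12 LD2_c1 LD3_c29)) = (LP (LK LD1_c11 LD2_c36 LD3_c28)) :=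
  Lgr Lrot7 (Lpe (f118895 IH) (Lpr_gf (f112444 IH) (Lpr_df (K4.f79061 IH) (Lpe (f64543 IH) (Lpe (f138790 IH) (Lpr_gt (f80037 IH) (Lpr_dt (f141764 IH) (Lpr_gt (K7.f59561 IH) (Lpr_dt (f162990 IH) (Lpn (LP (LK LD1_c11 LD2_c36 LD3_c28))))))))))))
theorem f158828 : Led Lsl_ft (LP (LK LD1_c8 LD2_c49 LD3_c17)) = (LP (LK LD1_c11 LD2_c37 LD3_c30)) :=
  Lgr Lrot4 (Lpe (f99745 IH) (Lpe (f158729 IH) (Lpr_cf (f158821 IH) (Lpn (LP (LK LD1_c11 LD2_c37 LD3_c30))))))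
theorem f162992 : Led Lsl_df (LP (LK LD1_c5 LD2_c56 LD3_c29)) = (LP (LK LD1_c11 LD2_c36 LD3_c28)) :=
  Lgr Lrot38 (Lpr_dt (f162990 IH) (Lpn (LP (LK LD1_c11 LD2_c36 LD3_c28))))
theorem f163007 : Led Lsl_at (LP (LK LD1_c11 LD2_c37 LD3_c30)) = (LP (LK LD1_c11 LD2_c36 LD3_c16)) :=
  Lgr Lrot33 (Lpe (f158828 IH) (Lpr_dt (f118895 IH) (Lpr_ct (f162999 IH) (Lpe (f162992 IH) (Lpr_ct (K7.f138011 IH) (Lpe (f137977 IH) (Lpe (K6.f59540 IH) (Lpr_dt (f59547 IH) (Lpr_ct (f59548 IH) (Lpn (LP (LK LD1_c11 LD2_c36 LD3_c16))))))))))))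
theorem f158738 : Led Lsl_af (LP (LK LD1_c6 LD2_c25 LD3_c3)) = (LP (LK LD1_c4 LD2_c25 LD3_c59)) :=
  Lgr Lrot31 (Lpe (f117678 IH) (Lpe (f112487 IH) (Lpr_ft (f158729 IH) (Lpn (LP (LK LD1_c4 LD2_c25 LD3_c59))))))
theorem f161807 : Led Lsl_at (LP (LK LD1_c11 LD2_c37 LD3_c31)) = (LP (LK LD1_c8 LD2_c49 LD3_c17)) :=
  Lgr Lrot107 (Lpr_cf (f161805 IH) (Lpr_af (f158738 IH) (Lpe (f99742 IH) (Lpn (LP (LK LD1_c8 LD2_c49 LD3_c17))))))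
theorem f163013 : Led Lsl_ff (LP (LK LD1_c11 LD2_c37 LD3_c31)) = (LP (LK LD1_c11 LD2_c36 LD3_c16)) :=
  Lgr Lrot30 (Lpr_at (f161807 IH) (Lpr_ft (f158828 IH) (Lpr_at (f163007 IH) (Lpn (LP (LK LD1_c11 LD2_c36 LD3_c16))))))
theorem f161809 : Led Lsl_ct (LP (LK LD1_c11 LD2_c37 LD3_c31)) = (LP (LK LD1_c6 LD2_c25 LD3_c3)) :=
  Lgr Lrot59 (Lpr_cf (f161805 IH) (Lpn (LP (LK LD1_c6 LD2_c25 LD3_c3))))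
theorem f163015 : Led Lsl_ft (LP (LK LD1_c6 LD2_c25 LD3_c3)) = (LP (LK LD1_c5 LD2_c55 LD3_c29)) :=
  Lgr Lrot4 (Lpe (f161809 IH) (Lpr_ff (f163013 IH) (Lpe (f59548 IH) (Lpn (LP (LK LD1_c5 LD2_c55 LD3_c29))))))
theorem f163017 : Led Lsl_df (LP (LK LD1_c6 LD2_c25 LD3_c3)) = (LP (LK LD1_c3 LD2_c59 LD3_c28)) :=
  Lgr Lrot78 (Lpr_ft (f163015 IH) (Lpr_dt (f59550 IH) (Lpe (f158244 IH) (Lpn (LP (LK LD1_c3 LD2_c59 LD3_c28))))))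
theorem f163003 : Led Lsl_af (LP (LK LD1_c12 LD2_c1 LD3_c52)) = (LP (LK LD1_c11 LD2_c36 LD3_c28)) :=
  Lgr Lrot68 (Lpe (f161799 IH) (Lpe (f162988 IH) (Lpr_ct (f162999 IH) (Lpn (LP (LK LD1_c11 LD2_c36 LD3_c28))))))
theorem f37761 : Led Lsl_dt (LP (LK LD1_c3 LD2_c59 LD3_c29)) = (LP (LK LD1_c1 LD2_c56 LD3_c26)) :=
  Lre_d IH (LK LD1_c3 LD2_c59 LD3_c29) (LK LD1_c1 LD2_c56 LD3_c26) Lrfl Lrfl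
theorem f163027 : Led Lsl_ff (LP (LK LD1_c11 LD2_c36 LD3_c28)) = (LP (LK LD1_c12 LD2_c2 LD3_c10)) :=
  Lgr Lrot103 (Lpe (f163003 IH) (Lpe (f161801 IH) (Lpr_df (K6.f81801 IH) (Lpr_cf (f161805 IH) (Lpr_df (f163017 IH) (Lpe (K5.f37061 IH) (Lpe (f37761 IH) (Lpr_cf (K5.f112488 IH) (Lpe (f150346 IH) (Lpn (LP (LK LD1_c12 LD2_c2 LD3_c10))))))))))))
theorem f163033 : Led Lsl_gf (LP (LK LD1_c9 LD2_c7 LD3_c13)) = (LP (LK LD1_c12 LD2_c2 LD3_c10)) :=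
  Lgr Lrot47 (Lpr_gt (f161803 IH) (Lpr_af (f163003 IH) (Lpr_ff (f163027 IH) (Lpn (LP (LK LD1_c12 LD2_c2 LD3_c10))))))
theorem f163039 : Led Lsl_gt (LP (LK LD1_c9 LD2_c47 LD3_c50)) = (LP (LK LD1_c9 LD2_c7 LD3_c25)) :=
  Lgr Lrot150 (Lpe (f160866 IH) (Lpr_gf (f163033 IH) (Lpr_df (f150351 IH) (Lpe (f150344 IH) (Lpr_ct (f116984 IH) (Lpr_gt (f116978 IH) (Lpr_ct (f25188 IH) (Lpe (K2.f35223 IH) (Lpe (K2.f35224 IH) (Lpn (LP (LK LD1_c9 LD2_c7 LD3_c25))))))))))))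
theorem f161728 : Led Lsl_ft (LP (LK LD1_c9 LD2_c47 LD3_c50)) = (LP (LK LD1_c11 LD2_c36 LD3_c21)) :=
  Lgr Lrot54 (Lpe (f139123 IH) (Lpr_ff (f161720 IH) (Lpe (f149660 IH) (Lpn (LP (LK LD1_c11 LD2_c36 LD3_c21))))))
theorem f163042 : Led Lsl_at (LP (LK LD1_c11 LD2_c36 LD3_c21)) = (LP (LK LD1_c9 LD2_c47 LD3_c51)) :=
  Lgr Lrot26 (Lpe (f161728 IH) (Lpr_gt (f163039 IH) (Lpr_gt (K6.f139050 IH) (Lpn (LP (LK LD1_c9 LD2_c47 LD3_c51))))))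
theorem f161712 : Led Lsl_ct (LP (LK LD1_c5 LD2_c55 LD3_c43)) = (LP (LK LD1_c11 LD2_c36 LD3_c21)) :=
  Lgr Lrot59 (Lpr_cf (f161710 IH) (Lpn (LP (LK LD1_c11 LD2_c36 LD3_c21))))
theorem f163047 : Led Lsl_af (LP (LK LD1_c5 LD2_c55 LD3_c43)) = (LP (LK LD1_c6 LD2_c10 LD3_c53)) :=
  Lgr Lrot68 (Lpr_ct (f161712 IH) (Lpr_at (f163042 IH) (Lpe (f139043 IH) (Lpn (LP (LK LD1_c6 LD2_c10 LD3_c53))))))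
theorem f162997 : Led Lsl_gf (LP (LK LD1_c5 LD2_c55 LD3_c43)) = (LP (LK LD1_c11 LD2_c36 LD3_c28)) :=
  Lgr Lrot143 (Lpr_dt (f71954 IH) (Lpe (K6.f71953 IH) (Lpe (K6.f69449 IH) (Lpr_gf (K6.f71951 IH) (Lpe (K2.f35254 IH) (Lpe (f141855 IH) (Lpe (K7.f83004 IH) (Lpr_gt (K7.f59561 IH) (Lpr_dt (f162990 IH) (Lpn (LP (LK LD1_c11 LD2_c36 LD3_c28))))))))))))
theorem f163066 : Led Lsl_ft (LP (LK LD1_c5 LD2_c55 LD3_c36)) = (LP (LK LD1_c6 LD2_c10 LD3_c53)) :=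
  Lgr Lrot2 (Lpr_gt (f161253 IH) (Lpe (f162997 IH) (Lpr_af (f163047 IH) (Lpn (LP (LK LD1_c6 LD2_c10 LD3_c53))))))
theorem f161448 : Led Lsl_dt (LP (LK LD1_c6 LD2_c10 LD3_c53)) = (LP (LK LD1_c4 LD2_c35 LD3_c16)) :=
  Lgr Lrot79 (Lpe (K6.f99975 IH) (Lpe (K6.f99995 IH) (Lpr_bf (f161443 IH) (Lpn (LP (LK LD1_c4 LD2_c35 LD3_c16))))))
theorem f163072 : Led Lsl_ff (LP (LK LD1_c2 LD2_c54 LD3_c7)) = (LP (LK LD1_c4 LD2_c35 LD3_c16)) :=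
  Lgr Lrot19 (Lpr_dt (f161237 IH) (Lpr_ft (f163066 IH) (Lpr_dt (f161448 IH) (Lpn (LP (LK LD1_c4 LD2_c35 LD3_c16))))))
theorem f163078 : Led Lsl_at (LP (LK LD1_c2 LD2_c54 LD3_c7)) = (LP (LK LD1_c4 LD2_c35 LD3_c19)) :=
  Lgr Lrot26 (Lpr_ff (f163072 IH) (Lpe (f161441 IH) (Lpe (f160868 IH) (Lpn (LP (LK LD1_c4 LD2_c35 LD3_c19))))))
theorem f163064 : Led Lsl_at (LP (LK LD1_c2 LD2_c54 LD3_c12)) = (LP (LK LD1_c4 LD2_c35 LD3_c16)) :=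
  Lgr Lrot51 (Lpe (f71954 IH) (Lpr_af (f163047 IH) (Lpr_df (f161627 IH) (Lpn (LP (LK LD1_c4 LD2_c35 LD3_c16))))))
theorem f163086 : Led Lsl_ff (LP (LK LD1_c2 LD2_c54 LD3_c12)) = (LP (LK LD1_c4 LD2_c35 LD3_c19)) :=
  Lgr Lrot30 (Lpr_at (f163064 IH) (Lpe (f163072 IH) (Lpr_at (f163078 IH) (Lpn (LP (LK LD1_c4 LD2_c35 LD3_c19))))))
theorem f163092 : Led Lsl_ft (LP (LK LD1_c2 LD2_c54 LD3_c12)) = (LP (LK LD1_c4 LD2_c35 LD3_c19)) :=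
  Lgr Lrot48 (Lpr_ff (f163086 IH) (Lpn (LP (LK LD1_c4 LD2_c35 LD3_c19))))
theorem f163098 : Led Lsl_ff (LP (LK LD1_c1 LD2_c23 LD3_c5)) = (LP (LK LD1_c2 LD2_c14 LD3_c52)) :=
  Lgr Lrot23 (Lpr_ct (K6.f71953 IH) (Lpr_ft (f163092 IH) (Lpr_ct (f37063 IH) (Lpn (LP (LK LD1_c2 LD2_c14 LD3_c52))))))
theorem f163107 : Led Lsl_at (LP (LK LD1_c1 LD2_c23 LD3_c5)) = (LP (LK LD1_c2 LD2_c14 LD3_c50)) :=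
  Lgr Lrot26 (Lpr_ff (f163098 IH) (Lpe (f150446 IH) (Lpr_gt (f161435 IH) (Lpn (LP (LK LD1_c2 LD2_c14 LD3_c50))))))
theorem f163111 : Led Lsl_af (LP (LK LD1_c0 LD2_c38 LD3_c28)) = (LP (LK LD1_c1 LD2_c4 LD3_c32)) :=
  Lgr Lrot117 (Lpr_dt (K6.f69449 IH) (Lpr_at (f163107 IH) (Lpr_dt (f117016 IH) (Lpn (LP (LK LD1_c1 LD2_c4 LD3_c32))))))
theorem f163132 : Led Lsl_ft (LP (LK LD1_c0 LD2_c38 LD3_c27)) = (LP (LK LD1_c1 LD2_c4 LD3_c32)) :=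
  Lgr Lrot2 (Lpe (f161070 IH) (Lpe (K6.f71951 IH) (Lpr_af (f163111 IH) (Lpn (LP (LK LD1_c1 LD2_c4 LD3_c32))))))
theorem f163140 : Led Lsl_ff (LP (LK LD1_c0 LD2_c38 LD3_c27)) = (LP (LK LD1_c1 LD2_c4 LD3_c32)) :=
  Lgr Lrot3 (Lpr_ft (f163132 IH) (Lpn (LP (LK LD1_c1 LD2_c4 LD3_c32))))
theorem f101645 : Led Lsl_dt (LP (LK LD1_c9 LD2_c7 LD3_c13)) = (LP (LK LD1_c4 LD2_c35 LD3_c19)) :=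
  Lre_d IH (LK LD1_c9 LD2_c7 LD3_c13) (LK LD1_c4 LD2_c35 LD3_c19) Lrfl Lrfl
theorem f163037 : Led Lsl_gf (LP (LK LD1_c1 LD2_c4 LD3_c33)) = (LP (LK LD1_c0 LD2_c38 LD3_c29)) :=
  Lgr Lrot143 (Lpr_dt (f35231 IH) (Lpe (f37063 IH) (Lpe (f101645 IH) (Lpr_gf (f163033 IH) (Lpr_df (f150351 IH) (Lpe (K5.f112482 IH) (Lpe (K4.f69208 IH) (Lpe (K4.f112473 IH) (Lpr_dt (K4.f71845 IH) (Lpn (LP (LK LD1_c0 LD2_c38 LD3_c29))))))))))))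
theorem f163142 : Led Lsl_at (LP (LK LD1_c0 LD2_c38 LD3_c27)) = (LP (LK LD1_c1 LD2_c4 LD3_c33)) :=
  Lgr Lrot26 (Lpr_ff (f163140 IH) (Lpe (f161427 IH) (Lpe (f163037 IH) (Lpn (LP (LK LD1_c1 LD2_c4 LD3_c33))))))
theorem f161706 : Led Lsl_at (LP (LK LD1_c0 LD2_c38 LD3_c28)) = (LP (LK LD1_c1 LD2_c4 LD3_c32)) :=
  Lgr Lrot107 (Lpe (K6.f69440 IH) (Lpr_af (f161681 IH) (Lpe (K5.f26615 IH) (Lpn (LP (LK LD1_c1 LD2_c4 LD3_c32))))))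
theorem f163146 : Led Lsl_ff (LP (LK LD1_c0 LD2_c38 LD3_c28)) = (LP (LK LD1_c1 LD2_c4 LD3_c33)) :=
  Lgr Lrot30 (Lpr_at (f161706 IH) (Lpe (f163140 IH) (Lpr_at (f163142 IH) (Lpn (LP (LK LD1_c1 LD2_c4 LD3_c33))))))
theorem f69454 : Led Lsl_bt (LP (LK LD1_c0 LD2_c38 LD3_c28)) = (LP (LK LD1_c1 LD2_c23 LD3_c3)) :=
  Lre_b IH (LK LD1_c0 LD2_c38 LD3_c28) (LK LD1_c1 LD2_c23 LD3_c3) Lrfl Lrfl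
theorem f101612 : Led Lsl_bf (LP (LK LD1_c1 LD2_c4 LD3_c33)) = (LP (LK LD1_c1 LD2_c23 LD3_c35)) :=
  Lgr Lrot24 (Lpr_bt (K7.f101607 IH) (Lpn (LP (LK LD1_c1 LD2_c23 LD3_c35))))
theorem f163148 : Led Lsl_ft (LP (LK LD1_c1 LD2_c23 LD3_c3)) = (LP (LK LD1_c1 LD2_c23 LD3_c35)) :=
  Lgr Lrot75 (Lpe (f69454 IH) (Lpr_ff (f163146 IH) (Lpr_bf (f101612 IH) (Lpn (LP (LK LD1_c1 LD2_c23 LD3_c35))))))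
theorem f163154 : Led Lsl_ff (LP (LK LD1_c1 LD2_c23 LD3_c3)) = (LP (LK LD1_c1 LD2_c23 LD3_c35)) :=
  Lgr Lrot3 (Lpr_ft (f163148 IH) (Lpn (LP (LK LD1_c1 LD2_c23 LD3_c35))))
theorem f163158 : Led Lsl_at (LP (LK LD1_c1 LD2_c23 LD3_c3)) = (LP (LK LD1_c1 LD2_c23 LD3_c34)) :=
  Lgr Lrot26 (Lpr_ff (f163154 IH) (Lpr_gt (K6.f72574 IH) (Lpr_gt (K7.f26540 IH) (Lpn (LP (LK LD1_c1 LD2_c23 LD3_c34))))))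
theorem f163164 : Led Lsl_af (LP (LK LD1_c2 LD2_c54 LD3_c9)) = (LP (LK LD1_c2 LD2_c55 LD3_c14)) :=
  Lgr Lrot117 (Lpr_dt (K6.f81951 IH) (Lpr_at (f163158 IH) (Lpr_dt (f26554 IH) (Lpn (LP (LK LD1_c2 LD2_c55 LD3_c14))))))
theorem f163168 : Led Lsl_at (LP (LK LD1_c4 LD2_c59 LD3_c22)) = (LP (LK LD1_c5 LD2_c57 LD3_c49)) :=
  Lgr Lrot107 (Lpr_cf (K6.f81960 IH) (Lpr_af (f163164 IH) (Lpe (f26565 IH) (Lpn (LP (LK LD1_c5 LD2_c57 LD3_c49))))))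
theorem f163174 : Led Lsl_ff (LP (LK LD1_c4 LD2_c59 LD3_c22)) = (LP (LK LD1_c5 LD2_c57 LD3_c51)) :=
  Lgr Lrot52 (Lpr_at (f163168 IH) (Lpe (f150255 IH) (Lpr_gf (K7.f150214 IH) (Lpn (LP (LK LD1_c5 LD2_c57 LD3_c51))))))
theorem f163180 : Led Lsl_ft (LP (LK LD1_c4 LD2_c59 LD3_c22)) = (LP (LK LD1_c5 LD2_c57 LD3_c51)) :=
  Lgr Lrot48 (Lpr_ff (f163174 IH) (Lpn (LP (LK LD1_c5 LD2_c57 LD3_c51))))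
theorem f81962 : Led Lsl_et (LP (LK LD1_c9 LD2_c49 LD3_c8)) = (LP (LK LD1_c4 LD2_c59 LD3_c22)) :=
  Lre_e IH (LK LD1_c9 LD2_c49 LD3_c8) (LK LD1_c4 LD2_c59 LD3_c22) Lrfl Lrfl
theorem f81963 : Led Lsl_et (LP (LK LD1_c2 LD2_c54 LD3_c9)) = (LP (LK LD1_c5 LD2_c55 LD3_c38)) :=
  Lre_e IH (LK LD1_c2 LD2_c54 LD3_c9) (LK LD1_c5 LD2_c55 LD3_c38) Lrfl Lrfl
theorem f81964 : Led Lsl_cf (LP (LK LD1_c9 LD2_c49 LD3_c8)) = (LP (LK LD1_c5 LD2_c55 LD3_c38)) :=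
  Lgr Lrot39 (Lpr_et (f81962 IH) (Lpr_ct (K6.f81953 IH) (Lpr_et (f81963 IH) (Lpn (LP (LK LD1_c5 LD2_c55 LD3_c38))))))
theorem f81974 : Led Lsl_ct (LP (LK LD1_c9 LD2_c49 LD3_c8)) = (LP (LK LD1_c5 LD2_c55 LD3_c38)) :=
  Lgr Lrot59 (Lpr_cf (f81964 IH) (Lpn (LP (LK LD1_c5 LD2_c55 LD3_c38))))
theorem f81977 : Led Lsl_bt (LP (LK LD1_c17 LD2_c59 LD3_c35)) = (LP (LK LD1_c9 LD2_c49 LD3_c8)) :=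
  Lre_b IH (LK LD1_c17 LD2_c59 LD3_c35) (LK LD1_c9 LD2_c49 LD3_c8) Lrfl Lrfl
theorem f81976 : Led Lsl_bt (LP (LK LD1_c5 LD2_c55 LD3_c38)) = (LP (LK LD1_c2 LD2_c54 LD3_c13)) :=
  Lre_b IH (LK LD1_c5 LD2_c55 LD3_c38) (LK LD1_c2 LD2_c54 LD3_c13) Lrfl Lrfl
theorem f81978 : Led Lsl_ct (LP (LK LD1_c2 LD2_c54 LD3_c13)) = (LP (LK LD1_c5 LD2_c55 LD3_c44)) :=
  Lre_c IH (LK LD1_c2 LD2_c54 LD3_c13) (LK LD1_c5 LD2_c55 LD3_c44) Lrfl Lrfl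
theorem f81979 : Led Lsl_bt (LP (LK LD1_c5 LD2_c55 LD3_c44)) = (LP (LK LD1_c11 LD2_c36 LD3_c38)) :=
  Lre_b IH (LK LD1_c5 LD2_c55 LD3_c44) (LK LD1_c11 LD2_c36 LD3_c38) Lrfl Lrfl
theorem f81980 : Led Lsl_cf (LP (LK LD1_c17 LD2_c59 LD3_c35)) = (LP (LK LD1_c11 LD2_c36 LD3_c38)) :=
  Lgr Lrot97 (Lpr_bt (f81977 IH) (Lpr_ct (f81974 IH) (Lpr_bt (f81976 IH) (Lpr_ct (f81978 IH) (Lpr_bt (f81979 IH) (Lpn (LP (LK LD1_c11 LD2_c36 LD3_c38))))))))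
theorem f81984 : Led Lsl_et (LP (LK LD1_c17 LD2_c59 LD3_c35)) = (LP (LK LD1_c9 LD2_c49 LD3_c7)) :=
  Lre_e IH (LK LD1_c17 LD2_c59 LD3_c35) (LK LD1_c9 LD2_c49 LD3_c7) Lrfl Lrfl
theorem f81985 : Led Lsl_et (LP (LK LD1_c5 LD2_c55 LD3_c42)) = (LP (LK LD1_c11 LD2_c36 LD3_c38)) :=
  Lre_e IH (LK LD1_c5 LD2_c55 LD3_c42) (LK LD1_c11 LD2_c36 LD3_c38) Lrfl Lrfl
theorem f81986 : Led Lsl_ct (LP (LK LD1_c9 LD2_c49 LD3_c7)) = (LP (LK LD1_c5 LD2_c55 LD3_c42)) :=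
  Lgr Lrot15 (Lpe (f81984 IH) (Lpr_cf (f81980 IH) (Lpe (f81985 IH) (Lpn (LP (LK LD1_c5 LD2_c55 LD3_c42))))))
theorem f94939 : Led Lsl_gf (LP (LK LD1_c2 LD2_c27 LD3_c37)) = (LP (LK LD1_c4 LD2_c59 LD3_c22)) :=
  Lgr Lrot181 (Lpr_ct (K6.f74382 IH) (Lpr_gt (K6.f68993 IH) (Lpe (K4.f56883 IH) (Lpr_bt (K6.f58902 IH) (Lpr_gt (K2.f77775 IH) (Lpe (K4.f78137 IH) (Lpe (K4.f79366 IH) (Lpr_gt (K6.f94935 IH) (Lpe (f81986 IH) (Lpr_bt (K6.f57075 IH) (Lpn (LP (LK LD1_c4 LD2_c59 LD3_c22)))))))))))))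
theorem f163186 : Led Lsl_af (LP (LK LD1_c4 LD2_c59 LD3_c23)) = (LP (LK LD1_c5 LD2_c57 LD3_c51)) :=
  Lgr Lrot31 (Lpe (f74379 IH) (Lpr_gf (f94939 IH) (Lpr_ft (f163180 IH) (Lpn (LP (LK LD1_c5 LD2_c57 LD3_c51))))))
theorem f163170 : Led Lsl_af (LP (LK LD1_c4 LD2_c59 LD3_c22)) = (LP (LK LD1_c5 LD2_c57 LD3_c49)) :=
  Lgr Lrot0 (Lpr_at (f163168 IH) (Lpn (LP (LK LD1_c5 LD2_c57 LD3_c49))))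
theorem f163194 : Led Lsl_ft (LP (LK LD1_c4 LD2_c59 LD3_c23)) = (LP (LK LD1_c5 LD2_c57 LD3_c49)) :=
  Lgr Lrot101 (Lpr_af (f163186 IH) (Lpe (f163180 IH) (Lpr_af (f163170 IH) (Lpn (LP (LK LD1_c5 LD2_c57 LD3_c49))))))
theorem f163198 : Led Lsl_ff (LP (LK LD1_c4 LD2_c59 LD3_c23)) = (LP (LK LD1_c5 LD2_c57 LD3_c49)) :=
  Lgr Lrot3 (Lpr_ft (f163194 IH) (Lpn (LP (LK LD1_c5 LD2_c57 LD3_c49))))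
theorem f163200 : Led Lsl_ft (LP (LK LD1_c9 LD2_c47 LD3_c53)) = (LP (LK LD1_c11 LD2_c40 LD3_c27)) :=
  Lgr Lrot54 (Lpr_df (f74372 IH) (Lpr_ff (f163198 IH) (Lpe (f26566 IH) (Lpn (LP (LK LD1_c11 LD2_c40 LD3_c27))))))
theorem f158487 : Led Lsl_ct (LP (LK LD1_c9 LD2_c29 LD3_c59)) = (LP (LK LD1_c9 LD2_c47 LD3_c53)) :=
  Lgr Lrot59 (Lpr_cf (f158485 IH) (Lpn (LP (LK LD1_c9 LD2_c47 LD3_c53))))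
theorem f163204 : Led Lsl_ff (LP (LK LD1_c9 LD2_c29 LD3_c59)) = (LP (LK LD1_c5 LD2_c58 LD3_c23)) :=
  Lgr Lrot23 (Lpr_ct (f158487 IH) (Lpr_ft (f163200 IH) (Lpe (f150357 IH) (Lpn (LP (LK LD1_c5 LD2_c58 LD3_c23))))))
theorem f163210 : Led Lsl_at (LP (LK LD1_c9 LD2_c29 LD3_c59)) = (LP (LK LD1_c5 LD2_c58 LD3_c22)) :=
  Lgr Lrot26 (Lpr_ff (f163204 IH) (Lpr_gt (f150243 IH) (Lpr_gt (K7.f26529 IH) (Lpn (LP (LK LD1_c5 LD2_c58 LD3_c22))))))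
theorem f163214 : Led Lsl_af (LP (LK LD1_c4 LD2_c48 LD3_c44)) = (LP (LK LD1_c2 LD2_c56 LD3_c11)) :=
  Lgr Lrot117 (Lpr_dt (f137606 IH) (Lpr_at (f163210 IH) (Lpr_dt (f26528 IH) (Lpn (LP (LK LD1_c2 LD2_c56 LD3_c11))))))
theorem f163231 : Led Lsl_at (LP (LK LD1_c4 LD2_c58 LD3_c28)) = (LP (LK LD1_c2 LD2_c51 LD3_c18)) :=
  Lgr Lrot107 (Lpe (f158480 IH) (Lpr_af (f163214 IH) (Lpr_cf (K7.f26483 IH) (Lpn (LP (LK LD1_c2 LD2_c51 LD3_c18))))))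
theorem f156784 : Led Lsl_gt (LP (LK LD1_c5 LD2_c57 LD3_c50)) = (LP (LK LD1_c3 LD2_c59 LD3_c41)) :=
  Lgr Lrot9 (Lpe (f72610 IH) (Lpe (f150384 IH) (Lpr_ct (K6.f139358 IH) (Lpe (K6.f139339 IH) (Lpr_ct (K7.f20285 IH) (Lpe (K3.f26570 IH) (Lpe (K3.f69677 IH) (Lpe (K4.f105024 IH) (Lpr_cf (K7.f156754 IH) (Lpn (LP (LK LD1_c3 LD2_c59 LD3_c41))))))))))))
theorem f163259 : Led Lsl_ff (LP (LK LD1_c4 LD2_c58 LD3_c28)) = (LP (LK LD1_c5 LD2_c57 LD3_c50)) :=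
  Lgr Lrot52 (Lpr_at (f163231 IH) (Lpr_gf (K7.f156782 IH) (Lpe (f156784 IH) (Lpn (LP (LK LD1_c5 LD2_c57 LD3_c50))))))
theorem f101750 : Led Lsl_dt (LP (LK LD1_c2 LD2_c27 LD3_c17)) = (LP (LK LD1_c4 LD2_c58 LD3_c52)) :=
  Lre_d IH (LK LD1_c2 LD2_c27 LD3_c17) (LK LD1_c4 LD2_c58 LD3_c52) Lrfl Lrfl
theorem f161317 : Led Lsl_bt (LP (LK LD1_c4 LD2_c58 LD3_c52)) = (LP (LK LD1_c5 LD2_c57 LD3_c50)) :=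
  Lgr Lrot95 (Lpe (f101750 IH) (Lpr_bf (f161306 IH) (Lpe (f72586 IH) (Lpn (LP (LK LD1_c5 LD2_c57 LD3_c50))))))
theorem f163261 : Led Lsl_ft (LP (LK LD1_c5 LD2_c54 LD3_c3)) = (LP (LK LD1_c4 LD2_c58 LD3_c52)) :=
  Lgr Lrot75 (Lpe (f125697 IH) (Lpr_ff (f163259 IH) (Lpe (f161317 IH) (Lpn (LP (LK LD1_c4 LD2_c58 LD3_c52))))))
theorem f163272 : Led Lsl_ff (LP (LK LD1_c5 LD2_c54 LD3_c3)) = (LP (LK LD1_c4 LD2_c58 LD3_c52)) :=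
  Lgr Lrot3 (Lpr_ft (f163261 IH) (Lpn (LP (LK LD1_c4 LD2_c58 LD3_c52))))
theorem f163278 : Led Lsl_ft (LP (LK LD1_c2 LD2_c53 LD3_c24)) = (LP (LK LD1_c2 LD2_c27 LD3_c17)) :=
  Lgr Lrot54 (Lpe (K6.f76361 IH) (Lpr_ff (f163272 IH) (Lpe (f101750 IH) (Lpn (LP (LK LD1_c2 LD2_c27 LD3_c17))))))
theorem f138887 : Led Lsl_ct (LP (LK LD1_c4 LD2_c25 LD3_c50)) = (LP (LK LD1_c2 LD2_c10 LD3_c16)) :=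
  Lre_c IH (LK LD1_c4 LD2_c25 LD3_c50) (LK LD1_c2 LD2_c10 LD3_c16) Lrfl Lrfl
theorem f82040 : Led Lsl_bt (LP (LK LD1_c0 LD2_c29 LD3_c43)) = (LP (LK LD1_c0 LD2_c13 LD3_c4)) :=
  Lre_b IH (LK LD1_c0 LD2_c29 LD3_c43) (LK LD1_c0 LD2_c13 LD3_c4) Lrfl Lrfl
theorem f22775 : Led Lsl_gt (LP (LK LD1_c1 LD2_c22 LD3_c48)) = (LP (LK LD1_c0 LD2_c38 LD3_c21)) :=
  Lre_g IH (LK LD1_c1 LD2_c22 LD3_c48) (LK LD1_c0 LD2_c38 LD3_c21) Lrfl Lrfl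
theorem f22776 : Led Lsl_ct (LP (LK LD1_c1 LD2_c22 LD3_c13)) = (LP (LK LD1_c1 LD2_c22 LD3_c48)) :=
  Lre_c IH (LK LD1_c1 LD2_c22 LD3_c13) (LK LD1_c1 LD2_c22 LD3_c48) Lrfl Lrfl
theorem f158158 : Led Lsl_gt (LP (LK LD1_c2 LD2_c27 LD3_c18)) = (LP (LK LD1_c1 LD2_c22 LD3_c13)) :=
  Lgr Lrot82 (Lpe (K6.f138878 IH) (Lpr_ct (f138887 IH) (Lpr_gf (f158154 IH) (Lpe (f35544 IH) (Lpr_bt (f82040 IH) (Lpe (K0.f22453 IH) (Lpe (K2.f69332 IH) (Lpr_ct (K4.f37944 IH) (Lpe (f22775 IH) (Lpe (f22776 IH) (Lpn (LP (LK LD1_c1 LD2_c22 LD3_c13)))))))))))))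
theorem f163282 : Led Lsl_af (LP (LK LD1_c1 LD2_c22 LD3_c13)) = (LP (LK LD1_c2 LD2_c27 LD3_c17)) :=
  Lgr Lrot31 (Lpe (f158158 IH) (Lpr_gf (f158464 IH) (Lpr_ft (f163278 IH) (Lpn (LP (LK LD1_c2 LD2_c27 LD3_c17))))))
theorem f163286 : Led Lsl_at (LP (LK LD1_c1 LD2_c22 LD3_c48)) = (LP (LK LD1_c2 LD2_c15 LD3_c14)) :=
  Lgr Lrot107 (Lpe (f22776 IH) (Lpr_af (f163282 IH) (Lpr_cf (f161322 IH) (Lpn (LP (LK LD1_c2 LD2_c15 LD3_c14))))))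
theorem f163292 : Led Lsl_ff (LP (LK LD1_c1 LD2_c22 LD3_c48)) = (LP (LK LD1_c2 LD2_c15 LD3_c15)) :=
  Lgr Lrot52 (Lpr_at (f163286 IH) (Lpe (f112400 IH) (Lpe (K6.f71047 IH) (Lpn (LP (LK LD1_c2 LD2_c15 LD3_c15))))))
theorem f163302 : Led Lsl_ft (LP (LK LD1_c1 LD2_c22 LD3_c48)) = (LP (LK LD1_c2 LD2_c15 LD3_c15)) :=
  Lgr Lrot48 (Lpr_ff (f163292 IH) (Lpn (LP (LK LD1_c2 LD2_c15 LD3_c15))))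
theorem f163310 : Led Lsl_af (LP (LK LD1_c1 LD2_c22 LD3_c47)) = (LP (LK LD1_c2 LD2_c15 LD3_c15)) :=
  Lgr Lrot31 (Lpe (K4.f69347 IH) (Lpe (f22775 IH) (Lpr_ft (f163302 IH) (Lpn (LP (LK LD1_c2 LD2_c15 LD3_c15))))))
theorem f163288 : Led Lsl_af (LP (LK LD1_c1 LD2_c22 LD3_c48)) = (LP (LK LD1_c2 LD2_c15 LD3_c14)) :=
  Lgr Lrot0 (Lpr_at (f163286 IH) (Lpn (LP (LK LD1_c2 LD2_c15 LD3_c14))))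
theorem f163316 : Led Lsl_ft (LP (LK LD1_c1 LD2_c22 LD3_c47)) = (LP (LK LD1_c2 LD2_c15 LD3_c14)) :=
  Lgr Lrot101 (Lpr_af (f163310 IH) (Lpe (f163302 IH) (Lpr_af (f163288 IH) (Lpn (LP (LK LD1_c2 LD2_c15 LD3_c14))))))
theorem f163324 : Led Lsl_dt (LP (LK LD1_c2 LD2_c51 LD3_c15)) = (LP (LK LD1_c1 LD2_c22 LD3_c13)) :=
  Lgr Lrot120 (Lpe (f26500 IH) (Lpr_df (K7.f139485 IH) (Lpe (K4.f99472 IH) (Lpr_df (K6.f76305 IH) (Lpe (K6.f69349 IH) (Lpe (K6.f69348 IH) (Lpr_ft (f163316 IH) (Lpe (f163288 IH) (Lpe (f22776 IH) (Lpn (LP (LK LD1_c1 LD2_c22 LD3_c13))))))))))))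
theorem f139369 : Led Lsl_bt (LP (LK LD1_c1 LD2_c10 LD3_c47)) = (LP (LK LD1_c2 LD2_c26 LD3_c60)) :=
  Lre_b IH (LK LD1_c1 LD2_c10 LD3_c47) (LK LD1_c2 LD2_c26 LD3_c60) Lrfl Lrfl
theorem f139370 : Led Lsl_cf (LP (LK LD1_c3 LD2_c59 LD3_c21)) = (LP (LK LD1_c2 LD2_c26 LD3_c60)) :=
  Lgr Lrot97 (Lpr_bt (f132700 IH) (Lpr_ct (K7.f37772 IH) (Lpr_bt (K6.f139368 IH) (Lpr_ct (K6.f139358 IH) (Lpr_bt (f139369 IH) (Lpn (LP (LK LD1_c2 LD2_c26 LD3_c60))))))))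
theorem f163328 : Led Lsl_gf (LP (LK LD1_c2 LD2_c26 LD3_c60)) = (LP (LK LD1_c1 LD2_c22 LD3_c13)) :=
  Lgr Lrot179 (Lpe (f139370 IH) (Lpe (K7.f37774 IH) (Lpr_ct (K7.f37768 IH) (Lpr_dt (K7.f37814 IH) (Lpe (K7.f37815 IH) (Lpr_gf (K7.f149930 IH) (Lpr_cf (K4.f104780 IH) (Lpe (f158856 IH) (Lpr_dt (f163324 IH) (Lpn (LP (LK LD1_c1 LD2_c22 LD3_c13))))))))))))
theorem f138309 : Led Lsl_ct (LP (LK LD1_c1 LD2_c22 LD3_c48)) = (LP (LK LD1_c1 LD2_c22 LD3_c13)) :=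
  Lre_c IH (LK LD1_c1 LD2_c22 LD3_c48) (LK LD1_c1 LD2_c22 LD3_c13) Lrfl Lrfl
theorem f163298 : Led Lsl_ft (LP (LK LD1_c1 LD2_c22 LD3_c13)) = (LP (LK LD1_c2 LD2_c14 LD3_c22)) :=
  Lgr Lrot4 (Lpe (f138309 IH) (Lpr_ff (f163292 IH) (Lpe (K7.f71054 IH) (Lpn (LP (LK LD1_c2 LD2_c14 LD3_c22))))))
theorem f163330 : Led Lsl_af (LP (LK LD1_c2 LD2_c53 LD3_c24)) = (LP (LK LD1_c2 LD2_c14 LD3_c22)) :=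
  Lgr Lrot31 (Lpe (f158466 IH) (Lpr_gf (f163328 IH) (Lpr_ft (f163298 IH) (Lpn (LP (LK LD1_c2 LD2_c14 LD3_c22))))))
theorem f76304 : Led Lsl_dt (LP (LK LD1_c2 LD2_c53 LD3_c24)) = (LP (LK LD1_c5 LD2_c54 LD3_c3)) :=
  Lre_d IH (LK LD1_c2 LD2_c53 LD3_c24) (LK LD1_c5 LD2_c54 LD3_c3) Lrfl Lrfl
theorem f158860 : Led Lsl_af (LP (LK LD1_c4 LD2_c33 LD3_c58)) = (LP (LK LD1_c5 LD2_c54 LD3_c3)) :=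
  Lgr Lrot0 (Lpr_at (f158858 IH) (Lpn (LP (LK LD1_c5 LD2_c54 LD3_c3))))
theorem f163332 : Led Lsl_dt (LP (LK LD1_c4 LD2_c33 LD3_c58)) = (LP (LK LD1_c2 LD2_c14 LD3_c22)) :=
  Lgr Lrot44 (Lpr_af (f158860 IH) (Lpe (f76304 IH) (Lpr_af (f163330 IH) (Lpn (LP (LK LD1_c2 LD2_c14 LD3_c22))))))
theorem f163336 : Led Lsl_df (LP (LK LD1_c4 LD2_c33 LD3_c58)) = (LP (LK LD1_c2 LD2_c14 LD3_c22)) :=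
  Lgr Lrot38 (Lpr_dt (f163332 IH) (Lpn (LP (LK LD1_c2 LD2_c14 LD3_c22))))
theorem f138831 : Led Lsl_bt (LP (LK LD1_c1 LD2_c4 LD3_c15)) = (LP (LK LD1_c2 LD2_c14 LD3_c22)) :=
  Lre_b IH (LK LD1_c1 LD2_c4 LD3_c15) (LK LD1_c2 LD2_c14 LD3_c22) Lrfl Lrfl
theorem f163340 : Led Lsl_dt (LP (LK LD1_c2 LD2_c13 LD3_c52)) = (LP (LK LD1_c1 LD2_c4 LD3_c15)) :=
  Lgr Lrot79 (Lpe (f58857 IH) (Lpr_df (f163336 IH) (Lpe (f138831 IH) (Lpn (LP (LK LD1_c1 LD2_c4 LD3_c15))))))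
theorem f58890 : Led Lsl_bt (LP (LK LD1_c2 LD2_c13 LD3_c52)) = (LP (LK LD1_c4 LD2_c33 LD3_c58)) :=
  Lre_b IH (LK LD1_c2 LD2_c13 LD3_c52) (LK LD1_c4 LD2_c33 LD3_c58) Lrfl Lrfl
theorem f163257 : Led Lsl_af (LP (LK LD1_c2 LD2_c13 LD3_c52)) = (LP (LK LD1_c1 LD2_c21 LD3_c43)) :=
  Lgr Lrot36 (Lpr_bt (f58890 IH) (Lpr_at (f158858 IH) (Lpr_bt (K4.f69013 IH) (Lpr_at (f163231 IH) (Lpr_bt (K7.f26482 IH) (Lpn (LP (LK LD1_c1 LD2_c21 LD3_c43))))))))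
theorem f22818 : Led Lsl_bt (LP (LK LD1_c1 LD2_c22 LD3_c14)) = (LP (LK LD1_c0 LD2_c38 LD3_c6)) :=
  Lre_b IH (LK LD1_c1 LD2_c22 LD3_c14) (LK LD1_c0 LD2_c38 LD3_c6) Lrfl Lrfl
theorem f26523 : Led Lsl_bt (LP (LK LD1_c1 LD2_c21 LD3_c43)) = (LP (LK LD1_c2 LD2_c51 LD3_c18)) :=
  Lre_b IH (LK LD1_c1 LD2_c21 LD3_c43) (LK LD1_c2 LD2_c51 LD3_c18) Lrfl Lrfl
theorem f26551 : Led Lsl_dt (LP (LK LD1_c0 LD2_c38 LD3_c6)) = (LP (LK LD1_c1 LD2_c21 LD3_c43)) :=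
  Lgr Lrot79 (Lpe (f22818 IH) (Lpr_df (K7.f26545 IH) (Lpe (f26523 IH) (Lpn (LP (LK LD1_c1 LD2_c21 LD3_c43))))))
theorem f163571 : Led Lsl_af (LP (LK LD1_c0 LD2_c38 LD3_c6)) = (LP (LK LD1_c1 LD2_c4 LD3_c15)) :=
  Lgr Lrot117 (Lpr_dt (f26551 IH) (Lpe (f163257 IH) (Lpr_dt (f163340 IH) (Lpn (LP (LK LD1_c1 LD2_c4 LD3_c15))))))
theorem f163342 : Led Lsl_ft (LP (LK LD1_c4 LD2_c33 LD3_c58)) = (LP (LK LD1_c2 LD2_c51 LD3_c15)) :=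
  Lgr Lrot54 (Lpr_df (f163336 IH) (Lpe (f163298 IH) (Lpe (f163324 IH) (Lpn (LP (LK LD1_c2 LD2_c51 LD3_c15))))))
theorem f163554 : Led Lsl_ff (LP (LK LD1_c2 LD2_c13 LD3_c52)) = (LP (LK LD1_c1 LD2_c21 LD3_c42)) :=
  Lgr Lrot25 (Lpr_bt (f58890 IH) (Lpr_ft (f163342 IH) (Lpr_bt (K6.f26489 IH) (Lpn (LP (LK LD1_c1 LD2_c21 LD3_c42))))))
theorem f24407 : Led Lsl_bt (LP (LK LD1_c0 LD2_c7 LD3_c35)) = (LP (LK LD1_c0 LD2_c16 LD3_c61)) :=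
  Lre_b IH (LK LD1_c0 LD2_c7 LD3_c35) (LK LD1_c0 LD2_c16 LD3_c61) Lrfl Lrfl
theorem f24408 : Led Lsl_gt (LP (LK LD1_c0 LD2_c16 LD3_c61)) = (LP (LK LD1_c0 LD2_c38 LD3_c5)) :=
  Lre_g IH (LK LD1_c0 LD2_c16 LD3_c61) (LK LD1_c0 LD2_c38 LD3_c5) Lrfl Lrfl
theorem f139754 : Led Lsl_df (LP (LK LD1_c1 LD2_c21 LD3_c42)) = (LP (LK LD1_c0 LD2_c38 LD3_c5)) :=
  Lgr Lrot183 (Lpr_ct (f26493 IH) (Lpr_bt (K6.f26511 IH) (Lpr_gt (K6.f139496 IH) (Lpr_dt (K6.f40016 IH) (Lpr_ct (f40015 IH) (Lpr_bt (K1.f16566 IH) (Lpe (K4.f40013 IH) (Lpe (K4.f80442 IH) (Lpr_ct (K4.f59626 IH) (Lpr_bt (K4.f80538 IH) (Lpr_gt (K1.f59351 IH) (Lpr_dt (K1.f13642 IH) (Lpr_ct (K0.f13635 IH) (Lpr_bt (K0.f9608 IH) (Lpr_gt (K0.f8416 IH) (Lpe (K0.f24210 IH) (Lpr_ct (K0.f22454 IH) (Lpr_bt (f24407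 IH) (Lpr_gt (f24408 IH) (Lpn (LP (LK LD1_c0 LD2_c38 LD3_c5))))))))))))))))))))))
theorem f163558 : Led Lsl_ft (LP (LK LD1_c1 LD2_c4 LD3_c15)) = (LP (LK LD1_c0 LD2_c38 LD3_c5)) :=
  Lgr Lrot54 (Lpe (f163340 IH) (Lpr_ff (f163554 IH) (Lpr_df (f139754 IH) (Lpn (LP (LK LD1_c0 LD2_c38 LD3_c5))))))
theorem f163564 : Led Lsl_ff (LP (LK LD1_c1 LD2_c4 LD3_c15)) = (LP (LK LD1_c0 LD2_c38 LD3_c5)) :=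
  Lgr Lrot3 (Lpr_ft (f163558 IH) (Lpn (LP (LK LD1_c0 LD2_c38 LD3_c5))))
theorem f152015 : Led Lsl_at (LP (LK LD1_c0 LD2_c29 LD3_c25)) = (LP (LK LD1_c1 LD2_c4 LD3_c17)) :=
  Lre_a IH (LK LD1_c0 LD2_c29 LD3_c25) (LK LD1_c1 LD2_c4 LD3_c17) Lrfl Lrfl
theorem f152023 : Led Lsl_gf (LP (LK LD1_c1 LD2_c4 LD3_c17)) = (LP (LK LD1_c0 LD2_c38 LD3_c5)) :=
  Lgr Lrot76 (Lpe (f152015 IH) (Lpr_ff (K7.f152012 IH) (Lpr_gt (f24408 IH) (Lpn (LP (LK LD1_c0 LD2_c38 LD3_c5))))))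
theorem f163579 : Led Lsl_gf (LP (LK LD1_c0 LD2_c38 LD3_c6)) = (LP (LK LD1_c1 LD2_c4 LD3_c17)) :=
  Lgr Lrot76 (Lpr_af (f163571 IH) (Lpr_ff (f163564 IH) (Lpe (f152023 IH) (Lpn (LP (LK LD1_c1 LD2_c4 LD3_c17))))))
theorem f163581 : Led Lsl_bt (LP (LK LD1_c0 LD2_c37 LD3_c56)) = (LP (LK LD1_c1 LD2_c4 LD3_c17)) :=
  Lgr Lrot22 (Lpe (f8349 IH) (Lpe (f151796 IH) (Lpr_cf (f157617 IH) (Lpe (f150258 IH) (Lpe (f150257 IH) (Lpr_ct (f72536 IH) (Lpe (K7.f56888 IH) (Lpe (K7.f26553 IH) (Lpr_bt (f22818 IH) (Lpr_gf (f163579 IH) (Lpn (LP (LK LD1_c1 LD2_c4 LD3_c17)))))))))))))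
theorem f152025 : Led Lsl_dt (LP (LK LD1_c1 LD2_c4 LD3_c17)) = (LP (LK LD1_c2 LD2_c14 LD3_c24)) :=
  Lre_d IH (LK LD1_c1 LD2_c4 LD3_c17) (LK LD1_c2 LD2_c14 LD3_c24) Lrfl Lrfl
theorem f163587 : Led Lsl_bf (LP (LK LD1_c1 LD2_c21 LD3_c58)) = (LP (LK LD1_c2 LD2_c14 LD3_c24)) :=
  Lgr Lrot93 (Lpr_dt (f8375 IH) (Lpr_bt (f163581 IH) (Lpr_dt (f152025 IH) (Lpn (LP (LK LD1_c2 LD2_c14 LD3_c24))))))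
theorem f22336 : Led Lsl_et (LP (LK LD1_c1 LD2_c21 LD3_c58)) = (LP (LK LD1_c2 LD2_c51 LD3_c49)) :=
  Lre_e IH (LK LD1_c1 LD2_c21 LD3_c58) (LK LD1_c2 LD2_c51 LD3_c49) Lrfl Lrfl
theorem f163592 : Led Lsl_et (LP (LK LD1_c4 LD2_c34 LD3_c43)) = (LP (LK LD1_c2 LD2_c14 LD3_c24)) :=
  Lre_e IH (LK LD1_c4 LD2_c34 LD3_c43) (LK LD1_c2 LD2_c14 LD3_c24) Lrfl Lrfl
theorem f163593 : Led Lsl_bt (LP (LK LD1_c2 LD2_c51 LD3_c49)) = (LP (LK LD1_c4 LD2_c34 LD3_c43)) :=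
  Lgr Lrot119 (Lpe (f22336 IH) (Lpr_bf (f163587 IH) (Lpe (f163592 IH) (Lpn (LP (LK LD1_c4 LD2_c34 LD3_c43))))))
theorem f163599 : Led Lsl_bf (LP (LK LD1_c2 LD2_c51 LD3_c49)) = (LP (LK LD1_c4 LD2_c34 LD3_c43)) :=
  Lgr Lrot24 (Lpr_bt (f163593 IH) (Lpn (LP (LK LD1_c4 LD2_c34 LD3_c43))))
theorem f22232 : Led Lsl_bt (LP (LK LD1_c1 LD2_c22 LD3_c0)) = (LP (LK LD1_c0 LD2_c37 LD3_c60)) :=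
  Lre_b IH (LK LD1_c1 LD2_c22 LD3_c0) (LK LD1_c0 LD2_c37 LD3_c60) Lrfl Lrfl
theorem f163615 : Led Lsl_at (LP (LK LD1_c2 LD2_c14 LD3_c25)) = (LP (LK LD1_c4 LD2_c34 LD3_c43)) :=
  Lre_a IH (LK LD1_c2 LD2_c14 LD3_c25) (LK LD1_c4 LD2_c34 LD3_c43) Lrfl Lrfl
theorem f163616 : Led Lsl_bt (LP (LK LD1_c1 LD2_c4 LD3_c19)) = (LP (LK LD1_c2 LD2_c14 LD3_c25)) :=
  Lre_b IH (LK LD1_c1 LD2_c4 LD3_c19) (LK LD1_c2 LD2_c14 LD3_c25) Lrfl Lrfl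
theorem f163617 : Led Lsl_at (LP (LK LD1_c0 LD2_c37 LD3_c60)) = (LP (LK LD1_c1 LD2_c4 LD3_c19)) :=
  Lgr Lrot67 (Lpe (f22232 IH) (Lpe (K7.f22285 IH) (Lpr_bf (f163599 IH) (Lpe (f163615 IH) (Lpe (f163616 IH) (Lpn (LP (LK LD1_c1 LD2_c4 LD3_c19))))))))
theorem f163619 : Led Lsl_af (LP (LK LD1_c0 LD2_c16 LD3_c58)) = (LP (LK LD1_c0 LD2_c29 LD3_c26)) :=
  Lgr Lrot50 (Lpr_et (K7.f20290 IH) (Lpr_at (f163617 IH) (Lpr_et (K7.f56659 IH) (Lpn (LP (LK LD1_c0 LD2_c29 LD3_c26))))))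
theorem f163622 : Led Lsl_at (LP (LK LD1_c0 LD2_c7 LD3_c33)) = (LP (LK LD1_c0 LD2_c12 LD3_c59)) :=
  Lgr Lrot51 (Lpe (K1.f8311 IH) (Lpr_af (f163619 IH) (Lpe (K1.f20540 IH) (Lpn (LP (LK LD1_c0 LD2_c12 LD3_c59))))))
theorem f20462 : Led Lsl_ct (LP (LK LD1_c0 LD2_c15 LD3_c23)) = (LP (LK LD1_c0 LD2_c6 LD3_c60)) :=
  Lre_c IH (LK LD1_c0 LD2_c15 LD3_c23) (LK LD1_c0 LD2_c6 LD3_c60) Lrfl Lrfl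
theorem f20464 : Led Lsl_ef (LP (LK LD1_c0 LD2_c15 LD3_c23)) = (LP (LK LD1_c0 LD2_c12 LD3_c59)) :=
  Lgr Lrot28 (Lpr_ct (f20462 IH) (Lpr_et (K0.f20453 IH) (Lpr_ct (K1.f20463 IH) (Lpn (LP (LK LD1_c0 LD2_c12 LD3_c59))))))
theorem f163626 : Led Lsl_af (LP (LK LD1_c0 LD2_c15 LD3_c4)) = (LP (LK LD1_c0 LD2_c15 LD3_c23)) :=
  Lgr Lrot50 (Lpe (K7.f22218 IH) (Lpr_at (f163622 IH) (Lpe (f20464 IH) (Lpn (LP (LK LD1_c0 LD2_c15 LD3_c23))))))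
theorem f3274 : Led Lsl_ct (LP (LK LD1_c0 LD2_c6 LD3_c53)) = (LP (LK LD1_c0 LD2_c15 LD3_c4)) :=
  Lre_c IH (LK LD1_c0 LD2_c6 LD3_c53) (LK LD1_c0 LD2_c15 LD3_c4) Lrfl Lrfl
theorem f3115 : Led Lsl_ct (LP (LK LD1_c0 LD2_c6 LD3_c50)) = (LP (LK LD1_c0 LD2_c3 LD3_c7)) :=
  Lre_c IH (LK LD1_c0 LD2_c6 LD3_c50) (LK LD1_c0 LD2_c3 LD3_c7) Lrfl Lrfl
theorem f21380 : Led Lsl_ct (LP (LK LD1_c0 LD2_c33 LD3_c15)) = (LP (LK LD1_c0 LD2_c14 LD3_c56)) :=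
  Lre_c IH (LK LD1_c0 LD2_c33 LD3_c15) (LK LD1_c0 LD2_c14 LD3_c56) Lrfl Lrfl
theorem f21932 : Led Lsl_dt (LP (LK LD1_c1 LD2_c11 LD3_c53)) = (LP (LK LD1_c0 LD2_c33 LD3_c15)) :=
  Lre_d IH (LK LD1_c1 LD2_c11 LD3_c53) (LK LD1_c0 LD2_c33 LD3_c15) Lrfl Lrfl
theorem f163636 : Led Lsl_ft (LP (LK LD1_c0 LD2_c34 LD3_c20)) = (LP (LK LD1_c0 LD2_c15 LD3_c23)) :=
  Lre_f IH (LK LD1_c0 LD2_c34 LD3_c20) (LK LD1_c0 LD2_c15 LD3_c23) Lrfl Lrfl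
theorem f163641 : Led Lsl_dt (LP (LK LD1_c0 LD2_c34 LD3_c20)) = (LP (LK LD1_c1 LD2_c14 LD3_c5)) :=
  Lre_d IH (LK LD1_c0 LD2_c34 LD3_c20) (LK LD1_c1 LD2_c14 LD3_c5) Lrfl Lrfl
theorem f163642 : Led Lsl_cf (LP (LK LD1_c1 LD2_c11 LD3_c53)) = (LP (LK LD1_c1 LD2_c14 LD3_c5)) :=
  Lgr Lrot118 (Lpr_dt (f21932 IH) (Lpr_ct (f21380 IH) (Lpr_dt (K0.f3134 IH) (Lpr_ct (f3115 IH) (Lpr_dt (K7.f3119 IH) (Lpr_ct (f3274 IH) (Lpr_af (f163626 IH) (Lpe (f163636 IH) (Lpr_dt (f163641 IH) (Lpn (LP (LK LD1_c1 LD2_c14 LD3_c5))))))))))))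
theorem f163648 : Led Lsl_ct (LP (LK LD1_c0 LD2_c15 LD3_c24)) = (LP (LK LD1_c0 LD2_c34 LD3_c20)) :=
  Lre_c IH (LK LD1_c0 LD2_c15 LD3_c24) (LK LD1_c0 LD2_c34 LD3_c20) Lrfl Lrfl
theorem f163649 : Led Lsl_dt (LP (LK LD1_c0 LD2_c6 LD3_c61)) = (LP (LK LD1_c0 LD2_c15 LD3_c24)) :=
  Lre_d IH (LK LD1_c0 LD2_c6 LD3_c61) (LK LD1_c0 LD2_c15 LD3_c24) Lrfl Lrfl
theorem f34641 : Led Lsl_ct (LP (LK LD1_c0 LD2_c15 LD3_c14)) = (LP (LK LD1_c0 LD2_c6 LD3_c61)) :=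
  Lre_c IH (LK LD1_c0 LD2_c15 LD3_c14) (LK LD1_c0 LD2_c6 LD3_c61) Lrfl Lrfl
theorem f163650 : Led Lsl_dt (LP (LK LD1_c0 LD2_c33 LD3_c59)) = (LP (LK LD1_c0 LD2_c15 LD3_c14)) :=
  Lre_d IH (LK LD1_c0 LD2_c33 LD3_c59) (LK LD1_c0 LD2_c15 LD3_c14) Lrfl Lrfl
theorem f163661 : Led Lsl_af (LP (LK LD1_c0 LD2_c14 LD3_c56)) = (LP (LK LD1_c0 LD2_c15 LD3_c13)) :=
  Lgr Lrot109 (Lpe (f21380 IH) (Lpe (f21932 IH) (Lpr_cf (f163642 IH) (Lpe (f163641 IH) (Lpe (f163648 IH) (Lpe (f163649 IH) (Lpe (f34641 IH) (Lpe (f163650 IH) (Lpr_ft (K0.f21319 IH) (Lpn (LP (LK LD1_c0 LD2_c15 LD3_c13))))))))))))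
theorem f3102 : Led Lsl_gt (LP (LK LD1_c0 LD2_c33 LD3_c14)) = (LP (LK LD1_c0 LD2_c14 LD3_c56)) :=
  Lre_g IH (LK LD1_c0 LD2_c33 LD3_c14) (LK LD1_c0 LD2_c14 LD3_c56) Lrfl Lrfl
theorem f165581 : Led Lsl_gf (LP (LK LD1_c0 LD2_c33 LD3_c14)) = (LP (LK LD1_c0 LD2_c33 LD3_c59)) :=
  Lgr Lrot47 (Lpr_gt (f3102 IH) (Lpr_af (f163661 IH) (Lpe (K0.f21319 IH) (Lpn (LP (LK LD1_c0 LD2_c33 LD3_c59))))))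
theorem f165583 : Led Lsl_ct (LP (LK LD1_c0 LD2_c33 LD3_c14)) = (LP (LK LD1_c1 LD2_c11 LD3_c48)) :=
  Lre_c IH (LK LD1_c0 LD2_c33 LD3_c14) (LK LD1_c1 LD2_c11 LD3_c48) Lrfl Lrfl
theorem f163707 : Led Lsl_dt (LP (LK LD1_c0 LD2_c15 LD3_c14)) = (LP (LK LD1_c0 LD2_c33 LD3_c59)) :=
  Lre_d IH (LK LD1_c0 LD2_c15 LD3_c14) (LK LD1_c0 LD2_c33 LD3_c59) Lrfl Lrfl
theorem f163663 : Led Lsl_ft (LP (LK LD1_c0 LD2_c6 LD3_c61)) = (LP (LK LD1_c0 LD2_c3 LD3_c10)) :=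
  Lre_f IH (LK LD1_c0 LD2_c6 LD3_c61) (LK LD1_c0 LD2_c3 LD3_c10) Lrfl Lrfl
theorem f163664 : Led Lsl_af (LP (LK LD1_c0 LD2_c3 LD3_c7)) = (LP (LK LD1_c0 LD2_c3 LD3_c10)) :=
  Lgr Lrot109 (Lpe (f3115 IH) (Lpe (K0.f3134 IH) (Lpe (f21380 IH) (Lpe (f21932 IH) (Lpr_cf (f163642 IH) (Lpe (f163641 IH) (Lpe (f163648 IH) (Lpe (f163649 IH) (Lpr_ft (f163663 IH) (Lpn (LP (LK LD1_c0 LD2_c3 LD3_c10))))))))))))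
theorem f163675 : Led Lsl_at (LP (LK LD1_c0 LD2_c6 LD3_c54)) = (LP (LK LD1_c0 LD2_c6 LD3_c61)) :=
  Lgr Lrot66 (Lpe (K0.f3123 IH) (Lpr_af (f163664 IH) (Lpe (f163663 IH) (Lpn (LP (LK LD1_c0 LD2_c6 LD3_c61))))))
theorem f3152 : Led Lsl_dt (LP (LK LD1_c0 LD2_c15 LD3_c5)) = (LP (LK LD1_c0 LD2_c6 LD3_c54)) :=
  Lre_d IH (LK LD1_c0 LD2_c15 LD3_c5) (LK LD1_c0 LD2_c6 LD3_c54) Lrfl Lrfl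
theorem f163695 : Led Lsl_af (LP (LK LD1_c0 LD2_c15 LD3_c5)) = (LP (LK LD1_c0 LD2_c15 LD3_c24)) :=
  Lgr Lrot117 (Lpr_dt (f3152 IH) (Lpr_at (f163675 IH) (Lpr_dt (f163649 IH) (Lpn (LP (LK LD1_c0 LD2_c15 LD3_c24))))))
theorem f3159 : Led Lsl_ct (LP (LK LD1_c0 LD2_c33 LD3_c38)) = (LP (LK LD1_c0 LD2_c15 LD3_c5)) :=
  Lre_c IH (LK LD1_c0 LD2_c33 LD3_c38) (LK LD1_c0 LD2_c15 LD3_c5) Lrfl Lrfl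
theorem f3165 : Led Lsl_dt (LP (LK LD1_c1 LD2_c12 LD3_c42)) = (LP (LK LD1_c0 LD2_c33 LD3_c38)) :=
  Lre_d IH (LK LD1_c1 LD2_c12 LD3_c42) (LK LD1_c0 LD2_c33 LD3_c38) Lrfl Lrfl
theorem f20533 : Led Lsl_ft (LP (LK LD1_c0 LD2_c6 LD3_c60)) = (LP (LK LD1_c0 LD2_c15 LD3_c24)) :=
  Lre_f IH (LK LD1_c0 LD2_c6 LD3_c60) (LK LD1_c0 LD2_c15 LD3_c24) Lrfl Lrfl
theorem f21379 : Led Lsl_ct (LP (LK LD1_c0 LD2_c15 LD3_c13)) = (LP (LK LD1_c0 LD2_c33 LD3_c58)) :=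
  Lre_c IH (LK LD1_c0 LD2_c15 LD3_c13) (LK LD1_c0 LD2_c33 LD3_c58) Lrfl Lrfl
theorem f21387 : Led Lsl_dt (LP (LK LD1_c0 LD2_c33 LD3_c58)) = (LP (LK LD1_c1 LD2_c13 LD3_c18)) :=
  Lre_d IH (LK LD1_c0 LD2_c33 LD3_c58) (LK LD1_c1 LD2_c13 LD3_c18) Lrfl Lrfl
theorem f163718 : Led Lsl_cf (LP (LK LD1_c1 LD2_c12 LD3_c42)) = (LP (LK LD1_c1 LD2_c13 LD3_c18)) :=
  Lgr Lrot161 (Lpr_dt (f3165 IH) (Lpr_ct (f3159 IH) (Lpr_af (f163695 IH) (Lpe (f20533 IH) (Lpr_dt (K0.f20469 IH) (Lpr_ct (K0.f22105 IH) (Lpr_dt (K0.f20821 IH) (Lpr_ct (f21379 IH) (Lpr_dt (f21387 IH) (Lpn (LP (LK LD1_c1 LD2_c13 LD3_c18))))))))))))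
theorem f163726 : Led Lsl_dt (LP (LK LD1_c0 LD2_c14 LD3_c57)) = (LP (LK LD1_c0 LD2_c33 LD3_c16)) :=
  Lre_d IH (LK LD1_c0 LD2_c14 LD3_c57) (LK LD1_c0 LD2_c33 LD3_c16) Lrfl Lrfl
theorem f33390 : Led Lsl_ct (LP (LK LD1_c0 LD2_c33 LD3_c16)) = (LP (LK LD1_c1 LD2_c11 LD3_c54)) :=
  Lre_c IH (LK LD1_c0 LD2_c33 LD3_c16) (LK LD1_c1 LD2_c11 LD3_c54) Lrfl Lrfl
theorem f21967 : Led Lsl_ft (LP (LK LD1_c0 LD2_c33 LD3_c58)) = (LP (LK LD1_c1 LD2_c13 LD3_c19)) :=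
  Lre_f IH (LK LD1_c0 LD2_c33 LD3_c58) (LK LD1_c1 LD2_c13 LD3_c19) Lrfl Lrfl
theorem f163738 : Led Lsl_af (LP (LK LD1_c1 LD2_c11 LD3_c54)) = (LP (LK LD1_c1 LD2_c13 LD3_c19)) :=
  Lgr Lrot109 (Lpe (f33390 IH) (Lpe (f163726 IH) (Lpe (K0.f3148 IH) (Lpe (f3152 IH) (Lpe (f3159 IH) (Lpe (f3165 IH) (Lpr_cf (f163718 IH) (Lpe (f21387 IH) (Lpr_ft (f21967 IH) (Lpn (LP (LK LD1_c1 LD2_c13 LD3_c19))))))))))))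
theorem f21968 : Led Lsl_ft (LP (LK LD1_c1 LD2_c11 LD3_c54)) = (LP (LK LD1_c0 LD2_c33 LD3_c15)) :=
  Lre_f IH (LK LD1_c1 LD2_c11 LD3_c54) (LK LD1_c0 LD2_c33 LD3_c15) Lrfl Lrfl
theorem f163765 : Led Lsl_at (LP (LK LD1_c0 LD2_c33 LD3_c15)) = (LP (LK LD1_c0 LD2_c33 LD3_c58)) :=
  Lgr Lrot66 (Lpe (f21968 IH) (Lpr_af (f163738 IH) (Lpe (f21967 IH) (Lpn (LP (LK LD1_c0 LD2_c33 LD3_c58))))))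
theorem f163786 : Led Lsl_af (LP (LK LD1_c1 LD2_c11 LD3_c53)) = (LP (LK LD1_c1 LD2_c13 LD3_c18)) :=
  Lgr Lrot117 (Lpr_dt (f21932 IH) (Lpr_at (f163765 IH) (Lpr_dt (f21387 IH) (Lpn (LP (LK LD1_c1 LD2_c13 LD3_c18))))))
theorem f163802 : Led Lsl_at (LP (LK LD1_c2 LD2_c29 LD3_c42)) = (LP (LK LD1_c2 LD2_c32 LD3_c48)) :=
  Lgr Lrot80 (Lpe (K0.f21384 IH) (Lpr_af (f163786 IH) (Lpe (K0.f21382 IH) (Lpn (LP (LK LD1_c2 LD2_c32 LD3_c48))))))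
theorem f21400 : Led Lsl_bt (LP (LK LD1_c5 LD2_c4 LD3_c36)) = (LP (LK LD1_c2 LD2_c29 LD3_c42)) :=
  Lre_b IH (LK LD1_c5 LD2_c4 LD3_c36) (LK LD1_c2 LD2_c29 LD3_c42) Lrfl Lrfl
theorem f21445 : Led Lsl_at (LP (LK LD1_c10 LD2_c0 LD3_c9)) = (LP (LK LD1_c5 LD2_c4 LD3_c36)) :=
  Lre_a IH (LK LD1_c10 LD2_c0 LD3_c9) (LK LD1_c5 LD2_c4 LD3_c36) Lrfl Lrfl
theorem f21399 : Led Lsl_bt (LP (LK LD1_c2 LD2_c32 LD3_c48)) = (LP (LK LD1_c5 LD2_c11 LD3_c43)) :=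
  Lre_b IH (LK LD1_c2 LD2_c32 LD3_c48) (LK LD1_c5 LD2_c11 LD3_c43) Lrfl Lrfl
theorem f21442 : Led Lsl_at (LP (LK LD1_c5 LD2_c11 LD3_c43)) = (LP (LK LD1_c10 LD2_c14 LD3_c3)) :=
  Lre_a IH (LK LD1_c5 LD2_c11 LD3_c43) (LK LD1_c10 LD2_c14 LD3_c3) Lrfl Lrfl
theorem f163820 : Led Lsl_bf (LP (LK LD1_c10 LD2_c0 LD3_c9)) = (LP (LK LD1_c10 LD2_c14 LD3_c3)) :=
  Lgr Lrot81 (Lpr_at (f21445 IH) (Lpr_bt (f21400 IH) (Lpr_at (f163802 IH) (Lpr_bt (f21399 IH) (Lpr_at (f21442 IH) (Lpn (LP (LK LD1_c10 LD2_c14 LD3_c3))))))))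
theorem f163838 : Led Lsl_bt (LP (LK LD1_c10 LD2_c0 LD3_c9)) = (LP (LK LD1_c10 LD2_c14 LD3_c3)) :=
  Lgr Lrot127 (Lpr_bf (f163820 IH) (Lpn (LP (LK LD1_c10 LD2_c14 LD3_c3))))
theorem f21602 : Led Lsl_et (LP (LK LD1_c5 LD2_c4 LD3_c32)) = (LP (LK LD1_c10 LD2_c0 LD3_c9)) :=
  Lre_e IH (LK LD1_c5 LD2_c4 LD3_c32) (LK LD1_c10 LD2_c0 LD3_c9) Lrfl Lrfl
theorem f21600 : Led Lsl_et (LP (LK LD1_c10 LD2_c14 LD3_c3)) = (LP (LK LD1_c5 LD2_c11 LD3_c39)) :=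
  Lre_e IH (LK LD1_c10 LD2_c14 LD3_c3) (LK LD1_c5 LD2_c11 LD3_c39) Lrfl Lrfl
theorem f163840 : Led Lsl_bf (LP (LK LD1_c5 LD2_c4 LD3_c32)) = (LP (LK LD1_c5 LD2_c11 LD3_c39)) :=
  Lgr Lrot96 (Lpr_et (f21602 IH) (Lpr_bt (f163838 IH) (Lpr_et (f21600 IH) (Lpn (LP (LK LD1_c5 LD2_c11 LD3_c39))))))
theorem f21929 : Led Lsl_dt (LP (LK LD1_c5 LD2_c4 LD3_c32)) = (LP (LK LD1_c2 LD2_c29 LD3_c37)) :=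
  Lre_d IH (LK LD1_c5 LD2_c4 LD3_c32) (LK LD1_c2 LD2_c29 LD3_c37) Lrfl Lrfl
theorem f21605 : Led Lsl_dt (LP (LK LD1_c2 LD2_c32 LD3_c43)) = (LP (LK LD1_c5 LD2_c11 LD3_c39)) :=
  Lre_d IH (LK LD1_c2 LD2_c32 LD3_c43) (LK LD1_c5 LD2_c11 LD3_c39) Lrfl Lrfl
theorem f163846 : Led Lsl_bt (LP (LK LD1_c2 LD2_c29 LD3_c37)) = (LP (LK LD1_c2 LD2_c32 LD3_c43)) :=
  Lgr Lrot95 (Lpe (f21929 IH) (Lpr_bf (f163840 IH) (Lpe (f21605 IH) (Lpn (LP (LK LD1_c2 LD2_c32 LD3_c43))))))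
theorem f21910 : Led Lsl_ft (LP (LK LD1_c5 LD2_c4 LD3_c21)) = (LP (LK LD1_c2 LD2_c29 LD3_c37)) :=
  Lre_f IH (LK LD1_c5 LD2_c4 LD3_c21) (LK LD1_c2 LD2_c29 LD3_c37) Lrfl Lrfl
theorem f21909 : Led Lsl_ft (LP (LK LD1_c2 LD2_c32 LD3_c43)) = (LP (LK LD1_c5 LD2_c11 LD3_c28)) :=
  Lre_f IH (LK LD1_c2 LD2_c32 LD3_c43) (LK LD1_c5 LD2_c11 LD3_c28) Lrfl Lrfl
theorem f163850 : Led Lsl_bf (LP (LK LD1_c5 LD2_c4 LD3_c21)) = (LP (LK LD1_c5 LD2_c11 LD3_c28)) :=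
  Lgr Lrot61 (Lpr_ft (f21910 IH) (Lpr_bt (f163846 IH) (Lpr_ft (f21909 IH) (Lpn (LP (LK LD1_c5 LD2_c11 LD3_c28))))))
theorem f163857 : Led Lsl_bt (LP (LK LD1_c9 LD2_c59 LD3_c34)) = (LP (LK LD1_c10 LD2_c13 LD3_c26)) :=
  Lgr Lrot119 (Lpe (K0.f21575 IH) (Lpr_bf (f163850 IH) (Lpe (K0.f21554 IH) (Lpn (LP (LK LD1_c10 LD2_c13 LD3_c26))))))
theorem f21570 : Led Lsl_at (LP (LK LD1_c5 LD2_c4 LD3_c37)) = (LP (LK LD1_c9 LD2_c59 LD3_c34)) :=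
  Lre_a IH (LK LD1_c5 LD2_c4 LD3_c37) (LK LD1_c9 LD2_c59 LD3_c34) Lrfl Lrfl
theorem f21506 : Led Lsl_bt (LP (LK LD1_c2 LD2_c29 LD3_c43)) = (LP (LK LD1_c5 LD2_c4 LD3_c37)) :=
  Lre_b IH (LK LD1_c2 LD2_c29 LD3_c43) (LK LD1_c5 LD2_c4 LD3_c37) Lrfl Lrfl
theorem f21569 : Led Lsl_at (LP (LK LD1_c10 LD2_c13 LD3_c26)) = (LP (LK LD1_c5 LD2_c11 LD3_c44)) :=
  Lre_a IH (LK LD1_c10 LD2_c13 LD3_c26) (LK LD1_c5 LD2_c11 LD3_c44) Lrfl Lrfl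
theorem f21505 : Led Lsl_bt (LP (LK LD1_c5 LD2_c11 LD3_c44)) = (LP (LK LD1_c2 LD2_c32 LD3_c49)) :=
  Lre_b IH (LK LD1_c5 LD2_c11 LD3_c44) (LK LD1_c2 LD2_c32 LD3_c49) Lrfl Lrfl
theorem f163868 : Led Lsl_af (LP (LK LD1_c2 LD2_c29 LD3_c43)) = (LP (LK LD1_c2 LD2_c32 LD3_c49)) :=
  Lgr Lrot36 (Lpr_bt (f21506 IH) (Lpr_at (f21570 IH) (Lpr_bt (f163857 IH) (Lpr_at (f21569 IH) (Lpr_bt (f21505 IH) (Lpn (LP (LK LD1_c2 LD2_c32 LD3_c49))))))))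
theorem f21340 : Led Lsl_ct (LP (LK LD1_c2 LD2_c29 LD3_c43)) = (LP (LK LD1_c1 LD2_c11 LD3_c55)) :=
  Lre_c IH (LK LD1_c2 LD2_c29 LD3_c43) (LK LD1_c1 LD2_c11 LD3_c55) Lrfl Lrfl
theorem f21339 : Led Lsl_ct (LP (LK LD1_c1 LD2_c13 LD3_c20)) = (LP (LK LD1_c2 LD2_c32 LD3_c49)) :=
  Lre_c IH (LK LD1_c1 LD2_c13 LD3_c20) (LK LD1_c2 LD2_c32 LD3_c49) Lrfl Lrfl
theorem f163880 : Led Lsl_at (LP (LK LD1_c1 LD2_c11 LD3_c55)) = (LP (LK LD1_c1 LD2_c13 LD3_c20)) :=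
  Lgr Lrot107 (Lpe (f21340 IH) (Lpr_af (f163868 IH) (Lpe (f21339 IH) (Lpn (LP (LK LD1_c1 LD2_c13 LD3_c20))))))
theorem f163896 : Led Lsl_af (LP (LK LD1_c0 LD2_c33 LD3_c16)) = (LP (LK LD1_c0 LD2_c33 LD3_c59)) :=
  Lgr Lrot50 (Lpr_et (K0.f21322 IH) (Lpr_at (f163880 IH) (Lpr_et (K0.f21320 IH) (Lpn (LP (LK LD1_c0 LD2_c33 LD3_c59))))))
theorem f33389 : Led Lsl_ct (LP (LK LD1_c1 LD2_c11 LD3_c54)) = (LP (LK LD1_c0 LD2_c33 LD3_c16)) :=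
  Lre_c IH (LK LD1_c1 LD2_c11 LD3_c54) (LK LD1_c0 LD2_c33 LD3_c16) Lrfl Lrfl
theorem f21355 : Led Lsl_ft (LP (LK LD1_c0 LD2_c15 LD3_c13)) = (LP (LK LD1_c0 LD2_c33 LD3_c59)) :=
  Lre_f IH (LK LD1_c0 LD2_c15 LD3_c13) (LK LD1_c0 LD2_c33 LD3_c59) Lrfl Lrfl
theorem f21325 : Led Lsl_dt (LP (LK LD1_c0 LD2_c15 LD3_c13)) = (LP (LK LD1_c0 LD2_c6 LD3_c57)) :=
  Lre_d IH (LK LD1_c0 LD2_c15 LD3_c13) (LK LD1_c0 LD2_c6 LD3_c57) Lrfl Lrfl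
theorem f22101 : Led Lsl_ct (LP (LK LD1_c0 LD2_c6 LD3_c57)) = (LP (LK LD1_c0 LD2_c3 LD3_c10)) :=
  Lre_c IH (LK LD1_c0 LD2_c6 LD3_c57) (LK LD1_c0 LD2_c3 LD3_c10) Lrfl Lrfl
theorem f20526 : Led Lsl_ct (LP (LK LD1_c0 LD2_c6 LD3_c60)) = (LP (LK LD1_c0 LD2_c15 LD3_c23)) :=
  Lre_c IH (LK LD1_c0 LD2_c6 LD3_c60) (LK LD1_c0 LD2_c15 LD3_c23) Lrfl Lrfl
theorem f59573 : Led Lsl_dt (LP (LK LD1_c0 LD2_c15 LD3_c23)) = (LP (LK LD1_c0 LD2_c34 LD3_c19)) :=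
  Lre_d IH (LK LD1_c0 LD2_c15 LD3_c23) (LK LD1_c0 LD2_c34 LD3_c19) Lrfl Lrfl
theorem f163771 : Led Lsl_ct (LP (LK LD1_c0 LD2_c34 LD3_c19)) = (LP (LK LD1_c1 LD2_c14 LD3_c3)) :=
  Lre_c IH (LK LD1_c0 LD2_c34 LD3_c19) (LK LD1_c1 LD2_c14 LD3_c3) Lrfl Lrfl
theorem f163916 : Led Lsl_df (LP (LK LD1_c1 LD2_c11 LD3_c54)) = (LP (LK LD1_c1 LD2_c14 LD3_c3)) :=
  Lgr Lrot177 (Lpr_ct (f33389 IH) (Lpr_af (f163896 IH) (Lpe (f21355 IH) (Lpr_dt (f21325 IH) (Lpr_ct (f22101 IH) (Lpr_dt (K0.f20452 IH) (Lpr_ct (f20526 IH) (Lpr_dt (f59573 IH) (Lpr_ct (f163771 IH) (Lpn (LP (LK LD1_c1 LD2_c14 LD3_c3))))))))))))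
theorem f3156 : Led Lsl_dt (LP (LK LD1_c0 LD2_c33 LD3_c16)) = (LP (LK LD1_c0 LD2_c14 LD3_c57)) :=
  Lre_d IH (LK LD1_c0 LD2_c33 LD3_c16) (LK LD1_c0 LD2_c14 LD3_c57) Lrfl Lrfl
theorem f3153 : Led Lsl_dt (LP (LK LD1_c0 LD2_c6 LD3_c54)) = (LP (LK LD1_c0 LD2_c15 LD3_c5)) :=
  Lre_d IH (LK LD1_c0 LD2_c6 LD3_c54) (LK LD1_c0 LD2_c15 LD3_c5) Lrfl Lrfl
theorem f3157 : Led Lsl_ct (LP (LK LD1_c0 LD2_c15 LD3_c5)) = (LP (LK LD1_c0 LD2_c33 LD3_c38)) :=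
  Lre_c IH (LK LD1_c0 LD2_c15 LD3_c5) (LK LD1_c0 LD2_c33 LD3_c38) Lrfl Lrfl
theorem f163923 : Led Lsl_ft (LP (LK LD1_c0 LD2_c15 LD3_c23)) = (LP (LK LD1_c0 LD2_c34 LD3_c20)) :=
  Lre_f IH (LK LD1_c0 LD2_c15 LD3_c23) (LK LD1_c0 LD2_c34 LD3_c20) Lrfl Lrfl
theorem f163924 : Led Lsl_af (LP (LK LD1_c0 LD2_c33 LD3_c38)) = (LP (LK LD1_c0 LD2_c34 LD3_c20)) :=
  Lgr Lrot109 (Lpe (f3157 IH) (Lpe (f3153 IH) (Lpe (K0.f3146 IH) (Lpe (f3156 IH) (Lpe (f33389 IH) (Lpr_df (f163916 IH) (Lpe (f163771 IH) (Lpe (f59573 IH) (Lpr_ft (f163923 IH) (Lpn (LP (LK LD1_c0 LD2_c34 LD3_c20))))))))))))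
theorem f163740 : Led Lsl_dt (LP (LK LD1_c0 LD2_c33 LD3_c38)) = (LP (LK LD1_c1 LD2_c12 LD3_c42)) :=
  Lre_d IH (LK LD1_c0 LD2_c33 LD3_c38) (LK LD1_c1 LD2_c12 LD3_c42) Lrfl Lrfl
theorem f163702 : Led Lsl_dt (LP (LK LD1_c1 LD2_c14 LD3_c5)) = (LP (LK LD1_c0 LD2_c34 LD3_c20)) :=
  Lre_d IH (LK LD1_c1 LD2_c14 LD3_c5) (LK LD1_c0 LD2_c34 LD3_c20) Lrfl Lrfl
theorem f164074 : Led Lsl_at (LP (LK LD1_c1 LD2_c12 LD3_c42)) = (LP (LK LD1_c1 LD2_c14 LD3_c5)) :=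
  Lgr Lrot51 (Lpe (f163740 IH) (Lpr_af (f163924 IH) (Lpe (f163702 IH) (Lpn (LP (LK LD1_c1 LD2_c14 LD3_c5))))))
theorem f164088 : Led Lsl_ft (LP (LK LD1_c0 LD2_c33 LD3_c37)) = (LP (LK LD1_c1 LD2_c12 LD3_c42)) :=
  Lre_f IH (LK LD1_c0 LD2_c33 LD3_c37) (LK LD1_c1 LD2_c12 LD3_c42) Lrfl Lrfl
theorem f163932 : Led Lsl_ft (LP (LK LD1_c1 LD2_c14 LD3_c5)) = (LP (LK LD1_c0 LD2_c34 LD3_c19)) :=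
  Lre_f IH (LK LD1_c1 LD2_c14 LD3_c5) (LK LD1_c0 LD2_c34 LD3_c19) Lrfl Lrfl
theorem f164089 : Led Lsl_af (LP (LK LD1_c0 LD2_c33 LD3_c37)) = (LP (LK LD1_c0 LD2_c34 LD3_c19)) :=
  Lgr Lrot45 (Lpr_ft (f164088 IH) (Lpr_at (f164074 IH) (Lpr_ft (f163932 IH) (Lpn (LP (LK LD1_c0 LD2_c34 LD3_c19))))))
theorem f53213 : Led Lsl_ct (LP (LK LD1_c1 LD2_c12 LD3_c40)) = (LP (LK LD1_c0 LD2_c33 LD3_c37)) :=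
  Lre_c IH (LK LD1_c1 LD2_c12 LD3_c40) (LK LD1_c0 LD2_c33 LD3_c37) Lrfl Lrfl
theorem f163701 : Led Lsl_ct (LP (LK LD1_c0 LD2_c34 LD3_c20)) = (LP (LK LD1_c0 LD2_c15 LD3_c24)) :=
  Lre_c IH (LK LD1_c0 LD2_c34 LD3_c20) (LK LD1_c0 LD2_c15 LD3_c24) Lrfl Lrfl
theorem f163679 : Led Lsl_dt (LP (LK LD1_c0 LD2_c15 LD3_c24)) = (LP (LK LD1_c0 LD2_c6 LD3_c61)) :=
  Lre_d IH (LK LD1_c0 LD2_c15 LD3_c24) (LK LD1_c0 LD2_c6 LD3_c61) Lrfl Lrfl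
theorem f163680 : Led Lsl_ct (LP (LK LD1_c0 LD2_c6 LD3_c61)) = (LP (LK LD1_c0 LD2_c15 LD3_c14)) :=
  Lre_c IH (LK LD1_c0 LD2_c6 LD3_c61) (LK LD1_c0 LD2_c15 LD3_c14) Lrfl Lrfl
theorem f163758 : Led Lsl_ct (LP (LK LD1_c0 LD2_c33 LD3_c59)) = (LP (LK LD1_c1 LD2_c13 LD3_c19)) :=
  Lre_c IH (LK LD1_c0 LD2_c33 LD3_c59) (LK LD1_c1 LD2_c13 LD3_c19) Lrfl Lrfl
theorem f164111 : Led Lsl_df (LP (LK LD1_c1 LD2_c12 LD3_c40)) = (LP (LK LD1_c1 LD2_c13 LD3_c19)) :=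
  Lgr Lrot177 (Lpr_ct (f53213 IH) (Lpr_af (f164089 IH) (Lpe (f163932 IH) (Lpr_dt (f163702 IH) (Lpr_ct (f163701 IH) (Lpr_dt (f163679 IH) (Lpr_ct (f163680 IH) (Lpr_dt (f163707 IH) (Lpr_ct (f163758 IH) (Lpn (LP (LK LD1_c1 LD2_c13 LD3_c19))))))))))))
theorem f3120 : Led Lsl_dt (LP (LK LD1_c0 LD2_c6 LD3_c53)) = (LP (LK LD1_c0 LD2_c3 LD3_c7)) :=
  Lre_d IH (LK LD1_c0 LD2_c6 LD3_c53) (LK LD1_c0 LD2_c3 LD3_c7) Lrfl Lrfl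
theorem f3113 : Led Lsl_ct (LP (LK LD1_c0 LD2_c3 LD3_c7)) = (LP (LK LD1_c0 LD2_c6 LD3_c50)) :=
  Lre_c IH (LK LD1_c0 LD2_c3 LD3_c7) (LK LD1_c0 LD2_c6 LD3_c50) Lrfl Lrfl
theorem f164119 : Led Lsl_ft (LP (LK LD1_c0 LD2_c15 LD3_c14)) = (LP (LK LD1_c0 LD2_c6 LD3_c57)) :=
  Lre_f IH (LK LD1_c0 LD2_c15 LD3_c14) (LK LD1_c0 LD2_c6 LD3_c57) Lrfl Lrfl
theorem f164120 : Led Lsl_af (LP (LK LD1_c0 LD2_c6 LD3_c50)) = (LP (LK LD1_c0 LD2_c6 LD3_c57)) :=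
  Lgr Lrot109 (Lpe (f3113 IH) (Lpe (f3120 IH) (Lpe (K7.f3273 IH) (Lpe (K7.f3763 IH) (Lpe (f53213 IH) (Lpr_df (f164111 IH) (Lpe (f163758 IH) (Lpe (f163707 IH) (Lpr_ft (f164119 IH) (Lpn (LP (LK LD1_c0 LD2_c6 LD3_c57))))))))))))
theorem f3141 : Led Lsl_gt (LP (LK LD1_c0 LD2_c14 LD3_c55)) = (LP (LK LD1_c0 LD2_c6 LD3_c50)) :=
  Lre_g IH (LK LD1_c0 LD2_c14 LD3_c55) (LK LD1_c0 LD2_c6 LD3_c50) Lrfl Lrfl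
theorem f164123 : Led Lsl_gf (LP (LK LD1_c0 LD2_c14 LD3_c55)) = (LP (LK LD1_c0 LD2_c15 LD3_c14)) :=
  Lgr Lrot47 (Lpr_gt (f3141 IH) (Lpr_af (f164120 IH) (Lpe (f164119 IH) (Lpn (LP (LK LD1_c0 LD2_c15 LD3_c14))))))
theorem f8133 : Led Lsl_et (LP (LK LD1_c0 LD2_c2 LD3_c27)) = (LP (LK LD1_c0 LD2_c5 LD3_c23)) :=
  Lre_e IH (LK LD1_c0 LD2_c2 LD3_c27) (LK LD1_c0 LD2_c5 LD3_c23) Lrfl Lrfl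
theorem f8144 : Led Lsl_gt (LP (LK LD1_c0 LD2_c5 LD3_c23)) = (LP (LK LD1_c0 LD2_c11 LD3_c35)) :=
  Lre_g IH (LK LD1_c0 LD2_c5 LD3_c23) (LK LD1_c0 LD2_c11 LD3_c35) Lrfl Lrfl
theorem f8146 : Led Lsl_dt (LP (LK LD1_c0 LD2_c11 LD3_c35)) = (LP (LK LD1_c0 LD2_c26 LD3_c4)) :=
  Lre_d IH (LK LD1_c0 LD2_c11 LD3_c35) (LK LD1_c0 LD2_c26 LD3_c4) Lrfl Lrfl
theorem f8147 : Led Lsl_gt (LP (LK LD1_c0 LD2_c26 LD3_c4)) = (LP (LK LD1_c0 LD2_c57 LD3_c26)) :=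
  Lre_g IH (LK LD1_c0 LD2_c26 LD3_c4) (LK LD1_c0 LD2_c57 LD3_c26) Lrfl Lrfl
theorem f28329 : Led Lsl_et (LP (LK LD1_c0 LD2_c3 LD3_c1)) = (LP (LK LD1_c0 LD2_c6 LD3_c38)) :=
  Lre_e IH (LK LD1_c0 LD2_c3 LD3_c1) (LK LD1_c0 LD2_c6 LD3_c38) Lrfl Lrfl
theorem f28330 : Led Lsl_gt (LP (LK LD1_c0 LD2_c14 LD3_c24)) = (LP (LK LD1_c0 LD2_c6 LD3_c38)) :=
  Lre_g IH (LK LD1_c0 LD2_c14 LD3_c24) (LK LD1_c0 LD2_c6 LD3_c38) Lrfl Lrfl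
theorem f28331 : Led Lsl_et (LP (LK LD1_c0 LD2_c32 LD3_c11)) = (LP (LK LD1_c0 LD2_c14 LD3_c24)) :=
  Lre_e IH (LK LD1_c0 LD2_c32 LD3_c11) (LK LD1_c0 LD2_c14 LD3_c24) Lrfl Lrfl
theorem f28332 : Led Lsl_df (LP (LK LD1_c0 LD2_c57 LD3_c26)) = (LP (LK LD1_c0 LD2_c32 LD3_c11)) :=
  Lgr Lrot132 (Lpe (f8147 IH) (Lpe (f8146 IH) (Lpe (f8144 IH) (Lpe (f8133 IH) (Lpe (K0.f8062 IH) (Lpe (K0.f8138 IH) (Lpr_df (K0.f28229 IH) (Lpr_et (f28329 IH) (Lpe (f28330 IH) (Lpe (f28331 IH) (Lpn (LP (LK LD1_c0 LD2_c32 LD3_c11)))))))))))))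
theorem f28347 : Led Lsl_dt (LP (LK LD1_c0 LD2_c57 LD3_c26)) = (LP (LK LD1_c0 LD2_c32 LD3_c11)) :=
  Lgr Lrot42 (Lpr_df (f28332 IH) (Lpn (LP (LK LD1_c0 LD2_c32 LD3_c11))))
theorem f8127 : Led Lsl_gt (LP (LK LD1_c0 LD2_c11 LD3_c34)) = (LP (LK LD1_c0 LD2_c26 LD3_c0)) :=
  Lre_g IH (LK LD1_c0 LD2_c11 LD3_c34) (LK LD1_c0 LD2_c26 LD3_c0) Lrfl Lrfl
theorem f8128 : Led Lsl_dt (LP (LK LD1_c0 LD2_c26 LD3_c0)) = (LP (LK LD1_c0 LD2_c57 LD3_c19)) :=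
  Lre_d IH (LK LD1_c0 LD2_c26 LD3_c0) (LK LD1_c0 LD2_c57 LD3_c19) Lrfl Lrfl
theorem f8126 : Led Lsl_et (LP (LK LD1_c0 LD2_c5 LD3_c22)) = (LP (LK LD1_c0 LD2_c11 LD3_c34)) :=
  Lre_e IH (LK LD1_c0 LD2_c5 LD3_c22) (LK LD1_c0 LD2_c11 LD3_c34) Lrfl Lrfl
theorem f21283 : Led Lsl_et (LP (LK LD1_c0 LD2_c3 LD3_c6)) = (LP (LK LD1_c0 LD2_c6 LD3_c50)) :=
  Lre_e IH (LK LD1_c0 LD2_c3 LD3_c6) (LK LD1_c0 LD2_c6 LD3_c50) Lrfl Lrfl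
theorem f21284 : Led Lsl_et (LP (LK LD1_c0 LD2_c33 LD3_c12)) = (LP (LK LD1_c0 LD2_c14 LD3_c55)) :=
  Lre_e IH (LK LD1_c0 LD2_c33 LD3_c12) (LK LD1_c0 LD2_c14 LD3_c55) Lrfl Lrfl
theorem f21285 : Led Lsl_dt (LP (LK LD1_c0 LD2_c33 LD3_c12)) = (LP (LK LD1_c1 LD2_c11 LD3_c43)) :=
  Lre_d IH (LK LD1_c0 LD2_c33 LD3_c12) (LK LD1_c1 LD2_c11 LD3_c43) Lrfl Lrfl
theorem f21286 : Led Lsl_gt (LP (LK LD1_c0 LD2_c57 LD3_c19)) = (LP (LK LD1_c1 LD2_c11 LD3_c43)) :=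
  Lgr Lrot139 (Lpe (f8128 IH) (Lpe (f8127 IH) (Lpe (f8126 IH) (Lpr_dt (K0.f8107 IH) (Lpr_gf (K0.f20619 IH) (Lpr_df (K0.f21272 IH) (Lpr_et (f21283 IH) (Lpe (f3141 IH) (Lpe (f21284 IH) (Lpr_dt (f21285 IH) (Lpn (LP (LK LD1_c1 LD2_c11 LD3_c43)))))))))))))
theorem f21291 : Led Lsl_dt (LP (LK LD1_c1 LD2_c11 LD3_c43)) = (LP (LK LD1_c0 LD2_c33 LD3_c12)) :=
  Lre_d IH (LK LD1_c1 LD2_c11 LD3_c43) (LK LD1_c0 LD2_c33 LD3_c12) Lrfl Lrfl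
theorem f28358 : Led Lsl_cf (LP (LK LD1_c0 LD2_c33 LD3_c12)) = (LP (LK LD1_c0 LD2_c32 LD3_c11)) :=
  Lgr Lrot14 (Lpe (f21291 IH) (Lpe (f21286 IH) (Lpe (f8128 IH) (Lpe (f8127 IH) (Lpr_ct (K1.f21292 IH) (Lpr_gt (f8144 IH) (Lpr_dt (f8146 IH) (Lpr_gt (f8147 IH) (Lpr_dt (f28347 IH) (Lpn (LP (LK LD1_c0 LD2_c32 LD3_c11))))))))))))
theorem f28349 : Led Lsl_et (LP (LK LD1_c0 LD2_c14 LD3_c24)) = (LP (LK LD1_c0 LD2_c32 LD3_c11)) :=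
  Lre_e IH (LK LD1_c0 LD2_c14 LD3_c24) (LK LD1_c0 LD2_c32 LD3_c11) Lrfl Lrfl
theorem f28363 : Led Lsl_ct (LP (LK LD1_c0 LD2_c14 LD3_c55)) = (LP (LK LD1_c0 LD2_c14 LD3_c24)) :=
  Lgr Lrot15 (Lpe (f21284 IH) (Lpr_cf (f28358 IH) (Lpe (f28349 IH) (Lpn (LP (LK LD1_c0 LD2_c14 LD3_c24))))))
theorem f31617 : Led Lsl_dt (LP (LK LD1_c0 LD2_c15 LD3_c35)) = (LP (LK LD1_c0 LD2_c7 LD3_c3)) :=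
  Lre_d IH (LK LD1_c0 LD2_c15 LD3_c35) (LK LD1_c0 LD2_c7 LD3_c3) Lrfl Lrfl
theorem f31618 : Led Lsl_ct (LP (LK LD1_c0 LD2_c34 LD3_c48)) = (LP (LK LD1_c0 LD2_c15 LD3_c35)) :=
  Lre_c IH (LK LD1_c0 LD2_c34 LD3_c48) (LK LD1_c0 LD2_c15 LD3_c35) Lrfl Lrfl
theorem f165584 : Led Lsl_gt (LP (LK LD1_c1 LD2_c11 LD3_c48)) = (LP (LK LD1_c0 LD2_c34 LD3_c48)) :=
  Lgr Lrot150 (Lpe (f165583 IH) (Lpr_gf (f165581 IH) (Lpe (f163707 IH) (Lpe (f164123 IH) (Lpr_ct (f28363 IH) (Lpr_gt (f28330 IH) (Lpe (K1.f32241 IH) (Lpe (f31617 IH) (Lpe (f31618 IH) (Lpn (LP (LK LD1_c0 LD2_c34 LD3_c48))))))))))))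
theorem f163667 : Led Lsl_ct (LP (LK LD1_c1 LD2_c11 LD3_c48)) = (LP (LK LD1_c0 LD2_c33 LD3_c14)) :=
  Lre_c IH (LK LD1_c1 LD2_c11 LD3_c48) (LK LD1_c0 LD2_c33 LD3_c14) Lrfl Lrfl
theorem f3145 : Led Lsl_gt (LP (LK LD1_c0 LD2_c6 LD3_c50)) = (LP (LK LD1_c0 LD2_c14 LD3_c54)) :=
  Lre_g IH (LK LD1_c0 LD2_c6 LD3_c50) (LK LD1_c0 LD2_c14 LD3_c54) Lrfl Lrfl
theorem f3784 : Led Lsl_dt (LP (LK LD1_c0 LD2_c14 LD3_c54)) = (LP (LK LD1_c0 LD2_c33 LD3_c9)) :=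
  Lre_d IH (LK LD1_c0 LD2_c14 LD3_c54) (LK LD1_c0 LD2_c33 LD3_c9) Lrfl Lrfl
theorem f3785 : Led Lsl_ct (LP (LK LD1_c0 LD2_c33 LD3_c9)) = (LP (LK LD1_c1 LD2_c11 LD3_c35)) :=
  Lre_c IH (LK LD1_c0 LD2_c33 LD3_c9) (LK LD1_c1 LD2_c11 LD3_c35) Lrfl Lrfl
theorem f165604 : Led Lsl_dt (LP (LK LD1_c2 LD2_c28 LD3_c52)) = (LP (LK LD1_c1 LD2_c11 LD3_c35)) :=
  Lre_d IH (LK LD1_c2 LD2_c28 LD3_c52) (LK LD1_c1 LD2_c11 LD3_c35) Lrfl Lrfl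
theorem f32250 : Led Lsl_dt (LP (LK LD1_c0 LD2_c34 LD3_c48)) = (LP (LK LD1_c1 LD2_c15 LD3_c0)) :=
  Lre_d IH (LK LD1_c0 LD2_c34 LD3_c48) (LK LD1_c1 LD2_c15 LD3_c0) Lrfl Lrfl
theorem f165605 : Led Lsl_gf (LP (LK LD1_c2 LD2_c28 LD3_c52)) = (LP (LK LD1_c1 LD2_c15 LD3_c0)) :=
  Lgr Lrot143 (Lpr_dt (f165604 IH) (Lpe (f3785 IH) (Lpe (f3784 IH) (Lpe (f3145 IH) (Lpe (K0.f3134 IH) (Lpe (f3102 IH) (Lpe (f163667 IH) (Lpr_gt (f165584 IH) (Lpr_dt (f32250 IH) (Lpn (LP (LK LD1_c1 LD2_c15 LD3_c0))))))))))))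
theorem f71517 : Led Lsl_ct (LP (LK LD1_c0 LD2_c38 LD3_c25)) = (LP (LK LD1_c1 LD2_c22 LD3_c61)) :=
  Lre_c IH (LK LD1_c0 LD2_c38 LD3_c25) (LK LD1_c1 LD2_c22 LD3_c61) Lrfl Lrfl
theorem f35027 : Led Lsl_ct (LP (LK LD1_c2 LD2_c15 LD3_c3)) = (LP (LK LD1_c1 LD2_c4 LD3_c38)) :=
  Lre_c IH (LK LD1_c2 LD2_c15 LD3_c3) (LK LD1_c1 LD2_c4 LD3_c38) Lrfl Lrfl
theorem f71518 : Led Lsl_at (LP (LK LD1_c1 LD2_c22 LD3_c61)) = (LP (LK LD1_c2 LD2_c15 LD3_c3)) :=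
  Lgr Lrot107 (Lpe (f71517 IH) (Lpr_af (K2.f71508 IH) (Lpe (f35027 IH) (Lpn (LP (LK LD1_c2 LD2_c15 LD3_c3))))))
theorem f165624 : Led Lsl_gt (LP (LK LD1_c2 LD2_c28 LD3_c52)) = (LP (LK LD1_c2 LD2_c15 LD3_c3)) :=
  Lgr Lrot46 (Lpr_gf (f165605 IH) (Lpe (K2.f71546 IH) (Lpr_at (f71518 IH) (Lpn (LP (LK LD1_c2 LD2_c15 LD3_c3))))))
theorem f34884 : Led Lsl_bt (LP (LK LD1_c0 LD2_c29 LD3_c35)) = (LP (LK LD1_c1 LD2_c4 LD3_c36)) :=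
  Lre_b IH (LK LD1_c0 LD2_c29 LD3_c35) (LK LD1_c1 LD2_c4 LD3_c36) Lrfl Lrfl
theorem f28640 : Led Lsl_ft (LP (LK LD1_c0 LD2_c27 LD3_c49)) = (LP (LK LD1_c1 LD2_c1 LD3_c0)) :=
  Lre_f IH (LK LD1_c0 LD2_c27 LD3_c49) (LK LD1_c1 LD2_c1 LD3_c0) Lrfl Lrfl
theorem f28641 : Led Lsl_ft (LP (LK LD1_c1 LD2_c56 LD3_c40)) = (LP (LK LD1_c0 LD2_c55 LD3_c5)) :=
  Lre_f IH (LK LD1_c1 LD2_c56 LD3_c40) (LK LD1_c0 LD2_c55 LD3_c5) Lrfl Lrfl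
theorem f28642 : Led Lsl_bf (LP (LK LD1_c0 LD2_c27 LD3_c49)) = (LP (LK LD1_c0 LD2_c55 LD3_c5)) :=
  Lgr Lrot61 (Lpr_ft (f28640 IH) (Lpr_bt (K1.f28630 IH) (Lpr_ft (f28641 IH) (Lpn (LP (LK LD1_c0 LD2_c55 LD3_c5))))))
theorem f31562 : Led Lsl_af (LP (LK LD1_c0 LD2_c14 LD3_c18)) = (LP (LK LD1_c0 LD2_c24 LD3_c57)) :=
  Lgr Lrot45 (Lpr_ft (K0.f31534 IH) (Lpr_at (K0.f31549 IH) (Lpr_ft (K0.f28615 IH) (Lpn (LP (LK LD1_c0 LD2_c24 LD3_c57))))))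
theorem f31040 : Led Lsl_dt (LP (LK LD1_c0 LD2_c14 LD3_c18)) = (LP (LK LD1_c0 LD2_c32 LD3_c2)) :=
  Lre_d IH (LK LD1_c0 LD2_c14 LD3_c18) (LK LD1_c0 LD2_c32 LD3_c2) Lrfl Lrfl
theorem f28611 : Led Lsl_dt (LP (LK LD1_c0 LD2_c55 LD3_c5)) = (LP (LK LD1_c0 LD2_c24 LD3_c57)) :=
  Lre_d IH (LK LD1_c0 LD2_c55 LD3_c5) (LK LD1_c0 LD2_c24 LD3_c57) Lrfl Lrfl
theorem f31567 : Led Lsl_at (LP (LK LD1_c0 LD2_c32 LD3_c2)) = (LP (LK LD1_c0 LD2_c55 LD3_c5)) :=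
  Lgr Lrot51 (Lpe (f31040 IH) (Lpr_af (f31562 IH) (Lpe (f28611 IH) (Lpn (LP (LK LD1_c0 LD2_c55 LD3_c5))))))
theorem f31577 : Led Lsl_bt (LP (LK LD1_c0 LD2_c14 LD3_c21)) = (LP (LK LD1_c0 LD2_c32 LD3_c2)) :=
  Lre_b IH (LK LD1_c0 LD2_c14 LD3_c21) (LK LD1_c0 LD2_c32 LD3_c2) Lrfl Lrfl
theorem f7020 : Led Lsl_dt (LP (LK LD1_c0 LD2_c6 LD3_c38)) = (LP (LK LD1_c0 LD2_c14 LD3_c25)) :=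
  Lre_d IH (LK LD1_c0 LD2_c6 LD3_c38) (LK LD1_c0 LD2_c14 LD3_c25) Lrfl Lrfl
theorem f31610 : Led Lsl_at (LP (LK LD1_c0 LD2_c14 LD3_c25)) = (LP (LK LD1_c0 LD2_c14 LD3_c21)) :=
  Lgr Lrot51 (Lpe (f7020 IH) (Lpr_af (K0.f31606 IH) (Lpe (K2.f31443 IH) (Lpn (LP (LK LD1_c0 LD2_c14 LD3_c21))))))
theorem f32008 : Led Lsl_bf (LP (LK LD1_c0 LD2_c14 LD3_c25)) = (LP (LK LD1_c0 LD2_c27 LD3_c44)) :=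
  Lgr Lrot81 (Lpr_at (f31610 IH) (Lpr_bt (f31577 IH) (Lpr_at (f31567 IH) (Lpe (f28642 IH) (Lpr_at (K0.f32004 IH) (Lpn (LP (LK LD1_c0 LD2_c27 LD3_c44))))))))
theorem f34885 : Led Lsl_cf (LP (LK LD1_c0 LD2_c29 LD3_c35)) = (LP (LK LD1_c0 LD2_c14 LD3_c25)) :=
  Lgr Lrot97 (Lpr_bt (f34884 IH) (Lpr_ct (K2.f34871 IH) (Lpr_bt (K2.f34781 IH) (Lpr_ct (K0.f31755 IH) (Lpe (f32008 IH) (Lpn (LP (LK LD1_c0 LD2_c14 LD3_c25))))))))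
theorem f31437 : Led Lsl_bt (LP (LK LD1_c0 LD2_c34 LD3_c23)) = (LP (LK LD1_c0 LD2_c15 LD3_c26)) :=
  Lre_b IH (LK LD1_c0 LD2_c34 LD3_c23) (LK LD1_c0 LD2_c15 LD3_c26) Lrfl Lrfl
theorem f45768 : Led Lsl_ct (LP (LK LD1_c0 LD2_c57 LD3_c9)) = (LP (LK LD1_c0 LD2_c34 LD3_c23)) :=
  Lgr Lrot83 (Lpe (K1.f8085 IH) (Lpe (K1.f8082 IH) (Lpr_bf (K1.f45738 IH) (Lpe (K1.f32326 IH) (Lpe (f31437 IH) (Lpn (LP (LK LD1_c0 LD2_c34 LD3_c23))))))))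
theorem f44508 : Led Lsl_gt (LP (LK LD1_c0 LD2_c26 LD3_c51)) = (LP (LK LD1_c0 LD2_c32 LD3_c15)) :=
  Lgr Lrot82 (Lpe (K0.f27744 IH) (Lpr_ct (K0.f27555 IH) (Lpr_gf (K0.f28209 IH) (Lpe (K0.f28178 IH) (Lpr_bt (K1.f44478 IH) (Lpe (K1.f41832 IH) (Lpe (K1.f41285 IH) (Lpr_ct (K1.f41291 IH) (Lpe (K1.f43342 IH) (Lpe (K1.f43320 IH) (Lpn (LP (LK LD1_c0 LD2_c32 LD3_c15)))))))))))))
theorem f44522 : Led Lsl_df (LP (LK LD1_c0 LD2_c59 LD3_c8)) = (LP (LK LD1_c0 LD2_c32 LD3_c15)) :=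
  Lgr Lrot183 (Lpr_ct (K1.f44510 IH) (Lpe (K1.f30832 IH) (Lpe (K0.f28801 IH) (Lpr_dt (K0.f16673 IH) (Lpr_ct (K0.f16672 IH) (Lpr_bt (K0.f20621 IH) (Lpr_gt (K0.f20615 IH) (Lpr_dt (K0.f20449 IH) (Lpr_ct (K0.f222 IH) (Lpr_bt (K0.f400 IH) (Lpr_gt (K0.f7354 IH) (Lpr_dt (K0.f7041 IH) (Lpr_ct (K0.f7038 IH) (Lpqs (K0.f7194 IH) (Lpr_bt (K0.f7199 IH) (Lpe (K0.f28509 IH) (Lpr_dt (K0.f27753 IH) (Lpr_ct (K0.f27748 IH) (Lpr_bt (K0.f27744 IH) (Lpr_gt (f44508 IH) (Lpn (LP (LK LD1_c0 LD2_c32 LD3_c15)))))))))))))))))))))))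
theorem f45790 : Led Lsl_gt (LP (LK LD1_c0 LD2_c34 LD3_c23)) = (LP (LK LD1_c0 LD2_c15 LD3_c46)) :=
  Lgr Lrot94 (Lpe (f45768 IH) (Lpr_gt (K1.f45785 IH) (Lpr_dt (K0.f27726 IH) (Lpr_gt (f44508 IH) (Lpe (f44522 IH) (Lpr_cf (K1.f44515 IH) (Lpe (K1.f30841 IH) (Lpr_gf (K1.f44304 IH) (Lpe (K1.f43915 IH) (Lpn (LP (LK LD1_c0 LD2_c15 LD3_c46))))))))))))
theorem f47455 : Led Lsl_df (LP (LK LD1_c0 LD2_c59 LD3_c31)) = (LP (LK LD1_c0 LD2_c56 LD3_c44)) :=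
  Lgr Lrot84 (Lpe (K1.f8075 IH) (Lpe (K1.f45097 IH) (Lpr_gf (K1.f45734 IH) (Lpe (K1.f44042 IH) (Lpr_gf (K1.f33114 IH) (Lpr_cf (K1.f44562 IH) (Lpr_gt (f44508 IH) (Lpe (f44522 IH) (Lpr_gt (K1.f47445 IH) (Lpn (LP (LK LD1_c0 LD2_c56 LD3_c44))))))))))))
theorem f44554 : Led Lsl_ct (LP (LK LD1_c0 LD2_c25 LD3_c9)) = (LP (LK LD1_c0 LD2_c26 LD3_c51)) :=
  Lgr Lrot152 (Lpr_gf (K1.f44304 IH) (Lpe (K1.f43915 IH) (Lpr_gt (K1.f7707 IH) (Lpr_ct (K1.f44546 IH) (Lpr_gt (K1.f43248 IH) (Lpr_ct (K1.f31528 IH) (Lpe (K1.f44317 IH) (Lpe (K1.f43320 IH) (Lpe (f44508 IH) (Lpn (LP (LK LD1_c0 LD2_c26 LD3_c51))))))))))))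
theorem f47502 : Led Lsl_df (LP (LK LD1_c0 LD2_c57 LD3_c9)) = (LP (LK LD1_c0 LD2_c56 LD3_c43)) :=
  Lgr Lrot153 (Lpr_gt (K1.f45785 IH) (Lpr_dt (K0.f27726 IH) (Lpe (f44554 IH) (Lpr_df (K1.f30834 IH) (Lpe (K1.f27909 IH) (Lpe (K1.f29029 IH) (Lpe (K1.f45726 IH) (Lpe (K1.f750 IH) (Lpr_gt (K1.f47498 IH) (Lpn (LP (LK LD1_c0 LD2_c56 LD3_c43))))))))))))
theorem f45792 : Led Lsl_cf (LP (LK LD1_c0 LD2_c57 LD3_c9)) = (LP (LK LD1_c0 LD2_c34 LD3_c23)) :=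
  Lgr Lrot166 (Lpr_gt (K1.f45785 IH) (Lpr_dt (K0.f27726 IH) (Lpr_gt (f44508 IH) (Lpe (f44522 IH) (Lpr_ct (K1.f44510 IH) (Lpe (K1.f30841 IH) (Lpr_gf (K1.f44304 IH) (Lpe (K1.f43915 IH) (Lpe (f45790 IH) (Lpn (LP (LK LD1_c0 LD2_c34 LD3_c23))))))))))))
theorem f47504 : Led Lsl_dt (LP (LK LD1_c0 LD2_c27 LD3_c6)) = (LP (LK LD1_c0 LD2_c34 LD3_c23)) :=
  Lgr Lrot105 (Lpr_gf (K1.f45732 IH) (Lpr_df (K1.f41852 IH) (Lpe (K1.f41850 IH) (Lpe (K1.f44510 IH) (Lpr_gt (K1.f47445 IH) (Lpe (f47455 IH) (Lpr_gt (K1.f47498 IH) (Lpe (f47502 IH) (Lpr_cf (f45792 IH) (Lpn (LP (LK LD1_c0 LD2_c34 LD3_c23))))))))))))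
theorem f47943 : Led Lsl_gt (LP (LK LD1_c0 LD2_c17 LD3_c30)) = (LP (LK LD1_c0 LD2_c17 LD3_c32)) :=
  Lgr Lrot187 (Lpe (K0.f28808 IH) (Lpe (K1.f45726 IH) (Lpr_dt (f47504 IH) (Lpr_gt (f45790 IH) (Lpr_ct (K1.f8272 IH) (Lpr_gt (K1.f8283 IH) (Lpr_ct (K1.f41875 IH) (Lpr_dt (K1.f47838 IH) (Lpr_cf (K1.f45783 IH) (Lpn (LP (LK LD1_c0 LD2_c17 LD3_c32))))))))))))
theorem f47946 : Led Lsl_gf (LP (LK LD1_c0 LD2_c25 LD3_c44)) = (LP (LK LD1_c0 LD2_c25 LD3_c45)) :=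
  Lgr Lrot181 (Lpe (K1.f44580 IH) (Lpe (K1.f44526 IH) (Lpr_cf (K1.f44515 IH) (Lpe (K1.f30832 IH) (Lpe (K0.f28801 IH) (Lpe (K0.f28807 IH) (Lpr_ct (K0.f28808 IH) (Lpr_gt (f47943 IH) (Lpe (K1.f44468 IH) (Lpe (K1.f47829 IH) (Lpn (LP (LK LD1_c0 LD2_c25 LD3_c45)))))))))))))
theorem f47952 : Led Lsl_bf (LP (LK LD1_c0 LD2_c25 LD3_c44)) = (LP (LK LD1_c0 LD2_c34 LD3_c21)) :=
  Lgr Lrot34 (Lpr_gf (f47946 IH) (Lpr_bf (K1.f47829 IH) (Lpr_ct (K1.f44468 IH) (Lpe (f47943 IH) (Lpe (K0.f28808 IH) (Lpe (K1.f45726 IH) (Lpe (K1.f45109 IH) (Lpe (K1.f45247 IH) (Lpe (K1.f32310 IH) (Lpe (K1.f32313 IH) (Lpn (LP (LK LD1_c0 LD2_c34 LD3_c21)))))))))))))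
theorem f33400 : Led Lsl_ft (LP (LK LD1_c0 LD2_c34 LD3_c21)) = (LP (LK LD1_c0 LD2_c34 LD3_c21)) :=
  Lgr Lrot4 (Lpe (K1.f32312 IH) (Lpr_ff (K1.f33398 IH) (Lpe (K1.f32313 IH) (Lpn (LP (LK LD1_c0 LD2_c34 LD3_c21))))))
theorem f47985 : Led Lsl_ft (LP (LK LD1_c0 LD2_c25 LD3_c44)) = (LP (LK LD1_c0 LD2_c25 LD3_c44)) :=
  Lgr Lrot75 (Lpr_bf (f47952 IH) (Lpe (f33400 IH) (Lpr_bf (K1.f44578 IH) (Lpn (LP (LK LD1_c0 LD2_c25 LD3_c44))))))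
theorem f47991 : Led Lsl_af (LP (LK LD1_c0 LD2_c25 LD3_c43)) = (LP (LK LD1_c0 LD2_c25 LD3_c44)) :=
  Lgr Lrot31 (Lpe (K1.f6963 IH) (Lpe (K1.f41866 IH) (Lpr_ft (f47985 IH) (Lpn (LP (LK LD1_c0 LD2_c25 LD3_c44))))))
theorem f47993 : Led Lsl_at (LP (LK LD1_c0 LD2_c25 LD3_c43)) = (LP (LK LD1_c0 LD2_c25 LD3_c44)) :=
  Lgr Lrot100 (Lpr_af (f47991 IH) (Lpn (LP (LK LD1_c0 LD2_c25 LD3_c44))))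
theorem f48001 : Led Lsl_ft (LP (LK LD1_c0 LD2_c25 LD3_c43)) = (LP (LK LD1_c0 LD2_c25 LD3_c43)) :=
  Lgr Lrot101 (Lpr_af (f47991 IH) (Lpe (f47985 IH) (Lpe (f47993 IH) (Lpn (LP (LK LD1_c0 LD2_c25 LD3_c43))))))
theorem f47437 : Led Lsl_dt (LP (LK LD1_c0 LD2_c25 LD3_c58)) = (LP (LK LD1_c0 LD2_c25 LD3_c43)) :=
  Lgr Lrot6 (Lpr_gt (K1.f45779 IH) (Lpr_ct (K1.f44468 IH) (Lpe (K1.f41797 IH) (Lpr_ct (K0.f29043 IH) (Lpr_df (K1.f41852 IH) (Lpe (K1.f41286 IH) (Lpr_gf (K1.f44287 IH) (Lpe (K1.f46146 IH) (Lpr_gf (K1.f47435 IH) (Lpn (LP (LK LD1_c0 LD2_c25 LD3_c43))))))))))))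
theorem f47439 : Led Lsl_df (LP (LK LD1_c0 LD2_c25 LD3_c58)) = (LP (LK LD1_c0 LD2_c25 LD3_c43)) :=
  Lgr Lrot155 (Lpr_gt (K1.f45779 IH) (Lpr_ct (K1.f44468 IH) (Lpe (K1.f41797 IH) (Lpr_ct (K0.f29043 IH) (Lpr_dt (K1.f41877 IH) (Lpe (K1.f41286 IH) (Lpr_gf (K1.f44287 IH) (Lpe (K1.f46146 IH) (Lpr_gf (K1.f47435 IH) (Lpn (LP (LK LD1_c0 LD2_c25 LD3_c43))))))))))))
theorem f48005 : Led Lsl_ff (LP (LK LD1_c0 LD2_c25 LD3_c58)) = (LP (LK LD1_c0 LD2_c25 LD3_c58)) :=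
  Lgr Lrot19 (Lpr_dt (f47437 IH) (Lpr_ft (f48001 IH) (Lpe (f47439 IH) (Lpn (LP (LK LD1_c0 LD2_c25 LD3_c58))))))
theorem f8074 : Led Lsl_bt (LP (LK LD1_c0 LD2_c57 LD3_c9)) = (LP (LK LD1_c0 LD2_c25 LD3_c58)) :=
  Lre_b IH (LK LD1_c0 LD2_c57 LD3_c9) (LK LD1_c0 LD2_c25 LD3_c58) Lrfl Lrfl
theorem f48009 : Led Lsl_ft (LP (LK LD1_c0 LD2_c57 LD3_c9)) = (LP (LK LD1_c0 LD2_c57 LD3_c9)) :=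
  Lgr Lrot75 (Lpe (K1.f8085 IH) (Lpr_ff (f48005 IH) (Lpe (f8074 IH) (Lpn (LP (LK LD1_c0 LD2_c57 LD3_c9))))))
theorem f48013 : Led Lsl_af (LP (LK LD1_c1 LD2_c8 LD3_c38)) = (LP (LK LD1_c0 LD2_c57 LD3_c9)) :=
  Lgr Lrot31 (Lpe (K1.f27580 IH) (Lpe (K1.f45785 IH) (Lpr_ft (f48009 IH) (Lpn (LP (LK LD1_c0 LD2_c57 LD3_c9))))))
theorem f44548 : Led Lsl_cf (LP (LK LD1_c0 LD2_c35 LD3_c4)) = (LP (LK LD1_c1 LD2_c8 LD3_c38)) :=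
  Lgr Lrot11 (Lpr_ct (K1.f44546 IH) (Lpn (LP (LK LD1_c1 LD2_c8 LD3_c38))))
theorem f48017 : Led Lsl_at (LP (LK LD1_c0 LD2_c35 LD3_c4)) = (LP (LK LD1_c0 LD2_c34 LD3_c23)) :=
  Lgr Lrot107 (Lpr_cf (f44548 IH) (Lpr_af (f48013 IH) (Lpr_cf (f45792 IH) (Lpn (LP (LK LD1_c0 LD2_c34 LD3_c23))))))
theorem f44550 : Led Lsl_et (LP (LK LD1_c1 LD2_c15 LD3_c37)) = (LP (LK LD1_c0 LD2_c35 LD3_c4)) :=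
  Lre_e IH (LK LD1_c1 LD2_c15 LD3_c37) (LK LD1_c0 LD2_c35 LD3_c4) Lrfl Lrfl
theorem f33508 : Led Lsl_et (LP (LK LD1_c0 LD2_c34 LD3_c23)) = (LP (LK LD1_c1 LD2_c14 LD3_c8)) :=
  Lre_e IH (LK LD1_c0 LD2_c34 LD3_c23) (LK LD1_c1 LD2_c14 LD3_c8) Lrfl Lrfl
theorem f48037 : Led Lsl_af (LP (LK LD1_c1 LD2_c15 LD3_c37)) = (LP (LK LD1_c1 LD2_c14 LD3_c8)) :=
  Lgr Lrot50 (Lpr_et (f44550 IH) (Lpr_at (f48017 IH) (Lpr_et (f33508 IH) (Lpn (LP (LK LD1_c1 LD2_c14 LD3_c8))))))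
theorem f33448 : Led Lsl_bt (LP (LK LD1_c0 LD2_c34 LD3_c25)) = (LP (LK LD1_c1 LD2_c14 LD3_c8)) :=
  Lre_b IH (LK LD1_c0 LD2_c34 LD3_c25) (LK LD1_c1 LD2_c14 LD3_c8) Lrfl Lrfl
theorem f33418 : Led Lsl_af (LP (LK LD1_c0 LD2_c34 LD3_c24)) = (LP (LK LD1_c0 LD2_c34 LD3_c21)) :=
  Lgr Lrot45 (Lpr_ft (K1.f33416 IH) (Lpe (K1.f33407 IH) (Lpr_ft (f33400 IH) (Lpn (LP (LK LD1_c0 LD2_c34 LD3_c21))))))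
theorem f33421 : Led Lsl_et (LP (LK LD1_c0 LD2_c34 LD3_c24)) = (LP (LK LD1_c1 LD2_c14 LD3_c9)) :=
  Lre_e IH (LK LD1_c0 LD2_c34 LD3_c24) (LK LD1_c1 LD2_c14 LD3_c9) Lrfl Lrfl
theorem f33422 : Led Lsl_et (LP (LK LD1_c1 LD2_c14 LD3_c6)) = (LP (LK LD1_c0 LD2_c34 LD3_c21)) :=
  Lre_e IH (LK LD1_c1 LD2_c14 LD3_c6) (LK LD1_c0 LD2_c34 LD3_c21) Lrfl Lrfl
theorem f33423 : Led Lsl_at (LP (LK LD1_c1 LD2_c14 LD3_c9)) = (LP (LK LD1_c1 LD2_c14 LD3_c6)) :=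
  Lgr Lrot80 (Lpe (f33421 IH) (Lpr_af (f33418 IH) (Lpe (f33422 IH) (Lpn (LP (LK LD1_c1 LD2_c14 LD3_c6))))))
theorem f33427 : Led Lsl_ct (LP (LK LD1_c0 LD2_c34 LD3_c25)) = (LP (LK LD1_c1 LD2_c14 LD3_c9)) :=
  Lre_c IH (LK LD1_c0 LD2_c34 LD3_c25) (LK LD1_c1 LD2_c14 LD3_c9) Lrfl Lrfl
theorem f33428 : Led Lsl_ct (LP (LK LD1_c1 LD2_c14 LD3_c6)) = (LP (LK LD1_c0 LD2_c34 LD3_c22)) :=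
  Lre_c IH (LK LD1_c1 LD2_c14 LD3_c6) (LK LD1_c0 LD2_c34 LD3_c22) Lrfl Lrfl
theorem f33429 : Led Lsl_af (LP (LK LD1_c0 LD2_c34 LD3_c25)) = (LP (LK LD1_c0 LD2_c34 LD3_c22)) :=
  Lgr Lrot68 (Lpr_ct (f33427 IH) (Lpr_at (f33423 IH) (Lpr_ct (f33428 IH) (Lpn (LP (LK LD1_c0 LD2_c34 LD3_c22))))))
theorem f31156 : Led Lsl_et (LP (LK LD1_c1 LD2_c1 LD3_c1)) = (LP (LK LD1_c0 LD2_c27 LD3_c51)) :=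
  Lre_e IH (LK LD1_c1 LD2_c1 LD3_c1) (LK LD1_c0 LD2_c27 LD3_c51) Lrfl Lrfl
theorem f33395 : Led Lsl_et (LP (LK LD1_c0 LD2_c15 LD3_c25)) = (LP (LK LD1_c0 LD2_c34 LD3_c22)) :=
  Lre_e IH (LK LD1_c0 LD2_c15 LD3_c25) (LK LD1_c0 LD2_c34 LD3_c22) Lrfl Lrfl
theorem f33396 : Led Lsl_bf (LP (LK LD1_c1 LD2_c1 LD3_c1)) = (LP (LK LD1_c0 LD2_c34 LD3_c22)) :=
  Lgr Lrot96 (Lpr_et (f31156 IH) (Lpr_bt (K1.f33348 IH) (Lpr_et (f33395 IH) (Lpn (LP (LK LD1_c0 LD2_c34 LD3_c22))))))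
theorem f33510 : Led Lsl_bt (LP (LK LD1_c1 LD2_c1 LD3_c1)) = (LP (LK LD1_c0 LD2_c34 LD3_c22)) :=
  Lgr Lrot127 (Lpr_bf (f33396 IH) (Lpn (LP (LK LD1_c0 LD2_c34 LD3_c22))))
theorem f31160 : Led Lsl_af (LP (LK LD1_c1 LD2_c1 LD3_c1)) = (LP (LK LD1_c1 LD2_c1 LD3_c5)) :=
  Lgr Lrot0 (Lpr_at (K0.f31158 IH) (Lpn (LP (LK LD1_c1 LD2_c1 LD3_c5))))
theorem f48041 : Led Lsl_bt (LP (LK LD1_c1 LD2_c15 LD3_c37)) = (LP (LK LD1_c1 LD2_c1 LD3_c5)) :=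
  Lgr Lrot62 (Lpr_af (f48037 IH) (Lpe (f33448 IH) (Lpr_af (f33429 IH) (Lpe (f33510 IH) (Lpr_af (f31160 IH) (Lpn (LP (LK LD1_c1 LD2_c1 LD3_c5))))))))
theorem f44551 : Led Lsl_et (LP (LK LD1_c1 LD2_c8 LD3_c38)) = (LP (LK LD1_c2 LD2_c23 LD3_c1)) :=
  Lre_e IH (LK LD1_c1 LD2_c8 LD3_c38) (LK LD1_c2 LD2_c23 LD3_c1) Lrfl Lrfl
theorem f44552 : Led Lsl_cf (LP (LK LD1_c1 LD2_c15 LD3_c37)) = (LP (LK LD1_c2 LD2_c23 LD3_c1)) :=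
  Lgr Lrot39 (Lpr_et (f44550 IH) (Lpr_ct (K1.f44546 IH) (Lpr_et (f44551 IH) (Lpn (LP (LK LD1_c2 LD2_c23 LD3_c1))))))
theorem f31425 : Led Lsl_et (LP (LK LD1_c0 LD2_c27 LD3_c54)) = (LP (LK LD1_c1 LD2_c1 LD3_c5)) :=
  Lre_e IH (LK LD1_c0 LD2_c27 LD3_c54) (LK LD1_c1 LD2_c1 LD3_c5) Lrfl Lrfl
theorem f33279 : Led Lsl_et (LP (LK LD1_c0 LD2_c33 LD3_c0)) = (LP (LK LD1_c0 LD2_c14 LD3_c50)) :=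
  Lre_e IH (LK LD1_c0 LD2_c33 LD3_c0) (LK LD1_c0 LD2_c14 LD3_c50) Lrfl Lrfl
theorem f33280 : Led Lsl_ct (LP (LK LD1_c1 LD2_c1 LD3_c5)) = (LP (LK LD1_c0 LD2_c33 LD3_c0)) :=
  Lgr Lrot15 (Lpe (f31425 IH) (Lpr_cf (K0.f33140 IH) (Lpe (f33279 IH) (Lpn (LP (LK LD1_c0 LD2_c33 LD3_c0))))))
theorem f48158 : Led Lsl_bt (LP (LK LD1_c0 LD2_c33 LD3_c0)) = (LP (LK LD1_c1 LD2_c11 LD3_c12)) :=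
  Lre_b IH (LK LD1_c0 LD2_c33 LD3_c0) (LK LD1_c1 LD2_c11 LD3_c12) Lrfl Lrfl
theorem f48159 : Led Lsl_ct (LP (LK LD1_c1 LD2_c11 LD3_c12)) = (LP (LK LD1_c1 LD2_c14 LD3_c43)) :=
  Lre_c IH (LK LD1_c1 LD2_c11 LD3_c12) (LK LD1_c1 LD2_c14 LD3_c43) Lrfl Lrfl
theorem f48160 : Led Lsl_bf (LP (LK LD1_c2 LD2_c23 LD3_c1)) = (LP (LK LD1_c1 LD2_c14 LD3_c43)) :=
  Lgr Lrot90 (Lpe (f44552 IH) (Lpr_bt (f48041 IH) (Lpr_ct (f33280 IH) (Lpr_bt (f48158 IH) (Lpr_ct (f48159 IH) (Lpn (LP (LK LD1_c1 LD2_c14 LD3_c43))))))))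
theorem f43250 : Led Lsl_et (LP (LK LD1_c2 LD2_c23 LD3_c1)) = (LP (LK LD1_c1 LD2_c8 LD3_c38)) :=
  Lre_e IH (LK LD1_c2 LD2_c23 LD3_c1) (LK LD1_c1 LD2_c8 LD3_c38) Lrfl Lrfl
theorem f48167 : Led Lsl_et (LP (LK LD1_c0 LD2_c34 LD3_c40)) = (LP (LK LD1_c1 LD2_c14 LD3_c43)) :=
  Lre_e IH (LK LD1_c0 LD2_c34 LD3_c40) (LK LD1_c1 LD2_c14 LD3_c43) Lrfl Lrfl
theorem f48168 : Led Lsl_bt (LP (LK LD1_c1 LD2_c8 LD3_c38)) = (LP (LK LD1_c0 LD2_c34 LD3_c40)) :=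
  Lgr Lrot119 (Lpe (f43250 IH) (Lpr_bf (f48160 IH) (Lpe (f48167 IH) (Lpn (LP (LK LD1_c0 LD2_c34 LD3_c40))))))
theorem f48015 : Led Lsl_at (LP (LK LD1_c1 LD2_c8 LD3_c38)) = (LP (LK LD1_c0 LD2_c57 LD3_c9)) :=
  Lgr Lrot100 (Lpr_af (f48013 IH) (Lpn (LP (LK LD1_c0 LD2_c57 LD3_c9))))
theorem f48021 : Led Lsl_ft (LP (LK LD1_c1 LD2_c8 LD3_c38)) = (LP (LK LD1_c1 LD2_c8 LD3_c38)) :=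
  Lgr Lrot101 (Lpr_af (f48013 IH) (Lpe (f48009 IH) (Lpe (f48015 IH) (Lpn (LP (LK LD1_c1 LD2_c8 LD3_c38))))))
theorem f48175 : Led Lsl_bf (LP (LK LD1_c1 LD2_c8 LD3_c38)) = (LP (LK LD1_c0 LD2_c34 LD3_c40)) :=
  Lgr Lrot24 (Lpr_bt (f48168 IH) (Lpn (LP (LK LD1_c0 LD2_c34 LD3_c40))))
theorem f48179 : Led Lsl_ff (LP (LK LD1_c0 LD2_c34 LD3_c40)) = (LP (LK LD1_c0 LD2_c34 LD3_c40)) :=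
  Lgr Lrot25 (Lpe (f48175 IH) (Lpr_ft (f48021 IH) (Lpr_bt (f48168 IH) (Lpn (LP (LK LD1_c0 LD2_c34 LD3_c40))))))
theorem f44556 : Led Lsl_dt (LP (LK LD1_c0 LD2_c57 LD3_c10)) = (LP (LK LD1_c1 LD2_c8 LD3_c38)) :=
  Lgr Lrot27 (Lpe (K1.f8076 IH) (Lpe (K1.f8073 IH) (Lpr_cf (K1.f44315 IH) (Lpe (K0.f6968 IH) (Lpr_df (K1.f29061 IH) (Lpr_gt (K1.f8284 IH) (Lpr_ct (K1.f7706 IH) (Lpr_gt (K1.f7707 IH) (Lpr_ct (K1.f44546 IH) (Lpn (LP (LK LD1_c1 LD2_c8 LD3_c38))))))))))))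
theorem f48177 : Led Lsl_df (LP (LK LD1_c0 LD2_c34 LD3_c24)) = (LP (LK LD1_c0 LD2_c34 LD3_c40)) :=
  Lgr Lrot12 (Lpe (K1.f45738 IH) (Lpr_dt (f44556 IH) (Lpr_bt (f48168 IH) (Lpn (LP (LK LD1_c0 LD2_c34 LD3_c40))))))
theorem f49141 : Led Lsl_dt (LP (LK LD1_c0 LD2_c34 LD3_c24)) = (LP (LK LD1_c0 LD2_c34 LD3_c40)) :=
  Lgr Lrot60 (Lpe (K1.f33416 IH) (Lpr_df (f48177 IH) (Lpr_ff (f48179 IH) (Lpn (LP (LK LD1_c0 LD2_c34 LD3_c40))))))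
theorem f49149 : Led Lsl_gt (LP (LK LD1_c0 LD2_c26 LD3_c15)) = (LP (LK LD1_c0 LD2_c32 LD3_c61)) :=
  Lgr Lrot187 (Lpe (K1.f1429 IH) (Lpr_gf (K1.f47532 IH) (Lpr_dt (K1.f733 IH) (Lpe (K1.f47492 IH) (Lpe (K1.f45247 IH) (Lpe (K1.f32324 IH) (Lpr_ct (K1.f32326 IH) (Lpr_dt (f49141 IH) (Lpe (K1.f32928 IH) (Lpn (LP (LK LD1_c0 LD2_c32 LD3_c61))))))))))))
theorem f28740 : Led Lsl_bt (LP (LK LD1_c0 LD2_c2 LD3_c23)) = (LP (LK LD1_c0 LD2_c2 LD3_c23)) :=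
  Lgr Lrot128 (Lpe (K0.f28559 IH) (Lpe (K0.f2936 IH) (Lpe (K0.f2930 IH) (Lpr_bf (K0.f2938 IH) (Lpr_cf (K0.f28738 IH) (Lpn (LP (LK LD1_c0 LD2_c2 LD3_c23))))))))
theorem f45736 : Led Lsl_df (LP (LK LD1_c0 LD2_c15 LD3_c27)) = (LP (LK LD1_c0 LD2_c15 LD3_c32)) :=
  Lgr Lrot183 (Lpr_ct (K1.f45122 IH) (Lpr_bt (K1.f45109 IH) (Lpr_gt (K1.f45726 IH) (Lpr_dt (K1.f29029 IH) (Lpr_ct (K1.f28731 IH) (Lpr_bt (K1.f42115 IH) (Lpe (K0.f28435 IH) (Lpr_dt (K0.f28425 IH) (Lpr_ct (K0.f28423 IH) (Lpr_bt (K0.f28444 IH) (Lpr_gt (K0.f28594 IH) (Lpr_dt (K0.f2995 IH) (Lpr_ct (K0.f28559 IH) (Lpr_bt (f28740 IH) (Lpr_gt (K0.f449 IH) (Lpr_dt (K0.f27822 IH) (Lpr_ct (K0.f27775 IH) (Lpr_bt (K0.f27779 IH) (Lpe (K1.f33089 IH) (Lpn (LP (LK LD1_c0 LD2_c15 LD3_c32))))))))))))))))))))))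
theorem f47739 : Led Lsl_df (LP (LK LD1_c0 LD2_c34 LD3_c37)) = (LP (LK LD1_c0 LD2_c57 LD3_c37)) :=
  Lgr Lrot162 (Lpe (K1.f32134 IH) (Lpr_gf (K1.f33089 IH) (Lpe (K0.f737 IH) (Lpe (K1.f757 IH) (Lpr_dt (K1.f47534 IH) (Lpr_gt (K1.f32155 IH) (Lpr_ct (K1.f28410 IH) (Lpr_gt (K1.f28503 IH) (Lpe (K1.f44930 IH) (Lpn (LP (LK LD1_c0 LD2_c57 LD3_c37))))))))))))
theorem f47806 : Led Lsl_df (LP (LK LD1_c0 LD2_c35 LD3_c4)) = (LP (LK LD1_c0 LD2_c27 LD3_c53)) :=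
  Lgr Lrot84 (Lpr_cf (f44548 IH) (Lpe (f44556 IH) (Lpr_gf (K1.f45775 IH) (Lpr_df (K1.f33127 IH) (Lpr_gf (K1.f44573 IH) (Lpe (K1.f47508 IH) (Lpr_gt (K1.f47801 IH) (Lpr_dt (K1.f29003 IH) (Lpr_gt (K0.f29033 IH) (Lpn (LP (LK LD1_c0 LD2_c27 LD3_c53))))))))))))
theorem f33292 : Led Lsl_dt (LP (LK LD1_c0 LD2_c15 LD3_c33)) = (LP (LK LD1_c0 LD2_c32 LD3_c61)) :=
  Lgr Lrot79 (Lpe (K1.f28447 IH) (Lpr_df (K0.f33289 IH) (Lpe (K1.f32929 IH) (Lpn (LP (LK LD1_c0 LD2_c32 LD3_c61))))))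
theorem f43244 : Led Lsl_df (LP (LK LD1_c0 LD2_c58 LD3_c61)) = (LP (LK LD1_c0 LD2_c54 LD3_c37)) :=
  Lgr Lrot18 (Lpr_at (K1.f27741 IH) (Lpe (K0.f27704 IH) (Lpr_at (K1.f43240 IH) (Lpn (LP (LK LD1_c0 LD2_c54 LD3_c37))))))
theorem f47481 : Led Lsl_cf (LP (LK LD1_c0 LD2_c34 LD3_c35)) = (LP (LK LD1_c0 LD2_c58 LD3_c61)) :=
  Lgr Lrot11 (Lpr_ct (K1.f47474 IH) (Lpn (LP (LK LD1_c0 LD2_c58 LD3_c61))))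
theorem f48181 : Led Lsl_df (LP (LK LD1_c0 LD2_c7 LD3_c0)) = (LP (LK LD1_c0 LD2_c7 LD3_c2)) :=
  Lgr Lrot183 (Lpe (K1.f44524 IH) (Lpr_bt (K1.f44531 IH) (Lpe (K1.f31129 IH) (Lpr_dt (K0.f28461 IH) (Lpe (K0.f28805 IH) (Lpr_bt (K0.f28999 IH) (Lpr_gt (K0.f29033 IH) (Lpe (f47806 IH) (Lpr_ct (K1.f44546 IH) (Lpr_bt (f48168 IH) (Lpr_gt (K1.f28462 IH) (Lpr_dt (f33292 IH) (Lpr_ct (K1.f32928 IH) (Lpe (f48175 IH) (Lpr_gt (K1.f43248 IH) (Lpe (f43244 IH) (Lpe (f47481 IH) (Lpr_bt (K1.f32158 IH) (Lpr_gt (K1.f32155 IH) (Lpn (LP (LK LD1_c0 LD2_c7 LD3_c2))))))))))))))))))))))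
theorem f32927 : Led Lsl_ct (LP (LK LD1_c0 LD2_c34 LD3_c40)) = (LP (LK LD1_c0 LD2_c32 LD3_c61)) :=
  Lre_c IH (LK LD1_c0 LD2_c34 LD3_c40) (LK LD1_c0 LD2_c32 LD3_c61) Lrfl Lrfl
theorem f49143 : Led Lsl_df (LP (LK LD1_c0 LD2_c15 LD3_c33)) = (LP (LK LD1_c0 LD2_c32 LD3_c61)) :=
  Lgr Lrot43 (Lpr_ct (K0.f8282 IH) (Lpe (f48181 IH) (Lpe (K1.f44524 IH) (Lpr_dt (K1.f45124 IH) (Lpr_ct (K1.f32312 IH) (Lpr_dt (K1.f44920 IH) (Lpe (K1.f44930 IH) (Lpe (f47739 IH) (Lpr_ct (K1.f32135 IH) (Lpe (f45736 IH) (Lpr_ct (K1.f45122 IH) (Lpe (K1.f45092 IH) (Lpr_ct (K1.f32326 IH) (Lpr_dt (f49141 IH) (Lpr_ct (f32927 IH) (Lpn (LP (LK LD1_c0 LD2_c32 LD3_c61))))))))))))))))))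
theorem f47494 : Led Lsl_dt (LP (LK LD1_c0 LD2_c15 LD3_c27)) = (LP (LK LD1_c0 LD2_c15 LD3_c32)) :=
  Lgr Lrot27 (Lpr_cf (K1.f45247 IH) (Lpr_gf (K1.f47492 IH) (Lpe (K1.f770 IH) (Lpe (K1.f27391 IH) (Lpe (K1.f44963 IH) (Lpr_gt (K1.f744 IH) (Lpr_ct (K1.f44927 IH) (Lpr_gt (K1.f32132 IH) (Lpr_ct (K1.f32135 IH) (Lpn (LP (LK LD1_c0 LD2_c15 LD3_c32))))))))))))
theorem f47506 : Led Lsl_df (LP (LK LD1_c0 LD2_c7 LD3_c2)) = (LP (LK LD1_c0 LD2_c7 LD3_c0)) :=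
  Lgr Lrot183 (Lpr_ct (K1.f28410 IH) (Lpr_bt (K0.f32081 IH) (Lpe (K0.f31030 IH) (Lpe (K0.f28755 IH) (Lpr_ct (K0.f2068 IH) (Lpe (K0.f29156 IH) (Lpr_gt (K0.f30827 IH) (Lpr_dt (K0.f33124 IH) (Lpe (K0.f33136 IH) (Lpr_bt (K1.f33348 IH) (Lpr_gt (K1.f32310 IH) (Lpr_dt (f47494 IH) (Lpr_ct (K1.f32134 IH) (Lpe (K1.f47496 IH) (Lpr_gt (K1.f47498 IH) (Lpe (f47502 IH) (Lpr_ct (f45768 IH) (Lpr_bt (f31437 IH) (Lpr_gt (K1.f31436 IH) (Lpn (LP (LK LD1_c0 LD2_c7 LD3_c0))))))))))))))))))))))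
theorem f49152 : Led Lsl_df (LP (LK LD1_c0 LD2_c26 LD3_c15)) = (LP (LK LD1_c0 LD2_c26 LD3_c57)) :=
  Lgr Lrot153 (Lpr_gt (f49149 IH) (Lpe (f49143 IH) (Lpe (K1.f28410 IH) (Lpr_df (f47506 IH) (Lpe (K1.f31436 IH) (Lpr_df (K1.f45092 IH) (Lpr_gf (K1.f47492 IH) (Lpe (K1.f770 IH) (Lpe (K1.f45702 IH) (Lpn (LP (LK LD1_c0 LD2_c26 LD3_c57))))))))))))
theorem f1430 : Led Lsl_ct (LP (LK LD1_c0 LD2_c26 LD3_c15)) = (LP (LK LD1_c0 LD2_c11 LD3_c40)) :=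
  Lre_c IH (LK LD1_c0 LD2_c26 LD3_c15) (LK LD1_c0 LD2_c11 LD3_c40) Lrfl Lrfl
theorem f45712 : Led Lsl_ff (LP (LK LD1_c0 LD2_c26 LD3_c57)) = (LP (LK LD1_c0 LD2_c26 LD3_c57)) :=
  Lgr Lrot23 (Lpr_ct (K1.f45706 IH) (Lpe (K0.f27385 IH) (Lpe (K1.f44513 IH) (Lpn (LP (LK LD1_c0 LD2_c26 LD3_c57))))))
theorem f49212 : Led Lsl_af (LP (LK LD1_c0 LD2_c26 LD3_c56)) = (LP (LK LD1_c0 LD2_c26 LD3_c57)) :=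
  Lgr Lrot109 (Lpe (K1.f8084 IH) (Lpe (K1.f45081 IH) (Lpe (K1.f762 IH) (Lpe (K1.f733 IH) (Lpr_cf (K1.f47737 IH) (Lpe (K1.f47534 IH) (Lpe (f1430 IH) (Lpr_df (f49152 IH) (Lpe (f45712 IH) (Lpn (LP (LK LD1_c0 LD2_c26 LD3_c57))))))))))))
theorem f44972 : Led Lsl_et (LP (LK LD1_c0 LD2_c26 LD3_c56)) = (LP (LK LD1_c0 LD2_c59 LD3_c7)) :=
  Lre_e IH (LK LD1_c0 LD2_c26 LD3_c56) (LK LD1_c0 LD2_c59 LD3_c7) Lrfl Lrfl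
theorem f45708 : Led Lsl_et (LP (LK LD1_c0 LD2_c59 LD3_c9)) = (LP (LK LD1_c0 LD2_c26 LD3_c57)) :=
  Lre_e IH (LK LD1_c0 LD2_c59 LD3_c9) (LK LD1_c0 LD2_c26 LD3_c57) Lrfl Lrfl
theorem f49425 : Led Lsl_at (LP (LK LD1_c0 LD2_c59 LD3_c7)) = (LP (LK LD1_c0 LD2_c59 LD3_c9)) :=
  Lgr Lrot80 (Lpe (f44972 IH) (Lpr_af (f49212 IH) (Lpe (f45708 IH) (Lpn (LP (LK LD1_c0 LD2_c59 LD3_c9))))))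
theorem f44967 : Led Lsl_dt (LP (LK LD1_c2 LD2_c4 LD3_c10)) = (LP (LK LD1_c0 LD2_c59 LD3_c7)) :=
  Lre_d IH (LK LD1_c2 LD2_c4 LD3_c10) (LK LD1_c0 LD2_c59 LD3_c7) Lrfl Lrfl
theorem f45709 : Led Lsl_dt (LP (LK LD1_c0 LD2_c59 LD3_c9)) = (LP (LK LD1_c2 LD2_c4 LD3_c14)) :=
  Lre_d IH (LK LD1_c0 LD2_c59 LD3_c9) (LK LD1_c2 LD2_c4 LD3_c14) Lrfl Lrfl
theorem f49431 : Led Lsl_af (LP (LK LD1_c2 LD2_c4 LD3_c10)) = (LP (LK LD1_c2 LD2_c4 LD3_c14)) :=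
  Lgr Lrot117 (Lpr_dt (f44967 IH) (Lpr_at (f49425 IH) (Lpr_dt (f45709 IH) (Lpn (LP (LK LD1_c2 LD2_c4 LD3_c14))))))
theorem f44965 : Led Lsl_et (LP (LK LD1_c0 LD2_c26 LD3_c12)) = (LP (LK LD1_c0 LD2_c57 LD3_c38)) :=
  Lre_e IH (LK LD1_c0 LD2_c26 LD3_c12) (LK LD1_c0 LD2_c57 LD3_c38) Lrfl Lrfl
theorem f44966 : Led Lsl_dt (LP (LK LD1_c0 LD2_c57 LD3_c38)) = (LP (LK LD1_c2 LD2_c1 LD3_c8)) :=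
  Lre_d IH (LK LD1_c0 LD2_c57 LD3_c38) (LK LD1_c2 LD2_c1 LD3_c8) Lrfl Lrfl
theorem f27395 : Led Lsl_et (LP (LK LD1_c0 LD2_c59 LD3_c7)) = (LP (LK LD1_c0 LD2_c26 LD3_c56)) :=
  Lre_e IH (LK LD1_c0 LD2_c59 LD3_c7) (LK LD1_c0 LD2_c26 LD3_c56) Lrfl Lrfl
theorem f44968 : Led Lsl_et (LP (LK LD1_c2 LD2_c1 LD3_c8)) = (LP (LK LD1_c2 LD2_c4 LD3_c10)) :=
  Lgr Lrot71 (Lpe (f44966 IH) (Lpe (f44965 IH) (Lpr_df (K1.f44959 IH) (Lpe (f27395 IH) (Lpe (f44967 IH) (Lpn (LP (LK LD1_c2 LD2_c4 LD3_c10))))))))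
theorem f44980 : Led Lsl_ef (LP (LK LD1_c2 LD2_c1 LD3_c8)) = (LP (LK LD1_c2 LD2_c4 LD3_c10)) :=
  Lgr Lrot88 (Lpr_et (f44968 IH) (Lpn (LP (LK LD1_c2 LD2_c4 LD3_c10))))
theorem f49204 : Led Lsl_et (LP (LK LD1_c0 LD2_c26 LD3_c15)) = (LP (LK LD1_c0 LD2_c57 LD3_c43)) :=
  Lre_e IH (LK LD1_c0 LD2_c26 LD3_c15) (LK LD1_c0 LD2_c57 LD3_c43) Lrfl Lrfl
theorem f47826 : Led Lsl_dt (LP (LK LD1_c0 LD2_c57 LD3_c43)) = (LP (LK LD1_c2 LD2_c1 LD3_c19)) :=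
  Lre_d IH (LK LD1_c0 LD2_c57 LD3_c43) (LK LD1_c2 LD2_c1 LD3_c19) Lrfl Lrfl
theorem f49205 : Led Lsl_dt (LP (LK LD1_c2 LD2_c4 LD3_c14)) = (LP (LK LD1_c0 LD2_c59 LD3_c9)) :=
  Lre_d IH (LK LD1_c2 LD2_c4 LD3_c14) (LK LD1_c0 LD2_c59 LD3_c9) Lrfl Lrfl
theorem f49206 : Led Lsl_et (LP (LK LD1_c2 LD2_c1 LD3_c19)) = (LP (LK LD1_c2 LD2_c4 LD3_c14)) :=
  Lgr Lrot71 (Lpe (f47826 IH) (Lpe (f49204 IH) (Lpr_df (f49152 IH) (Lpe (f45708 IH) (Lpe (f49205 IH) (Lpn (LP (LK LD1_c2 LD2_c4 LD3_c14))))))))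
theorem f49547 : Led Lsl_at (LP (LK LD1_c2 LD2_c1 LD3_c8)) = (LP (LK LD1_c2 LD2_c1 LD3_c19)) :=
  Lgr Lrot80 (Lpr_ef (f44980 IH) (Lpr_af (f49431 IH) (Lpe (f49206 IH) (Lpn (LP (LK LD1_c2 LD2_c1 LD3_c19))))))
theorem f44982 : Led Lsl_ft (LP (LK LD1_c4 LD2_c7 LD3_c36)) = (LP (LK LD1_c2 LD2_c1 LD3_c8)) :=
  Lre_f IH (LK LD1_c4 LD2_c7 LD3_c36) (LK LD1_c2 LD2_c1 LD3_c8) Lrfl Lrfl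
theorem f49560 : Led Lsl_dt (LP (LK LD1_c4 LD2_c7 LD3_c36)) = (LP (LK LD1_c2 LD2_c1 LD3_c9)) :=
  Lre_d IH (LK LD1_c4 LD2_c7 LD3_c36) (LK LD1_c2 LD2_c1 LD3_c9) Lrfl Lrfl
theorem f49561 : Led Lsl_ct (LP (LK LD1_c2 LD2_c1 LD3_c9)) = (LP (LK LD1_c0 LD2_c57 LD3_c41)) :=
  Lre_c IH (LK LD1_c2 LD2_c1 LD3_c9) (LK LD1_c0 LD2_c57 LD3_c41) Lrfl Lrfl

end

end K8

end

end Cfsg.Agent.Helper28.S1692
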