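import Cfsg.Agent.Lib.Helper28.S1692.Seeds8

set_option autoImplicit false
set_option maxRecDepth 100000
set_option linter.all false

namespace Cfsg.Agent.Helper28.S1692

open Cfsg.Agent.Helper28
open Cfsg.Spor.ON (Gen)

noncomputable section

namespace K9
abbrev LD1_c0 := D1.c0
abbrev LD1_c1 := D1.c1
abbrev LD1_c2 := D1.c2
abbrev LD1_c3 := D1.c3
abbrev LD1_c4 := D1.c4
abbrev LD1_c5 := D1.c5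
abbrev LD1_c6 := D1.c6
abbrev LD1_c7 := D1.c7
abbrev LD1_c8 := D1.c8
abbrev LD1_c9 := D1.c9
abbrev LD1_c10 := D1.c10
abbrev LD1_c11 := D1.c11
abbrev LD1_c12 := D1.c12
abbrev LD1_c13 := D1.c13
abbrev LD1_c14 := D1.c14
abbrev LD1_c15 := D1.c15
abbrev LD1_c16 := D1.c16
abbrev LD1_c17 := D1.c17
abbrev LD1_c18 := D1.c18
abbrev LD1_c19 := D1.c19
abbrev LD1_c20 := D1.c20
abbrev LD1_c21 := D1.c21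
abbrev LD1_c22 := D1.c22
abbrev LD1_c23 := D1.c23
abbrev LD1_c24 := D1.c24
abbrev LD1_c25 := D1.c25
abbrev LD1_c26 := D1.c26
abbrev LD1_c27 := D1.c27
abbrev LD1_c28 := D1.c28
abbrev LD1_c29 := D1.c29
abbrev LD1_c30 := D1.c30
abbrev LD1_c31 := D1.c31
abbrev LD1_c32 := D1.c32
abbrev LD2_c0 := D2.c0
abbrev LD2_c1 := D2.c1
abbrev LD2_c2 := D2.c2
abbrev LD2_c3 := D2.c3
abbrev LD2_c4 := D2.c4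
abbrev LD2_c5 := D2.c5
abbrev LD2_c6 := D2.c6
abbrev LD2_c7 := D2.c7
abbrev LD2_c8 := D2.c8
abbrev LD2_c9 := D2.c9
abbrev LD2_c10 := D2.c10
abbrev LD2_c11 := D2.c11
abbrev LD2_c12 := D2.c12
abbrev LD2_c13 := D2.c13
abbrev LD2_c14 := D2.c14
abbrev LD2_c15 := D2.c15
abbrev LD2_c16 := D2.c16
abbrev LD2_c17 := D2.c17
abbrev LD2_c18 := D2.c18
abbrev LD2_c19 := D2.c19
abbrev LD2_c20 := D2.c20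
abbrev LD2_c21 := D2.c21
abbrev LD2_c22 := D2.c22
abbrev LD2_c23 := D2.c23
abbrev LD2_c24 := D2.c24
abbrev LD2_c25 := D2.c25
abbrev LD2_c26 := D2.c26
abbrev LD2_c27 := D2.c27
abbrev LD2_c28 := D2.c28
abbrev LD2_c29 := D2.c29
abbrev LD2_c30 := D2.c30
abbrev LD2_c31 := D2.c31
abbrev LD2_c32 := D2.c32
abbrev LD2_c33 := D2.c33
abbrev LD2_c34 := D2.c34
abbrev LD2_c35 := D2.c35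
abbrev LD2_c36 := D2.c36
abbrev LD2_c37 := D2.c37
abbrev LD2_c38 := D2.c38
abbrev LD2_c39 := D2.c39
abbrev LD2_c40 := D2.c40
abbrev LD2_c41 := D2.c41
abbrev LD2_c42 := D2.c42
abbrev LD2_c43 := D2.c43
abbrev LD2_c44 := D2.c44
abbrev LD2_c45 := D2.c45
abbrev LD2_c46 := D2.c46
abbrev LD2_c47 := D2.c47
abbrev LD2_c48 := D2.c48
abbrev LD2_c49 := D2.c49
abbrev LD2_c50 := D2.c50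
abbrev LD2_c51 := D2.c51
abbrev LD2_c52 := D2.c52
abbrev LD2_c53 := D2.c53
abbrev LD2_c54 := D2.c54
abbrev LD2_c55 := D2.c55
abbrev LD2_c56 := D2.c56
abbrev LD2_c57 := D2.c57
abbrev LD2_c58 := D2.c58
abbrev LD2_c59 := D2.c59
abbrev LD3_c0 := D3.c0
abbrev LD3_c1 := D3.c1
abbrev LD3_c2 := D3.c2
abbrev LD3_c3 := D3.c3
abbrev LD3_c4 := D3.c4
abbrev LD3_c5 := D3.c5
abbrev LD3_c6 := D3.c6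
abbrev LD3_c7 := D3.c7
abbrev LD3_c8 := D3.c8
abbrev LD3_c9 := D3.c9
abbrev LD3_c10 := D3.c10
abbrev LD3_c11 := D3.c11
abbrev LD3_c12 := D3.c12
abbrev LD3_c13 := D3.c13
abbrev LD3_c14 := D3.c14
abbrev LD3_c15 := D3.c15
abbrev LD3_c16 := D3.c16
abbrev LD3_c17 := D3.c17
abbrev LD3_c18 := D3.c18
abbrev LD3_c19 := D3.c19
abbrev LD3_c20 := D3.c20
abbrev LD3_c21 := D3.c21
abbrev LD3_c22 := D3.c22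
abbrev LD3_c23 := D3.c23
abbrev LD3_c24 := D3.c24
abbrev LD3_c25 := D3.c25
abbrev LD3_c26 := D3.c26
abbrev LD3_c27 := D3.c27
abbrev LD3_c28 := D3.c28
abbrev LD3_c29 := D3.c29
abbrev LD3_c30 := D3.c30
abbrev LD3_c31 := D3.c31
abbrev LD3_c32 := D3.c32
abbrev LD3_c33 := D3.c33
abbrev LD3_c34 := D3.c34
abbrev LD3_c35 := D3.c35
abbrev LD3_c36 := D3.c36
abbrev LD3_c37 := D3.c37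
abbrev LD3_c38 := D3.c38
abbrev LD3_c39 := D3.c39
abbrev LD3_c40 := D3.c40
abbrev LD3_c41 := D3.c41
abbrev LD3_c42 := D3.c42
abbrev LD3_c43 := D3.c43
abbrev LD3_c44 := D3.c44
abbrev LD3_c45 := D3.c45
abbrev LD3_c46 := D3.c46
abbrev LD3_c47 := D3.c47
abbrev LD3_c48 := D3.c48
abbrev LD3_c49 := D3.c49
abbrev LD3_c50 := D3.c50
abbrev LD3_c51 := D3.c51
abbrev LD3_c52 := D3.c52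
abbrev LD3_c53 := D3.c53
abbrev LD3_c54 := D3.c54
abbrev LD3_c55 := D3.c55
abbrev LD3_c56 := D3.c56
abbrev LD3_c57 := D3.c57
abbrev LD3_c58 := D3.c58
abbrev LD3_c59 := D3.c59
abbrev LD3_c60 := D3.c60
abbrev LD3_c61 := D3.c61
abbrev LG_g := Gen.g
abbrev Lsl_gt : Gen × Bool := sl_gt
alias Lfl_gt := fl_gt
alias Lpr_gt := pr_gt
abbrev Lsl_gf : Gen × Bool := sl_gf
alias Lfl_gf := fl_gf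
alias Lpr_gf := pr_gf
alias Lre_g := re_g
alias Leoe_g := eoe_g
abbrev LG_a := Gen.a
abbrev Lsl_at : Gen × Bool := sl_at
alias Lfl_at := fl_at
alias Lpr_at := pr_at
abbrev Lsl_af : Gen × Bool := sl_af
alias Lfl_af := fl_af
alias Lpr_af := pr_af
alias Lre_a := re_a
alias Leoe_a := eoe_a
abbrev LG_b := Gen.b
abbrev Lsl_bt : Gen × Bool := sl_bt
alias Lfl_bt := fl_bt
alias Lpr_bt := pr_bt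
abbrev Lsl_bf : Gen × Bool := sl_bf
alias Lfl_bf := fl_bf
alias Lpr_bf := pr_bf
alias Lre_b := re_b
alias Leoe_b := eoe_b
abbrev LG_c := Gen.c
abbrev Lsl_ct : Gen × Bool := sl_ct
alias Lfl_ct := fl_ct
alias Lpr_ct := pr_ct
abbrev Lsl_cf : Gen × Bool := sl_cf
alias Lfl_cf := fl_cf
alias Lpr_cf := pr_cf
alias Lre_c := re_c
alias Leoe_c := eoe_c
abbrev LG_d := Gen.d
abbrev Lsl_dt : Gen × Bool := sl_dt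
alias Lfl_dt := fl_dt
alias Lpr_dt := pr_dt
abbrev Lsl_df : Gen × Bool := sl_df
alias Lfl_df := fl_df
alias Lpr_df := pr_df
alias Lre_d := re_d
alias Leoe_d := eoe_d
abbrev LG_e := Gen.e
abbrev Lsl_et : Gen × Bool := sl_et
alias Lfl_et := fl_et
alias Lpr_et := pr_et
abbrev Lsl_ef : Gen × Bool := sl_ef
alias Lfl_ef := fl_ef
alias Lpr_ef := pr_ef
alias Lre_e := re_e
alias Leoe_e := eoe_e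
abbrev LG_f := Gen.f
abbrev Lsl_ft : Gen × Bool := sl_ft
alias Lfl_ft := fl_ft
alias Lpr_ft := pr_ft
abbrev Lsl_ff : Gen × Bool := sl_ff
alias Lfl_ff := fl_ff
alias Lpr_ff := pr_ff
alias Lre_f := re_f
alias Leoe_f := eoe_f
abbrev LK := Pt.mk
abbrev LQ : Type := Qt rels S
abbrev LP (p : Pt) : LQ := P p
abbrev Led (l : Gen × Bool) (c : LQ) : LQ := ed l c
abbrev LEOK (x : Gen) (p : Pt) : Prop := EntryOK rels S fwd inv o plet idx x p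
alias Lpe := pe
alias Lpn := pn
alias Lgr := gr
alias Lpq := pq
alias Lpqs := pqs
alias Llr := lr
alias Leop := eop
alias Lefun := efun
alias Lecon := econ
theorem Lrfl {α : Sort _} {a : α} : a = a := rfl
alias Lrot0 := rot0
alias Lrot1 := rot1
alias Lrot2 := rot2
alias Lrot3 := rot3
alias Lrot4 := rot4
alias Lrot5 := rot5
alias Lrot7 := rot7
alias Lrot8 := rot8
alias Lrot9 := rot9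
alias Lrot10 := rot10
alias Lrot11 := rot11
alias Lrot12 := rot12
alias Lrot14 := rot14
alias Lrot15 := rot15
alias Lrot17 := rot17
alias Lrot18 := rot18
alias Lrot19 := rot19
alias Lrot20 := rot20
alias Lrot21 := rot21
alias Lrot22 := rot22
alias Lrot23 := rot23
alias Lrot24 := rot24
alias Lrot25 := rot25
alias Lrot26 := rot26
alias Lrot27 := rot27
alias Lrot28 := rot28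
alias Lrot29 := rot29
alias Lrot30 := rot30
alias Lrot31 := rot31
alias Lrot32 := rot32
alias Lrot33 := rot33
alias Lrot34 := rot34
alias Lrot35 := rot35
alias Lrot36 := rot36
alias Lrot37 := rot37
alias Lrot38 := rot38
alias Lrot39 := rot39
alias Lrot40 := rot40
alias Lrot41 := rot41
alias Lrot42 := rot42
alias Lrot43 := rot43
alias Lrot44 := rot44
alias Lrot45 := rot45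
alias Lrot46 := rot46
alias Lrot47 := rot47
alias Lrot48 := rot48
alias Lrot49 := rot49
alias Lrot50 := rot50
alias Lrot51 := rot51
alias Lrot52 := rot52
alias Lrot53 := rot53
alias Lrot54 := rot54
alias Lrot55 := rot55
alias Lrot56 := rot56
alias Lrot57 := rot57
alias Lrot58 := rot58
alias Lrot59 := rot59
alias Lrot60 := rot60
alias Lrot61 := rot61
alias Lrot62 := rot62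
alias Lrot63 := rot63
alias Lrot64 := rot64
alias Lrot65 := rot65
alias Lrot66 := rot66
alias Lrot67 := rot67
alias Lrot68 := rot68
alias Lrot69 := rot69
alias Lrot70 := rot70
alias Lrot71 := rot71
alias Lrot72 := rot72
alias Lrot73 := rot73
alias Lrot74 := rot74
alias Lrot75 := rot75
alias Lrot76 := rot76
alias Lrot77 := rot77
alias Lrot78 := rot78
alias Lrot79 := rot79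
alias Lrot80 := rot80
alias Lrot81 := rot81
alias Lrot82 := rot82
alias Lrot83 := rot83
alias Lrot84 := rot84
alias Lrot85 := rot85
alias Lrot86 := rot86
alias Lrot87 := rot87
alias Lrot88 := rot88
alias Lrot90 := rot90
alias Lrot91 := rot91
alias Lrot92 := rot92
alias Lrot93 := rot93
alias Lrot94 := rot94
alias Lrot95 := rot95
alias Lrot96 := rot96
alias Lrot97 := rot97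
alias Lrot98 := rot98
alias Lrot99 := rot99
alias Lrot100 := rot100
alias Lrot101 := rot101
alias Lrot103 := rot103
alias Lrot104 := rot104
alias Lrot105 := rot105
alias Lrot106 := rot106
alias Lrot107 := rot107
alias Lrot108 := rot108
alias Lrot109 := rot109
alias Lrot110 := rot110
alias Lrot111 := rot111
alias Lrot112 := rot112
alias Lrot113 := rot113
alias Lrot114 := rot114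
alias Lrot116 := rot116
alias Lrot117 := rot117
alias Lrot118 := rot118
alias Lrot119 := rot119
alias Lrot120 := rot120
alias Lrot121 := rot121
alias Lrot122 := rot122
alias Lrot123 := rot123
alias Lrot124 := rot124
alias Lrot125 := rot125
alias Lrot126 := rot126
alias Lrot127 := rot127
alias Lrot128 := rot128
alias Lrot129 := rot129
alias Lrot130 := rot130
alias Lrot131 := rot131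
alias Lrot132 := rot132
alias Lrot133 := rot133
alias Lrot134 := rot134
alias Lrot135 := rot135
alias Lrot136 := rot136
alias Lrot137 := rot137
alias Lrot138 := rot138
alias Lrot139 := rot139
alias Lrot140 := rot140
alias Lrot141 := rot141
alias Lrot142 := rot142
alias Lrot143 := rot143
alias Lrot144 := rot144
alias Lrot145 := rot145
alias Lrot146 := rot146
alias Lrot147 := rot147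
alias Lrot149 := rot149
alias Lrot150 := rot150
alias Lrot152 := rot152
alias Lrot153 := rot153
alias Lrot154 := rot154
alias Lrot155 := rot155
alias Lrot156 := rot156
alias Lrot157 := rot157
alias Lrot158 := rot158
alias Lrot160 := rot160
alias Lrot161 := rot161
alias Lrot162 := rot162
alias Lrot163 := rot163
alias Lrot164 := rot164
alias Lrot165 := rot165
alias Lrot166 := rot166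
alias Lrot167 := rot167
alias Lrot168 := rot168
alias Lrot169 := rot169
alias Lrot170 := rot170
alias Lrot171 := rot171
alias Lrot173 := rot173
alias Lrot174 := rot174
alias Lrot176 := rot176
alias Lrot177 := rot177
alias Lrot179 := rot179
alias Lrot180 := rot180
alias Lrot181 := rot181
alias Lrot182 := rot182
alias Lrot185 := rot185
alias Lrot186 := rot186
alias Lrot187 := rot187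

section
variable (IH : IHT)
include IH

theorem f49562 : Led Lsl_dt (LP (LK LD1_c0 LD2_c57 LD3_c41)) = (LP (LK LD1_c2 LD2_c1 LD3_c14)) :=
  Lre_d IH (LK LD1_c0 LD2_c57 LD3_c41) (LK LD1_c2 LD2_c1 LD3_c14) Lrfl Lrfl
theorem f49563 : Led Lsl_ct (LP (LK LD1_c2 LD2_c1 LD3_c14)) = (LP (LK LD1_c4 LD2_c7 LD3_c45)) :=
  Lre_c IH (LK LD1_c2 LD2_c1 LD3_c14) (LK LD1_c4 LD2_c7 LD3_c45) Lrfl Lrfl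
theorem f49564 : Led Lsl_dt (LP (LK LD1_c4 LD2_c7 LD3_c45)) = (LP (LK LD1_c8 LD2_c15 LD3_c37)) :=
  Lre_d IH (LK LD1_c4 LD2_c7 LD3_c45) (LK LD1_c8 LD2_c15 LD3_c37) Lrfl Lrfl
theorem f49114 : Led Lsl_ct (LP (LK LD1_c4 LD2_c7 LD3_c56)) = (LP (LK LD1_c2 LD2_c1 LD3_c19)) :=
  Lre_c IH (LK LD1_c4 LD2_c7 LD3_c56) (LK LD1_c2 LD2_c1 LD3_c19) Lrfl Lrfl
theorem f49127 : Led Lsl_dt (LP (LK LD1_c8 LD2_c15 LD3_c53)) = (LP (LK LD1_c4 LD2_c7 LD3_c56)) :=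
  Lre_d IH (LK LD1_c8 LD2_c15 LD3_c53) (LK LD1_c4 LD2_c7 LD3_c56) Lrfl Lrfl
theorem f49565 : Led Lsl_ct (LP (LK LD1_c8 LD2_c15 LD3_c37)) = (LP (LK LD1_c8 LD2_c15 LD3_c53)) :=
  Lgr Lrot53 (Lpe (f49564 IH) (Lpe (f49563 IH) (Lpe (f49562 IH) (Lpe (K8.f49561 IH) (Lpe (K8.f49560 IH) (Lpr_ft (K8.f44982 IH) (Lpr_at (K8.f49547 IH) (Lpe (f49114 IH) (Lpe (f49127 IH) (Lpn (LP (LK LD1_c8 LD2_c15 LD3_c53))))))))))))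
theorem f49582 : Led Lsl_ft (LP (LK LD1_c0 LD2_c57 LD3_c41)) = (LP (LK LD1_c0 LD2_c26 LD3_c13)) :=
  Lre_f IH (LK LD1_c0 LD2_c57 LD3_c41) (LK LD1_c0 LD2_c26 LD3_c13) Lrfl Lrfl
theorem f49117 : Led Lsl_dt (LP (LK LD1_c2 LD2_c1 LD3_c19)) = (LP (LK LD1_c0 LD2_c57 LD3_c43)) :=
  Lre_d IH (LK LD1_c2 LD2_c1 LD3_c19) (LK LD1_c0 LD2_c57 LD3_c43) Lrfl Lrfl
theorem f49118 : Led Lsl_ct (LP (LK LD1_c0 LD2_c57 LD3_c43)) = (LP (LK LD1_c0 LD2_c26 LD3_c16)) :=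
  Lre_c IH (LK LD1_c0 LD2_c57 LD3_c43) (LK LD1_c0 LD2_c26 LD3_c16) Lrfl Lrfl
theorem f49583 : Led Lsl_at (LP (LK LD1_c0 LD2_c26 LD3_c13)) = (LP (LK LD1_c0 LD2_c26 LD3_c16)) :=
  Lgr Lrot33 (Lpe (f49582 IH) (Lpr_dt (f49562 IH) (Lpr_ct (f49563 IH) (Lpr_dt (f49564 IH) (Lpr_ct (f49565 IH) (Lpr_dt (f49127 IH) (Lpr_ct (f49114 IH) (Lpr_dt (f49117 IH) (Lpr_ct (f49118 IH) (Lpn (LP (LK LD1_c0 LD2_c26 LD3_c16))))))))))))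
theorem f49599 : Led Lsl_ft (LP (LK LD1_c0 LD2_c26 LD3_c16)) = (LP (LK LD1_c0 LD2_c57 LD3_c46)) :=
  Lre_f IH (LK LD1_c0 LD2_c26 LD3_c16) (LK LD1_c0 LD2_c57 LD3_c46) Lrfl Lrfl
theorem f49600 : Led Lsl_af (LP (LK LD1_c0 LD2_c57 LD3_c41)) = (LP (LK LD1_c0 LD2_c57 LD3_c46)) :=
  Lgr Lrot45 (Lpr_ft (f49582 IH) (Lpr_at (f49583 IH) (Lpr_ft (f49599 IH) (Lpn (LP (LK LD1_c0 LD2_c57 LD3_c46))))))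
theorem f49615 : Led Lsl_dt (LP (LK LD1_c2 LD2_c1 LD3_c25)) = (LP (LK LD1_c0 LD2_c57 LD3_c46)) :=
  Lre_d IH (LK LD1_c2 LD2_c1 LD3_c25) (LK LD1_c0 LD2_c57 LD3_c46) Lrfl Lrfl
theorem f49616 : Led Lsl_at (LP (LK LD1_c2 LD2_c1 LD3_c14)) = (LP (LK LD1_c2 LD2_c1 LD3_c25)) :=
  Lgr Lrot51 (Lpe (f49562 IH) (Lpr_af (f49600 IH) (Lpe (f49615 IH) (Lpn (LP (LK LD1_c2 LD2_c1 LD3_c25))))))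
theorem f49629 : Led Lsl_ft (LP (LK LD1_c0 LD2_c57 LD3_c40)) = (LP (LK LD1_c2 LD2_c1 LD3_c14)) :=
  Lre_f IH (LK LD1_c0 LD2_c57 LD3_c40) (LK LD1_c2 LD2_c1 LD3_c14) Lrfl Lrfl
theorem f49593 : Led Lsl_dt (LP (LK LD1_c0 LD2_c57 LD3_c40)) = (LP (LK LD1_c0 LD2_c26 LD3_c13)) :=
  Lre_d IH (LK LD1_c0 LD2_c57 LD3_c40) (LK LD1_c0 LD2_c26 LD3_c13) Lrfl Lrfl
theorem f49633 : Led Lsl_ct (LP (LK LD1_c0 LD2_c26 LD3_c13)) = (LP (LK LD1_c0 LD2_c57 LD3_c38)) :=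
  Lre_c IH (LK LD1_c0 LD2_c26 LD3_c13) (LK LD1_c0 LD2_c57 LD3_c38) Lrfl Lrfl
theorem f45005 : Led Lsl_ct (LP (LK LD1_c2 LD2_c1 LD3_c8)) = (LP (LK LD1_c4 LD2_c7 LD3_c35)) :=
  Lre_c IH (LK LD1_c2 LD2_c1 LD3_c8) (LK LD1_c4 LD2_c7 LD3_c35) Lrfl Lrfl
theorem f45027 : Led Lsl_dt (LP (LK LD1_c4 LD2_c7 LD3_c35)) = (LP (LK LD1_c8 LD2_c15 LD3_c9)) :=
  Lre_d IH (LK LD1_c4 LD2_c7 LD3_c35) (LK LD1_c8 LD2_c15 LD3_c9) Lrfl Lrfl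
theorem f49634 : Led Lsl_ct (LP (LK LD1_c4 LD2_c8 LD3_c6)) = (LP (LK LD1_c2 LD2_c1 LD3_c25)) :=
  Lre_c IH (LK LD1_c4 LD2_c8 LD3_c6) (LK LD1_c2 LD2_c1 LD3_c25) Lrfl Lrfl
theorem f49635 : Led Lsl_dt (LP (LK LD1_c8 LD2_c16 LD3_c20)) = (LP (LK LD1_c4 LD2_c8 LD3_c6)) :=
  Lre_d IH (LK LD1_c8 LD2_c16 LD3_c20) (LK LD1_c4 LD2_c8 LD3_c6) Lrfl Lrfl
theorem f49636 : Led Lsl_ct (LP (LK LD1_c8 LD2_c15 LD3_c9)) = (LP (LK LD1_c8 LD2_c16 LD3_c20)) :=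
  Lgr Lrot53 (Lpe (f45027 IH) (Lpe (f45005 IH) (Lpe (K8.f44966 IH) (Lpe (f49633 IH) (Lpe (f49593 IH) (Lpr_ft (f49629 IH) (Lpr_at (f49616 IH) (Lpe (f49634 IH) (Lpe (f49635 IH) (Lpn (LP (LK LD1_c8 LD2_c16 LD3_c20))))))))))))
theorem f49646 : Led Lsl_ct (LP (LK LD1_c2 LD2_c1 LD3_c13)) = (LP (LK LD1_c0 LD2_c57 LD3_c40)) :=
  Lre_c IH (LK LD1_c2 LD2_c1 LD3_c13) (LK LD1_c0 LD2_c57 LD3_c40) Lrfl Lrfl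
theorem f49647 : Led Lsl_dt (LP (LK LD1_c4 LD2_c7 LD3_c44)) = (LP (LK LD1_c2 LD2_c1 LD3_c13)) :=
  Lre_d IH (LK LD1_c4 LD2_c7 LD3_c44) (LK LD1_c2 LD2_c1 LD3_c13) Lrfl Lrfl
theorem f49575 : Led Lsl_ft (LP (LK LD1_c4 LD2_c7 LD3_c44)) = (LP (LK LD1_c8 LD2_c15 LD3_c37)) :=
  Lre_f IH (LK LD1_c4 LD2_c7 LD3_c44) (LK LD1_c8 LD2_c15 LD3_c37) Lrfl Lrfl
theorem f49659 : Led Lsl_at (LP (LK LD1_c8 LD2_c15 LD3_c37)) = (LP (LK LD1_c8 LD2_c16 LD3_c20)) :=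
  Lgr Lrot33 (Lpe (f49575 IH) (Lpr_dt (f49647 IH) (Lpr_ct (f49646 IH) (Lpr_dt (f49593 IH) (Lpr_ct (f49633 IH) (Lpr_dt (K8.f44966 IH) (Lpr_ct (f45005 IH) (Lpr_dt (f45027 IH) (Lpr_ct (f49636 IH) (Lpn (LP (LK LD1_c8 LD2_c16 LD3_c20))))))))))))
theorem f49656 : Led Lsl_ft (LP (LK LD1_c8 LD2_c16 LD3_c20)) = (LP (LK LD1_c4 LD2_c8 LD3_c5)) :=
  Lre_f IH (LK LD1_c8 LD2_c16 LD3_c20) (LK LD1_c4 LD2_c8 LD3_c5) Lrfl Lrfl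
theorem f49671 : Led Lsl_af (LP (LK LD1_c4 LD2_c7 LD3_c44)) = (LP (LK LD1_c4 LD2_c8 LD3_c5)) :=
  Lgr Lrot45 (Lpr_ft (f49575 IH) (Lpr_at (f49659 IH) (Lpr_ft (f49656 IH) (Lpn (LP (LK LD1_c4 LD2_c8 LD3_c5))))))
theorem f49690 : Led Lsl_et (LP (LK LD1_c4 LD2_c7 LD3_c44)) = (LP (LK LD1_c8 LD2_c15 LD3_c36)) :=
  Lre_e IH (LK LD1_c4 LD2_c7 LD3_c44) (LK LD1_c8 LD2_c15 LD3_c36) Lrfl Lrfl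
theorem f49341 : Led Lsl_et (LP (LK LD1_c8 LD2_c16 LD3_c19)) = (LP (LK LD1_c4 LD2_c8 LD3_c5)) :=
  Lre_e IH (LK LD1_c8 LD2_c16 LD3_c19) (LK LD1_c4 LD2_c8 LD3_c5) Lrfl Lrfl
theorem f49691 : Led Lsl_at (LP (LK LD1_c8 LD2_c15 LD3_c36)) = (LP (LK LD1_c8 LD2_c16 LD3_c19)) :=
  Lgr Lrot80 (Lpe (f49690 IH) (Lpr_af (f49671 IH) (Lpe (f49341 IH) (Lpn (LP (LK LD1_c8 LD2_c16 LD3_c19))))))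
theorem f49705 : Led Lsl_ft (LP (LK LD1_c15 LD2_c31 LD3_c59)) = (LP (LK LD1_c8 LD2_c15 LD3_c36)) :=
  Lre_f IH (LK LD1_c15 LD2_c31 LD3_c59) (LK LD1_c8 LD2_c15 LD3_c36) Lrfl Lrfl
theorem f49359 : Led Lsl_ft (LP (LK LD1_c8 LD2_c16 LD3_c19)) = (LP (LK LD1_c15 LD2_c33 LD3_c12)) :=
  Lre_f IH (LK LD1_c8 LD2_c16 LD3_c19) (LK LD1_c15 LD2_c33 LD3_c12) Lrfl Lrfl
theorem f49706 : Led Lsl_af (LP (LK LD1_c15 LD2_c31 LD3_c59)) = (LP (LK LD1_c15 LD2_c33 LD3_c12)) :=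
  Lgr Lrot45 (Lpr_ft (f49705 IH) (Lpr_at (f49691 IH) (Lpr_ft (f49359 IH) (Lpn (LP (LK LD1_c15 LD2_c33 LD3_c12))))))
theorem f49717 : Led Lsl_et (LP (LK LD1_c15 LD2_c31 LD3_c59)) = (LP (LK LD1_c25 LD2_c25 LD3_c13)) :=
  Lre_e IH (LK LD1_c15 LD2_c31 LD3_c59) (LK LD1_c25 LD2_c25 LD3_c13) Lrfl Lrfl
theorem f49382 : Led Lsl_et (LP (LK LD1_c25 LD2_c26 LD3_c49)) = (LP (LK LD1_c15 LD2_c33 LD3_c12)) :=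
  Lre_e IH (LK LD1_c25 LD2_c26 LD3_c49) (LK LD1_c15 LD2_c33 LD3_c12) Lrfl Lrfl
theorem f49718 : Led Lsl_at (LP (LK LD1_c25 LD2_c25 LD3_c13)) = (LP (LK LD1_c25 LD2_c26 LD3_c49)) :=
  Lgr Lrot80 (Lpe (f49717 IH) (Lpr_af (f49706 IH) (Lpe (f49382 IH) (Lpn (LP (LK LD1_c25 LD2_c26 LD3_c49))))))
theorem f49722 : Led Lsl_af (LP (LK LD1_c25 LD2_c25 LD3_c13)) = (LP (LK LD1_c25 LD2_c26 LD3_c49)) :=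
  Lgr Lrot0 (Lpr_at (f49718 IH) (Lpn (LP (LK LD1_c25 LD2_c26 LD3_c49))))
theorem f49730 : Led Lsl_ft (LP (LK LD1_c25 LD2_c25 LD3_c13)) = (LP (LK LD1_c15 LD2_c31 LD3_c60)) :=
  Lre_f IH (LK LD1_c25 LD2_c25 LD3_c13) (LK LD1_c15 LD2_c31 LD3_c60) Lrfl Lrfl
theorem f49731 : Led Lsl_ft (LP (LK LD1_c15 LD2_c33 LD3_c13)) = (LP (LK LD1_c25 LD2_c26 LD3_c49)) :=
  Lre_f IH (LK LD1_c15 LD2_c33 LD3_c13) (LK LD1_c25 LD2_c26 LD3_c49) Lrfl Lrfl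
theorem f49732 : Led Lsl_at (LP (LK LD1_c15 LD2_c31 LD3_c60)) = (LP (LK LD1_c15 LD2_c33 LD3_c13)) :=
  Lgr Lrot66 (Lpe (f49730 IH) (Lpr_af (f49722 IH) (Lpe (f49731 IH) (Lpn (LP (LK LD1_c15 LD2_c33 LD3_c13))))))
theorem f49738 : Led Lsl_dt (LP (LK LD1_c25 LD2_c25 LD3_c16)) = (LP (LK LD1_c15 LD2_c31 LD3_c60)) :=
  Lre_d IH (LK LD1_c25 LD2_c25 LD3_c16) (LK LD1_c15 LD2_c31 LD3_c60) Lrfl Lrfl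
theorem f49681 : Led Lsl_dt (LP (LK LD1_c15 LD2_c33 LD3_c13)) = (LP (LK LD1_c25 LD2_c26 LD3_c50)) :=
  Lre_d IH (LK LD1_c15 LD2_c33 LD3_c13) (LK LD1_c25 LD2_c26 LD3_c50) Lrfl Lrfl
theorem f49739 : Led Lsl_af (LP (LK LD1_c25 LD2_c25 LD3_c16)) = (LP (LK LD1_c25 LD2_c26 LD3_c50)) :=
  Lgr Lrot117 (Lpr_dt (f49738 IH) (Lpr_at (f49732 IH) (Lpr_dt (f49681 IH) (Lpn (LP (LK LD1_c25 LD2_c26 LD3_c50))))))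
theorem f49744 : Led Lsl_et (LP (LK LD1_c25 LD2_c25 LD3_c16)) = (LP (LK LD1_c15 LD2_c31 LD3_c61)) :=
  Lre_e IH (LK LD1_c25 LD2_c25 LD3_c16) (LK LD1_c15 LD2_c31 LD3_c61) Lrfl Lrfl
theorem f49745 : Led Lsl_et (LP (LK LD1_c15 LD2_c33 LD3_c14)) = (LP (LK LD1_c25 LD2_c26 LD3_c50)) :=
  Lre_e IH (LK LD1_c15 LD2_c33 LD3_c14) (LK LD1_c25 LD2_c26 LD3_c50) Lrfl Lrfl
theorem f49746 : Led Lsl_at (LP (LK LD1_c15 LD2_c31 LD3_c61)) = (LP (LK LD1_c15 LD2_c33 LD3_c14)) :=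
  Lgr Lrot80 (Lpe (f49744 IH) (Lpr_af (f49739 IH) (Lpe (f49745 IH) (Lpn (LP (LK LD1_c15 LD2_c33 LD3_c14))))))
theorem f49756 : Led Lsl_dt (LP (LK LD1_c8 LD2_c15 LD3_c38)) = (LP (LK LD1_c15 LD2_c31 LD3_c61)) :=
  Lre_d IH (LK LD1_c8 LD2_c15 LD3_c38) (LK LD1_c15 LD2_c31 LD3_c61) Lrfl Lrfl
theorem f49757 : Led Lsl_dt (LP (LK LD1_c15 LD2_c33 LD3_c14)) = (LP (LK LD1_c8 LD2_c16 LD3_c21)) :=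
  Lre_d IH (LK LD1_c15 LD2_c33 LD3_c14) (LK LD1_c8 LD2_c16 LD3_c21) Lrfl Lrfl
theorem f49758 : Led Lsl_af (LP (LK LD1_c8 LD2_c15 LD3_c38)) = (LP (LK LD1_c8 LD2_c16 LD3_c21)) :=
  Lgr Lrot117 (Lpr_dt (f49756 IH) (Lpr_at (f49746 IH) (Lpr_dt (f49757 IH) (Lpn (LP (LK LD1_c8 LD2_c16 LD3_c21))))))
theorem f49773 : Led Lsl_et (LP (LK LD1_c8 LD2_c15 LD3_c38)) = (LP (LK LD1_c4 LD2_c7 LD3_c45)) :=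
  Lre_e IH (LK LD1_c8 LD2_c15 LD3_c38) (LK LD1_c4 LD2_c7 LD3_c45) Lrfl Lrfl
theorem f49325 : Led Lsl_et (LP (LK LD1_c4 LD2_c8 LD3_c6)) = (LP (LK LD1_c8 LD2_c16 LD3_c21)) :=
  Lre_e IH (LK LD1_c4 LD2_c8 LD3_c6) (LK LD1_c8 LD2_c16 LD3_c21) Lrfl Lrfl
theorem f49774 : Led Lsl_at (LP (LK LD1_c4 LD2_c7 LD3_c45)) = (LP (LK LD1_c4 LD2_c8 LD3_c6)) :=
  Lgr Lrot80 (Lpe (f49773 IH) (Lpr_af (f49758 IH) (Lpe (f49325 IH) (Lpn (LP (LK LD1_c4 LD2_c8 LD3_c6))))))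
theorem f49784 : Led Lsl_ft (LP (LK LD1_c2 LD2_c1 LD3_c13)) = (LP (LK LD1_c4 LD2_c7 LD3_c45)) :=
  Lre_f IH (LK LD1_c2 LD2_c1 LD3_c13) (LK LD1_c4 LD2_c7 LD3_c45) Lrfl Lrfl
theorem f49790 : Led Lsl_dt (LP (LK LD1_c2 LD2_c1 LD3_c13)) = (LP (LK LD1_c4 LD2_c7 LD3_c44)) :=
  Lre_d IH (LK LD1_c2 LD2_c1 LD3_c13) (LK LD1_c4 LD2_c7 LD3_c44) Lrfl Lrfl
theorem f49686 : Led Lsl_ct (LP (LK LD1_c4 LD2_c7 LD3_c44)) = (LP (LK LD1_c8 LD2_c15 LD3_c35)) :=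
  Lre_c IH (LK LD1_c4 LD2_c7 LD3_c44) (LK LD1_c8 LD2_c15 LD3_c35) Lrfl Lrfl
theorem f49622 : Led Lsl_ct (LP (LK LD1_c2 LD2_c1 LD3_c25)) = (LP (LK LD1_c4 LD2_c8 LD3_c6)) :=
  Lre_c IH (LK LD1_c2 LD2_c1 LD3_c25) (LK LD1_c4 LD2_c8 LD3_c6) Lrfl Lrfl
theorem f49676 : Led Lsl_dt (LP (LK LD1_c0 LD2_c57 LD3_c46)) = (LP (LK LD1_c2 LD2_c1 LD3_c25)) :=
  Lre_d IH (LK LD1_c0 LD2_c57 LD3_c46) (LK LD1_c2 LD2_c1 LD3_c25) Lrfl Lrfl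
theorem f49612 : Led Lsl_ct (LP (LK LD1_c2 LD2_c1 LD3_c20)) = (LP (LK LD1_c0 LD2_c57 LD3_c46)) :=
  Lre_c IH (LK LD1_c2 LD2_c1 LD3_c20) (LK LD1_c0 LD2_c57 LD3_c46) Lrfl Lrfl
theorem f49791 : Led Lsl_dt (LP (LK LD1_c4 LD2_c7 LD3_c57)) = (LP (LK LD1_c2 LD2_c1 LD3_c20)) :=
  Lre_d IH (LK LD1_c4 LD2_c7 LD3_c57) (LK LD1_c2 LD2_c1 LD3_c20) Lrfl Lrfl
theorem f49792 : Led Lsl_ct (LP (LK LD1_c8 LD2_c15 LD3_c54)) = (LP (LK LD1_c4 LD2_c7 LD3_c57)) :=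
  Lre_c IH (LK LD1_c8 LD2_c15 LD3_c54) (LK LD1_c4 LD2_c7 LD3_c57) Lrfl Lrfl
theorem f49793 : Led Lsl_dt (LP (LK LD1_c8 LD2_c15 LD3_c35)) = (LP (LK LD1_c8 LD2_c15 LD3_c54)) :=
  Lgr Lrot32 (Lpe (f49686 IH) (Lpe (f49790 IH) (Lpr_ft (f49784 IH) (Lpr_at (f49774 IH) (Lpe (f49622 IH) (Lpe (f49676 IH) (Lpe (f49612 IH) (Lpe (f49791 IH) (Lpe (f49792 IH) (Lpn (LP (LK LD1_c8 LD2_c15 LD3_c54))))))))))))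
theorem f49799 : Led Lsl_ct (LP (LK LD1_c0 LD2_c57 LD3_c40)) = (LP (LK LD1_c2 LD2_c1 LD3_c13)) :=
  Lre_c IH (LK LD1_c0 LD2_c57 LD3_c40) (LK LD1_c2 LD2_c1 LD3_c13) Lrfl Lrfl
theorem f49800 : Led Lsl_dt (LP (LK LD1_c0 LD2_c26 LD3_c13)) = (LP (LK LD1_c0 LD2_c57 LD3_c40)) :=
  Lre_d IH (LK LD1_c0 LD2_c26 LD3_c13) (LK LD1_c0 LD2_c57 LD3_c40) Lrfl Lrfl
theorem f49592 : Led Lsl_ct (LP (LK LD1_c0 LD2_c57 LD3_c38)) = (LP (LK LD1_c0 LD2_c26 LD3_c13)) :=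
  Lre_c IH (LK LD1_c0 LD2_c57 LD3_c38) (LK LD1_c0 LD2_c26 LD3_c13) Lrfl Lrfl
theorem f44988 : Led Lsl_dt (LP (LK LD1_c2 LD2_c1 LD3_c8)) = (LP (LK LD1_c0 LD2_c57 LD3_c38)) :=
  Lre_d IH (LK LD1_c2 LD2_c1 LD3_c8) (LK LD1_c0 LD2_c57 LD3_c38) Lrfl Lrfl
theorem f45001 : Led Lsl_ft (LP (LK LD1_c2 LD2_c1 LD3_c8)) = (LP (LK LD1_c4 LD2_c7 LD3_c36)) :=
  Lre_f IH (LK LD1_c2 LD2_c1 LD3_c8) (LK LD1_c4 LD2_c7 LD3_c36) Lrfl Lrfl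
theorem f49809 : Led Lsl_at (LP (LK LD1_c4 LD2_c7 LD3_c36)) = (LP (LK LD1_c4 LD2_c7 LD3_c57)) :=
  Lgr Lrot33 (Lpe (f45001 IH) (Lpr_dt (f44988 IH) (Lpr_ct (f49592 IH) (Lpr_dt (f49800 IH) (Lpr_ct (f49799 IH) (Lpr_dt (f49790 IH) (Lpr_ct (f49686 IH) (Lpr_dt (f49793 IH) (Lpr_ct (f49792 IH) (Lpn (LP (LK LD1_c4 LD2_c7 LD3_c57))))))))))))
theorem f44983 : Led Lsl_et (LP (LK LD1_c8 LD2_c15 LD3_c10)) = (LP (LK LD1_c4 LD2_c7 LD3_c36)) :=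
  Lre_e IH (LK LD1_c8 LD2_c15 LD3_c10) (LK LD1_c4 LD2_c7 LD3_c36) Lrfl Lrfl
theorem f49816 : Led Lsl_et (LP (LK LD1_c4 LD2_c7 LD3_c57)) = (LP (LK LD1_c8 LD2_c15 LD3_c55)) :=
  Lre_e IH (LK LD1_c4 LD2_c7 LD3_c57) (LK LD1_c8 LD2_c15 LD3_c55) Lrfl Lrfl
theorem f49817 : Led Lsl_af (LP (LK LD1_c8 LD2_c15 LD3_c10)) = (LP (LK LD1_c8 LD2_c15 LD3_c55)) :=
  Lgr Lrot50 (Lpr_et (f44983 IH) (Lpr_at (f49809 IH) (Lpr_et (f49816 IH) (Lpn (LP (LK LD1_c8 LD2_c15 LD3_c55))))))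
theorem f44984 : Led Lsl_ft (LP (LK LD1_c2 LD2_c4 LD3_c10)) = (LP (LK LD1_c4 LD2_c13 LD3_c41)) :=
  Lre_f IH (LK LD1_c2 LD2_c4 LD3_c10) (LK LD1_c4 LD2_c13 LD3_c41) Lrfl Lrfl
theorem f44985 : Led Lsl_et (LP (LK LD1_c4 LD2_c13 LD3_c41)) = (LP (LK LD1_c8 LD2_c26 LD3_c14)) :=
  Lre_e IH (LK LD1_c4 LD2_c13 LD3_c41) (LK LD1_c8 LD2_c26 LD3_c14) Lrfl Lrfl
theorem f44986 : Led Lsl_ff (LP (LK LD1_c8 LD2_c15 LD3_c10)) = (LP (LK LD1_c8 LD2_c26 LD3_c14)) :=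
  Lgr Lrot72 (Lpr_et (f44983 IH) (Lpr_ft (K8.f44982 IH) (Lpr_et (K8.f44968 IH) (Lpr_ft (f44984 IH) (Lpr_et (f44985 IH) (Lpn (LP (LK LD1_c8 LD2_c26 LD3_c14))))))))
theorem f44998 : Led Lsl_ft (LP (LK LD1_c8 LD2_c15 LD3_c10)) = (LP (LK LD1_c8 LD2_c26 LD3_c14)) :=
  Lgr Lrot48 (Lpr_ff (f44986 IH) (Lpn (LP (LK LD1_c8 LD2_c26 LD3_c14))))
theorem f49433 : Led Lsl_ft (LP (LK LD1_c2 LD2_c4 LD3_c11)) = (LP (LK LD1_c0 LD2_c59 LD3_c7)) :=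
  Lre_f IH (LK LD1_c2 LD2_c4 LD3_c11) (LK LD1_c0 LD2_c59 LD3_c7) Lrfl Lrfl
theorem f49434 : Led Lsl_ft (LP (LK LD1_c0 LD2_c59 LD3_c9)) = (LP (LK LD1_c2 LD2_c4 LD3_c15)) :=
  Lre_f IH (LK LD1_c0 LD2_c59 LD3_c9) (LK LD1_c2 LD2_c4 LD3_c15) Lrfl Lrfl
theorem f49435 : Led Lsl_af (LP (LK LD1_c2 LD2_c4 LD3_c11)) = (LP (LK LD1_c2 LD2_c4 LD3_c15)) :=
  Lgr Lrot45 (Lpr_ft (f49433 IH) (Lpr_at (K8.f49425 IH) (Lpr_ft (f49434 IH) (Lpn (LP (LK LD1_c2 LD2_c4 LD3_c15))))))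
theorem f49439 : Led Lsl_dt (LP (LK LD1_c2 LD2_c4 LD3_c11)) = (LP (LK LD1_c4 LD2_c13 LD3_c41)) :=
  Lre_d IH (LK LD1_c2 LD2_c4 LD3_c11) (LK LD1_c4 LD2_c13 LD3_c41) Lrfl Lrfl
theorem f49448 : Led Lsl_dt (LP (LK LD1_c4 LD2_c13 LD3_c48)) = (LP (LK LD1_c2 LD2_c4 LD3_c15)) :=
  Lre_d IH (LK LD1_c4 LD2_c13 LD3_c48) (LK LD1_c2 LD2_c4 LD3_c15) Lrfl Lrfl
theorem f49449 : Led Lsl_at (LP (LK LD1_c4 LD2_c13 LD3_c41)) = (LP (LK LD1_c4 LD2_c13 LD3_c48)) :=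
  Lgr Lrot51 (Lpe (f49439 IH) (Lpr_af (f49435 IH) (Lpe (f49448 IH) (Lpn (LP (LK LD1_c4 LD2_c13 LD3_c48))))))
theorem f45003 : Led Lsl_et (LP (LK LD1_c8 LD2_c26 LD3_c14)) = (LP (LK LD1_c4 LD2_c13 LD3_c41)) :=
  Lre_e IH (LK LD1_c8 LD2_c26 LD3_c14) (LK LD1_c4 LD2_c13 LD3_c41) Lrfl Lrfl
theorem f49456 : Led Lsl_et (LP (LK LD1_c4 LD2_c13 LD3_c48)) = (LP (LK LD1_c8 LD2_c26 LD3_c21)) :=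
  Lre_e IH (LK LD1_c4 LD2_c13 LD3_c48) (LK LD1_c8 LD2_c26 LD3_c21) Lrfl Lrfl
theorem f49457 : Led Lsl_af (LP (LK LD1_c8 LD2_c26 LD3_c14)) = (LP (LK LD1_c8 LD2_c26 LD3_c21)) :=
  Lgr Lrot50 (Lpr_et (f45003 IH) (Lpr_at (f49449 IH) (Lpr_et (f49456 IH) (Lpn (LP (LK LD1_c8 LD2_c26 LD3_c21))))))
theorem f49466 : Led Lsl_at (LP (LK LD1_c8 LD2_c26 LD3_c14)) = (LP (LK LD1_c8 LD2_c26 LD3_c21)) :=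
  Lgr Lrot100 (Lpr_af (f49457 IH) (Lpn (LP (LK LD1_c8 LD2_c26 LD3_c21))))
theorem f49828 : Led Lsl_ft (LP (LK LD1_c8 LD2_c26 LD3_c21)) = (LP (LK LD1_c8 LD2_c15 LD3_c55)) :=
  Lgr Lrot101 (Lpe (f49466 IH) (Lpe (f44998 IH) (Lpr_af (f49817 IH) (Lpn (LP (LK LD1_c8 LD2_c15 LD3_c55))))))
theorem f49831 : Led Lsl_ff (LP (LK LD1_c8 LD2_c26 LD3_c21)) = (LP (LK LD1_c8 LD2_c15 LD3_c55)) :=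
  Lgr Lrot3 (Lpr_ft (f49828 IH) (Lpn (LP (LK LD1_c8 LD2_c15 LD3_c55))))
theorem f49465 : Led Lsl_et (LP (LK LD1_c8 LD2_c26 LD3_c21)) = (LP (LK LD1_c4 LD2_c13 LD3_c48)) :=
  Lre_e IH (LK LD1_c8 LD2_c26 LD3_c21) (LK LD1_c4 LD2_c13 LD3_c48) Lrfl Lrfl
theorem f49459 : Led Lsl_ft (LP (LK LD1_c4 LD2_c13 LD3_c48)) = (LP (LK LD1_c2 LD2_c4 LD3_c14)) :=
  Lre_f IH (LK LD1_c4 LD2_c13 LD3_c48) (LK LD1_c2 LD2_c4 LD3_c14) Lrfl Lrfl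
theorem f49555 : Led Lsl_ft (LP (LK LD1_c2 LD2_c1 LD3_c19)) = (LP (LK LD1_c4 LD2_c7 LD3_c57)) :=
  Lre_f IH (LK LD1_c2 LD2_c1 LD3_c19) (LK LD1_c4 LD2_c7 LD3_c57) Lrfl Lrfl
theorem f49833 : Led Lsl_et (LP (LK LD1_c2 LD2_c4 LD3_c14)) = (LP (LK LD1_c2 LD2_c1 LD3_c19)) :=
  Lgr Lrot69 (Lpe (f49459 IH) (Lpe (f49465 IH) (Lpr_ff (f49831 IH) (Lpe (f49816 IH) (Lpe (f49555 IH) (Lpn (LP (LK LD1_c2 LD2_c1 LD3_c19))))))))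
theorem f49546 : Led Lsl_bt (LP (LK LD1_c4 LD2_c13 LD3_c42)) = (LP (LK LD1_c2 LD2_c4 LD3_c14)) :=
  Lre_b IH (LK LD1_c4 LD2_c13 LD3_c42) (LK LD1_c2 LD2_c4 LD3_c14) Lrfl Lrfl
theorem f44517 : Led Lsl_et (LP (LK LD1_c2 LD2_c4 LD3_c12)) = (LP (LK LD1_c0 LD2_c59 LD3_c8)) :=
  Lre_e IH (LK LD1_c2 LD2_c4 LD3_c12) (LK LD1_c0 LD2_c59 LD3_c8) Lrfl Lrfl
theorem f44570 : Led Lsl_dt (LP (LK LD1_c4 LD2_c13 LD3_c42)) = (LP (LK LD1_c2 LD2_c4 LD3_c12)) :=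
  Lre_d IH (LK LD1_c4 LD2_c13 LD3_c42) (LK LD1_c2 LD2_c4 LD3_c12) Lrfl Lrfl
theorem f43392 : Led Lsl_et (LP (LK LD1_c0 LD2_c32 LD3_c15)) = (LP (LK LD1_c1 LD2_c9 LD3_c41)) :=
  Lre_e IH (LK LD1_c0 LD2_c32 LD3_c15) (LK LD1_c1 LD2_c9 LD3_c41) Lrfl Lrfl
theorem f43548 : Led Lsl_dt (LP (LK LD1_c1 LD2_c9 LD3_c41)) = (LP (LK LD1_c2 LD2_c24 LD3_c56)) :=
  Lre_d IH (LK LD1_c1 LD2_c9 LD3_c41) (LK LD1_c2 LD2_c24 LD3_c56) Lrfl Lrfl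
theorem f44571 : Led Lsl_ef (LP (LK LD1_c4 LD2_c13 LD3_c42)) = (LP (LK LD1_c2 LD2_c24 LD3_c56)) :=
  Lgr Lrot73 (Lpr_dt (f44570 IH) (Lpr_et (f44517 IH) (Lpr_dt (K1.f44568 IH) (Lpr_et (f43392 IH) (Lpr_dt (f43548 IH) (Lpn (LP (LK LD1_c2 LD2_c24 LD3_c56))))))))
theorem f49835 : Led Lsl_bf (LP (LK LD1_c2 LD2_c24 LD3_c56)) = (LP (LK LD1_c2 LD2_c1 LD3_c19)) :=
  Lgr Lrot96 (Lpe (f44571 IH) (Lpr_bt (f49546 IH) (Lpr_et (f49833 IH) (Lpn (LP (LK LD1_c2 LD2_c1 LD3_c19))))))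
theorem f43809 : Led Lsl_ft (LP (LK LD1_c2 LD2_c24 LD3_c56)) = (LP (LK LD1_c4 LD2_c54 LD3_c4)) :=
  Lre_f IH (LK LD1_c2 LD2_c24 LD3_c56) (LK LD1_c4 LD2_c54 LD3_c4) Lrfl Lrfl
theorem f49819 : Led Lsl_ft (LP (LK LD1_c4 LD2_c7 LD3_c57)) = (LP (LK LD1_c2 LD2_c1 LD3_c19)) :=
  Lre_f IH (LK LD1_c4 LD2_c7 LD3_c57) (LK LD1_c2 LD2_c1 LD3_c19) Lrfl Lrfl
theorem f50027 : Led Lsl_bt (LP (LK LD1_c4 LD2_c54 LD3_c4)) = (LP (LK LD1_c4 LD2_c7 LD3_c57)) :=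
  Lgr Lrot35 (Lpe (f43809 IH) (Lpr_bf (f49835 IH) (Lpe (f49819 IH) (Lpn (LP (LK LD1_c4 LD2_c7 LD3_c57))))))
theorem f43386 : Led Lsl_et (LP (LK LD1_c9 LD2_c39 LD3_c34)) = (LP (LK LD1_c4 LD2_c54 LD3_c4)) :=
  Lre_e IH (LK LD1_c9 LD2_c39 LD3_c34) (LK LD1_c4 LD2_c54 LD3_c4) Lrfl Lrfl
theorem f50033 : Led Lsl_bf (LP (LK LD1_c9 LD2_c39 LD3_c34)) = (LP (LK LD1_c8 LD2_c15 LD3_c55)) :=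
  Lgr Lrot96 (Lpr_et (f43386 IH) (Lpr_bt (f50027 IH) (Lpr_et (f49816 IH) (Lpn (LP (LK LD1_c8 LD2_c15 LD3_c55))))))
theorem f49468 : Led Lsl_bt (LP (LK LD1_c15 LD2_c50 LD3_c51)) = (LP (LK LD1_c8 LD2_c26 LD3_c21)) :=
  Lre_b IH (LK LD1_c15 LD2_c50 LD3_c51) (LK LD1_c8 LD2_c26 LD3_c21) Lrfl Lrfl
theorem f50039 : Led Lsl_ft (LP (LK LD1_c9 LD2_c39 LD3_c34)) = (LP (LK LD1_c15 LD2_c50 LD3_c51)) :=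
  Lgr Lrot75 (Lpr_bf (f50033 IH) (Lpe (f49828 IH) (Lpe (f49468 IH) (Lpn (LP (LK LD1_c15 LD2_c50 LD3_c51))))))
theorem f50048 : Led Lsl_ff (LP (LK LD1_c9 LD2_c39 LD3_c34)) = (LP (LK LD1_c15 LD2_c50 LD3_c51)) :=
  Lgr Lrot3 (Lpr_ft (f50039 IH) (Lpn (LP (LK LD1_c15 LD2_c50 LD3_c51))))
theorem f43338 : Led Lsl_ft (LP (LK LD1_c1 LD2_c9 LD3_c44)) = (LP (LK LD1_c0 LD2_c32 LD3_c16)) :=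
  Lre_f IH (LK LD1_c1 LD2_c9 LD3_c44) (LK LD1_c0 LD2_c32 LD3_c16) Lrfl Lrfl
theorem f43327 : Led Lsl_et (LP (LK LD1_c0 LD2_c14 LD3_c27)) = (LP (LK LD1_c0 LD2_c32 LD3_c16)) :=
  Lre_e IH (LK LD1_c0 LD2_c14 LD3_c27) (LK LD1_c0 LD2_c32 LD3_c16) Lrfl Lrfl
theorem f43339 : Led Lsl_ft (LP (LK LD1_c0 LD2_c32 LD3_c16)) = (LP (LK LD1_c1 LD2_c9 LD3_c44)) :=
  Lre_f IH (LK LD1_c0 LD2_c32 LD3_c16) (LK LD1_c1 LD2_c9 LD3_c44) Lrfl Lrfl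
theorem f43340 : Led Lsl_ef (LP (LK LD1_c1 LD2_c9 LD3_c44)) = (LP (LK LD1_c1 LD2_c9 LD3_c44)) :=
  Lgr Lrot21 (Lpr_ft (f43338 IH) (Lpr_et (K1.f43337 IH) (Lpr_ft (K1.f43330 IH) (Lpr_et (f43327 IH) (Lpr_ft (f43339 IH) (Lpn (LP (LK LD1_c1 LD2_c9 LD3_c44))))))))
theorem f43350 : Led Lsl_ct (LP (LK LD1_c1 LD2_c9 LD3_c44)) = (LP (LK LD1_c2 LD2_c24 LD3_c57)) :=
  Lre_c IH (LK LD1_c1 LD2_c9 LD3_c44) (LK LD1_c2 LD2_c24 LD3_c57) Lrfl Lrfl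
theorem f43351 : Led Lsl_ct (LP (LK LD1_c2 LD2_c24 LD3_c57)) = (LP (LK LD1_c1 LD2_c9 LD3_c44)) :=
  Lre_c IH (LK LD1_c2 LD2_c24 LD3_c57) (LK LD1_c1 LD2_c9 LD3_c44) Lrfl Lrfl
theorem f43352 : Led Lsl_et (LP (LK LD1_c2 LD2_c24 LD3_c57)) = (LP (LK LD1_c2 LD2_c24 LD3_c57)) :=
  Lgr Lrot158 (Lpe (f43350 IH) (Lpr_ef (f43340 IH) (Lpe (f43351 IH) (Lpn (LP (LK LD1_c2 LD2_c24 LD3_c57))))))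
theorem f43385 : Led Lsl_dt (LP (LK LD1_c4 LD2_c54 LD3_c4)) = (LP (LK LD1_c2 LD2_c24 LD3_c57)) :=
  Lre_d IH (LK LD1_c4 LD2_c54 LD3_c4) (LK LD1_c2 LD2_c24 LD3_c57) Lrfl Lrfl
theorem f43387 : Led Lsl_dt (LP (LK LD1_c2 LD2_c24 LD3_c57)) = (LP (LK LD1_c4 LD2_c54 LD3_c4)) :=
  Lre_d IH (LK LD1_c2 LD2_c24 LD3_c57) (LK LD1_c4 LD2_c54 LD3_c4) Lrfl Lrfl
theorem f43388 : Led Lsl_et (LP (LK LD1_c4 LD2_c54 LD3_c4)) = (LP (LK LD1_c9 LD2_c39 LD3_c34)) :=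
  Lre_e IH (LK LD1_c4 LD2_c54 LD3_c4) (LK LD1_c9 LD2_c39 LD3_c34) Lrfl Lrfl
theorem f43389 : Led Lsl_df (LP (LK LD1_c9 LD2_c39 LD3_c34)) = (LP (LK LD1_c9 LD2_c39 LD3_c34)) :=
  Lgr Lrot70 (Lpr_et (f43386 IH) (Lpr_dt (f43385 IH) (Lpr_et (f43352 IH) (Lpr_dt (f43387 IH) (Lpr_et (f43388 IH) (Lpn (LP (LK LD1_c9 LD2_c39 LD3_c34))))))))
theorem f50052 : Led Lsl_dt (LP (LK LD1_c15 LD2_c50 LD3_c51)) = (LP (LK LD1_c15 LD2_c50 LD3_c51)) :=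
  Lgr Lrot60 (Lpe (f50039 IH) (Lpr_df (f43389 IH) (Lpr_ff (f50048 IH) (Lpn (LP (LK LD1_c15 LD2_c50 LD3_c51))))))
theorem f50055 : Led Lsl_et (LP (LK LD1_c8 LD2_c26 LD3_c15)) = (LP (LK LD1_c15 LD2_c50 LD3_c51)) :=
  Lre_e IH (LK LD1_c8 LD2_c26 LD3_c15) (LK LD1_c15 LD2_c50 LD3_c51) Lrfl Lrfl
theorem f50062 : Led Lsl_dt (LP (LK LD1_c4 LD2_c13 LD3_c43)) = (LP (LK LD1_c8 LD2_c26 LD3_c15)) :=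
  Lre_d IH (LK LD1_c4 LD2_c13 LD3_c43) (LK LD1_c8 LD2_c26 LD3_c15) Lrfl Lrfl
theorem f50044 : Led Lsl_et (LP (LK LD1_c15 LD2_c50 LD3_c51)) = (LP (LK LD1_c8 LD2_c26 LD3_c15)) :=
  Lre_e IH (LK LD1_c15 LD2_c50 LD3_c51) (LK LD1_c8 LD2_c26 LD3_c15) Lrfl Lrfl
theorem f50059 : Led Lsl_dt (LP (LK LD1_c8 LD2_c26 LD3_c15)) = (LP (LK LD1_c4 LD2_c13 LD3_c43)) :=
  Lre_d IH (LK LD1_c8 LD2_c26 LD3_c15) (LK LD1_c4 LD2_c13 LD3_c43) Lrfl Lrfl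
theorem f50063 : Led Lsl_ef (LP (LK LD1_c4 LD2_c13 LD3_c43)) = (LP (LK LD1_c4 LD2_c13 LD3_c43)) :=
  Lgr Lrot73 (Lpr_dt (f50062 IH) (Lpr_et (f50055 IH) (Lpr_dt (f50052 IH) (Lpr_et (f50044 IH) (Lpr_dt (f50059 IH) (Lpn (LP (LK LD1_c4 LD2_c13 LD3_c43))))))))
theorem f49447 : Led Lsl_bt (LP (LK LD1_c4 LD2_c13 LD3_c43)) = (LP (LK LD1_c2 LD2_c4 LD3_c15)) :=
  Lre_b IH (LK LD1_c4 LD2_c13 LD3_c43) (LK LD1_c2 LD2_c4 LD3_c15) Lrfl Lrfl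
theorem f49541 : Led Lsl_bt (LP (LK LD1_c2 LD2_c4 LD3_c15)) = (LP (LK LD1_c4 LD2_c13 LD3_c43)) :=
  Lre_b IH (LK LD1_c2 LD2_c4 LD3_c15) (LK LD1_c4 LD2_c13 LD3_c43) Lrfl Lrfl
theorem f50065 : Led Lsl_et (LP (LK LD1_c2 LD2_c4 LD3_c15)) = (LP (LK LD1_c2 LD2_c4 LD3_c15)) :=
  Lgr Lrot74 (Lpe (f49447 IH) (Lpr_ef (f50063 IH) (Lpe (f49541 IH) (Lpn (LP (LK LD1_c2 LD2_c4 LD3_c15))))))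
theorem f49445 : Led Lsl_at (LP (LK LD1_c2 LD2_c4 LD3_c11)) = (LP (LK LD1_c2 LD2_c4 LD3_c15)) :=
  Lgr Lrot100 (Lpr_af (f49435 IH) (Lpn (LP (LK LD1_c2 LD2_c4 LD3_c15))))
theorem f50069 : Led Lsl_ef (LP (LK LD1_c2 LD2_c4 LD3_c11)) = (LP (LK LD1_c2 LD2_c4 LD3_c11)) :=
  Lgr Lrot20 (Lpr_at (f49445 IH) (Lpr_et (f50065 IH) (Lpe (f49435 IH) (Lpn (LP (LK LD1_c2 LD2_c4 LD3_c11))))))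
theorem f49443 : Led Lsl_dt (LP (LK LD1_c4 LD2_c13 LD3_c41)) = (LP (LK LD1_c2 LD2_c4 LD3_c11)) :=
  Lre_d IH (LK LD1_c4 LD2_c13 LD3_c41) (LK LD1_c2 LD2_c4 LD3_c11) Lrfl Lrfl
theorem f50071 : Led Lsl_dt (LP (LK LD1_c8 LD2_c26 LD3_c14)) = (LP (LK LD1_c8 LD2_c26 LD3_c14)) :=
  Lgr Lrot77 (Lpe (f44985 IH) (Lpe (f49439 IH) (Lpr_ef (f50069 IH) (Lpe (f49443 IH) (Lpe (f45003 IH) (Lpn (LP (LK LD1_c8 LD2_c26 LD3_c14))))))))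
theorem f50073 : Led Lsl_df (LP (LK LD1_c8 LD2_c15 LD3_c10)) = (LP (LK LD1_c8 LD2_c15 LD3_c10)) :=
  Lgr Lrot78 (Lpr_ft (f44998 IH) (Lpr_dt (f50071 IH) (Lpe (f44986 IH) (Lpn (LP (LK LD1_c8 LD2_c15 LD3_c10))))))
theorem f45000 : Led Lsl_et (LP (LK LD1_c4 LD2_c7 LD3_c36)) = (LP (LK LD1_c8 LD2_c15 LD3_c10)) :=
  Lre_e IH (LK LD1_c4 LD2_c7 LD3_c36) (LK LD1_c8 LD2_c15 LD3_c10) Lrfl Lrfl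
theorem f49813 : Led Lsl_dt (LP (LK LD1_c2 LD2_c1 LD3_c9)) = (LP (LK LD1_c4 LD2_c7 LD3_c36)) :=
  Lre_d IH (LK LD1_c2 LD2_c1 LD3_c9) (LK LD1_c4 LD2_c7 LD3_c36) Lrfl Lrfl
theorem f50076 : Led Lsl_et (LP (LK LD1_c2 LD2_c1 LD3_c9)) = (LP (LK LD1_c2 LD2_c1 LD3_c9)) :=
  Lgr Lrot71 (Lpe (K8.f49560 IH) (Lpe (f44983 IH) (Lpr_df (f50073 IH) (Lpe (f45000 IH) (Lpe (f49813 IH) (Lpn (LP (LK LD1_c2 LD2_c1 LD3_c9))))))))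
theorem f49604 : Led Lsl_ct (LP (LK LD1_c0 LD2_c57 LD3_c41)) = (LP (LK LD1_c2 LD2_c1 LD3_c9)) :=
  Lre_c IH (LK LD1_c0 LD2_c57 LD3_c41) (LK LD1_c2 LD2_c1 LD3_c9) Lrfl Lrfl
theorem f50080 : Led Lsl_ef (LP (LK LD1_c0 LD2_c57 LD3_c41)) = (LP (LK LD1_c0 LD2_c57 LD3_c41)) :=
  Lgr Lrot28 (Lpr_ct (f49604 IH) (Lpr_et (f50076 IH) (Lpr_ct (K8.f49561 IH) (Lpn (LP (LK LD1_c0 LD2_c57 LD3_c41))))))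
theorem f49609 : Led Lsl_at (LP (LK LD1_c0 LD2_c57 LD3_c41)) = (LP (LK LD1_c0 LD2_c57 LD3_c46)) :=
  Lgr Lrot100 (Lpr_af (f49600 IH) (Lpn (LP (LK LD1_c0 LD2_c57 LD3_c46))))
theorem f50085 : Led Lsl_et (LP (LK LD1_c0 LD2_c57 LD3_c46)) = (LP (LK LD1_c0 LD2_c57 LD3_c46)) :=
  Lgr Lrot123 (Lpe (f49609 IH) (Lpr_ef (f50080 IH) (Lpr_af (f49600 IH) (Lpn (LP (LK LD1_c0 LD2_c57 LD3_c46))))))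
theorem f47743 : Led Lsl_et (LP (LK LD1_c0 LD2_c11 LD3_c40)) = (LP (LK LD1_c0 LD2_c26 LD3_c16)) :=
  Lre_e IH (LK LD1_c0 LD2_c11 LD3_c40) (LK LD1_c0 LD2_c26 LD3_c16) Lrfl Lrfl
theorem f50109 : Led Lsl_ft (LP (LK LD1_c0 LD2_c57 LD3_c46)) = (LP (LK LD1_c0 LD2_c26 LD3_c16)) :=
  Lre_f IH (LK LD1_c0 LD2_c57 LD3_c46) (LK LD1_c0 LD2_c26 LD3_c16) Lrfl Lrfl
theorem f1437 : Led Lsl_et (LP (LK LD1_c0 LD2_c26 LD3_c16)) = (LP (LK LD1_c0 LD2_c11 LD3_c40)) :=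
  Lre_e IH (LK LD1_c0 LD2_c26 LD3_c16) (LK LD1_c0 LD2_c11 LD3_c40) Lrfl Lrfl
theorem f50110 : Led Lsl_ff (LP (LK LD1_c0 LD2_c11 LD3_c40)) = (LP (LK LD1_c0 LD2_c11 LD3_c40)) :=
  Lgr Lrot72 (Lpr_et (f47743 IH) (Lpr_ft (f49599 IH) (Lpr_et (f50085 IH) (Lpr_ft (f50109 IH) (Lpr_et (f1437 IH) (Lpn (LP (LK LD1_c0 LD2_c11 LD3_c40))))))))
theorem f47731 : Led Lsl_df (LP (LK LD1_c0 LD2_c11 LD3_c40)) = (LP (LK LD1_c0 LD2_c15 LD3_c31)) :=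
  Lgr Lrot38 (Lpr_dt (K1.f47534 IH) (Lpn (LP (LK LD1_c0 LD2_c15 LD3_c31))))
theorem f50112 : Led Lsl_ft (LP (LK LD1_c0 LD2_c15 LD3_c31)) = (LP (LK LD1_c0 LD2_c15 LD3_c31)) :=
  Lgr Lrot54 (Lpe (K1.f47534 IH) (Lpr_ff (f50110 IH) (Lpr_df (f47731 IH) (Lpn (LP (LK LD1_c0 LD2_c15 LD3_c31))))))
theorem f50114 : Led Lsl_af (LP (LK LD1_c0 LD2_c11 LD3_c20)) = (LP (LK LD1_c0 LD2_c15 LD3_c31)) :=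
  Lgr Lrot31 (Lpe (K0.f33087 IH) (Lpe (K1.f32155 IH) (Lpr_ft (f50112 IH) (Lpn (LP (LK LD1_c0 LD2_c15 LD3_c31))))))
theorem f28124 : Led Lsl_et (LP (LK LD1_c0 LD2_c11 LD3_c20)) = (LP (LK LD1_c0 LD2_c25 LD3_c27)) :=
  Lre_e IH (LK LD1_c0 LD2_c11 LD3_c20) (LK LD1_c0 LD2_c25 LD3_c27) Lrfl Lrfl
theorem f32160 : Led Lsl_et (LP (LK LD1_c0 LD2_c34 LD3_c36)) = (LP (LK LD1_c0 LD2_c15 LD3_c31)) :=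
  Lre_e IH (LK LD1_c0 LD2_c34 LD3_c36) (LK LD1_c0 LD2_c15 LD3_c31) Lrfl Lrfl
theorem f50118 : Led Lsl_at (LP (LK LD1_c0 LD2_c25 LD3_c27)) = (LP (LK LD1_c0 LD2_c34 LD3_c36)) :=
  Lgr Lrot80 (Lpe (f28124 IH) (Lpr_af (f50114 IH) (Lpe (f32160 IH) (Lpn (LP (LK LD1_c0 LD2_c34 LD3_c36))))))
theorem f50128 : Led Lsl_ct (LP (LK LD1_c0 LD2_c11 LD3_c42)) = (LP (LK LD1_c0 LD2_c25 LD3_c27)) :=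
  Lre_c IH (LK LD1_c0 LD2_c11 LD3_c42) (LK LD1_c0 LD2_c25 LD3_c27) Lrfl Lrfl
theorem f50129 : Led Lsl_at (LP (LK LD1_c0 LD2_c26 LD3_c17)) = (LP (LK LD1_c0 LD2_c11 LD3_c42)) :=
  Lre_a IH (LK LD1_c0 LD2_c26 LD3_c17) (LK LD1_c0 LD2_c11 LD3_c42) Lrfl Lrfl
theorem f50130 : Led Lsl_cf (LP (LK LD1_c0 LD2_c26 LD3_c17)) = (LP (LK LD1_c0 LD2_c34 LD3_c36)) :=
  Lgr Lrot1 (Lpr_at (f50129 IH) (Lpr_ct (f50128 IH) (Lpr_at (f50118 IH) (Lpn (LP (LK LD1_c0 LD2_c34 LD3_c36))))))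
theorem f50803 : Led Lsl_bt (LP (LK LD1_c1 LD2_c14 LD3_c35)) = (LP (LK LD1_c0 LD2_c34 LD3_c36)) :=
  Lre_b IH (LK LD1_c1 LD2_c14 LD3_c35) (LK LD1_c0 LD2_c34 LD3_c36) Lrfl Lrfl
theorem f47483 : Led Lsl_et (LP (LK LD1_c1 LD2_c14 LD3_c35)) = (LP (LK LD1_c0 LD2_c34 LD3_c35)) :=
  Lre_e IH (LK LD1_c1 LD2_c14 LD3_c35) (LK LD1_c0 LD2_c34 LD3_c35) Lrfl Lrfl
theorem f27767 : Led Lsl_et (LP (LK LD1_c0 LD2_c58 LD3_c61)) = (LP (LK LD1_c2 LD2_c4 LD3_c0)) :=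
  Lre_e IH (LK LD1_c0 LD2_c58 LD3_c61) (LK LD1_c2 LD2_c4 LD3_c0) Lrfl Lrfl
theorem f47484 : Led Lsl_cf (LP (LK LD1_c1 LD2_c14 LD3_c35)) = (LP (LK LD1_c2 LD2_c4 LD3_c0)) :=
  Lgr Lrot39 (Lpr_et (f47483 IH) (Lpr_ct (K1.f47474 IH) (Lpr_et (f27767 IH) (Lpn (LP (LK LD1_c2 LD2_c4 LD3_c0))))))
theorem f51411 : Led Lsl_bt (LP (LK LD1_c0 LD2_c59 LD3_c10)) = (LP (LK LD1_c2 LD2_c4 LD3_c0)) :=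
  Lre_b IH (LK LD1_c0 LD2_c59 LD3_c10) (LK LD1_c2 LD2_c4 LD3_c0) Lrfl Lrfl
theorem f48248 : Led Lsl_ct (LP (LK LD1_c0 LD2_c27 LD3_c8)) = (LP (LK LD1_c0 LD2_c59 LD3_c10)) :=
  Lre_c IH (LK LD1_c0 LD2_c27 LD3_c8) (LK LD1_c0 LD2_c59 LD3_c10) Lrfl Lrfl
theorem f51412 : Led Lsl_bt (LP (LK LD1_c0 LD2_c26 LD3_c17)) = (LP (LK LD1_c0 LD2_c27 LD3_c8)) :=
  Lgr Lrot128 (Lpr_cf (f50130 IH) (Lpe (f50803 IH) (Lpr_cf (f47484 IH) (Lpe (f51411 IH) (Lpe (f48248 IH) (Lpn (LP (LK LD1_c0 LD2_c27 LD3_c8))))))))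
theorem f50146 : Led Lsl_ft (LP (LK LD1_c0 LD2_c57 LD3_c50)) = (LP (LK LD1_c0 LD2_c26 LD3_c17)) :=
  Lre_f IH (LK LD1_c0 LD2_c57 LD3_c50) (LK LD1_c0 LD2_c26 LD3_c17) Lrfl Lrfl
theorem f51430 : Led Lsl_ft (LP (LK LD1_c0 LD2_c27 LD3_c8)) = (LP (LK LD1_c0 LD2_c59 LD3_c39)) :=
  Lre_f IH (LK LD1_c0 LD2_c27 LD3_c8) (LK LD1_c0 LD2_c59 LD3_c39) Lrfl Lrfl
theorem f51431 : Led Lsl_bf (LP (LK LD1_c0 LD2_c57 LD3_c50)) = (LP (LK LD1_c0 LD2_c59 LD3_c39)) :=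
  Lgr Lrot61 (Lpr_ft (f50146 IH) (Lpr_bt (f51412 IH) (Lpr_ft (f51430 IH) (Lpn (LP (LK LD1_c0 LD2_c59 LD3_c39))))))
theorem f50517 : Led Lsl_dt (LP (LK LD1_c0 LD2_c57 LD3_c50)) = (LP (LK LD1_c2 LD2_c1 LD3_c35)) :=
  Lre_d IH (LK LD1_c0 LD2_c57 LD3_c50) (LK LD1_c2 LD2_c1 LD3_c35) Lrfl Lrfl
theorem f833 : Led Lsl_dt (LP (LK LD1_c2 LD2_c5 LD3_c9)) = (LP (LK LD1_c0 LD2_c59 LD3_c39)) :=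
  Lre_d IH (LK LD1_c2 LD2_c5 LD3_c9) (LK LD1_c0 LD2_c59 LD3_c39) Lrfl Lrfl
theorem f51439 : Led Lsl_bt (LP (LK LD1_c2 LD2_c1 LD3_c35)) = (LP (LK LD1_c2 LD2_c5 LD3_c9)) :=
  Lgr Lrot95 (Lpe (f50517 IH) (Lpr_bf (f51431 IH) (Lpe (f833 IH) (Lpn (LP (LK LD1_c2 LD2_c5 LD3_c9))))))
theorem f797 : Led Lsl_et (LP (LK LD1_c4 LD2_c8 LD3_c27)) = (LP (LK LD1_c2 LD2_c1 LD3_c35)) :=
  Lre_e IH (LK LD1_c4 LD2_c8 LD3_c27) (LK LD1_c2 LD2_c1 LD3_c35) Lrfl Lrfl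
theorem f799 : Led Lsl_et (LP (LK LD1_c2 LD2_c5 LD3_c9)) = (LP (LK LD1_c4 LD2_c15 LD3_c36)) :=
  Lre_e IH (LK LD1_c2 LD2_c5 LD3_c9) (LK LD1_c4 LD2_c15 LD3_c36) Lrfl Lrfl
theorem f51481 : Led Lsl_bf (LP (LK LD1_c4 LD2_c8 LD3_c27)) = (LP (LK LD1_c4 LD2_c15 LD3_c36)) :=
  Lgr Lrot96 (Lpr_et (f797 IH) (Lpr_bt (f51439 IH) (Lpr_et (f799 IH) (Lpn (LP (LK LD1_c4 LD2_c15 LD3_c36))))))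
theorem f51494 : Led Lsl_bt (LP (LK LD1_c4 LD2_c8 LD3_c27)) = (LP (LK LD1_c4 LD2_c15 LD3_c36)) :=
  Lgr Lrot127 (Lpr_bf (f51481 IH) (Lpn (LP (LK LD1_c4 LD2_c15 LD3_c36))))
theorem f547 : Led Lsl_at (LP (LK LD1_c2 LD2_c2 LD3_c11)) = (LP (LK LD1_c4 LD2_c8 LD3_c27)) :=
  Lre_a IH (LK LD1_c2 LD2_c2 LD3_c11) (LK LD1_c4 LD2_c8 LD3_c27) Lrfl Lrfl
theorem f529 : Led Lsl_bt (LP (LK LD1_c0 LD2_c58 LD3_c30)) = (LP (LK LD1_c2 LD2_c2 LD3_c11)) :=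
  Lre_b IH (LK LD1_c0 LD2_c58 LD3_c30) (LK LD1_c2 LD2_c2 LD3_c11) Lrfl Lrfl
theorem f548 : Led Lsl_at (LP (LK LD1_c4 LD2_c15 LD3_c36)) = (LP (LK LD1_c2 LD2_c5 LD3_c36)) :=
  Lre_a IH (LK LD1_c4 LD2_c15 LD3_c36) (LK LD1_c2 LD2_c5 LD3_c36) Lrfl Lrfl
theorem f530 : Led Lsl_bt (LP (LK LD1_c2 LD2_c5 LD3_c36)) = (LP (LK LD1_c1 LD2_c0 LD3_c15)) :=
  Lre_b IH (LK LD1_c2 LD2_c5 LD3_c36) (LK LD1_c1 LD2_c0 LD3_c15) Lrfl Lrfl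
theorem f51496 : Led Lsl_af (LP (LK LD1_c0 LD2_c58 LD3_c30)) = (LP (LK LD1_c1 LD2_c0 LD3_c15)) :=
  Lgr Lrot36 (Lpr_bt (f529 IH) (Lpr_at (f547 IH) (Lpr_bt (f51494 IH) (Lpr_at (f548 IH) (Lpr_bt (f530 IH) (Lpn (LP (LK LD1_c1 LD2_c0 LD3_c15))))))))
theorem f51498 : Led Lsl_at (LP (LK LD1_c0 LD2_c26 LD3_c31)) = (LP (LK LD1_c0 LD2_c27 LD3_c22)) :=
  Lgr Lrot80 (Lpe (K0.f512 IH) (Lpr_af (f51496 IH) (Lpe (K0.f514 IH) (Lpn (LP (LK LD1_c0 LD2_c27 LD3_c22))))))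
theorem f543 : Led Lsl_ft (LP (LK LD1_c0 LD2_c11 LD3_c45)) = (LP (LK LD1_c0 LD2_c26 LD3_c31)) :=
  Lre_f IH (LK LD1_c0 LD2_c11 LD3_c45) (LK LD1_c0 LD2_c26 LD3_c31) Lrfl Lrfl
theorem f544 : Led Lsl_ft (LP (LK LD1_c0 LD2_c27 LD3_c22)) = (LP (LK LD1_c0 LD2_c12 LD3_c6)) :=
  Lre_f IH (LK LD1_c0 LD2_c27 LD3_c22) (LK LD1_c0 LD2_c12 LD3_c6) Lrfl Lrfl
theorem f51516 : Led Lsl_af (LP (LK LD1_c0 LD2_c11 LD3_c45)) = (LP (LK LD1_c0 LD2_c12 LD3_c6)) :=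
  Lgr Lrot45 (Lpr_ft (f543 IH) (Lpr_at (f51498 IH) (Lpr_ft (f544 IH) (Lpn (LP (LK LD1_c0 LD2_c12 LD3_c6))))))
theorem f505 : Led Lsl_ct (LP (LK LD1_c0 LD2_c26 LD3_c30)) = (LP (LK LD1_c0 LD2_c11 LD3_c45)) :=
  Lre_c IH (LK LD1_c0 LD2_c26 LD3_c30) (LK LD1_c0 LD2_c11 LD3_c45) Lrfl Lrfl
theorem f1121 : Led Lsl_dt (LP (LK LD1_c0 LD2_c58 LD3_c28)) = (LP (LK LD1_c0 LD2_c26 LD3_c30)) :=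
  Lre_d IH (LK LD1_c0 LD2_c58 LD3_c28) (LK LD1_c0 LD2_c26 LD3_c30) Lrfl Lrfl
theorem f27349 : Led Lsl_ct (LP (LK LD1_c0 LD2_c12 LD3_c7)) = (LP (LK LD1_c0 LD2_c5 LD3_c37)) :=
  Lre_c IH (LK LD1_c0 LD2_c12 LD3_c7) (LK LD1_c0 LD2_c5 LD3_c37) Lrfl Lrfl
theorem f7998 : Led Lsl_ft (LP (LK LD1_c0 LD2_c5 LD3_c37)) = (LP (LK LD1_c0 LD2_c2 LD3_c33)) :=
  Lre_f IH (LK LD1_c0 LD2_c5 LD3_c37) (LK LD1_c0 LD2_c2 LD3_c33) Lrfl Lrfl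
theorem f7999 : Led Lsl_ft (LP (LK LD1_c0 LD2_c2 LD3_c33)) = (LP (LK LD1_c0 LD2_c5 LD3_c37)) :=
  Lre_f IH (LK LD1_c0 LD2_c2 LD3_c33) (LK LD1_c0 LD2_c5 LD3_c37) Lrfl Lrfl
theorem f8000 : Led Lsl_df (LP (LK LD1_c0 LD2_c5 LD3_c37)) = (LP (LK LD1_c0 LD2_c5 LD3_c37)) :=
  Lgr Lrot78 (Lpr_ft (f7998 IH) (Lpr_dt (K0.f7992 IH) (Lpr_ft (f7999 IH) (Lpn (LP (LK LD1_c0 LD2_c5 LD3_c37))))))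
theorem f27350 : Led Lsl_ct (LP (LK LD1_c0 LD2_c5 LD3_c37)) = (LP (LK LD1_c0 LD2_c12 LD3_c7)) :=
  Lre_c IH (LK LD1_c0 LD2_c5 LD3_c37) (LK LD1_c0 LD2_c12 LD3_c7) Lrfl Lrfl
theorem f51542 : Led Lsl_cf (LP (LK LD1_c0 LD2_c58 LD3_c28)) = (LP (LK LD1_c0 LD2_c27 LD3_c22)) :=
  Lgr Lrot161 (Lpr_dt (f1121 IH) (Lpr_ct (f505 IH) (Lpr_af (f51516 IH) (Lpe (f544 IH) (Lpr_dt (K0.f27339 IH) (Lpr_ct (f27349 IH) (Lpe (f8000 IH) (Lpr_ct (f27350 IH) (Lpr_dt (K0.f27338 IH) (Lpn (LP (LK LD1_c0 LD2_c27 LD3_c22))))))))))))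
theorem f517 : Led Lsl_dt (LP (LK LD1_c0 LD2_c11 LD3_c45)) = (LP (LK LD1_c0 LD2_c5 LD3_c25)) :=
  Lre_d IH (LK LD1_c0 LD2_c11 LD3_c45) (LK LD1_c0 LD2_c5 LD3_c25) Lrfl Lrfl
theorem f51520 : Led Lsl_ct (LP (LK LD1_c0 LD2_c5 LD3_c25)) = (LP (LK LD1_c0 LD2_c2 LD3_c29)) :=
  Lre_c IH (LK LD1_c0 LD2_c5 LD3_c25) (LK LD1_c0 LD2_c2 LD3_c29) Lrfl Lrfl
theorem f51550 : Led Lsl_ct (LP (LK LD1_c0 LD2_c58 LD3_c28)) = (LP (LK LD1_c0 LD2_c27 LD3_c22)) :=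
  Lgr Lrot59 (Lpr_cf (f51542 IH) (Lpn (LP (LK LD1_c0 LD2_c27 LD3_c22))))
theorem f1125 : Led Lsl_dt (LP (LK LD1_c0 LD2_c26 LD3_c30)) = (LP (LK LD1_c0 LD2_c58 LD3_c28)) :=
  Lre_d IH (LK LD1_c0 LD2_c26 LD3_c30) (LK LD1_c0 LD2_c58 LD3_c28) Lrfl Lrfl
theorem f1119 : Led Lsl_ct (LP (LK LD1_c0 LD2_c11 LD3_c45)) = (LP (LK LD1_c0 LD2_c26 LD3_c30)) :=
  Lre_c IH (LK LD1_c0 LD2_c11 LD3_c45) (LK LD1_c0 LD2_c26 LD3_c30) Lrfl Lrfl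
theorem f51552 : Led Lsl_ct (LP (LK LD1_c0 LD2_c2 LD3_c29)) = (LP (LK LD1_c0 LD2_c5 LD3_c25)) :=
  Lre_c IH (LK LD1_c0 LD2_c2 LD3_c29) (LK LD1_c0 LD2_c5 LD3_c25) Lrfl Lrfl
theorem f51553 : Led Lsl_dt (LP (LK LD1_c0 LD2_c2 LD3_c29)) = (LP (LK LD1_c0 LD2_c2 LD3_c29)) :=
  Lgr Lrot173 (Lpe (f51520 IH) (Lpe (f517 IH) (Lpe (f505 IH) (Lpe (f1121 IH) (Lpr_cf (f51542 IH) (Lpe (K0.f27338 IH) (Lpe (f27350 IH) (Lpr_df (f8000 IH) (Lpe (f27349 IH) (Lpe (K0.f27339 IH) (Lpe (f51550 IH) (Lpe (f1125 IH) (Lpe (f1119 IH) (Lpe (K0.f483 IH) (Lpe (f51552 IH) (Lpn (LP (LK LD1_c0 LD2_c2 LD3_c29))))))))))))))))))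
theorem f6777 : Led Lsl_et (LP (LK LD1_c0 LD2_c2 LD3_c29)) = (LP (LK LD1_c0 LD2_c1 LD3_c1)) :=
  Lre_e IH (LK LD1_c0 LD2_c2 LD3_c29) (LK LD1_c0 LD2_c1 LD3_c1) Lrfl Lrfl
theorem f28334 : Led Lsl_gt (LP (LK LD1_c0 LD2_c6 LD3_c38)) = (LP (LK LD1_c0 LD2_c14 LD3_c23)) :=
  Lre_g IH (LK LD1_c0 LD2_c6 LD3_c38) (LK LD1_c0 LD2_c14 LD3_c23) Lrfl Lrfl
theorem f51573 : Led Lsl_gt (LP (LK LD1_c0 LD2_c5 LD3_c27)) = (LP (LK LD1_c0 LD2_c2 LD3_c29)) :=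
  Lre_g IH (LK LD1_c0 LD2_c5 LD3_c27) (LK LD1_c0 LD2_c2 LD3_c29) Lrfl Lrfl
theorem f51587 : Led Lsl_dt (LP (LK LD1_c0 LD2_c11 LD3_c52)) = (LP (LK LD1_c0 LD2_c5 LD3_c27)) :=
  Lre_d IH (LK LD1_c0 LD2_c11 LD3_c52) (LK LD1_c0 LD2_c5 LD3_c27) Lrfl Lrfl
theorem f53161 : Led Lsl_ef (LP (LK LD1_c0 LD2_c14 LD3_c23)) = (LP (LK LD1_c0 LD2_c11 LD3_c52)) :=
  Lgr Lrot17 (Lpe (f28334 IH) (Lpe (K8.f28329 IH) (Lpe (K0.f28229 IH) (Lpr_gf (K0.f8246 IH) (Lpr_df (K0.f9629 IH) (Lpe (K0.f6755 IH) (Lpe (f6777 IH) (Lpr_dt (f51553 IH) (Lpe (f51573 IH) (Lpe (f51587 IH) (Lpn (LP (LK LD1_c0 LD2_c11 LD3_c52)))))))))))))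
theorem f31661 : Led Lsl_gt (LP (LK LD1_c0 LD2_c14 LD3_c23)) = (LP (LK LD1_c0 LD2_c14 LD3_c22)) :=
  Lgr Lrot46 (Lpe (f28334 IH) (Lpr_ft (K0.f31612 IH) (Lpr_at (K0.f31613 IH) (Lpn (LP (LK LD1_c0 LD2_c14 LD3_c22))))))
theorem f51561 : Led Lsl_af (LP (LK LD1_c0 LD2_c2 LD3_c29)) = (LP (LK LD1_c0 LD2_c2 LD3_c33)) :=
  Lgr Lrot109 (Lpe (f51520 IH) (Lpe (f517 IH) (Lpe (f505 IH) (Lpe (f1121 IH) (Lpr_cf (f51542 IH) (Lpe (K0.f27338 IH) (Lpe (f27350 IH) (Lpr_df (f8000 IH) (Lpr_ft (f7998 IH) (Lpn (LP (LK LD1_c0 LD2_c2 LD3_c33))))))))))))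
theorem f51574 : Led Lsl_gf (LP (LK LD1_c0 LD2_c5 LD3_c27)) = (LP (LK LD1_c0 LD2_c5 LD3_c37)) :=
  Lgr Lrot47 (Lpr_gt (f51573 IH) (Lpr_af (f51561 IH) (Lpe (f7998 IH) (Lpn (LP (LK LD1_c0 LD2_c5 LD3_c37))))))
theorem f8044 : Led Lsl_et (LP (LK LD1_c0 LD2_c5 LD3_c37)) = (LP (LK LD1_c0 LD2_c5 LD3_c37)) :=
  Lgr Lrot69 (Lpe (f7999 IH) (Lpe (K0.f6770 IH) (Lpr_ff (K0.f8037 IH) (Lpe (K0.f6838 IH) (Lpe (f7998 IH) (Lpn (LP (LK LD1_c0 LD2_c5 LD3_c37))))))))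
theorem f51570 : Led Lsl_ft (LP (LK LD1_c0 LD2_c2 LD3_c29)) = (LP (LK LD1_c0 LD2_c5 LD3_c28)) :=
  Lre_f IH (LK LD1_c0 LD2_c2 LD3_c29) (LK LD1_c0 LD2_c5 LD3_c28) Lrfl Lrfl
theorem f51571 : Led Lsl_at (LP (LK LD1_c0 LD2_c5 LD3_c28)) = (LP (LK LD1_c0 LD2_c5 LD3_c37)) :=
  Lgr Lrot66 (Lpe (f51570 IH) (Lpr_af (f51561 IH) (Lpe (f7998 IH) (Lpn (LP (LK LD1_c0 LD2_c5 LD3_c37))))))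
theorem f6757 : Led Lsl_gt (LP (LK LD1_c0 LD2_c2 LD3_c29)) = (LP (LK LD1_c0 LD2_c5 LD3_c26)) :=
  Lre_g IH (LK LD1_c0 LD2_c2 LD3_c29) (LK LD1_c0 LD2_c5 LD3_c26) Lrfl Lrfl
theorem f51594 : Led Lsl_gt (LP (LK LD1_c0 LD2_c5 LD3_c26)) = (LP (LK LD1_c0 LD2_c5 LD3_c37)) :=
  Lgr Lrot46 (Lpe (f6757 IH) (Lpr_ft (f51570 IH) (Lpr_at (f51571 IH) (Lpn (LP (LK LD1_c0 LD2_c5 LD3_c37))))))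
theorem f6760 : Led Lsl_et (LP (LK LD1_c0 LD2_c11 LD3_c50)) = (LP (LK LD1_c0 LD2_c5 LD3_c26)) :=
  Lre_e IH (LK LD1_c0 LD2_c11 LD3_c50) (LK LD1_c0 LD2_c5 LD3_c26) Lrfl Lrfl
theorem f6761 : Led Lsl_dt (LP (LK LD1_c0 LD2_c11 LD3_c50)) = (LP (LK LD1_c0 LD2_c26 LD3_c42)) :=
  Lre_d IH (LK LD1_c0 LD2_c11 LD3_c50) (LK LD1_c0 LD2_c26 LD3_c42) Lrfl Lrfl
theorem f53179 : Led Lsl_gt (LP (LK LD1_c0 LD2_c32 LD3_c8)) = (LP (LK LD1_c0 LD2_c26 LD3_c42)) :=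
  Lgr Lrot139 (Lpe (K1.f31556 IH) (Lpe (f31661 IH) (Lpr_ef (f53161 IH) (Lpr_dt (f51587 IH) (Lpr_gf (f51574 IH) (Lpr_df (f8000 IH) (Lpr_et (f8044 IH) (Lpe (f51594 IH) (Lpe (f6760 IH) (Lpr_dt (f6761 IH) (Lpn (LP (LK LD1_c0 LD2_c26 LD3_c42)))))))))))))
theorem f31672 : Led Lsl_ft (LP (LK LD1_c0 LD2_c32 LD3_c8)) = (LP (LK LD1_c0 LD2_c14 LD3_c21)) :=
  Lre_f IH (LK LD1_c0 LD2_c32 LD3_c8) (LK LD1_c0 LD2_c14 LD3_c21) Lrfl Lrfl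
theorem f31665 : Led Lsl_at (LP (LK LD1_c0 LD2_c32 LD3_c13)) = (LP (LK LD1_c0 LD2_c32 LD3_c8)) :=
  Lgr Lrot100 (Lpr_af (K1.f31657 IH) (Lpn (LP (LK LD1_c0 LD2_c32 LD3_c8))))
theorem f31673 : Led Lsl_af (LP (LK LD1_c0 LD2_c14 LD3_c25)) = (LP (LK LD1_c0 LD2_c14 LD3_c21)) :=
  Lgr Lrot45 (Lpr_ft (K1.f31671 IH) (Lpr_at (f31665 IH) (Lpr_ft (f31672 IH) (Lpn (LP (LK LD1_c0 LD2_c14 LD3_c21))))))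
theorem f53181 : Led Lsl_gf (LP (LK LD1_c0 LD2_c14 LD3_c25)) = (LP (LK LD1_c0 LD2_c26 LD3_c42)) :=
  Lgr Lrot76 (Lpr_af (f31673 IH) (Lpe (f31672 IH) (Lpr_gt (f53179 IH) (Lpn (LP (LK LD1_c0 LD2_c26 LD3_c42))))))
theorem f31555 : Led Lsl_dt (LP (LK LD1_c0 LD2_c32 LD3_c8)) = (LP (LK LD1_c0 LD2_c14 LD3_c22)) :=
  Lre_d IH (LK LD1_c0 LD2_c32 LD3_c8) (LK LD1_c0 LD2_c14 LD3_c22) Lrfl Lrfl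
theorem f31615 : Led Lsl_gf (LP (LK LD1_c0 LD2_c14 LD3_c24)) = (LP (LK LD1_c0 LD2_c14 LD3_c22)) :=
  Lgr Lrot47 (Lpr_gt (K8.f28330 IH) (Lpr_af (K0.f31606 IH) (Lpe (K0.f31559 IH) (Lpn (LP (LK LD1_c0 LD2_c14 LD3_c22))))))
theorem f28365 : Led Lsl_cf (LP (LK LD1_c0 LD2_c14 LD3_c55)) = (LP (LK LD1_c0 LD2_c14 LD3_c24)) :=
  Lgr Lrot11 (Lpr_ct (K8.f28363 IH) (Lpn (LP (LK LD1_c0 LD2_c14 LD3_c24))))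
theorem f3298 : Led Lsl_gt (LP (LK LD1_c0 LD2_c33 LD3_c35)) = (LP (LK LD1_c0 LD2_c15 LD3_c4)) :=
  Lre_g IH (LK LD1_c0 LD2_c33 LD3_c35) (LK LD1_c0 LD2_c15 LD3_c4) Lrfl Lrfl
theorem f53186 : Led Lsl_cf (LP (LK LD1_c0 LD2_c33 LD3_c35)) = (LP (LK LD1_c0 LD2_c26 LD3_c42)) :=
  Lgr Lrot169 (Lpr_gt (f3298 IH) (Lpr_ct (K7.f3273 IH) (Lpe (K7.f3119 IH) (Lpe (K8.f3115 IH) (Lpe (K8.f3141 IH) (Lpr_cf (f28365 IH) (Lpr_gf (f31615 IH) (Lpe (f31555 IH) (Lpr_gt (f53179 IH) (Lpn (LP (LK LD1_c0 LD2_c26 LD3_c42))))))))))))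
theorem f53198 : Led Lsl_ct (LP (LK LD1_c0 LD2_c33 LD3_c35)) = (LP (LK LD1_c0 LD2_c26 LD3_c42)) :=
  Lgr Lrot59 (Lpr_cf (f53186 IH) (Lpn (LP (LK LD1_c0 LD2_c26 LD3_c42))))
theorem f163639 : Led Lsl_gf (LP (LK LD1_c0 LD2_c33 LD3_c35)) = (LP (LK LD1_c0 LD2_c34 LD3_c20)) :=
  Lgr Lrot47 (Lpr_gt (f3298 IH) (Lpr_af (K8.f163626 IH) (Lpe (K8.f163636 IH) (Lpn (LP (LK LD1_c0 LD2_c34 LD3_c20))))))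
theorem f3764 : Led Lsl_gt (LP (LK LD1_c1 LD2_c12 LD3_c39)) = (LP (LK LD1_c0 LD2_c33 LD3_c37)) :=
  Lre_g IH (LK LD1_c1 LD2_c12 LD3_c39) (LK LD1_c0 LD2_c33 LD3_c37) Lrfl Lrfl
theorem f164109 : Led Lsl_gf (LP (LK LD1_c1 LD2_c12 LD3_c39)) = (LP (LK LD1_c1 LD2_c14 LD3_c5)) :=
  Lgr Lrot47 (Lpr_gt (f3764 IH) (Lpr_af (K8.f164089 IH) (Lpe (K8.f163932 IH) (Lpn (LP (LK LD1_c1 LD2_c14 LD3_c5))))))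
theorem f165640 : Led Lsl_cf (LP (LK LD1_c2 LD2_c28 LD3_c52)) = (LP (LK LD1_c1 LD2_c12 LD3_c39)) :=
  Lgr Lrot169 (Lpr_gt (K8.f165624 IH) (Lpr_ct (K8.f35027 IH) (Lpe (K2.f26941 IH) (Lpr_cf (K8.f34885 IH) (Lpr_gf (f53181 IH) (Lpe (f53198 IH) (Lpr_gf (f163639 IH) (Lpe (K8.f163702 IH) (Lpe (f164109 IH) (Lpn (LP (LK LD1_c1 LD2_c12 LD3_c39))))))))))))
theorem f165648 : Led Lsl_ct (LP (LK LD1_c2 LD2_c28 LD3_c52)) = (LP (LK LD1_c1 LD2_c12 LD3_c39)) :=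
  Lgr Lrot59 (Lpr_cf (f165640 IH) (Lpn (LP (LK LD1_c1 LD2_c12 LD3_c39))))
theorem f53212 : Led Lsl_ct (LP (LK LD1_c0 LD2_c33 LD3_c37)) = (LP (LK LD1_c1 LD2_c12 LD3_c40)) :=
  Lre_c IH (LK LD1_c0 LD2_c33 LD3_c37) (LK LD1_c1 LD2_c12 LD3_c40) Lrfl Lrfl
theorem f163759 : Led Lsl_at (LP (LK LD1_c0 LD2_c33 LD3_c16)) = (LP (LK LD1_c0 LD2_c33 LD3_c59)) :=
  Lgr Lrot107 (Lpe (K8.f33389 IH) (Lpr_af (K8.f163738 IH) (Lpe (K8.f163758 IH) (Lpn (LP (LK LD1_c0 LD2_c33 LD3_c59))))))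
theorem f21275 : Led Lsl_gt (LP (LK LD1_c0 LD2_c14 LD3_c56)) = (LP (LK LD1_c0 LD2_c33 LD3_c13)) :=
  Lre_g IH (LK LD1_c0 LD2_c14 LD3_c56) (LK LD1_c0 LD2_c33 LD3_c13) Lrfl Lrfl
theorem f165426 : Led Lsl_gt (LP (LK LD1_c0 LD2_c33 LD3_c13)) = (LP (LK LD1_c0 LD2_c33 LD3_c59)) :=
  Lgr Lrot46 (Lpe (f21275 IH) (Lpr_ft (K0.f21321 IH) (Lpr_at (f163759 IH) (Lpn (LP (LK LD1_c0 LD2_c33 LD3_c59))))))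
theorem f165429 : Led Lsl_ct (LP (LK LD1_c1 LD2_c11 LD3_c45)) = (LP (LK LD1_c0 LD2_c33 LD3_c13)) :=
  Lre_c IH (LK LD1_c1 LD2_c11 LD3_c45) (LK LD1_c0 LD2_c33 LD3_c13) Lrfl Lrfl
theorem f165778 : Led Lsl_gt (LP (LK LD1_c0 LD2_c34 LD3_c48)) = (LP (LK LD1_c1 LD2_c11 LD3_c45)) :=
  Lgr Lrot9 (Lpe (K2.f31619 IH) (Lpe (K8.f165605 IH) (Lpr_ct (f165648 IH) (Lpr_gt (f3764 IH) (Lpr_ct (f53212 IH) (Lpr_df (K8.f164111 IH) (Lpe (K8.f163758 IH) (Lpe (f165426 IH) (Lpe (f165429 IH) (Lpn (LP (LK LD1_c1 LD2_c11 LD3_c45))))))))))))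
theorem f32579 : Led Lsl_at (LP (LK LD1_c1 LD2_c15 LD3_c1)) = (LP (LK LD1_c1 LD2_c14 LD3_c33)) :=
  Lgr Lrot100 (Lpr_af (K2.f32576 IH) (Lpn (LP (LK LD1_c1 LD2_c14 LD3_c33))))
theorem f165811 : Led Lsl_gf (LP (LK LD1_c1 LD2_c14 LD3_c33)) = (LP (LK LD1_c1 LD2_c11 LD3_c45)) :=
  Lgr Lrot76 (Lpe (f32579 IH) (Lpe (K2.f32779 IH) (Lpr_gt (f165778 IH) (Lpn (LP (LK LD1_c1 LD2_c11 LD3_c45))))))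
theorem f165428 : Led Lsl_ct (LP (LK LD1_c0 LD2_c33 LD3_c13)) = (LP (LK LD1_c1 LD2_c11 LD3_c45)) :=
  Lre_c IH (LK LD1_c0 LD2_c33 LD3_c13) (LK LD1_c1 LD2_c11 LD3_c45) Lrfl Lrfl
theorem f3101 : Led Lsl_dt (LP (LK LD1_c0 LD2_c6 LD3_c50)) = (LP (LK LD1_c0 LD2_c14 LD3_c56)) :=
  Lre_d IH (LK LD1_c0 LD2_c6 LD3_c50) (LK LD1_c0 LD2_c14 LD3_c56) Lrfl Lrfl
theorem f165829 : Led Lsl_cf (LP (LK LD1_c0 LD2_c14 LD3_c23)) = (LP (LK LD1_c0 LD2_c14 LD3_c54)) :=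
  Lgr Lrot169 (Lpr_gt (f31661 IH) (Lpr_ct (K1.f32278 IH) (Lpe (K2.f32280 IH) (Lpe (K2.f32796 IH) (Lpr_gf (f165811 IH) (Lpe (f165428 IH) (Lpe (f21275 IH) (Lpe (f3101 IH) (Lpr_gt (K8.f3145 IH) (Lpn (LP (LK LD1_c0 LD2_c14 LD3_c54))))))))))))
theorem f32287 : Led Lsl_bt (LP (LK LD1_c0 LD2_c15 LD3_c30)) = (LP (LK LD1_c0 LD2_c34 LD3_c30)) :=
  Lre_b IH (LK LD1_c0 LD2_c15 LD3_c30) (LK LD1_c0 LD2_c34 LD3_c30) Lrfl Lrfl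
theorem f32877 : Led Lsl_gt (LP (LK LD1_c0 LD2_c34 LD3_c30)) = (LP (LK LD1_c1 LD2_c14 LD3_c12)) :=
  Lre_g IH (LK LD1_c0 LD2_c34 LD3_c30) (LK LD1_c1 LD2_c14 LD3_c12) Lrfl Lrfl
theorem f3116 : Led Lsl_bt (LP (LK LD1_c0 LD2_c14 LD3_c53)) = (LP (LK LD1_c0 LD2_c6 LD3_c50)) :=
  Lre_b IH (LK LD1_c0 LD2_c14 LD3_c53) (LK LD1_c0 LD2_c6 LD3_c50) Lrfl Lrfl
theorem f3114 : Led Lsl_bt (LP (LK LD1_c0 LD2_c6 LD3_c50)) = (LP (LK LD1_c0 LD2_c14 LD3_c53)) :=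
  Lre_b IH (LK LD1_c0 LD2_c6 LD3_c50) (LK LD1_c0 LD2_c14 LD3_c53) Lrfl Lrfl
theorem f3117 : Led Lsl_ct (LP (LK LD1_c0 LD2_c14 LD3_c53)) = (LP (LK LD1_c0 LD2_c14 LD3_c53)) :=
  Lgr Lrot83 (Lpe (f3114 IH) (Lpe (K8.f3113 IH) (Lpr_bf (K0.f3111 IH) (Lpe (K8.f3115 IH) (Lpe (f3116 IH) (Lpn (LP (LK LD1_c0 LD2_c14 LD3_c53))))))))
theorem f3777 : Led Lsl_gt (LP (LK LD1_c0 LD2_c33 LD3_c5)) = (LP (LK LD1_c0 LD2_c14 LD3_c53)) :=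
  Lre_g IH (LK LD1_c0 LD2_c33 LD3_c5) (LK LD1_c0 LD2_c14 LD3_c53) Lrfl Lrfl
theorem f3748 : Led Lsl_ct (LP (LK LD1_c1 LD2_c11 LD3_c25)) = (LP (LK LD1_c0 LD2_c33 LD3_c5)) :=
  Lre_c IH (LK LD1_c1 LD2_c11 LD3_c25) (LK LD1_c0 LD2_c33 LD3_c5) Lrfl Lrfl
theorem f165847 : Led Lsl_bf (LP (LK LD1_c1 LD2_c14 LD3_c12)) = (LP (LK LD1_c1 LD2_c11 LD3_c25)) :=
  Lgr Lrot34 (Lpe (f32877 IH) (Lpe (f32287 IH) (Lpe (K1.f32290 IH) (Lpe (f31661 IH) (Lpr_cf (f165829 IH) (Lpe (K8.f3145 IH) (Lpe (f3116 IH) (Lpr_ct (f3117 IH) (Lpe (f3777 IH) (Lpe (f3748 IH) (Lpn (LP (LK LD1_c1 LD2_c11 LD3_c25)))))))))))))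
theorem f32434 : Led Lsl_gt (LP (LK LD1_c1 LD2_c14 LD3_c12)) = (LP (LK LD1_c0 LD2_c34 LD3_c26)) :=
  Lre_g IH (LK LD1_c1 LD2_c14 LD3_c12) (LK LD1_c0 LD2_c34 LD3_c26) Lrfl Lrfl
theorem f32433 : Led Lsl_ct (LP (LK LD1_c0 LD2_c34 LD3_c38)) = (LP (LK LD1_c1 LD2_c14 LD3_c37)) :=
  Lre_c IH (LK LD1_c0 LD2_c34 LD3_c38) (LK LD1_c1 LD2_c14 LD3_c37) Lrfl Lrfl
theorem f3731 : Led Lsl_gt (LP (LK LD1_c1 LD2_c11 LD3_c19)) = (LP (LK LD1_c0 LD2_c33 LD3_c5)) :=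
  Lre_g IH (LK LD1_c1 LD2_c11 LD3_c19) (LK LD1_c0 LD2_c33 LD3_c5) Lrfl Lrfl
theorem f3303 : Led Lsl_at (LP (LK LD1_c0 LD2_c33 LD3_c7)) = (LP (LK LD1_c1 LD2_c11 LD3_c19)) :=
  Lre_a IH (LK LD1_c0 LD2_c33 LD3_c7) (LK LD1_c1 LD2_c11 LD3_c19) Lrfl Lrfl
theorem f3305 : Led Lsl_ct (LP (LK LD1_c1 LD2_c11 LD3_c19)) = (LP (LK LD1_c1 LD2_c11 LD3_c19)) :=
  Lgr Lrot111 (Lpe (f3303 IH) (Lpr_cf (K0.f3150 IH) (Lpe (K0.f3304 IH) (Lpn (LP (LK LD1_c1 LD2_c11 LD3_c19))))))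
theorem f3746 : Led Lsl_bt (LP (LK LD1_c1 LD2_c11 LD3_c20)) = (LP (LK LD1_c0 LD2_c33 LD3_c4)) :=
  Lre_b IH (LK LD1_c1 LD2_c11 LD3_c20) (LK LD1_c0 LD2_c33 LD3_c4) Lrfl Lrfl
theorem f3747 : Led Lsl_ct (LP (LK LD1_c1 LD2_c11 LD3_c20)) = (LP (LK LD1_c2 LD2_c28 LD3_c12)) :=
  Lre_c IH (LK LD1_c1 LD2_c11 LD3_c20) (LK LD1_c2 LD2_c28 LD3_c12) Lrfl Lrfl
theorem f165855 : Led Lsl_gt (LP (LK LD1_c1 LD2_c14 LD3_c37)) = (LP (LK LD1_c2 LD2_c28 LD3_c12)) :=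
  Lgr Lrot65 (Lpe (f32433 IH) (Lpr_bt (K1.f32412 IH) (Lpe (f32434 IH) (Lpr_bf (f165847 IH) (Lpr_ct (f3748 IH) (Lpe (f3731 IH) (Lpe (f3305 IH) (Lpe (K0.f3686 IH) (Lpe (f3746 IH) (Lpr_ct (f3747 IH) (Lpn (LP (LK LD1_c2 LD2_c28 LD3_c12)))))))))))))
theorem f32923 : Led Lsl_ft (LP (LK LD1_c1 LD2_c14 LD3_c37)) = (LP (LK LD1_c2 LD2_c35 LD3_c14)) :=
  Lre_f IH (LK LD1_c1 LD2_c14 LD3_c37) (LK LD1_c2 LD2_c35 LD3_c14) Lrfl Lrfl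
theorem f32094 : Led Lsl_at (LP (LK LD1_c2 LD2_c35 LD3_c14)) = (LP (LK LD1_c1 LD2_c14 LD3_c47)) :=
  Lre_a IH (LK LD1_c2 LD2_c35 LD3_c14) (LK LD1_c1 LD2_c14 LD3_c47) Lrfl Lrfl
theorem f165857 : Led Lsl_gf (LP (LK LD1_c1 LD2_c14 LD3_c47)) = (LP (LK LD1_c2 LD2_c28 LD3_c12)) :=
  Lgr Lrot76 (Lpe (f32094 IH) (Lpe (f32923 IH) (Lpr_gt (f165855 IH) (Lpn (LP (LK LD1_c2 LD2_c28 LD3_c12))))))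
theorem f32234 : Led Lsl_bt (LP (LK LD1_c0 LD2_c34 LD3_c45)) = (LP (LK LD1_c0 LD2_c15 LD3_c36)) :=
  Lre_b IH (LK LD1_c0 LD2_c34 LD3_c45) (LK LD1_c0 LD2_c15 LD3_c36) Lrfl Lrfl
theorem f3776 : Led Lsl_gt (LP (LK LD1_c0 LD2_c14 LD3_c53)) = (LP (LK LD1_c0 LD2_c33 LD3_c4)) :=
  Lre_g IH (LK LD1_c0 LD2_c14 LD3_c53) (LK LD1_c0 LD2_c33 LD3_c4) Lrfl Lrfl
theorem f3144 : Led Lsl_gt (LP (LK LD1_c0 LD2_c6 LD3_c52)) = (LP (LK LD1_c0 LD2_c3 LD3_c7)) :=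
  Lre_g IH (LK LD1_c0 LD2_c6 LD3_c52) (LK LD1_c0 LD2_c3 LD3_c7) Lrfl Lrfl
theorem f163686 : Led Lsl_ct (LP (LK LD1_c0 LD2_c14 LD3_c61)) = (LP (LK LD1_c0 LD2_c6 LD3_c52)) :=
  Lre_c IH (LK LD1_c0 LD2_c14 LD3_c61) (LK LD1_c0 LD2_c6 LD3_c52) Lrfl Lrfl
theorem f165867 : Led Lsl_gt (LP (LK LD1_c0 LD2_c15 LD3_c36)) = (LP (LK LD1_c0 LD2_c14 LD3_c61)) :=
  Lgr Lrot82 (Lpe (f32234 IH) (Lpr_ct (K1.f32097 IH) (Lpr_gf (f165857 IH) (Lpe (f3747 IH) (Lpr_bt (f3746 IH) (Lpe (f3776 IH) (Lpe (f3114 IH) (Lpr_ct (K8.f3115 IH) (Lpe (f3144 IH) (Lpe (f163686 IH) (Lpn (LP (LK LD1_c0 LD2_c14 LD3_c61)))))))))))))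
theorem f165870 : Led Lsl_gf (LP (LK LD1_c0 LD2_c7 LD3_c1)) = (LP (LK LD1_c0 LD2_c14 LD3_c61)) :=
  Lgr Lrot76 (Lpe (K1.f32244 IH) (Lpe (K1.f32237 IH) (Lpr_gt (f165867 IH) (Lpn (LP (LK LD1_c0 LD2_c14 LD3_c61))))))
theorem f31439 : Led Lsl_dt (LP (LK LD1_c0 LD2_c6 LD3_c37)) = (LP (LK LD1_c0 LD2_c14 LD3_c21)) :=
  Lre_d IH (LK LD1_c0 LD2_c6 LD3_c37) (LK LD1_c0 LD2_c14 LD3_c21) Lrfl Lrfl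
theorem f22475 : Led Lsl_et (LP (LK LD1_c0 LD2_c7 LD3_c37)) = (LP (LK LD1_c0 LD2_c17 LD3_c7)) :=
  Lre_e IH (LK LD1_c0 LD2_c7 LD3_c37) (LK LD1_c0 LD2_c17 LD3_c7) Lrfl Lrfl
theorem f37746 : Led Lsl_ef (LP (LK LD1_c0 LD2_c6 LD3_c45)) = (LP (LK LD1_c0 LD2_c14 LD3_c21)) :=
  Lgr Lrot21 (Lpr_ft (K1.f37741 IH) (Lpr_et (K1.f27195 IH) (Lpr_ft (K1.f27232 IH) (Lpe (K1.f36213 IH) (Lpr_ft (f31672 IH) (Lpn (LP (LK LD1_c0 LD2_c14 LD3_c21))))))))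
theorem f37949 : Led Lsl_ct (LP (LK LD1_c0 LD2_c17 LD3_c7)) = (LP (LK LD1_c0 LD2_c14 LD3_c21)) :=
  Lgr Lrot15 (Lpe (f22475 IH) (Lpr_cf (K1.f37939 IH) (Lpr_ef (f37746 IH) (Lpn (LP (LK LD1_c0 LD2_c14 LD3_c21))))))
theorem f163681 : Led Lsl_ct (LP (LK LD1_c0 LD2_c6 LD3_c52)) = (LP (LK LD1_c0 LD2_c14 LD3_c61)) :=
  Lre_c IH (LK LD1_c0 LD2_c6 LD3_c52) (LK LD1_c0 LD2_c14 LD3_c61) Lrfl Lrfl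
theorem f163677 : Led Lsl_gf (LP (LK LD1_c0 LD2_c6 LD3_c52)) = (LP (LK LD1_c0 LD2_c6 LD3_c61)) :=
  Lgr Lrot47 (Lpr_gt (f3144 IH) (Lpr_af (K8.f163664 IH) (Lpe (K8.f163663 IH) (Lpn (LP (LK LD1_c0 LD2_c6 LD3_c61))))))
theorem f20468 : Led Lsl_ft (LP (LK LD1_c0 LD2_c15 LD3_c24)) = (LP (LK LD1_c0 LD2_c6 LD3_c60)) :=
  Lre_f IH (LK LD1_c0 LD2_c15 LD3_c24) (LK LD1_c0 LD2_c6 LD3_c60) Lrfl Lrfl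
theorem f164117 : Led Lsl_af (LP (LK LD1_c0 LD2_c6 LD3_c53)) = (LP (LK LD1_c0 LD2_c6 LD3_c60)) :=
  Lgr Lrot109 (Lpe (K7.f3273 IH) (Lpe (K7.f3763 IH) (Lpe (K8.f53213 IH) (Lpr_df (K8.f164111 IH) (Lpe (K8.f163758 IH) (Lpe (K8.f163707 IH) (Lpe (K8.f163680 IH) (Lpe (K8.f163679 IH) (Lpr_ft (f20468 IH) (Lpn (LP (LK LD1_c0 LD2_c6 LD3_c60))))))))))))
theorem f3770 : Led Lsl_gt (LP (LK LD1_c0 LD2_c15 LD3_c3)) = (LP (LK LD1_c0 LD2_c6 LD3_c53)) :=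
  Lre_g IH (LK LD1_c0 LD2_c15 LD3_c3) (LK LD1_c0 LD2_c6 LD3_c53) Lrfl Lrfl
theorem f164170 : Led Lsl_gf (LP (LK LD1_c0 LD2_c15 LD3_c3)) = (LP (LK LD1_c0 LD2_c15 LD3_c24)) :=
  Lgr Lrot47 (Lpr_gt (f3770 IH) (Lpr_af (f164117 IH) (Lpe (f20468 IH) (Lpn (LP (LK LD1_c0 LD2_c15 LD3_c24))))))
theorem f21247 : Led Lsl_ct (LP (LK LD1_c0 LD2_c15 LD3_c3)) = (LP (LK LD1_c0 LD2_c33 LD3_c32)) :=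
  Lre_c IH (LK LD1_c0 LD2_c15 LD3_c3) (LK LD1_c0 LD2_c33 LD3_c32) Lrfl Lrfl
theorem f166118 : Led Lsl_gf (LP (LK LD1_c0 LD2_c17 LD3_c7)) = (LP (LK LD1_c0 LD2_c33 LD3_c32)) :=
  Lgr Lrot104 (Lpr_ct (f37949 IH) (Lpe (f31439 IH) (Lpe (K1.f28429 IH) (Lpr_gf (f165870 IH) (Lpe (f163681 IH) (Lpr_gf (f163677 IH) (Lpe (K8.f163679 IH) (Lpe (f164170 IH) (Lpr_ct (f21247 IH) (Lpn (LP (LK LD1_c0 LD2_c33 LD3_c32))))))))))))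
theorem f68585 : Led Lsl_dt (LP (LK LD1_c0 LD2_c17 LD3_c7)) = (LP (LK LD1_c0 LD2_c38 LD3_c25)) :=
  Lre_d IH (LK LD1_c0 LD2_c17 LD3_c7) (LK LD1_c0 LD2_c38 LD3_c25) Lrfl Lrfl
theorem f3127 : Led Lsl_gt (LP (LK LD1_c0 LD2_c3 LD3_c7)) = (LP (LK LD1_c0 LD2_c6 LD3_c51)) :=
  Lre_g IH (LK LD1_c0 LD2_c3 LD3_c7) (LK LD1_c0 LD2_c6 LD3_c51) Lrfl Lrfl
theorem f3128 : Led Lsl_dt (LP (LK LD1_c0 LD2_c6 LD3_c51)) = (LP (LK LD1_c0 LD2_c14 LD3_c60)) :=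
  Lre_d IH (LK LD1_c0 LD2_c6 LD3_c51) (LK LD1_c0 LD2_c14 LD3_c60) Lrfl Lrfl
theorem f164746 : Led Lsl_ct (LP (LK LD1_c0 LD2_c33 LD3_c23)) = (LP (LK LD1_c0 LD2_c14 LD3_c60)) :=
  Lre_c IH (LK LD1_c0 LD2_c33 LD3_c23) (LK LD1_c0 LD2_c14 LD3_c60) Lrfl Lrfl
theorem f164735 : Led Lsl_dt (LP (LK LD1_c1 LD2_c12 LD3_c10)) = (LP (LK LD1_c0 LD2_c33 LD3_c23)) :=
  Lre_d IH (LK LD1_c1 LD2_c12 LD3_c10) (LK LD1_c0 LD2_c33 LD3_c23) Lrfl Lrfl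
theorem f166162 : Led Lsl_gt (LP (LK LD1_c0 LD2_c38 LD3_c25)) = (LP (LK LD1_c1 LD2_c12 LD3_c10)) :=
  Lgr Lrot49 (Lpe (f68585 IH) (Lpr_gf (f166118 IH) (Lpe (f21247 IH) (Lpr_gt (f3770 IH) (Lpr_dt (K8.f3120 IH) (Lpr_gt (f3127 IH) (Lpr_dt (f3128 IH) (Lpe (f164746 IH) (Lpe (f164735 IH) (Lpn (LP (LK LD1_c1 LD2_c12 LD3_c10))))))))))))
theorem f71524 : Led Lsl_ft (LP (LK LD1_c0 LD2_c38 LD3_c25)) = (LP (LK LD1_c1 LD2_c23 LD3_c0)) :=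
  Lre_f IH (LK LD1_c0 LD2_c38 LD3_c25) (LK LD1_c1 LD2_c23 LD3_c0) Lrfl Lrfl
theorem f71280 : Led Lsl_dt (LP (LK LD1_c0 LD2_c38 LD3_c26)) = (LP (LK LD1_c1 LD2_c23 LD3_c0)) :=
  Lre_d IH (LK LD1_c0 LD2_c38 LD3_c26) (LK LD1_c1 LD2_c23 LD3_c0) Lrfl Lrfl
theorem f71495 : Led Lsl_at (LP (LK LD1_c1 LD2_c23 LD3_c0)) = (LP (LK LD1_c2 LD2_c15 LD3_c4)) :=
  Lgr Lrot51 (Lpe (f71280 IH) (Lpr_af (K2.f71490 IH) (Lpe (K2.f34994 IH) (Lpn (LP (LK LD1_c2 LD2_c15 LD3_c4))))))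
theorem f166171 : Led Lsl_gf (LP (LK LD1_c2 LD2_c15 LD3_c4)) = (LP (LK LD1_c1 LD2_c12 LD3_c10)) :=
  Lgr Lrot76 (Lpe (f71495 IH) (Lpe (f71524 IH) (Lpr_gt (f166162 IH) (Lpn (LP (LK LD1_c1 LD2_c12 LD3_c10))))))
theorem f35003 : Led Lsl_ct (LP (LK LD1_c2 LD2_c15 LD3_c4)) = (LP (LK LD1_c1 LD2_c14 LD3_c32)) :=
  Lgr Lrot59 (Lpr_cf (K2.f34996 IH) (Lpn (LP (LK LD1_c1 LD2_c14 LD3_c32))))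
theorem f31690 : Led Lsl_dt (LP (LK LD1_c1 LD2_c14 LD3_c32)) = (LP (LK LD1_c0 LD2_c34 LD3_c33)) :=
  Lre_d IH (LK LD1_c1 LD2_c14 LD3_c32) (LK LD1_c0 LD2_c34 LD3_c33) Lrfl Lrfl
theorem f31448 : Led Lsl_gt (LP (LK LD1_c0 LD2_c34 LD3_c32)) = (LP (LK LD1_c0 LD2_c15 LD3_c29)) :=
  Lre_g IH (LK LD1_c0 LD2_c34 LD3_c32) (LK LD1_c0 LD2_c15 LD3_c29) Lrfl Lrfl
theorem f32438 : Led Lsl_at (LP (LK LD1_c1 LD2_c14 LD3_c40)) = (LP (LK LD1_c0 LD2_c34 LD3_c44)) :=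
  Lre_a IH (LK LD1_c1 LD2_c14 LD3_c40) (LK LD1_c0 LD2_c34 LD3_c44) Lrfl Lrfl
theorem f32439 : Led Lsl_bt (LP (LK LD1_c0 LD2_c34 LD3_c44)) = (LP (LK LD1_c0 LD2_c15 LD3_c35)) :=
  Lre_b IH (LK LD1_c0 LD2_c34 LD3_c44) (LK LD1_c0 LD2_c15 LD3_c35) Lrfl Lrfl
theorem f32440 : Led Lsl_at (LP (LK LD1_c0 LD2_c34 LD3_c29)) = (LP (LK LD1_c1 LD2_c14 LD3_c13)) :=
  Lre_a IH (LK LD1_c0 LD2_c34 LD3_c29) (LK LD1_c1 LD2_c14 LD3_c13) Lrfl Lrfl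
theorem f32441 : Led Lsl_bt (LP (LK LD1_c0 LD2_c15 LD3_c29)) = (LP (LK LD1_c0 LD2_c34 LD3_c29)) :=
  Lre_b IH (LK LD1_c0 LD2_c15 LD3_c29) (LK LD1_c0 LD2_c34 LD3_c29) Lrfl Lrfl
theorem f32442 : Led Lsl_at (LP (LK LD1_c0 LD2_c15 LD3_c35)) = (LP (LK LD1_c0 LD2_c15 LD3_c29)) :=
  Lgr Lrot67 (Lpe (f32439 IH) (Lpe (f32438 IH) (Lpr_bf (K2.f32423 IH) (Lpe (f32440 IH) (Lpe (f32441 IH) (Lpn (LP (LK LD1_c0 LD2_c15 LD3_c29))))))))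
theorem f32243 : Led Lsl_ft (LP (LK LD1_c0 LD2_c34 LD3_c49)) = (LP (LK LD1_c0 LD2_c15 LD3_c35)) :=
  Lre_f IH (LK LD1_c0 LD2_c34 LD3_c49) (LK LD1_c0 LD2_c15 LD3_c35) Lrfl Lrfl
theorem f32853 : Led Lsl_gt (LP (LK LD1_c0 LD2_c34 LD3_c49)) = (LP (LK LD1_c0 LD2_c34 LD3_c32)) :=
  Lgr Lrot5 (Lpr_ft (f32243 IH) (Lpr_at (f32442 IH) (Lpe (f31448 IH) (Lpn (LP (LK LD1_c0 LD2_c34 LD3_c32))))))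
theorem f21389 : Led Lsl_gt (LP (LK LD1_c1 LD2_c11 LD3_c51)) = (LP (LK LD1_c0 LD2_c33 LD3_c15)) :=
  Lre_g IH (LK LD1_c1 LD2_c11 LD3_c51) (LK LD1_c0 LD2_c33 LD3_c15) Lrfl Lrfl
theorem f165872 : Led Lsl_ct (LP (LK LD1_c0 LD2_c34 LD3_c32)) = (LP (LK LD1_c1 LD2_c11 LD3_c51)) :=
  Lgr Lrot152 (Lpe (f32853 IH) (Lpe (K1.f32222 IH) (Lpr_gt (f165867 IH) (Lpr_ct (f163686 IH) (Lpr_gt (f3144 IH) (Lpr_ct (K8.f3113 IH) (Lpe (K0.f3134 IH) (Lpe (K8.f21380 IH) (Lpe (f21389 IH) (Lpn (LP (LK LD1_c1 LD2_c11 LD3_c51))))))))))))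
theorem f165885 : Led Lsl_cf (LP (LK LD1_c0 LD2_c34 LD3_c32)) = (LP (LK LD1_c1 LD2_c11 LD3_c51)) :=
  Lgr Lrot11 (Lpr_ct (f165872 IH) (Lpn (LP (LK LD1_c1 LD2_c11 LD3_c51))))
theorem f163782 : Led Lsl_af (LP (LK LD1_c0 LD2_c33 LD3_c15)) = (LP (LK LD1_c0 LD2_c33 LD3_c58)) :=
  Lgr Lrot0 (Lpr_at (K8.f163765 IH) (Lpn (LP (LK LD1_c0 LD2_c33 LD3_c58))))
theorem f165405 : Led Lsl_gf (LP (LK LD1_c1 LD2_c11 LD3_c51)) = (LP (LK LD1_c1 LD2_c13 LD3_c19)) :=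
  Lgr Lrot47 (Lpr_gt (f21389 IH) (Lpr_af (f163782 IH) (Lpe (K0.f21368 IH) (Lpn (LP (LK LD1_c1 LD2_c13 LD3_c19))))))
theorem f21419 : Led Lsl_gt (LP (LK LD1_c2 LD2_c29 LD3_c41)) = (LP (LK LD1_c1 LD2_c11 LD3_c53)) :=
  Lre_g IH (LK LD1_c2 LD2_c29 LD3_c41) (LK LD1_c1 LD2_c11 LD3_c53) Lrfl Lrfl
theorem f163732 : Led Lsl_ft (LP (LK LD1_c1 LD2_c12 LD3_c42)) = (LP (LK LD1_c0 LD2_c33 LD3_c37)) :=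
  Lre_f IH (LK LD1_c1 LD2_c12 LD3_c42) (LK LD1_c0 LD2_c33 LD3_c37) Lrfl Lrfl
theorem f163733 : Led Lsl_ft (LP (LK LD1_c1 LD2_c12 LD3_c40)) = (LP (LK LD1_c1 LD2_c13 LD3_c18)) :=
  Lgr Lrot4 (Lpe (f53212 IH) (Lpe (f163732 IH) (Lpr_cf (K8.f163718 IH) (Lpn (LP (LK LD1_c1 LD2_c13 LD3_c18))))))
theorem f163804 : Led Lsl_gf (LP (LK LD1_c2 LD2_c29 LD3_c41)) = (LP (LK LD1_c1 LD2_c12 LD3_c40)) :=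
  Lgr Lrot47 (Lpr_gt (f21419 IH) (Lpr_af (K8.f163786 IH) (Lpe (f163733 IH) (Lpn (LP (LK LD1_c1 LD2_c12 LD3_c40))))))
theorem f166199 : Led Lsl_ct (LP (LK LD1_c2 LD2_c29 LD3_c41)) = (LP (LK LD1_c1 LD2_c12 LD3_c10)) :=
  Lgr Lrot152 (Lpr_gf (f163804 IH) (Lpr_df (K8.f164111 IH) (Lpe (f165405 IH) (Lpe (f165885 IH) (Lpr_gt (f31448 IH) (Lpr_ct (K2.f32285 IH) (Lpe (f31690 IH) (Lpe (f35003 IH) (Lpr_gf (f166171 IH) (Lpn (LP (LK LD1_c1 LD2_c12 LD3_c10))))))))))))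
theorem f166244 : Led Lsl_cf (LP (LK LD1_c2 LD2_c29 LD3_c41)) = (LP (LK LD1_c1 LD2_c12 LD3_c10)) :=
  Lgr Lrot11 (Lpr_ct (f166199 IH) (Lpn (LP (LK LD1_c1 LD2_c12 LD3_c10))))
theorem f163646 : Led Lsl_ct (LP (LK LD1_c1 LD2_c11 LD3_c53)) = (LP (LK LD1_c1 LD2_c14 LD3_c5)) :=
  Lgr Lrot59 (Lpr_cf (K8.f163642 IH) (Lpn (LP (LK LD1_c1 LD2_c14 LD3_c5))))
theorem f163710 : Led Lsl_at (LP (LK LD1_c0 LD2_c15 LD3_c5)) = (LP (LK LD1_c0 LD2_c15 LD3_c24)) :=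
  Lgr Lrot100 (Lpr_af (K8.f163695 IH) (Lpn (LP (LK LD1_c0 LD2_c15 LD3_c24))))
theorem f3164 : Led Lsl_ft (LP (LK LD1_c0 LD2_c6 LD3_c53)) = (LP (LK LD1_c0 LD2_c15 LD3_c5)) :=
  Lre_f IH (LK LD1_c0 LD2_c6 LD3_c53) (LK LD1_c0 LD2_c15 LD3_c5) Lrfl Lrfl
theorem f3769 : Led Lsl_gt (LP (LK LD1_c0 LD2_c6 LD3_c53)) = (LP (LK LD1_c0 LD2_c15 LD3_c2)) :=
  Lre_g IH (LK LD1_c0 LD2_c6 LD3_c53) (LK LD1_c0 LD2_c15 LD3_c2) Lrfl Lrfl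
theorem f165471 : Led Lsl_gt (LP (LK LD1_c0 LD2_c15 LD3_c2)) = (LP (LK LD1_c0 LD2_c15 LD3_c24)) :=
  Lgr Lrot46 (Lpe (f3769 IH) (Lpr_ft (f3164 IH) (Lpr_at (f163710 IH) (Lpn (LP (LK LD1_c0 LD2_c15 LD3_c24))))))
theorem f165473 : Led Lsl_ct (LP (LK LD1_c0 LD2_c33 LD3_c30)) = (LP (LK LD1_c0 LD2_c15 LD3_c2)) :=
  Lre_c IH (LK LD1_c0 LD2_c33 LD3_c30) (LK LD1_c0 LD2_c15 LD3_c2) Lrfl Lrfl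
theorem f166367 : Led Lsl_gf (LP (LK LD1_c0 LD2_c33 LD3_c30)) = (LP (LK LD1_c0 LD2_c17 LD3_c7)) :=
  Lgr Lrot147 (Lpr_ct (f165473 IH) (Lpr_gt (f165471 IH) (Lpr_ct (K8.f163648 IH) (Lpe (K8.f163702 IH) (Lpe (f163646 IH) (Lpe (f21419 IH) (Lpr_cf (f166244 IH) (Lpe (f166162 IH) (Lpe (f68585 IH) (Lpn (LP (LK LD1_c0 LD2_c17 LD3_c7))))))))))))
theorem f71305 : Led Lsl_ft (LP (LK LD1_c0 LD2_c17 LD3_c7)) = (LP (LK LD1_c0 LD2_c38 LD3_c26)) :=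
  Lre_f IH (LK LD1_c0 LD2_c17 LD3_c7) (LK LD1_c0 LD2_c38 LD3_c26) Lrfl Lrfl
theorem f71484 : Led Lsl_at (LP (LK LD1_c0 LD2_c38 LD3_c26)) = (LP (LK LD1_c1 LD2_c4 LD3_c39)) :=
  Lgr Lrot107 (Lpr_cf (K2.f71479 IH) (Lpe (f31665 IH) (Lpe (K2.f34920 IH) (Lpn (LP (LK LD1_c1 LD2_c4 LD3_c39))))))
theorem f166370 : Led Lsl_gt (LP (LK LD1_c0 LD2_c33 LD3_c30)) = (LP (LK LD1_c1 LD2_c4 LD3_c39)) :=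
  Lgr Lrot46 (Lpr_gf (f166367 IH) (Lpr_ft (f71305 IH) (Lpr_at (f71484 IH) (Lpn (LP (LK LD1_c1 LD2_c4 LD3_c39))))))
theorem f3773 : Led Lsl_ct (LP (LK LD1_c0 LD2_c15 LD3_c2)) = (LP (LK LD1_c0 LD2_c33 LD3_c30)) :=
  Lre_c IH (LK LD1_c0 LD2_c15 LD3_c2) (LK LD1_c0 LD2_c33 LD3_c30) Lrfl Lrfl
theorem f3121 : Led Lsl_bt (LP (LK LD1_c0 LD2_c6 LD3_c53)) = (LP (LK LD1_c0 LD2_c6 LD3_c53)) :=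
  Lgr Lrot95 (Lpe (K7.f3119 IH) (Lpr_bf (K0.f3111 IH) (Lpe (K8.f3120 IH) (Lpn (LP (LK LD1_c0 LD2_c6 LD3_c53))))))
theorem f53206 : Led Lsl_bt (LP (LK LD1_c0 LD2_c26 LD3_c42)) = (LP (LK LD1_c0 LD2_c58 LD3_c36)) :=
  Lre_b IH (LK LD1_c0 LD2_c26 LD3_c42) (LK LD1_c0 LD2_c58 LD3_c36) Lrfl Lrfl
theorem f166415 : Led Lsl_gf (LP (LK LD1_c0 LD2_c58 LD3_c36)) = (LP (LK LD1_c1 LD2_c0 LD3_c53)) :=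
  Lgr Lrot124 (Lpe (f53206 IH) (Lpe (f53186 IH) (Lpr_gt (f3298 IH) (Lpe (K8.f3274 IH) (Lpr_bt (f3121 IH) (Lpr_gt (f3769 IH) (Lpr_ct (f3773 IH) (Lpr_gt (f166370 IH) (Lpr_cf (K2.f34992 IH) (Lpr_bt (K2.f32013 IH) (Lpn (LP (LK LD1_c1 LD2_c0 LD3_c53)))))))))))))
theorem f34775 : Led Lsl_ft (LP (LK LD1_c1 LD2_c0 LD3_c53)) = (LP (LK LD1_c0 LD2_c27 LD3_c44)) :=
  Lre_f IH (LK LD1_c1 LD2_c0 LD3_c53) (LK LD1_c0 LD2_c27 LD3_c44) Lrfl Lrfl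
theorem f31702 : Led Lsl_at (LP (LK LD1_c0 LD2_c27 LD3_c44)) = (LP (LK LD1_c0 LD2_c27 LD3_c49)) :=
  Lgr Lrot51 (Lpe (K0.f28464 IH) (Lpr_af (K0.f31685 IH) (Lpe (K0.f27888 IH) (Lpn (LP (LK LD1_c0 LD2_c27 LD3_c49))))))
theorem f166417 : Led Lsl_gt (LP (LK LD1_c0 LD2_c58 LD3_c36)) = (LP (LK LD1_c0 LD2_c27 LD3_c49)) :=
  Lgr Lrot46 (Lpr_gf (f166415 IH) (Lpr_ft (f34775 IH) (Lpr_at (f31702 IH) (Lpn (LP (LK LD1_c0 LD2_c27 LD3_c49))))))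
theorem f53247 : Led Lsl_dt (LP (LK LD1_c0 LD2_c26 LD3_c34)) = (LP (LK LD1_c0 LD2_c58 LD3_c36)) :=
  Lre_d IH (LK LD1_c0 LD2_c26 LD3_c34) (LK LD1_c0 LD2_c58 LD3_c36) Lrfl Lrfl
theorem f166421 : Led Lsl_et (LP (LK LD1_c0 LD2_c26 LD3_c34)) = (LP (LK LD1_c0 LD2_c11 LD3_c47)) :=
  Lre_e IH (LK LD1_c0 LD2_c26 LD3_c34) (LK LD1_c0 LD2_c11 LD3_c47) Lrfl Lrfl
theorem f27824 : Led Lsl_dt (LP (LK LD1_c0 LD2_c12 LD3_c18)) = (LP (LK LD1_c0 LD2_c27 LD3_c49)) :=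
  Lre_d IH (LK LD1_c0 LD2_c12 LD3_c18) (LK LD1_c0 LD2_c27 LD3_c49) Lrfl Lrfl
theorem f27492 : Led Lsl_et (LP (LK LD1_c0 LD2_c2 LD3_c31)) = (LP (LK LD1_c0 LD2_c5 LD3_c32)) :=
  Lre_e IH (LK LD1_c0 LD2_c2 LD3_c31) (LK LD1_c0 LD2_c5 LD3_c32) Lrfl Lrfl
theorem f166429 : Led Lsl_gf (LP (LK LD1_c0 LD2_c11 LD3_c47)) = (LP (LK LD1_c0 LD2_c5 LD3_c32)) :=
  Lgr Lrot141 (Lpe (f166421 IH) (Lpr_dt (f53247 IH) (Lpr_gt (f166417 IH) (Lpe (f27824 IH) (Lpr_et (K0.f27823 IH) (Lpr_gt (K0.f16674 IH) (Lpr_dt (K0.f16671 IH) (Lpr_gt (K0.f27810 IH) (Lpe (K0.f27537 IH) (Lpr_et (f27492 IH) (Lpn (LP (LK LD1_c0 LD2_c5 LD3_c32)))))))))))))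
theorem f166441 : Led Lsl_bt (LP (LK LD1_c0 LD2_c5 LD3_c26)) = (LP (LK LD1_c0 LD2_c11 LD3_c47)) :=
  Lre_b IH (LK LD1_c0 LD2_c5 LD3_c26) (LK LD1_c0 LD2_c11 LD3_c47) Lrfl Lrfl
theorem f51596 : Led Lsl_ct (LP (LK LD1_c0 LD2_c5 LD3_c26)) = (LP (LK LD1_c0 LD2_c11 LD3_c48)) :=
  Lre_c IH (LK LD1_c0 LD2_c5 LD3_c26) (LK LD1_c0 LD2_c11 LD3_c48) Lrfl Lrfl
theorem f7994 : Led Lsl_bt (LP (LK LD1_c0 LD2_c2 LD3_c33)) = (LP (LK LD1_c0 LD2_c5 LD3_c32)) :=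
  Lre_b IH (LK LD1_c0 LD2_c2 LD3_c33) (LK LD1_c0 LD2_c5 LD3_c32) Lrfl Lrfl
theorem f6823 : Led Lsl_ct (LP (LK LD1_c0 LD2_c2 LD3_c33)) = (LP (LK LD1_c0 LD2_c5 LD3_c34)) :=
  Lre_c IH (LK LD1_c0 LD2_c2 LD3_c33) (LK LD1_c0 LD2_c5 LD3_c34) Lrfl Lrfl
theorem f166442 : Led Lsl_gt (LP (LK LD1_c0 LD2_c11 LD3_c48)) = (LP (LK LD1_c0 LD2_c13 LD3_c61)) :=
  Lgr Lrot65 (Lpe (f51596 IH) (Lpr_bt (f166441 IH) (Lpr_gf (f166429 IH) (Lpe (f7994 IH) (Lpr_ct (f6823 IH) (Lpe (K0.f495 IH) (Lpr_cf (K0.f7908 IH) (Lpe (K0.f3083 IH) (Lpe (K0.f1702 IH) (Lpr_ct (K0.f278 IH) (Lpn (LP (LK LD1_c0 LD2_c13 LD3_c61)))))))))))))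
theorem f2153 : Led Lsl_af (LP (LK LD1_c0 LD2_c13 LD3_c61)) = (LP (LK LD1_c0 LD2_c14 LD3_c13)) :=
  Lgr Lrot68 (Lpr_ct (K0.f281 IH) (Lpr_at (K0.f2136 IH) (Lpr_ct (K0.f2144 IH) (Lpn (LP (LK LD1_c0 LD2_c14 LD3_c13))))))
theorem f2264 : Led Lsl_ft (LP (LK LD1_c0 LD2_c6 LD3_c32)) = (LP (LK LD1_c0 LD2_c14 LD3_c13)) :=
  Lre_f IH (LK LD1_c0 LD2_c6 LD3_c32) (LK LD1_c0 LD2_c14 LD3_c13) Lrfl Lrfl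
theorem f166464 : Led Lsl_gf (LP (LK LD1_c0 LD2_c11 LD3_c48)) = (LP (LK LD1_c0 LD2_c6 LD3_c32)) :=
  Lgr Lrot47 (Lpr_gt (f166442 IH) (Lpr_af (f2153 IH) (Lpe (f2264 IH) (Lpn (LP (LK LD1_c0 LD2_c6 LD3_c32))))))
theorem f51598 : Led Lsl_ct (LP (LK LD1_c0 LD2_c11 LD3_c48)) = (LP (LK LD1_c0 LD2_c5 LD3_c26)) :=
  Lre_c IH (LK LD1_c0 LD2_c11 LD3_c48) (LK LD1_c0 LD2_c5 LD3_c26) Lrfl Lrfl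
theorem f1397 : Led Lsl_ft (LP (LK LD1_c0 LD2_c26 LD3_c30)) = (LP (LK LD1_c0 LD2_c58 LD3_c29)) :=
  Lre_f IH (LK LD1_c0 LD2_c26 LD3_c30) (LK LD1_c0 LD2_c58 LD3_c29) Lrfl Lrfl
theorem f51559 : Led Lsl_af (LP (LK LD1_c0 LD2_c58 LD3_c28)) = (LP (LK LD1_c0 LD2_c58 LD3_c29)) :=
  Lgr Lrot109 (Lpr_cf (f51542 IH) (Lpe (K0.f27338 IH) (Lpe (f27350 IH) (Lpr_df (f8000 IH) (Lpe (f27349 IH) (Lpe (K0.f27339 IH) (Lpe (f51550 IH) (Lpe (f1125 IH) (Lpr_ft (f1397 IH) (Lpn (LP (LK LD1_c0 LD2_c58 LD3_c29))))))))))))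
theorem f1399 : Led Lsl_gt (LP (LK LD1_c0 LD2_c26 LD3_c30)) = (LP (LK LD1_c0 LD2_c58 LD3_c25)) :=
  Lre_g IH (LK LD1_c0 LD2_c26 LD3_c30) (LK LD1_c0 LD2_c58 LD3_c25) Lrfl Lrfl
theorem f53144 : Led Lsl_gf (LP (LK LD1_c0 LD2_c58 LD3_c28)) = (LP (LK LD1_c0 LD2_c58 LD3_c25)) :=
  Lgr Lrot76 (Lpr_af (f51559 IH) (Lpe (f1397 IH) (Lpr_gt (f1399 IH) (Lpn (LP (LK LD1_c0 LD2_c58 LD3_c25))))))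
theorem f2864 : Led Lsl_gt (LP (LK LD1_c0 LD2_c14 LD3_c12)) = (LP (LK LD1_c0 LD2_c31 LD3_c53)) :=
  Lre_g IH (LK LD1_c0 LD2_c14 LD3_c12) (LK LD1_c0 LD2_c31 LD3_c53) Lrfl Lrfl
theorem f166994 : Led Lsl_cf (LP (LK LD1_c0 LD2_c58 LD3_c25)) = (LP (LK LD1_c0 LD2_c31 LD3_c53)) :=
  Lgr Lrot169 (Lpe (f53144 IH) (Lpr_ct (f51550 IH) (Lpe (K0.f27338 IH) (Lpe (f27350 IH) (Lpe (f51594 IH) (Lpe (f51598 IH) (Lpr_gf (f166464 IH) (Lpe (K0.f1672 IH) (Lpr_gt (f2864 IH) (Lpn (LP (LK LD1_c0 LD2_c31 LD3_c53))))))))))))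
theorem f167000 : Led Lsl_ct (LP (LK LD1_c0 LD2_c58 LD3_c25)) = (LP (LK LD1_c0 LD2_c31 LD3_c53)) :=
  Lgr Lrot59 (Lpr_cf (f166994 IH) (Lpn (LP (LK LD1_c0 LD2_c31 LD3_c53))))
theorem f51590 : Led Lsl_af (LP (LK LD1_c0 LD2_c5 LD3_c28)) = (LP (LK LD1_c0 LD2_c5 LD3_c37)) :=
  Lgr Lrot0 (Lpr_at (f51571 IH) (Lpn (LP (LK LD1_c0 LD2_c5 LD3_c37))))
theorem f51592 : Led Lsl_df (LP (LK LD1_c0 LD2_c5 LD3_c28)) = (LP (LK LD1_c0 LD2_c5 LD3_c28)) :=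
  Lgr Lrot18 (Lpr_at (f51571 IH) (Lpe (f8000 IH) (Lpe (f51590 IH) (Lpn (LP (LK LD1_c0 LD2_c5 LD3_c28))))))
theorem f27316 : Led Lsl_ct (LP (LK LD1_c0 LD2_c5 LD3_c28)) = (LP (LK LD1_c0 LD2_c11 LD3_c46)) :=
  Lre_c IH (LK LD1_c0 LD2_c5 LD3_c28) (LK LD1_c0 LD2_c11 LD3_c46) Lrfl Lrfl
theorem f51607 : Led Lsl_ct (LP (LK LD1_c0 LD2_c26 LD3_c31)) = (LP (LK LD1_c0 LD2_c58 LD3_c29)) :=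
  Lre_c IH (LK LD1_c0 LD2_c26 LD3_c31) (LK LD1_c0 LD2_c58 LD3_c29) Lrfl Lrfl
theorem f27317 : Led Lsl_ct (LP (LK LD1_c0 LD2_c11 LD3_c46)) = (LP (LK LD1_c0 LD2_c5 LD3_c28)) :=
  Lre_c IH (LK LD1_c0 LD2_c11 LD3_c46) (LK LD1_c0 LD2_c5 LD3_c28) Lrfl Lrfl
theorem f51534 : Led Lsl_at (LP (LK LD1_c0 LD2_c11 LD3_c45)) = (LP (LK LD1_c0 LD2_c12 LD3_c6)) :=
  Lgr Lrot100 (Lpr_af (f51516 IH) (Lpn (LP (LK LD1_c0 LD2_c12 LD3_c6))))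
theorem f1120 : Led Lsl_ct (LP (LK LD1_c0 LD2_c27 LD3_c21)) = (LP (LK LD1_c0 LD2_c12 LD3_c6)) :=
  Lre_c IH (LK LD1_c0 LD2_c27 LD3_c21) (LK LD1_c0 LD2_c12 LD3_c6) Lrfl Lrfl
theorem f51613 : Led Lsl_dt (LP (LK LD1_c0 LD2_c58 LD3_c29)) = (LP (LK LD1_c0 LD2_c27 LD3_c21)) :=
  Lgr Lrot120 (Lpe (f51607 IH) (Lpe (K0.f27321 IH) (Lpe (f27316 IH) (Lpr_df (f51592 IH) (Lpe (f27317 IH) (Lpe (K0.f27320 IH) (Lpr_ft (K0.f511 IH) (Lpr_at (f51534 IH) (Lpe (f1120 IH) (Lpn (LP (LK LD1_c0 LD2_c27 LD3_c21))))))))))))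
theorem f47729 : Led Lsl_ct (LP (LK LD1_c0 LD2_c58 LD3_c29)) = (LP (LK LD1_c0 LD2_c26 LD3_c31)) :=
  Lre_c IH (LK LD1_c0 LD2_c58 LD3_c29) (LK LD1_c0 LD2_c26 LD3_c31) Lrfl Lrfl
theorem f51544 : Led Lsl_at (LP (LK LD1_c0 LD2_c58 LD3_c28)) = (LP (LK LD1_c0 LD2_c58 LD3_c29)) :=
  Lgr Lrot107 (Lpr_cf (f51542 IH) (Lpe (f51498 IH) (Lpe (f47729 IH) (Lpn (LP (LK LD1_c0 LD2_c58 LD3_c29))))))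
theorem f51619 : Led Lsl_af (LP (LK LD1_c0 LD2_c26 LD3_c30)) = (LP (LK LD1_c0 LD2_c27 LD3_c21)) :=
  Lgr Lrot117 (Lpr_dt (f1125 IH) (Lpr_at (f51544 IH) (Lpr_dt (f51613 IH) (Lpn (LP (LK LD1_c0 LD2_c27 LD3_c21))))))
theorem f1401 : Led Lsl_gt (LP (LK LD1_c0 LD2_c58 LD3_c26)) = (LP (LK LD1_c0 LD2_c26 LD3_c30)) :=
  Lre_g IH (LK LD1_c0 LD2_c58 LD3_c26) (LK LD1_c0 LD2_c26 LD3_c30) Lrfl Lrfl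
theorem f51557 : Led Lsl_ft (LP (LK LD1_c0 LD2_c58 LD3_c28)) = (LP (LK LD1_c0 LD2_c27 LD3_c21)) :=
  Lgr Lrot4 (Lpr_cf (f51542 IH) (Lpe (K0.f513 IH) (Lpe (f1120 IH) (Lpn (LP (LK LD1_c0 LD2_c27 LD3_c21))))))
theorem f52223 : Led Lsl_gf (LP (LK LD1_c0 LD2_c58 LD3_c26)) = (LP (LK LD1_c0 LD2_c58 LD3_c28)) :=
  Lgr Lrot47 (Lpr_gt (f1401 IH) (Lpr_af (f51619 IH) (Lpe (f51557 IH) (Lpn (LP (LK LD1_c0 LD2_c58 LD3_c28))))))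
theorem f2172 : Led Lsl_dt (LP (LK LD1_c0 LD2_c14 LD3_c13)) = (LP (LK LD1_c0 LD2_c31 LD3_c56)) :=
  Lre_d IH (LK LD1_c0 LD2_c14 LD3_c13) (LK LD1_c0 LD2_c31 LD3_c56) Lrfl Lrfl
theorem f2192 : Led Lsl_af (LP (LK LD1_c0 LD2_c31 LD3_c34)) = (LP (LK LD1_c0 LD2_c31 LD3_c56)) :=
  Lgr Lrot117 (Lpr_dt (K0.f282 IH) (Lpr_at (K0.f2186 IH) (Lpr_dt (f2172 IH) (Lpn (LP (LK LD1_c0 LD2_c31 LD3_c56))))))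
theorem f2212 : Led Lsl_ft (LP (LK LD1_c0 LD2_c14 LD3_c12)) = (LP (LK LD1_c0 LD2_c31 LD3_c56)) :=
  Lre_f IH (LK LD1_c0 LD2_c14 LD3_c12) (LK LD1_c0 LD2_c31 LD3_c56) Lrfl Lrfl
theorem f2865 : Led Lsl_gf (LP (LK LD1_c0 LD2_c31 LD3_c34)) = (LP (LK LD1_c0 LD2_c31 LD3_c53)) :=
  Lgr Lrot76 (Lpr_af (f2192 IH) (Lpe (f2212 IH) (Lpr_gt (f2864 IH) (Lpn (LP (LK LD1_c0 LD2_c31 LD3_c53))))))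
theorem f2213 : Led Lsl_gt (LP (LK LD1_c0 LD2_c31 LD3_c54)) = (LP (LK LD1_c0 LD2_c14 LD3_c12)) :=
  Lre_g IH (LK LD1_c0 LD2_c31 LD3_c54) (LK LD1_c0 LD2_c14 LD3_c12) Lrfl Lrfl
theorem f167032 : Led Lsl_ct (LP (LK LD1_c0 LD2_c58 LD3_c26)) = (LP (LK LD1_c0 LD2_c31 LD3_c54)) :=
  Lgr Lrot152 (Lpr_gf (f52223 IH) (Lpe (f1125 IH) (Lpr_gt (f1399 IH) (Lpr_ct (f167000 IH) (Lpe (f2865 IH) (Lpr_ct (K0.f280 IH) (Lpr_df (K0.f2226 IH) (Lpe (K0.f2178 IH) (Lpe (f2213 IH) (Lpn (LP (LK LD1_c0 LD2_c31 LD3_c54))))))))))))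
theorem f167044 : Led Lsl_cf (LP (LK LD1_c0 LD2_c58 LD3_c26)) = (LP (LK LD1_c0 LD2_c31 LD3_c54)) :=
  Lgr Lrot11 (Lpr_ct (f167032 IH) (Lpn (LP (LK LD1_c0 LD2_c31 LD3_c54))))
theorem f582 : Led Lsl_bt (LP (LK LD1_c0 LD2_c11 LD3_c45)) = (LP (LK LD1_c0 LD2_c26 LD3_c20)) :=
  Lre_b IH (LK LD1_c0 LD2_c11 LD3_c45) (LK LD1_c0 LD2_c26 LD3_c20) Lrfl Lrfl
theorem f1404 : Led Lsl_gt (LP (LK LD1_c0 LD2_c26 LD3_c20)) = (LP (LK LD1_c0 LD2_c57 LD3_c59)) :=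
  Lre_g IH (LK LD1_c0 LD2_c26 LD3_c20) (LK LD1_c0 LD2_c57 LD3_c59) Lrfl Lrfl
theorem f53421 : Led Lsl_bt (LP (LK LD1_c2 LD2_c1 LD3_c60)) = (LP (LK LD1_c0 LD2_c57 LD3_c59)) :=
  Lre_b IH (LK LD1_c2 LD2_c1 LD3_c60) (LK LD1_c0 LD2_c57 LD3_c59) Lrfl Lrfl
theorem f53422 : Led Lsl_ct (LP (LK LD1_c2 LD2_c1 LD3_c60)) = (LP (LK LD1_c4 LD2_c9 LD3_c15)) :=
  Lre_c IH (LK LD1_c2 LD2_c1 LD3_c60) (LK LD1_c4 LD2_c9 LD3_c15) Lrfl Lrfl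
theorem f2214 : Led Lsl_gt (LP (LK LD1_c0 LD2_c31 LD3_c34)) = (LP (LK LD1_c0 LD2_c31 LD3_c54)) :=
  Lgr Lrot5 (Lpr_ft (K0.f284 IH) (Lpr_at (K0.f2201 IH) (Lpe (f2213 IH) (Lpn (LP (LK LD1_c0 LD2_c31 LD3_c54))))))
theorem f2858 : Led Lsl_bt (LP (LK LD1_c1 LD2_c8 LD3_c58)) = (LP (LK LD1_c0 LD2_c31 LD3_c34)) :=
  Lre_b IH (LK LD1_c1 LD2_c8 LD3_c58) (LK LD1_c0 LD2_c31 LD3_c34) Lrfl Lrfl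
theorem f167238 : Led Lsl_gt (LP (LK LD1_c4 LD2_c9 LD3_c15)) = (LP (LK LD1_c2 LD2_c23 LD3_c47)) :=
  Lgr Lrot65 (Lpe (f53422 IH) (Lpr_bt (f53421 IH) (Lpe (f1404 IH) (Lpe (f582 IH) (Lpr_ct (f1119 IH) (Lpe (f1401 IH) (Lpr_cf (f167044 IH) (Lpe (f2214 IH) (Lpe (f2858 IH) (Lpr_ct (K0.f1715 IH) (Lpn (LP (LK LD1_c2 LD2_c23 LD3_c47)))))))))))))
theorem f1723 : Led Lsl_at (LP (LK LD1_c4 LD2_c50 LD3_c60)) = (LP (LK LD1_c2 LD2_c23 LD3_c47)) :=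
  Lre_a IH (LK LD1_c4 LD2_c50 LD3_c60) (LK LD1_c2 LD2_c23 LD3_c47) Lrfl Lrfl
theorem f167255 : Led Lsl_gf (LP (LK LD1_c4 LD2_c9 LD3_c15)) = (LP (LK LD1_c2 LD2_c23 LD3_c18)) :=
  Lgr Lrot47 (Lpr_gt (f167238 IH) (Lpe (f1723 IH) (Lpe (K1.f1724 IH) (Lpn (LP (LK LD1_c2 LD2_c23 LD3_c18))))))
theorem f51460 : Led Lsl_gt (LP (LK LD1_c0 LD2_c57 LD3_c59)) = (LP (LK LD1_c2 LD2_c1 LD3_c35)) :=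
  Lre_g IH (LK LD1_c0 LD2_c57 LD3_c59) (LK LD1_c2 LD2_c1 LD3_c35) Lrfl Lrfl
theorem f50516 : Led Lsl_ct (LP (LK LD1_c2 LD2_c1 LD3_c35)) = (LP (LK LD1_c4 LD2_c8 LD3_c26)) :=
  Lre_c IH (LK LD1_c2 LD2_c1 LD3_c35) (LK LD1_c4 LD2_c8 LD3_c26) Lrfl Lrfl
theorem f51486 : Led Lsl_gt (LP (LK LD1_c4 LD2_c8 LD3_c26)) = (LP (LK LD1_c2 LD2_c2 LD3_c7)) :=
  Lre_g IH (LK LD1_c4 LD2_c8 LD3_c26) (LK LD1_c2 LD2_c2 LD3_c7) Lrfl Lrfl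
theorem f29202 : Led Lsl_ct (LP (LK LD1_c4 LD2_c0 LD3_c21)) = (LP (LK LD1_c8 LD2_c1 LD3_c40)) :=
  Lre_c IH (LK LD1_c4 LD2_c0 LD3_c21) (LK LD1_c8 LD2_c1 LD3_c40) Lrfl Lrfl
theorem f1575 : Led Lsl_ct (LP (LK LD1_c9 LD2_c34 LD3_c4)) = (LP (LK LD1_c4 LD2_c50 LD3_c61)) :=
  Lre_c IH (LK LD1_c9 LD2_c34 LD3_c4) (LK LD1_c4 LD2_c50 LD3_c61) Lrfl Lrfl
theorem f29790 : Led Lsl_ff (LP (LK LD1_c4 LD2_c0 LD3_c21)) = (LP (LK LD1_c4 LD2_c50 LD3_c61)) :=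
  Lgr Lrot23 (Lpr_ct (f29202 IH) (Lpr_ft (K1.f29783 IH) (Lpr_ct (f1575 IH) (Lpn (LP (LK LD1_c4 LD2_c50 LD3_c61))))))
theorem f29792 : Led Lsl_at (LP (LK LD1_c4 LD2_c0 LD3_c21)) = (LP (LK LD1_c2 LD2_c24 LD3_c26)) :=
  Lgr Lrot66 (Lpr_ff (f29790 IH) (Lpe (K0.f1541 IH) (Lpr_ff (K1.f2447 IH) (Lpn (LP (LK LD1_c2 LD2_c24 LD3_c26))))))
theorem f29801 : Led Lsl_bf (LP (LK LD1_c4 LD2_c0 LD3_c21)) = (LP (LK LD1_c4 LD2_c50 LD3_c61)) :=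
  Lgr Lrot81 (Lpr_at (f29792 IH) (Lpr_bt (K0.f2395 IH) (Lpe (K0.f2389 IH) (Lpr_bt (K0.f1531 IH) (Lpr_at (K0.f1541 IH) (Lpn (LP (LK LD1_c4 LD2_c50 LD3_c61))))))))
theorem f29196 : Led Lsl_et (LP (LK LD1_c4 LD2_c0 LD3_c21)) = (LP (LK LD1_c1 LD2_c56 LD3_c57)) :=
  Lre_e IH (LK LD1_c4 LD2_c0 LD3_c21) (LK LD1_c1 LD2_c56 LD3_c57) Lrfl Lrfl
theorem f29805 : Led Lsl_bt (LP (LK LD1_c1 LD2_c56 LD3_c57)) = (LP (LK LD1_c2 LD2_c23 LD3_c19)) :=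
  Lgr Lrot119 (Lpe (f29196 IH) (Lpr_bf (f29801 IH) (Lpe (K0.f1577 IH) (Lpn (LP (LK LD1_c2 LD2_c23 LD3_c19))))))
theorem f1925 : Led Lsl_ft (LP (LK LD1_c2 LD2_c23 LD3_c19)) = (LP (LK LD1_c1 LD2_c8 LD3_c45)) :=
  Lre_f IH (LK LD1_c2 LD2_c23 LD3_c19) (LK LD1_c1 LD2_c8 LD3_c45) Lrfl Lrfl
theorem f29809 : Led Lsl_bf (LP (LK LD1_c0 LD2_c55 LD3_c14)) = (LP (LK LD1_c1 LD2_c8 LD3_c45)) :=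
  Lgr Lrot61 (Lpr_ft (K1.f29595 IH) (Lpr_bt (f29805 IH) (Lpr_ft (f1925 IH) (Lpn (LP (LK LD1_c1 LD2_c8 LD3_c45))))))
theorem f29652 : Led Lsl_gt (LP (LK LD1_c1 LD2_c56 LD3_c55)) = (LP (LK LD1_c0 LD2_c55 LD3_c14)) :=
  Lre_g IH (LK LD1_c1 LD2_c56 LD3_c55) (LK LD1_c0 LD2_c55 LD3_c14) Lrfl Lrfl
theorem f29655 : Led Lsl_bt (LP (LK LD1_c4 LD2_c0 LD3_c16)) = (LP (LK LD1_c1 LD2_c56 LD3_c55)) :=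
  Lre_b IH (LK LD1_c4 LD2_c0 LD3_c16) (LK LD1_c1 LD2_c56 LD3_c55) Lrfl Lrfl
theorem f167273 : Led Lsl_cf (LP (LK LD1_c2 LD2_c2 LD3_c7)) = (LP (LK LD1_c4 LD2_c0 LD3_c16)) :=
  Lgr Lrot163 (Lpe (f51486 IH) (Lpe (f50516 IH) (Lpe (f51460 IH) (Lpe (f53421 IH) (Lpr_ct (f53422 IH) (Lpr_gf (f167255 IH) (Lpe (K0.f1719 IH) (Lpe (f29809 IH) (Lpe (f29652 IH) (Lpe (f29655 IH) (Lpn (LP (LK LD1_c4 LD2_c0 LD3_c16)))))))))))))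
theorem f1318 : Led Lsl_gt (LP (LK LD1_c2 LD2_c2 LD3_c7)) = (LP (LK LD1_c0 LD2_c57 LD3_c61)) :=
  Lre_g IH (LK LD1_c2 LD2_c2 LD3_c7) (LK LD1_c0 LD2_c57 LD3_c61) Lrfl Lrfl
theorem f1032 : Led Lsl_ct (LP (LK LD1_c0 LD2_c26 LD3_c20)) = (LP (LK LD1_c0 LD2_c57 LD3_c61)) :=
  Lre_c IH (LK LD1_c0 LD2_c26 LD3_c20) (LK LD1_c0 LD2_c57 LD3_c61) Lrfl Lrfl
theorem f501 : Led Lsl_bt (LP (LK LD1_c0 LD2_c26 LD3_c20)) = (LP (LK LD1_c0 LD2_c11 LD3_c45)) :=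
  Lre_b IH (LK LD1_c0 LD2_c26 LD3_c20) (LK LD1_c0 LD2_c11 LD3_c45) Lrfl Lrfl
theorem f1386 : Led Lsl_gt (LP (LK LD1_c0 LD2_c11 LD3_c45)) = (LP (LK LD1_c0 LD2_c26 LD3_c28)) :=
  Lre_g IH (LK LD1_c0 LD2_c11 LD3_c45) (LK LD1_c0 LD2_c26 LD3_c28) Lrfl Lrfl
theorem f51521 : Led Lsl_ct (LP (LK LD1_c0 LD2_c26 LD3_c28)) = (LP (LK LD1_c0 LD2_c58 LD3_c20)) :=
  Lre_c IH (LK LD1_c0 LD2_c26 LD3_c28) (LK LD1_c0 LD2_c58 LD3_c20) Lrfl Lrfl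
theorem f29653 : Led Lsl_gt (LP (LK LD1_c1 LD2_c9 LD3_c21)) = (LP (LK LD1_c1 LD2_c56 LD3_c55)) :=
  Lgr Lrot5 (Lpr_ft (K1.f2471 IH) (Lpr_at (K1.f29641 IH) (Lpe (f29652 IH) (Lpn (LP (LK LD1_c1 LD2_c56 LD3_c55))))))
theorem f2166 : Led Lsl_bt (LP (LK LD1_c0 LD2_c31 LD3_c56)) = (LP (LK LD1_c1 LD2_c9 LD3_c21)) :=
  Lre_b IH (LK LD1_c0 LD2_c31 LD3_c56) (LK LD1_c1 LD2_c9 LD3_c21) Lrfl Lrfl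
theorem f2170 : Led Lsl_cf (LP (LK LD1_c1 LD2_c9 LD3_c2)) = (LP (LK LD1_c0 LD2_c31 LD3_c56)) :=
  Lgr Lrot11 (Lpr_ct (K0.f2162 IH) (Lpn (LP (LK LD1_c0 LD2_c31 LD3_c56))))
theorem f170588 : Led Lsl_gt (LP (LK LD1_c0 LD2_c58 LD3_c20)) = (LP (LK LD1_c1 LD2_c9 LD3_c2)) :=
  Lgr Lrot149 (Lpe (f51521 IH) (Lpe (f1386 IH) (Lpe (f501 IH) (Lpr_ct (f1032 IH) (Lpe (f1318 IH) (Lpr_cf (f167273 IH) (Lpr_bt (f29655 IH) (Lpe (f29653 IH) (Lpe (f2166 IH) (Lpe (f2170 IH) (Lpn (LP (LK LD1_c1 LD2_c9 LD3_c2)))))))))))))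
theorem f2183 : Led Lsl_ft (LP (LK LD1_c0 LD2_c31 LD3_c33)) = (LP (LK LD1_c1 LD2_c9 LD3_c3)) :=
  Lre_f IH (LK LD1_c0 LD2_c31 LD3_c33) (LK LD1_c1 LD2_c9 LD3_c3) Lrfl Lrfl
theorem f2184 : Led Lsl_at (LP (LK LD1_c1 LD2_c9 LD3_c3)) = (LP (LK LD1_c1 LD2_c9 LD3_c2)) :=
  Lgr Lrot33 (Lpe (f2183 IH) (Lpr_dt (K0.f256 IH) (Lpr_ct (K0.f2162 IH) (Lpr_dt (K0.f2161 IH) (Lpr_ct (K0.f2141 IH) (Lpe (K0.f2155 IH) (Lpr_ct (K0.f2144 IH) (Lpr_dt (f2172 IH) (Lpe (f2170 IH) (Lpn (LP (LK LD1_c1 LD2_c9 LD3_c2))))))))))))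
theorem f170590 : Led Lsl_gf (LP (LK LD1_c0 LD2_c58 LD3_c20)) = (LP (LK LD1_c0 LD2_c31 LD3_c33)) :=
  Lgr Lrot47 (Lpr_gt (f170588 IH) (Lpe (f2184 IH) (Lpe (f2183 IH) (Lpn (LP (LK LD1_c0 LD2_c31 LD3_c33))))))
theorem f51522 : Led Lsl_ct (LP (LK LD1_c0 LD2_c58 LD3_c20)) = (LP (LK LD1_c0 LD2_c26 LD3_c28)) :=
  Lre_c IH (LK LD1_c0 LD2_c58 LD3_c20) (LK LD1_c0 LD2_c26 LD3_c28) Lrfl Lrfl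
theorem f51518 : Led Lsl_gt (LP (LK LD1_c0 LD2_c26 LD3_c28)) = (LP (LK LD1_c0 LD2_c27 LD3_c22)) :=
  Lgr Lrot46 (Lpe (f1386 IH) (Lpr_ft (f543 IH) (Lpr_at (f51498 IH) (Lpn (LP (LK LD1_c0 LD2_c27 LD3_c22))))))
theorem f1391 : Led Lsl_gt (LP (LK LD1_c0 LD2_c26 LD3_c29)) = (LP (LK LD1_c0 LD2_c11 LD3_c45)) :=
  Lre_g IH (LK LD1_c0 LD2_c26 LD3_c29) (LK LD1_c0 LD2_c11 LD3_c45) Lrfl Lrfl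
theorem f51563 : Led Lsl_ct (LP (LK LD1_c0 LD2_c58 LD3_c23)) = (LP (LK LD1_c0 LD2_c26 LD3_c29)) :=
  Lre_c IH (LK LD1_c0 LD2_c58 LD3_c23) (LK LD1_c0 LD2_c26 LD3_c29) Lrfl Lrfl
theorem f252 : Led Lsl_dt (LP (LK LD1_c1 LD2_c9 LD3_c2)) = (LP (LK LD1_c0 LD2_c31 LD3_c33)) :=
  Lre_d IH (LK LD1_c1 LD2_c9 LD3_c2) (LK LD1_c0 LD2_c31 LD3_c33) Lrfl Lrfl
theorem f170917 : Led Lsl_gf (LP (LK LD1_c0 LD2_c58 LD3_c23)) = (LP (LK LD1_c1 LD2_c9 LD3_c2)) :=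
  Lgr Lrot147 (Lpr_ct (f51563 IH) (Lpr_gt (f1391 IH) (Lpr_ct (f1119 IH) (Lpe (f1121 IH) (Lpr_cf (f51542 IH) (Lpe (f51518 IH) (Lpe (f51522 IH) (Lpr_gf (f170590 IH) (Lpe (f252 IH) (Lpn (LP (LK LD1_c1 LD2_c9 LD3_c2))))))))))))
theorem f251 : Led Lsl_ct (LP (LK LD1_c0 LD2_c31 LD3_c33)) = (LP (LK LD1_c0 LD2_c13 LD3_c60)) :=
  Lre_c IH (LK LD1_c0 LD2_c31 LD3_c33) (LK LD1_c0 LD2_c13 LD3_c60) Lrfl Lrfl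
theorem f2210 : Led Lsl_af (LP (LK LD1_c0 LD2_c31 LD3_c33)) = (LP (LK LD1_c0 LD2_c31 LD3_c55)) :=
  Lgr Lrot68 (Lpr_ct (f251 IH) (Lpr_at (K0.f2201 IH) (Lpr_ct (K0.f2178 IH) (Lpn (LP (LK LD1_c0 LD2_c31 LD3_c55))))))
theorem f170939 : Led Lsl_gt (LP (LK LD1_c0 LD2_c58 LD3_c23)) = (LP (LK LD1_c0 LD2_c31 LD3_c33)) :=
  Lgr Lrot46 (Lpr_gf (f170917 IH) (Lpr_ft (K0.f2261 IH) (Lpe (f2210 IH) (Lpn (LP (LK LD1_c0 LD2_c31 LD3_c33))))))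
theorem f53146 : Led Lsl_ct (LP (LK LD1_c0 LD2_c26 LD3_c29)) = (LP (LK LD1_c0 LD2_c58 LD3_c23)) :=
  Lre_c IH (LK LD1_c0 LD2_c26 LD3_c29) (LK LD1_c0 LD2_c58 LD3_c23) Lrfl Lrfl
theorem f51540 : Led Lsl_gf (LP (LK LD1_c0 LD2_c26 LD3_c29)) = (LP (LK LD1_c0 LD2_c27 LD3_c22)) :=
  Lgr Lrot47 (Lpr_gt (f1391 IH) (Lpr_af (f51516 IH) (Lpe (f544 IH) (Lpn (LP (LK LD1_c0 LD2_c27 LD3_c22))))))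
theorem f50140 : Led Lsl_at (LP (LK LD1_c0 LD2_c11 LD3_c42)) = (LP (LK LD1_c0 LD2_c26 LD3_c17)) :=
  Lre_a IH (LK LD1_c0 LD2_c11 LD3_c42) (LK LD1_c0 LD2_c26 LD3_c17) Lrfl Lrfl
theorem f51421 : Led Lsl_bt (LP (LK LD1_c0 LD2_c5 LD3_c25)) = (LP (LK LD1_c0 LD2_c11 LD3_c42)) :=
  Lre_b IH (LK LD1_c0 LD2_c5 LD3_c25) (LK LD1_c0 LD2_c11 LD3_c42) Lrfl Lrfl
theorem f51422 : Led Lsl_at (LP (LK LD1_c0 LD2_c27 LD3_c8)) = (LP (LK LD1_c0 LD2_c12 LD3_c3)) :=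
  Lre_a IH (LK LD1_c0 LD2_c27 LD3_c8) (LK LD1_c0 LD2_c12 LD3_c3) Lrfl Lrfl
theorem f51423 : Led Lsl_bt (LP (LK LD1_c0 LD2_c12 LD3_c3)) = (LP (LK LD1_c0 LD2_c5 LD3_c34)) :=
  Lre_b IH (LK LD1_c0 LD2_c12 LD3_c3) (LK LD1_c0 LD2_c5 LD3_c34) Lrfl Lrfl
theorem f51424 : Led Lsl_af (LP (LK LD1_c0 LD2_c5 LD3_c25)) = (LP (LK LD1_c0 LD2_c5 LD3_c34)) :=
  Lgr Lrot36 (Lpr_bt (f51421 IH) (Lpr_at (f50140 IH) (Lpr_bt (f51412 IH) (Lpr_at (f51422 IH) (Lpr_bt (f51423 IH) (Lpn (LP (LK LD1_c0 LD2_c5 LD3_c34))))))))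
theorem f524 : Led Lsl_gt (LP (LK LD1_c0 LD2_c11 LD3_c44)) = (LP (LK LD1_c0 LD2_c5 LD3_c25)) :=
  Lre_g IH (LK LD1_c0 LD2_c11 LD3_c44) (LK LD1_c0 LD2_c5 LD3_c25) Lrfl Lrfl
theorem f27351 : Led Lsl_ft (LP (LK LD1_c0 LD2_c12 LD3_c7)) = (LP (LK LD1_c0 LD2_c5 LD3_c34)) :=
  Lre_f IH (LK LD1_c0 LD2_c12 LD3_c7) (LK LD1_c0 LD2_c5 LD3_c34) Lrfl Lrfl
theorem f53457 : Led Lsl_gf (LP (LK LD1_c0 LD2_c11 LD3_c44)) = (LP (LK LD1_c0 LD2_c12 LD3_c7)) :=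
  Lgr Lrot47 (Lpr_gt (f524 IH) (Lpr_af (f51424 IH) (Lpe (f27351 IH) (Lpn (LP (LK LD1_c0 LD2_c12 LD3_c7))))))
theorem f262 : Led Lsl_gt (LP (LK LD1_c0 LD2_c6 LD3_c25)) = (LP (LK LD1_c0 LD2_c2 LD3_c57)) :=
  Lre_g IH (LK LD1_c0 LD2_c6 LD3_c25) (LK LD1_c0 LD2_c2 LD3_c57) Lrfl Lrfl
theorem f171034 : Led Lsl_ct (LP (LK LD1_c0 LD2_c11 LD3_c44)) = (LP (LK LD1_c0 LD2_c6 LD3_c25)) :=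
  Lgr Lrot152 (Lpr_gf (f53457 IH) (Lpe (K0.f27339 IH) (Lpe (f51540 IH) (Lpr_ct (f53146 IH) (Lpr_gt (f170939 IH) (Lpr_ct (f251 IH) (Lpe (K0.f254 IH) (Lpe (K0.f253 IH) (Lpe (f262 IH) (Lpn (LP (LK LD1_c0 LD2_c6 LD3_c25))))))))))))
theorem f27358 : Led Lsl_ct (LP (LK LD1_c0 LD2_c27 LD3_c12)) = (LP (LK LD1_c0 LD2_c59 LD3_c15)) :=
  Lre_c IH (LK LD1_c0 LD2_c27 LD3_c12) (LK LD1_c0 LD2_c59 LD3_c15) Lrfl Lrfl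
theorem f53464 : Led Lsl_gt (LP (LK LD1_c2 LD2_c4 LD3_c16)) = (LP (LK LD1_c0 LD2_c59 LD3_c15)) :=
  Lre_g IH (LK LD1_c2 LD2_c4 LD3_c16) (LK LD1_c0 LD2_c59 LD3_c15) Lrfl Lrfl
theorem f249 : Led Lsl_ct (LP (LK LD1_c0 LD2_c6 LD3_c23)) = (LP (LK LD1_c0 LD2_c2 LD3_c57)) :=
  Lre_c IH (LK LD1_c0 LD2_c6 LD3_c23) (LK LD1_c0 LD2_c2 LD3_c57) Lrfl Lrfl
theorem f269 : Led Lsl_bt (LP (LK LD1_c0 LD2_c6 LD3_c23)) = (LP (LK LD1_c0 LD2_c13 LD3_c59)) :=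
  Lre_b IH (LK LD1_c0 LD2_c6 LD3_c23) (LK LD1_c0 LD2_c13 LD3_c59) Lrfl Lrfl
theorem f270 : Led Lsl_gt (LP (LK LD1_c0 LD2_c13 LD3_c59)) = (LP (LK LD1_c0 LD2_c31 LD3_c27)) :=
  Lre_g IH (LK LD1_c0 LD2_c13 LD3_c59) (LK LD1_c0 LD2_c31 LD3_c27) Lrfl Lrfl
theorem f2089 : Led Lsl_bt (LP (LK LD1_c1 LD2_c8 LD3_c47)) = (LP (LK LD1_c0 LD2_c31 LD3_c27)) :=
  Lre_b IH (LK LD1_c1 LD2_c8 LD3_c47) (LK LD1_c0 LD2_c31 LD3_c27) Lrfl Lrfl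
theorem f171162 : Led Lsl_cf (LP (LK LD1_c2 LD2_c4 LD3_c16)) = (LP (LK LD1_c1 LD2_c8 LD3_c47)) :=
  Lgr Lrot160 (Lpr_gt (f53464 IH) (Lpe (f27358 IH) (Lpr_bt (K0.f27346 IH) (Lpe (f53457 IH) (Lpr_ct (f171034 IH) (Lpr_gt (f262 IH) (Lpe (f249 IH) (Lpr_bt (f269 IH) (Lpr_gt (f270 IH) (Lpe (f2089 IH) (Lpn (LP (LK LD1_c1 LD2_c8 LD3_c47)))))))))))))
theorem f45094 : Led Lsl_gt (LP (LK LD1_c0 LD2_c59 LD3_c10)) = (LP (LK LD1_c2 LD2_c4 LD3_c16)) :=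
  Lre_g IH (LK LD1_c0 LD2_c59 LD3_c10) (LK LD1_c2 LD2_c4 LD3_c16) Lrfl Lrfl
theorem f51426 : Led Lsl_bf (LP (LK LD1_c0 LD2_c26 LD3_c17)) = (LP (LK LD1_c0 LD2_c27 LD3_c8)) :=
  Lgr Lrot24 (Lpr_bt (f51412 IH) (Lpn (LP (LK LD1_c0 LD2_c27 LD3_c8))))
theorem f776 : Led Lsl_gt (LP (LK LD1_c0 LD2_c57 LD3_c48)) = (LP (LK LD1_c0 LD2_c26 LD3_c17)) :=
  Lre_g IH (LK LD1_c0 LD2_c57 LD3_c48) (LK LD1_c0 LD2_c26 LD3_c17) Lrfl Lrfl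
theorem f1600 : Led Lsl_gt (LP (LK LD1_c0 LD2_c31 LD3_c27)) = (LP (LK LD1_c1 LD2_c8 LD3_c46)) :=
  Lre_g IH (LK LD1_c0 LD2_c31 LD3_c27) (LK LD1_c1 LD2_c8 LD3_c46) Lrfl Lrfl
theorem f1590 : Led Lsl_at (LP (LK LD1_c0 LD2_c31 LD3_c30)) = (LP (LK LD1_c1 LD2_c8 LD3_c46)) :=
  Lre_a IH (LK LD1_c0 LD2_c31 LD3_c30) (LK LD1_c1 LD2_c8 LD3_c46) Lrfl Lrfl
theorem f1713 : Led Lsl_ct (LP (LK LD1_c1 LD2_c8 LD3_c46)) = (LP (LK LD1_c1 LD2_c8 LD3_c46)) :=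
  Lgr Lrot111 (Lpe (f1590 IH) (Lpr_cf (K0.f1711 IH) (Lpe (K0.f1589 IH) (Lpn (LP (LK LD1_c1 LD2_c8 LD3_c46))))))
theorem f1597 : Led Lsl_gt (LP (LK LD1_c1 LD2_c8 LD3_c46)) = (LP (LK LD1_c0 LD2_c31 LD3_c28)) :=
  Lre_g IH (LK LD1_c1 LD2_c8 LD3_c46) (LK LD1_c0 LD2_c31 LD3_c28) Lrfl Lrfl
theorem f2090 : Led Lsl_ct (LP (LK LD1_c1 LD2_c8 LD3_c52)) = (LP (LK LD1_c0 LD2_c31 LD3_c28)) :=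
  Lre_c IH (LK LD1_c1 LD2_c8 LD3_c52) (LK LD1_c0 LD2_c31 LD3_c28) Lrfl Lrfl
theorem f171175 : Led Lsl_bf (LP (LK LD1_c0 LD2_c57 LD3_c48)) = (LP (LK LD1_c1 LD2_c8 LD3_c52)) :=
  Lgr Lrot156 (Lpr_gt (f776 IH) (Lpr_bf (f51426 IH) (Lpr_ct (f48248 IH) (Lpr_gt (f45094 IH) (Lpr_cf (f171162 IH) (Lpr_bt (f2089 IH) (Lpr_gt (f1600 IH) (Lpr_ct (f1713 IH) (Lpr_gt (f1597 IH) (Lpe (f2090 IH) (Lpn (LP (LK LD1_c1 LD2_c8 LD3_c52)))))))))))))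
theorem f51615 : Led Lsl_gt (LP (LK LD1_c0 LD2_c26 LD3_c21)) = (LP (LK LD1_c0 LD2_c57 LD3_c48)) :=
  Lre_g IH (LK LD1_c0 LD2_c26 LD3_c21) (LK LD1_c0 LD2_c57 LD3_c48) Lrfl Lrfl
theorem f27313 : Led Lsl_bt (LP (LK LD1_c0 LD2_c11 LD3_c46)) = (LP (LK LD1_c0 LD2_c26 LD3_c21)) :=
  Lre_b IH (LK LD1_c0 LD2_c11 LD3_c46) (LK LD1_c0 LD2_c26 LD3_c21) Lrfl Lrfl
theorem f6791 : Led Lsl_gt (LP (LK LD1_c0 LD2_c2 LD3_c33)) = (LP (LK LD1_c0 LD2_c5 LD3_c35)) :=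
  Lre_g IH (LK LD1_c0 LD2_c2 LD3_c33) (LK LD1_c0 LD2_c5 LD3_c35) Lrfl Lrfl
theorem f53133 : Led Lsl_gf (LP (LK LD1_c0 LD2_c5 LD3_c28)) = (LP (LK LD1_c0 LD2_c5 LD3_c35)) :=
  Lgr Lrot76 (Lpr_af (f51590 IH) (Lpe (f7999 IH) (Lpr_gt (f6791 IH) (Lpn (LP (LK LD1_c0 LD2_c5 LD3_c35))))))
theorem f53135 : Led Lsl_ct (LP (LK LD1_c0 LD2_c12 LD3_c8)) = (LP (LK LD1_c0 LD2_c5 LD3_c35)) :=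
  Lre_c IH (LK LD1_c0 LD2_c12 LD3_c8) (LK LD1_c0 LD2_c5 LD3_c35) Lrfl Lrfl
theorem f2106 : Led Lsl_gt (LP (LK LD1_c0 LD2_c31 LD3_c28)) = (LP (LK LD1_c0 LD2_c13 LD3_c59)) :=
  Lre_g IH (LK LD1_c0 LD2_c31 LD3_c28) (LK LD1_c0 LD2_c13 LD3_c59) Lrfl Lrfl
theorem f1699 : Led Lsl_bt (LP (LK LD1_c0 LD2_c13 LD3_c59)) = (LP (LK LD1_c0 LD2_c6 LD3_c23)) :=
  Lre_b IH (LK LD1_c0 LD2_c13 LD3_c59) (LK LD1_c0 LD2_c6 LD3_c23) Lrfl Lrfl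
theorem f1700 : Led Lsl_ct (LP (LK LD1_c0 LD2_c13 LD3_c59)) = (LP (LK LD1_c0 LD2_c13 LD3_c59)) :=
  Lgr Lrot83 (Lpe (f269 IH) (Lpe (K0.f253 IH) (Lpr_bf (K0.f1697 IH) (Lpe (f249 IH) (Lpe (f1699 IH) (Lpn (LP (LK LD1_c0 LD2_c13 LD3_c59))))))))
theorem f171185 : Led Lsl_gf (LP (LK LD1_c0 LD2_c12 LD3_c8)) = (LP (LK LD1_c0 LD2_c6 LD3_c23)) :=
  Lgr Lrot181 (Lpr_ct (f53135 IH) (Lpe (f53133 IH) (Lpe (f27317 IH) (Lpr_bt (f27313 IH) (Lpr_gt (f51615 IH) (Lpr_bf (f171175 IH) (Lpr_ct (f2090 IH) (Lpr_gt (f2106 IH) (Lpe (f1700 IH) (Lpr_bt (f1699 IH) (Lpn (LP (LK LD1_c0 LD2_c6 LD3_c23)))))))))))))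
theorem f171189 : Led Lsl_dt (LP (LK LD1_c0 LD2_c12 LD3_c8)) = (LP (LK LD1_c0 LD2_c27 LD3_c24)) :=
  Lre_d IH (LK LD1_c0 LD2_c12 LD3_c8) (LK LD1_c0 LD2_c27 LD3_c24) Lrfl Lrfl
theorem f263 : Led Lsl_gt (LP (LK LD1_c0 LD2_c2 LD3_c57)) = (LP (LK LD1_c0 LD2_c6 LD3_c24)) :=
  Lre_g IH (LK LD1_c0 LD2_c2 LD3_c57) (LK LD1_c0 LD2_c6 LD3_c24) Lrfl Lrfl
theorem f264 : Led Lsl_dt (LP (LK LD1_c0 LD2_c6 LD3_c24)) = (LP (LK LD1_c0 LD2_c14 LD3_c1)) :=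
  Lre_d IH (LK LD1_c0 LD2_c6 LD3_c24) (LK LD1_c0 LD2_c14 LD3_c1) Lrfl Lrfl
theorem f2879 : Led Lsl_gt (LP (LK LD1_c0 LD2_c14 LD3_c1)) = (LP (LK LD1_c0 LD2_c16 LD3_c22)) :=
  Lre_g IH (LK LD1_c0 LD2_c14 LD3_c1) (LK LD1_c0 LD2_c16 LD3_c22) Lrfl Lrfl
theorem f20704 : Led Lsl_dt (LP (LK LD1_c0 LD2_c16 LD3_c22)) = (LP (LK LD1_c0 LD2_c7 LD3_c20)) :=
  Lre_d IH (LK LD1_c0 LD2_c16 LD3_c22) (LK LD1_c0 LD2_c7 LD3_c20) Lrfl Lrfl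
theorem f165220 : Led Lsl_ct (LP (LK LD1_c0 LD2_c16 LD3_c19)) = (LP (LK LD1_c0 LD2_c7 LD3_c20)) :=
  Lre_c IH (LK LD1_c0 LD2_c16 LD3_c19) (LK LD1_c0 LD2_c7 LD3_c20) Lrfl Lrfl
theorem f170079 : Led Lsl_dt (LP (LK LD1_c0 LD2_c36 LD3_c36)) = (LP (LK LD1_c0 LD2_c16 LD3_c19)) :=
  Lre_d IH (LK LD1_c0 LD2_c36 LD3_c36) (LK LD1_c0 LD2_c16 LD3_c19) Lrfl Lrfl
theorem f171190 : Led Lsl_gt (LP (LK LD1_c0 LD2_c27 LD3_c24)) = (LP (LK LD1_c0 LD2_c36 LD3_c36)) :=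
  Lgr Lrot49 (Lpe (f171189 IH) (Lpr_gf (f171185 IH) (Lpe (K0.f253 IH) (Lpr_gt (f263 IH) (Lpr_dt (f264 IH) (Lpr_gt (f2879 IH) (Lpr_dt (f20704 IH) (Lpe (f165220 IH) (Lpe (f170079 IH) (Lpn (LP (LK LD1_c0 LD2_c36 LD3_c36))))))))))))
theorem f170073 : Led Lsl_dt (LP (LK LD1_c0 LD2_c16 LD3_c19)) = (LP (LK LD1_c0 LD2_c36 LD3_c36)) :=
  Lre_d IH (LK LD1_c0 LD2_c16 LD3_c19) (LK LD1_c0 LD2_c36 LD3_c36) Lrfl Lrfl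
theorem f171199 : Led Lsl_et (LP (LK LD1_c0 LD2_c16 LD3_c19)) = (LP (LK LD1_c0 LD2_c7 LD3_c18)) :=
  Lre_e IH (LK LD1_c0 LD2_c16 LD3_c19) (LK LD1_c0 LD2_c7 LD3_c18) Lrfl Lrfl
theorem f1528 : Led Lsl_et (LP (LK LD1_c0 LD2_c2 LD3_c56)) = (LP (LK LD1_c0 LD2_c6 LD3_c23)) :=
  Lre_e IH (LK LD1_c0 LD2_c2 LD3_c56) (LK LD1_c0 LD2_c6 LD3_c23) Lrfl Lrfl
theorem f8116 : Led Lsl_df (LP (LK LD1_c0 LD2_c5 LD3_c22)) = (LP (LK LD1_c0 LD2_c5 LD3_c7)) :=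
  Lgr Lrot38 (Lpr_dt (K0.f8107 IH) (Lpn (LP (LK LD1_c0 LD2_c5 LD3_c7))))
theorem f171200 : Led Lsl_gt (LP (LK LD1_c0 LD2_c7 LD3_c18)) = (LP (LK LD1_c0 LD2_c10 LD3_c61)) :=
  Lgr Lrot131 (Lpe (f171199 IH) (Lpr_dt (f170073 IH) (Lpe (f171190 IH) (Lpe (f171189 IH) (Lpr_gf (f171185 IH) (Lpe (f1528 IH) (Lpe (K0.f1669 IH) (Lpr_gf (K0.f8065 IH) (Lpr_df (f8116 IH) (Lpr_et (K1.f8119 IH) (Lpn (LP (LK LD1_c0 LD2_c10 LD3_c61)))))))))))))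
theorem f41039 : Led Lsl_ct (LP (LK LD1_c0 LD2_c32 LD3_c27)) = (LP (LK LD1_c1 LD2_c10 LD3_c9)) :=
  Lre_c IH (LK LD1_c0 LD2_c32 LD3_c27) (LK LD1_c1 LD2_c10 LD3_c9) Lrfl Lrfl
theorem f40820 : Led Lsl_dt (LP (LK LD1_c0 LD2_c14 LD3_c32)) = (LP (LK LD1_c0 LD2_c32 LD3_c27)) :=
  Lre_d IH (LK LD1_c0 LD2_c14 LD3_c32) (LK LD1_c0 LD2_c32 LD3_c27) Lrfl Lrfl
theorem f41046 : Led Lsl_ft (LP (LK LD1_c0 LD2_c14 LD3_c32)) = (LP (LK LD1_c0 LD2_c6 LD3_c40)) :=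
  Lre_f IH (LK LD1_c0 LD2_c14 LD3_c32) (LK LD1_c0 LD2_c6 LD3_c40) Lrfl Lrfl
theorem f41047 : Led Lsl_af (LP (LK LD1_c0 LD2_c10 LD3_c61)) = (LP (LK LD1_c0 LD2_c6 LD3_c40)) :=
  Lgr Lrot109 (Lpe (K1.f28390 IH) (Lpe (K1.f27242 IH) (Lpe (K1.f40723 IH) (Lpe (K1.f41038 IH) (Lpe (K1.f40982 IH) (Lpr_df (K1.f41025 IH) (Lpe (f41039 IH) (Lpe (f40820 IH) (Lpr_ft (f41046 IH) (Lpn (LP (LK LD1_c0 LD2_c6 LD3_c40))))))))))))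
theorem f171755 : Led Lsl_gf (LP (LK LD1_c0 LD2_c7 LD3_c18)) = (LP (LK LD1_c0 LD2_c14 LD3_c32)) :=
  Lgr Lrot47 (Lpr_gt (f171200 IH) (Lpr_af (f41047 IH) (Lpe (f41046 IH) (Lpn (LP (LK LD1_c0 LD2_c14 LD3_c32))))))
theorem f165205 : Led Lsl_ct (LP (LK LD1_c0 LD2_c7 LD3_c18)) = (LP (LK LD1_c0 LD2_c3 LD3_c17)) :=
  Lre_c IH (LK LD1_c0 LD2_c7 LD3_c18) (LK LD1_c0 LD2_c3 LD3_c17) Lrfl Lrfl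
theorem f9490 : Led Lsl_dt (LP (LK LD1_c0 LD2_c3 LD3_c17)) = (LP (LK LD1_c0 LD2_c7 LD3_c19)) :=
  Lre_d IH (LK LD1_c0 LD2_c3 LD3_c17) (LK LD1_c0 LD2_c7 LD3_c19) Lrfl Lrfl
theorem f165213 : Led Lsl_ct (LP (LK LD1_c0 LD2_c16 LD3_c20)) = (LP (LK LD1_c0 LD2_c7 LD3_c19)) :=
  Lre_c IH (LK LD1_c0 LD2_c16 LD3_c20) (LK LD1_c0 LD2_c7 LD3_c19) Lrfl Lrfl
theorem f27243 : Led Lsl_gt (LP (LK LD1_c0 LD2_c5 LD3_c8)) = (LP (LK LD1_c0 LD2_c11 LD3_c0)) :=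
  Lre_g IH (LK LD1_c0 LD2_c5 LD3_c8) (LK LD1_c0 LD2_c11 LD3_c0) Lrfl Lrfl
theorem f40816 : Led Lsl_gt (LP (LK LD1_c0 LD2_c11 LD3_c0)) = (LP (LK LD1_c0 LD2_c6 LD3_c44)) :=
  Lgr Lrot46 (Lpe (f27243 IH) (Lpr_ft (K1.f40786 IH) (Lpr_at (K1.f40787 IH) (Lpn (LP (LK LD1_c0 LD2_c6 LD3_c44))))))
theorem f27244 : Led Lsl_dt (LP (LK LD1_c0 LD2_c24 LD3_c46)) = (LP (LK LD1_c0 LD2_c11 LD3_c0)) :=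
  Lre_d IH (LK LD1_c0 LD2_c24 LD3_c46) (LK LD1_c0 LD2_c11 LD3_c0) Lrfl Lrfl
theorem f40819 : Led Lsl_gt (LP (LK LD1_c0 LD2_c24 LD3_c46)) = (LP (LK LD1_c0 LD2_c26 LD3_c49)) :=
  Lre_g IH (LK LD1_c0 LD2_c24 LD3_c46) (LK LD1_c0 LD2_c26 LD3_c49) Lrfl Lrfl
theorem f3062 : Led Lsl_et (LP (LK LD1_c0 LD2_c14 LD3_c15)) = (LP (LK LD1_c0 LD2_c6 LD3_c33)) :=
  Lre_e IH (LK LD1_c0 LD2_c14 LD3_c15) (LK LD1_c0 LD2_c6 LD3_c33) Lrfl Lrfl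
theorem f21232 : Led Lsl_dt (LP (LK LD1_c0 LD2_c14 LD3_c15)) = (LP (LK LD1_c0 LD2_c15 LD3_c3)) :=
  Lgr Lrot136 (Lpr_et (f3062 IH) (Lpe (K0.f3057 IH) (Lpe (K0.f2121 IH) (Lpr_dt (K0.f1641 IH) (Lpq (K0.f7244 IH) (Lpe (K0.f6841 IH) (Lpe (K0.f43 IH) (Lpr_gf (K0.f21226 IH) (Lpe (K0.f3109 IH) (Lpr_dt (K7.f3119 IH) (Lpe (f3770 IH) (Lpn (LP (LK LD1_c0 LD2_c15 LD3_c3))))))))))))))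
theorem f2263 : Led Lsl_ft (LP (LK LD1_c0 LD2_c2 LD3_c61)) = (LP (LK LD1_c0 LD2_c6 LD3_c35)) :=
  Lre_f IH (LK LD1_c0 LD2_c2 LD3_c61) (LK LD1_c0 LD2_c6 LD3_c35) Lrfl Lrfl
theorem f3058 : Led Lsl_gf (LP (LK LD1_c0 LD2_c6 LD3_c26)) = (LP (LK LD1_c0 LD2_c6 LD3_c33)) :=
  Lgr Lrot76 (Lpr_af (K0.f2148 IH) (Lpe (f2263 IH) (Lpr_gt (K0.f3057 IH) (Lpn (LP (LK LD1_c0 LD2_c6 LD3_c33))))))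
theorem f3065 : Led Lsl_dt (LP (LK LD1_c0 LD2_c14 LD3_c16)) = (LP (LK LD1_c0 LD2_c6 LD3_c34)) :=
  Lre_d IH (LK LD1_c0 LD2_c14 LD3_c16) (LK LD1_c0 LD2_c6 LD3_c34) Lrfl Lrfl
theorem f163697 : Led Lsl_gt (LP (LK LD1_c0 LD2_c6 LD3_c51)) = (LP (LK LD1_c0 LD2_c6 LD3_c61)) :=
  Lgr Lrot46 (Lpe (f3127 IH) (Lpr_ft (K0.f3123 IH) (Lpr_at (K8.f163675 IH) (Lpn (LP (LK LD1_c0 LD2_c6 LD3_c61))))))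
theorem f164172 : Led Lsl_et (LP (LK LD1_c0 LD2_c14 LD3_c16)) = (LP (LK LD1_c0 LD2_c6 LD3_c51)) :=
  Lgr Lrot121 (Lpr_dt (f3065 IH) (Lpe (K0.f3083 IH) (Lpr_df (K0.f259 IH) (Lpr_et (K0.f1515 IH) (Lpr_gf (f3058 IH) (Lpe (f3062 IH) (Lpr_dt (f21232 IH) (Lpr_gf (f164170 IH) (Lpe (K8.f163649 IH) (Lpe (f163697 IH) (Lpn (LP (LK LD1_c0 LD2_c6 LD3_c51)))))))))))))
theorem f164181 : Led Lsl_et (LP (LK LD1_c0 LD2_c6 LD3_c61)) = (LP (LK LD1_c0 LD2_c6 LD3_c61)) :=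
  Lgr Lrot122 (Lpr_dt (K8.f163649 IH) (Lpe (f164170 IH) (Lpe (f21232 IH) (Lpr_et (f3062 IH) (Lpe (f3058 IH) (Lpe (K0.f259 IH) (Lpr_gt (K0.f3083 IH) (Lpe (f3065 IH) (Lpr_et (f164172 IH) (Lpr_gt (f163697 IH) (Lpn (LP (LK LD1_c0 LD2_c6 LD3_c61)))))))))))))
theorem f163922 : Led Lsl_ft (LP (LK LD1_c0 LD2_c3 LD3_c10)) = (LP (LK LD1_c0 LD2_c6 LD3_c61)) :=
  Lre_f IH (LK LD1_c0 LD2_c3 LD3_c10) (LK LD1_c0 LD2_c6 LD3_c61) Lrfl Lrfl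
theorem f164189 : Led Lsl_ff (LP (LK LD1_c0 LD2_c1 LD3_c19)) = (LP (LK LD1_c0 LD2_c1 LD3_c19)) :=
  Lgr Lrot72 (Lpr_et (K0.f20451 IH) (Lpr_ft (f163922 IH) (Lpr_et (f164181 IH) (Lpr_ft (K8.f163663 IH) (Lpr_et (K0.f20530 IH) (Lpn (LP (LK LD1_c0 LD2_c1 LD3_c19))))))))
theorem f164195 : Led Lsl_at (LP (LK LD1_c0 LD2_c1 LD3_c19)) = (LP (LK LD1_c0 LD2_c1 LD3_c18)) :=
  Lgr Lrot26 (Lpr_ff (f164189 IH) (Lpr_gt (K0.f227 IH) (Lpr_gt (K0.f293 IH) (Lpn (LP (LK LD1_c0 LD2_c1 LD3_c18))))))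
theorem f163673 : Led Lsl_at (LP (LK LD1_c0 LD2_c1 LD3_c18)) = (LP (LK LD1_c0 LD2_c1 LD3_c19)) :=
  Lgr Lrot80 (Lpe (K0.f3109 IH) (Lpr_af (K8.f163664 IH) (Lpe (K0.f20451 IH) (Lpn (LP (LK LD1_c0 LD2_c1 LD3_c19))))))
theorem f164199 : Led Lsl_ff (LP (LK LD1_c0 LD2_c1 LD3_c18)) = (LP (LK LD1_c0 LD2_c1 LD3_c18)) :=
  Lgr Lrot30 (Lpr_at (f163673 IH) (Lpe (f164189 IH) (Lpr_at (f164195 IH) (Lpn (LP (LK LD1_c0 LD2_c1 LD3_c18))))))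
theorem f164203 : Led Lsl_ft (LP (LK LD1_c0 LD2_c1 LD3_c30)) = (LP (LK LD1_c0 LD2_c1 LD3_c30)) :=
  Lgr Lrot54 (Lpe (K0.f9503 IH) (Lpr_ff (f164199 IH) (Lpe (K0.f21222 IH) (Lpn (LP (LK LD1_c0 LD2_c1 LD3_c30))))))
theorem f164207 : Led Lsl_ff (LP (LK LD1_c0 LD2_c1 LD3_c49)) = (LP (LK LD1_c0 LD2_c1 LD3_c49)) :=
  Lgr Lrot23 (Lpe (K0.f3847 IH) (Lpr_ft (f164203 IH) (Lpr_ct (K0.f3849 IH) (Lpn (LP (LK LD1_c0 LD2_c1 LD3_c49))))))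
theorem f164211 : Led Lsl_at (LP (LK LD1_c0 LD2_c1 LD3_c49)) = (LP (LK LD1_c0 LD2_c1 LD3_c48)) :=
  Lgr Lrot26 (Lpr_ff (f164207 IH) (Lpr_gt (K0.f95 IH) (Lpr_gt (K0.f96 IH) (Lpn (LP (LK LD1_c0 LD2_c1 LD3_c48))))))
theorem f164213 : Led Lsl_af (LP (LK LD1_c0 LD2_c1 LD3_c49)) = (LP (LK LD1_c0 LD2_c1 LD3_c48)) :=
  Lgr Lrot0 (Lpr_at (f164211 IH) (Lpn (LP (LK LD1_c0 LD2_c1 LD3_c48))))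
theorem f164217 : Led Lsl_ff (LP (LK LD1_c0 LD2_c1 LD3_c48)) = (LP (LK LD1_c0 LD2_c1 LD3_c48)) :=
  Lgr Lrot30 (Lpe (f164213 IH) (Lpe (f164207 IH) (Lpr_at (f164211 IH) (Lpn (LP (LK LD1_c0 LD2_c1 LD3_c48))))))
theorem f152155 : Led Lsl_ft (LP (LK LD1_c0 LD2_c4 LD3_c5)) = (LP (LK LD1_c0 LD2_c4 LD3_c7)) :=
  Lgr Lrot54 (Lpr_df (K0.f7360 IH) (Lpr_ff (K7.f152153 IH) (Lpe (K0.f23168 IH) (Lpn (LP (LK LD1_c0 LD2_c4 LD3_c7))))))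
theorem f164219 : Led Lsl_ft (LP (LK LD1_c0 LD2_c4 LD3_c7)) = (LP (LK LD1_c0 LD2_c4 LD3_c5)) :=
  Lgr Lrot86 (Lpe (K0.f24413 IH) (Lpe (f152155 IH) (Lpe (K0.f405 IH) (Lpr_ff (f164217 IH) (Lpe (K0.f404 IH) (Lpn (LP (LK LD1_c0 LD2_c4 LD3_c5))))))))
theorem f164223 : Led Lsl_ff (LP (LK LD1_c0 LD2_c6 LD3_c1)) = (LP (LK LD1_c0 LD2_c3 LD3_c35)) :=
  Lgr Lrot23 (Lpe (K0.f20173 IH) (Lpr_ft (f164219 IH) (Lpr_ct (K0.f408 IH) (Lpn (LP (LK LD1_c0 LD2_c3 LD3_c35))))))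
theorem f164231 : Led Lsl_at (LP (LK LD1_c0 LD2_c6 LD3_c1)) = (LP (LK LD1_c0 LD2_c3 LD3_c39)) :=
  Lgr Lrot26 (Lpr_ff (f164223 IH) (Lpe (K0.f20598 IH) (Lpr_gt (K0.f205 IH) (Lpn (LP (LK LD1_c0 LD2_c3 LD3_c39))))))
theorem f164237 : Led Lsl_af (LP (LK LD1_c0 LD2_c3 LD3_c25)) = (LP (LK LD1_c0 LD2_c5 LD3_c56)) :=
  Lgr Lrot117 (Lpr_dt (K0.f23917 IH) (Lpr_at (f164231 IH) (Lpr_dt (K4.f26610 IH) (Lpn (LP (LK LD1_c0 LD2_c5 LD3_c56))))))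
theorem f24215 : Led Lsl_et (LP (LK LD1_c0 LD2_c3 LD3_c25)) = (LP (LK LD1_c0 LD2_c7 LD3_c36)) :=
  Lre_e IH (LK LD1_c0 LD2_c3 LD3_c25) (LK LD1_c0 LD2_c7 LD3_c36) Lrfl Lrfl
theorem f164241 : Led Lsl_at (LP (LK LD1_c0 LD2_c7 LD3_c36)) = (LP (LK LD1_c0 LD2_c12 LD3_c61)) :=
  Lgr Lrot80 (Lpe (f24215 IH) (Lpr_af (f164237 IH) (Lpe (K7.f9401 IH) (Lpn (LP (LK LD1_c0 LD2_c12 LD3_c61))))))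
theorem f24422 : Led Lsl_ft (LP (LK LD1_c0 LD2_c17 LD3_c4)) = (LP (LK LD1_c0 LD2_c7 LD3_c36)) :=
  Lre_f IH (LK LD1_c0 LD2_c17 LD3_c4) (LK LD1_c0 LD2_c7 LD3_c36) Lrfl Lrfl
theorem f20323 : Led Lsl_gt (LP (LK LD1_c0 LD2_c29 LD3_c31)) = (LP (LK LD1_c0 LD2_c12 LD3_c61)) :=
  Lre_g IH (LK LD1_c0 LD2_c29 LD3_c31) (LK LD1_c0 LD2_c12 LD3_c61) Lrfl Lrfl
theorem f164672 : Led Lsl_gt (LP (LK LD1_c0 LD2_c17 LD3_c4)) = (LP (LK LD1_c0 LD2_c29 LD3_c31)) :=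
  Lgr Lrot5 (Lpr_ft (f24422 IH) (Lpr_at (f164241 IH) (Lpe (f20323 IH) (Lpn (LP (LK LD1_c0 LD2_c29 LD3_c31))))))
theorem f164227 : Led Lsl_ft (LP (LK LD1_c0 LD2_c3 LD3_c25)) = (LP (LK LD1_c0 LD2_c5 LD3_c55)) :=
  Lgr Lrot54 (Lpr_df (K0.f24210 IH) (Lpr_ff (f164223 IH) (Lpe (K0.f20251 IH) (Lpn (LP (LK LD1_c0 LD2_c5 LD3_c55))))))
theorem f163624 : Led Lsl_af (LP (LK LD1_c0 LD2_c3 LD3_c24)) = (LP (LK LD1_c0 LD2_c5 LD3_c55)) :=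
  Lgr Lrot68 (Lpr_ct (K0.f8307 IH) (Lpr_at (K8.f163622 IH) (Lpr_ct (K1.f20527 IH) (Lpn (LP (LK LD1_c0 LD2_c5 LD3_c55))))))
theorem f164243 : Led Lsl_ft (LP (LK LD1_c0 LD2_c3 LD3_c24)) = (LP (LK LD1_c0 LD2_c5 LD3_c56)) :=
  Lgr Lrot101 (Lpr_af (f163624 IH) (Lpe (f164227 IH) (Lpr_af (f164237 IH) (Lpn (LP (LK LD1_c0 LD2_c5 LD3_c56))))))
theorem f3163 : Led Lsl_ft (LP (LK LD1_c0 LD2_c15 LD3_c5)) = (LP (LK LD1_c0 LD2_c6 LD3_c53)) :=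
  Lre_f IH (LK LD1_c0 LD2_c15 LD3_c5) (LK LD1_c0 LD2_c6 LD3_c53) Lrfl Lrfl
theorem f164247 : Led Lsl_ef (LP (LK LD1_c0 LD2_c15 LD3_c5)) = (LP (LK LD1_c0 LD2_c29 LD3_c32)) :=
  Lgr Lrot21 (Lpr_ft (f3163 IH) (Lpe (K7.f21224 IH) (Lpr_ft (f164243 IH) (Lpr_et (K7.f20303 IH) (Lpr_ft (K7.f20317 IH) (Lpn (LP (LK LD1_c0 LD2_c29 LD3_c32))))))))
theorem f24578 : Led Lsl_ct (LP (LK LD1_c0 LD2_c38 LD3_c14)) = (LP (LK LD1_c0 LD2_c17 LD3_c4)) :=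
  Lre_c IH (LK LD1_c0 LD2_c38 LD3_c14) (LK LD1_c0 LD2_c17 LD3_c4) Lrfl Lrfl
theorem f151836 : Led Lsl_af (LP (LK LD1_c0 LD2_c29 LD3_c32)) = (LP (LK LD1_c0 LD2_c17 LD3_c4)) :=
  Lgr Lrot68 (Lpr_ct (K7.f20326 IH) (Lpr_at (K7.f151828 IH) (Lpr_ct (f24578 IH) (Lpn (LP (LK LD1_c0 LD2_c17 LD3_c4))))))
theorem f164249 : Led Lsl_et (LP (LK LD1_c0 LD2_c15 LD3_c24)) = (LP (LK LD1_c0 LD2_c17 LD3_c4)) :=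
  Lgr Lrot123 (Lpe (f163710 IH) (Lpr_ef (f164247 IH) (Lpr_af (f151836 IH) (Lpn (LP (LK LD1_c0 LD2_c17 LD3_c4))))))
theorem f21267 : Led Lsl_dt (LP (LK LD1_c0 LD2_c14 LD3_c60)) = (LP (LK LD1_c0 LD2_c6 LD3_c51)) :=
  Lre_d IH (LK LD1_c0 LD2_c14 LD3_c60) (LK LD1_c0 LD2_c6 LD3_c51) Lrfl Lrfl
theorem f3085 : Led Lsl_dt (LP (LK LD1_c0 LD2_c6 LD3_c34)) = (LP (LK LD1_c0 LD2_c14 LD3_c16)) :=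
  Lre_d IH (LK LD1_c0 LD2_c6 LD3_c34) (LK LD1_c0 LD2_c14 LD3_c16) Lrfl Lrfl
theorem f164177 : Led Lsl_ef (LP (LK LD1_c0 LD2_c16 LD3_c7)) = (LP (LK LD1_c0 LD2_c14 LD3_c60)) :=
  Lgr Lrot73 (Lpr_dt (K0.f7881 IH) (Lpr_et (K0.f3068 IH) (Lpr_dt (f3085 IH) (Lpr_et (f164172 IH) (Lpr_dt (f3128 IH) (Lpn (LP (LK LD1_c0 LD2_c14 LD3_c60))))))))
theorem f164306 : Led Lsl_et (LP (LK LD1_c0 LD2_c16 LD3_c10)) = (LP (LK LD1_c0 LD2_c7 LD3_c15)) :=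
  Lre_e IH (LK LD1_c0 LD2_c16 LD3_c10) (LK LD1_c0 LD2_c7 LD3_c15) Lrfl Lrfl
theorem f24247 : Led Lsl_dt (LP (LK LD1_c0 LD2_c16 LD3_c10)) = (LP (LK LD1_c0 LD2_c36 LD3_c23)) :=
  Lre_d IH (LK LD1_c0 LD2_c16 LD3_c10) (LK LD1_c0 LD2_c36 LD3_c23) Lrfl Lrfl
theorem f163689 : Led Lsl_af (LP (LK LD1_c0 LD2_c6 LD3_c54)) = (LP (LK LD1_c0 LD2_c6 LD3_c61)) :=
  Lgr Lrot0 (Lpr_at (K8.f163675 IH) (Lpn (LP (LK LD1_c0 LD2_c6 LD3_c61))))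
theorem f164183 : Led Lsl_ef (LP (LK LD1_c0 LD2_c6 LD3_c54)) = (LP (LK LD1_c0 LD2_c6 LD3_c54)) :=
  Lgr Lrot20 (Lpr_at (K8.f163675 IH) (Lpr_et (f164181 IH) (Lpe (f163689 IH) (Lpn (LP (LK LD1_c0 LD2_c6 LD3_c54))))))
theorem f3154 : Led Lsl_bf (LP (LK LD1_c0 LD2_c15 LD3_c5)) = (LP (LK LD1_c0 LD2_c15 LD3_c5)) :=
  Lgr Lrot93 (Lpr_dt (K8.f3152 IH) (Lpr_bt (K0.f3125 IH) (Lpr_dt (K8.f3153 IH) (Lpn (LP (LK LD1_c0 LD2_c15 LD3_c5))))))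
theorem f164251 : Led Lsl_et (LP (LK LD1_c0 LD2_c15 LD3_c5)) = (LP (LK LD1_c0 LD2_c29 LD3_c32)) :=
  Lgr Lrot74 (Lpr_bf (f3154 IH) (Lpr_ef (f164247 IH) (Lpr_bf (K7.f20318 IH) (Lpn (LP (LK LD1_c0 LD2_c29 LD3_c32))))))
theorem f164255 : Led Lsl_dt (LP (LK LD1_c0 LD2_c29 LD3_c32)) = (LP (LK LD1_c0 LD2_c29 LD3_c32)) :=
  Lgr Lrot77 (Lpe (f164251 IH) (Lpe (K8.f3153 IH) (Lpr_ef (f164183 IH) (Lpe (K8.f3152 IH) (Lpr_ef (f164247 IH) (Lpn (LP (LK LD1_c0 LD2_c29 LD3_c32))))))))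
theorem f164259 : Led Lsl_df (LP (LK LD1_c0 LD2_c12 LD3_c61)) = (LP (LK LD1_c0 LD2_c12 LD3_c61)) :=
  Lgr Lrot78 (Lpr_ft (K7.f20317 IH) (Lpr_dt (f164255 IH) (Lpr_ft (K7.f20316 IH) (Lpn (LP (LK LD1_c0 LD2_c12 LD3_c61))))))
theorem f6854 : Led Lsl_gt (LP (LK LD1_c0 LD2_c2 LD3_c37)) = (LP (LK LD1_c0 LD2_c5 LD3_c48)) :=
  Lre_g IH (LK LD1_c0 LD2_c2 LD3_c37) (LK LD1_c0 LD2_c5 LD3_c48) Lrfl Lrfl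
theorem f20665 : Led Lsl_dt (LP (LK LD1_c0 LD2_c12 LD3_c44)) = (LP (LK LD1_c0 LD2_c5 LD3_c48)) :=
  Lre_d IH (LK LD1_c0 LD2_c12 LD3_c44) (LK LD1_c0 LD2_c5 LD3_c48) Lrfl Lrfl
theorem f20737 : Led Lsl_et (LP (LK LD1_c0 LD2_c12 LD3_c44)) = (LP (LK LD1_c0 LD2_c28 LD3_c52)) :=
  Lre_e IH (LK LD1_c0 LD2_c12 LD3_c44) (LK LD1_c0 LD2_c28 LD3_c52) Lrfl Lrfl
theorem f20724 : Led Lsl_gt (LP (LK LD1_c0 LD2_c28 LD3_c52)) = (LP (LK LD1_c1 LD2_c3 LD3_c18)) :=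
  Lre_g IH (LK LD1_c0 LD2_c28 LD3_c52) (LK LD1_c1 LD2_c3 LD3_c18) Lrfl Lrfl
theorem f164267 : Led Lsl_df (LP (LK LD1_c0 LD2_c29 LD3_c31)) = (LP (LK LD1_c1 LD2_c3 LD3_c18)) :=
  Lgr Lrot135 (Lpr_gt (f20323 IH) (Lpr_df (f164259 IH) (Lpr_et (K7.f9401 IH) (Lpr_gt (K0.f6844 IH) (Lpe (K0.f20472 IH) (Lpr_dt (K0.f20473 IH) (Lpr_gt (f6854 IH) (Lpe (f20665 IH) (Lpr_et (f20737 IH) (Lpr_gt (f20724 IH) (Lpn (LP (LK LD1_c1 LD2_c3 LD3_c18)))))))))))))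
theorem f164270 : Led Lsl_dt (LP (LK LD1_c0 LD2_c29 LD3_c31)) = (LP (LK LD1_c1 LD2_c3 LD3_c18)) :=
  Lgr Lrot42 (Lpr_df (f164267 IH) (Lpn (LP (LK LD1_c1 LD2_c3 LD3_c18))))
theorem f164674 : Led Lsl_gf (LP (LK LD1_c0 LD2_c36 LD3_c23)) = (LP (LK LD1_c1 LD2_c3 LD3_c18)) :=
  Lgr Lrot134 (Lpe (f24247 IH) (Lpr_et (f164306 IH) (Lpr_gt (K0.f3070 IH) (Lpr_ef (f164177 IH) (Lpr_dt (f21267 IH) (Lpr_gt (f163697 IH) (Lpe (K8.f163679 IH) (Lpr_et (f164249 IH) (Lpr_gt (f164672 IH) (Lpr_dt (f164270 IH) (Lpn (LP (LK LD1_c1 LD2_c3 LD3_c18)))))))))))))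
theorem f8411 : Led Lsl_dt (LP (LK LD1_c0 LD2_c36 LD3_c23)) = (LP (LK LD1_c0 LD2_c16 LD3_c10)) :=
  Lre_d IH (LK LD1_c0 LD2_c36 LD3_c23) (LK LD1_c0 LD2_c16 LD3_c10) Lrfl Lrfl
theorem f24250 : Led Lsl_ct (LP (LK LD1_c0 LD2_c16 LD3_c10)) = (LP (LK LD1_c0 LD2_c36 LD3_c20)) :=
  Lre_c IH (LK LD1_c0 LD2_c16 LD3_c10) (LK LD1_c0 LD2_c36 LD3_c20) Lrfl Lrfl
theorem f24531 : Led Lsl_dt (LP (LK LD1_c1 LD2_c18 LD3_c53)) = (LP (LK LD1_c0 LD2_c36 LD3_c20)) :=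
  Lre_d IH (LK LD1_c1 LD2_c18 LD3_c53) (LK LD1_c0 LD2_c36 LD3_c20) Lrfl Lrfl
theorem f20324 : Led Lsl_gt (LP (LK LD1_c1 LD2_c4 LD3_c27)) = (LP (LK LD1_c0 LD2_c29 LD3_c29)) :=
  Lre_g IH (LK LD1_c1 LD2_c4 LD3_c27) (LK LD1_c0 LD2_c29 LD3_c29) Lrfl Lrfl
theorem f151830 : Led Lsl_gf (LP (LK LD1_c1 LD2_c4 LD3_c27)) = (LP (LK LD1_c0 LD2_c38 LD3_c14)) :=
  Lgr Lrot47 (Lpr_gt (f20324 IH) (Lpr_af (K7.f151818 IH) (Lpe (K7.f151827 IH) (Lpn (LP (LK LD1_c0 LD2_c38 LD3_c14))))))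
theorem f151832 : Led Lsl_dt (LP (LK LD1_c1 LD2_c4 LD3_c27)) = (LP (LK LD1_c2 LD2_c14 LD3_c42)) :=
  Lre_d IH (LK LD1_c1 LD2_c4 LD3_c27) (LK LD1_c2 LD2_c14 LD3_c42) Lrfl Lrfl
theorem f164697 : Led Lsl_gf (LP (LK LD1_c1 LD2_c18 LD3_c53)) = (LP (LK LD1_c2 LD2_c14 LD3_c42)) :=
  Lgr Lrot143 (Lpr_dt (f24531 IH) (Lpe (f24250 IH) (Lpe (f8411 IH) (Lpr_gf (f164674 IH) (Lpe (f164270 IH) (Lpe (f164672 IH) (Lpe (f24578 IH) (Lpe (f151830 IH) (Lpr_dt (f151832 IH) (Lpn (LP (LK LD1_c2 LD2_c14 LD3_c42))))))))))))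
theorem f164999 : Led Lsl_dt (LP (LK LD1_c0 LD2_c36 LD3_c20)) = (LP (LK LD1_c1 LD2_c18 LD3_c53)) :=
  Lre_d IH (LK LD1_c0 LD2_c36 LD3_c20) (LK LD1_c1 LD2_c18 LD3_c53) Lrfl Lrfl
theorem f164998 : Led Lsl_et (LP (LK LD1_c0 LD2_c36 LD3_c20)) = (LP (LK LD1_c0 LD2_c16 LD3_c9)) :=
  Lre_e IH (LK LD1_c0 LD2_c36 LD3_c20) (LK LD1_c0 LD2_c16 LD3_c9) Lrfl Lrfl
theorem f164710 : Led Lsl_gt (LP (LK LD1_c0 LD2_c16 LD3_c9)) = (LP (LK LD1_c0 LD2_c36 LD3_c16)) :=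
  Lre_g IH (LK LD1_c0 LD2_c16 LD3_c9) (LK LD1_c0 LD2_c36 LD3_c16) Lrfl Lrfl
theorem f24212 : Led Lsl_et (LP (LK LD1_c0 LD2_c7 LD3_c36)) = (LP (LK LD1_c0 LD2_c3 LD3_c25)) :=
  Lre_e IH (LK LD1_c0 LD2_c7 LD3_c36) (LK LD1_c0 LD2_c3 LD3_c25) Lrfl Lrfl
theorem f24415 : Led Lsl_dt (LP (LK LD1_c0 LD2_c7 LD3_c36)) = (LP (LK LD1_c0 LD2_c7 LD3_c36)) :=
  Lgr Lrot77 (Lpe (f24215 IH) (Lpr_df (K0.f24210 IH) (Lpr_ef (K0.f24409 IH) (Lpe (K0.f23917 IH) (Lpe (f24212 IH) (Lpn (LP (LK LD1_c0 LD2_c7 LD3_c36))))))))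
theorem f24423 : Led Lsl_ft (LP (LK LD1_c0 LD2_c7 LD3_c36)) = (LP (LK LD1_c0 LD2_c17 LD3_c4)) :=
  Lre_f IH (LK LD1_c0 LD2_c7 LD3_c36) (LK LD1_c0 LD2_c17 LD3_c4) Lrfl Lrfl
theorem f24424 : Led Lsl_df (LP (LK LD1_c0 LD2_c17 LD3_c4)) = (LP (LK LD1_c0 LD2_c17 LD3_c4)) :=
  Lgr Lrot78 (Lpr_ft (f24422 IH) (Lpr_dt (f24415 IH) (Lpr_ft (f24423 IH) (Lpn (LP (LK LD1_c0 LD2_c17 LD3_c4))))))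
theorem f164257 : Led Lsl_af (LP (LK LD1_c0 LD2_c17 LD3_c4)) = (LP (LK LD1_c0 LD2_c29 LD3_c32)) :=
  Lgr Lrot117 (Lpe (f24424 IH) (Lpe (f151836 IH) (Lpr_dt (f164255 IH) (Lpn (LP (LK LD1_c0 LD2_c29 LD3_c32))))))
theorem f164298 : Led Lsl_et (LP (LK LD1_c0 LD2_c17 LD3_c4)) = (LP (LK LD1_c0 LD2_c15 LD3_c24)) :=
  Lgr Lrot123 (Lpr_af (f164257 IH) (Lpe (f164251 IH) (Lpr_af (K8.f163695 IH) (Lpn (LP (LK LD1_c0 LD2_c15 LD3_c24))))))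
theorem f164311 : Led Lsl_ef (LP (LK LD1_c0 LD2_c38 LD3_c14)) = (LP (LK LD1_c0 LD2_c34 LD3_c20)) :=
  Lgr Lrot28 (Lpr_ct (f24578 IH) (Lpr_et (f164298 IH) (Lpr_ct (K8.f163648 IH) (Lpn (LP (LK LD1_c0 LD2_c34 LD3_c20))))))
theorem f22231 : Led Lsl_gt (LP (LK LD1_c0 LD2_c33 LD3_c37)) = (LP (LK LD1_c1 LD2_c12 LD3_c38)) :=
  Lre_g IH (LK LD1_c0 LD2_c33 LD3_c37) (LK LD1_c1 LD2_c12 LD3_c38) Lrfl Lrfl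
theorem f164091 : Led Lsl_gt (LP (LK LD1_c1 LD2_c12 LD3_c38)) = (LP (LK LD1_c1 LD2_c14 LD3_c5)) :=
  Lgr Lrot46 (Lpe (f22231 IH) (Lpr_ft (K8.f164088 IH) (Lpr_at (K8.f164074 IH) (Lpn (LP (LK LD1_c1 LD2_c14 LD3_c5))))))
theorem f22214 : Led Lsl_dt (LP (LK LD1_c0 LD2_c15 LD3_c4)) = (LP (LK LD1_c0 LD2_c33 LD3_c37)) :=
  Lre_d IH (LK LD1_c0 LD2_c15 LD3_c4) (LK LD1_c0 LD2_c33 LD3_c37) Lrfl Lrfl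
theorem f28338 : Led Lsl_dt (LP (LK LD1_c0 LD2_c14 LD3_c23)) = (LP (LK LD1_c0 LD2_c32 LD3_c9)) :=
  Lre_d IH (LK LD1_c0 LD2_c14 LD3_c23) (LK LD1_c0 LD2_c32 LD3_c9) Lrfl Lrfl
theorem f28342 : Led Lsl_ct (LP (LK LD1_c1 LD2_c9 LD3_c38)) = (LP (LK LD1_c0 LD2_c32 LD3_c9)) :=
  Lre_c IH (LK LD1_c1 LD2_c9 LD3_c38) (LK LD1_c0 LD2_c32 LD3_c9) Lrfl Lrfl
theorem f53202 : Led Lsl_dt (LP (LK LD1_c1 LD2_c12 LD3_c38)) = (LP (LK LD1_c1 LD2_c9 LD3_c38)) :=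
  Lgr Lrot105 (Lpe (f22231 IH) (Lpe (f22214 IH) (Lpe (f3298 IH) (Lpr_cf (f53186 IH) (Lpe (f53181 IH) (Lpr_dt (K1.f28315 IH) (Lpr_gt (f28334 IH) (Lpr_dt (f28338 IH) (Lpe (f28342 IH) (Lpn (LP (LK LD1_c1 LD2_c9 LD3_c38))))))))))))
theorem f53210 : Led Lsl_df (LP (LK LD1_c1 LD2_c12 LD3_c38)) = (LP (LK LD1_c1 LD2_c9 LD3_c38)) :=
  Lgr Lrot38 (Lpr_dt (f53202 IH) (Lpn (LP (LK LD1_c1 LD2_c9 LD3_c38))))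
theorem f165062 : Led Lsl_ef (LP (LK LD1_c0 LD2_c36 LD3_c16)) = (LP (LK LD1_c1 LD2_c9 LD3_c38)) :=
  Lgr Lrot17 (Lpe (f164710 IH) (Lpe (f164998 IH) (Lpr_dt (f164999 IH) (Lpr_gf (f164697 IH) (Lpe (f151832 IH) (Lpr_gf (f151830 IH) (Lpr_ef (f164311 IH) (Lpr_dt (K8.f163641 IH) (Lpe (f164091 IH) (Lpr_df (f53210 IH) (Lpn (LP (LK LD1_c1 LD2_c9 LD3_c38)))))))))))))
theorem f165072 : Led Lsl_et (LP (LK LD1_c0 LD2_c36 LD3_c16)) = (LP (LK LD1_c1 LD2_c9 LD3_c38)) :=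
  Lgr Lrot87 (Lpr_ef (f165062 IH) (Lpn (LP (LK LD1_c1 LD2_c9 LD3_c38))))
theorem f51576 : Led Lsl_dt (LP (LK LD1_c0 LD2_c5 LD3_c27)) = (LP (LK LD1_c0 LD2_c11 LD3_c52)) :=
  Lre_d IH (LK LD1_c0 LD2_c5 LD3_c27) (LK LD1_c0 LD2_c11 LD3_c52) Lrfl Lrfl
theorem f51588 : Led Lsl_et (LP (LK LD1_c0 LD2_c11 LD3_c53)) = (LP (LK LD1_c0 LD2_c5 LD3_c27)) :=
  Lre_e IH (LK LD1_c0 LD2_c11 LD3_c53) (LK LD1_c0 LD2_c5 LD3_c27) Lrfl Lrfl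
theorem f53174 : Led Lsl_dt (LP (LK LD1_c0 LD2_c26 LD3_c49)) = (LP (LK LD1_c0 LD2_c11 LD3_c53)) :=
  Lre_d IH (LK LD1_c0 LD2_c26 LD3_c49) (LK LD1_c0 LD2_c11 LD3_c53) Lrfl Lrfl
theorem f53175 : Led Lsl_et (LP (LK LD1_c0 LD2_c32 LD3_c9)) = (LP (LK LD1_c0 LD2_c26 LD3_c49)) :=
  Lgr Lrot71 (Lpe (f28338 IH) (Lpr_ef (f53161 IH) (Lpe (f51576 IH) (Lpe (f51588 IH) (Lpe (f53174 IH) (Lpn (LP (LK LD1_c0 LD2_c26 LD3_c49))))))))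
theorem f165077 : Led Lsl_cf (LP (LK LD1_c0 LD2_c36 LD3_c16)) = (LP (LK LD1_c0 LD2_c26 LD3_c49)) :=
  Lgr Lrot39 (Lpr_et (f165072 IH) (Lpr_ct (f28342 IH) (Lpr_et (f53175 IH) (Lpn (LP (LK LD1_c0 LD2_c26 LD3_c49))))))
theorem f171864 : Led Lsl_gf (LP (LK LD1_c0 LD2_c16 LD3_c20)) = (LP (LK LD1_c0 LD2_c36 LD3_c16)) :=
  Lgr Lrot104 (Lpr_ct (f165213 IH) (Lpe (f9490 IH) (Lpe (f165205 IH) (Lpr_gf (f171755 IH) (Lpe (K1.f40794 IH) (Lpe (f40816 IH) (Lpe (f27244 IH) (Lpr_gt (f40819 IH) (Lpe (f165077 IH) (Lpn (LP (LK LD1_c0 LD2_c36 LD3_c16))))))))))))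
theorem f172041 : Led Lsl_et (LP (LK LD1_c0 LD2_c36 LD3_c40)) = (LP (LK LD1_c0 LD2_c16 LD3_c20)) :=
  Lre_e IH (LK LD1_c0 LD2_c36 LD3_c40) (LK LD1_c0 LD2_c16 LD3_c20) Lrfl Lrfl
theorem f22419 : Led Lsl_dt (LP (LK LD1_c0 LD2_c36 LD3_c40)) = (LP (LK LD1_c1 LD2_c19 LD3_c24)) :=
  Lre_d IH (LK LD1_c0 LD2_c36 LD3_c40) (LK LD1_c1 LD2_c19 LD3_c24) Lrfl Lrfl
theorem f22221 : Led Lsl_et (LP (LK LD1_c1 LD2_c12 LD3_c32)) = (LP (LK LD1_c0 LD2_c33 LD3_c35)) :=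
  Lre_e IH (LK LD1_c1 LD2_c12 LD3_c32) (LK LD1_c0 LD2_c33 LD3_c35) Lrfl Lrfl
theorem f22222 : Led Lsl_dt (LP (LK LD1_c1 LD2_c12 LD3_c32)) = (LP (LK LD1_c2 LD2_c31 LD3_c1)) :=
  Lre_d IH (LK LD1_c1 LD2_c12 LD3_c32) (LK LD1_c2 LD2_c31 LD3_c1) Lrfl Lrfl
theorem f172042 : Led Lsl_gt (LP (LK LD1_c1 LD2_c19 LD3_c24)) = (LP (LK LD1_c2 LD2_c31 LD3_c1)) :=
  Lgr Lrot112 (Lpe (f22419 IH) (Lpr_et (f172041 IH) (Lpr_gf (f171864 IH) (Lpr_ef (f165062 IH) (Lpe (f53210 IH) (Lpe (f22231 IH) (Lpe (f22214 IH) (Lpe (f3298 IH) (Lpe (f22221 IH) (Lpr_dt (f22222 IH) (Lpn (LP (LK LD1_c2 LD2_c31 LD3_c1)))))))))))))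
theorem f55877 : Led Lsl_bt (LP (LK LD1_c0 LD2_c26 LD3_c10)) = (LP (LK LD1_c0 LD2_c57 LD3_c33)) :=
  Lre_b IH (LK LD1_c0 LD2_c26 LD3_c10) (LK LD1_c0 LD2_c57 LD3_c33) Lrfl Lrfl
theorem f56015 : Led Lsl_ef (LP (LK LD1_c0 LD2_c26 LD3_c10)) = (LP (LK LD1_c0 LD2_c17 LD3_c29)) :=
  Lgr Lrot29 (Lpr_bt (f55877 IH) (Lpr_et (K1.f55976 IH) (Lpr_bt (K4.f20239 IH) (Lpn (LP (LK LD1_c0 LD2_c17 LD3_c29))))))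
theorem f172051 : Led Lsl_gf (LP (LK LD1_c0 LD2_c36 LD3_c40)) = (LP (LK LD1_c0 LD2_c26 LD3_c10)) :=
  Lgr Lrot138 (Lpr_dt (f22419 IH) (Lpr_gt (f172042 IH) (Lpe (f22222 IH) (Lpr_et (f22221 IH) (Lpr_gt (f3298 IH) (Lpe (K7.f22116 IH) (Lpr_dt (K0.f8308 IH) (Lpr_gt (K1.f20279 IH) (Lpe (K1.f61812 IH) (Lpe (f56015 IH) (Lpn (LP (LK LD1_c0 LD2_c26 LD3_c10)))))))))))))
theorem f55452 : Led Lsl_ft (LP (LK LD1_c0 LD2_c26 LD3_c10)) = (LP (LK LD1_c0 LD2_c57 LD3_c35)) :=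
  Lre_f IH (LK LD1_c0 LD2_c26 LD3_c10) (LK LD1_c0 LD2_c57 LD3_c35) Lrfl Lrfl
theorem f55453 : Led Lsl_af (LP (LK LD1_c0 LD2_c57 LD3_c8)) = (LP (LK LD1_c0 LD2_c57 LD3_c35)) :=
  Lgr Lrot109 (Lpe (K1.f55439 IH) (Lpe (K1.f55438 IH) (Lpe (K1.f47089 IH) (Lpe (K1.f47090 IH) (Lpe (K1.f47978 IH) (Lpr_df (K1.f55433 IH) (Lpe (K1.f55432 IH) (Lpe (K1.f55431 IH) (Lpr_ft (f55452 IH) (Lpn (LP (LK LD1_c0 LD2_c57 LD3_c35))))))))))))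
theorem f172055 : Led Lsl_gt (LP (LK LD1_c0 LD2_c36 LD3_c40)) = (LP (LK LD1_c0 LD2_c57 LD3_c8)) :=
  Lgr Lrot46 (Lpr_gf (f172051 IH) (Lpr_ft (f55452 IH) (Lpe (f55453 IH) (Lpn (LP (LK LD1_c0 LD2_c57 LD3_c8))))))
theorem f22398 : Led Lsl_ct (LP (LK LD1_c0 LD2_c36 LD3_c40)) = (LP (LK LD1_c0 LD2_c16 LD3_c21)) :=
  Lre_c IH (LK LD1_c0 LD2_c36 LD3_c40) (LK LD1_c0 LD2_c16 LD3_c21) Lrfl Lrfl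
theorem f21218 : Led Lsl_et (LP (LK LD1_c0 LD2_c13 LD3_c13)) = (LP (LK LD1_c0 LD2_c6 LD3_c2)) :=
  Lre_e IH (LK LD1_c0 LD2_c13 LD3_c13) (LK LD1_c0 LD2_c6 LD3_c2) Lrfl Lrfl
theorem f8483 : Led Lsl_gt (LP (LK LD1_c0 LD2_c13 LD3_c12)) = (LP (LK LD1_c0 LD2_c6 LD3_c0)) :=
  Lre_g IH (LK LD1_c0 LD2_c13 LD3_c12) (LK LD1_c0 LD2_c6 LD3_c0) Lrfl Lrfl
theorem f21219 : Led Lsl_dt (LP (LK LD1_c0 LD2_c29 LD3_c53)) = (LP (LK LD1_c0 LD2_c13 LD3_c12)) :=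
  Lre_d IH (LK LD1_c0 LD2_c29 LD3_c53) (LK LD1_c0 LD2_c13 LD3_c12) Lrfl Lrfl
theorem f9366 : Led Lsl_et (LP (LK LD1_c0 LD2_c3 LD3_c27)) = (LP (LK LD1_c0 LD2_c7 LD3_c42)) :=
  Lre_e IH (LK LD1_c0 LD2_c3 LD3_c27) (LK LD1_c0 LD2_c7 LD3_c42) Lrfl Lrfl
theorem f9386 : Led Lsl_gt (LP (LK LD1_c0 LD2_c7 LD3_c42)) = (LP (LK LD1_c0 LD2_c17 LD3_c20)) :=
  Lre_g IH (LK LD1_c0 LD2_c7 LD3_c42) (LK LD1_c0 LD2_c17 LD3_c20) Lrfl Lrfl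
theorem f21220 : Led Lsl_et (LP (LK LD1_c0 LD2_c29 LD3_c53)) = (LP (LK LD1_c0 LD2_c17 LD3_c20)) :=
  Lgr Lrot122 (Lpr_dt (f21219 IH) (Lpr_gt (f8483 IH) (Lpe (K0.f8383 IH) (Lpr_et (f21218 IH) (Lpr_gt (K0.f21204 IH) (Lpr_dt (K0.f20046 IH) (Lpr_gt (K0.f6726 IH) (Lpe (K4.f6721 IH) (Lpr_et (f9366 IH) (Lpr_gt (f9386 IH) (Lpn (LP (LK LD1_c0 LD2_c17 LD3_c20)))))))))))))
theorem f9512 : Led Lsl_gt (LP (LK LD1_c0 LD2_c7 LD3_c60)) = (LP (LK LD1_c0 LD2_c13 LD3_c12)) :=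
  Lre_g IH (LK LD1_c0 LD2_c7 LD3_c60) (LK LD1_c0 LD2_c13 LD3_c12) Lrfl Lrfl
theorem f9421 : Led Lsl_gt (LP (LK LD1_c0 LD2_c17 LD3_c20)) = (LP (LK LD1_c0 LD2_c29 LD3_c9)) :=
  Lre_g IH (LK LD1_c0 LD2_c17 LD3_c20) (LK LD1_c0 LD2_c29 LD3_c9) Lrfl Lrfl
theorem f9486 : Led Lsl_gt (LP (LK LD1_c0 LD2_c5 LD3_c51)) = (LP (LK LD1_c0 LD2_c3 LD3_c17)) :=
  Lre_g IH (LK LD1_c0 LD2_c5 LD3_c51) (LK LD1_c0 LD2_c3 LD3_c17) Lrfl Lrfl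
theorem f8337 : Led Lsl_dt (LP (LK LD1_c0 LD2_c7 LD3_c19)) = (LP (LK LD1_c0 LD2_c3 LD3_c17)) :=
  Lre_d IH (LK LD1_c0 LD2_c7 LD3_c19) (LK LD1_c0 LD2_c3 LD3_c17) Lrfl Lrfl
theorem f8338 : Led Lsl_et (LP (LK LD1_c0 LD2_c7 LD3_c19)) = (LP (LK LD1_c0 LD2_c16 LD3_c21)) :=
  Lre_e IH (LK LD1_c0 LD2_c7 LD3_c19) (LK LD1_c0 LD2_c16 LD3_c21) Lrfl Lrfl
theorem f22391 : Led Lsl_gf (LP (LK LD1_c0 LD2_c17 LD3_c48)) = (LP (LK LD1_c0 LD2_c16 LD3_c21)) :=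
  Lgr Lrot138 (Lpr_dt (K0.f8508 IH) (Lpr_gt (f9512 IH) (Lpe (f21219 IH) (Lpr_et (f21220 IH) (Lpr_gt (f9421 IH) (Lpe (K0.f9443 IH) (Lpr_dt (K0.f9442 IH) (Lpr_gt (f9486 IH) (Lpe (f8337 IH) (Lpr_et (f8338 IH) (Lpn (LP (LK LD1_c0 LD2_c16 LD3_c21)))))))))))))
theorem f9514 : Led Lsl_dt (LP (LK LD1_c0 LD2_c13 LD3_c12)) = (LP (LK LD1_c0 LD2_c29 LD3_c53)) :=
  Lre_d IH (LK LD1_c0 LD2_c13 LD3_c12) (LK LD1_c0 LD2_c29 LD3_c53) Lrfl Lrfl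
theorem f22397 : Led Lsl_ct (LP (LK LD1_c0 LD2_c29 LD3_c53)) = (LP (LK LD1_c1 LD2_c5 LD3_c22)) :=
  Lre_c IH (LK LD1_c0 LD2_c29 LD3_c53) (LK LD1_c1 LD2_c5 LD3_c22) Lrfl Lrfl
theorem f55644 : Led Lsl_at (LP (LK LD1_c0 LD2_c57 LD3_c7)) = (LP (LK LD1_c0 LD2_c57 LD3_c34)) :=
  Lgr Lrot107 (Lpe (K1.f55382 IH) (Lpr_af (K2.f55642 IH) (Lpe (K1.f55432 IH) (Lpn (LP (LK LD1_c0 LD2_c57 LD3_c34))))))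
theorem f55584 : Led Lsl_ft (LP (LK LD1_c2 LD2_c0 LD3_c20)) = (LP (LK LD1_c0 LD2_c57 LD3_c7)) :=
  Lre_f IH (LK LD1_c2 LD2_c0 LD3_c20) (LK LD1_c0 LD2_c57 LD3_c7) Lrfl Lrfl
theorem f55458 : Led Lsl_gt (LP (LK LD1_c2 LD2_c1 LD3_c1)) = (LP (LK LD1_c0 LD2_c57 LD3_c34)) :=
  Lre_g IH (LK LD1_c2 LD2_c1 LD3_c1) (LK LD1_c0 LD2_c57 LD3_c34) Lrfl Lrfl
theorem f55811 : Led Lsl_gt (LP (LK LD1_c2 LD2_c0 LD3_c20)) = (LP (LK LD1_c2 LD2_c1 LD3_c1)) :=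
  Lgr Lrot5 (Lpr_ft (f55584 IH) (Lpr_at (f55644 IH) (Lpe (f55458 IH) (Lpn (LP (LK LD1_c2 LD2_c1 LD3_c1))))))
theorem f172060 : Led Lsl_df (LP (LK LD1_c1 LD2_c5 LD3_c22)) = (LP (LK LD1_c2 LD2_c1 LD3_c1)) :=
  Lgr Lrot84 (Lpe (f22397 IH) (Lpe (f9514 IH) (Lpe (f9512 IH) (Lpe (K0.f8508 IH) (Lpr_gf (f22391 IH) (Lpe (f22398 IH) (Lpr_gt (f172055 IH) (Lpr_dt (K1.f55440 IH) (Lpr_gt (f55811 IH) (Lpn (LP (LK LD1_c2 LD2_c1 LD3_c1))))))))))))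
theorem f172064 : Led Lsl_dt (LP (LK LD1_c1 LD2_c5 LD3_c22)) = (LP (LK LD1_c2 LD2_c1 LD3_c1)) :=
  Lgr Lrot42 (Lpr_df (f172060 IH) (Lpn (LP (LK LD1_c2 LD2_c1 LD3_c1))))
theorem f22389 : Led Lsl_ef (LP (LK LD1_c0 LD2_c29 LD3_c53)) = (LP (LK LD1_c0 LD2_c17 LD3_c20)) :=
  Lgr Lrot88 (Lpr_et (f21220 IH) (Lpn (LP (LK LD1_c0 LD2_c17 LD3_c20))))
theorem f9422 : Led Lsl_ct (LP (LK LD1_c0 LD2_c39 LD3_c1)) = (LP (LK LD1_c0 LD2_c17 LD3_c20)) :=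
  Lre_c IH (LK LD1_c0 LD2_c39 LD3_c1) (LK LD1_c0 LD2_c17 LD3_c20) Lrfl Lrfl
theorem f22421 : Led Lsl_et (LP (LK LD1_c1 LD2_c5 LD3_c22)) = (LP (LK LD1_c0 LD2_c39 LD3_c1)) :=
  Lgr Lrot158 (Lpe (f22397 IH) (Lpr_ef (f22389 IH) (Lpe (f9422 IH) (Lpn (LP (LK LD1_c0 LD2_c39 LD3_c1))))))
theorem f69272 : Led Lsl_et (LP (LK LD1_c0 LD2_c18 LD3_c9)) = (LP (LK LD1_c0 LD2_c40 LD3_c33)) :=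
  Lre_e IH (LK LD1_c0 LD2_c18 LD3_c9) (LK LD1_c0 LD2_c40 LD3_c33) Lrfl Lrfl
theorem f172121 : Led Lsl_gf (LP (LK LD1_c0 LD2_c39 LD3_c1)) = (LP (LK LD1_c0 LD2_c40 LD3_c33)) :=
  Lgr Lrot141 (Lpe (f22421 IH) (Lpr_dt (f172064 IH) (Lpr_gt (f55458 IH) (Lpe (K1.f55431 IH) (Lpr_et (K1.f56030 IH) (Lpr_gt (K1.f37263 IH) (Lpr_dt (K1.f20045 IH) (Lpr_gt (K2.f68533 IH) (Lpr_df (K4.f59565 IH) (Lpr_et (f69272 IH) (Lpn (LP (LK LD1_c0 LD2_c40 LD3_c33)))))))))))))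
theorem f100689 : Led Lsl_ft (LP (LK LD1_c0 LD2_c40 LD3_c33)) = (LP (LK LD1_c1 LD2_c27 LD3_c41)) :=
  Lre_f IH (LK LD1_c0 LD2_c40 LD3_c33) (LK LD1_c1 LD2_c27 LD3_c41) Lrfl Lrfl
theorem f100578 : Led Lsl_at (LP (LK LD1_c1 LD2_c11 LD3_c1)) = (LP (LK LD1_c2 LD2_c26 LD3_c59)) :=
  Lre_a IH (LK LD1_c1 LD2_c11 LD3_c1) (LK LD1_c2 LD2_c26 LD3_c59) Lrfl Lrfl
theorem f100579 : Led Lsl_bt (LP (LK LD1_c0 LD2_c32 LD3_c58)) = (LP (LK LD1_c1 LD2_c11 LD3_c1)) :=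
  Lre_b IH (LK LD1_c0 LD2_c32 LD3_c58) (LK LD1_c1 LD2_c11 LD3_c1) Lrfl Lrfl
theorem f100580 : Led Lsl_at (LP (LK LD1_c3 LD2_c3 LD3_c27)) = (LP (LK LD1_c1 LD2_c27 LD3_c39)) :=
  Lre_a IH (LK LD1_c3 LD2_c3 LD3_c27) (LK LD1_c1 LD2_c27 LD3_c39) Lrfl Lrfl
theorem f100581 : Led Lsl_bt (LP (LK LD1_c1 LD2_c27 LD3_c39)) = (LP (LK LD1_c0 LD2_c40 LD3_c33)) :=
  Lre_b IH (LK LD1_c1 LD2_c27 LD3_c39) (LK LD1_c0 LD2_c40 LD3_c33) Lrfl Lrfl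
theorem f100582 : Led Lsl_af (LP (LK LD1_c0 LD2_c32 LD3_c58)) = (LP (LK LD1_c0 LD2_c40 LD3_c33)) :=
  Lgr Lrot36 (Lpr_bt (f100579 IH) (Lpr_at (f100578 IH) (Lpr_bt (K7.f100574 IH) (Lpr_at (f100580 IH) (Lpr_bt (f100581 IH) (Lpn (LP (LK LD1_c0 LD2_c40 LD3_c33))))))))
theorem f26036 : Led Lsl_ct (LP (LK LD1_c0 LD2_c14 LD3_c49)) = (LP (LK LD1_c0 LD2_c32 LD3_c58)) :=
  Lre_c IH (LK LD1_c0 LD2_c14 LD3_c49) (LK LD1_c0 LD2_c32 LD3_c58) Lrfl Lrfl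
theorem f9359 : Led Lsl_bt (LP (LK LD1_c0 LD2_c7 LD3_c42)) = (LP (LK LD1_c0 LD2_c14 LD3_c49)) :=
  Lre_b IH (LK LD1_c0 LD2_c7 LD3_c42) (LK LD1_c0 LD2_c14 LD3_c49) Lrfl Lrfl
theorem f9360 : Led Lsl_bt (LP (LK LD1_c0 LD2_c14 LD3_c49)) = (LP (LK LD1_c0 LD2_c7 LD3_c42)) :=
  Lre_b IH (LK LD1_c0 LD2_c14 LD3_c49) (LK LD1_c0 LD2_c7 LD3_c42) Lrfl Lrfl
theorem f9361 : Led Lsl_dt (LP (LK LD1_c0 LD2_c14 LD3_c49)) = (LP (LK LD1_c0 LD2_c14 LD3_c49)) :=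
  Lgr Lrot79 (Lpe (f9359 IH) (Lpr_df (K0.f9353 IH) (Lpe (f9360 IH) (Lpn (LP (LK LD1_c0 LD2_c14 LD3_c49))))))
theorem f26035 : Led Lsl_ct (LP (LK LD1_c0 LD2_c32 LD3_c58)) = (LP (LK LD1_c0 LD2_c14 LD3_c49)) :=
  Lre_c IH (LK LD1_c0 LD2_c32 LD3_c58) (LK LD1_c0 LD2_c14 LD3_c49) Lrfl Lrfl
theorem f100600 : Led Lsl_dt (LP (LK LD1_c1 LD2_c11 LD3_c6)) = (LP (LK LD1_c0 LD2_c32 LD3_c58)) :=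
  Lre_d IH (LK LD1_c1 LD2_c11 LD3_c6) (LK LD1_c0 LD2_c32 LD3_c58) Lrfl Lrfl
theorem f100601 : Led Lsl_ct (LP (LK LD1_c2 LD2_c27 LD3_c58)) = (LP (LK LD1_c1 LD2_c11 LD3_c6)) :=
  Lre_c IH (LK LD1_c2 LD2_c27 LD3_c58) (LK LD1_c1 LD2_c11 LD3_c6) Lrfl Lrfl
theorem f100602 : Led Lsl_dt (LP (LK LD1_c5 LD2_c0 LD3_c28)) = (LP (LK LD1_c2 LD2_c27 LD3_c58)) :=
  Lre_d IH (LK LD1_c5 LD2_c0 LD3_c28) (LK LD1_c2 LD2_c27 LD3_c58) Lrfl Lrfl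
theorem f100599 : Led Lsl_ft (LP (LK LD1_c1 LD2_c27 LD3_c41)) = (LP (LK LD1_c0 LD2_c40 LD3_c33)) :=
  Lre_f IH (LK LD1_c1 LD2_c27 LD3_c41) (LK LD1_c0 LD2_c40 LD3_c33) Lrfl Lrfl
theorem f100603 : Led Lsl_dt (LP (LK LD1_c1 LD2_c27 LD3_c41)) = (LP (LK LD1_c3 LD2_c3 LD3_c33)) :=
  Lre_d IH (LK LD1_c1 LD2_c27 LD3_c41) (LK LD1_c3 LD2_c3 LD3_c33) Lrfl Lrfl
theorem f100604 : Led Lsl_cf (LP (LK LD1_c5 LD2_c0 LD3_c28)) = (LP (LK LD1_c3 LD2_c3 LD3_c33)) :=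
  Lgr Lrot118 (Lpr_dt (f100602 IH) (Lpr_ct (f100601 IH) (Lpr_dt (f100600 IH) (Lpr_ct (f26035 IH) (Lpr_dt (f9361 IH) (Lpr_ct (f26036 IH) (Lpr_af (f100582 IH) (Lpe (f100599 IH) (Lpr_dt (f100603 IH) (Lpn (LP (LK LD1_c3 LD2_c3 LD3_c33))))))))))))
theorem f100619 : Led Lsl_ct (LP (LK LD1_c0 LD2_c40 LD3_c36)) = (LP (LK LD1_c1 LD2_c27 LD3_c41)) :=
  Lre_c IH (LK LD1_c0 LD2_c40 LD3_c36) (LK LD1_c1 LD2_c27 LD3_c41) Lrfl Lrfl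
theorem f20294 : Led Lsl_dt (LP (LK LD1_c0 LD2_c32 LD3_c58)) = (LP (LK LD1_c1 LD2_c11 LD3_c6)) :=
  Lre_d IH (LK LD1_c0 LD2_c32 LD3_c58) (LK LD1_c1 LD2_c11 LD3_c6) Lrfl Lrfl
theorem f100616 : Led Lsl_ct (LP (LK LD1_c1 LD2_c11 LD3_c6)) = (LP (LK LD1_c2 LD2_c27 LD3_c58)) :=
  Lre_c IH (LK LD1_c1 LD2_c11 LD3_c6) (LK LD1_c2 LD2_c27 LD3_c58) Lrfl Lrfl
theorem f73952 : Led Lsl_dt (LP (LK LD1_c2 LD2_c27 LD3_c58)) = (LP (LK LD1_c5 LD2_c0 LD3_c28)) :=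
  Lre_d IH (LK LD1_c2 LD2_c27 LD3_c58) (LK LD1_c5 LD2_c0 LD3_c28) Lrfl Lrfl
theorem f100614 : Led Lsl_ct (LP (LK LD1_c5 LD2_c0 LD3_c28)) = (LP (LK LD1_c3 LD2_c3 LD3_c33)) :=
  Lgr Lrot59 (Lpr_cf (f100604 IH) (Lpn (LP (LK LD1_c3 LD2_c3 LD3_c33))))
theorem f100617 : Led Lsl_dt (LP (LK LD1_c3 LD2_c3 LD3_c33)) = (LP (LK LD1_c1 LD2_c27 LD3_c41)) :=
  Lre_d IH (LK LD1_c3 LD2_c3 LD3_c33) (LK LD1_c1 LD2_c27 LD3_c41) Lrfl Lrfl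
theorem f100618 : Led Lsl_ct (LP (LK LD1_c1 LD2_c27 LD3_c41)) = (LP (LK LD1_c0 LD2_c40 LD3_c36)) :=
  Lre_c IH (LK LD1_c1 LD2_c27 LD3_c41) (LK LD1_c0 LD2_c40 LD3_c36) Lrfl Lrfl
theorem f100620 : Led Lsl_dt (LP (LK LD1_c0 LD2_c40 LD3_c36)) = (LP (LK LD1_c0 LD2_c40 LD3_c36)) :=
  Lgr Lrot173 (Lpe (f100618 IH) (Lpe (f100617 IH) (Lpe (f100614 IH) (Lpe (f73952 IH) (Lpe (f100616 IH) (Lpe (f20294 IH) (Lpe (f26036 IH) (Lpe (f9361 IH) (Lpe (f26035 IH) (Lpe (f100600 IH) (Lpe (f100601 IH) (Lpe (f100602 IH) (Lpr_cf (f100604 IH) (Lpe (f100603 IH) (Lpe (f100619 IH) (Lpn (LP (LK LD1_c0 LD2_c40 LD3_c36))))))))))))))))))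
theorem f100634 : Led Lsl_ft (LP (LK LD1_c0 LD2_c40 LD3_c36)) = (LP (LK LD1_c0 LD2_c18 LD3_c10)) :=
  Lre_f IH (LK LD1_c0 LD2_c40 LD3_c36) (LK LD1_c0 LD2_c18 LD3_c10) Lrfl Lrfl
theorem f100635 : Led Lsl_af (LP (LK LD1_c0 LD2_c14 LD3_c49)) = (LP (LK LD1_c0 LD2_c18 LD3_c10)) :=
  Lgr Lrot109 (Lpe (f26035 IH) (Lpe (f100600 IH) (Lpe (f100601 IH) (Lpe (f100602 IH) (Lpr_cf (f100604 IH) (Lpe (f100603 IH) (Lpe (f100619 IH) (Lpe (f100620 IH) (Lpr_ft (f100634 IH) (Lpn (LP (LK LD1_c0 LD2_c18 LD3_c10))))))))))))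
theorem f100649 : Led Lsl_ft (LP (LK LD1_c0 LD2_c14 LD3_c49)) = (LP (LK LD1_c0 LD2_c32 LD3_c45)) :=
  Lre_f IH (LK LD1_c0 LD2_c14 LD3_c49) (LK LD1_c0 LD2_c32 LD3_c45) Lrfl Lrfl
theorem f100650 : Led Lsl_at (LP (LK LD1_c0 LD2_c32 LD3_c45)) = (LP (LK LD1_c0 LD2_c40 LD3_c36)) :=
  Lgr Lrot66 (Lpe (f100649 IH) (Lpr_af (f100635 IH) (Lpe (f100634 IH) (Lpn (LP (LK LD1_c0 LD2_c40 LD3_c36))))))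
theorem f100672 : Led Lsl_ct (LP (LK LD1_c1 LD2_c10 LD3_c41)) = (LP (LK LD1_c0 LD2_c32 LD3_c45)) :=
  Lre_c IH (LK LD1_c1 LD2_c10 LD3_c41) (LK LD1_c0 LD2_c32 LD3_c45) Lrfl Lrfl
theorem f100673 : Led Lsl_af (LP (LK LD1_c1 LD2_c10 LD3_c41)) = (LP (LK LD1_c1 LD2_c27 LD3_c41)) :=
  Lgr Lrot68 (Lpr_ct (f100672 IH) (Lpr_at (f100650 IH) (Lpr_ct (f100619 IH) (Lpn (LP (LK LD1_c1 LD2_c27 LD3_c41))))))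
theorem f172123 : Led Lsl_gt (LP (LK LD1_c0 LD2_c39 LD3_c1)) = (LP (LK LD1_c1 LD2_c10 LD3_c41)) :=
  Lgr Lrot46 (Lpr_gf (f172121 IH) (Lpr_ft (f100689 IH) (Lpe (f100673 IH) (Lpn (LP (LK LD1_c1 LD2_c10 LD3_c41))))))
theorem f172059 : Led Lsl_et (LP (LK LD1_c0 LD2_c16 LD3_c20)) = (LP (LK LD1_c0 LD2_c36 LD3_c40)) :=
  Lre_e IH (LK LD1_c0 LD2_c16 LD3_c20) (LK LD1_c0 LD2_c36 LD3_c40) Lrfl Lrfl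
theorem f165211 : Led Lsl_dt (LP (LK LD1_c0 LD2_c16 LD3_c20)) = (LP (LK LD1_c0 LD2_c36 LD3_c39)) :=
  Lre_d IH (LK LD1_c0 LD2_c16 LD3_c20) (LK LD1_c0 LD2_c36 LD3_c39) Lrfl Lrfl
theorem f100944 : Led Lsl_et (LP (LK LD1_c0 LD2_c32 LD3_c44)) = (LP (LK LD1_c1 LD2_c10 LD3_c41)) :=
  Lre_e IH (LK LD1_c0 LD2_c32 LD3_c44) (LK LD1_c1 LD2_c10 LD3_c41) Lrfl Lrfl
theorem f172135 : Led Lsl_gf (LP (LK LD1_c0 LD2_c36 LD3_c39)) = (LP (LK LD1_c1 LD2_c10 LD3_c40)) :=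
  Lgr Lrot145 (Lpe (f165211 IH) (Lpr_et (f172059 IH) (Lpr_gt (f172055 IH) (Lpr_dt (K1.f55440 IH) (Lpr_gt (f55811 IH) (Lpe (f172064 IH) (Lpr_et (f22421 IH) (Lpr_gt (f172123 IH) (Lpe (f100944 IH) (Lpr_dt (K1.f40736 IH) (Lpn (LP (LK LD1_c1 LD2_c10 LD3_c40)))))))))))))
theorem f165210 : Led Lsl_dt (LP (LK LD1_c0 LD2_c36 LD3_c39)) = (LP (LK LD1_c0 LD2_c16 LD3_c20)) :=
  Lre_d IH (LK LD1_c0 LD2_c36 LD3_c39) (LK LD1_c0 LD2_c16 LD3_c20) Lrfl Lrfl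
theorem f9456 : Led Lsl_gt (LP (LK LD1_c0 LD2_c7 LD3_c21)) = (LP (LK LD1_c0 LD2_c12 LD3_c52)) :=
  Lre_g IH (LK LD1_c0 LD2_c7 LD3_c21) (LK LD1_c0 LD2_c12 LD3_c52) Lrfl Lrfl
theorem f171299 : Led Lsl_ct (LP (LK LD1_c0 LD2_c7 LD3_c21)) = (LP (LK LD1_c0 LD2_c16 LD3_c23)) :=
  Lre_c IH (LK LD1_c0 LD2_c7 LD3_c21) (LK LD1_c0 LD2_c16 LD3_c23) Lrfl Lrfl
theorem f172137 : Led Lsl_gt (LP (LK LD1_c0 LD2_c16 LD3_c23)) = (LP (LK LD1_c0 LD2_c32 LD3_c44)) :=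
  Lgr Lrot94 (Lpe (f171299 IH) (Lpr_gt (f9456 IH) (Lpr_dt (K0.f9442 IH) (Lpr_gt (f9486 IH) (Lpr_dt (f9490 IH) (Lpe (f165213 IH) (Lpe (f165210 IH) (Lpr_gf (f172135 IH) (Lpe (K1.f40736 IH) (Lpn (LP (LK LD1_c0 LD2_c32 LD3_c44))))))))))))
theorem f172151 : Led Lsl_et (LP (LK LD1_c0 LD2_c36 LD3_c43)) = (LP (LK LD1_c0 LD2_c16 LD3_c23)) :=
  Lre_e IH (LK LD1_c0 LD2_c36 LD3_c43) (LK LD1_c0 LD2_c16 LD3_c23) Lrfl Lrfl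
theorem f172152 : Led Lsl_dt (LP (LK LD1_c0 LD2_c36 LD3_c43)) = (LP (LK LD1_c1 LD2_c19 LD3_c34)) :=
  Lre_d IH (LK LD1_c0 LD2_c36 LD3_c43) (LK LD1_c1 LD2_c19 LD3_c34) Lrfl Lrfl
theorem f22415 : Led Lsl_gt (LP (LK LD1_c2 LD2_c46 LD3_c24)) = (LP (LK LD1_c1 LD2_c19 LD3_c34)) :=
  Lre_g IH (LK LD1_c2 LD2_c46 LD3_c24) (LK LD1_c1 LD2_c19 LD3_c34) Lrfl Lrfl
theorem f172153 : Led Lsl_dt (LP (LK LD1_c1 LD2_c28 LD3_c29)) = (LP (LK LD1_c2 LD2_c46 LD3_c24)) :=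
  Lgr Lrot136 (Lpe (K2.f60817 IH) (Lpe (f172055 IH) (Lpe (f172059 IH) (Lpr_dt (f165211 IH) (Lpr_gf (f172135 IH) (Lpe (K1.f40736 IH) (Lpe (f172137 IH) (Lpe (f172151 IH) (Lpr_dt (f172152 IH) (Lpe (f22415 IH) (Lpn (LP (LK LD1_c2 LD2_c46 LD3_c24)))))))))))))
theorem f60726 : Led Lsl_dt (LP (LK LD1_c1 LD2_c28 LD3_c28)) = (LP (LK LD1_c0 LD2_c40 LD3_c53)) :=
  Lre_d IH (LK LD1_c1 LD2_c28 LD3_c28) (LK LD1_c0 LD2_c40 LD3_c53) Lrfl Lrfl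
theorem f172164 : Led Lsl_ff (LP (LK LD1_c1 LD2_c28 LD3_c28)) = (LP (LK LD1_c2 LD2_c46 LD3_c24)) :=
  Lgr Lrot19 (Lpr_dt (f60726 IH) (Lpr_ft (K2.f60839 IH) (Lpr_dt (f172153 IH) (Lpn (LP (LK LD1_c2 LD2_c46 LD3_c24))))))
theorem f73124 : Led Lsl_at (LP (LK LD1_c6 LD2_c15 LD3_c24)) = (LP (LK LD1_c3 LD2_c4 LD3_c49)) :=
  Lre_a IH (LK LD1_c6 LD2_c15 LD3_c24) (LK LD1_c3 LD2_c4 LD3_c49) Lrfl Lrfl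
theorem f73125 : Led Lsl_bt (LP (LK LD1_c3 LD2_c4 LD3_c49)) = (LP (LK LD1_c1 LD2_c28 LD3_c28)) :=
  Lre_b IH (LK LD1_c3 LD2_c4 LD3_c49) (LK LD1_c1 LD2_c28 LD3_c28) Lrfl Lrfl
theorem f73126 : Led Lsl_at (LP (LK LD1_c2 LD2_c49 LD3_c28)) = (LP (LK LD1_c5 LD2_c47 LD3_c2)) :=
  Lre_a IH (LK LD1_c2 LD2_c49 LD3_c28) (LK LD1_c5 LD2_c47 LD3_c2) Lrfl Lrfl
theorem f73127 : Led Lsl_bt (LP (LK LD1_c1 LD2_c20 LD3_c54)) = (LP (LK LD1_c2 LD2_c49 LD3_c28)) :=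
  Lre_b IH (LK LD1_c1 LD2_c20 LD3_c54) (LK LD1_c2 LD2_c49 LD3_c28) Lrfl Lrfl
theorem f73128 : Led Lsl_at (LP (LK LD1_c1 LD2_c28 LD3_c28)) = (LP (LK LD1_c1 LD2_c20 LD3_c54)) :=
  Lgr Lrot67 (Lpe (f73125 IH) (Lpe (f73124 IH) (Lpr_bf (K2.f72960 IH) (Lpe (f73126 IH) (Lpe (f73127 IH) (Lpn (LP (LK LD1_c1 LD2_c20 LD3_c54))))))))
theorem f172276 : Led Lsl_gf (LP (LK LD1_c1 LD2_c20 LD3_c54)) = (LP (LK LD1_c1 LD2_c19 LD3_c34)) :=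
  Lgr Lrot76 (Lpe (f73128 IH) (Lpr_ff (f172164 IH) (Lpr_gt (f22415 IH) (Lpn (LP (LK LD1_c1 LD2_c19 LD3_c34))))))
theorem f61318 : Led Lsl_dt (LP (LK LD1_c0 LD2_c37 LD3_c22)) = (LP (LK LD1_c1 LD2_c20 LD3_c54)) :=
  Lre_d IH (LK LD1_c0 LD2_c37 LD3_c22) (LK LD1_c1 LD2_c20 LD3_c54) Lrfl Lrfl
theorem f60920 : Led Lsl_et (LP (LK LD1_c0 LD2_c37 LD3_c22)) = (LP (LK LD1_c0 LD2_c16 LD3_c39)) :=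
  Lre_e IH (LK LD1_c0 LD2_c37 LD3_c22) (LK LD1_c0 LD2_c16 LD3_c39) Lrfl Lrfl
theorem f36234 : Led Lsl_et (LP (LK LD1_c0 LD2_c11 LD3_c4)) = (LP (LK LD1_c0 LD2_c24 LD3_c53)) :=
  Lre_e IH (LK LD1_c0 LD2_c11 LD3_c4) (LK LD1_c0 LD2_c24 LD3_c53) Lrfl Lrfl
theorem f172291 : Led Lsl_gt (LP (LK LD1_c0 LD2_c24 LD3_c53)) = (LP (LK LD1_c0 LD2_c16 LD3_c23)) :=
  Lgr Lrot131 (Lpe (f36234 IH) (Lpr_dt (K4.f35524 IH) (Lpe (K0.f35521 IH) (Lpe (K2.f20288 IH) (Lpe (K2.f60925 IH) (Lpe (f60920 IH) (Lpr_dt (f61318 IH) (Lpr_gf (f172276 IH) (Lpe (f172152 IH) (Lpr_et (f172151 IH) (Lpn (LP (LK LD1_c0 LD2_c16 LD3_c23)))))))))))))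
theorem f35536 : Led Lsl_dt (LP (LK LD1_c0 LD2_c24 LD3_c53)) = (LP (LK LD1_c0 LD2_c54 LD3_c59)) :=
  Lre_d IH (LK LD1_c0 LD2_c24 LD3_c53) (LK LD1_c0 LD2_c54 LD3_c59) Lrfl Lrfl
theorem f165208 : Led Lsl_ct (LP (LK LD1_c0 LD2_c3 LD3_c17)) = (LP (LK LD1_c0 LD2_c7 LD3_c18)) :=
  Lre_c IH (LK LD1_c0 LD2_c3 LD3_c17) (LK LD1_c0 LD2_c7 LD3_c18) Lrfl Lrfl
theorem f101338 : Led Lsl_ct (LP (LK LD1_c0 LD2_c7 LD3_c22)) = (LP (LK LD1_c0 LD2_c16 LD3_c27)) :=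
  Lre_c IH (LK LD1_c0 LD2_c7 LD3_c22) (LK LD1_c0 LD2_c16 LD3_c27) Lrfl Lrfl
theorem f171757 : Led Lsl_gt (LP (LK LD1_c0 LD2_c16 LD3_c27)) = (LP (LK LD1_c0 LD2_c24 LD3_c53)) :=
  Lgr Lrot150 (Lpe (f101338 IH) (Lpe (K0.f9459 IH) (Lpe (K0.f9444 IH) (Lpr_gt (f9486 IH) (Lpr_ct (f165208 IH) (Lpr_gt (f171200 IH) (Lpr_ct (K1.f28388 IH) (Lpe (K1.f27242 IH) (Lpe (K1.f40723 IH) (Lpn (LP (LK LD1_c0 LD2_c24 LD3_c53))))))))))))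
theorem f171768 : Led Lsl_ct (LP (LK LD1_c0 LD2_c16 LD3_c27)) = (LP (LK LD1_c0 LD2_c7 LD3_c22)) :=
  Lre_c IH (LK LD1_c0 LD2_c16 LD3_c27) (LK LD1_c0 LD2_c7 LD3_c22) Lrfl Lrfl
theorem f8335 : Led Lsl_dt (LP (LK LD1_c0 LD2_c3 LD3_c18)) = (LP (LK LD1_c0 LD2_c1 LD3_c21)) :=
  Lre_d IH (LK LD1_c0 LD2_c3 LD3_c18) (LK LD1_c0 LD2_c1 LD3_c21) Lrfl Lrfl
theorem f164709 : Led Lsl_ct (LP (LK LD1_c0 LD2_c7 LD3_c15)) = (LP (LK LD1_c0 LD2_c16 LD3_c9)) :=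
  Lre_c IH (LK LD1_c0 LD2_c7 LD3_c15) (LK LD1_c0 LD2_c16 LD3_c9) Lrfl Lrfl
theorem f165159 : Led Lsl_dt (LP (LK LD1_c0 LD2_c36 LD3_c19)) = (LP (LK LD1_c0 LD2_c16 LD3_c9)) :=
  Lre_d IH (LK LD1_c0 LD2_c36 LD3_c19) (LK LD1_c0 LD2_c16 LD3_c9) Lrfl Lrfl
theorem f171769 : Led Lsl_gf (LP (LK LD1_c0 LD2_c36 LD3_c19)) = (LP (LK LD1_c0 LD2_c54 LD3_c59)) :=
  Lgr Lrot143 (Lpr_dt (f165159 IH) (Lpe (f164709 IH) (Lpe (K0.f3071 IH) (Lpe (K0.f7880 IH) (Lpe (f8335 IH) (Lpe (K0.f9501 IH) (Lpe (f171768 IH) (Lpr_gt (f171757 IH) (Lpr_dt (f35536 IH) (Lpn (LP (LK LD1_c0 LD2_c54 LD3_c59))))))))))))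
theorem f171266 : Led Lsl_ct (LP (LK LD1_c0 LD2_c16 LD3_c23)) = (LP (LK LD1_c0 LD2_c7 LD3_c21)) :=
  Lre_c IH (LK LD1_c0 LD2_c16 LD3_c23) (LK LD1_c0 LD2_c7 LD3_c21) Lrfl Lrfl
theorem f172298 : Led Lsl_ct (LP (LK LD1_c0 LD2_c12 LD3_c52)) = (LP (LK LD1_c0 LD2_c29 LD3_c8)) :=
  Lre_c IH (LK LD1_c0 LD2_c12 LD3_c52) (LK LD1_c0 LD2_c29 LD3_c8) Lrfl Lrfl
theorem f172299 : Led Lsl_dt (LP (LK LD1_c1 LD2_c3 LD3_c54)) = (LP (LK LD1_c0 LD2_c29 LD3_c8)) :=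
  Lre_d IH (LK LD1_c1 LD2_c3 LD3_c54) (LK LD1_c0 LD2_c29 LD3_c8) Lrfl Lrfl
theorem f168296 : Led Lsl_ct (LP (LK LD1_c0 LD2_c35 LD3_c61)) = (LP (LK LD1_c1 LD2_c3 LD3_c54)) :=
  Lre_c IH (LK LD1_c0 LD2_c35 LD3_c61) (LK LD1_c1 LD2_c3 LD3_c54) Lrfl Lrfl
theorem f172300 : Led Lsl_gt (LP (LK LD1_c1 LD2_c18 LD3_c4)) = (LP (LK LD1_c0 LD2_c35 LD3_c61)) :=
  Lre_g IH (LK LD1_c1 LD2_c18 LD3_c4) (LK LD1_c0 LD2_c35 LD3_c61) Lrfl Lrfl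
theorem f172301 : Led Lsl_ct (LP (LK LD1_c0 LD2_c36 LD3_c19)) = (LP (LK LD1_c1 LD2_c18 LD3_c4)) :=
  Lgr Lrot152 (Lpr_gf (f171769 IH) (Lpe (f35536 IH) (Lpr_gt (f172291 IH) (Lpr_ct (f171266 IH) (Lpr_gt (f9456 IH) (Lpr_ct (f172298 IH) (Lpe (f172299 IH) (Lpe (f168296 IH) (Lpe (f172300 IH) (Lpn (LP (LK LD1_c1 LD2_c18 LD3_c4))))))))))))
theorem f171812 : Led Lsl_bt (LP (LK LD1_c1 LD2_c56 LD3_c17)) = (LP (LK LD1_c0 LD2_c54 LD3_c59)) :=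
  Lre_b IH (LK LD1_c1 LD2_c56 LD3_c17) (LK LD1_c0 LD2_c54 LD3_c59) Lrfl Lrfl
theorem f171815 : Led Lsl_ct (LP (LK LD1_c1 LD2_c56 LD3_c17)) = (LP (LK LD1_c3 LD2_c59 LD3_c8)) :=
  Lre_c IH (LK LD1_c1 LD2_c56 LD3_c17) (LK LD1_c3 LD2_c59 LD3_c8) Lrfl Lrfl
theorem f171816 : Led Lsl_gt (LP (LK LD1_c7 LD2_c59 LD3_c38)) = (LP (LK LD1_c3 LD2_c59 LD3_c8)) :=
  Lre_g IH (LK LD1_c7 LD2_c59 LD3_c38) (LK LD1_c3 LD2_c59 LD3_c8) Lrfl Lrfl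
theorem f168298 : Led Lsl_ct (LP (LK LD1_c1 LD2_c3 LD3_c54)) = (LP (LK LD1_c0 LD2_c35 LD3_c61)) :=
  Lre_c IH (LK LD1_c1 LD2_c3 LD3_c54) (LK LD1_c0 LD2_c35 LD3_c61) Lrfl Lrfl
theorem f172340 : Led Lsl_bt (LP (LK LD1_c1 LD2_c3 LD3_c54)) = (LP (LK LD1_c2 LD2_c13 LD3_c37)) :=
  Lre_b IH (LK LD1_c1 LD2_c3 LD3_c54) (LK LD1_c2 LD2_c13 LD3_c37) Lrfl Lrfl
theorem f172341 : Led Lsl_gt (LP (LK LD1_c2 LD2_c13 LD3_c37)) = (LP (LK LD1_c4 LD2_c33 LD3_c7)) :=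
  Lre_g IH (LK LD1_c2 LD2_c13 LD3_c37) (LK LD1_c4 LD2_c33 LD3_c7) Lrfl Lrfl
theorem f172342 : Led Lsl_bt (LP (LK LD1_c9 LD2_c3 LD3_c28)) = (LP (LK LD1_c4 LD2_c33 LD3_c7)) :=
  Lre_b IH (LK LD1_c9 LD2_c3 LD3_c28) (LK LD1_c4 LD2_c33 LD3_c7) Lrfl Lrfl
theorem f172343 : Led Lsl_cf (LP (LK LD1_c7 LD2_c59 LD3_c38)) = (LP (LK LD1_c9 LD2_c3 LD3_c28)) :=
  Lgr Lrot160 (Lpr_gt (f171816 IH) (Lpe (f171815 IH) (Lpr_bt (f171812 IH) (Lpe (f171769 IH) (Lpr_ct (f172301 IH) (Lpr_gt (f172300 IH) (Lpe (f168298 IH) (Lpr_bt (f172340 IH) (Lpr_gt (f172341 IH) (Lpe (f172342 IH) (Lpn (LP (LK LD1_c9 LD2_c3 LD3_c28)))))))))))))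
theorem f172370 : Led Lsl_gt (LP (LK LD1_c15 LD2_c3 LD3_c49)) = (LP (LK LD1_c7 LD2_c59 LD3_c38)) :=
  Lre_g IH (LK LD1_c15 LD2_c3 LD3_c49) (LK LD1_c7 LD2_c59 LD3_c38) Lrfl Lrfl
theorem f40194 : Led Lsl_ct (LP (LK LD1_c7 LD2_c59 LD3_c8)) = (LP (LK LD1_c15 LD2_c3 LD3_c49)) :=
  Lre_c IH (LK LD1_c7 LD2_c59 LD3_c8) (LK LD1_c15 LD2_c3 LD3_c49) Lrfl Lrfl
theorem f40192 : Led Lsl_bt (LP (LK LD1_c7 LD2_c59 LD3_c8)) = (LP (LK LD1_c4 LD2_c57 LD3_c1)) :=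
  Lgr Lrot127 (Lpr_bf (K1.f40173 IH) (Lpn (LP (LK LD1_c4 LD2_c57 LD3_c1))))
theorem f172376 : Led Lsl_gt (LP (LK LD1_c2 LD2_c26 LD3_c38)) = (LP (LK LD1_c4 LD2_c57 LD3_c1)) :=
  Lre_g IH (LK LD1_c2 LD2_c26 LD3_c38) (LK LD1_c4 LD2_c57 LD3_c1) Lrfl Lrfl
theorem f168559 : Led Lsl_bt (LP (LK LD1_c4 LD2_c57 LD3_c30)) = (LP (LK LD1_c2 LD2_c26 LD3_c38)) :=
  Lre_b IH (LK LD1_c4 LD2_c57 LD3_c30) (LK LD1_c2 LD2_c26 LD3_c38) Lrfl Lrfl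
theorem f142124 : Led Lsl_gt (LP (LK LD1_c4 LD2_c33 LD3_c7)) = (LP (LK LD1_c2 LD2_c13 LD3_c32)) :=
  Lre_g IH (LK LD1_c4 LD2_c33 LD3_c7) (LK LD1_c2 LD2_c13 LD3_c32) Lrfl Lrfl
theorem f172377 : Led Lsl_ct (LP (LK LD1_c2 LD2_c13 LD3_c32)) = (LP (LK LD1_c4 LD2_c33 LD3_c8)) :=
  Lre_c IH (LK LD1_c2 LD2_c13 LD3_c32) (LK LD1_c4 LD2_c33 LD3_c8) Lrfl Lrfl
theorem f172378 : Led Lsl_gt (LP (LK LD1_c4 LD2_c33 LD3_c8)) = (LP (LK LD1_c9 LD2_c3 LD3_c31)) :=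
  Lre_g IH (LK LD1_c4 LD2_c33 LD3_c8) (LK LD1_c9 LD2_c3 LD3_c31) Lrfl Lrfl
theorem f172379 : Led Lsl_ct (LP (LK LD1_c4 LD2_c57 LD3_c30)) = (LP (LK LD1_c9 LD2_c3 LD3_c31)) :=
  Lgr Lrot63 (Lpr_bt (f168559 IH) (Lpr_gt (f172376 IH) (Lpe (f40192 IH) (Lpr_ct (f40194 IH) (Lpr_gt (f172370 IH) (Lpr_cf (f172343 IH) (Lpr_bt (f172342 IH) (Lpr_gt (f142124 IH) (Lpr_ct (f172377 IH) (Lpr_gt (f172378 IH) (Lpn (LP (LK LD1_c9 LD2_c3 LD3_c31)))))))))))))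
theorem f168557 : Led Lsl_gt (LP (LK LD1_c1 LD2_c10 LD3_c36)) = (LP (LK LD1_c2 LD2_c26 LD3_c38)) :=
  Lre_g IH (LK LD1_c1 LD2_c10 LD3_c36) (LK LD1_c2 LD2_c26 LD3_c38) Lrfl Lrfl
theorem f168556 : Led Lsl_bt (LP (LK LD1_c0 LD2_c32 LD3_c43)) = (LP (LK LD1_c1 LD2_c10 LD3_c36)) :=
  Lre_b IH (LK LD1_c0 LD2_c32 LD3_c43) (LK LD1_c1 LD2_c10 LD3_c36) Lrfl Lrfl
theorem f51473 : Led Lsl_bf (LP (LK LD1_c2 LD2_c1 LD3_c35)) = (LP (LK LD1_c2 LD2_c5 LD3_c9)) :=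
  Lgr Lrot24 (Lpr_bt (f51439 IH) (Lpn (LP (LK LD1_c2 LD2_c5 LD3_c9))))
theorem f51477 : Led Lsl_ct (LP (LK LD1_c2 LD2_c5 LD3_c9)) = (LP (LK LD1_c4 LD2_c15 LD3_c35)) :=
  Lre_c IH (LK LD1_c2 LD2_c5 LD3_c9) (LK LD1_c4 LD2_c15 LD3_c35) Lrfl Lrfl
theorem f52209 : Led Lsl_gt (LP (LK LD1_c4 LD2_c15 LD3_c35)) = (LP (LK LD1_c2 LD2_c5 LD3_c32)) :=
  Lre_g IH (LK LD1_c4 LD2_c15 LD3_c35) (LK LD1_c2 LD2_c5 LD3_c32) Lrfl Lrfl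
theorem f53423 : Led Lsl_ct (LP (LK LD1_c4 LD2_c16 LD3_c26)) = (LP (LK LD1_c2 LD2_c5 LD3_c32)) :=
  Lre_c IH (LK LD1_c4 LD2_c16 LD3_c26) (LK LD1_c2 LD2_c5 LD3_c32) Lrfl Lrfl
theorem f1612 : Led Lsl_gt (LP (LK LD1_c2 LD2_c23 LD3_c17)) = (LP (LK LD1_c1 LD2_c8 LD3_c45)) :=
  Lre_g IH (LK LD1_c2 LD2_c23 LD3_c17) (LK LD1_c1 LD2_c8 LD3_c45) Lrfl Lrfl
theorem f167277 : Led Lsl_bt (LP (LK LD1_c4 LD2_c16 LD3_c26)) = (LP (LK LD1_c2 LD2_c23 LD3_c17)) :=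
  Lgr Lrot130 (Lpr_ct (f53423 IH) (Lpe (f52209 IH) (Lpe (f51477 IH) (Lpe (f51473 IH) (Lpe (f51460 IH) (Lpe (f53421 IH) (Lpr_ct (f53422 IH) (Lpr_gf (f167255 IH) (Lpe (K0.f1719 IH) (Lpe (f1612 IH) (Lpn (LP (LK LD1_c2 LD2_c23 LD3_c17)))))))))))))
theorem f1040 : Led Lsl_gt (LP (LK LD1_c2 LD2_c5 LD3_c32)) = (LP (LK LD1_c0 LD2_c59 LD3_c48)) :=
  Lre_g IH (LK LD1_c2 LD2_c5 LD3_c32) (LK LD1_c0 LD2_c59 LD3_c48) Lrfl Lrfl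
theorem f585 : Led Lsl_ct (LP (LK LD1_c0 LD2_c27 LD3_c11)) = (LP (LK LD1_c0 LD2_c59 LD3_c48)) :=
  Lre_c IH (LK LD1_c0 LD2_c27 LD3_c11) (LK LD1_c0 LD2_c59 LD3_c48) Lrfl Lrfl
theorem f583 : Led Lsl_bt (LP (LK LD1_c0 LD2_c27 LD3_c11)) = (LP (LK LD1_c0 LD2_c12 LD3_c6)) :=
  Lre_b IH (LK LD1_c0 LD2_c27 LD3_c11) (LK LD1_c0 LD2_c12 LD3_c6) Lrfl Lrfl
theorem f7930 : Led Lsl_ct (LP (LK LD1_c0 LD2_c27 LD3_c19)) = (LP (LK LD1_c1 LD2_c0 LD3_c7)) :=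
  Lre_c IH (LK LD1_c0 LD2_c27 LD3_c19) (LK LD1_c1 LD2_c0 LD3_c7) Lrfl Lrfl
theorem f2265 : Led Lsl_bt (LP (LK LD1_c0 LD2_c31 LD3_c34)) = (LP (LK LD1_c1 LD2_c8 LD3_c58)) :=
  Lre_b IH (LK LD1_c0 LD2_c31 LD3_c34) (LK LD1_c1 LD2_c8 LD3_c58) Lrfl Lrfl
theorem f167291 : Led Lsl_gt (LP (LK LD1_c1 LD2_c0 LD3_c7)) = (LP (LK LD1_c1 LD2_c9 LD3_c3)) :=
  Lgr Lrot149 (Lpe (f7930 IH) (Lpe (K0.f526 IH) (Lpe (f583 IH) (Lpr_ct (f585 IH) (Lpe (f1040 IH) (Lpe (f53423 IH) (Lpr_bt (f167277 IH) (Lpe (K0.f1573 IH) (Lpe (f2265 IH) (Lpr_ct (K0.f280 IH) (Lpn (LP (LK LD1_c1 LD2_c9 LD3_c3)))))))))))))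
theorem f497 : Led Lsl_gt (LP (LK LD1_c0 LD2_c5 LD3_c34)) = (LP (LK LD1_c0 LD2_c12 LD3_c4)) :=
  Lre_g IH (LK LD1_c0 LD2_c5 LD3_c34) (LK LD1_c0 LD2_c12 LD3_c4) Lrfl Lrfl
theorem f167295 : Led Lsl_ct (LP (LK LD1_c0 LD2_c12 LD3_c4)) = (LP (LK LD1_c0 LD2_c6 LD3_c33)) :=
  Lgr Lrot152 (Lpe (f497 IH) (Lpe (K0.f485 IH) (Lpr_gt (K0.f526 IH) (Lpr_ct (f7930 IH) (Lpr_gt (f167291 IH) (Lpr_ct (K0.f283 IH) (Lpe (K0.f279 IH) (Lpe (K0.f278 IH) (Lpr_gf (f3058 IH) (Lpn (LP (LK LD1_c0 LD2_c6 LD3_c33))))))))))))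
theorem f51514 : Led Lsl_af (LP (LK LD1_c0 LD2_c11 LD3_c46)) = (LP (LK LD1_c0 LD2_c12 LD3_c7)) :=
  Lgr Lrot117 (Lpr_dt (K0.f27321 IH) (Lpr_at (f51498 IH) (Lpr_dt (K0.f27339 IH) (Lpn (LP (LK LD1_c0 LD2_c12 LD3_c7))))))
theorem f27352 : Led Lsl_ft (LP (LK LD1_c0 LD2_c5 LD3_c34)) = (LP (LK LD1_c0 LD2_c12 LD3_c7)) :=
  Lre_f IH (LK LD1_c0 LD2_c5 LD3_c34) (LK LD1_c0 LD2_c12 LD3_c7) Lrfl Lrfl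
theorem f53383 : Led Lsl_gf (LP (LK LD1_c0 LD2_c11 LD3_c46)) = (LP (LK LD1_c0 LD2_c12 LD3_c4)) :=
  Lgr Lrot76 (Lpr_af (f51514 IH) (Lpe (f27352 IH) (Lpr_gt (f497 IH) (Lpn (LP (LK LD1_c0 LD2_c12 LD3_c4))))))
theorem f522 : Led Lsl_gt (LP (LK LD1_c0 LD2_c27 LD3_c20)) = (LP (LK LD1_c0 LD2_c12 LD3_c6)) :=
  Lre_g IH (LK LD1_c0 LD2_c27 LD3_c20) (LK LD1_c0 LD2_c12 LD3_c6) Lrfl Lrfl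
theorem f53374 : Led Lsl_gt (LP (LK LD1_c0 LD2_c26 LD3_c31)) = (LP (LK LD1_c0 LD2_c27 LD3_c20)) :=
  Lgr Lrot5 (Lpr_ft (K0.f511 IH) (Lpr_at (f51534 IH) (Lpe (f522 IH) (Lpn (LP (LK LD1_c0 LD2_c27 LD3_c20))))))
theorem f3087 : Led Lsl_ct (LP (LK LD1_c0 LD2_c14 LD3_c16)) = (LP (LK LD1_c0 LD2_c31 LD3_c60)) :=
  Lre_c IH (LK LD1_c0 LD2_c14 LD3_c16) (LK LD1_c0 LD2_c31 LD3_c60) Lrfl Lrfl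
theorem f167309 : Led Lsl_dt (LP (LK LD1_c0 LD2_c27 LD3_c20)) = (LP (LK LD1_c0 LD2_c31 LD3_c60)) :=
  Lgr Lrot113 (Lpe (f53374 IH) (Lpe (K0.f27321 IH) (Lpr_gf (f53383 IH) (Lpr_ct (f167295 IH) (Lpe (f3058 IH) (Lpe (K0.f259 IH) (Lpr_gt (K0.f3083 IH) (Lpr_dt (f3085 IH) (Lpr_ct (f3087 IH) (Lpn (LP (LK LD1_c0 LD2_c31 LD3_c60))))))))))))
theorem f167425 : Led Lsl_df (LP (LK LD1_c0 LD2_c27 LD3_c20)) = (LP (LK LD1_c0 LD2_c31 LD3_c60)) :=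
  Lgr Lrot38 (Lpr_dt (f167309 IH) (Lpn (LP (LK LD1_c0 LD2_c31 LD3_c60))))
theorem f498 : Led Lsl_et (LP (LK LD1_c0 LD2_c27 LD3_c15)) = (LP (LK LD1_c0 LD2_c12 LD3_c4)) :=
  Lre_e IH (LK LD1_c0 LD2_c27 LD3_c15) (LK LD1_c0 LD2_c12 LD3_c4) Lrfl Lrfl
theorem f164179 : Led Lsl_ef (LP (LK LD1_c0 LD2_c14 LD3_c16)) = (LP (LK LD1_c0 LD2_c6 LD3_c51)) :=
  Lgr Lrot88 (Lpr_et (f164172 IH) (Lpn (LP (LK LD1_c0 LD2_c6 LD3_c51))))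
theorem f163703 : Led Lsl_ct (LP (LK LD1_c0 LD2_c14 LD3_c59)) = (LP (LK LD1_c0 LD2_c6 LD3_c51)) :=
  Lre_c IH (LK LD1_c0 LD2_c14 LD3_c59) (LK LD1_c0 LD2_c6 LD3_c51) Lrfl Lrfl
theorem f165186 : Led Lsl_et (LP (LK LD1_c0 LD2_c31 LD3_c60)) = (LP (LK LD1_c0 LD2_c14 LD3_c59)) :=
  Lgr Lrot158 (Lpe (f3087 IH) (Lpr_ef (f164179 IH) (Lpe (f163703 IH) (Lpn (LP (LK LD1_c0 LD2_c14 LD3_c59))))))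
theorem f3140 : Led Lsl_ct (LP (LK LD1_c0 LD2_c6 LD3_c51)) = (LP (LK LD1_c0 LD2_c14 LD3_c59)) :=
  Lre_c IH (LK LD1_c0 LD2_c6 LD3_c51) (LK LD1_c0 LD2_c14 LD3_c59) Lrfl Lrfl
theorem f31663 : Led Lsl_dt (LP (LK LD1_c0 LD2_c14 LD3_c26)) = (LP (LK LD1_c0 LD2_c32 LD3_c13)) :=
  Lre_d IH (LK LD1_c0 LD2_c14 LD3_c26) (LK LD1_c0 LD2_c32 LD3_c13) Lrfl Lrfl
theorem f166410 : Led Lsl_gt (LP (LK LD1_c0 LD2_c14 LD3_c59)) = (LP (LK LD1_c0 LD2_c15 LD3_c36)) :=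
  Lgr Lrot150 (Lpe (f3140 IH) (Lpe (f3127 IH) (Lpe (K8.f3120 IH) (Lpr_gt (f3769 IH) (Lpr_ct (f3773 IH) (Lpr_gt (f166370 IH) (Lpr_ct (K2.f34920 IH) (Lpe (f31663 IH) (Lpe (K1.f32235 IH) (Lpn (LP (LK LD1_c0 LD2_c15 LD3_c36))))))))))))
theorem f167613 : Led Lsl_dt (LP (LK LD1_c0 LD2_c27 LD3_c15)) = (LP (LK LD1_c0 LD2_c34 LD3_c32)) :=
  Lgr Lrot37 (Lpr_et (f498 IH) (Lpe (f53383 IH) (Lpr_dt (K0.f27321 IH) (Lpr_gt (f53374 IH) (Lpr_df (f167425 IH) (Lpr_et (f165186 IH) (Lpr_gt (f166410 IH) (Lpr_ef (K1.f32225 IH) (Lpr_dt (K1.f32222 IH) (Lpr_gt (f32853 IH) (Lpn (LP (LK LD1_c0 LD2_c34 LD3_c32)))))))))))))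
theorem f167626 : Led Lsl_gt (LP (LK LD1_c0 LD2_c59 LD3_c58)) = (LP (LK LD1_c0 LD2_c27 LD3_c15)) :=
  Lre_g IH (LK LD1_c0 LD2_c59 LD3_c58) (LK LD1_c0 LD2_c27 LD3_c15) Lrfl Lrfl
theorem f165017 : Led Lsl_et (LP (LK LD1_c0 LD2_c5 LD3_c47)) = (LP (LK LD1_c0 LD2_c2 LD3_c36)) :=
  Lre_e IH (LK LD1_c0 LD2_c5 LD3_c47) (LK LD1_c0 LD2_c2 LD3_c36) Lrfl Lrfl
theorem f8564 : Led Lsl_dt (LP (LK LD1_c0 LD2_c5 LD3_c47)) = (LP (LK LD1_c0 LD2_c12 LD3_c40)) :=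
  Lre_d IH (LK LD1_c0 LD2_c5 LD3_c47) (LK LD1_c0 LD2_c12 LD3_c40) Lrfl Lrfl
theorem f165016 : Led Lsl_gt (LP (LK LD1_c0 LD2_c12 LD3_c40)) = (LP (LK LD1_c0 LD2_c28 LD3_c41)) :=
  Lre_g IH (LK LD1_c0 LD2_c12 LD3_c40) (LK LD1_c0 LD2_c28 LD3_c41) Lrfl Lrfl
theorem f9477 : Led Lsl_et (LP (LK LD1_c0 LD2_c2 LD3_c37)) = (LP (LK LD1_c0 LD2_c1 LD3_c5)) :=
  Lre_e IH (LK LD1_c0 LD2_c2 LD3_c37) (LK LD1_c0 LD2_c1 LD3_c5) Lrfl Lrfl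
theorem f20623 : Led Lsl_dt (LP (LK LD1_c0 LD2_c2 LD3_c37)) = (LP (LK LD1_c0 LD2_c5 LD3_c50)) :=
  Lre_d IH (LK LD1_c0 LD2_c2 LD3_c37) (LK LD1_c0 LD2_c5 LD3_c50) Lrfl Lrfl
theorem f20624 : Led Lsl_gt (LP (LK LD1_c0 LD2_c12 LD3_c50)) = (LP (LK LD1_c0 LD2_c5 LD3_c50)) :=
  Lre_g IH (LK LD1_c0 LD2_c12 LD3_c50) (LK LD1_c0 LD2_c5 LD3_c50) Lrfl Lrfl
theorem f9511 : Led Lsl_et (LP (LK LD1_c0 LD2_c1 LD3_c33)) = (LP (LK LD1_c0 LD2_c3 LD3_c38)) :=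
  Lre_e IH (LK LD1_c0 LD2_c1 LD3_c33) (LK LD1_c0 LD2_c3 LD3_c38) Lrfl Lrfl
theorem f20625 : Led Lsl_gt (LP (LK LD1_c0 LD2_c3 LD3_c38)) = (LP (LK LD1_c0 LD2_c7 LD3_c57)) :=
  Lre_g IH (LK LD1_c0 LD2_c3 LD3_c38) (LK LD1_c0 LD2_c7 LD3_c57) Lrfl Lrfl
theorem f20626 : Led Lsl_et (LP (LK LD1_c0 LD2_c17 LD3_c40)) = (LP (LK LD1_c0 LD2_c7 LD3_c57)) :=
  Lre_e IH (LK LD1_c0 LD2_c17 LD3_c40) (LK LD1_c0 LD2_c7 LD3_c57) Lrfl Lrfl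
theorem f20627 : Led Lsl_df (LP (LK LD1_c0 LD2_c12 LD3_c50)) = (LP (LK LD1_c0 LD2_c17 LD3_c40)) :=
  Lgr Lrot170 (Lpr_gt (f20624 IH) (Lpe (f20623 IH) (Lpr_et (f9477 IH) (Lpr_gt (K0.f20615 IH) (Lpr_dt (K0.f20449 IH) (Lpr_gt (K0.f98 IH) (Lpe (K0.f303 IH) (Lpr_et (f9511 IH) (Lpr_gt (f20625 IH) (Lpe (f20626 IH) (Lpn (LP (LK LD1_c0 LD2_c17 LD3_c40)))))))))))))
theorem f20634 : Led Lsl_et (LP (LK LD1_c0 LD2_c12 LD3_c50)) = (LP (LK LD1_c0 LD2_c29 LD3_c3)) :=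
  Lre_e IH (LK LD1_c0 LD2_c12 LD3_c50) (LK LD1_c0 LD2_c29 LD3_c3) Lrfl Lrfl
theorem f20635 : Led Lsl_et (LP (LK LD1_c0 LD2_c7 LD3_c57)) = (LP (LK LD1_c0 LD2_c17 LD3_c40)) :=
  Lre_e IH (LK LD1_c0 LD2_c7 LD3_c57) (LK LD1_c0 LD2_c17 LD3_c40) Lrfl Lrfl
theorem f20636 : Led Lsl_dt (LP (LK LD1_c0 LD2_c17 LD3_c39)) = (LP (LK LD1_c0 LD2_c7 LD3_c57)) :=
  Lre_d IH (LK LD1_c0 LD2_c17 LD3_c39) (LK LD1_c0 LD2_c7 LD3_c57) Lrfl Lrfl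
theorem f20637 : Led Lsl_et (LP (LK LD1_c0 LD2_c39 LD3_c27)) = (LP (LK LD1_c0 LD2_c17 LD3_c39)) :=
  Lre_e IH (LK LD1_c0 LD2_c39 LD3_c27) (LK LD1_c0 LD2_c17 LD3_c39) Lrfl Lrfl
theorem f20638 : Led Lsl_dt (LP (LK LD1_c0 LD2_c29 LD3_c3)) = (LP (LK LD1_c0 LD2_c39 LD3_c27)) :=
  Lgr Lrot77 (Lpe (f20634 IH) (Lpr_df (f20627 IH) (Lpe (f20635 IH) (Lpe (f20636 IH) (Lpe (f20637 IH) (Lpn (LP (LK LD1_c0 LD2_c39 LD3_c27))))))))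
theorem f20767 : Led Lsl_et (LP (LK LD1_c0 LD2_c29 LD3_c3)) = (LP (LK LD1_c0 LD2_c12 LD3_c50)) :=
  Lre_e IH (LK LD1_c0 LD2_c29 LD3_c3) (LK LD1_c0 LD2_c12 LD3_c50) Lrfl Lrfl
theorem f20211 : Led Lsl_et (LP (LK LD1_c0 LD2_c2 LD3_c40)) = (LP (LK LD1_c0 LD2_c5 LD3_c50)) :=
  Lre_e IH (LK LD1_c0 LD2_c2 LD3_c40) (LK LD1_c0 LD2_c5 LD3_c50) Lrfl Lrfl
theorem f7003 : Led Lsl_dt (LP (LK LD1_c0 LD2_c2 LD3_c40)) = (LP (LK LD1_c0 LD2_c1 LD3_c6)) :=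
  Lre_d IH (LK LD1_c0 LD2_c2 LD3_c40) (LK LD1_c0 LD2_c1 LD3_c6) Lrfl Lrfl
theorem f20769 : Led Lsl_gt (LP (LK LD1_c0 LD2_c12 LD3_c55)) = (LP (LK LD1_c0 LD2_c29 LD3_c15)) :=
  Lre_g IH (LK LD1_c0 LD2_c12 LD3_c55) (LK LD1_c0 LD2_c29 LD3_c15) Lrfl Lrfl
theorem f20770 : Led Lsl_dt (LP (LK LD1_c0 LD2_c29 LD3_c15)) = (LP (LK LD1_c1 LD2_c4 LD3_c3)) :=
  Lre_d IH (LK LD1_c0 LD2_c29 LD3_c15) (LK LD1_c1 LD2_c4 LD3_c3) Lrfl Lrfl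
theorem f20771 : Led Lsl_gt (LP (LK LD1_c1 LD2_c4 LD3_c3)) = (LP (LK LD1_c0 LD2_c39 LD3_c27)) :=
  Lgr Lrot139 (Lpe (f20770 IH) (Lpe (f20769 IH) (Lpe (K6.f20768 IH) (Lpr_dt (K0.f20046 IH) (Lpe (K0.f7005 IH) (Lpe (f7003 IH) (Lpr_et (f20211 IH) (Lpe (f20624 IH) (Lpe (f20767 IH) (Lpr_dt (f20638 IH) (Lpn (LP (LK LD1_c0 LD2_c39 LD3_c27)))))))))))))
theorem f20782 : Led Lsl_et (LP (LK LD1_c0 LD2_c29 LD3_c15)) = (LP (LK LD1_c1 LD2_c3 LD3_c18)) :=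
  Lgr Lrot122 (Lpr_dt (f20770 IH) (Lpr_gt (f20771 IH) (Lpe (f20638 IH) (Lpr_et (f20767 IH) (Lpr_gt (f20624 IH) (Lpr_dt (K0.f20473 IH) (Lpr_gt (f6854 IH) (Lpe (f20665 IH) (Lpr_et (f20737 IH) (Lpr_gt (f20724 IH) (Lpn (LP (LK LD1_c1 LD2_c3 LD3_c18)))))))))))))
theorem f20779 : Led Lsl_dt (LP (LK LD1_c1 LD2_c4 LD3_c3)) = (LP (LK LD1_c0 LD2_c29 LD3_c15)) :=
  Lre_d IH (LK LD1_c1 LD2_c4 LD3_c3) (LK LD1_c0 LD2_c29 LD3_c15) Lrfl Lrfl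
theorem f9457 : Led Lsl_et (LP (LK LD1_c0 LD2_c16 LD3_c25)) = (LP (LK LD1_c0 LD2_c7 LD3_c21)) :=
  Lre_e IH (LK LD1_c0 LD2_c16 LD3_c25) (LK LD1_c0 LD2_c7 LD3_c21) Lrfl Lrfl
theorem f9458 : Led Lsl_dt (LP (LK LD1_c0 LD2_c16 LD3_c25)) = (LP (LK LD1_c0 LD2_c36 LD3_c47)) :=
  Lre_d IH (LK LD1_c0 LD2_c16 LD3_c25) (LK LD1_c0 LD2_c36 LD3_c47) Lrfl Lrfl
theorem f22409 : Led Lsl_gt (LP (LK LD1_c0 LD2_c39 LD3_c43)) = (LP (LK LD1_c0 LD2_c36 LD3_c47)) :=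
  Lgr Lrot112 (Lpr_df (K0.f9509 IH) (Lpr_et (K0.f9507 IH) (Lpr_gf (f22391 IH) (Lpe (f8338 IH) (Lpr_dt (f8337 IH) (Lpe (f9486 IH) (Lpe (K0.f9442 IH) (Lpe (f9456 IH) (Lpe (f9457 IH) (Lpr_dt (f9458 IH) (Lpn (LP (LK LD1_c0 LD2_c36 LD3_c47)))))))))))))
theorem f60151 : Led Lsl_gt (LP (LK LD1_c0 LD2_c36 LD3_c47)) = (LP (LK LD1_c0 LD2_c16 LD3_c38)) :=
  Lgr Lrot46 (Lpe (f22409 IH) (Lpr_ft (K0.f9517 IH) (Lpr_at (K1.f60120 IH) (Lpn (LP (LK LD1_c0 LD2_c16 LD3_c38))))))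
theorem f60155 : Led Lsl_gt (LP (LK LD1_c0 LD2_c36 LD3_c46)) = (LP (LK LD1_c0 LD2_c16 LD3_c25)) :=
  Lre_g IH (LK LD1_c0 LD2_c36 LD3_c46) (LK LD1_c0 LD2_c16 LD3_c25) Lrfl Lrfl
theorem f59927 : Led Lsl_ct (LP (LK LD1_c0 LD2_c37 LD3_c19)) = (LP (LK LD1_c1 LD2_c20 LD3_c47)) :=
  Lre_c IH (LK LD1_c0 LD2_c37 LD3_c19) (LK LD1_c1 LD2_c20 LD3_c47) Lrfl Lrfl
theorem f9527 : Led Lsl_dt (LP (LK LD1_c0 LD2_c39 LD3_c50)) = (LP (LK LD1_c1 LD2_c26 LD3_c16)) :=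
  Lre_d IH (LK LD1_c0 LD2_c39 LD3_c50) (LK LD1_c1 LD2_c26 LD3_c16) Lrfl Lrfl
theorem f9528 : Led Lsl_ct (LP (LK LD1_c1 LD2_c26 LD3_c16)) = (LP (LK LD1_c3 LD2_c0 LD3_c57)) :=
  Lre_c IH (LK LD1_c1 LD2_c26 LD3_c16) (LK LD1_c3 LD2_c0 LD3_c57) Lrfl Lrfl
theorem f60071 : Led Lsl_bt (LP (LK LD1_c6 LD2_c9 LD3_c8)) = (LP (LK LD1_c3 LD2_c0 LD3_c57)) :=
  Lre_b IH (LK LD1_c6 LD2_c9 LD3_c8) (LK LD1_c3 LD2_c0 LD3_c57) Lrfl Lrfl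
theorem f60072 : Led Lsl_bt (LP (LK LD1_c5 LD2_c46 LD3_c59)) = (LP (LK LD1_c11 LD2_c24 LD3_c7)) :=
  Lre_b IH (LK LD1_c5 LD2_c46 LD3_c59) (LK LD1_c11 LD2_c24 LD3_c7) Lrfl Lrfl
theorem f60073 : Led Lsl_dt (LP (LK LD1_c3 LD2_c0 LD3_c57)) = (LP (LK LD1_c5 LD2_c46 LD3_c59)) :=
  Lgr Lrot79 (Lpe (f60071 IH) (Lpr_df (K1.f60058 IH) (Lpe (f60072 IH) (Lpn (LP (LK LD1_c5 LD2_c46 LD3_c59))))))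
theorem f60098 : Led Lsl_ct (LP (LK LD1_c5 LD2_c46 LD3_c59)) = (LP (LK LD1_c2 LD2_c49 LD3_c16)) :=
  Lre_c IH (LK LD1_c5 LD2_c46 LD3_c59) (LK LD1_c2 LD2_c49 LD3_c16) Lrfl Lrfl
theorem f60099 : Led Lsl_ct (LP (LK LD1_c1 LD2_c20 LD3_c47)) = (LP (LK LD1_c0 LD2_c37 LD3_c19)) :=
  Lre_c IH (LK LD1_c1 LD2_c20 LD3_c47) (LK LD1_c0 LD2_c37 LD3_c19) Lrfl Lrfl
theorem f60101 : Led Lsl_dt (LP (LK LD1_c0 LD2_c37 LD3_c19)) = (LP (LK LD1_c0 LD2_c37 LD3_c19)) :=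
  Lgr Lrot173 (Lpe (f60099 IH) (Lpe (K1.f59931 IH) (Lpe (f60098 IH) (Lpe (f60073 IH) (Lpe (f9528 IH) (Lpe (f9527 IH) (Lpe (K1.f9526 IH) (Lpe (K0.f9519 IH) (Lpe (K1.f9523 IH) (Lpe (K1.f9524 IH) (Lpe (K1.f9525 IH) (Lpr_df (K1.f60090 IH) (Lpe (K1.f60100 IH) (Lpe (K1.f59935 IH) (Lpe (f59927 IH) (Lpn (LP (LK LD1_c0 LD2_c37 LD3_c19))))))))))))))))))
theorem f60105 : Led Lsl_ft (LP (LK LD1_c0 LD2_c37 LD3_c19)) = (LP (LK LD1_c0 LD2_c16 LD3_c38)) :=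
  Lre_f IH (LK LD1_c0 LD2_c37 LD3_c19) (LK LD1_c0 LD2_c16 LD3_c38) Lrfl Lrfl
theorem f60106 : Led Lsl_af (LP (LK LD1_c0 LD2_c17 LD3_c52)) = (LP (LK LD1_c0 LD2_c16 LD3_c38)) :=
  Lgr Lrot109 (Lpe (K1.f9523 IH) (Lpe (K1.f9524 IH) (Lpe (K1.f9525 IH) (Lpr_df (K1.f60090 IH) (Lpe (K1.f60100 IH) (Lpe (K1.f59935 IH) (Lpe (f59927 IH) (Lpe (f60101 IH) (Lpr_ft (f60105 IH) (Lpn (LP (LK LD1_c0 LD2_c16 LD3_c38))))))))))))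
theorem f60143 : Led Lsl_df (LP (LK LD1_c0 LD2_c16 LD3_c38)) = (LP (LK LD1_c0 LD2_c16 LD3_c38)) :=
  Lgr Lrot18 (Lpe (f60106 IH) (Lpr_dt (K0.f9519 IH) (Lpr_at (K1.f60120 IH) (Lpn (LP (LK LD1_c0 LD2_c16 LD3_c38))))))
theorem f60145 : Led Lsl_et (LP (LK LD1_c0 LD2_c16 LD3_c38)) = (LP (LK LD1_c0 LD2_c7 LD3_c25)) :=
  Lre_e IH (LK LD1_c0 LD2_c16 LD3_c38) (LK LD1_c0 LD2_c7 LD3_c25) Lrfl Lrfl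
theorem f59797 : Led Lsl_gf (LP (LK LD1_c0 LD2_c3 LD3_c23)) = (LP (LK LD1_c0 LD2_c7 LD3_c25)) :=
  Lgr Lrot104 (Lpr_ct (K1.f16656 IH) (Lpe (K0.f20275 IH) (Lpe (K0.f26472 IH) (Lpe (K0.f24598 IH) (Lpe (K1.f22835 IH) (Lpe (K1.f20554 IH) (Lpr_df (K4.f58957 IH) (Lpr_gt (K1.f59724 IH) (Lpr_ct (K6.f59796 IH) (Lpn (LP (LK LD1_c0 LD2_c7 LD3_c25))))))))))))
theorem f60163 : Led Lsl_ef (LP (LK LD1_c0 LD2_c36 LD3_c46)) = (LP (LK LD1_c1 LD2_c4 LD3_c3)) :=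
  Lgr Lrot167 (Lpr_gt (f60155 IH) (Lpr_dt (f9458 IH) (Lpr_gt (f60151 IH) (Lpr_df (f60143 IH) (Lpr_et (f60145 IH) (Lpe (f59797 IH) (Lpe (K6.f21188 IH) (Lpr_dt (K6.f21202 IH) (Lpr_gt (f20769 IH) (Lpe (f20779 IH) (Lpn (LP (LK LD1_c1 LD2_c4 LD3_c3)))))))))))))
theorem f60170 : Led Lsl_et (LP (LK LD1_c0 LD2_c36 LD3_c46)) = (LP (LK LD1_c1 LD2_c4 LD3_c3)) :=
  Lgr Lrot87 (Lpr_ef (f60163 IH) (Lpn (LP (LK LD1_c1 LD2_c4 LD3_c3))))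
theorem f9536 : Led Lsl_gt (LP (LK LD1_c0 LD2_c17 LD3_c52)) = (LP (LK LD1_c0 LD2_c39 LD3_c51)) :=
  Lre_g IH (LK LD1_c0 LD2_c17 LD3_c52) (LK LD1_c0 LD2_c39 LD3_c51) Lrfl Lrfl
theorem f60197 : Led Lsl_gt (LP (LK LD1_c0 LD2_c39 LD3_c51)) = (LP (LK LD1_c0 LD2_c37 LD3_c19)) :=
  Lgr Lrot46 (Lpe (f9536 IH) (Lpr_ft (K0.f9518 IH) (Lpr_at (K1.f60183 IH) (Lpn (LP (LK LD1_c0 LD2_c37 LD3_c19))))))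
theorem f21195 : Led Lsl_et (LP (LK LD1_c0 LD2_c13 LD3_c5)) = (LP (LK LD1_c0 LD2_c5 LD3_c58)) :=
  Lre_e IH (LK LD1_c0 LD2_c13 LD3_c5) (LK LD1_c0 LD2_c5 LD3_c58) Lrfl Lrfl
theorem f9355 : Led Lsl_at (LP (LK LD1_c0 LD2_c7 LD3_c42)) = (LP (LK LD1_c0 LD2_c13 LD3_c5)) :=
  Lre_a IH (LK LD1_c0 LD2_c7 LD3_c42) (LK LD1_c0 LD2_c13 LD3_c5) Lrfl Lrfl
theorem f9356 : Led Lsl_at (LP (LK LD1_c0 LD2_c13 LD3_c5)) = (LP (LK LD1_c0 LD2_c7 LD3_c42)) :=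
  Lre_a IH (LK LD1_c0 LD2_c13 LD3_c5) (LK LD1_c0 LD2_c7 LD3_c42) Lrfl Lrfl
theorem f9357 : Led Lsl_dt (LP (LK LD1_c0 LD2_c13 LD3_c5)) = (LP (LK LD1_c0 LD2_c13 LD3_c5)) :=
  Lgr Lrot44 (Lpe (f9355 IH) (Lpr_df (K0.f9353 IH) (Lpe (f9356 IH) (Lpn (LP (LK LD1_c0 LD2_c13 LD3_c5))))))
theorem f23948 : Led Lsl_gt (LP (LK LD1_c0 LD2_c29 LD3_c49)) = (LP (LK LD1_c0 LD2_c13 LD3_c5)) :=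
  Lre_g IH (LK LD1_c0 LD2_c29 LD3_c49) (LK LD1_c0 LD2_c13 LD3_c5) Lrfl Lrfl
theorem f20236 : Led Lsl_dt (LP (LK LD1_c1 LD2_c5 LD3_c18)) = (LP (LK LD1_c0 LD2_c29 LD3_c49)) :=
  Lre_d IH (LK LD1_c1 LD2_c5 LD3_c18) (LK LD1_c0 LD2_c29 LD3_c49) Lrfl Lrfl
theorem f24219 : Led Lsl_et (LP (LK LD1_c1 LD2_c5 LD3_c18)) = (LP (LK LD1_c0 LD2_c39 LD3_c51)) :=
  Lgr Lrot122 (Lpr_dt (f20236 IH) (Lpr_gt (f23948 IH) (Lpe (f9357 IH) (Lpr_et (f21195 IH) (Lpr_gt (K0.f20267 IH) (Lpr_dt (K0.f23917 IH) (Lpr_gt (K0.f9545 IH) (Lpe (K0.f9532 IH) (Lpr_et (K0.f9529 IH) (Lpr_gt (f9536 IH) (Lpn (LP (LK LD1_c0 LD2_c39 LD3_c51)))))))))))))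
theorem f20235 : Led Lsl_gt (LP (LK LD1_c0 LD2_c16 LD3_c35)) = (LP (LK LD1_c0 LD2_c29 LD3_c49)) :=
  Lre_g IH (LK LD1_c0 LD2_c16 LD3_c35) (LK LD1_c0 LD2_c29 LD3_c49) Lrfl Lrfl
theorem f9370 : Led Lsl_ft (LP (LK LD1_c0 LD2_c7 LD3_c42)) = (LP (LK LD1_c0 LD2_c16 LD3_c35)) :=
  Lre_f IH (LK LD1_c0 LD2_c7 LD3_c42) (LK LD1_c0 LD2_c16 LD3_c35) Lrfl Lrfl
theorem f9371 : Led Lsl_ft (LP (LK LD1_c0 LD2_c16 LD3_c35)) = (LP (LK LD1_c0 LD2_c7 LD3_c42)) :=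
  Lre_f IH (LK LD1_c0 LD2_c16 LD3_c35) (LK LD1_c0 LD2_c7 LD3_c42) Lrfl Lrfl
theorem f9372 : Led Lsl_dt (LP (LK LD1_c0 LD2_c16 LD3_c35)) = (LP (LK LD1_c0 LD2_c16 LD3_c35)) :=
  Lgr Lrot60 (Lpe (f9370 IH) (Lpr_df (K0.f9353 IH) (Lpe (f9371 IH) (Lpn (LP (LK LD1_c0 LD2_c16 LD3_c35))))))
theorem f20234 : Led Lsl_et (LP (LK LD1_c0 LD2_c16 LD3_c35)) = (LP (LK LD1_c0 LD2_c7 LD3_c24)) :=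
  Lre_e IH (LK LD1_c0 LD2_c16 LD3_c35) (LK LD1_c0 LD2_c7 LD3_c24) Lrfl Lrfl
theorem f20230 : Led Lsl_gt (LP (LK LD1_c0 LD2_c12 LD3_c49)) = (LP (LK LD1_c0 LD2_c7 LD3_c24)) :=
  Lre_g IH (LK LD1_c0 LD2_c12 LD3_c49) (LK LD1_c0 LD2_c7 LD3_c24) Lrfl Lrfl
theorem f20213 : Led Lsl_et (LP (LK LD1_c0 LD2_c29 LD3_c1)) = (LP (LK LD1_c0 LD2_c12 LD3_c49)) :=
  Lre_e IH (LK LD1_c0 LD2_c29 LD3_c1) (LK LD1_c0 LD2_c12 LD3_c49) Lrfl Lrfl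
theorem f20212 : Led Lsl_gt (LP (LK LD1_c0 LD2_c5 LD3_c50)) = (LP (LK LD1_c0 LD2_c12 LD3_c49)) :=
  Lre_g IH (LK LD1_c0 LD2_c5 LD3_c50) (LK LD1_c0 LD2_c12 LD3_c49) Lrfl Lrfl
theorem f9535 : Led Lsl_gt (LP (LK LD1_c0 LD2_c39 LD3_c52)) = (LP (LK LD1_c0 LD2_c17 LD3_c52)) :=
  Lre_g IH (LK LD1_c0 LD2_c39 LD3_c52) (LK LD1_c0 LD2_c17 LD3_c52) Lrfl Lrfl
theorem f20214 : Led Lsl_dt (LP (LK LD1_c0 LD2_c29 LD3_c1)) = (LP (LK LD1_c0 LD2_c39 LD3_c52)) :=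
  Lgr Lrot136 (Lpr_et (f20213 IH) (Lpe (f20212 IH) (Lpe (f20211 IH) (Lpr_dt (f7003 IH) (Lpe (K0.f7006 IH) (Lpe (K0.f20181 IH) (Lpr_gf (K0.f20182 IH) (Lpe (K0.f9531 IH) (Lpr_dt (K0.f9519 IH) (Lpe (f9535 IH) (Lpn (LP (LK LD1_c0 LD2_c39 LD3_c52)))))))))))))
theorem f60201 : Led Lsl_gf (LP (LK LD1_c0 LD2_c39 LD3_c52)) = (LP (LK LD1_c0 LD2_c37 LD3_c19)) :=
  Lgr Lrot134 (Lpe (f20214 IH) (Lpr_et (f20213 IH) (Lpr_gt (f20230 IH) (Lpe (f20234 IH) (Lpr_dt (f9372 IH) (Lpr_gt (f20235 IH) (Lpe (f20236 IH) (Lpr_et (f24219 IH) (Lpr_gt (f60197 IH) (Lpr_dt (f60101 IH) (Lpn (LP (LK LD1_c0 LD2_c37 LD3_c19)))))))))))))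
theorem f20219 : Led Lsl_df (LP (LK LD1_c0 LD2_c29 LD3_c1)) = (LP (LK LD1_c0 LD2_c39 LD3_c52)) :=
  Lgr Lrot38 (Lpr_dt (f20214 IH) (Lpn (LP (LK LD1_c0 LD2_c39 LD3_c52))))
theorem f20227 : Led Lsl_gt (LP (LK LD1_c0 LD2_c29 LD3_c1)) = (LP (LK LD1_c1 LD2_c3 LD3_c31)) :=
  Lre_g IH (LK LD1_c0 LD2_c29 LD3_c1) (LK LD1_c1 LD2_c3 LD3_c31) Lrfl Lrfl
theorem f9022 : Led Lsl_ct (LP (LK LD1_c1 LD2_c5 LD3_c25)) = (LP (LK LD1_c0 LD2_c29 LD3_c56)) :=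
  Lre_c IH (LK LD1_c1 LD2_c5 LD3_c25) (LK LD1_c0 LD2_c29 LD3_c56) Lrfl Lrfl
theorem f59928 : Led Lsl_et (LP (LK LD1_c0 LD2_c29 LD3_c56)) = (LP (LK LD1_c0 LD2_c37 LD3_c19)) :=
  Lgr Lrot158 (Lpe (f9022 IH) (Lpr_ef (K1.f59918 IH) (Lpe (f59927 IH) (Lpn (LP (LK LD1_c0 LD2_c37 LD3_c19))))))
theorem f9090 : Led Lsl_gt (LP (LK LD1_c0 LD2_c7 LD3_c57)) = (LP (LK LD1_c0 LD2_c13 LD3_c14)) :=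
  Lre_g IH (LK LD1_c0 LD2_c7 LD3_c57) (LK LD1_c0 LD2_c13 LD3_c14) Lrfl Lrfl
theorem f20730 : Led Lsl_et (LP (LK LD1_c0 LD2_c17 LD3_c39)) = (LP (LK LD1_c0 LD2_c39 LD3_c27)) :=
  Lre_e IH (LK LD1_c0 LD2_c17 LD3_c39) (LK LD1_c0 LD2_c39 LD3_c27) Lrfl Lrfl
theorem f60205 : Led Lsl_df (LP (LK LD1_c1 LD2_c3 LD3_c31)) = (LP (LK LD1_c0 LD2_c36 LD3_c46)) :=
  Lgr Lrot132 (Lpe (f20227 IH) (Lpr_df (f20219 IH) (Lpr_gf (f60201 IH) (Lpe (f59928 IH) (Lpr_dt (K0.f9021 IH) (Lpe (f9090 IH) (Lpe (f20636 IH) (Lpr_et (f20730 IH) (Lpe (f20771 IH) (Lpe (f60170 IH) (Lpn (LP (LK LD1_c0 LD2_c36 LD3_c46)))))))))))))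
theorem f60208 : Led Lsl_dt (LP (LK LD1_c1 LD2_c3 LD3_c31)) = (LP (LK LD1_c0 LD2_c36 LD3_c46)) :=
  Lgr Lrot42 (Lpr_df (f60205 IH) (Lpn (LP (LK LD1_c0 LD2_c36 LD3_c46))))
theorem f164272 : Led Lsl_et (LP (LK LD1_c0 LD2_c29 LD3_c31)) = (LP (LK LD1_c1 LD2_c3 LD3_c31)) :=
  Lgr Lrot71 (Lpr_df (f164267 IH) (Lpe (f20782 IH) (Lpe (f20779 IH) (Lpe (f60170 IH) (Lpe (f60208 IH) (Lpn (LP (LK LD1_c1 LD2_c3 LD3_c31))))))))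
theorem f20221 : Led Lsl_et (LP (LK LD1_c0 LD2_c12 LD3_c49)) = (LP (LK LD1_c0 LD2_c29 LD3_c1)) :=
  Lre_e IH (LK LD1_c0 LD2_c12 LD3_c49) (LK LD1_c0 LD2_c29 LD3_c1) Lrfl Lrfl
theorem f20237 : Led Lsl_dt (LP (LK LD1_c0 LD2_c12 LD3_c49)) = (LP (LK LD1_c0 LD2_c29 LD3_c0)) :=
  Lre_d IH (LK LD1_c0 LD2_c12 LD3_c49) (LK LD1_c0 LD2_c29 LD3_c0) Lrfl Lrfl
theorem f164705 : Led Lsl_gt (LP (LK LD1_c0 LD2_c14 LD3_c17)) = (LP (LK LD1_c0 LD2_c29 LD3_c0)) :=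
  Lgr Lrot139 (Lpe (K0.f7881 IH) (Lpe (K0.f3070 IH) (Lpe (f164306 IH) (Lpr_dt (f24247 IH) (Lpr_gf (f164674 IH) (Lpe (f164270 IH) (Lpr_et (f164272 IH) (Lpe (f20227 IH) (Lpe (f20221 IH) (Lpr_dt (f20237 IH) (Lpn (LP (LK LD1_c0 LD2_c29 LD3_c0)))))))))))))
theorem f7734 : Led Lsl_gt (LP (LK LD1_c0 LD2_c27 LD3_c18)) = (LP (LK LD1_c1 LD2_c0 LD3_c4)) :=
  Lre_g IH (LK LD1_c0 LD2_c27 LD3_c18) (LK LD1_c1 LD2_c0 LD3_c4) Lrfl Lrfl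
theorem f20222 : Led Lsl_dt (LP (LK LD1_c0 LD2_c29 LD3_c0)) = (LP (LK LD1_c0 LD2_c12 LD3_c49)) :=
  Lre_d IH (LK LD1_c0 LD2_c29 LD3_c0) (LK LD1_c0 LD2_c12 LD3_c49) Lrfl Lrfl
theorem f40798 : Led Lsl_ct (LP (LK LD1_c0 LD2_c7 LD3_c13)) = (LP (LK LD1_c0 LD2_c3 LD3_c19)) :=
  Lre_c IH (LK LD1_c0 LD2_c7 LD3_c13) (LK LD1_c0 LD2_c3 LD3_c19) Lrfl Lrfl
theorem f7598 : Led Lsl_dt (LP (LK LD1_c0 LD2_c16 LD3_c3)) = (LP (LK LD1_c0 LD2_c7 LD3_c13)) :=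
  Lre_d IH (LK LD1_c0 LD2_c16 LD3_c3) (LK LD1_c0 LD2_c7 LD3_c13) Lrfl Lrfl
theorem f7630 : Led Lsl_gt (LP (LK LD1_c0 LD2_c28 LD3_c41)) = (LP (LK LD1_c0 LD2_c16 LD3_c3)) :=
  Lre_g IH (LK LD1_c0 LD2_c28 LD3_c41) (LK LD1_c0 LD2_c16 LD3_c3) Lrfl Lrfl
theorem f164707 : Led Lsl_dt (LP (LK LD1_c1 LD2_c0 LD3_c4)) = (LP (LK LD1_c0 LD2_c28 LD3_c41)) :=
  Lgr Lrot57 (Lpe (f7734 IH) (Lpr_cf (K0.f7888 IH) (Lpr_gt (f164705 IH) (Lpr_dt (f20222 IH) (Lpr_gt (f20230 IH) (Lpr_dt (K0.f20231 IH) (Lpe (f40798 IH) (Lpe (f7598 IH) (Lpe (f7630 IH) (Lpn (LP (LK LD1_c0 LD2_c28 LD3_c41))))))))))))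
theorem f167631 : Led Lsl_ef (LP (LK LD1_c0 LD2_c59 LD3_c58)) = (LP (LK LD1_c1 LD2_c0 LD3_c4)) :=
  Lgr Lrot167 (Lpr_gt (f167626 IH) (Lpr_dt (f167613 IH) (Lpr_gt (f31448 IH) (Lpe (K2.f32264 IH) (Lpr_et (K1.f32267 IH) (Lpr_gt (K0.f28437 IH) (Lpe (f165017 IH) (Lpr_dt (f8564 IH) (Lpr_gt (f165016 IH) (Lpe (f164707 IH) (Lpn (LP (LK LD1_c1 LD2_c0 LD3_c4)))))))))))))
theorem f167620 : Led Lsl_et (LP (LK LD1_c0 LD2_c12 LD3_c4)) = (LP (LK LD1_c0 LD2_c27 LD3_c15)) :=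
  Lre_e IH (LK LD1_c0 LD2_c12 LD3_c4) (LK LD1_c0 LD2_c27 LD3_c15) Lrfl Lrfl
theorem f499 : Led Lsl_dt (LP (LK LD1_c0 LD2_c12 LD3_c4)) = (LP (LK LD1_c0 LD2_c27 LD3_c14)) :=
  Lre_d IH (LK LD1_c0 LD2_c12 LD3_c4) (LK LD1_c0 LD2_c27 LD3_c14) Lrfl Lrfl
theorem f500 : Led Lsl_gt (LP (LK LD1_c0 LD2_c27 LD3_c14)) = (LP (LK LD1_c0 LD2_c59 LD3_c54)) :=
  Lre_g IH (LK LD1_c0 LD2_c27 LD3_c14) (LK LD1_c0 LD2_c59 LD3_c54) Lrfl Lrfl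
theorem f8574 : Led Lsl_gt (LP (LK LD1_c0 LD2_c12 LD3_c39)) = (LP (LK LD1_c0 LD2_c5 LD3_c47)) :=
  Lre_g IH (LK LD1_c0 LD2_c12 LD3_c39) (LK LD1_c0 LD2_c5 LD3_c47) Lrfl Lrfl
theorem f165018 : Led Lsl_et (LP (LK LD1_c0 LD2_c28 LD3_c40)) = (LP (LK LD1_c0 LD2_c12 LD3_c39)) :=
  Lre_e IH (LK LD1_c0 LD2_c28 LD3_c40) (LK LD1_c0 LD2_c12 LD3_c39) Lrfl Lrfl
theorem f167635 : Led Lsl_df (LP (LK LD1_c0 LD2_c59 LD3_c54)) = (LP (LK LD1_c0 LD2_c28 LD3_c40)) :=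
  Lgr Lrot168 (Lpe (f500 IH) (Lpe (f499 IH) (Lpr_et (f167620 IH) (Lpe (f167626 IH) (Lpr_ef (f167631 IH) (Lpr_dt (f164707 IH) (Lpe (f165016 IH) (Lpe (f8564 IH) (Lpe (f8574 IH) (Lpe (f165018 IH) (Lpn (LP (LK LD1_c0 LD2_c28 LD3_c40)))))))))))))
theorem f167641 : Led Lsl_dt (LP (LK LD1_c0 LD2_c59 LD3_c54)) = (LP (LK LD1_c0 LD2_c28 LD3_c40)) :=
  Lgr Lrot42 (Lpr_df (f167635 IH) (Lpn (LP (LK LD1_c0 LD2_c28 LD3_c40))))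
theorem f6797 : Led Lsl_dt (LP (LK LD1_c0 LD2_c5 LD3_c35)) = (LP (LK LD1_c0 LD2_c12 LD3_c9)) :=
  Lre_d IH (LK LD1_c0 LD2_c5 LD3_c35) (LK LD1_c0 LD2_c12 LD3_c9) Lrfl Lrfl
theorem f6798 : Led Lsl_gt (LP (LK LD1_c0 LD2_c12 LD3_c9)) = (LP (LK LD1_c0 LD2_c27 LD3_c26)) :=
  Lre_g IH (LK LD1_c0 LD2_c12 LD3_c9) (LK LD1_c0 LD2_c27 LD3_c26) Lrfl Lrfl
theorem f6794 : Led Lsl_et (LP (LK LD1_c0 LD2_c2 LD3_c20)) = (LP (LK LD1_c0 LD2_c5 LD3_c8)) :=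
  Lre_e IH (LK LD1_c0 LD2_c2 LD3_c20) (LK LD1_c0 LD2_c5 LD3_c8) Lrfl Lrfl
theorem f6795 : Led Lsl_gt (LP (LK LD1_c0 LD2_c11 LD3_c1)) = (LP (LK LD1_c0 LD2_c5 LD3_c8)) :=
  Lre_g IH (LK LD1_c0 LD2_c11 LD3_c1) (LK LD1_c0 LD2_c5 LD3_c8) Lrfl Lrfl
theorem f6796 : Led Lsl_et (LP (LK LD1_c0 LD2_c24 LD3_c50)) = (LP (LK LD1_c0 LD2_c11 LD3_c1)) :=
  Lre_e IH (LK LD1_c0 LD2_c24 LD3_c50) (LK LD1_c0 LD2_c11 LD3_c1) Lrfl Lrfl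
theorem f6799 : Led Lsl_dt (LP (LK LD1_c0 LD2_c24 LD3_c50)) = (LP (LK LD1_c0 LD2_c27 LD3_c26)) :=
  Lgr Lrot56 (Lpr_et (f6796 IH) (Lpr_gt (f6795 IH) (Lpe (f6794 IH) (Lpr_dt (K0.f6788 IH) (Lpr_gt (K0.f6786 IH) (Lpe (K0.f298 IH) (Lpr_et (K0.f6770 IH) (Lpr_gt (f6791 IH) (Lpr_dt (f6797 IH) (Lpr_gt (f6798 IH) (Lpn (LP (LK LD1_c0 LD2_c27 LD3_c26)))))))))))))
theorem f6806 : Led Lsl_df (LP (LK LD1_c0 LD2_c24 LD3_c50)) = (LP (LK LD1_c0 LD2_c27 LD3_c26)) :=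
  Lgr Lrot38 (Lpr_dt (f6799 IH) (Lpn (LP (LK LD1_c0 LD2_c27 LD3_c26))))
theorem f167764 : Led Lsl_cf (LP (LK LD1_c0 LD2_c24 LD3_c50)) = (LP (LK LD1_c0 LD2_c28 LD3_c40)) :=
  Lgr Lrot14 (Lpr_df (f6806 IH) (Lpe (f6798 IH) (Lpe (f6797 IH) (Lpe (f6791 IH) (Lpr_ct (f6823 IH) (Lpr_gt (f497 IH) (Lpr_dt (f499 IH) (Lpr_gt (f500 IH) (Lpr_dt (f167641 IH) (Lpn (LP (LK LD1_c0 LD2_c28 LD3_c40))))))))))))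
theorem f167644 : Led Lsl_et (LP (LK LD1_c0 LD2_c12 LD3_c39)) = (LP (LK LD1_c0 LD2_c28 LD3_c40)) :=
  Lre_e IH (LK LD1_c0 LD2_c12 LD3_c39) (LK LD1_c0 LD2_c28 LD3_c40) Lrfl Lrfl
theorem f167771 : Led Lsl_ct (LP (LK LD1_c0 LD2_c11 LD3_c1)) = (LP (LK LD1_c0 LD2_c12 LD3_c39)) :=
  Lgr Lrot15 (Lpe (f6796 IH) (Lpr_cf (f167764 IH) (Lpe (f167644 IH) (Lpn (LP (LK LD1_c0 LD2_c12 LD3_c39))))))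
theorem f167774 : Led Lsl_cf (LP (LK LD1_c0 LD2_c11 LD3_c1)) = (LP (LK LD1_c0 LD2_c12 LD3_c39)) :=
  Lgr Lrot11 (Lpr_ct (f167771 IH) (Lpn (LP (LK LD1_c0 LD2_c12 LD3_c39))))
theorem f42720 : Led Lsl_bt (LP (LK LD1_c0 LD2_c10 LD3_c61)) = (LP (LK LD1_c0 LD2_c24 LD3_c43)) :=
  Lre_b IH (LK LD1_c0 LD2_c10 LD3_c61) (LK LD1_c0 LD2_c24 LD3_c43) Lrfl Lrfl
theorem f42729 : Led Lsl_gt (LP (LK LD1_c0 LD2_c24 LD3_c43)) = (LP (LK LD1_c0 LD2_c54 LD3_c41)) :=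
  Lre_g IH (LK LD1_c0 LD2_c24 LD3_c43) (LK LD1_c0 LD2_c54 LD3_c41) Lrfl Lrfl
theorem f167789 : Led Lsl_bt (LP (LK LD1_c1 LD2_c55 LD3_c54)) = (LP (LK LD1_c0 LD2_c54 LD3_c41)) :=
  Lre_b IH (LK LD1_c1 LD2_c55 LD3_c54) (LK LD1_c0 LD2_c54 LD3_c41) Lrfl Lrfl
theorem f40823 : Led Lsl_gt (LP (LK LD1_c0 LD2_c7 LD3_c13)) = (LP (LK LD1_c0 LD2_c12 LD3_c39)) :=
  Lre_g IH (LK LD1_c0 LD2_c7 LD3_c13) (LK LD1_c0 LD2_c12 LD3_c39) Lrfl Lrfl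
theorem f167790 : Led Lsl_bt (LP (LK LD1_c0 LD2_c15 LD3_c51)) = (LP (LK LD1_c0 LD2_c7 LD3_c13)) :=
  Lre_b IH (LK LD1_c0 LD2_c15 LD3_c51) (LK LD1_c0 LD2_c7 LD3_c13) Lrfl Lrfl
theorem f167791 : Led Lsl_ct (LP (LK LD1_c0 LD2_c15 LD3_c51)) = (LP (LK LD1_c0 LD2_c32 LD3_c23)) :=
  Lre_c IH (LK LD1_c0 LD2_c15 LD3_c51) (LK LD1_c0 LD2_c32 LD3_c23) Lrfl Lrfl
theorem f40805 : Led Lsl_gt (LP (LK LD1_c1 LD2_c9 LD3_c49)) = (LP (LK LD1_c0 LD2_c32 LD3_c23)) :=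
  Lre_g IH (LK LD1_c1 LD2_c9 LD3_c49) (LK LD1_c0 LD2_c32 LD3_c23) Lrfl Lrfl
theorem f167792 : Led Lsl_ct (LP (LK LD1_c1 LD2_c55 LD3_c54)) = (LP (LK LD1_c1 LD2_c9 LD3_c49)) :=
  Lgr Lrot64 (Lpr_bt (f167789 IH) (Lpe (f42729 IH) (Lpe (f42720 IH) (Lpr_ct (K1.f28388 IH) (Lpe (f6795 IH) (Lpr_cf (f167774 IH) (Lpe (f40823 IH) (Lpe (f167790 IH) (Lpr_ct (f167791 IH) (Lpe (f40805 IH) (Lpn (LP (LK LD1_c1 LD2_c9 LD3_c49)))))))))))))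
theorem f41369 : Led Lsl_gt (LP (LK LD1_c0 LD2_c54 LD3_c41)) = (LP (LK LD1_c1 LD2_c55 LD3_c53)) :=
  Lre_g IH (LK LD1_c0 LD2_c54 LD3_c41) (LK LD1_c1 LD2_c55 LD3_c53) Lrfl Lrfl
theorem f40828 : Led Lsl_bt (LP (LK LD1_c0 LD2_c24 LD3_c45)) = (LP (LK LD1_c0 LD2_c54 LD3_c44)) :=
  Lre_b IH (LK LD1_c0 LD2_c24 LD3_c45) (LK LD1_c0 LD2_c54 LD3_c44) Lrfl Lrfl
theorem f40829 : Led Lsl_at (LP (LK LD1_c0 LD2_c54 LD3_c44)) = (LP (LK LD1_c1 LD2_c55 LD3_c53)) :=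
  Lre_a IH (LK LD1_c0 LD2_c54 LD3_c44) (LK LD1_c1 LD2_c55 LD3_c53) Lrfl Lrfl
theorem f40830 : Led Lsl_bt (LP (LK LD1_c0 LD2_c32 LD3_c23)) = (LP (LK LD1_c0 LD2_c14 LD3_c32)) :=
  Lre_b IH (LK LD1_c0 LD2_c32 LD3_c23) (LK LD1_c0 LD2_c14 LD3_c32) Lrfl Lrfl
theorem f40831 : Led Lsl_at (LP (LK LD1_c1 LD2_c9 LD3_c52)) = (LP (LK LD1_c0 LD2_c32 LD3_c23)) :=
  Lre_a IH (LK LD1_c1 LD2_c9 LD3_c52) (LK LD1_c0 LD2_c32 LD3_c23) Lrfl Lrfl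
theorem f40832 : Led Lsl_bt (LP (LK LD1_c1 LD2_c55 LD3_c53)) = (LP (LK LD1_c1 LD2_c9 LD3_c52)) :=
  Lgr Lrot62 (Lpe (f40829 IH) (Lpe (f40828 IH) (Lpr_af (K1.f40813 IH) (Lpe (f40830 IH) (Lpe (f40831 IH) (Lpn (LP (LK LD1_c1 LD2_c9 LD3_c52))))))))
theorem f41397 : Led Lsl_bt (LP (LK LD1_c1 LD2_c9 LD3_c52)) = (LP (LK LD1_c1 LD2_c55 LD3_c53)) :=
  Lgr Lrot119 (Lpr_ef (K1.f41387 IH) (Lpe (f40832 IH) (Lpe (K1.f41359 IH) (Lpn (LP (LK LD1_c1 LD2_c55 LD3_c53))))))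
theorem f41437 : Led Lsl_gt (LP (LK LD1_c0 LD2_c35 LD3_c1)) = (LP (LK LD1_c0 LD2_c15 LD3_c49)) :=
  Lre_g IH (LK LD1_c0 LD2_c35 LD3_c1) (LK LD1_c0 LD2_c15 LD3_c49) Lrfl Lrfl
theorem f167808 : Led Lsl_ct (LP (LK LD1_c0 LD2_c35 LD3_c15)) = (LP (LK LD1_c0 LD2_c15 LD3_c49)) :=
  Lre_c IH (LK LD1_c0 LD2_c35 LD3_c15) (LK LD1_c0 LD2_c15 LD3_c49) Lrfl Lrfl
theorem f41907 : Led Lsl_gt (LP (LK LD1_c0 LD2_c32 LD3_c19)) = (LP (LK LD1_c1 LD2_c9 LD3_c49)) :=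
  Lre_g IH (LK LD1_c0 LD2_c32 LD3_c19) (LK LD1_c1 LD2_c9 LD3_c49) Lrfl Lrfl
theorem f41256 : Led Lsl_ct (LP (LK LD1_c0 LD2_c15 LD3_c43)) = (LP (LK LD1_c0 LD2_c32 LD3_c19)) :=
  Lre_c IH (LK LD1_c0 LD2_c15 LD3_c43) (LK LD1_c0 LD2_c32 LD3_c19) Lrfl Lrfl
theorem f41274 : Led Lsl_gt (LP (LK LD1_c0 LD2_c34 LD3_c61)) = (LP (LK LD1_c0 LD2_c15 LD3_c43)) :=
  Lre_g IH (LK LD1_c0 LD2_c34 LD3_c61) (LK LD1_c0 LD2_c15 LD3_c43) Lrfl Lrfl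
theorem f167809 : Led Lsl_bt (LP (LK LD1_c0 LD2_c35 LD3_c15)) = (LP (LK LD1_c0 LD2_c34 LD3_c61)) :=
  Lgr Lrot130 (Lpr_ct (f167808 IH) (Lpe (f41437 IH) (Lpe (K1.f41399 IH) (Lpr_bt (f41397 IH) (Lpe (f41369 IH) (Lpe (f167789 IH) (Lpr_ct (f167792 IH) (Lpe (f41907 IH) (Lpe (f41256 IH) (Lpe (f41274 IH) (Lpn (LP (LK LD1_c0 LD2_c34 LD3_c61)))))))))))))
theorem f42112 : Led Lsl_gt (LP (LK LD1_c0 LD2_c15 LD3_c49)) = (LP (LK LD1_c0 LD2_c7 LD3_c8)) :=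
  Lre_g IH (LK LD1_c0 LD2_c15 LD3_c49) (LK LD1_c0 LD2_c7 LD3_c8) Lrfl Lrfl
theorem f167828 : Led Lsl_ct (LP (LK LD1_c0 LD2_c14 LD3_c30)) = (LP (LK LD1_c0 LD2_c7 LD3_c8)) :=
  Lre_c IH (LK LD1_c0 LD2_c14 LD3_c30) (LK LD1_c0 LD2_c7 LD3_c8) Lrfl Lrfl
theorem f167829 : Led Lsl_bt (LP (LK LD1_c0 LD2_c14 LD3_c30)) = (LP (LK LD1_c0 LD2_c6 LD3_c40)) :=
  Lre_b IH (LK LD1_c0 LD2_c14 LD3_c30) (LK LD1_c0 LD2_c6 LD3_c40) Lrfl Lrfl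
theorem f167830 : Led Lsl_gt (LP (LK LD1_c0 LD2_c15 LD3_c51)) = (LP (LK LD1_c0 LD2_c34 LD3_c61)) :=
  Lre_g IH (LK LD1_c0 LD2_c15 LD3_c51) (LK LD1_c0 LD2_c34 LD3_c61) Lrfl Lrfl
theorem f167831 : Led Lsl_bt (LP (LK LD1_c0 LD2_c7 LD3_c13)) = (LP (LK LD1_c0 LD2_c15 LD3_c51)) :=
  Lre_b IH (LK LD1_c0 LD2_c7 LD3_c13) (LK LD1_c0 LD2_c15 LD3_c51) Lrfl Lrfl
theorem f20651 : Led Lsl_gt (LP (LK LD1_c0 LD2_c5 LD3_c48)) = (LP (LK LD1_c0 LD2_c3 LD3_c19)) :=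
  Lre_g IH (LK LD1_c0 LD2_c5 LD3_c48) (LK LD1_c0 LD2_c3 LD3_c19) Lrfl Lrfl
theorem f20813 : Led Lsl_ct (LP (LK LD1_c0 LD2_c12 LD3_c43)) = (LP (LK LD1_c0 LD2_c5 LD3_c48)) :=
  Lre_c IH (LK LD1_c0 LD2_c12 LD3_c43) (LK LD1_c0 LD2_c5 LD3_c48) Lrfl Lrfl
theorem f167832 : Led Lsl_gt (LP (LK LD1_c0 LD2_c6 LD3_c40)) = (LP (LK LD1_c0 LD2_c12 LD3_c43)) :=
  Lgr Lrot82 (Lpe (f167829 IH) (Lpr_ct (f167828 IH) (Lpe (f42112 IH) (Lpe (f167808 IH) (Lpr_bt (f167809 IH) (Lpe (f167830 IH) (Lpe (f167831 IH) (Lpr_ct (f40798 IH) (Lpe (f20651 IH) (Lpe (f20813 IH) (Lpn (LP (LK LD1_c0 LD2_c12 LD3_c43)))))))))))))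
theorem f3105 : Led Lsl_gt (LP (LK LD1_c0 LD2_c14 LD3_c31)) = (LP (LK LD1_c0 LD2_c32 LD3_c24)) :=
  Lre_g IH (LK LD1_c0 LD2_c14 LD3_c31) (LK LD1_c0 LD2_c32 LD3_c24) Lrfl Lrfl
theorem f40802 : Led Lsl_ct (LP (LK LD1_c0 LD2_c3 LD3_c19)) = (LP (LK LD1_c0 LD2_c7 LD3_c13)) :=
  Lre_c IH (LK LD1_c0 LD2_c3 LD3_c19) (LK LD1_c0 LD2_c7 LD3_c13) Lrfl Lrfl
theorem f42261 : Led Lsl_ct (LP (LK LD1_c0 LD2_c36 LD3_c0)) = (LP (LK LD1_c0 LD2_c16 LD3_c3)) :=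
  Lre_c IH (LK LD1_c0 LD2_c36 LD3_c0) (LK LD1_c0 LD2_c16 LD3_c3) Lrfl Lrfl
theorem f167840 : Led Lsl_gt (LP (LK LD1_c1 LD2_c2 LD3_c60)) = (LP (LK LD1_c0 LD2_c36 LD3_c0)) :=
  Lre_g IH (LK LD1_c1 LD2_c2 LD3_c60) (LK LD1_c0 LD2_c36 LD3_c0) Lrfl Lrfl
theorem f167841 : Led Lsl_ct (LP (LK LD1_c0 LD2_c32 LD3_c24)) = (LP (LK LD1_c1 LD2_c2 LD3_c60)) :=
  Lgr Lrot152 (Lpe (f3105 IH) (Lpe (K1.f3104 IH) (Lpr_gt (f167832 IH) (Lpr_ct (f20813 IH) (Lpr_gt (f20651 IH) (Lpr_ct (f40802 IH) (Lpe (f7598 IH) (Lpe (f42261 IH) (Lpe (f167840 IH) (Lpn (LP (LK LD1_c1 LD2_c2 LD3_c60))))))))))))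
theorem f41216 : Led Lsl_bt (LP (LK LD1_c0 LD2_c32 LD3_c22)) = (LP (LK LD1_c0 LD2_c14 LD3_c31)) :=
  Lre_b IH (LK LD1_c0 LD2_c32 LD3_c22) (LK LD1_c0 LD2_c14 LD3_c31) Lrfl Lrfl
theorem f167925 : Led Lsl_ct (LP (LK LD1_c0 LD2_c32 LD3_c22)) = (LP (LK LD1_c1 LD2_c10 LD3_c1)) :=
  Lre_c IH (LK LD1_c0 LD2_c32 LD3_c22) (LK LD1_c1 LD2_c10 LD3_c1) Lrfl Lrfl
theorem f55165 : Led Lsl_gt (LP (LK LD1_c2 LD2_c25 LD3_c39)) = (LP (LK LD1_c1 LD2_c10 LD3_c1)) :=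
  Lre_g IH (LK LD1_c2 LD2_c25 LD3_c39) (LK LD1_c1 LD2_c10 LD3_c1) Lrfl Lrfl
theorem f165012 : Led Lsl_ct (LP (LK LD1_c0 LD2_c16 LD3_c3)) = (LP (LK LD1_c0 LD2_c36 LD3_c0)) :=
  Lre_c IH (LK LD1_c0 LD2_c16 LD3_c3) (LK LD1_c0 LD2_c36 LD3_c0) Lrfl Lrfl
theorem f42260 : Led Lsl_bt (LP (LK LD1_c0 LD2_c16 LD3_c3)) = (LP (LK LD1_c0 LD2_c35 LD3_c21)) :=
  Lre_b IH (LK LD1_c0 LD2_c16 LD3_c3) (LK LD1_c0 LD2_c35 LD3_c21) Lrfl Lrfl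
theorem f42159 : Led Lsl_gt (LP (LK LD1_c0 LD2_c35 LD3_c21)) = (LP (LK LD1_c1 LD2_c15 LD3_c32)) :=
  Lre_g IH (LK LD1_c0 LD2_c35 LD3_c21) (LK LD1_c1 LD2_c15 LD3_c32) Lrfl Lrfl
theorem f41272 : Led Lsl_bt (LP (LK LD1_c2 LD2_c37 LD3_c2)) = (LP (LK LD1_c1 LD2_c15 LD3_c32)) :=
  Lre_b IH (LK LD1_c2 LD2_c37 LD3_c2) (LK LD1_c1 LD2_c15 LD3_c32) Lrfl Lrfl
theorem f167926 : Led Lsl_cf (LP (LK LD1_c2 LD2_c25 LD3_c39)) = (LP (LK LD1_c2 LD2_c37 LD3_c2)) :=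
  Lgr Lrot160 (Lpr_gt (f55165 IH) (Lpe (f167925 IH) (Lpr_bt (f41216 IH) (Lpr_gt (f3105 IH) (Lpr_ct (f167841 IH) (Lpr_gt (f167840 IH) (Lpe (f165012 IH) (Lpr_bt (f42260 IH) (Lpr_gt (f42159 IH) (Lpe (f41272 IH) (Lpn (LP (LK LD1_c2 LD2_c37 LD3_c2)))))))))))))
theorem f41157 : Led Lsl_gt (LP (LK LD1_c4 LD2_c54 LD3_c41)) = (LP (LK LD1_c2 LD2_c25 LD3_c39)) :=
  Lre_g IH (LK LD1_c4 LD2_c54 LD3_c41) (LK LD1_c2 LD2_c25 LD3_c39) Lrfl Lrfl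
theorem f41136 : Led Lsl_ct (LP (LK LD1_c2 LD2_c25 LD3_c14)) = (LP (LK LD1_c4 LD2_c54 LD3_c41)) :=
  Lre_c IH (LK LD1_c2 LD2_c25 LD3_c14) (LK LD1_c4 LD2_c54 LD3_c41) Lrfl Lrfl
theorem f41406 : Led Lsl_gt (LP (LK LD1_c1 LD2_c9 LD3_c61)) = (LP (LK LD1_c2 LD2_c25 LD3_c14)) :=
  Lre_g IH (LK LD1_c1 LD2_c9 LD3_c61) (LK LD1_c2 LD2_c25 LD3_c14) Lrfl Lrfl
theorem f167940 : Led Lsl_bt (LP (LK LD1_c2 LD2_c25 LD3_c32)) = (LP (LK LD1_c1 LD2_c9 LD3_c61)) :=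
  Lre_b IH (LK LD1_c2 LD2_c25 LD3_c32) (LK LD1_c1 LD2_c9 LD3_c61) Lrfl Lrfl
theorem f41271 : Led Lsl_gt (LP (LK LD1_c1 LD2_c15 LD3_c32)) = (LP (LK LD1_c0 LD2_c35 LD3_c0)) :=
  Lre_g IH (LK LD1_c1 LD2_c15 LD3_c32) (LK LD1_c0 LD2_c35 LD3_c0) Lrfl Lrfl
theorem f41737 : Led Lsl_bt (LP (LK LD1_c1 LD2_c2 LD3_c31)) = (LP (LK LD1_c0 LD2_c35 LD3_c0)) :=
  Lre_b IH (LK LD1_c1 LD2_c2 LD3_c31) (LK LD1_c0 LD2_c35 LD3_c0) Lrfl Lrfl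
theorem f41739 : Led Lsl_ct (LP (LK LD1_c1 LD2_c2 LD3_c31)) = (LP (LK LD1_c2 LD2_c10 LD3_c61)) :=
  Lre_c IH (LK LD1_c1 LD2_c2 LD3_c31) (LK LD1_c2 LD2_c10 LD3_c61) Lrfl Lrfl
theorem f44647 : Led Lsl_gt (LP (LK LD1_c2 LD2_c10 LD3_c61)) = (LP (LK LD1_c4 LD2_c27 LD3_c36)) :=
  Lre_g IH (LK LD1_c2 LD2_c10 LD3_c61) (LK LD1_c4 LD2_c27 LD3_c36) Lrfl Lrfl
theorem f167941 : Led Lsl_ct (LP (LK LD1_c2 LD2_c25 LD3_c32)) = (LP (LK LD1_c4 LD2_c27 LD3_c36)) :=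
  Lgr Lrot10 (Lpr_bt (f167940 IH) (Lpr_gt (f41406 IH) (Lpr_ct (f41136 IH) (Lpr_gt (f41157 IH) (Lpr_cf (f167926 IH) (Lpr_bt (f41272 IH) (Lpr_gt (f41271 IH) (Lpe (f41737 IH) (Lpr_ct (f41739 IH) (Lpr_gt (f44647 IH) (Lpn (LP (LK LD1_c4 LD2_c27 LD3_c36)))))))))))))
theorem f168085 : Led Lsl_gt (LP (LK LD1_c0 LD2_c32 LD3_c22)) = (LP (LK LD1_c1 LD2_c9 LD3_c61)) :=
  Lre_g IH (LK LD1_c0 LD2_c32 LD3_c22) (LK LD1_c1 LD2_c9 LD3_c61) Lrfl Lrfl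
theorem f41066 : Led Lsl_bt (LP (LK LD1_c0 LD2_c14 LD3_c31)) = (LP (LK LD1_c0 LD2_c32 LD3_c22)) :=
  Lre_b IH (LK LD1_c0 LD2_c14 LD3_c31) (LK LD1_c0 LD2_c32 LD3_c22) Lrfl Lrfl
theorem f168075 : Led Lsl_gt (LP (LK LD1_c4 LD2_c27 LD3_c36)) = (LP (LK LD1_c2 LD2_c11 LD3_c22)) :=
  Lre_g IH (LK LD1_c4 LD2_c27 LD3_c36) (LK LD1_c2 LD2_c11 LD3_c22) Lrfl Lrfl
theorem f44737 : Led Lsl_ct (LP (LK LD1_c1 LD2_c2 LD3_c41)) = (LP (LK LD1_c2 LD2_c11 LD3_c22)) :=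
  Lre_c IH (LK LD1_c1 LD2_c2 LD3_c41) (LK LD1_c2 LD2_c11 LD3_c22) Lrfl Lrfl
theorem f168081 : Led Lsl_bt (LP (LK LD1_c1 LD2_c2 LD3_c41)) = (LP (LK LD1_c0 LD2_c28 LD3_c44)) :=
  Lre_b IH (LK LD1_c1 LD2_c2 LD3_c41) (LK LD1_c0 LD2_c28 LD3_c44) Lrfl Lrfl
theorem f8441 : Led Lsl_gt (LP (LK LD1_c0 LD2_c28 LD3_c44)) = (LP (LK LD1_c0 LD2_c16 LD3_c1)) :=
  Lre_g IH (LK LD1_c0 LD2_c28 LD3_c44) (LK LD1_c0 LD2_c16 LD3_c1) Lrfl Lrfl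
theorem f168086 : Led Lsl_ct (LP (LK LD1_c0 LD2_c16 LD3_c1)) = (LP (LK LD1_c0 LD2_c35 LD3_c56)) :=
  Lre_c IH (LK LD1_c0 LD2_c16 LD3_c1) (LK LD1_c0 LD2_c35 LD3_c56) Lrfl Lrfl
theorem f168087 : Led Lsl_gf (LP (LK LD1_c0 LD2_c32 LD3_c26)) = (LP (LK LD1_c0 LD2_c35 LD3_c56)) :=
  Lgr Lrot129 (Lpe (K1.f40842 IH) (Lpr_bt (f41066 IH) (Lpr_gt (f168085 IH) (Lpe (f167940 IH) (Lpr_ct (f167941 IH) (Lpr_gt (f168075 IH) (Lpe (f44737 IH) (Lpr_bt (f168081 IH) (Lpr_gt (f8441 IH) (Lpr_ct (f168086 IH) (Lpn (LP (LK LD1_c0 LD2_c35 LD3_c56)))))))))))))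
theorem f168089 : Led Lsl_gt (LP (LK LD1_c0 LD2_c16 LD3_c1)) = (LP (LK LD1_c0 LD2_c7 LD3_c12)) :=
  Lre_g IH (LK LD1_c0 LD2_c16 LD3_c1) (LK LD1_c0 LD2_c7 LD3_c12) Lrfl Lrfl
theorem f168090 : Led Lsl_dt (LP (LK LD1_c0 LD2_c7 LD3_c12)) = (LP (LK LD1_c0 LD2_c3 LD3_c15)) :=
  Lre_d IH (LK LD1_c0 LD2_c7 LD3_c12) (LK LD1_c0 LD2_c3 LD3_c15) Lrfl Lrfl
theorem f7884 : Led Lsl_ct (LP (LK LD1_c0 LD2_c35 LD3_c38)) = (LP (LK LD1_c0 LD2_c15 LD3_c57)) :=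
  Lre_c IH (LK LD1_c0 LD2_c35 LD3_c38) (LK LD1_c0 LD2_c15 LD3_c57) Lrfl Lrfl
theorem f168091 : Led Lsl_dt (LP (LK LD1_c1 LD2_c17 LD3_c4)) = (LP (LK LD1_c0 LD2_c35 LD3_c38)) :=
  Lre_d IH (LK LD1_c1 LD2_c17 LD3_c4) (LK LD1_c0 LD2_c35 LD3_c38) Lrfl Lrfl
theorem f168092 : Led Lsl_gt (LP (LK LD1_c1 LD2_c10 LD3_c8)) = (LP (LK LD1_c1 LD2_c17 LD3_c4)) :=
  Lgr Lrot49 (Lpe (K1.f40843 IH) (Lpr_gf (f168087 IH) (Lpe (f168086 IH) (Lpr_gt (f168089 IH) (Lpr_dt (f168090 IH) (Lpr_gt (K0.f7709 IH) (Lpr_dt (K0.f7713 IH) (Lpe (f7884 IH) (Lpe (f168091 IH) (Lpn (LP (LK LD1_c1 LD2_c17 LD3_c4))))))))))))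
theorem f168539 : Led Lsl_gf (LP (LK LD1_c1 LD2_c10 LD3_c38)) = (LP (LK LD1_c1 LD2_c17 LD3_c4)) :=
  Lgr Lrot76 (Lpe (K1.f40977 IH) (Lpr_ff (K1.f40996 IH) (Lpr_gt (f168092 IH) (Lpn (LP (LK LD1_c1 LD2_c17 LD3_c4))))))
theorem f172394 : Led Lsl_gt (LP (LK LD1_c9 LD2_c3 LD3_c31)) = (LP (LK LD1_c4 LD2_c33 LD3_c20)) :=
  Lre_g IH (LK LD1_c9 LD2_c3 LD3_c31) (LK LD1_c4 LD2_c33 LD3_c20) Lrfl Lrfl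
theorem f172397 : Led Lsl_ct (LP (LK LD1_c2 LD2_c13 LD3_c37)) = (LP (LK LD1_c4 LD2_c33 LD3_c20)) :=
  Lre_c IH (LK LD1_c2 LD2_c13 LD3_c37) (LK LD1_c4 LD2_c33 LD3_c20) Lrfl Lrfl
theorem f168299 : Led Lsl_bt (LP (LK LD1_c2 LD2_c13 LD3_c37)) = (LP (LK LD1_c1 LD2_c3 LD3_c54)) :=
  Lre_b IH (LK LD1_c2 LD2_c13 LD3_c37) (LK LD1_c1 LD2_c3 LD3_c54) Lrfl Lrfl
theorem f68913 : Led Lsl_gt (LP (LK LD1_c1 LD2_c3 LD3_c54)) = (LP (LK LD1_c0 LD2_c37 LD3_c9)) :=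
  Lre_g IH (LK LD1_c1 LD2_c3 LD3_c54) (LK LD1_c0 LD2_c37 LD3_c9) Lrfl Lrfl
theorem f172399 : Led Lsl_cf (LP (LK LD1_c1 LD2_c17 LD3_c4)) = (LP (LK LD1_c0 LD2_c37 LD3_c9)) :=
  Lgr Lrot125 (Lpe (f168539 IH) (Lpe (K1.f40983 IH) (Lpr_bt (f168556 IH) (Lpr_gt (f168557 IH) (Lpe (f168559 IH) (Lpr_ct (f172379 IH) (Lpr_gt (f172394 IH) (Lpe (f172397 IH) (Lpr_bt (f168299 IH) (Lpr_gt (f68913 IH) (Lpn (LP (LK LD1_c0 LD2_c37 LD3_c9)))))))))))))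
theorem f172404 : Led Lsl_ct (LP (LK LD1_c1 LD2_c17 LD3_c4)) = (LP (LK LD1_c0 LD2_c37 LD3_c9)) :=
  Lgr Lrot59 (Lpr_cf (f172399 IH) (Lpn (LP (LK LD1_c0 LD2_c37 LD3_c9))))
theorem f22481 : Led Lsl_gt (LP (LK LD1_c0 LD2_c37 LD3_c9)) = (LP (LK LD1_c0 LD2_c16 LD3_c33)) :=
  Lre_g IH (LK LD1_c0 LD2_c37 LD3_c9) (LK LD1_c0 LD2_c16 LD3_c33) Lrfl Lrfl
theorem f168229 : Led Lsl_ct (LP (LK LD1_c0 LD2_c16 LD3_c33)) = (LP (LK LD1_c0 LD2_c37 LD3_c10)) :=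
  Lre_c IH (LK LD1_c0 LD2_c16 LD3_c33) (LK LD1_c0 LD2_c37 LD3_c10) Lrfl Lrfl
theorem f172857 : Led Lsl_dt (LP (LK LD1_c1 LD2_c3 LD3_c2)) = (LP (LK LD1_c0 LD2_c37 LD3_c10)) :=
  Lre_d IH (LK LD1_c1 LD2_c3 LD3_c2) (LK LD1_c0 LD2_c37 LD3_c10) Lrfl Lrfl
theorem f172858 : Led Lsl_ct (LP (LK LD1_c0 LD2_c28 LD3_c44)) = (LP (LK LD1_c1 LD2_c3 LD3_c2)) :=
  Lre_c IH (LK LD1_c0 LD2_c28 LD3_c44) (LK LD1_c1 LD2_c3 LD3_c2) Lrfl Lrfl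
theorem f172859 : Led Lsl_gt (LP (LK LD1_c0 LD2_c16 LD3_c0)) = (LP (LK LD1_c0 LD2_c28 LD3_c44)) :=
  Lre_g IH (LK LD1_c0 LD2_c16 LD3_c0) (LK LD1_c0 LD2_c28 LD3_c44) Lrfl Lrfl
theorem f172860 : Led Lsl_ct (LP (LK LD1_c0 LD2_c35 LD3_c52)) = (LP (LK LD1_c0 LD2_c16 LD3_c0)) :=
  Lre_c IH (LK LD1_c0 LD2_c35 LD3_c52) (LK LD1_c0 LD2_c16 LD3_c0) Lrfl Lrfl
theorem f172861 : Led Lsl_gt (LP (LK LD1_c0 LD2_c32 LD3_c26)) = (LP (LK LD1_c0 LD2_c35 LD3_c52)) :=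
  Lgr Lrot9 (Lpe (K1.f40995 IH) (Lpr_gt (f168092 IH) (Lpr_ct (f172404 IH) (Lpr_gt (f22481 IH) (Lpr_ct (f168229 IH) (Lpe (f172857 IH) (Lpe (f172858 IH) (Lpe (f172859 IH) (Lpe (f172860 IH) (Lpn (LP (LK LD1_c0 LD2_c35 LD3_c52))))))))))))
theorem f40865 : Led Lsl_ft (LP (LK LD1_c0 LD2_c32 LD3_c26)) = (LP (LK LD1_c1 LD2_c10 LD3_c9)) :=
  Lre_f IH (LK LD1_c0 LD2_c32 LD3_c26) (LK LD1_c1 LD2_c10 LD3_c9) Lrfl Lrfl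
theorem f173033 : Led Lsl_gt (LP (LK LD1_c0 LD2_c35 LD3_c52)) = (LP (LK LD1_c1 LD2_c17 LD3_c37)) :=
  Lre_g IH (LK LD1_c0 LD2_c35 LD3_c52) (LK LD1_c1 LD2_c17 LD3_c37) Lrfl Lrfl
theorem f173034 : Led Lsl_at (LP (LK LD1_c1 LD2_c10 LD3_c9)) = (LP (LK LD1_c1 LD2_c17 LD3_c37)) :=
  Lgr Lrot26 (Lpe (f40865 IH) (Lpr_gt (f172861 IH) (Lpr_gt (f173033 IH) (Lpn (LP (LK LD1_c1 LD2_c17 LD3_c37))))))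
theorem f173074 : Led Lsl_ct (LP (LK LD1_c0 LD2_c54 LD3_c48)) = (LP (LK LD1_c1 LD2_c17 LD3_c37)) :=
  Lgr Lrot98 (Lpe (K1.f40834 IH) (Lpe (K1.f40839 IH) (Lpe (K1.f40815 IH) (Lpe (K1.f40840 IH) (Lpe (K1.f40841 IH) (Lpr_cf (K1.f40844 IH) (Lpe (K1.f40843 IH) (Lpr_ft (f40865 IH) (Lpr_at (f173034 IH) (Lpn (LP (LK LD1_c1 LD2_c17 LD3_c37))))))))))))
theorem f41086 : Led Lsl_bt (LP (LK LD1_c0 LD2_c54 LD3_c48)) = (LP (LK LD1_c1 LD2_c56 LD3_c2)) :=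
  Lre_b IH (LK LD1_c0 LD2_c54 LD3_c48) (LK LD1_c1 LD2_c56 LD3_c2) Lrfl Lrfl
theorem f41349 : Led Lsl_gt (LP (LK LD1_c1 LD2_c56 LD3_c2)) = (LP (LK LD1_c3 LD2_c58 LD3_c9)) :=
  Lre_g IH (LK LD1_c1 LD2_c56 LD3_c2) (LK LD1_c3 LD2_c58 LD3_c9) Lrfl Lrfl
theorem f173044 : Led Lsl_ct (LP (LK LD1_c0 LD2_c16 LD3_c0)) = (LP (LK LD1_c0 LD2_c35 LD3_c52)) :=
  Lre_c IH (LK LD1_c0 LD2_c16 LD3_c0) (LK LD1_c0 LD2_c35 LD3_c52) Lrfl Lrfl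
theorem f168187 : Led Lsl_gt (LP (LK LD1_c0 LD2_c7 LD3_c12)) = (LP (LK LD1_c0 LD2_c16 LD3_c0)) :=
  Lre_g IH (LK LD1_c0 LD2_c7 LD3_c12) (LK LD1_c0 LD2_c16 LD3_c0) Lrfl Lrfl
theorem f173086 : Led Lsl_bt (LP (LK LD1_c0 LD2_c15 LD3_c50)) = (LP (LK LD1_c0 LD2_c7 LD3_c12)) :=
  Lre_b IH (LK LD1_c0 LD2_c15 LD3_c50) (LK LD1_c0 LD2_c7 LD3_c12) Lrfl Lrfl
theorem f173087 : Led Lsl_ct (LP (LK LD1_c0 LD2_c15 LD3_c50)) = (LP (LK LD1_c0 LD2_c35 LD3_c20)) :=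
  Lre_c IH (LK LD1_c0 LD2_c15 LD3_c50) (LK LD1_c0 LD2_c35 LD3_c20) Lrfl Lrfl
theorem f173088 : Led Lsl_gt (LP (LK LD1_c1 LD2_c16 LD3_c21)) = (LP (LK LD1_c0 LD2_c35 LD3_c20)) :=
  Lre_g IH (LK LD1_c1 LD2_c16 LD3_c21) (LK LD1_c0 LD2_c35 LD3_c20) Lrfl Lrfl
theorem f173089 : Led Lsl_ct (LP (LK LD1_c2 LD2_c39 LD3_c2)) = (LP (LK LD1_c1 LD2_c16 LD3_c21)) :=
  Lre_c IH (LK LD1_c2 LD2_c39 LD3_c2) (LK LD1_c1 LD2_c16 LD3_c21) Lrfl Lrfl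
theorem f173090 : Led Lsl_bf (LP (LK LD1_c3 LD2_c58 LD3_c9)) = (LP (LK LD1_c2 LD2_c39 LD3_c2)) :=
  Lgr Lrot34 (Lpe (f41349 IH) (Lpe (f41086 IH) (Lpr_ct (f173074 IH) (Lpe (f173033 IH) (Lpe (f173044 IH) (Lpe (f168187 IH) (Lpe (f173086 IH) (Lpr_ct (f173087 IH) (Lpe (f173088 IH) (Lpe (f173089 IH) (Lpn (LP (LK LD1_c2 LD2_c39 LD3_c2)))))))))))))
theorem f41379 : Led Lsl_gt (LP (LK LD1_c3 LD2_c58 LD3_c9)) = (LP (LK LD1_c1 LD2_c55 LD3_c52)) :=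
  Lre_g IH (LK LD1_c3 LD2_c58 LD3_c9) (LK LD1_c1 LD2_c55 LD3_c52) Lrfl Lrfl
theorem f41064 : Led Lsl_bt (LP (LK LD1_c0 LD2_c54 LD3_c43)) = (LP (LK LD1_c0 LD2_c24 LD3_c44)) :=
  Lre_b IH (LK LD1_c0 LD2_c54 LD3_c43) (LK LD1_c0 LD2_c24 LD3_c44) Lrfl Lrfl
theorem f41065 : Led Lsl_at (LP (LK LD1_c1 LD2_c55 LD3_c52)) = (LP (LK LD1_c0 LD2_c54 LD3_c43)) :=
  Lre_a IH (LK LD1_c1 LD2_c55 LD3_c52) (LK LD1_c0 LD2_c54 LD3_c43) Lrfl Lrfl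
theorem f41067 : Led Lsl_at (LP (LK LD1_c0 LD2_c32 LD3_c22)) = (LP (LK LD1_c1 LD2_c9 LD3_c51)) :=
  Lre_a IH (LK LD1_c0 LD2_c32 LD3_c22) (LK LD1_c1 LD2_c9 LD3_c51) Lrfl Lrfl
theorem f41068 : Led Lsl_bf (LP (LK LD1_c1 LD2_c55 LD3_c52)) = (LP (LK LD1_c1 LD2_c9 LD3_c51)) :=
  Lgr Lrot81 (Lpr_at (f41065 IH) (Lpr_bt (f41064 IH) (Lpr_at (K1.f41062 IH) (Lpr_bt (f41066 IH) (Lpr_at (f41067 IH) (Lpn (LP (LK LD1_c1 LD2_c9 LD3_c51))))))))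
theorem f173104 : Led Lsl_gt (LP (LK LD1_c2 LD2_c37 LD3_c9)) = (LP (LK LD1_c1 LD2_c16 LD3_c21)) :=
  Lre_g IH (LK LD1_c2 LD2_c37 LD3_c9) (LK LD1_c1 LD2_c16 LD3_c21) Lrfl Lrfl
theorem f172025 : Led Lsl_ct (LP (LK LD1_c1 LD2_c15 LD3_c34)) = (LP (LK LD1_c2 LD2_c37 LD3_c9)) :=
  Lre_c IH (LK LD1_c1 LD2_c15 LD3_c34) (LK LD1_c2 LD2_c37 LD3_c9) Lrfl Lrfl
theorem f41435 : Led Lsl_gt (LP (LK LD1_c0 LD2_c35 LD3_c18)) = (LP (LK LD1_c1 LD2_c15 LD3_c34)) :=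
  Lre_g IH (LK LD1_c0 LD2_c35 LD3_c18) (LK LD1_c1 LD2_c15 LD3_c34) Lrfl Lrfl
theorem f173110 : Led Lsl_bt (LP (LK LD1_c1 LD2_c16 LD3_c12)) = (LP (LK LD1_c0 LD2_c35 LD3_c18)) :=
  Lre_b IH (LK LD1_c1 LD2_c16 LD3_c12) (LK LD1_c0 LD2_c35 LD3_c18) Lrfl Lrfl
theorem f173111 : Led Lsl_ct (LP (LK LD1_c1 LD2_c16 LD3_c12)) = (LP (LK LD1_c2 LD2_c38 LD3_c33)) :=
  Lre_c IH (LK LD1_c1 LD2_c16 LD3_c12) (LK LD1_c2 LD2_c38 LD3_c33) Lrfl Lrfl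
theorem f173112 : Led Lsl_gt (LP (LK LD1_c2 LD2_c25 LD3_c13)) = (LP (LK LD1_c2 LD2_c38 LD3_c33)) :=
  Lgr Lrot65 (Lpe (K1.f41200 IH) (Lpe (f41068 IH) (Lpe (f41379 IH) (Lpr_bf (f173090 IH) (Lpr_ct (f173089 IH) (Lpe (f173104 IH) (Lpe (f172025 IH) (Lpe (f41435 IH) (Lpe (f173110 IH) (Lpr_ct (f173111 IH) (Lpn (LP (LK LD1_c2 LD2_c38 LD3_c33)))))))))))))
theorem f41228 : Led Lsl_gt (LP (LK LD1_c2 LD2_c25 LD3_c12)) = (LP (LK LD1_c1 LD2_c9 LD3_c51)) :=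
  Lre_g IH (LK LD1_c2 LD2_c25 LD3_c12) (LK LD1_c1 LD2_c9 LD3_c51) Lrfl Lrfl
theorem f173122 : Led Lsl_bt (LP (LK LD1_c2 LD2_c11 LD3_c0)) = (LP (LK LD1_c1 LD2_c15 LD3_c34)) :=
  Lre_b IH (LK LD1_c2 LD2_c11 LD3_c0) (LK LD1_c1 LD2_c15 LD3_c34) Lrfl Lrfl
theorem f173123 : Led Lsl_ct (LP (LK LD1_c2 LD2_c11 LD3_c0)) = (LP (LK LD1_c4 LD2_c27 LD3_c40)) :=
  Lre_c IH (LK LD1_c2 LD2_c11 LD3_c0) (LK LD1_c4 LD2_c27 LD3_c40) Lrfl Lrfl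
theorem f173124 : Led Lsl_gt (LP (LK LD1_c4 LD2_c27 LD3_c40)) = (LP (LK LD1_c2 LD2_c11 LD3_c19)) :=
  Lre_g IH (LK LD1_c4 LD2_c27 LD3_c40) (LK LD1_c2 LD2_c11 LD3_c19) Lrfl Lrfl
theorem f173125 : Led Lsl_ct (LP (LK LD1_c4 LD2_c28 LD3_c27)) = (LP (LK LD1_c2 LD2_c11 LD3_c19)) :=
  Lre_c IH (LK LD1_c4 LD2_c28 LD3_c27) (LK LD1_c2 LD2_c11 LD3_c19) Lrfl Lrfl
theorem f173126 : Led Lsl_bf (LP (LK LD1_c2 LD2_c25 LD3_c12)) = (LP (LK LD1_c4 LD2_c28 LD3_c27)) :=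
  Lgr Lrot165 (Lpr_gt (f41228 IH) (Lpr_ct (K1.f41200 IH) (Lpr_gt (f173112 IH) (Lpe (f173111 IH) (Lpr_bt (f173110 IH) (Lpr_gt (f41435 IH) (Lpe (f173122 IH) (Lpr_ct (f173123 IH) (Lpr_gt (f173124 IH) (Lpe (f173125 IH) (Lpn (LP (LK LD1_c4 LD2_c28 LD3_c27)))))))))))))
theorem f55290 : Led Lsl_gt (LP (LK LD1_c1 LD2_c10 LD3_c2)) = (LP (LK LD1_c2 LD2_c25 LD3_c12)) :=
  Lre_g IH (LK LD1_c1 LD2_c10 LD3_c2) (LK LD1_c2 LD2_c25 LD3_c12) Lrfl Lrfl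
theorem f41231 : Led Lsl_bt (LP (LK LD1_c0 LD2_c32 LD3_c27)) = (LP (LK LD1_c1 LD2_c10 LD3_c2)) :=
  Lre_b IH (LK LD1_c0 LD2_c32 LD3_c27) (LK LD1_c1 LD2_c10 LD3_c2) Lrfl Lrfl
theorem f173159 : Led Lsl_gt (LP (LK LD1_c2 LD2_c11 LD3_c19)) = (LP (LK LD1_c1 LD2_c2 LD3_c40)) :=
  Lre_g IH (LK LD1_c2 LD2_c11 LD3_c19) (LK LD1_c1 LD2_c2 LD3_c40) Lrfl Lrfl
theorem f173160 : Led Lsl_ct (LP (LK LD1_c0 LD2_c28 LD3_c33)) = (LP (LK LD1_c1 LD2_c2 LD3_c40)) :=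
  Lre_c IH (LK LD1_c0 LD2_c28 LD3_c33) (LK LD1_c1 LD2_c2 LD3_c40) Lrfl Lrfl
theorem f8555 : Led Lsl_bt (LP (LK LD1_c0 LD2_c28 LD3_c33)) = (LP (LK LD1_c0 LD2_c12 LD3_c40)) :=
  Lre_b IH (LK LD1_c0 LD2_c28 LD3_c33) (LK LD1_c0 LD2_c12 LD3_c40) Lrfl Lrfl
theorem f165003 : Led Lsl_ct (LP (LK LD1_c0 LD2_c28 LD3_c41)) = (LP (LK LD1_c1 LD2_c2 LD3_c55)) :=
  Lre_c IH (LK LD1_c0 LD2_c28 LD3_c41) (LK LD1_c1 LD2_c2 LD3_c55) Lrfl Lrfl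
theorem f173161 : Led Lsl_gf (LP (LK LD1_c1 LD2_c10 LD3_c9)) = (LP (LK LD1_c1 LD2_c2 LD3_c55)) :=
  Lgr Lrot129 (Lpe (f41039 IH) (Lpr_bt (f41231 IH) (Lpr_gt (f55290 IH) (Lpr_bf (f173126 IH) (Lpr_ct (f173125 IH) (Lpr_gt (f173159 IH) (Lpe (f173160 IH) (Lpr_bt (f8555 IH) (Lpr_gt (f165016 IH) (Lpr_ct (f165003 IH) (Lpn (LP (LK LD1_c1 LD2_c2 LD3_c55)))))))))))))
theorem f40752 : Led Lsl_ct (LP (LK LD1_c1 LD2_c10 LD3_c9)) = (LP (LK LD1_c0 LD2_c32 LD3_c27)) :=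
  Lre_c IH (LK LD1_c1 LD2_c10 LD3_c9) (LK LD1_c0 LD2_c32 LD3_c27) Lrfl Lrfl
theorem f40751 : Led Lsl_dt (LP (LK LD1_c0 LD2_c32 LD3_c27)) = (LP (LK LD1_c0 LD2_c14 LD3_c32)) :=
  Lre_d IH (LK LD1_c0 LD2_c32 LD3_c27) (LK LD1_c0 LD2_c14 LD3_c32) Lrfl Lrfl
theorem f8579 : Led Lsl_gt (LP (LK LD1_c0 LD2_c5 LD3_c47)) = (LP (LK LD1_c0 LD2_c12 LD3_c38)) :=
  Lre_g IH (LK LD1_c0 LD2_c5 LD3_c47) (LK LD1_c0 LD2_c12 LD3_c38) Lrfl Lrfl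
theorem f173165 : Led Lsl_cf (LP (LK LD1_c0 LD2_c11 LD3_c0)) = (LP (LK LD1_c0 LD2_c12 LD3_c38)) :=
  Lgr Lrot169 (Lpr_gt (f40816 IH) (Lpr_ct (K1.f40794 IH) (Lpe (f40751 IH) (Lpe (f40752 IH) (Lpr_gf (f173161 IH) (Lpe (f165003 IH) (Lpe (f165016 IH) (Lpe (f8564 IH) (Lpr_gt (f8579 IH) (Lpn (LP (LK LD1_c0 LD2_c12 LD3_c38))))))))))))
theorem f173178 : Led Lsl_ct (LP (LK LD1_c0 LD2_c11 LD3_c0)) = (LP (LK LD1_c0 LD2_c12 LD3_c38)) :=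
  Lgr Lrot59 (Lpr_cf (f173165 IH) (Lpn (LP (LK LD1_c0 LD2_c12 LD3_c38))))
theorem f6813 : Led Lsl_gt (LP (LK LD1_c0 LD2_c11 LD3_c2)) = (LP (LK LD1_c0 LD2_c24 LD3_c51)) :=
  Lre_g IH (LK LD1_c0 LD2_c11 LD3_c2) (LK LD1_c0 LD2_c24 LD3_c51) Lrfl Lrfl
theorem f40803 : Led Lsl_gt (LP (LK LD1_c0 LD2_c12 LD3_c38)) = (LP (LK LD1_c0 LD2_c7 LD3_c13)) :=
  Lre_g IH (LK LD1_c0 LD2_c12 LD3_c38) (LK LD1_c0 LD2_c7 LD3_c13) Lrfl Lrfl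
theorem f20812 : Led Lsl_ct (LP (LK LD1_c0 LD2_c16 LD3_c34)) = (LP (LK LD1_c0 LD2_c7 LD3_c24)) :=
  Lre_c IH (LK LD1_c0 LD2_c16 LD3_c34) (LK LD1_c0 LD2_c7 LD3_c24) Lrfl Lrfl
theorem f23960 : Led Lsl_gt (LP (LK LD1_c0 LD2_c29 LD3_c4)) = (LP (LK LD1_c0 LD2_c16 LD3_c34)) :=
  Lre_g IH (LK LD1_c0 LD2_c29 LD3_c4) (LK LD1_c0 LD2_c16 LD3_c34) Lrfl Lrfl
theorem f173206 : Led Lsl_ct (LP (LK LD1_c0 LD2_c24 LD3_c51)) = (LP (LK LD1_c0 LD2_c29 LD3_c4)) :=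
  Lgr Lrot152 (Lpe (f6813 IH) (Lpe (K1.f6812 IH) (Lpr_gt (f27243 IH) (Lpr_ct (f173178 IH) (Lpr_gt (f40803 IH) (Lpr_ct (f40798 IH) (Lpe (K0.f20231 IH) (Lpe (f20812 IH) (Lpe (f23960 IH) (Lpn (LP (LK LD1_c0 LD2_c29 LD3_c4))))))))))))
theorem f100666 : Led Lsl_af (LP (LK LD1_c0 LD2_c32 LD3_c45)) = (LP (LK LD1_c0 LD2_c40 LD3_c36)) :=
  Lgr Lrot0 (Lpr_at (f100650 IH) (Lpn (LP (LK LD1_c0 LD2_c40 LD3_c36))))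
theorem f100675 : Led Lsl_df (LP (LK LD1_c0 LD2_c32 LD3_c45)) = (LP (LK LD1_c0 LD2_c32 LD3_c45)) :=
  Lgr Lrot18 (Lpr_at (f100650 IH) (Lpr_dt (f100620 IH) (Lpe (f100666 IH) (Lpn (LP (LK LD1_c0 LD2_c32 LD3_c45))))))
theorem f100681 : Led Lsl_ct (LP (LK LD1_c0 LD2_c32 LD3_c45)) = (LP (LK LD1_c1 LD2_c10 LD3_c41)) :=
  Lre_c IH (LK LD1_c0 LD2_c32 LD3_c45) (LK LD1_c1 LD2_c10 LD3_c41) Lrfl Lrfl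
theorem f100682 : Led Lsl_dt (LP (LK LD1_c1 LD2_c10 LD3_c41)) = (LP (LK LD1_c2 LD2_c26 LD3_c50)) :=
  Lre_d IH (LK LD1_c1 LD2_c10 LD3_c41) (LK LD1_c2 LD2_c26 LD3_c50) Lrfl Lrfl
theorem f100683 : Led Lsl_ct (LP (LK LD1_c2 LD2_c26 LD3_c50)) = (LP (LK LD1_c4 LD2_c57 LD3_c61)) :=
  Lre_c IH (LK LD1_c2 LD2_c26 LD3_c50) (LK LD1_c4 LD2_c57 LD3_c61) Lrfl Lrfl
theorem f100684 : Led Lsl_dt (LP (LK LD1_c2 LD2_c26 LD3_c50)) = (LP (LK LD1_c1 LD2_c10 LD3_c41)) :=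
  Lre_d IH (LK LD1_c2 LD2_c26 LD3_c50) (LK LD1_c1 LD2_c10 LD3_c41) Lrfl Lrfl
theorem f100695 : Led Lsl_ft (LP (LK LD1_c2 LD2_c26 LD3_c50)) = (LP (LK LD1_c1 LD2_c11 LD3_c6)) :=
  Lre_f IH (LK LD1_c2 LD2_c26 LD3_c50) (LK LD1_c1 LD2_c11 LD3_c6) Lrfl Lrfl
theorem f100595 : Led Lsl_dt (LP (LK LD1_c1 LD2_c27 LD3_c40)) = (LP (LK LD1_c0 LD2_c40 LD3_c33)) :=
  Lre_d IH (LK LD1_c1 LD2_c27 LD3_c40) (LK LD1_c0 LD2_c40 LD3_c33) Lrfl Lrfl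
theorem f100596 : Led Lsl_at (LP (LK LD1_c1 LD2_c11 LD3_c6)) = (LP (LK LD1_c1 LD2_c27 LD3_c40)) :=
  Lgr Lrot51 (Lpe (f20294 IH) (Lpr_af (f100582 IH) (Lpe (f100595 IH) (Lpn (LP (LK LD1_c1 LD2_c27 LD3_c40))))))
theorem f100627 : Led Lsl_ct (LP (LK LD1_c3 LD2_c3 LD3_c32)) = (LP (LK LD1_c1 LD2_c27 LD3_c40)) :=
  Lre_c IH (LK LD1_c3 LD2_c3 LD3_c32) (LK LD1_c1 LD2_c27 LD3_c40) Lrfl Lrfl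
theorem f100696 : Led Lsl_dt (LP (LK LD1_c4 LD2_c57 LD3_c61)) = (LP (LK LD1_c3 LD2_c3 LD3_c32)) :=
  Lgr Lrot120 (Lpe (f100683 IH) (Lpe (f100682 IH) (Lpe (f100681 IH) (Lpr_df (f100675 IH) (Lpe (f100672 IH) (Lpe (f100684 IH) (Lpr_ft (f100695 IH) (Lpr_at (f100596 IH) (Lpe (f100627 IH) (Lpn (LP (LK LD1_c3 LD2_c3 LD3_c32))))))))))))
theorem f100708 : Led Lsl_ft (LP (LK LD1_c4 LD2_c57 LD3_c61)) = (LP (LK LD1_c2 LD2_c27 LD3_c58)) :=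
  Lre_f IH (LK LD1_c4 LD2_c57 LD3_c61) (LK LD1_c2 LD2_c27 LD3_c58) Lrfl Lrfl
theorem f100644 : Led Lsl_ct (LP (LK LD1_c0 LD2_c40 LD3_c33)) = (LP (LK LD1_c0 LD2_c18 LD3_c10)) :=
  Lre_c IH (LK LD1_c0 LD2_c40 LD3_c33) (LK LD1_c0 LD2_c18 LD3_c10) Lrfl Lrfl
theorem f100592 : Led Lsl_ct (LP (LK LD1_c0 LD2_c18 LD3_c10)) = (LP (LK LD1_c0 LD2_c40 LD3_c33)) :=
  Lre_c IH (LK LD1_c0 LD2_c18 LD3_c10) (LK LD1_c0 LD2_c40 LD3_c33) Lrfl Lrfl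
theorem f100593 : Led Lsl_at (LP (LK LD1_c0 LD2_c14 LD3_c49)) = (LP (LK LD1_c0 LD2_c18 LD3_c10)) :=
  Lgr Lrot107 (Lpe (f26035 IH) (Lpr_af (f100582 IH) (Lpe (f100592 IH) (Lpn (LP (LK LD1_c0 LD2_c18 LD3_c10))))))
theorem f100645 : Led Lsl_dt (LP (LK LD1_c0 LD2_c18 LD3_c10)) = (LP (LK LD1_c0 LD2_c18 LD3_c10)) :=
  Lgr Lrot44 (Lpe (f100593 IH) (Lpe (f9361 IH) (Lpr_af (f100635 IH) (Lpn (LP (LK LD1_c0 LD2_c18 LD3_c10))))))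
theorem f59576 : Led Lsl_dt (LP (LK LD1_c0 LD2_c40 LD3_c33)) = (LP (LK LD1_c1 LD2_c27 LD3_c40)) :=
  Lre_d IH (LK LD1_c0 LD2_c40 LD3_c33) (LK LD1_c1 LD2_c27 LD3_c40) Lrfl Lrfl
theorem f100690 : Led Lsl_ct (LP (LK LD1_c1 LD2_c27 LD3_c40)) = (LP (LK LD1_c3 LD2_c3 LD3_c32)) :=
  Lre_c IH (LK LD1_c1 LD2_c27 LD3_c40) (LK LD1_c3 LD2_c3 LD3_c32) Lrfl Lrfl
theorem f100709 : Led Lsl_at (LP (LK LD1_c2 LD2_c27 LD3_c58)) = (LP (LK LD1_c3 LD2_c3 LD3_c32)) :=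
  Lgr Lrot33 (Lpe (f100708 IH) (Lpr_dt (f100696 IH) (Lpr_ct (f100627 IH) (Lpr_dt (f100595 IH) (Lpr_ct (f100644 IH) (Lpr_dt (f100645 IH) (Lpr_ct (f100592 IH) (Lpr_dt (f59576 IH) (Lpr_ct (f100690 IH) (Lpn (LP (LK LD1_c3 LD2_c3 LD3_c32))))))))))))
theorem f73937 : Led Lsl_et (LP (LK LD1_c5 LD2_c0 LD3_c23)) = (LP (LK LD1_c2 LD2_c27 LD3_c58)) :=
  Lre_e IH (LK LD1_c5 LD2_c0 LD3_c23) (LK LD1_c2 LD2_c27 LD3_c58) Lrfl Lrfl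
theorem f73767 : Led Lsl_at (LP (LK LD1_c3 LD2_c24 LD3_c9)) = (LP (LK LD1_c5 LD2_c0 LD3_c23)) :=
  Lre_a IH (LK LD1_c3 LD2_c24 LD3_c9) (LK LD1_c5 LD2_c0 LD3_c23) Lrfl Lrfl
theorem f100720 : Led Lsl_ef (LP (LK LD1_c3 LD2_c24 LD3_c9)) = (LP (LK LD1_c3 LD2_c3 LD3_c32)) :=
  Lgr Lrot20 (Lpr_at (f73767 IH) (Lpr_et (f73937 IH) (Lpr_at (f100709 IH) (Lpn (LP (LK LD1_c3 LD2_c3 LD3_c32))))))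
theorem f100730 : Led Lsl_et (LP (LK LD1_c3 LD2_c24 LD3_c9)) = (LP (LK LD1_c3 LD2_c3 LD3_c32)) :=
  Lgr Lrot87 (Lpr_ef (f100720 IH) (Lpn (LP (LK LD1_c3 LD2_c3 LD3_c32))))
theorem f73686 : Led Lsl_et (LP (LK LD1_c13 LD2_c2 LD3_c30)) = (LP (LK LD1_c6 LD2_c51 LD3_c18)) :=
  Lre_e IH (LK LD1_c13 LD2_c2 LD3_c30) (LK LD1_c6 LD2_c51 LD3_c18) Lrfl Lrfl
theorem f72514 : Led Lsl_ct (LP (LK LD1_c4 LD2_c57 LD3_c61)) = (LP (LK LD1_c2 LD2_c26 LD3_c50)) :=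
  Lre_c IH (LK LD1_c4 LD2_c57 LD3_c61) (LK LD1_c2 LD2_c26 LD3_c50) Lrfl Lrfl
theorem f100691 : Led Lsl_dt (LP (LK LD1_c3 LD2_c3 LD3_c32)) = (LP (LK LD1_c4 LD2_c57 LD3_c61)) :=
  Lgr Lrot32 (Lpe (f100690 IH) (Lpe (f59576 IH) (Lpr_ft (f100689 IH) (Lpe (f100673 IH) (Lpe (f100681 IH) (Lpr_df (f100675 IH) (Lpe (f100672 IH) (Lpe (f100684 IH) (Lpe (f72514 IH) (Lpn (LP (LK LD1_c4 LD2_c57 LD3_c61))))))))))))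
theorem f100714 : Led Lsl_et (LP (LK LD1_c4 LD2_c57 LD3_c61)) = (LP (LK LD1_c9 LD2_c46 LD3_c53)) :=
  Lre_e IH (LK LD1_c4 LD2_c57 LD3_c61) (LK LD1_c9 LD2_c46 LD3_c53) Lrfl Lrfl
theorem f100738 : Led Lsl_df (LP (LK LD1_c13 LD2_c2 LD3_c30)) = (LP (LK LD1_c9 LD2_c46 LD3_c53)) :=
  Lgr Lrot70 (Lpr_et (f73686 IH) (Lpr_dt (K2.f73695 IH) (Lpr_et (f100730 IH) (Lpr_dt (f100691 IH) (Lpr_et (f100714 IH) (Lpn (LP (LK LD1_c9 LD2_c46 LD3_c53))))))))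
theorem f100743 : Led Lsl_bt (LP (LK LD1_c13 LD2_c2 LD3_c30)) = (LP (LK LD1_c22 LD2_c12 LD3_c5)) :=
  Lre_b IH (LK LD1_c13 LD2_c2 LD3_c30) (LK LD1_c22 LD2_c12 LD3_c5) Lrfl Lrfl
theorem f100744 : Led Lsl_bt (LP (LK LD1_c17 LD2_c56 LD3_c52)) = (LP (LK LD1_c9 LD2_c46 LD3_c53)) :=
  Lre_b IH (LK LD1_c17 LD2_c56 LD3_c52) (LK LD1_c9 LD2_c46 LD3_c53) Lrfl Lrfl
theorem f100745 : Led Lsl_dt (LP (LK LD1_c22 LD2_c12 LD3_c5)) = (LP (LK LD1_c17 LD2_c56 LD3_c52)) :=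
  Lgr Lrot79 (Lpe (f100743 IH) (Lpr_df (f100738 IH) (Lpe (f100744 IH) (Lpn (LP (LK LD1_c17 LD2_c56 LD3_c52))))))
theorem f73712 : Led Lsl_et (LP (LK LD1_c13 LD2_c2 LD3_c29)) = (LP (LK LD1_c22 LD2_c12 LD3_c5)) :=
  Lre_e IH (LK LD1_c13 LD2_c2 LD3_c29) (LK LD1_c22 LD2_c12 LD3_c5) Lrfl Lrfl
theorem f73727 : Led Lsl_dt (LP (LK LD1_c6 LD2_c51 LD3_c17)) = (LP (LK LD1_c13 LD2_c2 LD3_c29)) :=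
  Lre_d IH (LK LD1_c6 LD2_c51 LD3_c17) (LK LD1_c13 LD2_c2 LD3_c29) Lrfl Lrfl
theorem f100733 : Led Lsl_bt (LP (LK LD1_c6 LD2_c51 LD3_c17)) = (LP (LK LD1_c3 LD2_c24 LD3_c9)) :=
  Lre_b IH (LK LD1_c6 LD2_c51 LD3_c17) (LK LD1_c3 LD2_c24 LD3_c9) Lrfl Lrfl
theorem f100704 : Led Lsl_bt (LP (LK LD1_c3 LD2_c3 LD3_c32)) = (LP (LK LD1_c6 LD2_c13 LD3_c29)) :=
  Lre_b IH (LK LD1_c3 LD2_c3 LD3_c32) (LK LD1_c6 LD2_c13 LD3_c29) Lrfl Lrfl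
theorem f100734 : Led Lsl_ef (LP (LK LD1_c6 LD2_c51 LD3_c17)) = (LP (LK LD1_c6 LD2_c13 LD3_c29)) :=
  Lgr Lrot29 (Lpr_bt (f100733 IH) (Lpr_et (f100730 IH) (Lpr_bt (f100704 IH) (Lpn (LP (LK LD1_c6 LD2_c13 LD3_c29))))))
theorem f100751 : Led Lsl_et (LP (LK LD1_c17 LD2_c56 LD3_c52)) = (LP (LK LD1_c9 LD2_c46 LD3_c54)) :=
  Lre_e IH (LK LD1_c17 LD2_c56 LD3_c52) (LK LD1_c9 LD2_c46 LD3_c54) Lrfl Lrfl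
theorem f100752 : Led Lsl_df (LP (LK LD1_c6 LD2_c13 LD3_c29)) = (LP (LK LD1_c9 LD2_c46 LD3_c54)) :=
  Lgr Lrot70 (Lpe (f100734 IH) (Lpr_dt (f73727 IH) (Lpr_et (f73712 IH) (Lpr_dt (f100745 IH) (Lpr_et (f100751 IH) (Lpn (LP (LK LD1_c9 LD2_c46 LD3_c54))))))))
theorem f100766 : Led Lsl_ft (LP (LK LD1_c5 LD2_c0 LD3_c27)) = (LP (LK LD1_c9 LD2_c46 LD3_c54)) :=
  Lre_f IH (LK LD1_c5 LD2_c0 LD3_c27) (LK LD1_c9 LD2_c46 LD3_c54) Lrfl Lrfl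
theorem f100767 : Led Lsl_dt (LP (LK LD1_c9 LD2_c51 LD3_c18)) = (LP (LK LD1_c5 LD2_c0 LD3_c27)) :=
  Lre_d IH (LK LD1_c9 LD2_c51 LD3_c18) (LK LD1_c5 LD2_c0 LD3_c27) Lrfl Lrfl
theorem f100768 : Led Lsl_ft (LP (LK LD1_c6 LD2_c13 LD3_c29)) = (LP (LK LD1_c9 LD2_c51 LD3_c18)) :=
  Lgr Lrot54 (Lpr_df (f100752 IH) (Lpe (f100766 IH) (Lpe (f100767 IH) (Lpn (LP (LK LD1_c9 LD2_c51 LD3_c18))))))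
theorem f100777 : Led Lsl_ct (LP (LK LD1_c12 LD2_c5 LD3_c43)) = (LP (LK LD1_c6 LD2_c13 LD3_c29)) :=
  Lre_c IH (LK LD1_c12 LD2_c5 LD3_c43) (LK LD1_c6 LD2_c13 LD3_c29) Lrfl Lrfl
theorem f100609 : Led Lsl_ct (LP (LK LD1_c9 LD2_c51 LD3_c18)) = (LP (LK LD1_c18 LD2_c2 LD3_c32)) :=
  Lre_c IH (LK LD1_c9 LD2_c51 LD3_c18) (LK LD1_c18 LD2_c2 LD3_c32) Lrfl Lrfl
theorem f100790 : Led Lsl_ff (LP (LK LD1_c12 LD2_c5 LD3_c43)) = (LP (LK LD1_c18 LD2_c2 LD3_c32)) :=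
  Lgr Lrot23 (Lpr_ct (f100777 IH) (Lpr_ft (f100768 IH) (Lpr_ct (f100609 IH) (Lpn (LP (LK LD1_c18 LD2_c2 LD3_c32))))))
theorem f100782 : Led Lsl_bt (LP (LK LD1_c12 LD2_c5 LD3_c43)) = (LP (LK LD1_c6 LD2_c13 LD3_c27)) :=
  Lre_b IH (LK LD1_c12 LD2_c5 LD3_c43) (LK LD1_c6 LD2_c13 LD3_c27) Lrfl Lrfl
theorem f100893 : Led Lsl_ft (LP (LK LD1_c6 LD2_c13 LD3_c27)) = (LP (LK LD1_c12 LD2_c5 LD3_c45)) :=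
  Lre_f IH (LK LD1_c6 LD2_c13 LD3_c27) (LK LD1_c12 LD2_c5 LD3_c45) Lrfl Lrfl
theorem f100894 : Led Lsl_bt (LP (LK LD1_c12 LD2_c5 LD3_c45)) = (LP (LK LD1_c18 LD2_c2 LD3_c32)) :=
  Lgr Lrot35 (Lpe (f100893 IH) (Lpe (f100782 IH) (Lpr_ff (f100790 IH) (Lpn (LP (LK LD1_c18 LD2_c2 LD3_c32))))))
theorem f100901 : Led Lsl_et (LP (LK LD1_c21 LD2_c11 LD3_c33)) = (LP (LK LD1_c12 LD2_c5 LD3_c45)) :=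
  Lre_e IH (LK LD1_c21 LD2_c11 LD3_c33) (LK LD1_c12 LD2_c5 LD3_c45) Lrfl Lrfl
theorem f100834 : Led Lsl_et (LP (LK LD1_c18 LD2_c2 LD3_c32)) = (LP (LK LD1_c27 LD2_c44 LD3_c21)) :=
  Lre_e IH (LK LD1_c18 LD2_c2 LD3_c32) (LK LD1_c27 LD2_c44 LD3_c21) Lrfl Lrfl
theorem f100902 : Led Lsl_bf (LP (LK LD1_c21 LD2_c11 LD3_c33)) = (LP (LK LD1_c27 LD2_c44 LD3_c21)) :=
  Lgr Lrot96 (Lpr_et (f100901 IH) (Lpr_bt (f100894 IH) (Lpr_et (f100834 IH) (Lpn (LP (LK LD1_c27 LD2_c44 LD3_c21))))))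
theorem f100907 : Led Lsl_ct (LP (LK LD1_c21 LD2_c11 LD3_c33)) = (LP (LK LD1_c12 LD2_c5 LD3_c46)) :=
  Lre_c IH (LK LD1_c21 LD2_c11 LD3_c33) (LK LD1_c12 LD2_c5 LD3_c46) Lrfl Lrfl
theorem f100518 : Led Lsl_bt (LP (LK LD1_c12 LD2_c5 LD3_c46)) = (LP (LK LD1_c6 LD2_c13 LD3_c30)) :=
  Lre_b IH (LK LD1_c12 LD2_c5 LD3_c46) (LK LD1_c6 LD2_c13 LD3_c30) Lrfl Lrfl
theorem f100908 : Led Lsl_ct (LP (LK LD1_c18 LD2_c2 LD3_c33)) = (LP (LK LD1_c27 LD2_c44 LD3_c21)) :=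
  Lre_c IH (LK LD1_c18 LD2_c2 LD3_c33) (LK LD1_c27 LD2_c44 LD3_c21) Lrfl Lrfl
theorem f100909 : Led Lsl_bt (LP (LK LD1_c9 LD2_c51 LD3_c19)) = (LP (LK LD1_c18 LD2_c2 LD3_c33)) :=
  Lre_b IH (LK LD1_c9 LD2_c51 LD3_c19) (LK LD1_c18 LD2_c2 LD3_c33) Lrfl Lrfl
theorem f100910 : Led Lsl_ct (LP (LK LD1_c6 LD2_c13 LD3_c30)) = (LP (LK LD1_c9 LD2_c51 LD3_c19)) :=
  Lgr Lrot83 (Lpe (f100518 IH) (Lpe (f100907 IH) (Lpr_bf (f100902 IH) (Lpe (f100908 IH) (Lpe (f100909 IH) (Lpn (LP (LK LD1_c9 LD2_c51 LD3_c19))))))))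
theorem f100740 : Led Lsl_at (LP (LK LD1_c13 LD2_c2 LD3_c30)) = (LP (LK LD1_c18 LD2_c2 LD3_c16)) :=
  Lre_a IH (LK LD1_c13 LD2_c2 LD3_c30) (LK LD1_c18 LD2_c2 LD3_c16) Lrfl Lrfl
theorem f73936 : Led Lsl_dt (LP (LK LD1_c18 LD2_c2 LD3_c16)) = (LP (LK LD1_c9 LD2_c51 LD3_c19)) :=
  Lre_d IH (LK LD1_c18 LD2_c2 LD3_c16) (LK LD1_c9 LD2_c51 LD3_c19) Lrfl Lrfl
theorem f100741 : Led Lsl_at (LP (LK LD1_c9 LD2_c51 LD3_c19)) = (LP (LK LD1_c9 LD2_c46 LD3_c53)) :=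
  Lgr Lrot51 (Lpe (f73936 IH) (Lpe (f100740 IH) (Lpr_df (f100738 IH) (Lpn (LP (LK LD1_c9 LD2_c46 LD3_c53))))))
theorem f100913 : Led Lsl_ct (LP (LK LD1_c9 LD2_c46 LD3_c53)) = (LP (LK LD1_c4 LD2_c57 LD3_c60)) :=
  Lre_c IH (LK LD1_c9 LD2_c46 LD3_c53) (LK LD1_c4 LD2_c57 LD3_c60) Lrfl Lrfl
theorem f100914 : Led Lsl_af (LP (LK LD1_c6 LD2_c13 LD3_c30)) = (LP (LK LD1_c4 LD2_c57 LD3_c60)) :=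
  Lgr Lrot68 (Lpr_ct (f100910 IH) (Lpr_at (f100741 IH) (Lpr_ct (f100913 IH) (Lpn (LP (LK LD1_c4 LD2_c57 LD3_c60))))))
theorem f40880 : Led Lsl_dt (LP (LK LD1_c2 LD2_c26 LD3_c49)) = (LP (LK LD1_c4 LD2_c57 LD3_c60)) :=
  Lre_d IH (LK LD1_c2 LD2_c26 LD3_c49) (LK LD1_c4 LD2_c57 LD3_c60) Lrfl Lrfl
theorem f100922 : Led Lsl_dt (LP (LK LD1_c6 LD2_c13 LD3_c30)) = (LP (LK LD1_c3 LD2_c59 LD3_c16)) :=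
  Lgr Lrot44 (Lpr_af (f100914 IH) (Lpe (f40880 IH) (Lpe (K1.f40874 IH) (Lpn (LP (LK LD1_c3 LD2_c59 LD3_c16))))))
theorem f100917 : Led Lsl_et (LP (LK LD1_c3 LD2_c3 LD3_c33)) = (LP (LK LD1_c6 LD2_c13 LD3_c30)) :=
  Lre_e IH (LK LD1_c3 LD2_c3 LD3_c33) (LK LD1_c6 LD2_c13 LD3_c30) Lrfl Lrfl
theorem f100931 : Led Lsl_et (LP (LK LD1_c3 LD2_c59 LD3_c16)) = (LP (LK LD1_c1 LD2_c56 LD3_c21)) :=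
  Lre_e IH (LK LD1_c3 LD2_c59 LD3_c16) (LK LD1_c1 LD2_c56 LD3_c21) Lrfl Lrfl
theorem f100932 : Led Lsl_ef (LP (LK LD1_c1 LD2_c27 LD3_c41)) = (LP (LK LD1_c0 LD2_c54 LD3_c60)) :=
  Lgr Lrot73 (Lpr_dt (f100603 IH) (Lpr_et (f100917 IH) (Lpr_dt (f100922 IH) (Lpr_et (f100931 IH) (Lpr_dt (K1.f40841 IH) (Lpn (LP (LK LD1_c0 LD2_c54 LD3_c60))))))))
theorem f40867 : Led Lsl_ct (LP (LK LD1_c0 LD2_c24 LD3_c54)) = (LP (LK LD1_c0 LD2_c54 LD3_c60)) :=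
  Lre_c IH (LK LD1_c0 LD2_c24 LD3_c54) (LK LD1_c0 LD2_c54 LD3_c60) Lrfl Lrfl
theorem f100940 : Led Lsl_et (LP (LK LD1_c0 LD2_c40 LD3_c36)) = (LP (LK LD1_c0 LD2_c24 LD3_c54)) :=
  Lgr Lrot158 (Lpe (f100618 IH) (Lpr_ef (f100932 IH) (Lpe (f40867 IH) (Lpn (LP (LK LD1_c0 LD2_c24 LD3_c54))))))
theorem f40807 : Led Lsl_et (LP (LK LD1_c0 LD2_c14 LD3_c42)) = (LP (LK LD1_c0 LD2_c32 LD3_c45)) :=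
  Lre_e IH (LK LD1_c0 LD2_c14 LD3_c42) (LK LD1_c0 LD2_c32 LD3_c45) Lrfl Lrfl
theorem f101422 : Led Lsl_af (LP (LK LD1_c0 LD2_c14 LD3_c42)) = (LP (LK LD1_c0 LD2_c24 LD3_c54)) :=
  Lgr Lrot50 (Lpr_et (f40807 IH) (Lpr_at (f100650 IH) (Lpr_et (f100940 IH) (Lpn (LP (LK LD1_c0 LD2_c24 LD3_c54))))))
theorem f100951 : Led Lsl_ft (LP (LK LD1_c0 LD2_c11 LD3_c2)) = (LP (LK LD1_c0 LD2_c24 LD3_c54)) :=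
  Lre_f IH (LK LD1_c0 LD2_c11 LD3_c2) (LK LD1_c0 LD2_c24 LD3_c54) Lrfl Lrfl
theorem f101434 : Led Lsl_gf (LP (LK LD1_c0 LD2_c14 LD3_c42)) = (LP (LK LD1_c0 LD2_c24 LD3_c51)) :=
  Lgr Lrot76 (Lpr_af (f101422 IH) (Lpe (f100951 IH) (Lpr_gt (f6813 IH) (Lpn (LP (LK LD1_c0 LD2_c24 LD3_c51))))))
theorem f40792 : Led Lsl_dt (LP (LK LD1_c0 LD2_c14 LD3_c42)) = (LP (LK LD1_c0 LD2_c6 LD3_c44)) :=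
  Lre_d IH (LK LD1_c0 LD2_c14 LD3_c42) (LK LD1_c0 LD2_c6 LD3_c44) Lrfl Lrfl
theorem f40789 : Led Lsl_gf (LP (LK LD1_c0 LD2_c11 LD3_c1)) = (LP (LK LD1_c0 LD2_c6 LD3_c44)) :=
  Lgr Lrot47 (Lpr_gt (f6795 IH) (Lpr_af (K1.f40767 IH) (Lpe (K1.f40766 IH) (Lpn (LP (LK LD1_c0 LD2_c6 LD3_c44))))))
theorem f6820 : Led Lsl_dt (LP (LK LD1_c0 LD2_c11 LD3_c1)) = (LP (LK LD1_c0 LD2_c24 LD3_c49)) :=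
  Lre_d IH (LK LD1_c0 LD2_c11 LD3_c1) (LK LD1_c0 LD2_c24 LD3_c49) Lrfl Lrfl
theorem f40793 : Led Lsl_ct (LP (LK LD1_c0 LD2_c54 LD3_c54)) = (LP (LK LD1_c0 LD2_c24 LD3_c49)) :=
  Lre_c IH (LK LD1_c0 LD2_c54 LD3_c54) (LK LD1_c0 LD2_c24 LD3_c49) Lrfl Lrfl
theorem f168864 : Led Lsl_dt (LP (LK LD1_c0 LD2_c16 LD3_c34)) = (LP (LK LD1_c0 LD2_c37 LD3_c12)) :=
  Lre_d IH (LK LD1_c0 LD2_c16 LD3_c34) (LK LD1_c0 LD2_c37 LD3_c12) Lrfl Lrfl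
theorem f173364 : Led Lsl_gt (LP (LK LD1_c0 LD2_c37 LD3_c12)) = (LP (LK LD1_c1 LD2_c3 LD3_c51)) :=
  Lre_g IH (LK LD1_c0 LD2_c37 LD3_c12) (LK LD1_c1 LD2_c3 LD3_c51) Lrfl Lrfl
theorem f173365 : Led Lsl_df (LP (LK LD1_c0 LD2_c54 LD3_c54)) = (LP (LK LD1_c1 LD2_c3 LD3_c51)) :=
  Lgr Lrot174 (Lpr_ct (f40793 IH) (Lpe (f6820 IH) (Lpr_gf (f40789 IH) (Lpe (f40792 IH) (Lpr_gf (f101434 IH) (Lpr_ct (f173206 IH) (Lpr_gt (f23960 IH) (Lpr_dt (f168864 IH) (Lpr_gt (f173364 IH) (Lpn (LP (LK LD1_c1 LD2_c3 LD3_c51))))))))))))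
theorem f40791 : Led Lsl_ct (LP (LK LD1_c0 LD2_c24 LD3_c49)) = (LP (LK LD1_c0 LD2_c54 LD3_c54)) :=
  Lre_c IH (LK LD1_c0 LD2_c24 LD3_c49) (LK LD1_c0 LD2_c54 LD3_c54) Lrfl Lrfl
theorem f28344 : Led Lsl_dt (LP (LK LD1_c0 LD2_c32 LD3_c9)) = (LP (LK LD1_c0 LD2_c14 LD3_c23)) :=
  Lre_d IH (LK LD1_c0 LD2_c32 LD3_c9) (LK LD1_c0 LD2_c14 LD3_c23) Lrfl Lrfl
theorem f34777 : Led Lsl_ef (LP (LK LD1_c0 LD2_c7 LD3_c51)) = (LP (LK LD1_c0 LD2_c14 LD3_c25)) :=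
  Lgr Lrot29 (Lpe (K0.f34738 IH) (Lpr_et (K1.f34773 IH) (Lpe (K8.f32008 IH) (Lpn (LP (LK LD1_c0 LD2_c14 LD3_c25))))))
theorem f27241 : Led Lsl_et (LP (LK LD1_c0 LD2_c11 LD3_c2)) = (LP (LK LD1_c0 LD2_c5 LD3_c9)) :=
  Lre_e IH (LK LD1_c0 LD2_c11 LD3_c2) (LK LD1_c0 LD2_c5 LD3_c9) Lrfl Lrfl
theorem f6809 : Led Lsl_dt (LP (LK LD1_c0 LD2_c24 LD3_c49)) = (LP (LK LD1_c0 LD2_c11 LD3_c1)) :=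
  Lre_d IH (LK LD1_c0 LD2_c24 LD3_c49) (LK LD1_c0 LD2_c11 LD3_c1) Lrfl Lrfl
theorem f53317 : Led Lsl_gf (LP (LK LD1_c0 LD2_c24 LD3_c49)) = (LP (LK LD1_c0 LD2_c26 LD3_c49)) :=
  Lgr Lrot138 (Lpr_dt (f6809 IH) (Lpr_gt (f6795 IH) (Lpe (K1.f27242 IH) (Lpr_et (f27241 IH) (Lpe (K1.f37752 IH) (Lpr_ef (f34777 IH) (Lpr_dt (K1.f28315 IH) (Lpr_gt (f28334 IH) (Lpe (f28344 IH) (Lpr_et (f53175 IH) (Lpn (LP (LK LD1_c0 LD2_c26 LD3_c49)))))))))))))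
theorem f28343 : Led Lsl_ct (LP (LK LD1_c0 LD2_c32 LD3_c9)) = (LP (LK LD1_c1 LD2_c9 LD3_c38)) :=
  Lre_c IH (LK LD1_c0 LD2_c32 LD3_c9) (LK LD1_c1 LD2_c9 LD3_c38) Lrfl Lrfl
theorem f53177 : Led Lsl_et (LP (LK LD1_c0 LD2_c14 LD3_c23)) = (LP (LK LD1_c0 LD2_c11 LD3_c52)) :=
  Lgr Lrot87 (Lpr_ef (f53161 IH) (Lpn (LP (LK LD1_c0 LD2_c11 LD3_c52))))
theorem f53311 : Led Lsl_et (LP (LK LD1_c0 LD2_c5 LD3_c27)) = (LP (LK LD1_c0 LD2_c11 LD3_c53)) :=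
  Lre_e IH (LK LD1_c0 LD2_c5 LD3_c27) (LK LD1_c0 LD2_c11 LD3_c53) Lrfl Lrfl
theorem f51589 : Led Lsl_dt (LP (LK LD1_c0 LD2_c11 LD3_c53)) = (LP (LK LD1_c0 LD2_c26 LD3_c49)) :=
  Lre_d IH (LK LD1_c0 LD2_c11 LD3_c53) (LK LD1_c0 LD2_c26 LD3_c49) Lrfl Lrfl
theorem f53312 : Led Lsl_ef (LP (LK LD1_c0 LD2_c32 LD3_c9)) = (LP (LK LD1_c0 LD2_c26 LD3_c49)) :=
  Lgr Lrot73 (Lpr_dt (f28344 IH) (Lpr_et (f53177 IH) (Lpr_dt (f51587 IH) (Lpr_et (f53311 IH) (Lpr_dt (f51589 IH) (Lpn (LP (LK LD1_c0 LD2_c26 LD3_c49))))))))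
theorem f165067 : Led Lsl_ct (LP (LK LD1_c0 LD2_c36 LD3_c16)) = (LP (LK LD1_c0 LD2_c26 LD3_c49)) :=
  Lgr Lrot15 (Lpr_ef (f165062 IH) (Lpe (f28343 IH) (Lpr_ef (f53312 IH) (Lpn (LP (LK LD1_c0 LD2_c26 LD3_c49))))))
theorem f24534 : Led Lsl_dt (LP (LK LD1_c0 LD2_c16 LD3_c9)) = (LP (LK LD1_c0 LD2_c36 LD3_c19)) :=
  Lre_d IH (LK LD1_c0 LD2_c16 LD3_c9) (LK LD1_c0 LD2_c36 LD3_c19) Lrfl Lrfl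
theorem f41002 : Led Lsl_ft (LP (LK LD1_c0 LD2_c54 LD3_c59)) = (LP (LK LD1_c1 LD2_c56 LD3_c21)) :=
  Lre_f IH (LK LD1_c0 LD2_c54 LD3_c59) (LK LD1_c1 LD2_c56 LD3_c21) Lrfl Lrfl
theorem f40186 : Led Lsl_at (LP (LK LD1_c7 LD2_c59 LD3_c8)) = (LP (LK LD1_c3 LD2_c59 LD3_c10)) :=
  Lre_a IH (LK LD1_c7 LD2_c59 LD3_c8) (LK LD1_c3 LD2_c59 LD3_c10) Lrfl Lrfl
theorem f40187 : Led Lsl_bt (LP (LK LD1_c3 LD2_c59 LD3_c10)) = (LP (LK LD1_c1 LD2_c56 LD3_c21)) :=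
  Lre_b IH (LK LD1_c3 LD2_c59 LD3_c10) (LK LD1_c1 LD2_c56 LD3_c21) Lrfl Lrfl
theorem f40188 : Led Lsl_at (LP (LK LD1_c2 LD2_c26 LD3_c42)) = (LP (LK LD1_c4 LD2_c57 LD3_c1)) :=
  Lre_a IH (LK LD1_c2 LD2_c26 LD3_c42) (LK LD1_c4 LD2_c57 LD3_c1) Lrfl Lrfl
theorem f40189 : Led Lsl_bt (LP (LK LD1_c1 LD2_c10 LD3_c40)) = (LP (LK LD1_c2 LD2_c26 LD3_c42)) :=
  Lre_b IH (LK LD1_c1 LD2_c10 LD3_c40) (LK LD1_c2 LD2_c26 LD3_c42) Lrfl Lrfl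
theorem f40190 : Led Lsl_at (LP (LK LD1_c1 LD2_c56 LD3_c21)) = (LP (LK LD1_c1 LD2_c10 LD3_c40)) :=
  Lgr Lrot67 (Lpe (f40187 IH) (Lpe (f40186 IH) (Lpr_bf (K1.f40173 IH) (Lpe (f40188 IH) (Lpe (f40189 IH) (Lpn (LP (LK LD1_c1 LD2_c10 LD3_c40))))))))
theorem f171810 : Led Lsl_gt (LP (LK LD1_c0 LD2_c36 LD3_c19)) = (LP (LK LD1_c1 LD2_c10 LD3_c40)) :=
  Lgr Lrot46 (Lpr_gf (f171769 IH) (Lpr_ft (f41002 IH) (Lpr_at (f40190 IH) (Lpn (LP (LK LD1_c1 LD2_c10 LD3_c40))))))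
theorem f7633 : Led Lsl_gt (LP (LK LD1_c0 LD2_c16 LD3_c3)) = (LP (LK LD1_c0 LD2_c28 LD3_c42)) :=
  Lre_g IH (LK LD1_c0 LD2_c16 LD3_c3) (LK LD1_c0 LD2_c28 LD3_c42) Lrfl Lrfl
theorem f167786 : Led Lsl_ct (LP (LK LD1_c0 LD2_c28 LD3_c42)) = (LP (LK LD1_c1 LD2_c2 LD3_c58)) :=
  Lre_c IH (LK LD1_c0 LD2_c28 LD3_c42) (LK LD1_c1 LD2_c2 LD3_c58) Lrfl Lrfl
theorem f167787 : Led Lsl_gf (LP (LK LD1_c0 LD2_c54 LD3_c47)) = (LP (LK LD1_c1 LD2_c2 LD3_c58)) :=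
  Lgr Lrot104 (Lpr_ct (K1.f40734 IH) (Lpe (K1.f8120 IH) (Lpe (K1.f28390 IH) (Lpe (f6795 IH) (Lpr_cf (f167774 IH) (Lpe (f40823 IH) (Lpe (f7598 IH) (Lpr_gt (f7633 IH) (Lpr_ct (f167786 IH) (Lpn (LP (LK LD1_c1 LD2_c2 LD3_c58))))))))))))
theorem f40769 : Led Lsl_dt (LP (LK LD1_c0 LD2_c54 LD3_c47)) = (LP (LK LD1_c1 LD2_c56 LD3_c7)) :=
  Lre_d IH (LK LD1_c0 LD2_c54 LD3_c47) (LK LD1_c1 LD2_c56 LD3_c7) Lrfl Lrfl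
theorem f20642 : Led Lsl_gt (LP (LK LD1_c0 LD2_c28 LD3_c42)) = (LP (LK LD1_c0 LD2_c12 LD3_c40)) :=
  Lre_g IH (LK LD1_c0 LD2_c28 LD3_c42) (LK LD1_c0 LD2_c12 LD3_c40) Lrfl Lrfl
theorem f8573 : Led Lsl_dt (LP (LK LD1_c0 LD2_c12 LD3_c40)) = (LP (LK LD1_c0 LD2_c5 LD3_c47)) :=
  Lre_d IH (LK LD1_c0 LD2_c12 LD3_c40) (LK LD1_c0 LD2_c5 LD3_c47) Lrfl Lrfl
theorem f20695 : Led Lsl_dt (LP (LK LD1_c0 LD2_c12 LD3_c38)) = (LP (LK LD1_c0 LD2_c28 LD3_c36)) :=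
  Lre_d IH (LK LD1_c0 LD2_c12 LD3_c38) (LK LD1_c0 LD2_c28 LD3_c36) Lrfl Lrfl
theorem f169275 : Led Lsl_ct (LP (LK LD1_c1 LD2_c2 LD3_c45)) = (LP (LK LD1_c0 LD2_c28 LD3_c36)) :=
  Lre_c IH (LK LD1_c1 LD2_c2 LD3_c45) (LK LD1_c0 LD2_c28 LD3_c36) Lrfl Lrfl
theorem f169276 : Led Lsl_dt (LP (LK LD1_c2 LD2_c11 LD3_c34)) = (LP (LK LD1_c1 LD2_c2 LD3_c45)) :=
  Lre_d IH (LK LD1_c2 LD2_c11 LD3_c34) (LK LD1_c1 LD2_c2 LD3_c45) Lrfl Lrfl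
theorem f169277 : Led Lsl_gt (LP (LK LD1_c1 LD2_c56 LD3_c7)) = (LP (LK LD1_c2 LD2_c11 LD3_c34)) :=
  Lgr Lrot49 (Lpe (f40769 IH) (Lpr_gf (f167787 IH) (Lpe (f167786 IH) (Lpr_gt (f20642 IH) (Lpr_dt (f8573 IH) (Lpr_gt (f8579 IH) (Lpr_dt (f20695 IH) (Lpe (f169275 IH) (Lpe (f169276 IH) (Lpn (LP (LK LD1_c2 LD2_c11 LD3_c34))))))))))))
theorem f173382 : Led Lsl_ct (LP (LK LD1_c2 LD2_c11 LD3_c34)) = (LP (LK LD1_c1 LD2_c3 LD3_c51)) :=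
  Lgr Lrot110 (Lpe (f169277 IH) (Lpr_cf (K1.f40737 IH) (Lpe (f171810 IH) (Lpe (f24534 IH) (Lpr_gt (f164710 IH) (Lpr_ct (f165067 IH) (Lpe (f53317 IH) (Lpr_ct (f40791 IH) (Lpr_df (f173365 IH) (Lpn (LP (LK LD1_c1 LD2_c3 LD3_c51))))))))))))
theorem f173397 : Led Lsl_cf (LP (LK LD1_c2 LD2_c11 LD3_c34)) = (LP (LK LD1_c1 LD2_c3 LD3_c51)) :=
  Lgr Lrot11 (Lpr_ct (f173382 IH) (Lpn (LP (LK LD1_c1 LD2_c3 LD3_c51))))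
theorem f40760 : Led Lsl_ct (LP (LK LD1_c1 LD2_c10 LD3_c38)) = (LP (LK LD1_c0 LD2_c32 LD3_c43)) :=
  Lre_c IH (LK LD1_c1 LD2_c10 LD3_c38) (LK LD1_c0 LD2_c32 LD3_c43) Lrfl Lrfl
theorem f40761 : Led Lsl_ft (LP (LK LD1_c1 LD2_c56 LD3_c7)) = (LP (LK LD1_c1 LD2_c10 LD3_c38)) :=
  Lgr Lrot4 (Lpr_cf (K1.f40737 IH) (Lpe (K1.f40759 IH) (Lpe (f40760 IH) (Lpn (LP (LK LD1_c1 LD2_c10 LD3_c38))))))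
theorem f169291 : Led Lsl_gf (LP (LK LD1_c1 LD2_c56 LD3_c19)) = (LP (LK LD1_c2 LD2_c11 LD3_c34)) :=
  Lgr Lrot76 (Lpr_af (K1.f40973 IH) (Lpe (f40761 IH) (Lpr_gt (f169277 IH) (Lpn (LP (LK LD1_c2 LD2_c11 LD3_c34))))))
theorem f28326 : Led Lsl_gt (LP (LK LD1_c0 LD2_c24 LD3_c52)) = (LP (LK LD1_c0 LD2_c11 LD3_c2)) :=
  Lre_g IH (LK LD1_c0 LD2_c24 LD3_c52) (LK LD1_c0 LD2_c11 LD3_c2) Lrfl Lrfl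
theorem f20809 : Led Lsl_gt (LP (LK LD1_c0 LD2_c16 LD3_c34)) = (LP (LK LD1_c0 LD2_c29 LD3_c5)) :=
  Lre_g IH (LK LD1_c0 LD2_c16 LD3_c34) (LK LD1_c0 LD2_c29 LD3_c5) Lrfl Lrfl
theorem f174518 : Led Lsl_cf (LP (LK LD1_c0 LD2_c24 LD3_c52)) = (LP (LK LD1_c0 LD2_c29 LD3_c5)) :=
  Lgr Lrot169 (Lpr_gt (f28326 IH) (Lpr_ct (K1.f28391 IH) (Lpe (K1.f41038 IH) (Lpe (K1.f40982 IH) (Lpr_gf (f169291 IH) (Lpr_cf (f173397 IH) (Lpe (f173364 IH) (Lpe (f168864 IH) (Lpr_gt (f20809 IH) (Lpn (LP (LK LD1_c0 LD2_c29 LD3_c5))))))))))))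
theorem f40818 : Led Lsl_dt (LP (LK LD1_c0 LD2_c11 LD3_c0)) = (LP (LK LD1_c0 LD2_c24 LD3_c46)) :=
  Lre_d IH (LK LD1_c0 LD2_c11 LD3_c0) (LK LD1_c0 LD2_c24 LD3_c46) Lrfl Lrfl
theorem f173180 : Led Lsl_ct (LP (LK LD1_c0 LD2_c24 LD3_c46)) = (LP (LK LD1_c0 LD2_c54 LD3_c49)) :=
  Lre_c IH (LK LD1_c0 LD2_c24 LD3_c46) (LK LD1_c0 LD2_c54 LD3_c49) Lrfl Lrfl
theorem f26792 : Led Lsl_gt (LP (LK LD1_c0 LD2_c29 LD3_c5)) = (LP (LK LD1_c0 LD2_c12 LD3_c51)) :=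
  Lre_g IH (LK LD1_c0 LD2_c29 LD3_c5) (LK LD1_c0 LD2_c12 LD3_c51) Lrfl Lrfl
theorem f174529 : Led Lsl_dt (LP (LK LD1_c0 LD2_c12 LD3_c51)) = (LP (LK LD1_c0 LD2_c29 LD3_c7)) :=
  Lre_d IH (LK LD1_c0 LD2_c12 LD3_c51) (LK LD1_c0 LD2_c29 LD3_c7) Lrfl Lrfl
theorem f174530 : Led Lsl_gt (LP (LK LD1_c0 LD2_c29 LD3_c7)) = (LP (LK LD1_c1 LD2_c3 LD3_c50)) :=
  Lre_g IH (LK LD1_c0 LD2_c29 LD3_c7) (LK LD1_c1 LD2_c3 LD3_c50) Lrfl Lrfl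
theorem f174531 : Led Lsl_df (LP (LK LD1_c0 LD2_c54 LD3_c49)) = (LP (LK LD1_c1 LD2_c3 LD3_c50)) :=
  Lgr Lrot84 (Lpe (f173180 IH) (Lpe (f40818 IH) (Lpe (f27243 IH) (Lpe (K1.f27242 IH) (Lpe (f28326 IH) (Lpr_cf (f174518 IH) (Lpr_gt (f26792 IH) (Lpr_dt (f174529 IH) (Lpr_gt (f174530 IH) (Lpn (LP (LK LD1_c1 LD2_c3 LD3_c50))))))))))))
theorem f174597 : Led Lsl_dt (LP (LK LD1_c0 LD2_c54 LD3_c49)) = (LP (LK LD1_c1 LD2_c3 LD3_c50)) :=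
  Lgr Lrot42 (Lpr_df (f174531 IH) (Lpn (LP (LK LD1_c1 LD2_c3 LD3_c50))))
theorem f8580 : Led Lsl_dt (LP (LK LD1_c0 LD2_c28 LD3_c36)) = (LP (LK LD1_c0 LD2_c12 LD3_c38)) :=
  Lre_d IH (LK LD1_c0 LD2_c28 LD3_c36) (LK LD1_c0 LD2_c12 LD3_c38) Lrfl Lrfl
theorem f173377 : Led Lsl_dt (LP (LK LD1_c0 LD2_c54 LD3_c54)) = (LP (LK LD1_c1 LD2_c3 LD3_c51)) :=
  Lgr Lrot42 (Lpr_df (f173365 IH) (Lpn (LP (LK LD1_c1 LD2_c3 LD3_c51))))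
theorem f8575 : Led Lsl_dt (LP (LK LD1_c0 LD2_c28 LD3_c39)) = (LP (LK LD1_c0 LD2_c12 LD3_c39)) :=
  Lre_d IH (LK LD1_c0 LD2_c28 LD3_c39) (LK LD1_c0 LD2_c12 LD3_c39) Lrfl Lrfl
theorem f167779 : Led Lsl_ct (LP (LK LD1_c1 LD2_c2 LD3_c52)) = (LP (LK LD1_c0 LD2_c28 LD3_c39)) :=
  Lre_c IH (LK LD1_c1 LD2_c2 LD3_c52) (LK LD1_c0 LD2_c28 LD3_c39) Lrfl Lrfl
theorem f167783 : Led Lsl_dt (LP (LK LD1_c2 LD2_c11 LD3_c44)) = (LP (LK LD1_c1 LD2_c2 LD3_c52)) :=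
  Lre_d IH (LK LD1_c2 LD2_c11 LD3_c44) (LK LD1_c1 LD2_c2 LD3_c52) Lrfl Lrfl
theorem f174617 : Led Lsl_cf (LP (LK LD1_c2 LD2_c11 LD3_c44)) = (LP (LK LD1_c1 LD2_c3 LD3_c50)) :=
  Lgr Lrot55 (Lpr_dt (f167783 IH) (Lpr_ct (f167779 IH) (Lpr_dt (f8575 IH) (Lpe (f167774 IH) (Lpr_dt (f6820 IH) (Lpr_ct (f40791 IH) (Lpr_dt (f173377 IH) (Lpe (f173397 IH) (Lpr_dt (f169276 IH) (Lpr_ct (f169275 IH) (Lpr_dt (f8580 IH) (Lpe (f173165 IH) (Lpr_dt (f40818 IH) (Lpr_ct (f173180 IH) (Lpr_dt (f174597 IH) (Lpn (LP (LK LD1_c1 LD2_c3 LD3_c50))))))))))))))))))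
theorem f20646 : Led Lsl_gt (LP (LK LD1_c0 LD2_c12 LD3_c51)) = (LP (LK LD1_c0 LD2_c29 LD3_c4)) :=
  Lre_g IH (LK LD1_c0 LD2_c12 LD3_c51) (LK LD1_c0 LD2_c29 LD3_c4) Lrfl Lrfl
theorem f173360 : Led Lsl_cf (LP (LK LD1_c0 LD2_c24 LD3_c51)) = (LP (LK LD1_c0 LD2_c29 LD3_c4)) :=
  Lgr Lrot11 (Lpr_ct (f173206 IH) (Lpn (LP (LK LD1_c0 LD2_c29 LD3_c4))))
theorem f20816 : Led Lsl_dt (LP (LK LD1_c1 LD2_c10 LD3_c40)) = (LP (LK LD1_c0 LD2_c32 LD3_c44)) :=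
  Lre_d IH (LK LD1_c1 LD2_c10 LD3_c40) (LK LD1_c0 LD2_c32 LD3_c44) Lrfl Lrfl
theorem f40745 : Led Lsl_ct (LP (LK LD1_c1 LD2_c56 LD3_c7)) = (LP (LK LD1_c1 LD2_c10 LD3_c40)) :=
  Lgr Lrot59 (Lpr_cf (K1.f40737 IH) (Lpn (LP (LK LD1_c1 LD2_c10 LD3_c40))))
theorem f174642 : Led Lsl_gt (LP (LK LD1_c2 LD2_c11 LD3_c44)) = (LP (LK LD1_c1 LD2_c56 LD3_c7)) :=
  Lgr Lrot150 (Lpr_cf (f174617 IH) (Lpe (f174530 IH) (Lpe (f174529 IH) (Lpr_gt (f20646 IH) (Lpe (f173360 IH) (Lpe (f101434 IH) (Lpr_ct (K1.f40748 IH) (Lpe (f20816 IH) (Lpe (f40745 IH) (Lpn (LP (LK LD1_c1 LD2_c56 LD3_c7))))))))))))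
theorem f40772 : Led Lsl_gt (LP (LK LD1_c2 LD2_c26 LD3_c42)) = (LP (LK LD1_c4 LD2_c57 LD3_c27)) :=
  Lre_g IH (LK LD1_c2 LD2_c26 LD3_c42) (LK LD1_c4 LD2_c57 LD3_c27) Lrfl Lrfl
theorem f174601 : Led Lsl_bt (LP (LK LD1_c1 LD2_c3 LD3_c48)) = (LP (LK LD1_c0 LD2_c29 LD3_c7)) :=
  Lre_b IH (LK LD1_c1 LD2_c3 LD3_c48) (LK LD1_c0 LD2_c29 LD3_c7) Lrfl Lrfl
theorem f174644 : Led Lsl_ct (LP (LK LD1_c1 LD2_c3 LD3_c48)) = (LP (LK LD1_c2 LD2_c13 LD3_c35)) :=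
  Lre_c IH (LK LD1_c1 LD2_c3 LD3_c48) (LK LD1_c2 LD2_c13 LD3_c35) Lrfl Lrfl
theorem f174645 : Led Lsl_gt (LP (LK LD1_c4 LD2_c33 LD3_c16)) = (LP (LK LD1_c2 LD2_c13 LD3_c35)) :=
  Lre_g IH (LK LD1_c4 LD2_c33 LD3_c16) (LK LD1_c2 LD2_c13 LD3_c35) Lrfl Lrfl
theorem f174646 : Led Lsl_ct (LP (LK LD1_c9 LD2_c3 LD3_c58)) = (LP (LK LD1_c4 LD2_c33 LD3_c16)) :=
  Lre_c IH (LK LD1_c9 LD2_c3 LD3_c58) (LK LD1_c4 LD2_c33 LD3_c16) Lrfl Lrfl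
theorem f174647 : Led Lsl_bf (LP (LK LD1_c4 LD2_c57 LD3_c27)) = (LP (LK LD1_c9 LD2_c3 LD3_c58)) :=
  Lgr Lrot34 (Lpe (f40772 IH) (Lpe (f40189 IH) (Lpe (K1.f40737 IH) (Lpe (f174642 IH) (Lpr_cf (f174617 IH) (Lpe (f174530 IH) (Lpe (f174601 IH) (Lpr_ct (f174644 IH) (Lpe (f174645 IH) (Lpe (f174646 IH) (Lpn (LP (LK LD1_c9 LD2_c3 LD3_c58)))))))))))))
theorem f174655 : Led Lsl_gt (LP (LK LD1_c4 LD2_c57 LD3_c27)) = (LP (LK LD1_c2 LD2_c26 LD3_c37)) :=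
  Lre_g IH (LK LD1_c4 LD2_c57 LD3_c27) (LK LD1_c2 LD2_c26 LD3_c37) Lrfl Lrfl
theorem f40146 : Led Lsl_dt (LP (LK LD1_c1 LD2_c56 LD3_c16)) = (LP (LK LD1_c3 LD2_c59 LD3_c5)) :=
  Lre_d IH (LK LD1_c1 LD2_c56 LD3_c16) (LK LD1_c3 LD2_c59 LD3_c5) Lrfl Lrfl
theorem f40147 : Led Lsl_dt (LP (LK LD1_c2 LD2_c26 LD3_c37)) = (LP (LK LD1_c1 LD2_c10 LD3_c35)) :=
  Lre_d IH (LK LD1_c2 LD2_c26 LD3_c37) (LK LD1_c1 LD2_c10 LD3_c35) Lrfl Lrfl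
theorem f40148 : Led Lsl_bt (LP (LK LD1_c3 LD2_c59 LD3_c5)) = (LP (LK LD1_c2 LD2_c26 LD3_c37)) :=
  Lgr Lrot95 (Lpe (f40146 IH) (Lpr_bf (K1.f40116 IH) (Lpe (f40147 IH) (Lpn (LP (LK LD1_c2 LD2_c26 LD3_c37))))))
theorem f137994 : Led Lsl_ct (LP (LK LD1_c3 LD2_c59 LD3_c5)) = (LP (LK LD1_c7 LD2_c59 LD3_c31)) :=
  Lre_c IH (LK LD1_c3 LD2_c59 LD3_c5) (LK LD1_c7 LD2_c59 LD3_c31) Lrfl Lrfl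
theorem f174659 : Led Lsl_gt (LP (LK LD1_c9 LD2_c2 LD3_c58)) = (LP (LK LD1_c4 LD2_c33 LD3_c16)) :=
  Lre_g IH (LK LD1_c9 LD2_c2 LD3_c58) (LK LD1_c4 LD2_c33 LD3_c16) Lrfl Lrfl
theorem f174660 : Led Lsl_ct (LP (LK LD1_c4 LD2_c32 LD3_c48)) = (LP (LK LD1_c9 LD2_c2 LD3_c58)) :=
  Lre_c IH (LK LD1_c4 LD2_c32 LD3_c48) (LK LD1_c9 LD2_c2 LD3_c58) Lrfl Lrfl
theorem f174665 : Led Lsl_gt (LP (LK LD1_c2 LD2_c13 LD3_c33)) = (LP (LK LD1_c4 LD2_c32 LD3_c48)) :=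
  Lre_g IH (LK LD1_c2 LD2_c13 LD3_c33) (LK LD1_c4 LD2_c32 LD3_c48) Lrfl Lrfl
theorem f174666 : Led Lsl_bt (LP (LK LD1_c4 LD2_c33 LD3_c10)) = (LP (LK LD1_c2 LD2_c13 LD3_c33)) :=
  Lre_b IH (LK LD1_c4 LD2_c33 LD3_c10) (LK LD1_c2 LD2_c13 LD3_c33) Lrfl Lrfl
theorem f174667 : Led Lsl_ct (LP (LK LD1_c4 LD2_c33 LD3_c10)) = (LP (LK LD1_c9 LD2_c3 LD3_c38)) :=
  Lre_c IH (LK LD1_c4 LD2_c33 LD3_c10) (LK LD1_c9 LD2_c3 LD3_c38) Lrfl Lrfl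
theorem f174668 : Led Lsl_gt (LP (LK LD1_c7 LD2_c59 LD3_c31)) = (LP (LK LD1_c9 LD2_c3 LD3_c38)) :=
  Lgr Lrot65 (Lpe (f137994 IH) (Lpr_bt (f40148 IH) (Lpe (f174655 IH) (Lpr_bf (f174647 IH) (Lpr_ct (f174646 IH) (Lpe (f174659 IH) (Lpe (f174660 IH) (Lpe (f174665 IH) (Lpe (f174666 IH) (Lpr_ct (f174667 IH) (Lpn (LP (LK LD1_c9 LD2_c3 LD3_c38)))))))))))))
theorem f174670 : Led Lsl_ft (LP (LK LD1_c7 LD2_c59 LD3_c31)) = (LP (LK LD1_c15 LD2_c3 LD3_c49)) :=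
  Lre_f IH (LK LD1_c7 LD2_c59 LD3_c31) (LK LD1_c15 LD2_c3 LD3_c49) Lrfl Lrfl
theorem f174671 : Led Lsl_at (LP (LK LD1_c15 LD2_c3 LD3_c49)) = (LP (LK LD1_c7 LD2_c59 LD3_c41)) :=
  Lre_a IH (LK LD1_c15 LD2_c3 LD3_c49) (LK LD1_c7 LD2_c59 LD3_c41) Lrfl Lrfl
theorem f174672 : Led Lsl_gf (LP (LK LD1_c7 LD2_c59 LD3_c41)) = (LP (LK LD1_c9 LD2_c3 LD3_c38)) :=
  Lgr Lrot76 (Lpe (f174671 IH) (Lpe (f174670 IH) (Lpr_gt (f174668 IH) (Lpn (LP (LK LD1_c9 LD2_c3 LD3_c38))))))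
theorem f40849 : Led Lsl_ct (LP (LK LD1_c3 LD2_c59 LD3_c10)) = (LP (LK LD1_c7 LD2_c59 LD3_c41)) :=
  Lre_c IH (LK LD1_c3 LD2_c59 LD3_c10) (LK LD1_c7 LD2_c59 LD3_c41) Lrfl Lrfl
theorem f167835 : Led Lsl_gf (LP (LK LD1_c0 LD2_c24 LD3_c45)) = (LP (LK LD1_c0 LD2_c12 LD3_c43)) :=
  Lgr Lrot76 (Lpr_af (K1.f40813 IH) (Lpe (K1.f40838 IH) (Lpr_gt (f167832 IH) (Lpn (LP (LK LD1_c0 LD2_c12 LD3_c43))))))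
theorem f41077 : Led Lsl_dt (LP (LK LD1_c0 LD2_c11 LD3_c3)) = (LP (LK LD1_c0 LD2_c24 LD3_c54)) :=
  Lre_d IH (LK LD1_c0 LD2_c11 LD3_c3) (LK LD1_c0 LD2_c24 LD3_c54) Lrfl Lrfl
theorem f20811 : Led Lsl_ct (LP (LK LD1_c0 LD2_c5 LD3_c48)) = (LP (LK LD1_c0 LD2_c12 LD3_c43)) :=
  Lre_c IH (LK LD1_c0 LD2_c5 LD3_c48) (LK LD1_c0 LD2_c12 LD3_c43) Lrfl Lrfl
theorem f29625 : Led Lsl_ct (LP (LK LD1_c0 LD2_c12 LD3_c49)) = (LP (LK LD1_c0 LD2_c28 LD3_c61)) :=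
  Lre_c IH (LK LD1_c0 LD2_c12 LD3_c49) (LK LD1_c0 LD2_c28 LD3_c61) Lrfl Lrfl
theorem f168826 : Led Lsl_gf (LP (LK LD1_c0 LD2_c54 LD3_c60)) = (LP (LK LD1_c0 LD2_c28 LD3_c61)) :=
  Lgr Lrot104 (Lpr_ct (K1.f40840 IH) (Lpe (f41077 IH) (Lpe (K1.f40812 IH) (Lpr_gf (f167835 IH) (Lpe (f20811 IH) (Lpe (f6854 IH) (Lpe (K0.f20473 IH) (Lpr_gt (f20212 IH) (Lpr_ct (f29625 IH) (Lpn (LP (LK LD1_c0 LD2_c28 LD3_c61))))))))))))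
theorem f40866 : Led Lsl_dt (LP (LK LD1_c0 LD2_c54 LD3_c60)) = (LP (LK LD1_c1 LD2_c56 LD3_c21)) :=
  Lre_d IH (LK LD1_c0 LD2_c54 LD3_c60) (LK LD1_c1 LD2_c56 LD3_c21) Lrfl Lrfl
theorem f20593 : Led Lsl_dt (LP (LK LD1_c0 LD2_c5 LD3_c49)) = (LP (LK LD1_c0 LD2_c12 LD3_c47)) :=
  Lre_d IH (LK LD1_c0 LD2_c5 LD3_c49) (LK LD1_c0 LD2_c12 LD3_c47) Lrfl Lrfl
theorem f20590 : Led Lsl_ct (LP (LK LD1_c0 LD2_c28 LD3_c58)) = (LP (LK LD1_c0 LD2_c12 LD3_c47)) :=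
  Lre_c IH (LK LD1_c0 LD2_c28 LD3_c58) (LK LD1_c0 LD2_c12 LD3_c47) Lrfl Lrfl
theorem f168831 : Led Lsl_dt (LP (LK LD1_c1 LD2_c3 LD3_c26)) = (LP (LK LD1_c0 LD2_c28 LD3_c58)) :=
  Lre_d IH (LK LD1_c1 LD2_c3 LD3_c26) (LK LD1_c0 LD2_c28 LD3_c58) Lrfl Lrfl
theorem f168832 : Led Lsl_gt (LP (LK LD1_c1 LD2_c56 LD3_c21)) = (LP (LK LD1_c1 LD2_c3 LD3_c26)) :=
  Lgr Lrot49 (Lpe (f40866 IH) (Lpr_gf (f168826 IH) (Lpe (f29625 IH) (Lpr_gt (f20230 IH) (Lpr_dt (K0.f20231 IH) (Lpr_gt (K0.f20232 IH) (Lpr_dt (f20593 IH) (Lpe (f20590 IH) (Lpe (f168831 IH) (Lpn (LP (LK LD1_c1 LD2_c3 LD3_c26))))))))))))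
theorem f174733 : Led Lsl_gt (LP (LK LD1_c1 LD2_c3 LD3_c48)) = (LP (LK LD1_c2 LD2_c13 LD3_c33)) :=
  Lre_g IH (LK LD1_c1 LD2_c3 LD3_c48) (LK LD1_c2 LD2_c13 LD3_c33) Lrfl Lrfl
theorem f174734 : Led Lsl_bt (LP (LK LD1_c0 LD2_c29 LD3_c7)) = (LP (LK LD1_c1 LD2_c3 LD3_c48)) :=
  Lre_b IH (LK LD1_c0 LD2_c29 LD3_c7) (LK LD1_c1 LD2_c3 LD3_c48) Lrfl Lrfl
theorem f173381 : Led Lsl_ct (LP (LK LD1_c0 LD2_c29 LD3_c7)) = (LP (LK LD1_c1 LD2_c3 LD3_c52)) :=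
  Lre_c IH (LK LD1_c0 LD2_c29 LD3_c7) (LK LD1_c1 LD2_c3 LD3_c52) Lrfl Lrfl
theorem f42263 : Led Lsl_gt (LP (LK LD1_c2 LD2_c12 LD3_c15)) = (LP (LK LD1_c1 LD2_c3 LD3_c52)) :=
  Lre_g IH (LK LD1_c2 LD2_c12 LD3_c15) (LK LD1_c1 LD2_c3 LD3_c52) Lrfl Lrfl
theorem f174735 : Led Lsl_ct (LP (LK LD1_c1 LD2_c3 LD3_c26)) = (LP (LK LD1_c2 LD2_c12 LD3_c15)) :=
  Lgr Lrot91 (Lpe (f168832 IH) (Lpe (f40187 IH) (Lpr_ct (f40849 IH) (Lpr_gf (f174672 IH) (Lpe (f174667 IH) (Lpr_bt (f174666 IH) (Lpe (f174733 IH) (Lpe (f174734 IH) (Lpr_ct (f173381 IH) (Lpe (f42263 IH) (Lpn (LP (LK LD1_c2 LD2_c12 LD3_c15)))))))))))))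
theorem f173419 : Led Lsl_ct (LP (LK LD1_c1 LD2_c3 LD3_c52)) = (LP (LK LD1_c0 LD2_c29 LD3_c7)) :=
  Lre_c IH (LK LD1_c1 LD2_c3 LD3_c52) (LK LD1_c0 LD2_c29 LD3_c7) Lrfl Lrfl
theorem f20645 : Led Lsl_ct (LP (LK LD1_c0 LD2_c5 LD3_c50)) = (LP (LK LD1_c0 LD2_c12 LD3_c51)) :=
  Lre_c IH (LK LD1_c0 LD2_c5 LD3_c50) (LK LD1_c0 LD2_c12 LD3_c51) Lrfl Lrfl
theorem f20643 : Led Lsl_ct (LP (LK LD1_c0 LD2_c29 LD3_c2)) = (LP (LK LD1_c0 LD2_c12 LD3_c50)) :=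
  Lre_c IH (LK LD1_c0 LD2_c29 LD3_c2) (LK LD1_c0 LD2_c12 LD3_c50) Lrfl Lrfl
theorem f174744 : Led Lsl_gt (LP (LK LD1_c0 LD2_c54 LD3_c60)) = (LP (LK LD1_c0 LD2_c29 LD3_c2)) :=
  Lgr Lrot9 (Lpe (K1.f40841 IH) (Lpr_gt (f168832 IH) (Lpr_ct (f174735 IH) (Lpr_gt (f42263 IH) (Lpr_ct (f173419 IH) (Lpe (f174529 IH) (Lpe (f20645 IH) (Lpe (f20624 IH) (Lpe (f20643 IH) (Lpn (LP (LK LD1_c0 LD2_c29 LD3_c2))))))))))))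
theorem f100948 : Led Lsl_ft (LP (LK LD1_c0 LD2_c54 LD3_c60)) = (LP (LK LD1_c0 LD2_c24 LD3_c53)) :=
  Lre_f IH (LK LD1_c0 LD2_c54 LD3_c60) (LK LD1_c0 LD2_c24 LD3_c53) Lrfl Lrfl
theorem f40138 : Led Lsl_at (LP (LK LD1_c1 LD2_c56 LD3_c16)) = (LP (LK LD1_c0 LD2_c54 LD3_c58)) :=
  Lre_a IH (LK LD1_c1 LD2_c56 LD3_c16) (LK LD1_c0 LD2_c54 LD3_c58) Lrfl Lrfl
theorem f40139 : Led Lsl_bt (LP (LK LD1_c0 LD2_c54 LD3_c58)) = (LP (LK LD1_c0 LD2_c24 LD3_c53)) :=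
  Lre_b IH (LK LD1_c0 LD2_c54 LD3_c58) (LK LD1_c0 LD2_c24 LD3_c53) Lrfl Lrfl
theorem f40140 : Led Lsl_at (LP (LK LD1_c0 LD2_c32 LD3_c42)) = (LP (LK LD1_c1 LD2_c10 LD3_c35)) :=
  Lre_a IH (LK LD1_c0 LD2_c32 LD3_c42) (LK LD1_c1 LD2_c10 LD3_c35) Lrfl Lrfl
theorem f40141 : Led Lsl_bt (LP (LK LD1_c0 LD2_c14 LD3_c41)) = (LP (LK LD1_c0 LD2_c32 LD3_c42)) :=
  Lre_b IH (LK LD1_c0 LD2_c14 LD3_c41) (LK LD1_c0 LD2_c32 LD3_c42) Lrfl Lrfl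
theorem f40142 : Led Lsl_at (LP (LK LD1_c0 LD2_c24 LD3_c53)) = (LP (LK LD1_c0 LD2_c14 LD3_c41)) :=
  Lgr Lrot67 (Lpe (f40139 IH) (Lpe (f40138 IH) (Lpr_bf (K1.f40116 IH) (Lpe (f40140 IH) (Lpe (f40141 IH) (Lpn (LP (LK LD1_c0 LD2_c14 LD3_c41))))))))
theorem f174886 : Led Lsl_gf (LP (LK LD1_c0 LD2_c14 LD3_c41)) = (LP (LK LD1_c0 LD2_c29 LD3_c2)) :=
  Lgr Lrot76 (Lpe (f40142 IH) (Lpe (f100948 IH) (Lpr_gt (f174744 IH) (Lpn (LP (LK LD1_c0 LD2_c29 LD3_c2))))))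
theorem f168853 : Led Lsl_bt (LP (LK LD1_c0 LD2_c6 LD3_c43)) = (LP (LK LD1_c0 LD2_c3 LD3_c18)) :=
  Lre_b IH (LK LD1_c0 LD2_c6 LD3_c43) (LK LD1_c0 LD2_c3 LD3_c18) Lrfl Lrfl
theorem f60166 : Led Lsl_gt (LP (LK LD1_c0 LD2_c3 LD3_c18)) = (LP (LK LD1_c0 LD2_c7 LD3_c21)) :=
  Lre_g IH (LK LD1_c0 LD2_c3 LD3_c18) (LK LD1_c0 LD2_c7 LD3_c21) Lrfl Lrfl
theorem f20629 : Led Lsl_ct (LP (LK LD1_c0 LD2_c12 LD3_c50)) = (LP (LK LD1_c0 LD2_c29 LD3_c2)) :=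
  Lre_c IH (LK LD1_c0 LD2_c12 LD3_c50) (LK LD1_c0 LD2_c29 LD3_c2) Lrfl Lrfl
theorem f20649 : Led Lsl_gt (LP (LK LD1_c0 LD2_c7 LD3_c24)) = (LP (LK LD1_c0 LD2_c12 LD3_c50)) :=
  Lre_g IH (LK LD1_c0 LD2_c7 LD3_c24) (LK LD1_c0 LD2_c12 LD3_c50) Lrfl Lrfl
theorem f20814 : Led Lsl_bt (LP (LK LD1_c0 LD2_c14 LD3_c42)) = (LP (LK LD1_c0 LD2_c7 LD3_c24)) :=
  Lre_b IH (LK LD1_c0 LD2_c14 LD3_c42) (LK LD1_c0 LD2_c7 LD3_c24) Lrfl Lrfl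
theorem f174922 : Led Lsl_bf (LP (LK LD1_c0 LD2_c7 LD3_c21)) = (LP (LK LD1_c0 LD2_c7 LD3_c21)) :=
  Lgr Lrot34 (Lpe (f60166 IH) (Lpe (f168853 IH) (Lpr_ct (K1.f40724 IH) (Lpr_gf (f174886 IH) (Lpe (f20629 IH) (Lpe (f20649 IH) (Lpe (f20814 IH) (Lpr_ct (K1.f40748 IH) (Lpe (f172137 IH) (Lpe (f171299 IH) (Lpn (LP (LK LD1_c0 LD2_c7 LD3_c21)))))))))))))
theorem f172409 : Led Lsl_gt (LP (LK LD1_c0 LD2_c29 LD3_c8)) = (LP (LK LD1_c0 LD2_c16 LD3_c31)) :=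
  Lre_g IH (LK LD1_c0 LD2_c29 LD3_c8) (LK LD1_c0 LD2_c16 LD3_c31) Lrfl Lrfl
theorem f168550 : Led Lsl_gt (LP (LK LD1_c0 LD2_c14 LD3_c40)) = (LP (LK LD1_c0 LD2_c6 LD3_c43)) :=
  Lre_g IH (LK LD1_c0 LD2_c14 LD3_c40) (LK LD1_c0 LD2_c6 LD3_c43) Lrfl Lrfl
theorem f68912 : Led Lsl_dt (LP (LK LD1_c0 LD2_c29 LD3_c8)) = (LP (LK LD1_c1 LD2_c3 LD3_c54)) :=
  Lre_d IH (LK LD1_c0 LD2_c29 LD3_c8) (LK LD1_c1 LD2_c3 LD3_c54) Lrfl Lrfl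
theorem f172410 : Led Lsl_cf (LP (LK LD1_c0 LD2_c14 LD3_c40)) = (LP (LK LD1_c0 LD2_c16 LD3_c31)) :=
  Lgr Lrot169 (Lpr_gt (f168550 IH) (Lpr_ct (K1.f40724 IH) (Lpe (K1.f40727 IH) (Lpe (f40760 IH) (Lpr_gf (f168539 IH) (Lpr_cf (f172399 IH) (Lpe (f68913 IH) (Lpe (f68912 IH) (Lpr_gt (f172409 IH) (Lpn (LP (LK LD1_c0 LD2_c16 LD3_c31))))))))))))
theorem f172418 : Led Lsl_ct (LP (LK LD1_c0 LD2_c14 LD3_c40)) = (LP (LK LD1_c0 LD2_c16 LD3_c31)) :=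
  Lgr Lrot59 (Lpr_cf (f172410 IH) (Lpn (LP (LK LD1_c0 LD2_c16 LD3_c31))))
theorem f172413 : Led Lsl_bt (LP (LK LD1_c0 LD2_c14 LD3_c40)) = (LP (LK LD1_c0 LD2_c32 LD3_c40)) :=
  Lre_b IH (LK LD1_c0 LD2_c14 LD3_c40) (LK LD1_c0 LD2_c32 LD3_c40) Lrfl Lrfl
theorem f171774 : Led Lsl_bt (LP (LK LD1_c0 LD2_c11 LD3_c2)) = (LP (LK LD1_c0 LD2_c24 LD3_c35)) :=
  Lre_b IH (LK LD1_c0 LD2_c11 LD3_c2) (LK LD1_c0 LD2_c24 LD3_c35) Lrfl Lrfl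
theorem f174944 : Led Lsl_gt (LP (LK LD1_c0 LD2_c32 LD3_c40)) = (LP (LK LD1_c0 LD2_c24 LD3_c35)) :=
  Lgr Lrot164 (Lpe (f172413 IH) (Lpr_ct (f172418 IH) (Lpe (f172409 IH) (Lpe (f172298 IH) (Lpe (f9456 IH) (Lpr_bf (f174922 IH) (Lpr_ct (f171299 IH) (Lpe (f172291 IH) (Lpe (K1.f28391 IH) (Lpr_bt (f171774 IH) (Lpn (LP (LK LD1_c0 LD2_c24 LD3_c35)))))))))))))
theorem f39241 : Led Lsl_ft (LP (LK LD1_c0 LD2_c28 LD3_c12)) = (LP (LK LD1_c0 LD2_c12 LD3_c26)) :=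
  Lre_f IH (LK LD1_c0 LD2_c28 LD3_c12) (LK LD1_c0 LD2_c12 LD3_c26) Lrfl Lrfl
theorem f39242 : Led Lsl_af (LP (LK LD1_c0 LD2_c24 LD3_c35)) = (LP (LK LD1_c0 LD2_c12 LD3_c26)) :=
  Lgr Lrot45 (Lpr_ft (K1.f39240 IH) (Lpr_at (K1.f39197 IH) (Lpr_ft (f39241 IH) (Lpn (LP (LK LD1_c0 LD2_c12 LD3_c26))))))
theorem f174946 : Led Lsl_gf (LP (LK LD1_c0 LD2_c32 LD3_c40)) = (LP (LK LD1_c0 LD2_c28 LD3_c12)) :=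
  Lgr Lrot47 (Lpr_gt (f174944 IH) (Lpr_af (f39242 IH) (Lpe (f39241 IH) (Lpn (LP (LK LD1_c0 LD2_c28 LD3_c12))))))
theorem f168534 : Led Lsl_gt (LP (LK LD1_c0 LD2_c16 LD3_c31)) = (LP (LK LD1_c0 LD2_c7 LD3_c23)) :=
  Lre_g IH (LK LD1_c0 LD2_c16 LD3_c31) (LK LD1_c0 LD2_c7 LD3_c23) Lrfl Lrfl
theorem f165207 : Led Lsl_ct (LP (LK LD1_c0 LD2_c3 LD3_c18)) = (LP (LK LD1_c0 LD2_c7 LD3_c23)) :=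
  Lre_c IH (LK LD1_c0 LD2_c3 LD3_c18) (LK LD1_c0 LD2_c7 LD3_c23) Lrfl Lrfl
theorem f172848 : Led Lsl_bt (LP (LK LD1_c0 LD2_c3 LD3_c18)) = (LP (LK LD1_c0 LD2_c6 LD3_c43)) :=
  Lre_b IH (LK LD1_c0 LD2_c3 LD3_c18) (LK LD1_c0 LD2_c6 LD3_c43) Lrfl Lrfl
theorem f53310 : Led Lsl_gt (LP (LK LD1_c0 LD2_c6 LD3_c43)) = (LP (LK LD1_c0 LD2_c14 LD3_c39)) :=
  Lre_g IH (LK LD1_c0 LD2_c6 LD3_c43) (LK LD1_c0 LD2_c14 LD3_c39) Lrfl Lrfl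
theorem f101433 : Led Lsl_bt (LP (LK LD1_c0 LD2_c12 LD3_c52)) = (LP (LK LD1_c0 LD2_c28 LD3_c12)) :=
  Lre_b IH (LK LD1_c0 LD2_c12 LD3_c52) (LK LD1_c0 LD2_c28 LD3_c12) Lrfl Lrfl
theorem f68910 : Led Lsl_gt (LP (LK LD1_c0 LD2_c16 LD3_c30)) = (LP (LK LD1_c0 LD2_c29 LD3_c8)) :=
  Lre_g IH (LK LD1_c0 LD2_c16 LD3_c30) (LK LD1_c0 LD2_c29 LD3_c8) Lrfl Lrfl
theorem f174953 : Led Lsl_ct (LP (LK LD1_c0 LD2_c14 LD3_c39)) = (LP (LK LD1_c0 LD2_c16 LD3_c30)) :=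
  Lgr Lrot91 (Lpe (f53310 IH) (Lpe (f172848 IH) (Lpr_ct (f165207 IH) (Lpe (f168534 IH) (Lpe (f172418 IH) (Lpr_bt (f172413 IH) (Lpr_gf (f174946 IH) (Lpe (f101433 IH) (Lpr_ct (f172298 IH) (Lpe (f68910 IH) (Lpn (LP (LK LD1_c0 LD2_c16 LD3_c30)))))))))))))
theorem f7029 : Led Lsl_gt (LP (LK LD1_c0 LD2_c3 LD3_c3)) = (LP (LK LD1_c0 LD2_c6 LD3_c41)) :=
  Lre_g IH (LK LD1_c0 LD2_c3 LD3_c3) (LK LD1_c0 LD2_c6 LD3_c41) Lrfl Lrfl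
theorem f172307 : Led Lsl_ct (LP (LK LD1_c0 LD2_c29 LD3_c8)) = (LP (LK LD1_c0 LD2_c12 LD3_c52)) :=
  Lre_c IH (LK LD1_c0 LD2_c29 LD3_c8) (LK LD1_c0 LD2_c12 LD3_c52) Lrfl Lrfl
theorem f9471 : Led Lsl_ct (LP (LK LD1_c0 LD2_c12 LD3_c41)) = (LP (LK LD1_c0 LD2_c5 LD3_c51)) :=
  Lre_c IH (LK LD1_c0 LD2_c12 LD3_c41) (LK LD1_c0 LD2_c5 LD3_c51) Lrfl Lrfl
theorem f8439 : Led Lsl_gt (LP (LK LD1_c0 LD2_c7 LD3_c10)) = (LP (LK LD1_c0 LD2_c12 LD3_c41)) :=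
  Lre_g IH (LK LD1_c0 LD2_c7 LD3_c10) (LK LD1_c0 LD2_c12 LD3_c41) Lrfl Lrfl
theorem f174961 : Led Lsl_ct (LP (LK LD1_c0 LD2_c6 LD3_c41)) = (LP (LK LD1_c0 LD2_c7 LD3_c10)) :=
  Lgr Lrot152 (Lpe (f7029 IH) (Lpe (K1.f40783 IH) (Lpr_gt (f53310 IH) (Lpr_ct (f174953 IH) (Lpr_gt (f68910 IH) (Lpr_ct (f172307 IH) (Lpe (K0.f9444 IH) (Lpe (f9471 IH) (Lpe (f8439 IH) (Lpn (LP (LK LD1_c0 LD2_c7 LD3_c10))))))))))))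
theorem f172546 : Led Lsl_dt (LP (LK LD1_c0 LD2_c14 LD3_c34)) = (LP (LK LD1_c0 LD2_c6 LD3_c41)) :=
  Lre_d IH (LK LD1_c0 LD2_c14 LD3_c34) (LK LD1_c0 LD2_c6 LD3_c41) Lrfl Lrfl
theorem f172545 : Led Lsl_ct (LP (LK LD1_c0 LD2_c32 LD3_c31)) = (LP (LK LD1_c0 LD2_c14 LD3_c34)) :=
  Lre_c IH (LK LD1_c0 LD2_c32 LD3_c31) (LK LD1_c0 LD2_c14 LD3_c34) Lrfl Lrfl
theorem f7030 : Led Lsl_dt (LP (LK LD1_c0 LD2_c6 LD3_c41)) = (LP (LK LD1_c0 LD2_c14 LD3_c34)) :=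
  Lre_d IH (LK LD1_c0 LD2_c6 LD3_c41) (LK LD1_c0 LD2_c14 LD3_c34) Lrfl Lrfl
theorem f172425 : Led Lsl_ct (LP (LK LD1_c0 LD2_c14 LD3_c34)) = (LP (LK LD1_c0 LD2_c32 LD3_c31)) :=
  Lre_c IH (LK LD1_c0 LD2_c14 LD3_c34) (LK LD1_c0 LD2_c32 LD3_c31) Lrfl Lrfl
theorem f22480 : Led Lsl_dt (LP (LK LD1_c0 LD2_c7 LD3_c23)) = (LP (LK LD1_c0 LD2_c16 LD3_c33)) :=
  Lre_d IH (LK LD1_c0 LD2_c7 LD3_c23) (LK LD1_c0 LD2_c16 LD3_c33) Lrfl Lrfl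
theorem f172426 : Led Lsl_gt (LP (LK LD1_c0 LD2_c16 LD3_c33)) = (LP (LK LD1_c0 LD2_c37 LD3_c8)) :=
  Lre_g IH (LK LD1_c0 LD2_c16 LD3_c33) (LK LD1_c0 LD2_c37 LD3_c8) Lrfl Lrfl
theorem f172427 : Led Lsl_df (LP (LK LD1_c0 LD2_c32 LD3_c31)) = (LP (LK LD1_c0 LD2_c37 LD3_c8)) :=
  Lgr Lrot84 (Lpe (f172425 IH) (Lpe (f7030 IH) (Lpe (f7029 IH) (Lpe (K1.f40783 IH) (Lpe (f168550 IH) (Lpr_cf (f172410 IH) (Lpr_gt (f168534 IH) (Lpr_dt (f22480 IH) (Lpr_gt (f172426 IH) (Lpn (LP (LK LD1_c0 LD2_c37 LD3_c8))))))))))))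
theorem f7890 : Led Lsl_ct (LP (LK LD1_c0 LD2_c15 LD3_c57)) = (LP (LK LD1_c0 LD2_c35 LD3_c38)) :=
  Lre_c IH (LK LD1_c0 LD2_c15 LD3_c57) (LK LD1_c0 LD2_c35 LD3_c38) Lrfl Lrfl
theorem f168115 : Led Lsl_dt (LP (LK LD1_c0 LD2_c35 LD3_c38)) = (LP (LK LD1_c1 LD2_c17 LD3_c4)) :=
  Lre_d IH (LK LD1_c0 LD2_c35 LD3_c38) (LK LD1_c1 LD2_c17 LD3_c4) Lrfl Lrfl
theorem f7022 : Led Lsl_gt (LP (LK LD1_c0 LD2_c6 LD3_c42)) = (LP (LK LD1_c0 LD2_c3 LD3_c3)) :=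
  Lre_g IH (LK LD1_c0 LD2_c6 LD3_c42) (LK LD1_c0 LD2_c3 LD3_c3) Lrfl Lrfl
theorem f8440 : Led Lsl_dt (LP (LK LD1_c0 LD2_c12 LD3_c41)) = (LP (LK LD1_c0 LD2_c28 LD3_c44)) :=
  Lre_d IH (LK LD1_c0 LD2_c12 LD3_c41) (LK LD1_c0 LD2_c28 LD3_c44) Lrfl Lrfl
theorem f43097 : Led Lsl_gt (LP (LK LD1_c0 LD2_c12 LD3_c41)) = (LP (LK LD1_c0 LD2_c7 LD3_c11)) :=
  Lre_g IH (LK LD1_c0 LD2_c12 LD3_c41) (LK LD1_c0 LD2_c7 LD3_c11) Lrfl Lrfl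
theorem f168096 : Led Lsl_cf (LP (LK LD1_c0 LD2_c6 LD3_c42)) = (LP (LK LD1_c0 LD2_c7 LD3_c11)) :=
  Lgr Lrot169 (Lpr_gt (f7022 IH) (Lpr_ct (K1.f40853 IH) (Lpe (K1.f40993 IH) (Lpe (K1.f40994 IH) (Lpr_gf (f168087 IH) (Lpe (f168086 IH) (Lpe (f8441 IH) (Lpe (f8440 IH) (Lpr_gt (f43097 IH) (Lpn (LP (LK LD1_c0 LD2_c7 LD3_c11))))))))))))
theorem f56528 : Led Lsl_dt (LP (LK LD1_c0 LD2_c6 LD3_c42)) = (LP (LK LD1_c0 LD2_c14 LD3_c37)) :=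
  Lre_d IH (LK LD1_c0 LD2_c6 LD3_c42) (LK LD1_c0 LD2_c14 LD3_c37) Lrfl Lrfl
theorem f56525 : Led Lsl_ct (LP (LK LD1_c0 LD2_c32 LD3_c37)) = (LP (LK LD1_c0 LD2_c14 LD3_c37)) :=
  Lre_c IH (LK LD1_c0 LD2_c32 LD3_c37) (LK LD1_c0 LD2_c14 LD3_c37) Lrfl Lrfl
theorem f9472 : Led Lsl_ct (LP (LK LD1_c0 LD2_c5 LD3_c51)) = (LP (LK LD1_c0 LD2_c12 LD3_c41)) :=
  Lre_c IH (LK LD1_c0 LD2_c5 LD3_c51) (LK LD1_c0 LD2_c12 LD3_c41) Lrfl Lrfl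
theorem f24442 : Led Lsl_dt (LP (LK LD1_c0 LD2_c7 LD3_c15)) = (LP (LK LD1_c0 LD2_c3 LD3_c16)) :=
  Lre_d IH (LK LD1_c0 LD2_c7 LD3_c15) (LK LD1_c0 LD2_c3 LD3_c16) Lrfl Lrfl
theorem f164745 : Led Lsl_ct (LP (LK LD1_c0 LD2_c16 LD3_c7)) = (LP (LK LD1_c0 LD2_c36 LD3_c14)) :=
  Lre_c IH (LK LD1_c0 LD2_c16 LD3_c7) (LK LD1_c0 LD2_c36 LD3_c14) Lrfl Lrfl
theorem f168189 : Led Lsl_gf (LP (LK LD1_c0 LD2_c32 LD3_c37)) = (LP (LK LD1_c0 LD2_c36 LD3_c14)) :=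
  Lgr Lrot104 (Lpr_ct (f56525 IH) (Lpe (f56528 IH) (Lpr_cf (f168096 IH) (Lpe (f43097 IH) (Lpe (f9472 IH) (Lpe (K0.f9481 IH) (Lpe (f24442 IH) (Lpr_gt (K0.f3070 IH) (Lpr_ct (f164745 IH) (Lpn (LP (LK LD1_c0 LD2_c36 LD3_c14))))))))))))
theorem f8334 : Led Lsl_et (LP (LK LD1_c0 LD2_c3 LD3_c18)) = (LP (LK LD1_c0 LD2_c1 LD3_c24)) :=
  Lre_e IH (LK LD1_c0 LD2_c3 LD3_c18) (LK LD1_c0 LD2_c1 LD3_c24) Lrfl Lrfl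
theorem f8336 : Led Lsl_gt (LP (LK LD1_c0 LD2_c3 LD3_c17)) = (LP (LK LD1_c0 LD2_c1 LD3_c21)) :=
  Lre_g IH (LK LD1_c0 LD2_c3 LD3_c17) (LK LD1_c0 LD2_c1 LD3_c21) Lrfl Lrfl
theorem f165200 : Led Lsl_gt (LP (LK LD1_c0 LD2_c16 LD3_c7)) = (LP (LK LD1_c0 LD2_c7 LD3_c19)) :=
  Lgr Lrot137 (Lpr_ef (f164177 IH) (Lpr_dt (f21267 IH) (Lpe (f3127 IH) (Lpe (K8.f3120 IH) (Lpe (K7.f21224 IH) (Lpe (K0.f2925 IH) (Lpe (f8334 IH) (Lpr_dt (f8335 IH) (Lpe (f8336 IH) (Lpe (f8337 IH) (Lpn (LP (LK LD1_c0 LD2_c7 LD3_c19)))))))))))))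
theorem f165203 : Led Lsl_ct (LP (LK LD1_c0 LD2_c7 LD3_c23)) = (LP (LK LD1_c0 LD2_c3 LD3_c18)) :=
  Lre_c IH (LK LD1_c0 LD2_c7 LD3_c23) (LK LD1_c0 LD2_c3 LD3_c18) Lrfl Lrfl
theorem f165204 : Led Lsl_dt (LP (LK LD1_c0 LD2_c16 LD3_c33)) = (LP (LK LD1_c0 LD2_c7 LD3_c23)) :=
  Lre_d IH (LK LD1_c0 LD2_c16 LD3_c33) (LK LD1_c0 LD2_c7 LD3_c23) Lrfl Lrfl
theorem f168197 : Led Lsl_dt (LP (LK LD1_c0 LD2_c32 LD3_c37)) = (LP (LK LD1_c0 LD2_c37 LD3_c9)) :=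
  Lgr Lrot57 (Lpr_gf (f168189 IH) (Lpe (f164745 IH) (Lpr_gt (f165200 IH) (Lpr_dt (f8337 IH) (Lpr_gt (f8336 IH) (Lpr_dt (K0.f9502 IH) (Lpe (f165203 IH) (Lpe (f165204 IH) (Lpe (f22481 IH) (Lpn (LP (LK LD1_c0 LD2_c37 LD3_c9))))))))))))
theorem f168223 : Led Lsl_df (LP (LK LD1_c0 LD2_c32 LD3_c37)) = (LP (LK LD1_c0 LD2_c37 LD3_c9)) :=
  Lgr Lrot38 (Lpr_dt (f168197 IH) (Lpn (LP (LK LD1_c0 LD2_c37 LD3_c9))))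
theorem f56515 : Led Lsl_dt (LP (LK LD1_c0 LD2_c14 LD3_c37)) = (LP (LK LD1_c0 LD2_c6 LD3_c42)) :=
  Lre_d IH (LK LD1_c0 LD2_c14 LD3_c37) (LK LD1_c0 LD2_c6 LD3_c42) Lrfl Lrfl
theorem f168177 : Led Lsl_ct (LP (LK LD1_c0 LD2_c6 LD3_c42)) = (LP (LK LD1_c0 LD2_c7 LD3_c11)) :=
  Lgr Lrot59 (Lpr_cf (f168096 IH) (Lpn (LP (LK LD1_c0 LD2_c7 LD3_c11))))
theorem f168293 : Led Lsl_dt (LP (LK LD1_c0 LD2_c7 LD3_c11)) = (LP (LK LD1_c0 LD2_c15 LD3_c60)) :=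
  Lre_d IH (LK LD1_c0 LD2_c7 LD3_c11) (LK LD1_c0 LD2_c15 LD3_c60) Lrfl Lrfl
theorem f168294 : Led Lsl_ct (LP (LK LD1_c0 LD2_c15 LD3_c60)) = (LP (LK LD1_c0 LD2_c35 LD3_c47)) :=
  Lre_c IH (LK LD1_c0 LD2_c15 LD3_c60) (LK LD1_c0 LD2_c35 LD3_c47) Lrfl Lrfl
theorem f168295 : Led Lsl_dt (LP (LK LD1_c0 LD2_c35 LD3_c47)) = (LP (LK LD1_c1 LD2_c17 LD3_c26)) :=
  Lre_d IH (LK LD1_c0 LD2_c35 LD3_c47) (LK LD1_c1 LD2_c17 LD3_c26) Lrfl Lrfl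
theorem f174970 : Led Lsl_cf (LP (LK LD1_c0 LD2_c37 LD3_c8)) = (LP (LK LD1_c1 LD2_c17 LD3_c26)) :=
  Lgr Lrot55 (Lpe (f172427 IH) (Lpr_ct (f172545 IH) (Lpr_dt (f172546 IH) (Lpr_ct (f174961 IH) (Lpr_dt (K0.f7713 IH) (Lpr_ct (f7890 IH) (Lpr_dt (f168115 IH) (Lpr_ct (f172404 IH) (Lpe (f168223 IH) (Lpr_ct (f56525 IH) (Lpr_dt (f56515 IH) (Lpr_ct (f168177 IH) (Lpr_dt (f168293 IH) (Lpr_ct (f168294 IH) (Lpr_dt (f168295 IH) (Lpn (LP (LK LD1_c1 LD2_c17 LD3_c26))))))))))))))))))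
theorem f172555 : Led Lsl_gt (LP (LK LD1_c0 LD2_c37 LD3_c8)) = (LP (LK LD1_c1 LD2_c3 LD3_c54)) :=
  Lre_g IH (LK LD1_c0 LD2_c37 LD3_c8) (LK LD1_c1 LD2_c3 LD3_c54) Lrfl Lrfl
theorem f172325 : Led Lsl_dt (LP (LK LD1_c0 LD2_c35 LD3_c61)) = (LP (LK LD1_c0 LD2_c16 LD3_c2)) :=
  Lre_d IH (LK LD1_c0 LD2_c35 LD3_c61) (LK LD1_c0 LD2_c16 LD3_c2) Lrfl Lrfl
theorem f174112 : Led Lsl_ct (LP (LK LD1_c0 LD2_c7 LD3_c12)) = (LP (LK LD1_c0 LD2_c16 LD3_c2)) :=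
  Lre_c IH (LK LD1_c0 LD2_c7 LD3_c12) (LK LD1_c0 LD2_c16 LD3_c2) Lrfl Lrfl
theorem f168095 : Led Lsl_ct (LP (LK LD1_c0 LD2_c35 LD3_c56)) = (LP (LK LD1_c0 LD2_c16 LD3_c1)) :=
  Lre_c IH (LK LD1_c0 LD2_c35 LD3_c56) (LK LD1_c0 LD2_c16 LD3_c1) Lrfl Lrfl
theorem f173380 : Led Lsl_gt (LP (LK LD1_c1 LD2_c3 LD3_c51)) = (LP (LK LD1_c0 LD2_c29 LD3_c7)) :=
  Lre_g IH (LK LD1_c1 LD2_c3 LD3_c51) (LK LD1_c0 LD2_c29 LD3_c7) Lrfl Lrfl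
theorem f167916 : Led Lsl_dt (LP (LK LD1_c0 LD2_c36 LD3_c0)) = (LP (LK LD1_c1 LD2_c3 LD3_c52)) :=
  Lre_d IH (LK LD1_c0 LD2_c36 LD3_c0) (LK LD1_c1 LD2_c3 LD3_c52) Lrfl Lrfl
theorem f165008 : Led Lsl_ct (LP (LK LD1_c1 LD2_c2 LD3_c55)) = (LP (LK LD1_c0 LD2_c28 LD3_c41)) :=
  Lre_c IH (LK LD1_c1 LD2_c2 LD3_c55) (LK LD1_c0 LD2_c28 LD3_c41) Lrfl Lrfl
theorem f173402 : Led Lsl_gt (LP (LK LD1_c0 LD2_c54 LD3_c47)) = (LP (LK LD1_c1 LD2_c2 LD3_c55)) :=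
  Lgr Lrot9 (Lpe (K1.f40735 IH) (Lpr_gt (f169277 IH) (Lpr_ct (f173382 IH) (Lpr_gt (f173380 IH) (Lpr_ct (f173381 IH) (Lpe (f167916 IH) (Lpe (f165012 IH) (Lpe (f7630 IH) (Lpe (f165008 IH) (Lpn (LP (LK LD1_c1 LD2_c2 LD3_c55))))))))))))
theorem f173058 : Led Lsl_af (LP (LK LD1_c1 LD2_c10 LD3_c9)) = (LP (LK LD1_c1 LD2_c17 LD3_c37)) :=
  Lgr Lrot0 (Lpr_at (f173034 IH) (Lpn (LP (LK LD1_c1 LD2_c17 LD3_c37))))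
theorem f173537 : Led Lsl_ft (LP (LK LD1_c0 LD2_c54 LD3_c47)) = (LP (LK LD1_c1 LD2_c17 LD3_c37)) :=
  Lgr Lrot2 (Lpr_gt (f173402 IH) (Lpe (f173161 IH) (Lpr_af (f173058 IH) (Lpn (LP (LK LD1_c1 LD2_c17 LD3_c37))))))
theorem f173061 : Led Lsl_bt (LP (LK LD1_c1 LD2_c17 LD3_c37)) = (LP (LK LD1_c2 LD2_c41 LD3_c58)) :=
  Lre_b IH (LK LD1_c1 LD2_c17 LD3_c37) (LK LD1_c2 LD2_c41 LD3_c58) Lrfl Lrfl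
theorem f173542 : Led Lsl_ff (LP (LK LD1_c1 LD2_c56 LD3_c6)) = (LP (LK LD1_c2 LD2_c41 LD3_c58)) :=
  Lgr Lrot25 (Lpr_bt (K1.f54784 IH) (Lpr_ft (f173537 IH) (Lpr_bt (f173061 IH) (Lpn (LP (LK LD1_c2 LD2_c41 LD3_c58))))))
theorem f173083 : Led Lsl_gt (LP (LK LD1_c2 LD2_c41 LD3_c58)) = (LP (LK LD1_c5 LD2_c31 LD3_c27)) :=
  Lre_g IH (LK LD1_c2 LD2_c41 LD3_c58) (LK LD1_c5 LD2_c31 LD3_c27) Lrfl Lrfl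
theorem f174051 : Led Lsl_gf (LP (LK LD1_c3 LD2_c58 LD3_c46)) = (LP (LK LD1_c5 LD2_c31 LD3_c27)) :=
  Lgr Lrot76 (Lpe (K1.f41057 IH) (Lpr_ff (f173542 IH) (Lpr_gt (f173083 IH) (Lpn (LP (LK LD1_c5 LD2_c31 LD3_c27))))))
theorem f54790 : Led Lsl_dt (LP (LK LD1_c1 LD2_c56 LD3_c6)) = (LP (LK LD1_c3 LD2_c58 LD3_c47)) :=
  Lre_d IH (LK LD1_c1 LD2_c56 LD3_c6) (LK LD1_c3 LD2_c58 LD3_c47) Lrfl Lrfl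
theorem f54791 : Led Lsl_et (LP (LK LD1_c3 LD2_c58 LD3_c47)) = (LP (LK LD1_c7 LD2_c59 LD3_c3)) :=
  Lre_e IH (LK LD1_c3 LD2_c58 LD3_c47) (LK LD1_c7 LD2_c59 LD3_c3) Lrfl Lrfl
theorem f54792 : Led Lsl_dt (LP (LK LD1_c4 LD2_c7 LD3_c0)) = (LP (LK LD1_c2 LD2_c0 LD3_c51)) :=
  Lre_d IH (LK LD1_c4 LD2_c7 LD3_c0) (LK LD1_c2 LD2_c0 LD3_c51) Lrfl Lrfl
theorem f54793 : Led Lsl_et (LP (LK LD1_c8 LD2_c14 LD3_c39)) = (LP (LK LD1_c4 LD2_c7 LD3_c0)) :=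
  Lre_e IH (LK LD1_c8 LD2_c14 LD3_c39) (LK LD1_c4 LD2_c7 LD3_c0) Lrfl Lrfl
theorem f54794 : Led Lsl_dt (LP (LK LD1_c7 LD2_c59 LD3_c3)) = (LP (LK LD1_c8 LD2_c14 LD3_c39)) :=
  Lgr Lrot77 (Lpe (f54791 IH) (Lpe (f54790 IH) (Lpr_ef (K1.f54777 IH) (Lpe (f54792 IH) (Lpe (f54793 IH) (Lpn (LP (LK LD1_c8 LD2_c14 LD3_c39))))))))
theorem f54814 : Led Lsl_df (LP (LK LD1_c7 LD2_c59 LD3_c3)) = (LP (LK LD1_c8 LD2_c14 LD3_c39)) :=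
  Lgr Lrot38 (Lpr_dt (f54794 IH) (Lpn (LP (LK LD1_c8 LD2_c14 LD3_c39))))
theorem f54820 : Led Lsl_bt (LP (LK LD1_c7 LD2_c59 LD3_c3)) = (LP (LK LD1_c3 LD2_c58 LD3_c48)) :=
  Lre_b IH (LK LD1_c7 LD2_c59 LD3_c3) (LK LD1_c3 LD2_c58 LD3_c48) Lrfl Lrfl
theorem f54821 : Led Lsl_bt (LP (LK LD1_c4 LD2_c7 LD3_c2)) = (LP (LK LD1_c8 LD2_c14 LD3_c39)) :=
  Lre_b IH (LK LD1_c4 LD2_c7 LD3_c2) (LK LD1_c8 LD2_c14 LD3_c39) Lrfl Lrfl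
theorem f54822 : Led Lsl_dt (LP (LK LD1_c3 LD2_c58 LD3_c48)) = (LP (LK LD1_c4 LD2_c7 LD3_c2)) :=
  Lgr Lrot79 (Lpe (f54820 IH) (Lpr_df (f54814 IH) (Lpe (f54821 IH) (Lpn (LP (LK LD1_c4 LD2_c7 LD3_c2))))))
theorem f40755 : Led Lsl_et (LP (LK LD1_c1 LD2_c56 LD3_c7)) = (LP (LK LD1_c3 LD2_c58 LD3_c48)) :=
  Lre_e IH (LK LD1_c1 LD2_c56 LD3_c7) (LK LD1_c3 LD2_c58 LD3_c48) Lrfl Lrfl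
theorem f54827 : Led Lsl_et (LP (LK LD1_c4 LD2_c7 LD3_c2)) = (LP (LK LD1_c2 LD2_c0 LD3_c52)) :=
  Lre_e IH (LK LD1_c4 LD2_c7 LD3_c2) (LK LD1_c2 LD2_c0 LD3_c52) Lrfl Lrfl
theorem f54829 : Led Lsl_ef (LP (LK LD1_c0 LD2_c54 LD3_c47)) = (LP (LK LD1_c0 LD2_c57 LD3_c24)) :=
  Lgr Lrot73 (Lpr_dt (f40769 IH) (Lpr_et (f40755 IH) (Lpr_dt (f54822 IH) (Lpr_et (f54827 IH) (Lpr_dt (K1.f54828 IH) (Lpn (LP (LK LD1_c0 LD2_c57 LD3_c24))))))))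
theorem f173069 : Led Lsl_et (LP (LK LD1_c1 LD2_c17 LD3_c37)) = (LP (LK LD1_c2 LD2_c41 LD3_c59)) :=
  Lre_e IH (LK LD1_c1 LD2_c17 LD3_c37) (LK LD1_c2 LD2_c41 LD3_c59) Lrfl Lrfl
theorem f173544 : Led Lsl_ff (LP (LK LD1_c4 LD2_c7 LD3_c3)) = (LP (LK LD1_c2 LD2_c41 LD3_c59)) :=
  Lgr Lrot72 (Lpr_et (K2.f54845 IH) (Lpr_ft (K1.f54844 IH) (Lpe (f54829 IH) (Lpr_ft (f173537 IH) (Lpr_et (f173069 IH) (Lpn (LP (LK LD1_c2 LD2_c41 LD3_c59))))))))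
theorem f47904 : Led Lsl_dt (LP (LK LD1_c4 LD2_c7 LD3_c3)) = (LP (LK LD1_c8 LD2_c14 LD3_c44)) :=
  Lre_d IH (LK LD1_c4 LD2_c7 LD3_c3) (LK LD1_c8 LD2_c14 LD3_c44) Lrfl Lrfl
theorem f55669 : Led Lsl_dt (LP (LK LD1_c8 LD2_c12 LD3_c0)) = (LP (LK LD1_c4 LD2_c5 LD3_c34)) :=
  Lre_d IH (LK LD1_c8 LD2_c12 LD3_c0) (LK LD1_c4 LD2_c5 LD3_c34) Lrfl Lrfl
theorem f55670 : Led Lsl_af (LP (LK LD1_c4 LD2_c7 LD3_c3)) = (LP (LK LD1_c4 LD2_c5 LD3_c34)) :=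
  Lgr Lrot117 (Lpr_dt (f47904 IH) (Lpr_at (K2.f55661 IH) (Lpr_dt (f55669 IH) (Lpn (LP (LK LD1_c4 LD2_c5 LD3_c34))))))
theorem f55673 : Led Lsl_at (LP (LK LD1_c4 LD2_c7 LD3_c3)) = (LP (LK LD1_c4 LD2_c5 LD3_c34)) :=
  Lgr Lrot100 (Lpr_af (f55670 IH) (Lpn (LP (LK LD1_c4 LD2_c5 LD3_c34))))
theorem f55303 : Led Lsl_ct (LP (LK LD1_c1 LD2_c59 LD3_c61)) = (LP (LK LD1_c4 LD2_c5 LD3_c34)) :=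
  Lre_c IH (LK LD1_c1 LD2_c59 LD3_c61) (LK LD1_c4 LD2_c5 LD3_c34) Lrfl Lrfl
theorem f41102 : Led Lsl_af (LP (LK LD1_c1 LD2_c56 LD3_c8)) = (LP (LK LD1_c1 LD2_c10 LD3_c10)) :=
  Lgr Lrot0 (Lpr_at (K1.f41094 IH) (Lpn (LP (LK LD1_c1 LD2_c10 LD3_c10))))
theorem f41323 : Led Lsl_dt (LP (LK LD1_c1 LD2_c10 LD3_c10)) = (LP (LK LD1_c1 LD2_c10 LD3_c10)) :=
  Lgr Lrot44 (Lpe (K1.f41094 IH) (Lpr_df (K1.f41321 IH) (Lpr_af (f41102 IH) (Lpn (LP (LK LD1_c1 LD2_c10 LD3_c10))))))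
theorem f55308 : Led Lsl_dt (LP (LK LD1_c1 LD2_c59 LD3_c61)) = (LP (LK LD1_c1 LD2_c59 LD3_c61)) :=
  Lgr Lrot60 (Lpr_ff (K1.f55299 IH) (Lpe (f41323 IH) (Lpe (K1.f55259 IH) (Lpn (LP (LK LD1_c1 LD2_c59 LD3_c61))))))
theorem f55292 : Led Lsl_ct (LP (LK LD1_c4 LD2_c5 LD3_c34)) = (LP (LK LD1_c1 LD2_c59 LD3_c61)) :=
  Lre_c IH (LK LD1_c4 LD2_c5 LD3_c34) (LK LD1_c1 LD2_c59 LD3_c61) Lrfl Lrfl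
theorem f55672 : Led Lsl_ct (LP (LK LD1_c15 LD2_c26 LD3_c8)) = (LP (LK LD1_c8 LD2_c12 LD3_c0)) :=
  Lre_c IH (LK LD1_c15 LD2_c26 LD3_c8) (LK LD1_c8 LD2_c12 LD3_c0) Lrfl Lrfl
theorem f173558 : Led Lsl_dt (LP (LK LD1_c2 LD2_c41 LD3_c59)) = (LP (LK LD1_c5 LD2_c31 LD3_c32)) :=
  Lre_d IH (LK LD1_c2 LD2_c41 LD3_c59) (LK LD1_c5 LD2_c31 LD3_c32) Lrfl Lrfl
theorem f173559 : Led Lsl_ct (LP (LK LD1_c5 LD2_c31 LD3_c32)) = (LP (LK LD1_c10 LD2_c54 LD3_c46)) :=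
  Lre_c IH (LK LD1_c5 LD2_c31 LD3_c32) (LK LD1_c10 LD2_c54 LD3_c46) Lrfl Lrfl
theorem f173560 : Led Lsl_df (LP (LK LD1_c15 LD2_c26 LD3_c8)) = (LP (LK LD1_c10 LD2_c54 LD3_c46)) :=
  Lgr Lrot106 (Lpr_ct (f55672 IH) (Lpr_dt (f55669 IH) (Lpr_ct (f55292 IH) (Lpr_dt (f55308 IH) (Lpr_ct (f55303 IH) (Lpe (f55673 IH) (Lpr_ff (f173544 IH) (Lpr_dt (f173558 IH) (Lpr_ct (f173559 IH) (Lpn (LP (LK LD1_c10 LD2_c54 LD3_c46))))))))))))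
theorem f47906 : Led Lsl_ct (LP (LK LD1_c4 LD2_c7 LD3_c3)) = (LP (LK LD1_c2 LD2_c0 LD3_c54)) :=
  Lre_c IH (LK LD1_c4 LD2_c7 LD3_c3) (LK LD1_c2 LD2_c0 LD3_c54) Lrfl Lrfl
theorem f54854 : Led Lsl_ef (LP (LK LD1_c0 LD2_c24 LD3_c44)) = (LP (LK LD1_c0 LD2_c26 LD3_c2)) :=
  Lgr Lrot28 (Lpr_ct (K1.f40770 IH) (Lpr_et (K1.f54786 IH) (Lpr_ct (K1.f54853 IH) (Lpn (LP (LK LD1_c0 LD2_c26 LD3_c2))))))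
theorem f54859 : Led Lsl_ft (LP (LK LD1_c0 LD2_c24 LD3_c44)) = (LP (LK LD1_c0 LD2_c54 LD3_c48)) :=
  Lre_f IH (LK LD1_c0 LD2_c24 LD3_c44) (LK LD1_c0 LD2_c54 LD3_c48) Lrfl Lrfl
theorem f54860 : Led Lsl_ft (LP (LK LD1_c0 LD2_c57 LD3_c25)) = (LP (LK LD1_c0 LD2_c26 LD3_c2)) :=
  Lre_f IH (LK LD1_c0 LD2_c57 LD3_c25) (LK LD1_c0 LD2_c26 LD3_c2) Lrfl Lrfl
theorem f47909 : Led Lsl_et (LP (LK LD1_c2 LD2_c0 LD3_c54)) = (LP (LK LD1_c0 LD2_c57 LD3_c25)) :=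
  Lre_e IH (LK LD1_c2 LD2_c0 LD3_c54) (LK LD1_c0 LD2_c57 LD3_c25) Lrfl Lrfl
theorem f54861 : Led Lsl_ft (LP (LK LD1_c1 LD2_c56 LD3_c8)) = (LP (LK LD1_c2 LD2_c0 LD3_c54)) :=
  Lgr Lrot86 (Lpe (K1.f41092 IH) (Lpe (f54859 IH) (Lpr_ef (f54854 IH) (Lpe (f54860 IH) (Lpe (f47909 IH) (Lpn (LP (LK LD1_c2 LD2_c0 LD3_c54))))))))
theorem f47862 : Led Lsl_at (LP (LK LD1_c8 LD2_c13 LD3_c9)) = (LP (LK LD1_c4 LD2_c6 LD3_c43)) :=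
  Lre_a IH (LK LD1_c8 LD2_c13 LD3_c9) (LK LD1_c4 LD2_c6 LD3_c43) Lrfl Lrfl
theorem f47863 : Led Lsl_at (LP (LK LD1_c4 LD2_c6 LD3_c43)) = (LP (LK LD1_c8 LD2_c13 LD3_c9)) :=
  Lre_a IH (LK LD1_c4 LD2_c6 LD3_c43) (LK LD1_c8 LD2_c13 LD3_c9) Lrfl Lrfl
theorem f47864 : Led Lsl_dt (LP (LK LD1_c4 LD2_c6 LD3_c43)) = (LP (LK LD1_c4 LD2_c6 LD3_c43)) :=
  Lgr Lrot44 (Lpe (f47862 IH) (Lpr_df (K1.f47853 IH) (Lpe (f47863 IH) (Lpn (LP (LK LD1_c4 LD2_c6 LD3_c43))))))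
theorem f47874 : Led Lsl_bt (LP (LK LD1_c2 LD2_c0 LD3_c54)) = (LP (LK LD1_c4 LD2_c6 LD3_c43)) :=
  Lre_b IH (LK LD1_c2 LD2_c0 LD3_c54) (LK LD1_c4 LD2_c6 LD3_c43) Lrfl Lrfl
theorem f47875 : Led Lsl_bt (LP (LK LD1_c4 LD2_c6 LD3_c43)) = (LP (LK LD1_c2 LD2_c0 LD3_c54)) :=
  Lre_b IH (LK LD1_c4 LD2_c6 LD3_c43) (LK LD1_c2 LD2_c0 LD3_c54) Lrfl Lrfl
theorem f47876 : Led Lsl_df (LP (LK LD1_c2 LD2_c0 LD3_c54)) = (LP (LK LD1_c2 LD2_c0 LD3_c54)) :=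
  Lgr Lrot12 (Lpr_bt (f47874 IH) (Lpr_dt (f47864 IH) (Lpr_bt (f47875 IH) (Lpn (LP (LK LD1_c2 LD2_c0 LD3_c54))))))
theorem f54866 : Led Lsl_ff (LP (LK LD1_c1 LD2_c56 LD3_c8)) = (LP (LK LD1_c2 LD2_c0 LD3_c54)) :=
  Lgr Lrot19 (Lpe (K1.f41321 IH) (Lpr_ft (f54861 IH) (Lpe (f47876 IH) (Lpn (LP (LK LD1_c2 LD2_c0 LD3_c54))))))
theorem f173551 : Led Lsl_ct (LP (LK LD1_c1 LD2_c56 LD3_c8)) = (LP (LK LD1_c2 LD2_c41 LD3_c59)) :=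
  Lgr Lrot40 (Lpr_ff (f54866 IH) (Lpe (f47906 IH) (Lpr_ff (f173544 IH) (Lpn (LP (LK LD1_c2 LD2_c41 LD3_c59))))))
theorem f173079 : Led Lsl_cf (LP (LK LD1_c1 LD2_c56 LD3_c8)) = (LP (LK LD1_c2 LD2_c41 LD3_c59)) :=
  Lgr Lrot39 (Lpr_et (K1.f41084 IH) (Lpr_ct (f173074 IH) (Lpr_et (f173069 IH) (Lpn (LP (LK LD1_c2 LD2_c41 LD3_c59))))))
theorem f173553 : Led Lsl_dt (LP (LK LD1_c5 LD2_c31 LD3_c32)) = (LP (LK LD1_c2 LD2_c41 LD3_c59)) :=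
  Lre_d IH (LK LD1_c5 LD2_c31 LD3_c32) (LK LD1_c2 LD2_c41 LD3_c59) Lrfl Lrfl
theorem f173572 : Led Lsl_ff (LP (LK LD1_c8 LD2_c14 LD3_c44)) = (LP (LK LD1_c5 LD2_c31 LD3_c32)) :=
  Lgr Lrot103 (Lpr_at (K2.f55661 IH) (Lpe (f55672 IH) (Lpr_df (f173560 IH) (Lpe (f173559 IH) (Lpe (f173558 IH) (Lpe (f173551 IH) (Lpr_df (K1.f41321 IH) (Lpr_cf (f173079 IH) (Lpe (f173553 IH) (Lpn (LP (LK LD1_c5 LD2_c31 LD3_c32))))))))))))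
theorem f54878 : Led Lsl_bt (LP (LK LD1_c8 LD2_c14 LD3_c44)) = (LP (LK LD1_c15 LD2_c30 LD3_c35)) :=
  Lre_b IH (LK LD1_c8 LD2_c14 LD3_c44) (LK LD1_c15 LD2_c30 LD3_c35) Lrfl Lrfl
theorem f173579 : Led Lsl_bt (LP (LK LD1_c10 LD2_c54 LD3_c43)) = (LP (LK LD1_c5 LD2_c31 LD3_c32)) :=
  Lre_b IH (LK LD1_c10 LD2_c54 LD3_c43) (LK LD1_c5 LD2_c31 LD3_c32) Lrfl Lrfl
theorem f173580 : Led Lsl_ft (LP (LK LD1_c15 LD2_c30 LD3_c35)) = (LP (LK LD1_c10 LD2_c54 LD3_c43)) :=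
  Lgr Lrot75 (Lpe (f54878 IH) (Lpr_ff (f173572 IH) (Lpe (f173579 IH) (Lpn (LP (LK LD1_c10 LD2_c54 LD3_c43))))))
theorem f173587 : Led Lsl_dt (LP (LK LD1_c8 LD2_c14 LD3_c40)) = (LP (LK LD1_c15 LD2_c30 LD3_c35)) :=
  Lre_d IH (LK LD1_c8 LD2_c14 LD3_c40) (LK LD1_c15 LD2_c30 LD3_c35) Lrfl Lrfl
theorem f173588 : Led Lsl_dt (LP (LK LD1_c10 LD2_c54 LD3_c43)) = (LP (LK LD1_c5 LD2_c31 LD3_c31)) :=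
  Lre_d IH (LK LD1_c10 LD2_c54 LD3_c43) (LK LD1_c5 LD2_c31 LD3_c31) Lrfl Lrfl
theorem f173589 : Led Lsl_ff (LP (LK LD1_c8 LD2_c14 LD3_c40)) = (LP (LK LD1_c5 LD2_c31 LD3_c31)) :=
  Lgr Lrot19 (Lpr_dt (f173587 IH) (Lpr_ft (f173580 IH) (Lpr_dt (f173588 IH) (Lpn (LP (LK LD1_c5 LD2_c31 LD3_c31))))))
theorem f54797 : Led Lsl_et (LP (LK LD1_c8 LD2_c14 LD3_c40)) = (LP (LK LD1_c4 LD2_c7 LD3_c1)) :=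
  Lre_e IH (LK LD1_c8 LD2_c14 LD3_c40) (LK LD1_c4 LD2_c7 LD3_c1) Lrfl Lrfl
theorem f54796 : Led Lsl_ft (LP (LK LD1_c4 LD2_c7 LD3_c1)) = (LP (LK LD1_c2 LD2_c0 LD3_c51)) :=
  Lre_f IH (LK LD1_c4 LD2_c7 LD3_c1) (LK LD1_c2 LD2_c0 LD3_c51) Lrfl Lrfl
theorem f173608 : Led Lsl_et (LP (LK LD1_c2 LD2_c41 LD3_c58)) = (LP (LK LD1_c5 LD2_c31 LD3_c31)) :=
  Lre_e IH (LK LD1_c2 LD2_c41 LD3_c58) (LK LD1_c5 LD2_c31 LD3_c31) Lrfl Lrfl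
theorem f173609 : Led Lsl_ft (LP (LK LD1_c1 LD2_c56 LD3_c6)) = (LP (LK LD1_c2 LD2_c41 LD3_c58)) :=
  Lgr Lrot86 (Lpr_ef (K1.f54777 IH) (Lpe (f54796 IH) (Lpe (f54797 IH) (Lpr_ff (f173589 IH) (Lpe (f173608 IH) (Lpn (LP (LK LD1_c2 LD2_c41 LD3_c58))))))))
theorem f54825 : Led Lsl_dt (LP (LK LD1_c3 LD2_c58 LD3_c47)) = (LP (LK LD1_c1 LD2_c56 LD3_c6)) :=
  Lre_d IH (LK LD1_c3 LD2_c58 LD3_c47) (LK LD1_c1 LD2_c56 LD3_c6) Lrfl Lrfl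
theorem f139802 : Led Lsl_ct (LP (LK LD1_c0 LD2_c44 LD3_c32)) = (LP (LK LD1_c1 LD2_c36 LD3_c1)) :=
  Lre_c IH (LK LD1_c0 LD2_c44 LD3_c32) (LK LD1_c1 LD2_c36 LD3_c1) Lrfl Lrfl
theorem f135746 : Led Lsl_bt (LP (LK LD1_c0 LD2_c19 LD3_c50)) = (LP (LK LD1_c0 LD2_c44 LD3_c32)) :=
  Lre_b IH (LK LD1_c0 LD2_c19 LD3_c50) (LK LD1_c0 LD2_c44 LD3_c32) Lrfl Lrfl
theorem f139803 : Led Lsl_ct (LP (LK LD1_c2 LD2_c51 LD3_c21)) = (LP (LK LD1_c1 LD2_c21 LD3_c45)) :=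
  Lre_c IH (LK LD1_c2 LD2_c51 LD3_c21) (LK LD1_c1 LD2_c21 LD3_c45) Lrfl Lrfl
theorem f139804 : Led Lsl_bt (LP (LK LD1_c1 LD2_c21 LD3_c45)) = (LP (LK LD1_c0 LD2_c37 LD3_c50)) :=
  Lre_b IH (LK LD1_c1 LD2_c21 LD3_c45) (LK LD1_c0 LD2_c37 LD3_c50) Lrfl Lrfl
theorem f139805 : Led Lsl_cf (LP (LK LD1_c0 LD2_c19 LD3_c50)) = (LP (LK LD1_c0 LD2_c37 LD3_c50)) :=
  Lgr Lrot97 (Lpr_bt (f135746 IH) (Lpr_ct (f139802 IH) (Lpr_bt (K6.f139797 IH) (Lpr_ct (f139803 IH) (Lpr_bt (f139804 IH) (Lpn (LP (LK LD1_c0 LD2_c37 LD3_c50))))))))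
theorem f24620 : Led Lsl_gt (LP (LK LD1_c0 LD2_c19 LD3_c50)) = (LP (LK LD1_c0 LD2_c44 LD3_c33)) :=
  Lre_g IH (LK LD1_c0 LD2_c19 LD3_c50) (LK LD1_c0 LD2_c44 LD3_c33) Lrfl Lrfl
theorem f24621 : Led Lsl_dt (LP (LK LD1_c0 LD2_c44 LD3_c33)) = (LP (LK LD1_c1 LD2_c36 LD3_c7)) :=
  Lre_d IH (LK LD1_c0 LD2_c44 LD3_c33) (LK LD1_c1 LD2_c36 LD3_c7) Lrfl Lrfl
theorem f24619 : Led Lsl_et (LP (LK LD1_c0 LD2_c8 LD3_c53)) = (LP (LK LD1_c0 LD2_c19 LD3_c50)) :=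
  Lre_e IH (LK LD1_c0 LD2_c8 LD3_c53) (LK LD1_c0 LD2_c19 LD3_c50) Lrfl Lrfl
theorem f24622 : Led Lsl_et (LP (LK LD1_c0 LD2_c8 LD3_c6)) = (LP (LK LD1_c0 LD2_c18 LD3_c5)) :=
  Lre_e IH (LK LD1_c0 LD2_c8 LD3_c6) (LK LD1_c0 LD2_c18 LD3_c5) Lrfl Lrfl
theorem f22958 : Led Lsl_gt (LP (LK LD1_c0 LD2_c40 LD3_c26)) = (LP (LK LD1_c0 LD2_c18 LD3_c5)) :=
  Lre_g IH (LK LD1_c0 LD2_c40 LD3_c26) (LK LD1_c0 LD2_c18 LD3_c5) Lrfl Lrfl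
theorem f24623 : Led Lsl_et (LP (LK LD1_c1 LD2_c27 LD3_c26)) = (LP (LK LD1_c0 LD2_c40 LD3_c26)) :=
  Lre_e IH (LK LD1_c1 LD2_c27 LD3_c26) (LK LD1_c0 LD2_c40 LD3_c26) Lrfl Lrfl
theorem f24624 : Led Lsl_dt (LP (LK LD1_c1 LD2_c27 LD3_c26)) = (LP (LK LD1_c3 LD2_c3 LD3_c3)) :=
  Lre_d IH (LK LD1_c1 LD2_c27 LD3_c26) (LK LD1_c3 LD2_c3 LD3_c3) Lrfl Lrfl
theorem f24625 : Led Lsl_gt (LP (LK LD1_c1 LD2_c36 LD3_c7)) = (LP (LK LD1_c3 LD2_c3 LD3_c3)) :=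
  Lgr Lrot139 (Lpe (f24621 IH) (Lpe (f24620 IH) (Lpe (f24619 IH) (Lpr_dt (K0.f24599 IH) (Lpe (K0.f9933 IH) (Lpe (K1.f7100 IH) (Lpr_et (f24622 IH) (Lpe (f22958 IH) (Lpe (f24623 IH) (Lpr_dt (f24624 IH) (Lpn (LP (LK LD1_c3 LD2_c3 LD3_c3)))))))))))))
theorem f24635 : Led Lsl_dt (LP (LK LD1_c3 LD2_c3 LD3_c3)) = (LP (LK LD1_c1 LD2_c27 LD3_c26)) :=
  Lre_d IH (LK LD1_c3 LD2_c3 LD3_c3) (LK LD1_c1 LD2_c27 LD3_c26) Lrfl Lrfl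
theorem f24639 : Led Lsl_ct (LP (LK LD1_c1 LD2_c27 LD3_c26)) = (LP (LK LD1_c3 LD2_c3 LD3_c0)) :=
  Lre_c IH (LK LD1_c1 LD2_c27 LD3_c26) (LK LD1_c3 LD2_c3 LD3_c0) Lrfl Lrfl
theorem f139883 : Led Lsl_gt (LP (LK LD1_c0 LD2_c37 LD3_c50)) = (LP (LK LD1_c1 LD2_c21 LD3_c46)) :=
  Lre_g IH (LK LD1_c0 LD2_c37 LD3_c50) (LK LD1_c1 LD2_c21 LD3_c46) Lrfl Lrfl
theorem f139884 : Led Lsl_dt (LP (LK LD1_c1 LD2_c21 LD3_c46)) = (LP (LK LD1_c2 LD2_c51 LD3_c26)) :=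
  Lre_d IH (LK LD1_c1 LD2_c21 LD3_c46) (LK LD1_c2 LD2_c51 LD3_c26) Lrfl Lrfl
theorem f139885 : Led Lsl_gt (LP (LK LD1_c2 LD2_c51 LD3_c26)) = (LP (LK LD1_c5 LD2_c50 LD3_c32)) :=
  Lre_g IH (LK LD1_c2 LD2_c51 LD3_c26) (LK LD1_c5 LD2_c50 LD3_c32) Lrfl Lrfl
theorem f139886 : Led Lsl_df (LP (LK LD1_c3 LD2_c3 LD3_c0)) = (LP (LK LD1_c5 LD2_c50 LD3_c32)) :=
  Lgr Lrot84 (Lpe (f24639 IH) (Lpe (f24635 IH) (Lpe (f24625 IH) (Lpe (f24621 IH) (Lpe (f24620 IH) (Lpr_cf (f139805 IH) (Lpr_gt (f139883 IH) (Lpr_dt (f139884 IH) (Lpr_gt (f139885 IH) (Lpn (LP (LK LD1_c5 LD2_c50 LD3_c32))))))))))))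
theorem f139900 : Led Lsl_dt (LP (LK LD1_c3 LD2_c3 LD3_c0)) = (LP (LK LD1_c5 LD2_c50 LD3_c32)) :=
  Lgr Lrot42 (Lpr_df (f139886 IH) (Lpn (LP (LK LD1_c5 LD2_c50 LD3_c32))))
theorem f139902 : Led Lsl_et (LP (LK LD1_c3 LD2_c3 LD3_c0)) = (LP (LK LD1_c1 LD2_c27 LD3_c24)) :=
  Lre_e IH (LK LD1_c3 LD2_c3 LD3_c0) (LK LD1_c1 LD2_c27 LD3_c24) Lrfl Lrfl
theorem f139920 : Led Lsl_gt (LP (LK LD1_c1 LD2_c27 LD3_c24)) = (LP (LK LD1_c1 LD2_c20 LD3_c53)) :=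
  Lgr Lrot131 (Lpe (f139902 IH) (Lpr_dt (f139900 IH) (Lpe (f139885 IH) (Lpe (f139884 IH) (Lpe (f139883 IH) (Lpe (K6.f59434 IH) (Lpr_dt (K0.f20275 IH) (Lpe (K2.f60925 IH) (Lpe (K6.f60919 IH) (Lpr_et (K2.f61277 IH) (Lpn (LP (LK LD1_c1 LD2_c20 LD3_c53)))))))))))))
theorem f59839 : Led Lsl_ct (LP (LK LD1_c0 LD2_c40 LD3_c26)) = (LP (LK LD1_c1 LD2_c27 LD3_c24)) :=
  Lre_c IH (LK LD1_c0 LD2_c40 LD3_c26) (LK LD1_c1 LD2_c27 LD3_c24) Lrfl Lrfl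
theorem f23226 : Led Lsl_gt (LP (LK LD1_c1 LD2_c5 LD3_c44)) = (LP (LK LD1_c0 LD2_c40 LD3_c26)) :=
  Lre_g IH (LK LD1_c1 LD2_c5 LD3_c44) (LK LD1_c0 LD2_c40 LD3_c26) Lrfl Lrfl
theorem f139939 : Led Lsl_bt (LP (LK LD1_c2 LD2_c17 LD3_c27)) = (LP (LK LD1_c1 LD2_c5 LD3_c44)) :=
  Lre_b IH (LK LD1_c2 LD2_c17 LD3_c27) (LK LD1_c1 LD2_c5 LD3_c44) Lrfl Lrfl
theorem f139940 : Led Lsl_ct (LP (LK LD1_c2 LD2_c17 LD3_c27)) = (LP (LK LD1_c4 LD2_c40 LD3_c44)) :=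
  Lre_c IH (LK LD1_c2 LD2_c17 LD3_c27) (LK LD1_c4 LD2_c40 LD3_c44) Lrfl Lrfl
theorem f101954 : Led Lsl_gt (LP (LK LD1_c9 LD2_c16 LD3_c3)) = (LP (LK LD1_c4 LD2_c40 LD3_c44)) :=
  Lre_g IH (LK LD1_c9 LD2_c16 LD3_c3) (LK LD1_c4 LD2_c40 LD3_c44) Lrfl Lrfl
theorem f61420 : Led Lsl_bt (LP (LK LD1_c0 LD2_c42 LD3_c59)) = (LP (LK LD1_c1 LD2_c32 LD3_c47)) :=
  Lre_b IH (LK LD1_c0 LD2_c42 LD3_c59) (LK LD1_c1 LD2_c32 LD3_c47) Lrfl Lrfl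
theorem f61435 : Led Lsl_gt (LP (LK LD1_c1 LD2_c32 LD3_c47)) = (LP (LK LD1_c3 LD2_c12 LD3_c39)) :=
  Lre_g IH (LK LD1_c1 LD2_c32 LD3_c47) (LK LD1_c3 LD2_c12 LD3_c39) Lrfl Lrfl
theorem f61605 : Led Lsl_bt (LP (LK LD1_c6 LD2_c29 LD3_c28)) = (LP (LK LD1_c3 LD2_c12 LD3_c39)) :=
  Lre_b IH (LK LD1_c6 LD2_c29 LD3_c28) (LK LD1_c3 LD2_c12 LD3_c39) Lrfl Lrfl
theorem f139941 : Led Lsl_cf (LP (LK LD1_c9 LD2_c16 LD3_c3)) = (LP (LK LD1_c6 LD2_c29 LD3_c28)) :=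
  Lgr Lrot160 (Lpr_gt (f101954 IH) (Lpe (f139940 IH) (Lpr_bt (f139939 IH) (Lpr_gt (f23226 IH) (Lpr_ct (f59839 IH) (Lpr_gt (f139920 IH) (Lpe (K2.f61426 IH) (Lpr_bt (f61420 IH) (Lpr_gt (f61435 IH) (Lpe (f61605 IH) (Lpn (LP (LK LD1_c6 LD2_c29 LD3_c28)))))))))))))
theorem f101926 : Led Lsl_gt (LP (LK LD1_c4 LD2_c40 LD3_c19)) = (LP (LK LD1_c9 LD2_c16 LD3_c3)) :=
  Lre_g IH (LK LD1_c4 LD2_c40 LD3_c19) (LK LD1_c9 LD2_c16 LD3_c3) Lrfl Lrfl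
theorem f98974 : Led Lsl_ct (LP (LK LD1_c2 LD2_c17 LD3_c16)) = (LP (LK LD1_c4 LD2_c40 LD3_c19)) :=
  Lre_c IH (LK LD1_c2 LD2_c17 LD3_c16) (LK LD1_c4 LD2_c40 LD3_c19) Lrfl Lrfl
theorem f103212 : Led Lsl_bt (LP (LK LD1_c2 LD2_c17 LD3_c16)) = (LP (LK LD1_c1 LD2_c26 LD3_c57)) :=
  Lre_b IH (LK LD1_c2 LD2_c17 LD3_c16) (LK LD1_c1 LD2_c26 LD3_c57) Lrfl Lrfl
theorem f62168 : Led Lsl_gt (LP (LK LD1_c3 LD2_c1 LD3_c46)) = (LP (LK LD1_c1 LD2_c26 LD3_c57)) :=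
  Lre_g IH (LK LD1_c3 LD2_c1 LD3_c46) (LK LD1_c1 LD2_c26 LD3_c57) Lrfl Lrfl
theorem f139963 : Led Lsl_bt (LP (LK LD1_c6 LD2_c10 LD3_c20)) = (LP (LK LD1_c3 LD2_c1 LD3_c46)) :=
  Lre_b IH (LK LD1_c6 LD2_c10 LD3_c20) (LK LD1_c3 LD2_c1 LD3_c46) Lrfl Lrfl
theorem f67002 : Led Lsl_gt (LP (LK LD1_c3 LD2_c12 LD3_c39)) = (LP (LK LD1_c6 LD2_c29 LD3_c20)) :=
  Lre_g IH (LK LD1_c3 LD2_c12 LD3_c39) (LK LD1_c6 LD2_c29 LD3_c20) Lrfl Lrfl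
theorem f66992 : Led Lsl_ct (LP (LK LD1_c6 LD2_c29 LD3_c20)) = (LP (LK LD1_c12 LD2_c28 LD3_c52)) :=
  Lre_c IH (LK LD1_c6 LD2_c29 LD3_c20) (LK LD1_c12 LD2_c28 LD3_c52) Lrfl Lrfl
theorem f66996 : Led Lsl_gt (LP (LK LD1_c12 LD2_c28 LD3_c52)) = (LP (LK LD1_c6 LD2_c29 LD3_c25)) :=
  Lre_g IH (LK LD1_c12 LD2_c28 LD3_c52) (LK LD1_c6 LD2_c29 LD3_c25) Lrfl Lrfl
theorem f139964 : Led Lsl_ct (LP (LK LD1_c6 LD2_c10 LD3_c20)) = (LP (LK LD1_c6 LD2_c29 LD3_c25)) :=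
  Lgr Lrot63 (Lpr_bt (f139963 IH) (Lpr_gt (f62168 IH) (Lpe (f103212 IH) (Lpr_ct (f98974 IH) (Lpr_gt (f101926 IH) (Lpr_cf (f139941 IH) (Lpr_bt (f61605 IH) (Lpr_gt (f67002 IH) (Lpr_ct (f66992 IH) (Lpr_gt (f66996 IH) (Lpn (LP (LK LD1_c6 LD2_c29 LD3_c25)))))))))))))
theorem f62114 : Led Lsl_gt (LP (LK LD1_c1 LD2_c27 LD3_c9)) = (LP (LK LD1_c3 LD2_c1 LD3_c46)) :=
  Lre_g IH (LK LD1_c1 LD2_c27 LD3_c9) (LK LD1_c3 LD2_c1 LD3_c46) Lrfl Lrfl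
theorem f61059 : Led Lsl_bt (LP (LK LD1_c0 LD2_c40 LD3_c27)) = (LP (LK LD1_c1 LD2_c27 LD3_c9)) :=
  Lre_b IH (LK LD1_c0 LD2_c40 LD3_c27) (LK LD1_c1 LD2_c27 LD3_c9) Lrfl Lrfl
theorem f61046 : Led Lsl_ct (LP (LK LD1_c0 LD2_c40 LD3_c27)) = (LP (LK LD1_c1 LD2_c27 LD3_c18)) :=
  Lre_c IH (LK LD1_c0 LD2_c40 LD3_c27) (LK LD1_c1 LD2_c27 LD3_c18) Lrfl Lrfl
theorem f22914 : Led Lsl_gt (LP (LK LD1_c2 LD2_c17 LD3_c30)) = (LP (LK LD1_c1 LD2_c27 LD3_c18)) :=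
  Lre_g IH (LK LD1_c2 LD2_c17 LD3_c30) (LK LD1_c1 LD2_c27 LD3_c18) Lrfl Lrfl
theorem f61523 : Led Lsl_gt (LP (LK LD1_c6 LD2_c29 LD3_c25)) = (LP (LK LD1_c3 LD2_c12 LD3_c38)) :=
  Lre_g IH (LK LD1_c6 LD2_c29 LD3_c25) (LK LD1_c3 LD2_c12 LD3_c38) Lrfl Lrfl
theorem f61421 : Led Lsl_ct (LP (LK LD1_c1 LD2_c32 LD3_c47)) = (LP (LK LD1_c3 LD2_c12 LD3_c38)) :=
  Lre_c IH (LK LD1_c1 LD2_c32 LD3_c47) (LK LD1_c3 LD2_c12 LD3_c38) Lrfl Lrfl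
theorem f61507 : Led Lsl_bt (LP (LK LD1_c1 LD2_c32 LD3_c47)) = (LP (LK LD1_c0 LD2_c42 LD3_c59)) :=
  Lre_b IH (LK LD1_c1 LD2_c32 LD3_c47) (LK LD1_c0 LD2_c42 LD3_c59) Lrfl Lrfl
theorem f61021 : Led Lsl_gt (LP (LK LD1_c0 LD2_c42 LD3_c59)) = (LP (LK LD1_c1 LD2_c32 LD3_c48)) :=
  Lre_g IH (LK LD1_c0 LD2_c42 LD3_c59) (LK LD1_c1 LD2_c32 LD3_c48) Lrfl Lrfl
theorem f139974 : Led Lsl_cf (LP (LK LD1_c2 LD2_c17 LD3_c30)) = (LP (LK LD1_c1 LD2_c32 LD3_c48)) :=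
  Lgr Lrot125 (Lpr_gt (f22914 IH) (Lpe (f61046 IH) (Lpr_bt (f61059 IH) (Lpr_gt (f62114 IH) (Lpe (f139963 IH) (Lpr_ct (f139964 IH) (Lpr_gt (f61523 IH) (Lpe (f61421 IH) (Lpr_bt (f61507 IH) (Lpr_gt (f61021 IH) (Lpn (LP (LK LD1_c1 LD2_c32 LD3_c48)))))))))))))
theorem f139982 : Led Lsl_ct (LP (LK LD1_c1 LD2_c27 LD3_c18)) = (LP (LK LD1_c0 LD2_c40 LD3_c27)) :=
  Lre_c IH (LK LD1_c1 LD2_c27 LD3_c18) (LK LD1_c0 LD2_c40 LD3_c27) Lrfl Lrfl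
theorem f139983 : Led Lsl_ct (LP (LK LD1_c0 LD2_c44 LD3_c51)) = (LP (LK LD1_c0 LD2_c19 LD3_c57)) :=
  Lre_c IH (LK LD1_c0 LD2_c44 LD3_c51) (LK LD1_c0 LD2_c19 LD3_c57) Lrfl Lrfl
theorem f73763 : Led Lsl_df (LP (LK LD1_c0 LD2_c42 LD3_c59)) = (LP (LK LD1_c0 LD2_c45 LD3_c12)) :=
  Lgr Lrot38 (Lpr_dt (K2.f73751 IH) (Lpn (LP (LK LD1_c0 LD2_c45 LD3_c12))))
theorem f73769 : Led Lsl_gt (LP (LK LD1_c0 LD2_c45 LD3_c12)) = (LP (LK LD1_c1 LD2_c37 LD3_c38)) :=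
  Lre_g IH (LK LD1_c0 LD2_c45 LD3_c12) (LK LD1_c1 LD2_c37 LD3_c38) Lrfl Lrfl
theorem f139984 : Led Lsl_cf (LP (LK LD1_c1 LD2_c8 LD3_c21)) = (LP (LK LD1_c1 LD2_c37 LD3_c38)) :=
  Lgr Lrot169 (Lpr_gt (K0.f27113 IH) (Lpr_ct (f139983 IH) (Lpe (K0.f23215 IH) (Lpe (f139982 IH) (Lpe (f22914 IH) (Lpr_cf (f139974 IH) (Lpe (f61021 IH) (Lpr_df (f73763 IH) (Lpr_gt (f73769 IH) (Lpn (LP (LK LD1_c1 LD2_c37 LD3_c38))))))))))))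
theorem f27127 : Led Lsl_et (LP (LK LD1_c1 LD2_c8 LD3_c21)) = (LP (LK LD1_c2 LD2_c22 LD3_c28)) :=
  Lre_e IH (LK LD1_c1 LD2_c8 LD3_c21) (LK LD1_c2 LD2_c22 LD3_c28) Lrfl Lrfl
theorem f61027 : Led Lsl_dt (LP (LK LD1_c3 LD2_c12 LD3_c44)) = (LP (LK LD1_c1 LD2_c32 LD3_c49)) :=
  Lre_d IH (LK LD1_c3 LD2_c12 LD3_c44) (LK LD1_c1 LD2_c32 LD3_c49) Lrfl Lrfl
theorem f26008 : Led Lsl_et (LP (LK LD1_c0 LD2_c45 LD3_c12)) = (LP (LK LD1_c0 LD2_c20 LD3_c1)) :=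
  Lre_e IH (LK LD1_c0 LD2_c45 LD3_c12) (LK LD1_c0 LD2_c20 LD3_c1) Lrfl Lrfl
theorem f59486 : Led Lsl_gt (LP (LK LD1_c0 LD2_c42 LD3_c61)) = (LP (LK LD1_c1 LD2_c32 LD3_c54)) :=
  Lre_g IH (LK LD1_c0 LD2_c42 LD3_c61) (LK LD1_c1 LD2_c32 LD3_c54) Lrfl Lrfl
theorem f79708 : Led Lsl_et (LP (LK LD1_c3 LD2_c12 LD3_c44)) = (LP (LK LD1_c1 LD2_c32 LD3_c54)) :=
  Lgr Lrot122 (Lpr_dt (f61027 IH) (Lpr_gt (K8.f61017 IH) (Lpr_df (f73763 IH) (Lpr_et (f26008 IH) (Lpe (K1.f25999 IH) (Lpr_dt (K0.f25731 IH) (Lpr_gt (K0.f20963 IH) (Lpr_df (K1.f59460 IH) (Lpr_et (K1.f59481 IH) (Lpr_gt (f59486 IH) (Lpn (LP (LK LD1_c1 LD2_c32 LD3_c54)))))))))))))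
theorem f67028 : Led Lsl_gt (LP (LK LD1_c1 LD2_c29 LD3_c39)) = (LP (LK LD1_c1 LD2_c32 LD3_c49)) :=
  Lgr Lrot5 (Lpr_ft (K1.f66936 IH) (Lpr_at (K2.f66959 IH) (Lpe (K8.f61017 IH) (Lpn (LP (LK LD1_c1 LD2_c32 LD3_c49))))))
theorem f76926 : Led Lsl_gt (LP (LK LD1_c1 LD2_c37 LD3_c38)) = (LP (LK LD1_c0 LD2_c45 LD3_c37)) :=
  Lre_g IH (LK LD1_c1 LD2_c37 LD3_c38) (LK LD1_c0 LD2_c45 LD3_c37) Lrfl Lrfl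
theorem f68287 : Led Lsl_gt (LP (LK LD1_c1 LD2_c32 LD3_c54)) = (LP (LK LD1_c1 LD2_c29 LD3_c29)) :=
  Lgr Lrot46 (Lpe (f59486 IH) (Lpr_ft (K1.f66938 IH) (Lpr_at (K2.f68276 IH) (Lpn (LP (LK LD1_c1 LD2_c29 LD3_c29))))))
theorem f68293 : Led Lsl_et (LP (LK LD1_c1 LD2_c32 LD3_c50)) = (LP (LK LD1_c1 LD2_c29 LD3_c29)) :=
  Lgr Lrot87 (Lpr_ef (K2.f68284 IH) (Lpn (LP (LK LD1_c1 LD2_c29 LD3_c29))))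
theorem f73748 : Led Lsl_dt (LP (LK LD1_c1 LD2_c32 LD3_c50)) = (LP (LK LD1_c1 LD2_c37 LD3_c40)) :=
  Lgr Lrot42 (Lpr_df (K2.f73738 IH) (Lpn (LP (LK LD1_c1 LD2_c37 LD3_c40))))
theorem f13573 : Led Lsl_gt (LP (LK LD1_c1 LD2_c37 LD3_c40)) = (LP (LK LD1_c0 LD2_c45 LD3_c36)) :=
  Lre_g IH (LK LD1_c1 LD2_c37 LD3_c40) (LK LD1_c0 LD2_c45 LD3_c36) Lrfl Lrfl
theorem f13570 : Led Lsl_dt (LP (LK LD1_c1 LD2_c38 LD3_c26)) = (LP (LK LD1_c0 LD2_c45 LD3_c36)) :=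
  Lre_d IH (LK LD1_c1 LD2_c38 LD3_c26) (LK LD1_c0 LD2_c45 LD3_c36) Lrfl Lrfl
theorem f79714 : Led Lsl_ef (LP (LK LD1_c1 LD2_c37 LD3_c38)) = (LP (LK LD1_c1 LD2_c38 LD3_c26)) :=
  Lgr Lrot167 (Lpr_gt (f76926 IH) (Lpr_dt (K2.f76918 IH) (Lpr_gt (f67028 IH) (Lpe (f61027 IH) (Lpr_et (f79708 IH) (Lpr_gt (f68287 IH) (Lpe (f68293 IH) (Lpr_dt (f73748 IH) (Lpr_gt (f13573 IH) (Lpe (f13570 IH) (Lpn (LP (LK LD1_c1 LD2_c38 LD3_c26)))))))))))))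
theorem f139994 : Led Lsl_ct (LP (LK LD1_c2 LD2_c22 LD3_c28)) = (LP (LK LD1_c1 LD2_c38 LD3_c26)) :=
  Lgr Lrot15 (Lpe (f27127 IH) (Lpr_cf (f139984 IH) (Lpr_ef (f79714 IH) (Lpn (LP (LK LD1_c1 LD2_c38 LD3_c26))))))
theorem f27125 : Led Lsl_df (LP (LK LD1_c2 LD2_c22 LD3_c28)) = (LP (LK LD1_c3 LD2_c2 LD3_c40)) :=
  Lgr Lrot38 (Lpr_dt (K0.f27118 IH) (Lpn (LP (LK LD1_c3 LD2_c2 LD3_c40))))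
theorem f13574 : Led Lsl_dt (LP (LK LD1_c0 LD2_c45 LD3_c36)) = (LP (LK LD1_c1 LD2_c38 LD3_c26)) :=
  Lre_d IH (LK LD1_c0 LD2_c45 LD3_c36) (LK LD1_c1 LD2_c38 LD3_c26) Lrfl Lrfl
theorem f66976 : Led Lsl_gt (LP (LK LD1_c0 LD2_c41 LD3_c26)) = (LP (LK LD1_c1 LD2_c29 LD3_c37)) :=
  Lre_g IH (LK LD1_c0 LD2_c41 LD3_c26) (LK LD1_c1 LD2_c29 LD3_c37) Lrfl Lrfl
theorem f66977 : Led Lsl_gt (LP (LK LD1_c1 LD2_c29 LD3_c37)) = (LP (LK LD1_c1 LD2_c32 LD3_c50)) :=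
  Lgr Lrot46 (Lpe (f66976 IH) (Lpr_ft (K2.f66946 IH) (Lpr_at (K2.f66966 IH) (Lpn (LP (LK LD1_c1 LD2_c32 LD3_c50))))))
theorem f140023 : Led Lsl_cf (LP (LK LD1_c1 LD2_c27 LD3_c15)) = (LP (LK LD1_c1 LD2_c29 LD3_c37)) :=
  Lgr Lrot166 (Lpr_gt (K1.f27146 IH) (Lpr_dt (K0.f27116 IH) (Lpr_gt (K0.f27117 IH) (Lpe (f27125 IH) (Lpr_ct (f139994 IH) (Lpe (f13574 IH) (Lpe (f13573 IH) (Lpe (f73748 IH) (Lpe (f66977 IH) (Lpn (LP (LK LD1_c1 LD2_c29 LD3_c37))))))))))))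
theorem f59838 : Led Lsl_ct (LP (LK LD1_c2 LD2_c17 LD3_c33)) = (LP (LK LD1_c1 LD2_c5 LD3_c44)) :=
  Lre_c IH (LK LD1_c2 LD2_c17 LD3_c33) (LK LD1_c1 LD2_c5 LD3_c44) Lrfl Lrfl
theorem f25594 : Led Lsl_dt (LP (LK LD1_c1 LD2_c5 LD3_c44)) = (LP (LK LD1_c0 LD2_c31 LD3_c20)) :=
  Lre_d IH (LK LD1_c1 LD2_c5 LD3_c44) (LK LD1_c0 LD2_c31 LD3_c20) Lrfl Lrfl
theorem f98994 : Led Lsl_ct (LP (LK LD1_c1 LD2_c8 LD3_c24)) = (LP (LK LD1_c0 LD2_c31 LD3_c20)) :=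
  Lre_c IH (LK LD1_c1 LD2_c8 LD3_c24) (LK LD1_c0 LD2_c31 LD3_c20) Lrfl Lrfl
theorem f68324 : Led Lsl_ct (LP (LK LD1_c0 LD2_c41 LD3_c26)) = (LP (LK LD1_c1 LD2_c22 LD3_c4)) :=
  Lgr Lrot15 (Lpe (K2.f66945 IH) (Lpr_cf (K2.f68316 IH) (Lpe (K2.f20296 IH) (Lpn (LP (LK LD1_c1 LD2_c22 LD3_c4))))))
theorem f73734 : Led Lsl_df (LP (LK LD1_c0 LD2_c41 LD3_c26)) = (LP (LK LD1_c0 LD2_c20 LD3_c20)) :=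
  Lgr Lrot177 (Lpr_ct (f68324 IH) (Lpe (K2.f73633 IH) (Lpe (K2.f61431 IH) (Lpr_dt (K2.f61479 IH) (Lpr_ct (K2.f73683 IH) (Lpr_dt (K2.f73695 IH) (Lpr_ct (K2.f73702 IH) (Lpr_dt (K2.f73703 IH) (Lpr_ct (K2.f73704 IH) (Lpn (LP (LK LD1_c0 LD2_c20 LD3_c20))))))))))))
theorem f61207 : Led Lsl_gt (LP (LK LD1_c0 LD2_c20 LD3_c20)) = (LP (LK LD1_c0 LD2_c45 LD3_c35)) :=
  Lre_g IH (LK LD1_c0 LD2_c20 LD3_c20) (LK LD1_c0 LD2_c45 LD3_c35) Lrfl Lrfl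
theorem f140032 : Led Lsl_cf (LP (LK LD1_c0 LD2_c44 LD3_c48)) = (LP (LK LD1_c0 LD2_c45 LD3_c35)) :=
  Lgr Lrot169 (Lpr_gt (K0.f22928 IH) (Lpr_ct (f98994 IH) (Lpe (f25594 IH) (Lpe (f59838 IH) (Lpe (K1.f27146 IH) (Lpr_cf (f140023 IH) (Lpe (f66976 IH) (Lpr_df (f73734 IH) (Lpr_gt (f61207 IH) (Lpn (LP (LK LD1_c0 LD2_c45 LD3_c35))))))))))))
theorem f22949 : Led Lsl_df (LP (LK LD1_c3 LD2_c0 LD3_c48)) = (LP (LK LD1_c1 LD2_c36 LD3_c49)) :=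
  Lgr Lrot38 (Lpr_dt (K0.f22942 IH) (Lpn (LP (LK LD1_c1 LD2_c36 LD3_c49))))
theorem f73753 : Led Lsl_gt (LP (LK LD1_c0 LD2_c45 LD3_c35)) = (LP (LK LD1_c1 LD2_c37 LD3_c40)) :=
  Lre_g IH (LK LD1_c0 LD2_c45 LD3_c35) (LK LD1_c1 LD2_c37 LD3_c40) Lrfl Lrfl
theorem f66968 : Led Lsl_gt (LP (LK LD1_c1 LD2_c29 LD3_c38)) = (LP (LK LD1_c0 LD2_c41 LD3_c26)) :=
  Lre_g IH (LK LD1_c1 LD2_c29 LD3_c38) (LK LD1_c0 LD2_c41 LD3_c26) Lrfl Lrfl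
theorem f66969 : Led Lsl_gf (LP (LK LD1_c1 LD2_c29 LD3_c38)) = (LP (LK LD1_c1 LD2_c32 LD3_c50)) :=
  Lgr Lrot47 (Lpr_gt (f66968 IH) (Lpr_af (K2.f66957 IH) (Lpe (K2.f61490 IH) (Lpn (LP (LK LD1_c1 LD2_c32 LD3_c50))))))
theorem f61836 : Led Lsl_dt (LP (LK LD1_c0 LD2_c18 LD3_c39)) = (LP (LK LD1_c0 LD2_c41 LD3_c48)) :=
  Lre_d IH (LK LD1_c0 LD2_c18 LD3_c39) (LK LD1_c0 LD2_c41 LD3_c48) Lrfl Lrfl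
theorem f61837 : Led Lsl_gt (LP (LK LD1_c0 LD2_c41 LD3_c48)) = (LP (LK LD1_c1 LD2_c30 LD3_c33)) :=
  Lre_g IH (LK LD1_c0 LD2_c41 LD3_c48) (LK LD1_c1 LD2_c30 LD3_c33) Lrfl Lrfl
theorem f61838 : Led Lsl_dt (LP (LK LD1_c3 LD2_c8 LD3_c50)) = (LP (LK LD1_c1 LD2_c30 LD3_c33)) :=
  Lre_d IH (LK LD1_c3 LD2_c8 LD3_c50) (LK LD1_c1 LD2_c30 LD3_c33) Lrfl Lrfl
theorem f67172 : Led Lsl_et (LP (LK LD1_c0 LD2_c18 LD3_c42)) = (LP (LK LD1_c0 LD2_c41 LD3_c48)) :=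
  Lre_e IH (LK LD1_c0 LD2_c18 LD3_c42) (LK LD1_c0 LD2_c41 LD3_c48) Lrfl Lrfl
theorem f25847 : Led Lsl_et (LP (LK LD1_c0 LD2_c42 LD3_c37)) = (LP (LK LD1_c0 LD2_c19 LD3_c0)) :=
  Lre_e IH (LK LD1_c0 LD2_c42 LD3_c37) (LK LD1_c0 LD2_c19 LD3_c0) Lrfl Lrfl
theorem f25848 : Led Lsl_dt (LP (LK LD1_c0 LD2_c42 LD3_c37)) = (LP (LK LD1_c0 LD2_c18 LD3_c59)) :=
  Lre_d IH (LK LD1_c0 LD2_c42 LD3_c37) (LK LD1_c0 LD2_c18 LD3_c59) Lrfl Lrfl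
theorem f67048 : Led Lsl_gt (LP (LK LD1_c0 LD2_c42 LD3_c36)) = (LP (LK LD1_c0 LD2_c18 LD3_c59)) :=
  Lre_g IH (LK LD1_c0 LD2_c42 LD3_c36) (LK LD1_c0 LD2_c18 LD3_c59) Lrfl Lrfl
theorem f67173 : Led Lsl_dt (LP (LK LD1_c1 LD2_c32 LD3_c4)) = (LP (LK LD1_c0 LD2_c42 LD3_c36)) :=
  Lre_d IH (LK LD1_c1 LD2_c32 LD3_c4) (LK LD1_c0 LD2_c42 LD3_c36) Lrfl Lrfl
theorem f67174 : Led Lsl_ef (LP (LK LD1_c1 LD2_c30 LD3_c33)) = (LP (LK LD1_c1 LD2_c32 LD3_c4)) :=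
  Lgr Lrot17 (Lpe (f61837 IH) (Lpe (f67172 IH) (Lpr_dt (K6.f67088 IH) (Lpe (K1.f58935 IH) (Lpe (K1.f67143 IH) (Lpr_gf (K1.f67152 IH) (Lpe (f25847 IH) (Lpr_dt (f25848 IH) (Lpe (f67048 IH) (Lpe (f67173 IH) (Lpn (LP (LK LD1_c1 LD2_c32 LD3_c4)))))))))))))
theorem f67186 : Led Lsl_dt (LP (LK LD1_c1 LD2_c30 LD3_c33)) = (LP (LK LD1_c3 LD2_c8 LD3_c50)) :=
  Lre_d IH (LK LD1_c1 LD2_c30 LD3_c33) (LK LD1_c3 LD2_c8 LD3_c50) Lrfl Lrfl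
theorem f67187 : Led Lsl_dt (LP (LK LD1_c0 LD2_c42 LD3_c36)) = (LP (LK LD1_c1 LD2_c32 LD3_c4)) :=
  Lre_d IH (LK LD1_c0 LD2_c42 LD3_c36) (LK LD1_c1 LD2_c32 LD3_c4) Lrfl Lrfl
theorem f67049 : Led Lsl_et (LP (LK LD1_c1 LD2_c32 LD3_c5)) = (LP (LK LD1_c0 LD2_c42 LD3_c36)) :=
  Lre_e IH (LK LD1_c1 LD2_c32 LD3_c5) (LK LD1_c0 LD2_c42 LD3_c36) Lrfl Lrfl
theorem f67188 : Led Lsl_dt (LP (LK LD1_c3 LD2_c11 LD3_c24)) = (LP (LK LD1_c1 LD2_c32 LD3_c5)) :=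
  Lre_d IH (LK LD1_c3 LD2_c11 LD3_c24) (LK LD1_c1 LD2_c32 LD3_c5) Lrfl Lrfl
theorem f67189 : Led Lsl_et (LP (LK LD1_c3 LD2_c8 LD3_c50)) = (LP (LK LD1_c3 LD2_c11 LD3_c24)) :=
  Lgr Lrot71 (Lpe (f67186 IH) (Lpr_ef (f67174 IH) (Lpe (f67187 IH) (Lpe (f67049 IH) (Lpe (f67188 IH) (Lpn (LP (LK LD1_c3 LD2_c11 LD3_c24))))))))
theorem f67106 : Led Lsl_gt (LP (LK LD1_c0 LD2_c41 LD3_c47)) = (LP (LK LD1_c0 LD2_c18 LD3_c39)) :=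
  Lre_g IH (LK LD1_c0 LD2_c41 LD3_c47) (LK LD1_c0 LD2_c18 LD3_c39) Lrfl Lrfl
theorem f67306 : Led Lsl_et (LP (LK LD1_c1 LD2_c30 LD3_c32)) = (LP (LK LD1_c0 LD2_c41 LD3_c47)) :=
  Lre_e IH (LK LD1_c1 LD2_c30 LD3_c32) (LK LD1_c0 LD2_c41 LD3_c47) Lrfl Lrfl
theorem f67307 : Led Lsl_dt (LP (LK LD1_c1 LD2_c30 LD3_c32)) = (LP (LK LD1_c3 LD2_c8 LD3_c47)) :=
  Lre_d IH (LK LD1_c1 LD2_c30 LD3_c32) (LK LD1_c3 LD2_c8 LD3_c47) Lrfl Lrfl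
theorem f67308 : Led Lsl_gt (LP (LK LD1_c3 LD2_c6 LD3_c40)) = (LP (LK LD1_c3 LD2_c8 LD3_c47)) :=
  Lre_g IH (LK LD1_c3 LD2_c6 LD3_c40) (LK LD1_c3 LD2_c8 LD3_c47) Lrfl Lrfl
theorem f67309 : Led Lsl_dt (LP (LK LD1_c1 LD2_c29 LD3_c26)) = (LP (LK LD1_c3 LD2_c6 LD3_c40)) :=
  Lre_d IH (LK LD1_c1 LD2_c29 LD3_c26) (LK LD1_c3 LD2_c6 LD3_c40) Lrfl Lrfl
theorem f67310 : Led Lsl_et (LP (LK LD1_c1 LD2_c29 LD3_c26)) = (LP (LK LD1_c3 LD2_c6 LD3_c41)) :=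
  Lre_e IH (LK LD1_c1 LD2_c29 LD3_c26) (LK LD1_c3 LD2_c6 LD3_c41) Lrfl Lrfl
theorem f67311 : Led Lsl_gf (LP (LK LD1_c3 LD2_c6 LD3_c41)) = (LP (LK LD1_c3 LD2_c11 LD3_c24)) :=
  Lgr Lrot141 (Lpe (f67310 IH) (Lpr_dt (f67309 IH) (Lpr_gt (f67308 IH) (Lpe (f67307 IH) (Lpr_et (f67306 IH) (Lpr_gt (f67106 IH) (Lpr_dt (f61836 IH) (Lpr_gt (f61837 IH) (Lpe (f61838 IH) (Lpr_et (f67189 IH) (Lpn (LP (LK LD1_c3 LD2_c11 LD3_c24)))))))))))))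
theorem f79730 : Led Lsl_df (LP (LK LD1_c1 LD2_c29 LD3_c38)) = (LP (LK LD1_c3 LD2_c6 LD3_c41)) :=
  Lgr Lrot135 (Lpr_gt (f66968 IH) (Lpr_df (f73734 IH) (Lpr_et (K2.f61834 IH) (Lpe (K1.f61818 IH) (Lpe (K7.f61835 IH) (Lpr_dt (f61836 IH) (Lpr_gt (f61837 IH) (Lpe (f61838 IH) (Lpr_et (f67189 IH) (Lpe (f67311 IH) (Lpn (LP (LK LD1_c3 LD2_c6 LD3_c41)))))))))))))
theorem f79732 : Led Lsl_dt (LP (LK LD1_c1 LD2_c29 LD3_c38)) = (LP (LK LD1_c3 LD2_c6 LD3_c41)) :=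
  Lgr Lrot42 (Lpr_df (f79730 IH) (Lpn (LP (LK LD1_c3 LD2_c6 LD3_c41))))
theorem f140051 : Led Lsl_ct (LP (LK LD1_c3 LD2_c0 LD3_c48)) = (LP (LK LD1_c3 LD2_c6 LD3_c41)) :=
  Lgr Lrot7 (Lpr_df (f22949 IH) (Lpe (K0.f22941 IH) (Lpe (K0.f22940 IH) (Lpe (K0.f22928 IH) (Lpr_cf (f140032 IH) (Lpr_gt (f73753 IH) (Lpe (K2.f73738 IH) (Lpe (f66969 IH) (Lpr_dt (f79732 IH) (Lpn (LP (LK LD1_c3 LD2_c6 LD3_c41))))))))))))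
theorem f22951 : Led Lsl_et (LP (LK LD1_c1 LD2_c26 LD3_c11)) = (LP (LK LD1_c3 LD2_c0 LD3_c48)) :=
  Lre_e IH (LK LD1_c1 LD2_c26 LD3_c11) (LK LD1_c3 LD2_c0 LD3_c48) Lrfl Lrfl
theorem f61833 : Led Lsl_et (LP (LK LD1_c3 LD2_c6 LD3_c41)) = (LP (LK LD1_c1 LD2_c29 LD3_c26)) :=
  Lre_e IH (LK LD1_c3 LD2_c6 LD3_c41) (LK LD1_c1 LD2_c29 LD3_c26) Lrfl Lrfl
theorem f140086 : Led Lsl_cf (LP (LK LD1_c1 LD2_c26 LD3_c11)) = (LP (LK LD1_c1 LD2_c29 LD3_c26)) :=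
  Lgr Lrot39 (Lpr_et (f22951 IH) (Lpr_ct (f140051 IH) (Lpr_et (f61833 IH) (Lpn (LP (LK LD1_c1 LD2_c29 LD3_c26))))))
theorem f22985 : Led Lsl_dt (LP (LK LD1_c3 LD2_c0 LD3_c26)) = (LP (LK LD1_c2 LD2_c16 LD3_c33)) :=
  Lgr Lrot42 (Lpr_df (K0.f22970 IH) (Lpn (LP (LK LD1_c2 LD2_c16 LD3_c33))))
theorem f61208 : Led Lsl_et (LP (LK LD1_c1 LD2_c38 LD3_c24)) = (LP (LK LD1_c0 LD2_c45 LD3_c35)) :=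
  Lre_e IH (LK LD1_c1 LD2_c38 LD3_c24) (LK LD1_c0 LD2_c45 LD3_c35) Lrfl Lrfl
theorem f13560 : Led Lsl_et (LP (LK LD1_c0 LD2_c9 LD3_c9)) = (LP (LK LD1_c0 LD2_c20 LD3_c20)) :=
  Lre_e IH (LK LD1_c0 LD2_c9 LD3_c9) (LK LD1_c0 LD2_c20 LD3_c20) Lrfl Lrfl
theorem f73775 : Led Lsl_gt (LP (LK LD1_c1 LD2_c37 LD3_c39)) = (LP (LK LD1_c0 LD2_c45 LD3_c12)) :=
  Lre_g IH (LK LD1_c1 LD2_c37 LD3_c39) (LK LD1_c0 LD2_c45 LD3_c12) Lrfl Lrfl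
theorem f73776 : Led Lsl_dt (LP (LK LD1_c1 LD2_c38 LD3_c24)) = (LP (LK LD1_c1 LD2_c37 LD3_c39)) :=
  Lgr Lrot136 (Lpr_et (f61208 IH) (Lpe (f61207 IH) (Lpe (f13560 IH) (Lpr_dt (K1.f3826 IH) (Lpr_gf (K2.f23373 IH) (Lpe (K1.f23380 IH) (Lpr_gf (K1.f61009 IH) (Lpe (K2.f61006 IH) (Lpr_dt (K2.f73751 IH) (Lpe (f73775 IH) (Lpn (LP (LK LD1_c1 LD2_c37 LD3_c39)))))))))))))
theorem f73782 : Led Lsl_gt (LP (LK LD1_c0 LD2_c45 LD3_c37)) = (LP (LK LD1_c1 LD2_c37 LD3_c39)) :=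
  Lre_g IH (LK LD1_c0 LD2_c45 LD3_c37) (LK LD1_c1 LD2_c37 LD3_c39) Lrfl Lrfl
theorem f73742 : Led Lsl_at (LP (LK LD1_c0 LD2_c45 LD3_c37)) = (LP (LK LD1_c1 LD2_c37 LD3_c40)) :=
  Lre_a IH (LK LD1_c0 LD2_c45 LD3_c37) (LK LD1_c1 LD2_c37 LD3_c40) Lrfl Lrfl
theorem f73743 : Led Lsl_dt (LP (LK LD1_c1 LD2_c29 LD3_c39)) = (LP (LK LD1_c0 LD2_c45 LD3_c37)) :=
  Lgr Lrot44 (Lpr_af (K2.f66971 IH) (Lpr_df (K2.f73738 IH) (Lpe (f73742 IH) (Lpn (LP (LK LD1_c0 LD2_c45 LD3_c37))))))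
theorem f79734 : Led Lsl_gf (LP (LK LD1_c1 LD2_c32 LD3_c56)) = (LP (LK LD1_c1 LD2_c29 LD3_c26)) :=
  Lgr Lrot141 (Lpe (K2.f66916 IH) (Lpr_dt (f73743 IH) (Lpr_gt (f73782 IH) (Lpe (f73776 IH) (Lpr_et (f61208 IH) (Lpr_gt (f73753 IH) (Lpe (K2.f73738 IH) (Lpe (f66969 IH) (Lpr_df (f79730 IH) (Lpr_et (f61833 IH) (Lpn (LP (LK LD1_c1 LD2_c29 LD3_c26)))))))))))))
theorem f61771 : Led Lsl_gt (LP (LK LD1_c3 LD2_c6 LD3_c45)) = (LP (LK LD1_c1 LD2_c29 LD3_c28)) :=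
  Lre_g IH (LK LD1_c3 LD2_c6 LD3_c45) (LK LD1_c1 LD2_c29 LD3_c28) Lrfl Lrfl
theorem f67446 : Led Lsl_gf (LP (LK LD1_c3 LD2_c6 LD3_c45)) = (LP (LK LD1_c3 LD2_c11 LD3_c48)) :=
  Lgr Lrot47 (Lpr_gt (f61771 IH) (Lpr_af (K2.f67429 IH) (Lpe (K2.f67443 IH) (Lpn (LP (LK LD1_c3 LD2_c11 LD3_c48))))))
theorem f61770 : Led Lsl_et (LP (LK LD1_c0 LD2_c41 LD3_c20)) = (LP (LK LD1_c0 LD2_c18 LD3_c29)) :=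
  Lre_e IH (LK LD1_c0 LD2_c41 LD3_c20) (LK LD1_c0 LD2_c18 LD3_c29) Lrfl Lrfl
theorem f61696 : Led Lsl_dt (LP (LK LD1_c0 LD2_c41 LD3_c20)) = (LP (LK LD1_c1 LD2_c29 LD3_c28)) :=
  Lre_d IH (LK LD1_c0 LD2_c41 LD3_c20) (LK LD1_c1 LD2_c29 LD3_c28) Lrfl Lrfl
theorem f13534 : Led Lsl_dt (LP (LK LD1_c0 LD2_c20 LD3_c21)) = (LP (LK LD1_c0 LD2_c9 LD3_c10)) :=
  Lre_d IH (LK LD1_c0 LD2_c20 LD3_c21) (LK LD1_c0 LD2_c9 LD3_c10) Lrfl Lrfl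
theorem f26061 : Led Lsl_et (LP (LK LD1_c0 LD2_c20 LD3_c21)) = (LP (LK LD1_c0 LD2_c45 LD3_c38)) :=
  Lre_e IH (LK LD1_c0 LD2_c20 LD3_c21) (LK LD1_c0 LD2_c45 LD3_c38) Lrfl Lrfl
theorem f26062 : Led Lsl_gt (LP (LK LD1_c0 LD2_c45 LD3_c38)) = (LP (LK LD1_c1 LD2_c38 LD3_c29)) :=
  Lre_g IH (LK LD1_c0 LD2_c45 LD3_c38) (LK LD1_c1 LD2_c38 LD3_c29) Lrfl Lrfl
theorem f26063 : Led Lsl_et (LP (LK LD1_c3 LD2_c24 LD3_c16)) = (LP (LK LD1_c1 LD2_c38 LD3_c29)) :=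
  Lre_e IH (LK LD1_c3 LD2_c24 LD3_c16) (LK LD1_c1 LD2_c38 LD3_c29) Lrfl Lrfl
theorem f61772 : Led Lsl_df (LP (LK LD1_c3 LD2_c6 LD3_c45)) = (LP (LK LD1_c3 LD2_c24 LD3_c16)) :=
  Lgr Lrot170 (Lpr_gt (f61771 IH) (Lpe (f61696 IH) (Lpr_et (f61770 IH) (Lpr_gt (K1.f61666 IH) (Lpr_dt (K2.f26051 IH) (Lpr_gt (K0.f26023 IH) (Lpe (f13534 IH) (Lpr_et (f26061 IH) (Lpr_gt (f26062 IH) (Lpe (f26063 IH) (Lpn (LP (LK LD1_c3 LD2_c24 LD3_c16)))))))))))))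
theorem f61777 : Led Lsl_dt (LP (LK LD1_c3 LD2_c6 LD3_c45)) = (LP (LK LD1_c3 LD2_c24 LD3_c16)) :=
  Lgr Lrot42 (Lpr_df (f61772 IH) (Lpn (LP (LK LD1_c3 LD2_c24 LD3_c16))))
theorem f140093 : Led Lsl_ct (LP (LK LD1_c2 LD2_c16 LD3_c33)) = (LP (LK LD1_c3 LD2_c24 LD3_c16)) :=
  Lgr Lrot7 (Lpe (f22985 IH) (Lpe (K0.f22966 IH) (Lpe (K0.f22965 IH) (Lpe (K0.f22938 IH) (Lpr_cf (f140086 IH) (Lpe (f79734 IH) (Lpr_dt (K2.f68219 IH) (Lpe (f67446 IH) (Lpr_dt (f61777 IH) (Lpn (LP (LK LD1_c3 LD2_c24 LD3_c16))))))))))))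
theorem f22987 : Led Lsl_et (LP (LK LD1_c1 LD2_c5 LD3_c8)) = (LP (LK LD1_c2 LD2_c16 LD3_c33)) :=
  Lre_e IH (LK LD1_c1 LD2_c5 LD3_c8) (LK LD1_c2 LD2_c16 LD3_c33) Lrfl Lrfl
theorem f140099 : Led Lsl_cf (LP (LK LD1_c1 LD2_c5 LD3_c8)) = (LP (LK LD1_c1 LD2_c38 LD3_c29)) :=
  Lgr Lrot39 (Lpr_et (f22987 IH) (Lpr_ct (f140093 IH) (Lpr_et (f26063 IH) (Lpn (LP (LK LD1_c1 LD2_c38 LD3_c29))))))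
theorem f140106 : Led Lsl_ct (LP (LK LD1_c1 LD2_c5 LD3_c8)) = (LP (LK LD1_c1 LD2_c38 LD3_c29)) :=
  Lgr Lrot59 (Lpr_cf (f140099 IH) (Lpn (LP (LK LD1_c1 LD2_c38 LD3_c29))))
theorem f140147 : Led Lsl_bt (LP (LK LD1_c1 LD2_c5 LD3_c2)) = (LP (LK LD1_c0 LD2_c29 LD3_c46)) :=
  Lre_b IH (LK LD1_c1 LD2_c5 LD3_c2) (LK LD1_c0 LD2_c29 LD3_c46) Lrfl Lrfl
theorem f140148 : Led Lsl_ct (LP (LK LD1_c1 LD2_c5 LD3_c2)) = (LP (LK LD1_c2 LD2_c16 LD3_c11)) :=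
  Lre_c IH (LK LD1_c1 LD2_c5 LD3_c2) (LK LD1_c2 LD2_c16 LD3_c11) Lrfl Lrfl
theorem f100356 : Led Lsl_gt (LP (LK LD1_c4 LD2_c38 LD3_c12)) = (LP (LK LD1_c2 LD2_c16 LD3_c11)) :=
  Lre_g IH (LK LD1_c4 LD2_c38 LD3_c12) (LK LD1_c2 LD2_c16 LD3_c11) Lrfl Lrfl
theorem f140149 : Led Lsl_ct (LP (LK LD1_c9 LD2_c12 LD3_c5)) = (LP (LK LD1_c4 LD2_c38 LD3_c12)) :=
  Lre_c IH (LK LD1_c9 LD2_c12 LD3_c5) (LK LD1_c4 LD2_c38 LD3_c12) Lrfl Lrfl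
theorem f77332 : Led Lsl_bt (LP (LK LD1_c3 LD2_c8 LD3_c13)) = (LP (LK LD1_c3 LD2_c22 LD3_c53)) :=
  Lgr Lrot127 (Lpr_bf (K6.f77317 IH) (Lpn (LP (LK LD1_c3 LD2_c22 LD3_c53))))
theorem f77336 : Led Lsl_at (LP (LK LD1_c1 LD2_c30 LD3_c22)) = (LP (LK LD1_c3 LD2_c8 LD3_c13)) :=
  Lre_a IH (LK LD1_c1 LD2_c30 LD3_c22) (LK LD1_c3 LD2_c8 LD3_c13) Lrfl Lrfl
theorem f77337 : Led Lsl_bt (LP (LK LD1_c0 LD2_c41 LD3_c45)) = (LP (LK LD1_c1 LD2_c30 LD3_c22)) :=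
  Lre_b IH (LK LD1_c0 LD2_c41 LD3_c45) (LK LD1_c1 LD2_c30 LD3_c22) Lrfl Lrfl
theorem f77338 : Led Lsl_at (LP (LK LD1_c3 LD2_c22 LD3_c53)) = (LP (LK LD1_c1 LD2_c38 LD3_c14)) :=
  Lre_a IH (LK LD1_c3 LD2_c22 LD3_c53) (LK LD1_c1 LD2_c38 LD3_c14) Lrfl Lrfl
theorem f40511 : Led Lsl_bt (LP (LK LD1_c1 LD2_c38 LD3_c14)) = (LP (LK LD1_c0 LD2_c45 LD3_c38)) :=
  Lre_b IH (LK LD1_c1 LD2_c38 LD3_c14) (LK LD1_c0 LD2_c45 LD3_c38) Lrfl Lrfl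
theorem f77339 : Led Lsl_af (LP (LK LD1_c0 LD2_c41 LD3_c45)) = (LP (LK LD1_c0 LD2_c45 LD3_c38)) :=
  Lgr Lrot36 (Lpr_bt (f77337 IH) (Lpr_at (f77336 IH) (Lpr_bt (f77332 IH) (Lpr_at (f77338 IH) (Lpr_bt (f40511 IH) (Lpn (LP (LK LD1_c0 LD2_c45 LD3_c38))))))))
theorem f77347 : Led Lsl_ft (LP (LK LD1_c0 LD2_c41 LD3_c45)) = (LP (LK LD1_c1 LD2_c30 LD3_c24)) :=
  Lre_f IH (LK LD1_c0 LD2_c41 LD3_c45) (LK LD1_c1 LD2_c30 LD3_c24) Lrfl Lrfl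
theorem f40501 : Led Lsl_ft (LP (LK LD1_c1 LD2_c38 LD3_c28)) = (LP (LK LD1_c0 LD2_c45 LD3_c38)) :=
  Lre_f IH (LK LD1_c1 LD2_c38 LD3_c28) (LK LD1_c0 LD2_c45 LD3_c38) Lrfl Lrfl
theorem f77348 : Led Lsl_at (LP (LK LD1_c1 LD2_c30 LD3_c24)) = (LP (LK LD1_c1 LD2_c38 LD3_c28)) :=
  Lgr Lrot66 (Lpe (f77347 IH) (Lpr_af (f77339 IH) (Lpe (f40501 IH) (Lpn (LP (LK LD1_c1 LD2_c38 LD3_c28))))))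
theorem f77350 : Led Lsl_af (LP (LK LD1_c1 LD2_c30 LD3_c24)) = (LP (LK LD1_c1 LD2_c38 LD3_c28)) :=
  Lgr Lrot0 (Lpr_at (f77348 IH) (Lpn (LP (LK LD1_c1 LD2_c38 LD3_c28))))
theorem f77363 : Led Lsl_gf (LP (LK LD1_c1 LD2_c30 LD3_c24)) = (LP (LK LD1_c1 LD2_c38 LD3_c29)) :=
  Lgr Lrot76 (Lpr_af (f77350 IH) (Lpe (K2.f40466 IH) (Lpr_gt (f26062 IH) (Lpn (LP (LK LD1_c1 LD2_c38 LD3_c29))))))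
theorem f40489 : Led Lsl_ct (LP (LK LD1_c1 LD2_c56 LD3_c37)) = (LP (LK LD1_c1 LD2_c38 LD3_c28)) :=
  Lgr Lrot59 (Lpr_cf (K2.f40467 IH) (Lpn (LP (LK LD1_c1 LD2_c38 LD3_c28))))
theorem f77357 : Led Lsl_ct (LP (LK LD1_c1 LD2_c30 LD3_c24)) = (LP (LK LD1_c1 LD2_c11 LD3_c4)) :=
  Lgr Lrot111 (Lpr_af (f77350 IH) (Lpe (f40489 IH) (Lpr_af (K2.f40917 IH) (Lpn (LP (LK LD1_c1 LD2_c11 LD3_c4))))))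
theorem f77374 : Led Lsl_cf (LP (LK LD1_c1 LD2_c30 LD3_c24)) = (LP (LK LD1_c1 LD2_c11 LD3_c4)) :=
  Lgr Lrot11 (Lpr_ct (f77357 IH) (Lpn (LP (LK LD1_c1 LD2_c11 LD3_c4))))
theorem f77372 : Led Lsl_bt (LP (LK LD1_c1 LD2_c11 LD3_c4)) = (LP (LK LD1_c2 LD2_c27 LD3_c46)) :=
  Lre_b IH (LK LD1_c1 LD2_c11 LD3_c4) (LK LD1_c2 LD2_c27 LD3_c46) Lrfl Lrfl
theorem f77378 : Led Lsl_gt (LP (LK LD1_c2 LD2_c27 LD3_c46)) = (LP (LK LD1_c4 LD2_c59 LD3_c19)) :=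
  Lre_g IH (LK LD1_c2 LD2_c27 LD3_c46) (LK LD1_c4 LD2_c59 LD3_c19) Lrfl Lrfl
theorem f140150 : Led Lsl_bt (LP (LK LD1_c9 LD2_c12 LD3_c5)) = (LP (LK LD1_c4 LD2_c59 LD3_c19)) :=
  Lgr Lrot92 (Lpr_ct (f140149 IH) (Lpr_gt (f100356 IH) (Lpe (f140148 IH) (Lpr_bt (f140147 IH) (Lpr_gt (K0.f22998 IH) (Lpr_ct (f140106 IH) (Lpe (f77363 IH) (Lpr_cf (f77374 IH) (Lpr_bt (f77372 IH) (Lpr_gt (f77378 IH) (Lpn (LP (LK LD1_c4 LD2_c59 LD3_c19)))))))))))))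
theorem f140160 : Led Lsl_gt (LP (LK LD1_c9 LD2_c11 LD3_c0)) = (LP (LK LD1_c4 LD2_c38 LD3_c12)) :=
  Lre_g IH (LK LD1_c9 LD2_c11 LD3_c0) (LK LD1_c4 LD2_c38 LD3_c12) Lrfl Lrfl
theorem f140161 : Led Lsl_ct (LP (LK LD1_c4 LD2_c37 LD3_c45)) = (LP (LK LD1_c9 LD2_c11 LD3_c0)) :=
  Lre_c IH (LK LD1_c4 LD2_c37 LD3_c45) (LK LD1_c9 LD2_c11 LD3_c0) Lrfl Lrfl
theorem f140166 : Led Lsl_bt (LP (LK LD1_c4 LD2_c37 LD3_c45)) = (LP (LK LD1_c2 LD2_c56 LD3_c7)) :=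
  Lre_b IH (LK LD1_c4 LD2_c37 LD3_c45) (LK LD1_c2 LD2_c56 LD3_c7) Lrfl Lrfl
theorem f140167 : Led Lsl_bt (LP (LK LD1_c2 LD2_c56 LD3_c46)) = (LP (LK LD1_c1 LD2_c24 LD3_c9)) :=
  Lre_b IH (LK LD1_c2 LD2_c56 LD3_c46) (LK LD1_c1 LD2_c24 LD3_c9) Lrfl Lrfl
theorem f140168 : Led Lsl_ct (LP (LK LD1_c2 LD2_c56 LD3_c46)) = (LP (LK LD1_c6 LD2_c1 LD3_c2)) :=
  Lre_c IH (LK LD1_c2 LD2_c56 LD3_c46) (LK LD1_c6 LD2_c1 LD3_c2) Lrfl Lrfl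
theorem f40306 : Led Lsl_gt (LP (LK LD1_c4 LD2_c59 LD3_c19)) = (LP (LK LD1_c2 LD2_c27 LD3_c32)) :=
  Lre_g IH (LK LD1_c4 LD2_c59 LD3_c19) (LK LD1_c2 LD2_c27 LD3_c32) Lrfl Lrfl
theorem f40293 : Led Lsl_ct (LP (LK LD1_c2 LD2_c27 LD3_c32)) = (LP (LK LD1_c4 LD2_c59 LD3_c17)) :=
  Lre_c IH (LK LD1_c2 LD2_c27 LD3_c32) (LK LD1_c4 LD2_c59 LD3_c17) Lrfl Lrfl
theorem f140169 : Led Lsl_gf (LP (LK LD1_c6 LD2_c1 LD3_c2)) = (LP (LK LD1_c4 LD2_c59 LD3_c17)) :=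
  Lgr Lrot129 (Lpe (f140168 IH) (Lpr_bt (f140167 IH) (Lpr_gt (K5.f75884 IH) (Lpe (f140166 IH) (Lpr_ct (f140161 IH) (Lpr_gt (f140160 IH) (Lpe (f140149 IH) (Lpr_bt (f140150 IH) (Lpr_gt (f40306 IH) (Lpr_ct (f40293 IH) (Lpn (LP (LK LD1_c4 LD2_c59 LD3_c17)))))))))))))
theorem f140184 : Led Lsl_ct (LP (LK LD1_c2 LD2_c56 LD3_c7)) = (LP (LK LD1_c5 LD2_c59 LD3_c26)) :=
  Lre_c IH (LK LD1_c2 LD2_c56 LD3_c7) (LK LD1_c5 LD2_c59 LD3_c26) Lrfl Lrfl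
theorem f140185 : Led Lsl_gt (LP (LK LD1_c5 LD2_c59 LD3_c26)) = (LP (LK LD1_c2 LD2_c56 LD3_c43)) :=
  Lre_g IH (LK LD1_c5 LD2_c59 LD3_c26) (LK LD1_c2 LD2_c56 LD3_c43) Lrfl Lrfl
theorem f140186 : Led Lsl_ct (LP (LK LD1_c6 LD2_c0 LD3_c56)) = (LP (LK LD1_c2 LD2_c56 LD3_c43)) :=
  Lre_c IH (LK LD1_c6 LD2_c0 LD3_c56) (LK LD1_c2 LD2_c56 LD3_c43) Lrfl Lrfl
theorem f40289 : Led Lsl_bf (LP (LK LD1_c3 LD2_c59 LD3_c40)) = (LP (LK LD1_c2 LD2_c27 LD3_c32)) :=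
  Lgr Lrot24 (Lpr_bt (K1.f40274 IH) (Lpn (LP (LK LD1_c2 LD2_c27 LD3_c32))))
theorem f101683 : Led Lsl_gt (LP (LK LD1_c8 LD2_c0 LD3_c23)) = (LP (LK LD1_c3 LD2_c59 LD3_c40)) :=
  Lre_g IH (LK LD1_c8 LD2_c0 LD3_c23) (LK LD1_c3 LD2_c59 LD3_c40) Lrfl Lrfl
theorem f140187 : Led Lsl_bt (LP (LK LD1_c6 LD2_c0 LD3_c56)) = (LP (LK LD1_c8 LD2_c0 LD3_c23)) :=
  Lgr Lrot22 (Lpr_ct (f140186 IH) (Lpe (f140185 IH) (Lpe (f140184 IH) (Lpe (K5.f75884 IH) (Lpe (f140167 IH) (Lpr_ct (f140168 IH) (Lpr_gf (f140169 IH) (Lpe (f40293 IH) (Lpe (f40289 IH) (Lpe (f101683 IH) (Lpn (LP (LK LD1_c8 LD2_c0 LD3_c23)))))))))))))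
theorem f140227 : Led Lsl_gt (LP (LK LD1_c2 LD2_c56 LD3_c43)) = (LP (LK LD1_c1 LD2_c24 LD3_c8)) :=
  Lre_g IH (LK LD1_c2 LD2_c56 LD3_c43) (LK LD1_c1 LD2_c24 LD3_c8) Lrfl Lrfl
theorem f140228 : Led Lsl_ct (LP (LK LD1_c0 LD2_c38 LD3_c51)) = (LP (LK LD1_c1 LD2_c24 LD3_c8)) :=
  Lre_c IH (LK LD1_c0 LD2_c38 LD3_c51) (LK LD1_c1 LD2_c24 LD3_c8) Lrfl Lrfl
theorem f140229 : Led Lsl_bt (LP (LK LD1_c0 LD2_c38 LD3_c51)) = (LP (LK LD1_c0 LD2_c17 LD3_c18)) :=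
  Lre_b IH (LK LD1_c0 LD2_c38 LD3_c51) (LK LD1_c0 LD2_c17 LD3_c18) Lrfl Lrfl
theorem f23899 : Led Lsl_gt (LP (LK LD1_c0 LD2_c17 LD3_c18)) = (LP (LK LD1_c0 LD2_c38 LD3_c57)) :=
  Lre_g IH (LK LD1_c0 LD2_c17 LD3_c18) (LK LD1_c0 LD2_c38 LD3_c57) Lrfl Lrfl
theorem f140230 : Led Lsl_ct (LP (LK LD1_c0 LD2_c38 LD3_c57)) = (LP (LK LD1_c1 LD2_c24 LD3_c30)) :=
  Lre_c IH (LK LD1_c0 LD2_c38 LD3_c57) (LK LD1_c1 LD2_c24 LD3_c30) Lrfl Lrfl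
theorem f40494 : Led Lsl_gt (LP (LK LD1_c3 LD2_c59 LD3_c52)) = (LP (LK LD1_c8 LD2_c0 LD3_c23)) :=
  Lre_g IH (LK LD1_c3 LD2_c59 LD3_c52) (LK LD1_c8 LD2_c0 LD3_c23) Lrfl Lrfl
theorem f40486 : Led Lsl_bt (LP (LK LD1_c1 LD2_c56 LD3_c37)) = (LP (LK LD1_c3 LD2_c59 LD3_c52)) :=
  Lre_b IH (LK LD1_c1 LD2_c56 LD3_c37) (LK LD1_c3 LD2_c59 LD3_c52) Lrfl Lrfl
theorem f140231 : Led Lsl_gt (LP (LK LD1_c1 LD2_c24 LD3_c30)) = (LP (LK LD1_c1 LD2_c38 LD3_c28)) :=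
  Lgr Lrot149 (Lpe (f140230 IH) (Lpe (f23899 IH) (Lpe (f140229 IH) (Lpr_ct (f140228 IH) (Lpe (f140227 IH) (Lpe (f140186 IH) (Lpr_bt (f140187 IH) (Lpe (f40494 IH) (Lpe (f40486 IH) (Lpr_ct (f40489 IH) (Lpn (LP (LK LD1_c1 LD2_c38 LD3_c28)))))))))))))
theorem f140245 : Led Lsl_gt (LP (LK LD1_c0 LD2_c37 LD3_c11)) = (LP (LK LD1_c1 LD2_c20 LD3_c29)) :=
  Lre_g IH (LK LD1_c0 LD2_c37 LD3_c11) (LK LD1_c1 LD2_c20 LD3_c29) Lrfl Lrfl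
theorem f140246 : Led Lsl_ct (LP (LK LD1_c1 LD2_c20 LD3_c29)) = (LP (LK LD1_c2 LD2_c48 LD3_c43)) :=
  Lre_c IH (LK LD1_c1 LD2_c20 LD3_c29) (LK LD1_c2 LD2_c48 LD3_c43) Lrfl Lrfl
theorem f140247 : Led Lsl_gt (LP (LK LD1_c2 LD2_c48 LD3_c43)) = (LP (LK LD1_c5 LD2_c45 LD3_c54)) :=
  Lre_g IH (LK LD1_c2 LD2_c48 LD3_c43) (LK LD1_c5 LD2_c45 LD3_c54) Lrfl Lrfl
theorem f40493 : Led Lsl_dt (LP (LK LD1_c3 LD2_c59 LD3_c15)) = (LP (LK LD1_c1 LD2_c56 LD3_c37)) :=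
  Lre_d IH (LK LD1_c3 LD2_c59 LD3_c15) (LK LD1_c1 LD2_c56 LD3_c37) Lrfl Lrfl
theorem f140248 : Led Lsl_ct (LP (LK LD1_c5 LD2_c45 LD3_c54)) = (LP (LK LD1_c3 LD2_c59 LD3_c15)) :=
  Lgr Lrot110 (Lpe (f140247 IH) (Lpe (f140246 IH) (Lpe (f140245 IH) (Lpe (K1.f59813 IH) (Lpr_gt (f23899 IH) (Lpr_ct (f140230 IH) (Lpr_gt (f140231 IH) (Lpe (K2.f40467 IH) (Lpe (f40493 IH) (Lpn (LP (LK LD1_c3 LD2_c59 LD3_c15))))))))))))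
theorem f40502 : Led Lsl_ft (LP (LK LD1_c3 LD2_c59 LD3_c15)) = (LP (LK LD1_c1 LD2_c56 LD3_c20)) :=
  Lre_f IH (LK LD1_c3 LD2_c59 LD3_c15) (LK LD1_c1 LD2_c56 LD3_c20) Lrfl Lrfl
theorem f140258 : Led Lsl_ff (LP (LK LD1_c5 LD2_c45 LD3_c54)) = (LP (LK LD1_c3 LD2_c59 LD3_c12)) :=
  Lgr Lrot23 (Lpr_ct (f140248 IH) (Lpr_ft (f40502 IH) (Lpr_ct (K1.f40937 IH) (Lpn (LP (LK LD1_c3 LD2_c59 LD3_c12))))))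
theorem f140273 : Led Lsl_ft (LP (LK LD1_c5 LD2_c45 LD3_c54)) = (LP (LK LD1_c3 LD2_c59 LD3_c12)) :=
  Lgr Lrot48 (Lpr_ff (f140258 IH) (Lpn (LP (LK LD1_c3 LD2_c59 LD3_c12))))
theorem f40989 : Led Lsl_et (LP (LK LD1_c3 LD2_c59 LD3_c12)) = (LP (LK LD1_c1 LD2_c56 LD3_c19)) :=
  Lre_e IH (LK LD1_c3 LD2_c59 LD3_c12) (LK LD1_c1 LD2_c56 LD3_c19) Lrfl Lrfl
theorem f40859 : Led Lsl_ft (LP (LK LD1_c1 LD2_c56 LD3_c21)) = (LP (LK LD1_c0 LD2_c54 LD3_c59)) :=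
  Lre_f IH (LK LD1_c1 LD2_c56 LD3_c21) (LK LD1_c0 LD2_c54 LD3_c59) Lrfl Lrfl
theorem f40747 : Led Lsl_ct (LP (LK LD1_c0 LD2_c54 LD3_c59)) = (LP (LK LD1_c1 LD2_c56 LD3_c19)) :=
  Lre_c IH (LK LD1_c0 LD2_c54 LD3_c59) (LK LD1_c1 LD2_c56 LD3_c19) Lrfl Lrfl
theorem f40860 : Led Lsl_ft (LP (LK LD1_c1 LD2_c56 LD3_c19)) = (LP (LK LD1_c1 LD2_c10 LD3_c8)) :=
  Lgr Lrot4 (Lpe (f40747 IH) (Lpe (f40859 IH) (Lpr_cf (K1.f40844 IH) (Lpn (LP (LK LD1_c1 LD2_c10 LD3_c8))))))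
theorem f55352 : Led Lsl_et (LP (LK LD1_c1 LD2_c10 LD3_c8)) = (LP (LK LD1_c2 LD2_c25 LD3_c60)) :=
  Lre_e IH (LK LD1_c1 LD2_c10 LD3_c8) (LK LD1_c2 LD2_c25 LD3_c60) Lrfl Lrfl
theorem f55361 : Led Lsl_ft (LP (LK LD1_c2 LD2_c25 LD3_c60)) = (LP (LK LD1_c4 LD2_c56 LD3_c26)) :=
  Lre_f IH (LK LD1_c2 LD2_c25 LD3_c60) (LK LD1_c4 LD2_c56 LD3_c26) Lrfl Lrfl
theorem f140304 : Led Lsl_ef (LP (LK LD1_c5 LD2_c45 LD3_c54)) = (LP (LK LD1_c4 LD2_c56 LD3_c26)) :=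
  Lgr Lrot21 (Lpr_ft (f140273 IH) (Lpr_et (f40989 IH) (Lpr_ft (f40860 IH) (Lpr_et (f55352 IH) (Lpr_ft (f55361 IH) (Lpn (LP (LK LD1_c4 LD2_c56 LD3_c26))))))))
theorem f40892 : Led Lsl_et (LP (LK LD1_c3 LD2_c59 LD3_c15)) = (LP (LK LD1_c7 LD2_c59 LD3_c50)) :=
  Lre_e IH (LK LD1_c3 LD2_c59 LD3_c15) (LK LD1_c7 LD2_c59 LD3_c50) Lrfl Lrfl
theorem f140308 : Led Lsl_ct (LP (LK LD1_c7 LD2_c59 LD3_c50)) = (LP (LK LD1_c4 LD2_c56 LD3_c26)) :=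
  Lgr Lrot15 (Lpe (f40892 IH) (Lpe (f140248 IH) (Lpr_ef (f140304 IH) (Lpn (LP (LK LD1_c4 LD2_c56 LD3_c26))))))
theorem f100934 : Led Lsl_ft (LP (LK LD1_c3 LD2_c59 LD3_c16)) = (LP (LK LD1_c7 LD2_c59 LD3_c50)) :=
  Lre_f IH (LK LD1_c3 LD2_c59 LD3_c16) (LK LD1_c7 LD2_c59 LD3_c50) Lrfl Lrfl
theorem f41004 : Led Lsl_ft (LP (LK LD1_c4 LD2_c56 LD3_c26)) = (LP (LK LD1_c2 LD2_c25 LD3_c60)) :=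
  Lre_f IH (LK LD1_c4 LD2_c56 LD3_c26) (LK LD1_c2 LD2_c25 LD3_c60) Lrfl Lrfl
theorem f140316 : Led Lsl_cf (LP (LK LD1_c3 LD2_c59 LD3_c16)) = (LP (LK LD1_c2 LD2_c25 LD3_c60)) :=
  Lgr Lrot108 (Lpr_ft (f100934 IH) (Lpr_ct (f140308 IH) (Lpr_ft (f41004 IH) (Lpn (LP (LK LD1_c2 LD2_c25 LD3_c60))))))
theorem f55700 : Led Lsl_ft (LP (LK LD1_c4 LD2_c7 LD3_c27)) = (LP (LK LD1_c2 LD2_c1 LD3_c3)) :=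
  Lre_f IH (LK LD1_c4 LD2_c7 LD3_c27) (LK LD1_c2 LD2_c1 LD3_c3) Lrfl Lrfl
theorem f55701 : Led Lsl_at (LP (LK LD1_c4 LD2_c6 LD3_c6)) = (LP (LK LD1_c4 LD2_c7 LD3_c27)) :=
  Lgr Lrot66 (Lpe (K2.f55699 IH) (Lpr_af (K2.f55652 IH) (Lpe (f55700 IH) (Lpn (LP (LK LD1_c4 LD2_c7 LD3_c27))))))
theorem f55568 : Led Lsl_et (LP (LK LD1_c8 LD2_c12 LD3_c55)) = (LP (LK LD1_c4 LD2_c6 LD3_c6)) :=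
  Lre_e IH (LK LD1_c8 LD2_c12 LD3_c55) (LK LD1_c4 LD2_c6 LD3_c6) Lrfl Lrfl
theorem f55711 : Led Lsl_et (LP (LK LD1_c4 LD2_c7 LD3_c27)) = (LP (LK LD1_c8 LD2_c14 LD3_c60)) :=
  Lre_e IH (LK LD1_c4 LD2_c7 LD3_c27) (LK LD1_c8 LD2_c14 LD3_c60) Lrfl Lrfl
theorem f55712 : Led Lsl_af (LP (LK LD1_c8 LD2_c12 LD3_c55)) = (LP (LK LD1_c8 LD2_c14 LD3_c60)) :=
  Lgr Lrot50 (Lpr_et (f55568 IH) (Lpr_at (f55701 IH) (Lpr_et (f55711 IH) (Lpn (LP (LK LD1_c8 LD2_c14 LD3_c60))))))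
theorem f55552 : Led Lsl_ft (LP (LK LD1_c8 LD2_c12 LD3_c55)) = (LP (LK LD1_c4 LD2_c6 LD3_c7)) :=
  Lre_f IH (LK LD1_c8 LD2_c12 LD3_c55) (LK LD1_c4 LD2_c6 LD3_c7) Lrfl Lrfl
theorem f55721 : Led Lsl_ft (LP (LK LD1_c4 LD2_c7 LD3_c28)) = (LP (LK LD1_c8 LD2_c14 LD3_c60)) :=
  Lre_f IH (LK LD1_c4 LD2_c7 LD3_c28) (LK LD1_c8 LD2_c14 LD3_c60) Lrfl Lrfl
theorem f55722 : Led Lsl_at (LP (LK LD1_c4 LD2_c6 LD3_c7)) = (LP (LK LD1_c4 LD2_c7 LD3_c28)) :=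
  Lgr Lrot66 (Lpe (f55552 IH) (Lpr_af (f55712 IH) (Lpe (f55721 IH) (Lpn (LP (LK LD1_c4 LD2_c7 LD3_c28))))))
theorem f55495 : Led Lsl_et (LP (LK LD1_c8 LD2_c14 LD3_c38)) = (LP (LK LD1_c15 LD2_c30 LD3_c32)) :=
  Lre_e IH (LK LD1_c8 LD2_c14 LD3_c38) (LK LD1_c15 LD2_c30 LD3_c32) Lrfl Lrfl
theorem f55524 : Led Lsl_et (LP (LK LD1_c15 LD2_c27 LD3_c4)) = (LP (LK LD1_c8 LD2_c12 LD3_c46)) :=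
  Lre_e IH (LK LD1_c15 LD2_c27 LD3_c4) (LK LD1_c8 LD2_c12 LD3_c46) Lrfl Lrfl
theorem f55525 : Led Lsl_bt (LP (LK LD1_c15 LD2_c30 LD3_c32)) = (LP (LK LD1_c15 LD2_c27 LD3_c4)) :=
  Lgr Lrot119 (Lpe (f55495 IH) (Lpr_bf (K1.f55518 IH) (Lpe (f55524 IH) (Lpn (LP (LK LD1_c15 LD2_c27 LD3_c4))))))
theorem f54812 : Led Lsl_ct (LP (LK LD1_c8 LD2_c14 LD3_c39)) = (LP (LK LD1_c15 LD2_c30 LD3_c32)) :=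
  Lre_c IH (LK LD1_c8 LD2_c14 LD3_c39) (LK LD1_c15 LD2_c30 LD3_c32) Lrfl Lrfl
theorem f55537 : Led Lsl_ct (LP (LK LD1_c15 LD2_c27 LD3_c4)) = (LP (LK LD1_c8 LD2_c12 LD3_c50)) :=
  Lre_c IH (LK LD1_c15 LD2_c27 LD3_c4) (LK LD1_c8 LD2_c12 LD3_c50) Lrfl Lrfl
theorem f55538 : Led Lsl_bt (LP (LK LD1_c8 LD2_c12 LD3_c50)) = (LP (LK LD1_c4 LD2_c6 LD3_c7)) :=
  Lre_b IH (LK LD1_c8 LD2_c12 LD3_c50) (LK LD1_c4 LD2_c6 LD3_c7) Lrfl Lrfl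
theorem f55539 : Led Lsl_cf (LP (LK LD1_c4 LD2_c7 LD3_c2)) = (LP (LK LD1_c4 LD2_c6 LD3_c7)) :=
  Lgr Lrot97 (Lpr_bt (f54821 IH) (Lpr_ct (f54812 IH) (Lpr_bt (f55525 IH) (Lpr_ct (f55537 IH) (Lpr_bt (f55538 IH) (Lpn (LP (LK LD1_c4 LD2_c6 LD3_c7))))))))
theorem f55549 : Led Lsl_ct (LP (LK LD1_c4 LD2_c7 LD3_c2)) = (LP (LK LD1_c4 LD2_c6 LD3_c7)) :=
  Lgr Lrot59 (Lpr_cf (f55539 IH) (Lpn (LP (LK LD1_c4 LD2_c6 LD3_c7))))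
theorem f55336 : Led Lsl_et (LP (LK LD1_c1 LD2_c59 LD3_c59)) = (LP (LK LD1_c4 LD2_c5 LD3_c33)) :=
  Lre_e IH (LK LD1_c1 LD2_c59 LD3_c59) (LK LD1_c4 LD2_c5 LD3_c33) Lrfl Lrfl
theorem f55640 : Led Lsl_af (LP (LK LD1_c4 LD2_c7 LD3_c2)) = (LP (LK LD1_c4 LD2_c5 LD3_c33)) :=
  Lgr Lrot50 (Lpr_et (f54827 IH) (Lpr_at (K2.f55635 IH) (Lpr_et (f55336 IH) (Lpn (LP (LK LD1_c4 LD2_c5 LD3_c33))))))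
theorem f55733 : Led Lsl_cf (LP (LK LD1_c4 LD2_c5 LD3_c33)) = (LP (LK LD1_c4 LD2_c7 LD3_c28)) :=
  Lgr Lrot1 (Lpe (f55640 IH) (Lpr_ct (f55549 IH) (Lpr_at (f55722 IH) (Lpn (LP (LK LD1_c4 LD2_c7 LD3_c28))))))
theorem f55358 : Led Lsl_ft (LP (LK LD1_c4 LD2_c5 LD3_c33)) = (LP (LK LD1_c8 LD2_c11 LD3_c61)) :=
  Lre_f IH (LK LD1_c4 LD2_c5 LD3_c33) (LK LD1_c8 LD2_c11 LD3_c61) Lrfl Lrfl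
theorem f55744 : Led Lsl_ft (LP (LK LD1_c8 LD2_c14 LD3_c60)) = (LP (LK LD1_c4 LD2_c7 LD3_c28)) :=
  Lre_f IH (LK LD1_c8 LD2_c14 LD3_c60) (LK LD1_c4 LD2_c7 LD3_c28) Lrfl Lrfl
theorem f55745 : Led Lsl_ct (LP (LK LD1_c8 LD2_c11 LD3_c61)) = (LP (LK LD1_c8 LD2_c14 LD3_c60)) :=
  Lgr Lrot40 (Lpe (f55358 IH) (Lpr_cf (f55733 IH) (Lpe (f55744 IH) (Lpn (LP (LK LD1_c8 LD2_c14 LD3_c60))))))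
theorem f55749 : Led Lsl_cf (LP (LK LD1_c8 LD2_c11 LD3_c61)) = (LP (LK LD1_c8 LD2_c14 LD3_c60)) :=
  Lgr Lrot11 (Lpr_ct (f55745 IH) (Lpn (LP (LK LD1_c8 LD2_c14 LD3_c60))))
theorem f55719 : Led Lsl_at (LP (LK LD1_c8 LD2_c12 LD3_c55)) = (LP (LK LD1_c8 LD2_c14 LD3_c60)) :=
  Lgr Lrot100 (Lpr_af (f55712 IH) (Lpn (LP (LK LD1_c8 LD2_c14 LD3_c60))))
theorem f54832 : Led Lsl_ft (LP (LK LD1_c4 LD2_c7 LD3_c2)) = (LP (LK LD1_c8 LD2_c14 LD3_c43)) :=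
  Lre_f IH (LK LD1_c4 LD2_c7 LD3_c2) (LK LD1_c8 LD2_c14 LD3_c43) Lrfl Lrfl
theorem f55553 : Led Lsl_ct (LP (LK LD1_c8 LD2_c14 LD3_c43)) = (LP (LK LD1_c8 LD2_c12 LD3_c55)) :=
  Lgr Lrot40 (Lpe (f54832 IH) (Lpr_cf (f55539 IH) (Lpe (f55552 IH) (Lpn (LP (LK LD1_c8 LD2_c12 LD3_c55))))))
theorem f55751 : Led Lsl_at (LP (LK LD1_c8 LD2_c11 LD3_c61)) = (LP (LK LD1_c8 LD2_c14 LD3_c43)) :=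
  Lgr Lrot107 (Lpr_cf (f55749 IH) (Lpe (f55719 IH) (Lpe (f55553 IH) (Lpn (LP (LK LD1_c8 LD2_c14 LD3_c43))))))
theorem f54841 : Led Lsl_ft (LP (LK LD1_c8 LD2_c14 LD3_c43)) = (LP (LK LD1_c4 LD2_c7 LD3_c2)) :=
  Lre_f IH (LK LD1_c8 LD2_c14 LD3_c43) (LK LD1_c4 LD2_c7 LD3_c2) Lrfl Lrfl
theorem f55755 : Led Lsl_af (LP (LK LD1_c4 LD2_c5 LD3_c33)) = (LP (LK LD1_c4 LD2_c7 LD3_c2)) :=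
  Lgr Lrot45 (Lpr_ft (f55358 IH) (Lpr_at (f55751 IH) (Lpr_ft (f54841 IH) (Lpn (LP (LK LD1_c4 LD2_c7 LD3_c2))))))
theorem f40856 : Led Lsl_et (LP (LK LD1_c2 LD2_c25 LD3_c60)) = (LP (LK LD1_c1 LD2_c10 LD3_c8)) :=
  Lre_e IH (LK LD1_c2 LD2_c25 LD3_c60) (LK LD1_c1 LD2_c10 LD3_c8) Lrfl Lrfl
theorem f55337 : Led Lsl_dt (LP (LK LD1_c4 LD2_c5 LD3_c33)) = (LP (LK LD1_c2 LD2_c25 LD3_c60)) :=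
  Lgr Lrot77 (Lpe (f55336 IH) (Lpe (K1.f55335 IH) (Lpr_ef (K1.f55327 IH) (Lpe (K1.f40995 IH) (Lpe (f40856 IH) (Lpn (LP (LK LD1_c2 LD2_c25 LD3_c60))))))))
theorem f55757 : Led Lsl_at (LP (LK LD1_c2 LD2_c25 LD3_c60)) = (LP (LK LD1_c3 LD2_c58 LD3_c48)) :=
  Lgr Lrot51 (Lpe (f55337 IH) (Lpr_af (f55755 IH) (Lpe (f54822 IH) (Lpn (LP (LK LD1_c3 LD2_c58 LD3_c48))))))
theorem f55762 : Led Lsl_af (LP (LK LD1_c2 LD2_c25 LD3_c60)) = (LP (LK LD1_c3 LD2_c58 LD3_c48)) :=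
  Lgr Lrot0 (Lpr_at (f55757 IH) (Lpn (LP (LK LD1_c3 LD2_c58 LD3_c48))))
theorem f140319 : Led Lsl_ct (LP (LK LD1_c2 LD2_c26 LD3_c49)) = (LP (LK LD1_c3 LD2_c58 LD3_c48)) :=
  Lgr Lrot111 (Lpe (K1.f40874 IH) (Lpr_cf (f140316 IH) (Lpr_af (f55762 IH) (Lpn (LP (LK LD1_c3 LD2_c58 LD3_c48))))))
theorem f40210 : Led Lsl_bt (LP (LK LD1_c4 LD2_c57 LD3_c42)) = (LP (LK LD1_c2 LD2_c26 LD3_c49)) :=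
  Lre_b IH (LK LD1_c4 LD2_c57 LD3_c42) (LK LD1_c2 LD2_c26 LD3_c49) Lrfl Lrfl
theorem f140322 : Led Lsl_ct (LP (LK LD1_c9 LD2_c46 LD3_c9)) = (LP (LK LD1_c4 LD2_c57 LD3_c42)) :=
  Lre_c IH (LK LD1_c9 LD2_c46 LD3_c9) (LK LD1_c4 LD2_c57 LD3_c42) Lrfl Lrfl
theorem f54807 : Led Lsl_bt (LP (LK LD1_c3 LD2_c58 LD3_c48)) = (LP (LK LD1_c7 LD2_c59 LD3_c3)) :=
  Lre_b IH (LK LD1_c3 LD2_c58 LD3_c48) (LK LD1_c7 LD2_c59 LD3_c3) Lrfl Lrfl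
theorem f54824 : Led Lsl_ct (LP (LK LD1_c7 LD2_c59 LD3_c3)) = (LP (LK LD1_c15 LD2_c3 LD3_c45)) :=
  Lre_c IH (LK LD1_c7 LD2_c59 LD3_c3) (LK LD1_c15 LD2_c3 LD3_c45) Lrfl Lrfl
theorem f140323 : Led Lsl_bf (LP (LK LD1_c9 LD2_c46 LD3_c9)) = (LP (LK LD1_c15 LD2_c3 LD3_c45)) :=
  Lgr Lrot90 (Lpr_ct (f140322 IH) (Lpr_bt (f40210 IH) (Lpr_ct (f140319 IH) (Lpr_bt (f54807 IH) (Lpr_ct (f54824 IH) (Lpn (LP (LK LD1_c15 LD2_c3 LD3_c45))))))))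
theorem f140330 : Led Lsl_et (LP (LK LD1_c9 LD2_c46 LD3_c9)) = (LP (LK LD1_c4 LD2_c57 LD3_c38)) :=
  Lre_e IH (LK LD1_c9 LD2_c46 LD3_c9) (LK LD1_c4 LD2_c57 LD3_c38) Lrfl Lrfl
theorem f140331 : Led Lsl_et (LP (LK LD1_c7 LD2_c59 LD3_c2)) = (LP (LK LD1_c15 LD2_c3 LD3_c45)) :=
  Lre_e IH (LK LD1_c7 LD2_c59 LD3_c2) (LK LD1_c15 LD2_c3 LD3_c45) Lrfl Lrfl
theorem f140332 : Led Lsl_bt (LP (LK LD1_c4 LD2_c57 LD3_c38)) = (LP (LK LD1_c7 LD2_c59 LD3_c2)) :=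
  Lgr Lrot119 (Lpe (f140330 IH) (Lpr_bf (f140323 IH) (Lpe (f140331 IH) (Lpn (LP (LK LD1_c7 LD2_c59 LD3_c2))))))
theorem f140343 : Led Lsl_ft (LP (LK LD1_c2 LD2_c26 LD3_c40)) = (LP (LK LD1_c4 LD2_c57 LD3_c38)) :=
  Lre_f IH (LK LD1_c2 LD2_c26 LD3_c40) (LK LD1_c4 LD2_c57 LD3_c38) Lrfl Lrfl
theorem f140344 : Led Lsl_bt (LP (LK LD1_c4 LD2_c57 LD3_c35)) = (LP (LK LD1_c2 LD2_c26 LD3_c40)) :=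
  Lre_b IH (LK LD1_c4 LD2_c57 LD3_c35) (LK LD1_c2 LD2_c26 LD3_c40) Lrfl Lrfl
theorem f140345 : Led Lsl_ff (LP (LK LD1_c4 LD2_c57 LD3_c35)) = (LP (LK LD1_c7 LD2_c59 LD3_c2)) :=
  Lgr Lrot25 (Lpr_bt (f140344 IH) (Lpr_ft (f140343 IH) (Lpr_bt (f140332 IH) (Lpn (LP (LK LD1_c7 LD2_c59 LD3_c2))))))
theorem f140350 : Led Lsl_ct (LP (LK LD1_c4 LD2_c57 LD3_c35)) = (LP (LK LD1_c2 LD2_c26 LD3_c44)) :=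
  Lre_c IH (LK LD1_c4 LD2_c57 LD3_c35) (LK LD1_c2 LD2_c26 LD3_c44) Lrfl Lrfl
theorem f40740 : Led Lsl_ct (LP (LK LD1_c3 LD2_c58 LD3_c47)) = (LP (LK LD1_c7 LD2_c59 LD3_c2)) :=
  Lre_c IH (LK LD1_c3 LD2_c58 LD3_c47) (LK LD1_c7 LD2_c59 LD3_c2) Lrfl Lrfl
theorem f140351 : Led Lsl_ft (LP (LK LD1_c2 LD2_c26 LD3_c44)) = (LP (LK LD1_c3 LD2_c58 LD3_c47)) :=
  Lgr Lrot4 (Lpe (f140350 IH) (Lpr_ff (f140345 IH) (Lpe (f40740 IH) (Lpn (LP (LK LD1_c3 LD2_c58 LD3_c47))))))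
theorem f173627 : Led Lsl_df (LP (LK LD1_c2 LD2_c26 LD3_c44)) = (LP (LK LD1_c2 LD2_c41 LD3_c58)) :=
  Lgr Lrot78 (Lpr_ft (f140351 IH) (Lpr_dt (f54825 IH) (Lpr_ft (f173609 IH) (Lpn (LP (LK LD1_c2 LD2_c41 LD3_c58))))))
theorem f173652 : Led Lsl_dt (LP (LK LD1_c2 LD2_c26 LD3_c44)) = (LP (LK LD1_c2 LD2_c41 LD3_c58)) :=
  Lgr Lrot42 (Lpr_df (f173627 IH) (Lpn (LP (LK LD1_c2 LD2_c41 LD3_c58))))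
theorem f40981 : Led Lsl_at (LP (LK LD1_c4 LD2_c57 LD3_c48)) = (LP (LK LD1_c2 LD2_c26 LD3_c44)) :=
  Lre_a IH (LK LD1_c4 LD2_c57 LD3_c48) (LK LD1_c2 LD2_c26 LD3_c44) Lrfl Lrfl
theorem f173062 : Led Lsl_at (LP (LK LD1_c2 LD2_c41 LD3_c58)) = (LP (LK LD1_c5 LD2_c31 LD3_c29)) :=
  Lre_a IH (LK LD1_c2 LD2_c41 LD3_c58) (LK LD1_c5 LD2_c31 LD3_c29) Lrfl Lrfl
theorem f173692 : Led Lsl_df (LP (LK LD1_c4 LD2_c57 LD3_c48)) = (LP (LK LD1_c5 LD2_c31 LD3_c29)) :=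
  Lgr Lrot18 (Lpr_at (f40981 IH) (Lpr_dt (f173652 IH) (Lpr_at (f173062 IH) (Lpn (LP (LK LD1_c5 LD2_c31 LD3_c29))))))
theorem f140360 : Led Lsl_ft (LP (LK LD1_c4 LD2_c57 LD3_c35)) = (LP (LK LD1_c7 LD2_c59 LD3_c2)) :=
  Lgr Lrot48 (Lpr_ff (f140345 IH) (Lpn (LP (LK LD1_c7 LD2_c59 LD3_c2))))
theorem f140366 : Led Lsl_ct (LP (LK LD1_c2 LD2_c26 LD3_c44)) = (LP (LK LD1_c4 LD2_c57 LD3_c35)) :=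
  Lre_c IH (LK LD1_c2 LD2_c26 LD3_c44) (LK LD1_c4 LD2_c57 LD3_c35) Lrfl Lrfl
theorem f140338 : Led Lsl_ct (LP (LK LD1_c7 LD2_c59 LD3_c2)) = (LP (LK LD1_c3 LD2_c58 LD3_c47)) :=
  Lre_c IH (LK LD1_c7 LD2_c59 LD3_c2) (LK LD1_c3 LD2_c58 LD3_c47) Lrfl Lrfl
theorem f140367 : Led Lsl_ff (LP (LK LD1_c2 LD2_c26 LD3_c44)) = (LP (LK LD1_c3 LD2_c58 LD3_c47)) :=
  Lgr Lrot23 (Lpr_ct (f140366 IH) (Lpr_ft (f140360 IH) (Lpr_ct (f140338 IH) (Lpn (LP (LK LD1_c3 LD2_c58 LD3_c47))))))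
theorem f40986 : Led Lsl_at (LP (LK LD1_c2 LD2_c26 LD3_c44)) = (LP (LK LD1_c4 LD2_c57 LD3_c48)) :=
  Lre_a IH (LK LD1_c2 LD2_c26 LD3_c44) (LK LD1_c4 LD2_c57 LD3_c48) Lrfl Lrfl
theorem f140417 : Led Lsl_at (LP (LK LD1_c7 LD2_c59 LD3_c0)) = (LP (LK LD1_c3 LD2_c58 LD3_c47)) :=
  Lre_a IH (LK LD1_c7 LD2_c59 LD3_c0) (LK LD1_c3 LD2_c58 LD3_c47) Lrfl Lrfl
theorem f140418 : Led Lsl_ft (LP (LK LD1_c4 LD2_c57 LD3_c48)) = (LP (LK LD1_c7 LD2_c59 LD3_c0)) :=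
  Lgr Lrot101 (Lpe (f40986 IH) (Lpr_ff (f140367 IH) (Lpe (f140417 IH) (Lpn (LP (LK LD1_c7 LD2_c59 LD3_c0))))))
theorem f54781 : Led Lsl_dt (LP (LK LD1_c7 LD2_c59 LD3_c0)) = (LP (LK LD1_c3 LD2_c58 LD3_c46)) :=
  Lre_d IH (LK LD1_c7 LD2_c59 LD3_c0) (LK LD1_c3 LD2_c58 LD3_c46) Lrfl Lrfl
theorem f173701 : Led Lsl_ft (LP (LK LD1_c3 LD2_c58 LD3_c46)) = (LP (LK LD1_c5 LD2_c31 LD3_c29)) :=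
  Lgr Lrot54 (Lpe (f54781 IH) (Lpe (f140418 IH) (Lpr_df (f173692 IH) (Lpn (LP (LK LD1_c5 LD2_c31 LD3_c29))))))
theorem f173060 : Led Lsl_at (LP (LK LD1_c4 LD2_c56 LD3_c10)) = (LP (LK LD1_c2 LD2_c25 LD3_c59)) :=
  Lre_a IH (LK LD1_c4 LD2_c56 LD3_c10) (LK LD1_c2 LD2_c25 LD3_c59) Lrfl Lrfl
theorem f173063 : Led Lsl_bf (LP (LK LD1_c4 LD2_c56 LD3_c10)) = (LP (LK LD1_c5 LD2_c31 LD3_c29)) :=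
  Lgr Lrot81 (Lpr_at (f173060 IH) (Lpr_bt (K1.f41024 IH) (Lpr_at (f173034 IH) (Lpr_bt (f173061 IH) (Lpr_at (f173062 IH) (Lpn (LP (LK LD1_c5 LD2_c31 LD3_c29))))))))
theorem f173705 : Led Lsl_ft (LP (LK LD1_c4 LD2_c56 LD3_c10)) = (LP (LK LD1_c2 LD2_c25 LD3_c57)) :=
  Lre_f IH (LK LD1_c4 LD2_c56 LD3_c10) (LK LD1_c2 LD2_c25 LD3_c57) Lrfl Lrfl
theorem f173706 : Led Lsl_bf (LP (LK LD1_c3 LD2_c58 LD3_c46)) = (LP (LK LD1_c2 LD2_c25 LD3_c57)) :=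
  Lgr Lrot61 (Lpr_ft (f173701 IH) (Lpe (f173063 IH) (Lpr_ft (f173705 IH) (Lpn (LP (LK LD1_c2 LD2_c25 LD3_c57))))))
theorem f169319 : Led Lsl_ct (LP (LK LD1_c2 LD2_c25 LD3_c57)) = (LP (LK LD1_c4 LD2_c55 LD3_c42)) :=
  Lre_c IH (LK LD1_c2 LD2_c25 LD3_c57) (LK LD1_c4 LD2_c55 LD3_c42) Lrfl Lrfl
theorem f169273 : Led Lsl_gt (LP (LK LD1_c1 LD2_c10 LD3_c9)) = (LP (LK LD1_c1 LD2_c2 LD3_c58)) :=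
  Lgr Lrot5 (Lpr_ft (K1.f41003 IH) (Lpe (K1.f41049 IH) (Lpr_gf (f167787 IH) (Lpn (LP (LK LD1_c1 LD2_c2 LD3_c58))))))
theorem f41027 : Led Lsl_ct (LP (LK LD1_c2 LD2_c25 LD3_c59)) = (LP (LK LD1_c4 LD2_c55 LD3_c44)) :=
  Lre_c IH (LK LD1_c2 LD2_c25 LD3_c59) (LK LD1_c4 LD2_c55 LD3_c44) Lrfl Lrfl
theorem f169281 : Led Lsl_ct (LP (LK LD1_c1 LD2_c2 LD3_c58)) = (LP (LK LD1_c0 LD2_c28 LD3_c42)) :=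
  Lre_c IH (LK LD1_c1 LD2_c2 LD3_c58) (LK LD1_c0 LD2_c28 LD3_c42) Lrfl Lrfl
theorem f8559 : Led Lsl_ct (LP (LK LD1_c0 LD2_c28 LD3_c43)) = (LP (LK LD1_c0 LD2_c12 LD3_c40)) :=
  Lre_c IH (LK LD1_c0 LD2_c28 LD3_c43) (LK LD1_c0 LD2_c12 LD3_c40) Lrfl Lrfl
theorem f169304 : Led Lsl_bt (LP (LK LD1_c0 LD2_c28 LD3_c43)) = (LP (LK LD1_c1 LD2_c3 LD3_c0)) :=
  Lre_b IH (LK LD1_c0 LD2_c28 LD3_c43) (LK LD1_c1 LD2_c3 LD3_c0) Lrfl Lrfl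
theorem f169305 : Led Lsl_gt (LP (LK LD1_c1 LD2_c3 LD3_c0)) = (LP (LK LD1_c2 LD2_c12 LD3_c10)) :=
  Lre_g IH (LK LD1_c1 LD2_c3 LD3_c0) (LK LD1_c2 LD2_c12 LD3_c10) Lrfl Lrfl
theorem f169306 : Led Lsl_bt (LP (LK LD1_c4 LD2_c30 LD3_c21)) = (LP (LK LD1_c2 LD2_c12 LD3_c10)) :=
  Lre_b IH (LK LD1_c4 LD2_c30 LD3_c21) (LK LD1_c2 LD2_c12 LD3_c10) Lrfl Lrfl
theorem f169307 : Led Lsl_ct (LP (LK LD1_c4 LD2_c30 LD3_c21)) = (LP (LK LD1_c8 LD2_c58 LD3_c57)) :=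
  Lre_c IH (LK LD1_c4 LD2_c30 LD3_c21) (LK LD1_c8 LD2_c58 LD3_c57) Lrfl Lrfl
theorem f169308 : Led Lsl_gf (LP (LK LD1_c4 LD2_c55 LD3_c44)) = (LP (LK LD1_c8 LD2_c58 LD3_c57)) :=
  Lgr Lrot126 (Lpe (f41027 IH) (Lpr_bt (K1.f41024 IH) (Lpr_gt (f169273 IH) (Lpr_ct (f169281 IH) (Lpr_gt (f20642 IH) (Lpe (f8559 IH) (Lpr_bt (f169304 IH) (Lpr_gt (f169305 IH) (Lpe (f169306 IH) (Lpr_ct (f169307 IH) (Lpn (LP (LK LD1_c8 LD2_c58 LD3_c57)))))))))))))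
theorem f41030 : Led Lsl_at (LP (LK LD1_c9 LD2_c43 LD3_c2)) = (LP (LK LD1_c4 LD2_c55 LD3_c44)) :=
  Lre_a IH (LK LD1_c9 LD2_c43 LD3_c2) (LK LD1_c4 LD2_c55 LD3_c44) Lrfl Lrfl
theorem f41031 : Led Lsl_ft (LP (LK LD1_c4 LD2_c55 LD3_c42)) = (LP (LK LD1_c9 LD2_c43 LD3_c2)) :=
  Lre_f IH (LK LD1_c4 LD2_c55 LD3_c42) (LK LD1_c9 LD2_c43 LD3_c2) Lrfl Lrfl
theorem f169311 : Led Lsl_gt (LP (LK LD1_c4 LD2_c55 LD3_c42)) = (LP (LK LD1_c8 LD2_c58 LD3_c57)) :=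
  Lgr Lrot5 (Lpr_ft (f41031 IH) (Lpr_at (f41030 IH) (Lpr_gf (f169308 IH) (Lpn (LP (LK LD1_c8 LD2_c58 LD3_c57))))))
theorem f169322 : Led Lsl_gt (LP (LK LD1_c2 LD2_c12 LD3_c10)) = (LP (LK LD1_c4 LD2_c30 LD3_c19)) :=
  Lre_g IH (LK LD1_c2 LD2_c12 LD3_c10) (LK LD1_c4 LD2_c30 LD3_c19) Lrfl Lrfl
theorem f169327 : Led Lsl_ct (LP (LK LD1_c4 LD2_c30 LD3_c19)) = (LP (LK LD1_c8 LD2_c55 LD3_c5)) :=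
  Lre_c IH (LK LD1_c4 LD2_c30 LD3_c19) (LK LD1_c8 LD2_c55 LD3_c5) Lrfl Lrfl
theorem f169328 : Led Lsl_gt (LP (LK LD1_c8 LD2_c55 LD3_c5)) = (LP (LK LD1_c4 LD2_c28 LD3_c31)) :=
  Lre_g IH (LK LD1_c8 LD2_c55 LD3_c5) (LK LD1_c4 LD2_c28 LD3_c31) Lrfl Lrfl
theorem f168801 : Led Lsl_ct (LP (LK LD1_c8 LD2_c55 LD3_c13)) = (LP (LK LD1_c4 LD2_c28 LD3_c31)) :=
  Lre_c IH (LK LD1_c8 LD2_c55 LD3_c13) (LK LD1_c4 LD2_c28 LD3_c31) Lrfl Lrfl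
theorem f174055 : Led Lsl_bt (LP (LK LD1_c8 LD2_c55 LD3_c13)) = (LP (LK LD1_c5 LD2_c31 LD3_c27)) :=
  Lgr Lrot22 (Lpr_ct (f168801 IH) (Lpe (f169328 IH) (Lpe (f169327 IH) (Lpe (f169322 IH) (Lpe (f169306 IH) (Lpr_ct (f169307 IH) (Lpe (f169311 IH) (Lpe (f169319 IH) (Lpe (f173706 IH) (Lpr_gf (f174051 IH) (Lpn (LP (LK LD1_c5 LD2_c31 LD3_c27)))))))))))))
theorem f174071 : Led Lsl_bt (LP (LK LD1_c4 LD2_c30 LD3_c19)) = (LP (LK LD1_c2 LD2_c42 LD3_c59)) :=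
  Lre_b IH (LK LD1_c4 LD2_c30 LD3_c19) (LK LD1_c2 LD2_c42 LD3_c59) Lrfl Lrfl
theorem f172986 : Led Lsl_gt (LP (LK LD1_c1 LD2_c17 LD3_c60)) = (LP (LK LD1_c2 LD2_c42 LD3_c59)) :=
  Lre_g IH (LK LD1_c1 LD2_c17 LD3_c60) (LK LD1_c2 LD2_c42 LD3_c59) Lrfl Lrfl
theorem f174072 : Led Lsl_bt (LP (LK LD1_c2 LD2_c42 LD3_c61)) = (LP (LK LD1_c1 LD2_c17 LD3_c60)) :=
  Lre_b IH (LK LD1_c2 LD2_c42 LD3_c61) (LK LD1_c1 LD2_c17 LD3_c60) Lrfl Lrfl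
theorem f174073 : Led Lsl_ct (LP (LK LD1_c2 LD2_c42 LD3_c61)) = (LP (LK LD1_c5 LD2_c33 LD3_c52)) :=
  Lre_c IH (LK LD1_c2 LD2_c42 LD3_c61) (LK LD1_c5 LD2_c33 LD3_c52) Lrfl Lrfl
theorem f174074 : Led Lsl_gf (LP (LK LD1_c5 LD2_c33 LD3_c52)) = (LP (LK LD1_c7 LD2_c58 LD3_c34)) :=
  Lgr Lrot129 (Lpe (f174073 IH) (Lpr_bt (f174072 IH) (Lpr_gt (f172986 IH) (Lpe (f174071 IH) (Lpr_ct (f169327 IH) (Lpr_gt (f169328 IH) (Lpe (f168801 IH) (Lpr_bt (f174055 IH) (Lpe (f174051 IH) (Lpr_ct (K1.f54755 IH) (Lpn (LP (LK LD1_c7 LD2_c58 LD3_c34)))))))))))))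
theorem f54773 : Led Lsl_ft (LP (LK LD1_c8 LD2_c14 LD3_c27)) = (LP (LK LD1_c4 LD2_c6 LD3_c61)) :=
  Lre_f IH (LK LD1_c8 LD2_c14 LD3_c27) (LK LD1_c4 LD2_c6 LD3_c61) Lrfl Lrfl
theorem f54774 : Led Lsl_et (LP (LK LD1_c15 LD2_c30 LD3_c10)) = (LP (LK LD1_c8 LD2_c14 LD3_c27)) :=
  Lre_e IH (LK LD1_c15 LD2_c30 LD3_c10) (LK LD1_c8 LD2_c14 LD3_c27) Lrfl Lrfl
theorem f173704 : Led Lsl_et (LP (LK LD1_c5 LD2_c31 LD3_c29)) = (LP (LK LD1_c10 LD2_c54 LD3_c37)) :=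
  Lre_e IH (LK LD1_c5 LD2_c31 LD3_c29) (LK LD1_c10 LD2_c54 LD3_c37) Lrfl Lrfl
theorem f173710 : Led Lsl_ff (LP (LK LD1_c15 LD2_c30 LD3_c10)) = (LP (LK LD1_c10 LD2_c54 LD3_c37)) :=
  Lgr Lrot72 (Lpr_et (f54774 IH) (Lpr_ft (f54773 IH) (Lpe (K1.f54757 IH) (Lpr_ft (f173701 IH) (Lpr_et (f173704 IH) (Lpn (LP (LK LD1_c10 LD2_c54 LD3_c37))))))))
theorem f173617 : Led Lsl_ct (LP (LK LD1_c15 LD2_c30 LD3_c10)) = (LP (LK LD1_c25 LD2_c21 LD3_c51)) :=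
  Lre_c IH (LK LD1_c15 LD2_c30 LD3_c10) (LK LD1_c25 LD2_c21 LD3_c51) Lrfl Lrfl
theorem f173720 : Led Lsl_ct (LP (LK LD1_c19 LD2_c42 LD3_c41)) = (LP (LK LD1_c10 LD2_c54 LD3_c37)) :=
  Lre_c IH (LK LD1_c19 LD2_c42 LD3_c41) (LK LD1_c10 LD2_c54 LD3_c37) Lrfl Lrfl
theorem f173721 : Led Lsl_ft (LP (LK LD1_c25 LD2_c21 LD3_c51)) = (LP (LK LD1_c19 LD2_c42 LD3_c41)) :=
  Lgr Lrot4 (Lpe (f173617 IH) (Lpr_ff (f173710 IH) (Lpe (f173720 IH) (Lpn (LP (LK LD1_c19 LD2_c42 LD3_c41))))))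
theorem f173736 : Led Lsl_ff (LP (LK LD1_c25 LD2_c21 LD3_c51)) = (LP (LK LD1_c19 LD2_c42 LD3_c41)) :=
  Lgr Lrot3 (Lpr_ft (f173721 IH) (Lpn (LP (LK LD1_c19 LD2_c42 LD3_c41))))
theorem f54914 : Led Lsl_et (LP (LK LD1_c25 LD2_c21 LD3_c51)) = (LP (LK LD1_c15 LD2_c29 LD3_c8)) :=
  Lre_e IH (LK LD1_c25 LD2_c21 LD3_c51) (LK LD1_c15 LD2_c29 LD3_c8) Lrfl Lrfl
theorem f54913 : Led Lsl_ft (LP (LK LD1_c15 LD2_c29 LD3_c8)) = (LP (LK LD1_c8 LD2_c13 LD3_c57)) :=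
  Lre_f IH (LK LD1_c15 LD2_c29 LD3_c8) (LK LD1_c8 LD2_c13 LD3_c57) Lrfl Lrfl
theorem f54736 : Led Lsl_bt (LP (LK LD1_c7 LD2_c58 LD3_c34)) = (LP (LK LD1_c15 LD2_c1 LD3_c9)) :=
  Lre_b IH (LK LD1_c7 LD2_c58 LD3_c34) (LK LD1_c15 LD2_c1 LD3_c9) Lrfl Lrfl
theorem f54737 : Led Lsl_bt (LP (LK LD1_c15 LD2_c27 LD3_c37)) = (LP (LK LD1_c8 LD2_c13 LD3_c57)) :=
  Lre_b IH (LK LD1_c15 LD2_c27 LD3_c37) (LK LD1_c8 LD2_c13 LD3_c57) Lrfl Lrfl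
theorem f54738 : Led Lsl_ef (LP (LK LD1_c7 LD2_c58 LD3_c34)) = (LP (LK LD1_c8 LD2_c13 LD3_c57)) :=
  Lgr Lrot29 (Lpr_bt (f54736 IH) (Lpr_et (K1.f54719 IH) (Lpr_bt (f54737 IH) (Lpn (LP (LK LD1_c8 LD2_c13 LD3_c57))))))
theorem f173747 : Led Lsl_et (LP (LK LD1_c10 LD2_c54 LD3_c36)) = (LP (LK LD1_c19 LD2_c42 LD3_c41)) :=
  Lre_e IH (LK LD1_c10 LD2_c54 LD3_c36) (LK LD1_c19 LD2_c42 LD3_c41) Lrfl Lrfl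
theorem f173748 : Led Lsl_ft (LP (LK LD1_c7 LD2_c58 LD3_c34)) = (LP (LK LD1_c10 LD2_c54 LD3_c36)) :=
  Lgr Lrot86 (Lpr_ef (f54738 IH) (Lpe (f54913 IH) (Lpe (f54914 IH) (Lpr_ff (f173736 IH) (Lpe (f173747 IH) (Lpn (LP (LK LD1_c10 LD2_c54 LD3_c36))))))))
theorem f173696 : Led Lsl_at (LP (LK LD1_c10 LD2_c54 LD3_c36)) = (LP (LK LD1_c5 LD2_c31 LD3_c30)) :=
  Lre_a IH (LK LD1_c10 LD2_c54 LD3_c36) (LK LD1_c5 LD2_c31 LD3_c30) Lrfl Lrfl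
theorem f174076 : Led Lsl_gt (LP (LK LD1_c5 LD2_c33 LD3_c52)) = (LP (LK LD1_c5 LD2_c31 LD3_c30)) :=
  Lgr Lrot46 (Lpr_gf (f174074 IH) (Lpr_ft (f173748 IH) (Lpr_at (f173696 IH) (Lpn (LP (LK LD1_c5 LD2_c31 LD3_c30))))))
theorem f174104 : Led Lsl_gt (LP (LK LD1_c0 LD2_c35 LD3_c60)) = (LP (LK LD1_c1 LD2_c17 LD3_c60)) :=
  Lre_g IH (LK LD1_c0 LD2_c35 LD3_c60) (LK LD1_c1 LD2_c17 LD3_c60) Lrfl Lrfl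
theorem f174105 : Led Lsl_bt (LP (LK LD1_c0 LD2_c16 LD3_c2)) = (LP (LK LD1_c0 LD2_c35 LD3_c60)) :=
  Lre_b IH (LK LD1_c0 LD2_c16 LD3_c2) (LK LD1_c0 LD2_c35 LD3_c60) Lrfl Lrfl
theorem f171862 : Led Lsl_ct (LP (LK LD1_c0 LD2_c16 LD3_c2)) = (LP (LK LD1_c0 LD2_c7 LD3_c12)) :=
  Lre_c IH (LK LD1_c0 LD2_c16 LD3_c2) (LK LD1_c0 LD2_c7 LD3_c12) Lrfl Lrfl
theorem f173076 : Led Lsl_ct (LP (LK LD1_c2 LD2_c41 LD3_c58)) = (LP (LK LD1_c5 LD2_c31 LD3_c30)) :=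
  Lre_c IH (LK LD1_c2 LD2_c41 LD3_c58) (LK LD1_c5 LD2_c31 LD3_c30) Lrfl Lrfl
theorem f173624 : Led Lsl_bt (LP (LK LD1_c2 LD2_c41 LD3_c58)) = (LP (LK LD1_c1 LD2_c17 LD3_c37)) :=
  Lre_b IH (LK LD1_c2 LD2_c41 LD3_c58) (LK LD1_c1 LD2_c17 LD3_c37) Lrfl Lrfl
theorem f174106 : Led Lsl_gf (LP (LK LD1_c0 LD2_c35 LD3_c56)) = (LP (LK LD1_c1 LD2_c17 LD3_c37)) :=
  Lgr Lrot181 (Lpr_ct (f168095 IH) (Lpr_gt (f168089 IH) (Lpe (f171862 IH) (Lpr_bt (f174105 IH) (Lpr_gt (f174104 IH) (Lpe (f174072 IH) (Lpr_ct (f174073 IH) (Lpr_gt (f174076 IH) (Lpe (f173076 IH) (Lpr_bt (f173624 IH) (Lpn (LP (LK LD1_c1 LD2_c17 LD3_c37)))))))))))))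
theorem f40750 : Led Lsl_ct (LP (LK LD1_c0 LD2_c14 LD3_c32)) = (LP (LK LD1_c0 LD2_c6 LD3_c44)) :=
  Lre_c IH (LK LD1_c0 LD2_c14 LD3_c32) (LK LD1_c0 LD2_c6 LD3_c44) Lrfl Lrfl
theorem f40753 : Led Lsl_dt (LP (LK LD1_c1 LD2_c56 LD3_c19)) = (LP (LK LD1_c1 LD2_c10 LD3_c9)) :=
  Lgr Lrot173 (Lpe (f40747 IH) (Lpe (f35536 IH) (Lpe (K1.f28391 IH) (Lpe (K1.f6812 IH) (Lpe (K1.f28388 IH) (Lpe (K1.f28389 IH) (Lpe (K1.f40734 IH) (Lpe (K1.f40735 IH) (Lpr_cf (K1.f40737 IH) (Lpe (K1.f40736 IH) (Lpe (K1.f40748 IH) (Lpe (K1.f40749 IH) (Lpe (f40750 IH) (Lpe (f40751 IH) (Lpe (f40752 IH) (Lpn (LP (LK LD1_c1 LD2_c10 LD3_c9))))))))))))))))))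
theorem f173067 : Led Lsl_df (LP (LK LD1_c1 LD2_c10 LD3_c38)) = (LP (LK LD1_c1 LD2_c17 LD3_c37)) :=
  Lgr Lrot18 (Lpe (K1.f40973 IH) (Lpr_dt (f40753 IH) (Lpr_at (f173034 IH) (Lpn (LP (LK LD1_c1 LD2_c17 LD3_c37))))))
theorem f175085 : Led Lsl_gt (LP (LK LD1_c1 LD2_c10 LD3_c38)) = (LP (LK LD1_c1 LD2_c17 LD3_c26)) :=
  Lgr Lrot9 (Lpr_df (f173067 IH) (Lpe (f174106 IH) (Lpr_ct (f168095 IH) (Lpr_gt (f168089 IH) (Lpr_ct (f174112 IH) (Lpe (f172325 IH) (Lpe (f168298 IH) (Lpe (f172555 IH) (Lpr_cf (f174970 IH) (Lpn (LP (LK LD1_c1 LD2_c17 LD3_c26))))))))))))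
theorem f40846 : Led Lsl_at (LP (LK LD1_c1 LD2_c56 LD3_c7)) = (LP (LK LD1_c1 LD2_c10 LD3_c8)) :=
  Lgr Lrot107 (Lpr_cf (K1.f40737 IH) (Lpe (f40190 IH) (Lpr_cf (K1.f40844 IH) (Lpn (LP (LK LD1_c1 LD2_c10 LD3_c8))))))
theorem f40998 : Led Lsl_ft (LP (LK LD1_c1 LD2_c10 LD3_c38)) = (LP (LK LD1_c1 LD2_c56 LD3_c7)) :=
  Lgr Lrot101 (Lpe (K1.f40977 IH) (Lpr_ff (K1.f40996 IH) (Lpe (f40846 IH) (Lpn (LP (LK LD1_c1 LD2_c56 LD3_c7))))))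
theorem f175243 : Led Lsl_gf (LP (LK LD1_c1 LD2_c10 LD3_c8)) = (LP (LK LD1_c1 LD2_c17 LD3_c26)) :=
  Lgr Lrot76 (Lpe (f40846 IH) (Lpe (f40998 IH) (Lpr_gt (f175085 IH) (Lpn (LP (LK LD1_c1 LD2_c17 LD3_c26))))))
theorem f175080 : Led Lsl_ct (LP (LK LD1_c0 LD2_c37 LD3_c8)) = (LP (LK LD1_c1 LD2_c17 LD3_c26)) :=
  Lgr Lrot59 (Lpr_cf (f174970 IH) (Lpn (LP (LK LD1_c1 LD2_c17 LD3_c26))))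
theorem f68576 : Led Lsl_gt (LP (LK LD1_c0 LD2_c7 LD3_c23)) = (LP (LK LD1_c0 LD2_c16 LD3_c30)) :=
  Lre_g IH (LK LD1_c0 LD2_c7 LD3_c23) (LK LD1_c0 LD2_c16 LD3_c30) Lrfl Lrfl
theorem f174957 : Led Lsl_cf (LP (LK LD1_c0 LD2_c14 LD3_c39)) = (LP (LK LD1_c0 LD2_c16 LD3_c30)) :=
  Lgr Lrot11 (Lpr_ct (f174953 IH) (Lpn (LP (LK LD1_c0 LD2_c16 LD3_c30))))
theorem f175275 : Led Lsl_gf (LP (LK LD1_c0 LD2_c24 LD3_c54)) = (LP (LK LD1_c0 LD2_c14 LD3_c39)) :=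
  Lgr Lrot104 (Lpr_ct (f40867 IH) (Lpe (K1.f40841 IH) (Lpr_cf (K1.f40844 IH) (Lpr_gf (f175243 IH) (Lpe (f175080 IH) (Lpe (f172426 IH) (Lpe (f22480 IH) (Lpr_gt (f68576 IH) (Lpe (f174957 IH) (Lpn (LP (LK LD1_c0 LD2_c14 LD3_c39))))))))))))
theorem f56536 : Led Lsl_ct (LP (LK LD1_c0 LD2_c14 LD3_c37)) = (LP (LK LD1_c0 LD2_c32 LD3_c37)) :=
  Lre_c IH (LK LD1_c0 LD2_c14 LD3_c37) (LK LD1_c0 LD2_c32 LD3_c37) Lrfl Lrfl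
theorem f175279 : Led Lsl_gt (LP (LK LD1_c0 LD2_c11 LD3_c3)) = (LP (LK LD1_c0 LD2_c6 LD3_c42)) :=
  Lgr Lrot49 (Lpe (K1.f40815 IH) (Lpr_gf (f175275 IH) (Lpr_cf (f174957 IH) (Lpr_gt (f68910 IH) (Lpr_dt (f68912 IH) (Lpr_gt (f68913 IH) (Lpe (f168223 IH) (Lpe (f56536 IH) (Lpe (f56528 IH) (Lpn (LP (LK LD1_c0 LD2_c6 LD3_c42))))))))))))
theorem f56320 : Led Lsl_bt (LP (LK LD1_c0 LD2_c11 LD3_c31)) = (LP (LK LD1_c0 LD2_c25 LD3_c41)) :=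
  Lre_b IH (LK LD1_c0 LD2_c11 LD3_c31) (LK LD1_c0 LD2_c25 LD3_c41) Lrfl Lrfl
theorem f56325 : Led Lsl_ef (LP (LK LD1_c0 LD2_c11 LD3_c31)) = (LP (LK LD1_c0 LD2_c13 LD3_c20)) :=
  Lgr Lrot29 (Lpr_bt (f56320 IH) (Lpr_et (K1.f56064 IH) (Lpr_bt (K1.f36395 IH) (Lpn (LP (LK LD1_c0 LD2_c13 LD3_c20))))))
theorem f28346 : Led Lsl_gt (LP (LK LD1_c0 LD2_c11 LD3_c31)) = (LP (LK LD1_c0 LD2_c25 LD3_c54)) :=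
  Lre_g IH (LK LD1_c0 LD2_c11 LD3_c31) (LK LD1_c0 LD2_c25 LD3_c54) Lrfl Lrfl
theorem f56514 : Led Lsl_et (LP (LK LD1_c0 LD2_c6 LD3_c43)) = (LP (LK LD1_c0 LD2_c3 LD3_c4)) :=
  Lre_e IH (LK LD1_c0 LD2_c6 LD3_c43) (LK LD1_c0 LD2_c3 LD3_c4) Lrfl Lrfl
theorem f56516 : Led Lsl_ef (LP (LK LD1_c0 LD2_c25 LD3_c54)) = (LP (LK LD1_c0 LD2_c14 LD3_c37)) :=
  Lgr Lrot17 (Lpe (f28346 IH) (Lpr_ef (f56325 IH) (Lpe (K1.f26760 IH) (Lpe (K0.f20986 IH) (Lpe (K1.f37737 IH) (Lpe (K1.f7031 IH) (Lpe (f56514 IH) (Lpr_dt (K1.f40783 IH) (Lpe (f7022 IH) (Lpe (f56515 IH) (Lpn (LP (LK LD1_c0 LD2_c14 LD3_c37)))))))))))))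
theorem f161772 : Led Lsl_et (LP (LK LD1_c0 LD2_c32 LD3_c39)) = (LP (LK LD1_c0 LD2_c14 LD3_c39)) :=
  Lre_e IH (LK LD1_c0 LD2_c32 LD3_c39) (LK LD1_c0 LD2_c14 LD3_c39) Lrfl Lrfl
theorem f74304 : Led Lsl_bt (LP (LK LD1_c2 LD2_c27 LD3_c10)) = (LP (LK LD1_c4 LD2_c58 LD3_c39)) :=
  Lre_b IH (LK LD1_c2 LD2_c27 LD3_c10) (LK LD1_c4 LD2_c58 LD3_c39) Lrfl Lrfl
theorem f70005 : Led Lsl_ft (LP (LK LD1_c4 LD2_c2 LD3_c26)) = (LP (LK LD1_c2 LD2_c9 LD3_c19)) :=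
  Lgr Lrot54 (Lpe (K2.f69781 IH) (Lpr_ff (K2.f69997 IH) (Lpe (K2.f69945 IH) (Lpn (LP (LK LD1_c2 LD2_c9 LD3_c19))))))
theorem f69776 : Led Lsl_bt (LP (LK LD1_c8 LD2_c5 LD3_c14)) = (LP (LK LD1_c4 LD2_c2 LD3_c26)) :=
  Lre_b IH (LK LD1_c8 LD2_c5 LD3_c14) (LK LD1_c4 LD2_c2 LD3_c26) Lrfl Lrfl
theorem f70015 : Led Lsl_bt (LP (LK LD1_c2 LD2_c9 LD3_c19)) = (LP (LK LD1_c4 LD2_c23 LD3_c49)) :=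
  Lre_b IH (LK LD1_c2 LD2_c9 LD3_c19) (LK LD1_c4 LD2_c23 LD3_c49) Lrfl Lrfl
theorem f70022 : Led Lsl_ff (LP (LK LD1_c8 LD2_c5 LD3_c14)) = (LP (LK LD1_c4 LD2_c23 LD3_c49)) :=
  Lgr Lrot25 (Lpr_bt (f69776 IH) (Lpr_ft (f70005 IH) (Lpr_bt (f70015 IH) (Lpn (LP (LK LD1_c4 LD2_c23 LD3_c49))))))
theorem f70026 : Led Lsl_ft (LP (LK LD1_c8 LD2_c5 LD3_c14)) = (LP (LK LD1_c4 LD2_c23 LD3_c49)) :=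
  Lgr Lrot48 (Lpr_ff (f70022 IH) (Lpn (LP (LK LD1_c4 LD2_c23 LD3_c49))))
theorem f69760 : Led Lsl_ft (LP (LK LD1_c0 LD2_c55 LD3_c59)) = (LP (LK LD1_c0 LD2_c25 LD3_c22)) :=
  Lre_f IH (LK LD1_c0 LD2_c55 LD3_c59) (LK LD1_c0 LD2_c25 LD3_c22) Lrfl Lrfl
theorem f69761 : Led Lsl_bf (LP (LK LD1_c0 LD2_c55 LD3_c59)) = (LP (LK LD1_c0 LD2_c55 LD3_c59)) :=
  Lgr Lrot61 (Lpr_ft (f69760 IH) (Lpr_bt (K2.f69749 IH) (Lpr_ft (K0.f34044 IH) (Lpn (LP (LK LD1_c0 LD2_c55 LD3_c59))))))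
theorem f69770 : Led Lsl_bt (LP (LK LD1_c1 LD2_c58 LD3_c11)) = (LP (LK LD1_c1 LD2_c58 LD3_c11)) :=
  Lgr Lrot119 (Lpe (K2.f33625 IH) (Lpr_bf (f69761 IH) (Lpe (K2.f33623 IH) (Lpn (LP (LK LD1_c1 LD2_c58 LD3_c11))))))
theorem f69778 : Led Lsl_bt (LP (LK LD1_c4 LD2_c2 LD3_c26)) = (LP (LK LD1_c8 LD2_c5 LD3_c14)) :=
  Lre_b IH (LK LD1_c4 LD2_c2 LD3_c26) (LK LD1_c8 LD2_c5 LD3_c14) Lrfl Lrfl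
theorem f69779 : Led Lsl_cf (LP (LK LD1_c8 LD2_c5 LD3_c14)) = (LP (LK LD1_c8 LD2_c5 LD3_c14)) :=
  Lgr Lrot97 (Lpr_bt (f69776 IH) (Lpr_ct (K2.f69775 IH) (Lpr_bt (f69770 IH) (Lpr_ct (K2.f69777 IH) (Lpr_bt (f69778 IH) (Lpn (LP (LK LD1_c8 LD2_c5 LD3_c14))))))))
theorem f70031 : Led Lsl_cf (LP (LK LD1_c4 LD2_c23 LD3_c49)) = (LP (LK LD1_c4 LD2_c23 LD3_c49)) :=
  Lgr Lrot108 (Lpe (f70022 IH) (Lpe (f69779 IH) (Lpr_ft (f70026 IH) (Lpn (LP (LK LD1_c4 LD2_c23 LD3_c49))))))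
theorem f70035 : Led Lsl_et (LP (LK LD1_c4 LD2_c23 LD3_c49)) = (LP (LK LD1_c2 LD2_c9 LD3_c17)) :=
  Lre_e IH (LK LD1_c4 LD2_c23 LD3_c49) (LK LD1_c2 LD2_c9 LD3_c17) Lrfl Lrfl
theorem f70025 : Led Lsl_et (LP (LK LD1_c2 LD2_c9 LD3_c17)) = (LP (LK LD1_c4 LD2_c23 LD3_c49)) :=
  Lre_e IH (LK LD1_c2 LD2_c9 LD3_c17) (LK LD1_c4 LD2_c23 LD3_c49) Lrfl Lrfl
theorem f70091 : Led Lsl_ct (LP (LK LD1_c2 LD2_c9 LD3_c17)) = (LP (LK LD1_c2 LD2_c9 LD3_c17)) :=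
  Lgr Lrot15 (Lpe (f70035 IH) (Lpr_cf (f70031 IH) (Lpe (f70025 IH) (Lpn (LP (LK LD1_c2 LD2_c9 LD3_c17))))))
theorem f59190 : Led Lsl_bt (LP (LK LD1_c1 LD2_c1 LD3_c48)) = (LP (LK LD1_c2 LD2_c9 LD3_c17)) :=
  Lre_b IH (LK LD1_c1 LD2_c1 LD3_c48) (LK LD1_c2 LD2_c9 LD3_c17) Lrfl Lrfl
theorem f36571 : Led Lsl_bt (LP (LK LD1_c2 LD2_c9 LD3_c17)) = (LP (LK LD1_c1 LD2_c1 LD3_c48)) :=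
  Lre_b IH (LK LD1_c2 LD2_c9 LD3_c17) (LK LD1_c1 LD2_c1 LD3_c48) Lrfl Lrfl
theorem f70097 : Led Lsl_bf (LP (LK LD1_c0 LD2_c30 LD3_c22)) = (LP (LK LD1_c0 LD2_c30 LD3_c22)) :=
  Lgr Lrot90 (Lpr_ct (K2.f59174 IH) (Lpr_bt (f59190 IH) (Lpr_ct (f70091 IH) (Lpr_bt (f36571 IH) (Lpe (K1.f59170 IH) (Lpn (LP (LK LD1_c0 LD2_c30 LD3_c22))))))))
theorem f161765 : Led Lsl_gf (LP (LK LD1_c0 LD2_c1 LD3_c17)) = (LP (LK LD1_c0 LD2_c1 LD3_c40)) :=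
  Lgr Lrot85 (Lpr_dt (K0.f7017 IH) (Lpr_ct (K1.f8346 IH) (Lpr_bt (K1.f40701 IH) (Lpr_gt (K6.f74378 IH) (Lpr_dt (K4.f74359 IH) (Lpr_ct (K4.f74298 IH) (Lpr_bt (f74304 IH) (Lpr_gt (K8.f161755 IH) (Lpr_dt (K7.f71904 IH) (Lpr_ct (K4.f69447 IH) (Lpe (K8.f81686 IH) (Lpr_gt (K2.f59184 IH) (Lpr_dt (K2.f35872 IH) (Lpe (K1.f59170 IH) (Lpe (f70097 IH) (Lpr_gt (K1.f27055 IH) (Lpr_dt (K2.f36310 IH) (Lpe (K1.f36301 IH) (Lpr_bt (K1.f7154 IH) (Lpn (LP (LK LD1_c0 LD2_c1 LD3_c40))))))))))))))))))))))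
theorem f161771 : Led Lsl_et (LP (LK LD1_c0 LD2_c3 LD3_c4)) = (LP (LK LD1_c0 LD2_c6 LD3_c43)) :=
  Lre_e IH (LK LD1_c0 LD2_c3 LD3_c4) (LK LD1_c0 LD2_c6 LD3_c43) Lrfl Lrfl
theorem f60475 : Led Lsl_gt (LP (LK LD1_c0 LD2_c40 LD3_c55)) = (LP (LK LD1_c0 LD2_c18 LD3_c19)) :=
  Lre_g IH (LK LD1_c0 LD2_c40 LD3_c55) (LK LD1_c0 LD2_c18 LD3_c19) Lrfl Lrfl
theorem f161773 : Led Lsl_dt (LP (LK LD1_c0 LD2_c32 LD3_c39)) = (LP (LK LD1_c0 LD2_c40 LD3_c55)) :=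
  Lgr Lrot136 (Lpr_et (f161772 IH) (Lpe (f53310 IH) (Lpe (f161771 IH) (Lpr_dt (K0.f13434 IH) (Lpr_gf (f161765 IH) (Lpe (K1.f7149 IH) (Lpe (K2.f59720 IH) (Lpe (K1.f59120 IH) (Lpe (K1.f60721 IH) (Lpe (f60475 IH) (Lpn (LP (LK LD1_c0 LD2_c40 LD3_c55)))))))))))))
theorem f73177 : Led Lsl_ft (LP (LK LD1_c0 LD2_c7 LD3_c54)) = (LP (LK LD1_c0 LD2_c13 LD3_c19)) :=
  Lgr Lrot4 (Lpe (K1.f195 IH) (Lpr_ff (K2.f72835 IH) (Lpr_cf (K2.f60917 IH) (Lpn (LP (LK LD1_c0 LD2_c13 LD3_c19))))))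
theorem f214 : Led Lsl_et (LP (LK LD1_c0 LD2_c3 LD3_c36)) = (LP (LK LD1_c0 LD2_c1 LD3_c32)) :=
  Lre_e IH (LK LD1_c0 LD2_c3 LD3_c36) (LK LD1_c0 LD2_c1 LD3_c32) Lrfl Lrfl
theorem f8134 : Led Lsl_et (LP (LK LD1_c0 LD2_c11 LD3_c37)) = (LP (LK LD1_c0 LD2_c7 LD3_c54)) :=
  Lgr Lrot71 (Lpe (K1.f8080 IH) (Lpe (K8.f8133 IH) (Lpr_df (K0.f8123 IH) (Lpe (f214 IH) (Lpe (K1.f194 IH) (Lpn (LP (LK LD1_c0 LD2_c7 LD3_c54))))))))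
theorem f47928 : Led Lsl_et (LP (LK LD1_c0 LD2_c57 LD3_c36)) = (LP (LK LD1_c0 LD2_c26 LD3_c11)) :=
  Lre_e IH (LK LD1_c0 LD2_c57 LD3_c36) (LK LD1_c0 LD2_c26 LD3_c11) Lrfl Lrfl
theorem f80279 : Led Lsl_ff (LP (LK LD1_c0 LD2_c57 LD3_c36)) = (LP (LK LD1_c0 LD2_c30 LD3_c3)) :=
  Lgr Lrot72 (Lpr_et (f47928 IH) (Lpr_ft (K1.f55405 IH) (Lpr_et (f8134 IH) (Lpr_ft (f73177 IH) (Lpr_et (K1.f59522 IH) (Lpn (LP (LK LD1_c0 LD2_c30 LD3_c3))))))))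
theorem f47911 : Led Lsl_et (LP (LK LD1_c0 LD2_c57 LD3_c25)) = (LP (LK LD1_c2 LD2_c0 LD3_c54)) :=
  Lre_e IH (LK LD1_c0 LD2_c57 LD3_c25) (LK LD1_c2 LD2_c0 LD3_c54) Lrfl Lrfl
theorem f47913 : Led Lsl_et (LP (LK LD1_c0 LD2_c26 LD3_c3)) = (LP (LK LD1_c0 LD2_c26 LD3_c3)) :=
  Lgr Lrot71 (Lpe (K2.f47910 IH) (Lpe (f47909 IH) (Lpr_df (f47876 IH) (Lpe (f47911 IH) (Lpe (K1.f47912 IH) (Lpn (LP (LK LD1_c0 LD2_c26 LD3_c3))))))))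
theorem f47921 : Led Lsl_ef (LP (LK LD1_c0 LD2_c11 LD3_c38)) = (LP (LK LD1_c0 LD2_c11 LD3_c38)) :=
  Lgr Lrot28 (Lpr_ct (K1.f47919 IH) (Lpr_et (f47913 IH) (Lpr_ct (K2.f47920 IH) (Lpn (LP (LK LD1_c0 LD2_c11 LD3_c38))))))
theorem f47926 : Led Lsl_et (LP (LK LD1_c0 LD2_c26 LD3_c11)) = (LP (LK LD1_c0 LD2_c57 LD3_c36)) :=
  Lre_e IH (LK LD1_c0 LD2_c26 LD3_c11) (LK LD1_c0 LD2_c57 LD3_c36) Lrfl Lrfl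
theorem f47929 : Led Lsl_dt (LP (LK LD1_c0 LD2_c57 LD3_c36)) = (LP (LK LD1_c0 LD2_c57 LD3_c36)) :=
  Lgr Lrot77 (Lpe (f47926 IH) (Lpe (K2.f47925 IH) (Lpr_ef (f47921 IH) (Lpe (K1.f47927 IH) (Lpe (f47928 IH) (Lpn (LP (LK LD1_c0 LD2_c57 LD3_c36))))))))
theorem f80281 : Led Lsl_ft (LP (LK LD1_c0 LD2_c57 LD3_c36)) = (LP (LK LD1_c0 LD2_c30 LD3_c3)) :=
  Lgr Lrot54 (Lpe (f47929 IH) (Lpr_ff (f80279 IH) (Lpr_df (K1.f60901 IH) (Lpn (LP (LK LD1_c0 LD2_c30 LD3_c3))))))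
theorem f80288 : Led Lsl_gt (LP (LK LD1_c0 LD2_c57 LD3_c36)) = (LP (LK LD1_c0 LD2_c40 LD3_c55)) :=
  Lgr Lrot5 (Lpr_ft (f80281 IH) (Lpr_at (K1.f60895 IH) (Lpe (f60475 IH) (Lpn (LP (LK LD1_c0 LD2_c40 LD3_c55))))))
theorem f175284 : Led Lsl_gt (LP (LK LD1_c0 LD2_c25 LD3_c54)) = (LP (LK LD1_c0 LD2_c26 LD3_c11)) :=
  Lgr Lrot131 (Lpr_ef (f56516 IH) (Lpr_dt (f56515 IH) (Lpe (f175279 IH) (Lpe (K1.f40815 IH) (Lpr_gf (f175275 IH) (Lpe (f161772 IH) (Lpr_dt (f161773 IH) (Lpe (f80288 IH) (Lpe (f47929 IH) (Lpr_et (f47928 IH) (Lpn (LP (LK LD1_c0 LD2_c26 LD3_c11)))))))))))))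
theorem f56524 : Led Lsl_ct (LP (LK LD1_c0 LD2_c25 LD3_c54)) = (LP (LK LD1_c0 LD2_c57 LD3_c3)) :=
  Lre_c IH (LK LD1_c0 LD2_c25 LD3_c54) (LK LD1_c0 LD2_c57 LD3_c3) Lrfl Lrfl
theorem f56526 : Led Lsl_et (LP (LK LD1_c0 LD2_c57 LD3_c3)) = (LP (LK LD1_c0 LD2_c32 LD3_c37)) :=
  Lgr Lrot158 (Lpe (f56524 IH) (Lpr_ef (f56516 IH) (Lpe (f56525 IH) (Lpn (LP (LK LD1_c0 LD2_c32 LD3_c37))))))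
theorem f56544 : Led Lsl_dt (LP (LK LD1_c0 LD2_c57 LD3_c3)) = (LP (LK LD1_c2 LD2_c0 LD3_c9)) :=
  Lre_d IH (LK LD1_c0 LD2_c57 LD3_c3) (LK LD1_c2 LD2_c0 LD3_c9) Lrfl Lrfl
theorem f22411 : Led Lsl_dt (LP (LK LD1_c0 LD2_c36 LD3_c47)) = (LP (LK LD1_c0 LD2_c16 LD3_c25)) :=
  Lre_d IH (LK LD1_c0 LD2_c36 LD3_c47) (LK LD1_c0 LD2_c16 LD3_c25) Lrfl Lrfl
theorem f163699 : Led Lsl_gt (LP (LK LD1_c0 LD2_c33 LD3_c22)) = (LP (LK LD1_c0 LD2_c14 LD3_c60)) :=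
  Lre_g IH (LK LD1_c0 LD2_c33 LD3_c22) (LK LD1_c0 LD2_c14 LD3_c60) Lrfl Lrfl
theorem f164278 : Led Lsl_ef (LP (LK LD1_c0 LD2_c29 LD3_c31)) = (LP (LK LD1_c1 LD2_c3 LD3_c31)) :=
  Lgr Lrot88 (Lpr_et (f164272 IH) (Lpn (LP (LK LD1_c1 LD2_c3 LD3_c31))))
theorem f164676 : Led Lsl_ef (LP (LK LD1_c0 LD2_c33 LD3_c22)) = (LP (LK LD1_c0 LD2_c36 LD3_c47)) :=
  Lgr Lrot167 (Lpr_gt (f163699 IH) (Lpr_dt (f21267 IH) (Lpr_gt (f163697 IH) (Lpe (K8.f163679 IH) (Lpr_et (f164249 IH) (Lpr_gt (f164672 IH) (Lpr_ef (f164278 IH) (Lpr_dt (f60208 IH) (Lpr_gt (f60155 IH) (Lpe (f22411 IH) (Lpn (LP (LK LD1_c0 LD2_c36 LD3_c47)))))))))))))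
theorem f164721 : Led Lsl_et (LP (LK LD1_c0 LD2_c16 LD3_c7)) = (LP (LK LD1_c0 LD2_c14 LD3_c60)) :=
  Lgr Lrot122 (Lpr_dt (K0.f7881 IH) (Lpr_gt (f164705 IH) (Lpe (f20237 IH) (Lpr_et (f20221 IH) (Lpr_gt (f20227 IH) (Lpr_dt (f60208 IH) (Lpr_gt (f60155 IH) (Lpe (f22411 IH) (Lpe (f164676 IH) (Lpr_gt (f163699 IH) (Lpn (LP (LK LD1_c0 LD2_c14 LD3_c60)))))))))))))
theorem f7894 : Led Lsl_ct (LP (LK LD1_c0 LD2_c36 LD3_c14)) = (LP (LK LD1_c0 LD2_c16 LD3_c7)) :=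
  Lre_c IH (LK LD1_c0 LD2_c36 LD3_c14) (LK LD1_c0 LD2_c16 LD3_c7) Lrfl Lrfl
theorem f3129 : Led Lsl_ct (LP (LK LD1_c0 LD2_c14 LD3_c60)) = (LP (LK LD1_c0 LD2_c33 LD3_c23)) :=
  Lre_c IH (LK LD1_c0 LD2_c14 LD3_c60) (LK LD1_c0 LD2_c33 LD3_c23) Lrfl Lrfl
theorem f164727 : Led Lsl_ef (LP (LK LD1_c0 LD2_c36 LD3_c14)) = (LP (LK LD1_c0 LD2_c33 LD3_c23)) :=
  Lgr Lrot28 (Lpr_ct (f7894 IH) (Lpr_et (f164721 IH) (Lpr_ct (f3129 IH) (Lpn (LP (LK LD1_c0 LD2_c33 LD3_c23))))))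
theorem f164741 : Led Lsl_dt (LP (LK LD1_c0 LD2_c33 LD3_c23)) = (LP (LK LD1_c1 LD2_c12 LD3_c10)) :=
  Lre_d IH (LK LD1_c0 LD2_c33 LD3_c23) (LK LD1_c1 LD2_c12 LD3_c10) Lrfl Lrfl
theorem f166166 : Led Lsl_et (LP (LK LD1_c1 LD2_c12 LD3_c26)) = (LP (LK LD1_c0 LD2_c33 LD3_c32)) :=
  Lre_e IH (LK LD1_c1 LD2_c12 LD3_c26) (LK LD1_c0 LD2_c33 LD3_c32) Lrfl Lrfl
theorem f21269 : Led Lsl_dt (LP (LK LD1_c1 LD2_c12 LD3_c26)) = (LP (LK LD1_c2 LD2_c30 LD3_c51)) :=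
  Lre_d IH (LK LD1_c1 LD2_c12 LD3_c26) (LK LD1_c2 LD2_c30 LD3_c51) Lrfl Lrfl
theorem f168201 : Led Lsl_gt (LP (LK LD1_c2 LD2_c0 LD3_c9)) = (LP (LK LD1_c2 LD2_c30 LD3_c51)) :=
  Lgr Lrot112 (Lpe (f56544 IH) (Lpr_et (f56526 IH) (Lpr_gf (f168189 IH) (Lpr_ef (f164727 IH) (Lpr_dt (f164741 IH) (Lpe (f166162 IH) (Lpe (f68585 IH) (Lpr_gf (f166118 IH) (Lpe (f166166 IH) (Lpr_dt (f21269 IH) (Lpn (LP (LK LD1_c2 LD2_c30 LD3_c51)))))))))))))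
theorem f22474 : Led Lsl_et (LP (LK LD1_c0 LD2_c13 LD3_c16)) = (LP (LK LD1_c0 LD2_c29 LD3_c55)) :=
  Lre_e IH (LK LD1_c0 LD2_c13 LD3_c16) (LK LD1_c0 LD2_c29 LD3_c55) Lrfl Lrfl
theorem f168209 : Led Lsl_gf (LP (LK LD1_c0 LD2_c57 LD3_c3)) = (LP (LK LD1_c0 LD2_c29 LD3_c55)) :=
  Lgr Lrot138 (Lpr_dt (f56544 IH) (Lpr_gt (f168201 IH) (Lpe (f21269 IH) (Lpr_et (f166166 IH) (Lpe (f166118 IH) (Lpe (f22475 IH) (Lpr_dt (K0.f8328 IH) (Lpe (K0.f22445 IH) (Lpe (K1.f20073 IH) (Lpr_et (f22474 IH) (Lpn (LP (LK LD1_c0 LD2_c29 LD3_c55)))))))))))))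
theorem f59906 : Led Lsl_ft (LP (LK LD1_c0 LD2_c29 LD3_c55)) = (LP (LK LD1_c1 LD2_c5 LD3_c25)) :=
  Lre_f IH (LK LD1_c0 LD2_c29 LD3_c55) (LK LD1_c1 LD2_c5 LD3_c25) Lrfl Lrfl
theorem f59920 : Led Lsl_at (LP (LK LD1_c1 LD2_c5 LD3_c25)) = (LP (LK LD1_c0 LD2_c39 LD3_c42)) :=
  Lre_a IH (LK LD1_c1 LD2_c5 LD3_c25) (LK LD1_c0 LD2_c39 LD3_c42) Lrfl Lrfl
theorem f168212 : Led Lsl_gt (LP (LK LD1_c0 LD2_c57 LD3_c3)) = (LP (LK LD1_c0 LD2_c39 LD3_c42)) :=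
  Lgr Lrot46 (Lpr_gf (f168209 IH) (Lpr_ft (f59906 IH) (Lpr_at (f59920 IH) (Lpn (LP (LK LD1_c0 LD2_c39 LD3_c42))))))
theorem f8453 : Led Lsl_dt (LP (LK LD1_c0 LD2_c39 LD3_c42)) = (LP (LK LD1_c1 LD2_c25 LD3_c59)) :=
  Lre_d IH (LK LD1_c0 LD2_c39 LD3_c42) (LK LD1_c1 LD2_c25 LD3_c59) Lrfl Lrfl
theorem f28335 : Led Lsl_gt (LP (LK LD1_c0 LD2_c11 LD3_c30)) = (LP (LK LD1_c0 LD2_c5 LD3_c21)) :=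
  Lre_g IH (LK LD1_c0 LD2_c11 LD3_c30) (LK LD1_c0 LD2_c5 LD3_c21) Lrfl Lrfl
theorem f55622 : Led Lsl_gt (LP (LK LD1_c0 LD2_c11 LD3_c38)) = (LP (LK LD1_c0 LD2_c11 LD3_c30)) :=
  Lgr Lrot5 (Lpr_ft (K2.f47931 IH) (Lpr_at (K1.f55613 IH) (Lpe (f28335 IH) (Lpn (LP (LK LD1_c0 LD2_c11 LD3_c30))))))
theorem f55905 : Led Lsl_dt (LP (LK LD1_c0 LD2_c11 LD3_c30)) = (LP (LK LD1_c0 LD2_c25 LD3_c52)) :=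
  Lre_d IH (LK LD1_c0 LD2_c11 LD3_c30) (LK LD1_c0 LD2_c25 LD3_c52) Lrfl Lrfl
theorem f55906 : Led Lsl_ct (LP (LK LD1_c0 LD2_c57 LD3_c0)) = (LP (LK LD1_c0 LD2_c25 LD3_c52)) :=
  Lre_c IH (LK LD1_c0 LD2_c57 LD3_c0) (LK LD1_c0 LD2_c25 LD3_c52) Lrfl Lrfl
theorem f55907 : Led Lsl_dt (LP (LK LD1_c2 LD2_c0 LD3_c7)) = (LP (LK LD1_c0 LD2_c57 LD3_c0)) :=
  Lre_d IH (LK LD1_c2 LD2_c0 LD3_c7) (LK LD1_c0 LD2_c57 LD3_c0) Lrfl Lrfl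
theorem f175306 : Led Lsl_gt (LP (LK LD1_c1 LD2_c25 LD3_c59)) = (LP (LK LD1_c2 LD2_c0 LD3_c7)) :=
  Lgr Lrot49 (Lpe (f8453 IH) (Lpe (f168212 IH) (Lpe (f56524 IH) (Lpr_gt (f175284 IH) (Lpr_dt (K1.f47927 IH) (Lpr_gt (f55622 IH) (Lpr_dt (f55905 IH) (Lpe (f55906 IH) (Lpe (f55907 IH) (Lpn (LP (LK LD1_c2 LD2_c0 LD3_c7))))))))))))
theorem f56529 : Led Lsl_et (LP (LK LD1_c0 LD2_c25 LD3_c54)) = (LP (LK LD1_c0 LD2_c14 LD3_c37)) :=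
  Lgr Lrot87 (Lpr_ef (f56516 IH) (Lpn (LP (LK LD1_c0 LD2_c14 LD3_c37))))
theorem f56535 : Led Lsl_ct (LP (LK LD1_c0 LD2_c57 LD3_c3)) = (LP (LK LD1_c0 LD2_c25 LD3_c54)) :=
  Lre_c IH (LK LD1_c0 LD2_c57 LD3_c3) (LK LD1_c0 LD2_c25 LD3_c54) Lrfl Lrfl
theorem f56537 : Led Lsl_ef (LP (LK LD1_c0 LD2_c57 LD3_c3)) = (LP (LK LD1_c0 LD2_c32 LD3_c37)) :=
  Lgr Lrot28 (Lpr_ct (f56535 IH) (Lpr_et (f56529 IH) (Lpr_ct (f56536 IH) (Lpn (LP (LK LD1_c0 LD2_c32 LD3_c37))))))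
theorem f168219 : Led Lsl_et (LP (LK LD1_c0 LD2_c29 LD3_c8)) = (LP (LK LD1_c1 LD2_c3 LD3_c55)) :=
  Lre_e IH (LK LD1_c0 LD2_c29 LD3_c8) (LK LD1_c1 LD2_c3 LD3_c55) Lrfl Lrfl
theorem f9417 : Led Lsl_gt (LP (LK LD1_c0 LD2_c38 LD3_c60)) = (LP (LK LD1_c1 LD2_c3 LD3_c55)) :=
  Lre_g IH (LK LD1_c0 LD2_c38 LD3_c60) (LK LD1_c1 LD2_c3 LD3_c55) Lrfl Lrfl
theorem f175318 : Led Lsl_dt (LP (LK LD1_c0 LD2_c57 LD3_c0)) = (LP (LK LD1_c2 LD2_c0 LD3_c7)) :=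
  Lre_d IH (LK LD1_c0 LD2_c57 LD3_c0) (LK LD1_c2 LD2_c0 LD3_c7) Lrfl Lrfl
theorem f175319 : Led Lsl_ef (LP (LK LD1_c0 LD2_c38 LD3_c60)) = (LP (LK LD1_c0 LD2_c57 LD3_c0)) :=
  Lgr Lrot114 (Lpr_gt (f9417 IH) (Lpe (f168219 IH) (Lpr_dt (f68912 IH) (Lpr_gt (f68913 IH) (Lpe (f168197 IH) (Lpe (f56537 IH) (Lpr_gt (f168212 IH) (Lpr_dt (f8453 IH) (Lpr_gt (f175306 IH) (Lpe (f175318 IH) (Lpn (LP (LK LD1_c0 LD2_c57 LD3_c0)))))))))))))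
theorem f175331 : Led Lsl_et (LP (LK LD1_c0 LD2_c38 LD3_c60)) = (LP (LK LD1_c0 LD2_c57 LD3_c0)) :=
  Lgr Lrot87 (Lpr_ef (f175319 IH) (Lpn (LP (LK LD1_c0 LD2_c57 LD3_c0))))
theorem f27239 : Led Lsl_gt (LP (LK LD1_c0 LD2_c32 LD3_c60)) = (LP (LK LD1_c0 LD2_c14 LD3_c49)) :=
  Lre_g IH (LK LD1_c0 LD2_c32 LD3_c60) (LK LD1_c0 LD2_c14 LD3_c49) Lrfl Lrfl
theorem f100652 : Led Lsl_gf (LP (LK LD1_c0 LD2_c32 LD3_c60)) = (LP (LK LD1_c0 LD2_c40 LD3_c36)) :=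
  Lgr Lrot47 (Lpr_gt (f27239 IH) (Lpr_af (f100635 IH) (Lpe (f100634 IH) (Lpn (LP (LK LD1_c0 LD2_c40 LD3_c36))))))
theorem f27240 : Led Lsl_dt (LP (LK LD1_c1 LD2_c11 LD3_c10)) = (LP (LK LD1_c0 LD2_c32 LD3_c60)) :=
  Lre_d IH (LK LD1_c1 LD2_c11 LD3_c10) (LK LD1_c0 LD2_c32 LD3_c60) Lrfl Lrfl
theorem f80286 : Led Lsl_af (LP (LK LD1_c0 LD2_c57 LD3_c36)) = (LP (LK LD1_c0 LD2_c40 LD3_c56)) :=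
  Lgr Lrot45 (Lpr_ft (f80281 IH) (Lpr_at (K1.f60895 IH) (Lpr_ft (K1.f60719 IH) (Lpn (LP (LK LD1_c0 LD2_c40 LD3_c56))))))
theorem f60459 : Led Lsl_gt (LP (LK LD1_c0 LD2_c18 LD3_c19)) = (LP (LK LD1_c0 LD2_c40 LD3_c54)) :=
  Lre_g IH (LK LD1_c0 LD2_c18 LD3_c19) (LK LD1_c0 LD2_c40 LD3_c54) Lrfl Lrfl
theorem f80290 : Led Lsl_gf (LP (LK LD1_c0 LD2_c57 LD3_c36)) = (LP (LK LD1_c0 LD2_c40 LD3_c54)) :=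
  Lgr Lrot76 (Lpr_af (f80286 IH) (Lpe (K1.f60719 IH) (Lpr_gt (f60459 IH) (Lpn (LP (LK LD1_c0 LD2_c40 LD3_c54))))))
theorem f175286 : Led Lsl_et (LP (LK LD1_c1 LD2_c11 LD3_c10)) = (LP (LK LD1_c0 LD2_c40 LD3_c54)) :=
  Lgr Lrot121 (Lpr_dt (f27240 IH) (Lpr_gf (f100652 IH) (Lpe (f100620 IH) (Lpr_et (f100940 IH) (Lpr_gf (f175275 IH) (Lpe (f161772 IH) (Lpr_dt (f161773 IH) (Lpe (f80288 IH) (Lpe (f47929 IH) (Lpr_gf (f80290 IH) (Lpn (LP (LK LD1_c0 LD2_c40 LD3_c54)))))))))))))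
theorem f26029 : Led Lsl_gt (LP (LK LD1_c0 LD2_c14 LD3_c49)) = (LP (LK LD1_c0 LD2_c32 LD3_c59)) :=
  Lre_g IH (LK LD1_c0 LD2_c14 LD3_c49) (LK LD1_c0 LD2_c32 LD3_c59) Lrfl Lrfl
theorem f100677 : Led Lsl_gt (LP (LK LD1_c0 LD2_c32 LD3_c59)) = (LP (LK LD1_c0 LD2_c40 LD3_c36)) :=
  Lgr Lrot46 (Lpe (f26029 IH) (Lpr_ft (f100649 IH) (Lpr_at (f100650 IH) (Lpn (LP (LK LD1_c0 LD2_c40 LD3_c36))))))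
theorem f55911 : Led Lsl_dt (LP (LK LD1_c0 LD2_c25 LD3_c52)) = (LP (LK LD1_c0 LD2_c11 LD3_c30)) :=
  Lre_d IH (LK LD1_c0 LD2_c25 LD3_c52) (LK LD1_c0 LD2_c11 LD3_c30) Lrfl Lrfl
theorem f175291 : Led Lsl_ef (LP (LK LD1_c0 LD2_c32 LD3_c59)) = (LP (LK LD1_c0 LD2_c25 LD3_c52)) :=
  Lgr Lrot167 (Lpr_gt (f100677 IH) (Lpr_dt (f100620 IH) (Lpe (f100652 IH) (Lpe (f27240 IH) (Lpr_et (f175286 IH) (Lpe (f80290 IH) (Lpe (f47926 IH) (Lpr_dt (K1.f47927 IH) (Lpr_gt (f55622 IH) (Lpe (f55911 IH) (Lpn (LP (LK LD1_c0 LD2_c25 LD3_c52)))))))))))))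
theorem f175336 : Led Lsl_cf (LP (LK LD1_c0 LD2_c38 LD3_c60)) = (LP (LK LD1_c0 LD2_c32 LD3_c59)) :=
  Lgr Lrot39 (Lpr_et (f175331 IH) (Lpr_ct (f55906 IH) (Lpe (f175291 IH) (Lpn (LP (LK LD1_c0 LD2_c32 LD3_c59))))))
theorem f9416 : Led Lsl_gt (LP (LK LD1_c2 LD2_c13 LD3_c49)) = (LP (LK LD1_c1 LD2_c24 LD3_c41)) :=
  Lre_g IH (LK LD1_c2 LD2_c13 LD3_c49) (LK LD1_c1 LD2_c24 LD3_c41) Lrfl Lrfl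
theorem f100654 : Led Lsl_dt (LP (LK LD1_c0 LD2_c32 LD3_c60)) = (LP (LK LD1_c1 LD2_c11 LD3_c10)) :=
  Lre_d IH (LK LD1_c0 LD2_c32 LD3_c60) (LK LD1_c1 LD2_c11 LD3_c10) Lrfl Lrfl
theorem f100656 : Led Lsl_ct (LP (LK LD1_c2 LD2_c28 LD3_c2)) = (LP (LK LD1_c1 LD2_c11 LD3_c10)) :=
  Lre_c IH (LK LD1_c2 LD2_c28 LD3_c2) (LK LD1_c1 LD2_c11 LD3_c10) Lrfl Lrfl
theorem f175386 : Led Lsl_dt (LP (LK LD1_c1 LD2_c24 LD3_c41)) = (LP (LK LD1_c2 LD2_c28 LD3_c2)) :=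
  Lgr Lrot105 (Lpe (f9416 IH) (Lpe (K0.f9363 IH) (Lpe (f9417 IH) (Lpr_cf (f175336 IH) (Lpr_gt (f100677 IH) (Lpr_dt (f100620 IH) (Lpe (f100652 IH) (Lpr_dt (f100654 IH) (Lpe (f100656 IH) (Lpn (LP (LK LD1_c2 LD2_c28 LD3_c2))))))))))))
theorem f175393 : Led Lsl_df (LP (LK LD1_c1 LD2_c24 LD3_c41)) = (LP (LK LD1_c2 LD2_c28 LD3_c2)) :=
  Lgr Lrot38 (Lpr_dt (f175386 IH) (Lpn (LP (LK LD1_c2 LD2_c28 LD3_c2))))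
theorem f9383 : Led Lsl_gt (LP (LK LD1_c1 LD2_c24 LD3_c41)) = (LP (LK LD1_c0 LD2_c39 LD3_c0)) :=
  Lre_g IH (LK LD1_c1 LD2_c24 LD3_c41) (LK LD1_c0 LD2_c39 LD3_c0) Lrfl Lrfl
theorem f9384 : Led Lsl_gt (LP (LK LD1_c0 LD2_c17 LD3_c21)) = (LP (LK LD1_c0 LD2_c7 LD3_c42)) :=
  Lre_g IH (LK LD1_c0 LD2_c17 LD3_c21) (LK LD1_c0 LD2_c7 LD3_c42) Lrfl Lrfl
theorem f9385 : Led Lsl_dt (LP (LK LD1_c0 LD2_c39 LD3_c3)) = (LP (LK LD1_c0 LD2_c17 LD3_c21)) :=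
  Lre_d IH (LK LD1_c0 LD2_c39 LD3_c3) (LK LD1_c0 LD2_c17 LD3_c21) Lrfl Lrfl
theorem f20321 : Led Lsl_gt (LP (LK LD1_c0 LD2_c12 LD3_c61)) = (LP (LK LD1_c0 LD2_c29 LD3_c30)) :=
  Lre_g IH (LK LD1_c0 LD2_c12 LD3_c61) (LK LD1_c0 LD2_c29 LD3_c30) Lrfl Lrfl
theorem f6969 : Led Lsl_gt (LP (LK LD1_c0 LD2_c17 LD3_c46)) = (LP (LK LD1_c0 LD2_c7 LD3_c59)) :=
  Lre_g IH (LK LD1_c0 LD2_c17 LD3_c46) (LK LD1_c0 LD2_c7 LD3_c59) Lrfl Lrfl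
theorem f20728 : Led Lsl_et (LP (LK LD1_c0 LD2_c39 LD3_c37)) = (LP (LK LD1_c0 LD2_c17 LD3_c46)) :=
  Lre_e IH (LK LD1_c0 LD2_c39 LD3_c37) (LK LD1_c0 LD2_c17 LD3_c46) Lrfl Lrfl
theorem f20650 : Led Lsl_dt (LP (LK LD1_c0 LD2_c3 LD3_c19)) = (LP (LK LD1_c0 LD2_c7 LD3_c24)) :=
  Lre_d IH (LK LD1_c0 LD2_c3 LD3_c19) (LK LD1_c0 LD2_c7 LD3_c24) Lrfl Lrfl
theorem f6858 : Led Lsl_et (LP (LK LD1_c0 LD2_c12 LD3_c45)) = (LP (LK LD1_c0 LD2_c5 LD3_c48)) :=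
  Lre_e IH (LK LD1_c0 LD2_c12 LD3_c45) (LK LD1_c0 LD2_c5 LD3_c48) Lrfl Lrfl
theorem f20652 : Led Lsl_gt (LP (LK LD1_c0 LD2_c29 LD3_c56)) = (LP (LK LD1_c0 LD2_c17 LD3_c46)) :=
  Lre_g IH (LK LD1_c0 LD2_c29 LD3_c56) (LK LD1_c0 LD2_c17 LD3_c46) Lrfl Lrfl
theorem f20653 : Led Lsl_dt (LP (LK LD1_c0 LD2_c12 LD3_c45)) = (LP (LK LD1_c0 LD2_c17 LD3_c46)) :=
  Lgr Lrot37 (Lpr_et (f6858 IH) (Lpr_gt (f20651 IH) (Lpr_dt (f20650 IH) (Lpr_gt (f20649 IH) (Lpr_df (f20627 IH) (Lpr_et (f20626 IH) (Lpr_gt (f9090 IH) (Lpe (K1.f8290 IH) (Lpr_dt (K1.f9067 IH) (Lpr_gt (f20652 IH) (Lpn (LP (LK LD1_c0 LD2_c17 LD3_c46)))))))))))))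
theorem f20664 : Led Lsl_et (LP (LK LD1_c0 LD2_c5 LD3_c48)) = (LP (LK LD1_c0 LD2_c12 LD3_c45)) :=
  Lre_e IH (LK LD1_c0 LD2_c5 LD3_c48) (LK LD1_c0 LD2_c12 LD3_c45) Lrfl Lrfl
theorem f20666 : Led Lsl_et (LP (LK LD1_c0 LD2_c28 LD3_c52)) = (LP (LK LD1_c0 LD2_c12 LD3_c44)) :=
  Lre_e IH (LK LD1_c0 LD2_c28 LD3_c52) (LK LD1_c0 LD2_c12 LD3_c44) Lrfl Lrfl
theorem f20667 : Led Lsl_et (LP (LK LD1_c0 LD2_c17 LD3_c46)) = (LP (LK LD1_c0 LD2_c39 LD3_c37)) :=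
  Lre_e IH (LK LD1_c0 LD2_c17 LD3_c46) (LK LD1_c0 LD2_c39 LD3_c37) Lrfl Lrfl
theorem f20668 : Led Lsl_df (LP (LK LD1_c0 LD2_c28 LD3_c52)) = (LP (LK LD1_c0 LD2_c39 LD3_c37)) :=
  Lgr Lrot70 (Lpr_et (f20666 IH) (Lpr_dt (f20665 IH) (Lpr_et (f20664 IH) (Lpr_dt (f20653 IH) (Lpr_et (f20667 IH) (Lpn (LP (LK LD1_c0 LD2_c39 LD3_c37))))))))
theorem f20729 : Led Lsl_gt (LP (LK LD1_c1 LD2_c3 LD3_c19)) = (LP (LK LD1_c0 LD2_c28 LD3_c52)) :=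
  Lre_g IH (LK LD1_c1 LD2_c3 LD3_c19) (LK LD1_c0 LD2_c28 LD3_c52) Lrfl Lrfl
theorem f26625 : Led Lsl_df (LP (LK LD1_c1 LD2_c3 LD3_c19)) = (LP (LK LD1_c0 LD2_c29 LD3_c30)) :=
  Lgr Lrot135 (Lpr_gt (f20729 IH) (Lpr_df (f20668 IH) (Lpr_et (f20728 IH) (Lpr_gt (f6969 IH) (Lpe (K0.f20597 IH) (Lpr_dt (K0.f7104 IH) (Lpr_gt (K0.f205 IH) (Lpr_df (K0.f26612 IH) (Lpr_et (K7.f20303 IH) (Lpr_gt (f20321 IH) (Lpn (LP (LK LD1_c0 LD2_c29 LD3_c30)))))))))))))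
theorem f26629 : Led Lsl_dt (LP (LK LD1_c1 LD2_c3 LD3_c19)) = (LP (LK LD1_c0 LD2_c29 LD3_c30)) :=
  Lgr Lrot42 (Lpr_df (f26625 IH) (Lpn (LP (LK LD1_c0 LD2_c29 LD3_c30))))
theorem f22427 : Led Lsl_gt (LP (LK LD1_c0 LD2_c29 LD3_c16)) = (LP (LK LD1_c0 LD2_c12 LD3_c55)) :=
  Lre_g IH (LK LD1_c0 LD2_c29 LD3_c16) (LK LD1_c0 LD2_c12 LD3_c55) Lrfl Lrfl
theorem f26622 : Led Lsl_dt (LP (LK LD1_c1 LD2_c4 LD3_c5)) = (LP (LK LD1_c0 LD2_c29 LD3_c16)) :=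
  Lre_d IH (LK LD1_c1 LD2_c4 LD3_c5) (LK LD1_c0 LD2_c29 LD3_c16) Lrfl Lrfl
theorem f26623 : Led Lsl_et (LP (LK LD1_c1 LD2_c4 LD3_c5)) = (LP (LK LD1_c0 LD2_c29 LD3_c30)) :=
  Lgr Lrot122 (Lpr_dt (f26622 IH) (Lpr_gt (f22427 IH) (Lpe (K6.f21202 IH) (Lpr_et (K6.f21188 IH) (Lpr_gt (K0.f21001 IH) (Lpr_dt (K0.f7104 IH) (Lpr_gt (K0.f205 IH) (Lpr_df (K0.f26612 IH) (Lpr_et (K7.f20303 IH) (Lpr_gt (f20321 IH) (Lpn (LP (LK LD1_c0 LD2_c29 LD3_c30)))))))))))))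
theorem f26631 : Led Lsl_dt (LP (LK LD1_c0 LD2_c29 LD3_c16)) = (LP (LK LD1_c1 LD2_c4 LD3_c5)) :=
  Lre_d IH (LK LD1_c0 LD2_c29 LD3_c16) (LK LD1_c1 LD2_c4 LD3_c5) Lrfl Lrfl
theorem f22426 : Led Lsl_et (LP (LK LD1_c1 LD2_c4 LD3_c6)) = (LP (LK LD1_c0 LD2_c29 LD3_c16)) :=
  Lre_e IH (LK LD1_c1 LD2_c4 LD3_c6) (LK LD1_c0 LD2_c29 LD3_c16) Lrfl Lrfl
theorem f26632 : Led Lsl_dt (LP (LK LD1_c1 LD2_c24 LD3_c45)) = (LP (LK LD1_c1 LD2_c4 LD3_c6)) :=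
  Lre_d IH (LK LD1_c1 LD2_c24 LD3_c45) (LK LD1_c1 LD2_c4 LD3_c6) Lrfl Lrfl
theorem f26633 : Led Lsl_et (LP (LK LD1_c1 LD2_c3 LD3_c19)) = (LP (LK LD1_c1 LD2_c24 LD3_c45)) :=
  Lgr Lrot71 (Lpr_df (f26625 IH) (Lpe (f26623 IH) (Lpe (f26631 IH) (Lpe (f22426 IH) (Lpe (f26632 IH) (Lpn (LP (LK LD1_c1 LD2_c24 LD3_c45))))))))
theorem f9365 : Led Lsl_et (LP (LK LD1_c0 LD2_c7 LD3_c42)) = (LP (LK LD1_c0 LD2_c3 LD3_c27)) :=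
  Lre_e IH (LK LD1_c0 LD2_c7 LD3_c42) (LK LD1_c0 LD2_c3 LD3_c27) Lrfl Lrfl
theorem f164265 : Led Lsl_gt (LP (LK LD1_c1 LD2_c24 LD3_c45)) = (LP (LK LD1_c0 LD2_c39 LD3_c3)) :=
  Lgr Lrot137 (Lpe (f26633 IH) (Lpr_dt (f26629 IH) (Lpe (f20321 IH) (Lpr_df (f164259 IH) (Lpr_et (K7.f9401 IH) (Lpe (K0.f9400 IH) (Lpe (f9365 IH) (Lpe (K0.f9353 IH) (Lpe (f9384 IH) (Lpe (f9385 IH) (Lpn (LP (LK LD1_c0 LD2_c39 LD3_c3)))))))))))))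
theorem f26648 : Led Lsl_ct (LP (LK LD1_c1 LD2_c24 LD3_c45)) = (LP (LK LD1_c2 LD2_c58 LD3_c10)) :=
  Lre_c IH (LK LD1_c1 LD2_c24 LD3_c45) (LK LD1_c2 LD2_c58 LD3_c10) Lrfl Lrfl
theorem f175413 : Led Lsl_gt (LP (LK LD1_c2 LD2_c58 LD3_c10)) = (LP (LK LD1_c2 LD2_c28 LD3_c2)) :=
  Lgr Lrot94 (Lpe (f26648 IH) (Lpr_gt (f164265 IH) (Lpr_dt (f9385 IH) (Lpr_gt (f9384 IH) (Lpe (K0.f9353 IH) (Lpe (K0.f9352 IH) (Lpe (K0.f9351 IH) (Lpe (f9383 IH) (Lpr_df (f175393 IH) (Lpn (LP (LK LD1_c2 LD2_c28 LD3_c2))))))))))))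
theorem f22424 : Led Lsl_gt (LP (LK LD1_c0 LD2_c39 LD3_c2)) = (LP (LK LD1_c1 LD2_c24 LD3_c45)) :=
  Lre_g IH (LK LD1_c0 LD2_c39 LD3_c2) (LK LD1_c1 LD2_c24 LD3_c45) Lrfl Lrfl
theorem f9399 : Led Lsl_dt (LP (LK LD1_c0 LD2_c39 LD3_c2)) = (LP (LK LD1_c0 LD2_c17 LD3_c20)) :=
  Lre_d IH (LK LD1_c0 LD2_c39 LD3_c2) (LK LD1_c0 LD2_c17 LD3_c20) Lrfl Lrfl
theorem f101494 : Led Lsl_gt (LP (LK LD1_c1 LD2_c3 LD3_c55)) = (LP (LK LD1_c0 LD2_c38 LD3_c61)) :=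
  Lre_g IH (LK LD1_c1 LD2_c3 LD3_c55) (LK LD1_c0 LD2_c38 LD3_c61) Lrfl Lrfl
theorem f175565 : Led Lsl_ct (LP (LK LD1_c0 LD2_c38 LD3_c61)) = (LP (LK LD1_c0 LD2_c32 LD3_c60)) :=
  Lgr Lrot110 (Lpe (f101494 IH) (Lpe (K0.f9364 IH) (Lpe (f9421 IH) (Lpe (f9399 IH) (Lpr_gt (f22424 IH) (Lpr_ct (f26648 IH) (Lpr_gt (f175413 IH) (Lpr_ct (f100656 IH) (Lpe (f100654 IH) (Lpn (LP (LK LD1_c0 LD2_c32 LD3_c60))))))))))))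
theorem f175569 : Led Lsl_cf (LP (LK LD1_c0 LD2_c38 LD3_c61)) = (LP (LK LD1_c0 LD2_c32 LD3_c60)) :=
  Lgr Lrot11 (Lpr_ct (f175565 IH) (Lpn (LP (LK LD1_c0 LD2_c32 LD3_c60))))
theorem f9392 : Led Lsl_gt (LP (LK LD1_c0 LD2_c38 LD3_c61)) = (LP (LK LD1_c0 LD2_c17 LD3_c19)) :=
  Lre_g IH (LK LD1_c0 LD2_c38 LD3_c61) (LK LD1_c0 LD2_c17 LD3_c19) Lrfl Lrfl
theorem f9437 : Led Lsl_bt (LP (LK LD1_c0 LD2_c29 LD3_c9)) = (LP (LK LD1_c1 LD2_c1 LD3_c47)) :=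
  Lre_b IH (LK LD1_c0 LD2_c29 LD3_c9) (LK LD1_c1 LD2_c1 LD3_c47) Lrfl Lrfl
theorem f175568 : Led Lsl_bt (LP (LK LD1_c0 LD2_c32 LD3_c60)) = (LP (LK LD1_c1 LD2_c11 LD3_c9)) :=
  Lre_b IH (LK LD1_c0 LD2_c32 LD3_c60) (LK LD1_c1 LD2_c11 LD3_c9) Lrfl Lrfl
theorem f175812 : Led Lsl_gt (LP (LK LD1_c1 LD2_c1 LD3_c47)) = (LP (LK LD1_c1 LD2_c11 LD3_c9)) :=
  Lgr Lrot164 (Lpe (f9437 IH) (Lpr_ct (K0.f9364 IH) (Lpe (f9417 IH) (Lpr_cf (f175336 IH) (Lpe (f26029 IH) (Lpe (f9359 IH) (Lpr_ct (K0.f9348 IH) (Lpe (f9392 IH) (Lpr_cf (f175569 IH) (Lpr_bt (f175568 IH) (Lpn (LP (LK LD1_c1 LD2_c11 LD3_c9)))))))))))))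
theorem f101265 : Led Lsl_ft (LP (LK LD1_c1 LD2_c1 LD3_c47)) = (LP (LK LD1_c0 LD2_c28 LD3_c26)) :=
  Lre_f IH (LK LD1_c1 LD2_c1 LD3_c47) (LK LD1_c0 LD2_c28 LD3_c26) Lrfl Lrfl
theorem f100640 : Led Lsl_bt (LP (LK LD1_c0 LD2_c13 LD3_c5)) = (LP (LK LD1_c0 LD2_c28 LD3_c26)) :=
  Lre_b IH (LK LD1_c0 LD2_c13 LD3_c5) (LK LD1_c0 LD2_c28 LD3_c26) Lrfl Lrfl
theorem f100641 : Led Lsl_bt (LP (LK LD1_c0 LD2_c40 LD3_c31)) = (LP (LK LD1_c0 LD2_c18 LD3_c10)) :=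
  Lre_b IH (LK LD1_c0 LD2_c40 LD3_c31) (LK LD1_c0 LD2_c18 LD3_c10) Lrfl Lrfl
theorem f100642 : Led Lsl_at (LP (LK LD1_c0 LD2_c28 LD3_c26)) = (LP (LK LD1_c0 LD2_c40 LD3_c31)) :=
  Lgr Lrot67 (Lpe (f100640 IH) (Lpe (f9355 IH) (Lpe (f9360 IH) (Lpr_af (f100635 IH) (Lpe (f100641 IH) (Lpn (LP (LK LD1_c0 LD2_c40 LD3_c31))))))))
theorem f175814 : Led Lsl_gf (LP (LK LD1_c0 LD2_c40 LD3_c31)) = (LP (LK LD1_c1 LD2_c11 LD3_c9)) :=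
  Lgr Lrot76 (Lpe (f100642 IH) (Lpe (f101265 IH) (Lpr_gt (f175812 IH) (Lpn (LP (LK LD1_c1 LD2_c11 LD3_c9))))))
theorem f101294 : Led Lsl_bt (LP (LK LD1_c0 LD2_c18 LD3_c10)) = (LP (LK LD1_c0 LD2_c40 LD3_c31)) :=
  Lre_b IH (LK LD1_c0 LD2_c18 LD3_c10) (LK LD1_c0 LD2_c40 LD3_c31) Lrfl Lrfl
theorem f9391 : Led Lsl_ct (LP (LK LD1_c0 LD2_c17 LD3_c20)) = (LP (LK LD1_c0 LD2_c39 LD3_c1)) :=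
  Lre_c IH (LK LD1_c0 LD2_c17 LD3_c20) (LK LD1_c0 LD2_c39 LD3_c1) Lrfl Lrfl
theorem f175825 : Led Lsl_bt (LP (LK LD1_c0 LD2_c17 LD3_c20)) = (LP (LK LD1_c0 LD2_c17 LD3_c20)) :=
  Lgr Lrot130 (Lpr_ct (f9391 IH) (Lpr_gf (f172121 IH) (Lpe (f100592 IH) (Lpr_bt (f101294 IH) (Lpr_gf (f175814 IH) (Lpe (f175568 IH) (Lpe (f175569 IH) (Lpe (f101494 IH) (Lpe (K0.f9364 IH) (Lpe (f9421 IH) (Lpn (LP (LK LD1_c0 LD2_c17 LD3_c20)))))))))))))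
theorem f101509 : Led Lsl_gt (LP (LK LD1_c0 LD2_c40 LD3_c35)) = (LP (LK LD1_c0 LD2_c18 LD3_c10)) :=
  Lre_g IH (LK LD1_c0 LD2_c40 LD3_c35) (LK LD1_c0 LD2_c18 LD3_c10) Lrfl Lrfl
theorem f101511 : Led Lsl_bt (LP (LK LD1_c1 LD2_c27 LD3_c43)) = (LP (LK LD1_c0 LD2_c40 LD3_c35)) :=
  Lre_b IH (LK LD1_c1 LD2_c27 LD3_c43) (LK LD1_c0 LD2_c40 LD3_c35) Lrfl Lrfl
theorem f9438 : Led Lsl_bt (LP (LK LD1_c1 LD2_c1 LD3_c47)) = (LP (LK LD1_c0 LD2_c29 LD3_c9)) :=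
  Lre_b IH (LK LD1_c1 LD2_c1 LD3_c47) (LK LD1_c0 LD2_c29 LD3_c9) Lrfl Lrfl
theorem f42998 : Led Lsl_ct (LP (LK LD1_c1 LD2_c1 LD3_c47)) = (LP (LK LD1_c2 LD2_c9 LD3_c16)) :=
  Lre_c IH (LK LD1_c1 LD2_c1 LD3_c47) (LK LD1_c2 LD2_c9 LD3_c16) Lrfl Lrfl
theorem f100942 : Led Lsl_et (LP (LK LD1_c1 LD2_c27 LD3_c41)) = (LP (LK LD1_c0 LD2_c54 LD3_c60)) :=
  Lgr Lrot87 (Lpr_ef (f100932 IH) (Lpn (LP (LK LD1_c0 LD2_c54 LD3_c60))))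
theorem f100946 : Led Lsl_ef (LP (LK LD1_c0 LD2_c40 LD3_c36)) = (LP (LK LD1_c0 LD2_c24 LD3_c54)) :=
  Lgr Lrot28 (Lpr_ct (f100619 IH) (Lpr_et (f100942 IH) (Lpr_ct (K1.f40840 IH) (Lpn (LP (LK LD1_c0 LD2_c24 LD3_c54))))))
theorem f100669 : Led Lsl_bt (LP (LK LD1_c0 LD2_c40 LD3_c36)) = (LP (LK LD1_c1 LD2_c27 LD3_c35)) :=
  Lre_b IH (LK LD1_c0 LD2_c40 LD3_c36) (LK LD1_c1 LD2_c27 LD3_c35) Lrfl Lrfl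
theorem f39208 : Led Lsl_bt (LP (LK LD1_c0 LD2_c54 LD3_c30)) = (LP (LK LD1_c0 LD2_c24 LD3_c54)) :=
  Lre_b IH (LK LD1_c0 LD2_c54 LD3_c30) (LK LD1_c0 LD2_c24 LD3_c54) Lrfl Lrfl
theorem f100949 : Led Lsl_et (LP (LK LD1_c1 LD2_c27 LD3_c35)) = (LP (LK LD1_c0 LD2_c54 LD3_c30)) :=
  Lgr Lrot74 (Lpe (f100669 IH) (Lpr_ef (f100946 IH) (Lpe (f39208 IH) (Lpn (LP (LK LD1_c0 LD2_c54 LD3_c30))))))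
theorem f100956 : Led Lsl_ef (LP (LK LD1_c1 LD2_c27 LD3_c35)) = (LP (LK LD1_c0 LD2_c54 LD3_c30)) :=
  Lgr Lrot88 (Lpr_et (f100949 IH) (Lpn (LP (LK LD1_c0 LD2_c54 LD3_c30))))
theorem f100661 : Led Lsl_ct (LP (LK LD1_c1 LD2_c27 LD3_c35)) = (LP (LK LD1_c3 LD2_c3 LD3_c21)) :=
  Lre_c IH (LK LD1_c1 LD2_c27 LD3_c35) (LK LD1_c3 LD2_c3 LD3_c21) Lrfl Lrfl
theorem f100966 : Led Lsl_et (LP (LK LD1_c3 LD2_c3 LD3_c21)) = (LP (LK LD1_c1 LD2_c55 LD3_c33)) :=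
  Lgr Lrot158 (Lpe (f100661 IH) (Lpr_ef (f100956 IH) (Lpe (K1.f38940 IH) (Lpn (LP (LK LD1_c1 LD2_c55 LD3_c33))))))
theorem f100660 : Led Lsl_dt (LP (LK LD1_c6 LD2_c13 LD3_c11)) = (LP (LK LD1_c3 LD2_c3 LD3_c21)) :=
  Lre_d IH (LK LD1_c6 LD2_c13 LD3_c11) (LK LD1_c3 LD2_c3 LD3_c21) Lrfl Lrfl
theorem f100975 : Led Lsl_et (LP (LK LD1_c12 LD2_c5 LD3_c19)) = (LP (LK LD1_c6 LD2_c13 LD3_c11)) :=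
  Lre_e IH (LK LD1_c12 LD2_c5 LD3_c19) (LK LD1_c6 LD2_c13 LD3_c11) Lrfl Lrfl
theorem f100976 : Led Lsl_df (LP (LK LD1_c12 LD2_c5 LD3_c19)) = (LP (LK LD1_c7 LD2_c56 LD3_c39)) :=
  Lgr Lrot70 (Lpr_et (f100975 IH) (Lpr_dt (f100660 IH) (Lpr_et (f100966 IH) (Lpr_dt (K1.f38964 IH) (Lpr_et (K1.f38902 IH) (Lpn (LP (LK LD1_c7 LD2_c56 LD3_c39))))))))
theorem f39425 : Led Lsl_bt (LP (LK LD1_c3 LD2_c57 LD3_c34)) = (LP (LK LD1_c7 LD2_c56 LD3_c34)) :=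
  Lre_b IH (LK LD1_c3 LD2_c57 LD3_c34) (LK LD1_c7 LD2_c56 LD3_c34) Lrfl Lrfl
theorem f38934 : Led Lsl_bt (LP (LK LD1_c4 LD2_c22 LD3_c9)) = (LP (LK LD1_c2 LD2_c8 LD3_c32)) :=
  Lre_b IH (LK LD1_c4 LD2_c22 LD3_c9) (LK LD1_c2 LD2_c8 LD3_c32) Lrfl Lrfl
theorem f39426 : Led Lsl_ft (LP (LK LD1_c7 LD2_c56 LD3_c34)) = (LP (LK LD1_c4 LD2_c22 LD3_c9)) :=
  Lgr Lrot75 (Lpe (f39425 IH) (Lpr_ff (K1.f39421 IH) (Lpe (f38934 IH) (Lpn (LP (LK LD1_c4 LD2_c22 LD3_c9))))))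
theorem f39457 : Led Lsl_ff (LP (LK LD1_c7 LD2_c56 LD3_c34)) = (LP (LK LD1_c4 LD2_c22 LD3_c9)) :=
  Lgr Lrot3 (Lpr_ft (f39426 IH) (Lpn (LP (LK LD1_c4 LD2_c22 LD3_c9))))
theorem f39479 : Led Lsl_ct (LP (LK LD1_c7 LD2_c56 LD3_c34)) = (LP (LK LD1_c14 LD2_c58 LD3_c51)) :=
  Lre_c IH (LK LD1_c7 LD2_c56 LD3_c34) (LK LD1_c14 LD2_c58 LD3_c51) Lrfl Lrfl
theorem f38935 : Led Lsl_ct (LP (LK LD1_c8 LD2_c42 LD3_c14)) = (LP (LK LD1_c4 LD2_c22 LD3_c9)) :=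
  Lre_c IH (LK LD1_c8 LD2_c42 LD3_c14) (LK LD1_c4 LD2_c22 LD3_c9) Lrfl Lrfl
theorem f39480 : Led Lsl_ft (LP (LK LD1_c14 LD2_c58 LD3_c51)) = (LP (LK LD1_c8 LD2_c42 LD3_c14)) :=
  Lgr Lrot4 (Lpe (f39479 IH) (Lpr_ff (f39457 IH) (Lpe (f38935 IH) (Lpn (LP (LK LD1_c8 LD2_c42 LD3_c14))))))
theorem f39764 : Led Lsl_bt (LP (LK LD1_c7 LD2_c56 LD3_c27)) = (LP (LK LD1_c14 LD2_c58 LD3_c51)) :=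
  Lre_b IH (LK LD1_c7 LD2_c56 LD3_c27) (LK LD1_c14 LD2_c58 LD3_c51) Lrfl Lrfl
theorem f39765 : Led Lsl_ft (LP (LK LD1_c14 LD2_c58 LD3_c54)) = (LP (LK LD1_c7 LD2_c56 LD3_c27)) :=
  Lre_f IH (LK LD1_c14 LD2_c58 LD3_c54) (LK LD1_c7 LD2_c56 LD3_c27) Lrfl Lrfl
theorem f39766 : Led Lsl_bf (LP (LK LD1_c14 LD2_c58 LD3_c54)) = (LP (LK LD1_c8 LD2_c42 LD3_c14)) :=
  Lgr Lrot61 (Lpr_ft (f39765 IH) (Lpr_bt (f39764 IH) (Lpr_ft (f39480 IH) (Lpn (LP (LK LD1_c8 LD2_c42 LD3_c14))))))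
theorem f39802 : Led Lsl_et (LP (LK LD1_c14 LD2_c58 LD3_c54)) = (LP (LK LD1_c24 LD2_c46 LD3_c22)) :=
  Lre_e IH (LK LD1_c14 LD2_c58 LD3_c54) (LK LD1_c24 LD2_c46 LD3_c22) Lrfl Lrfl
theorem f39803 : Led Lsl_et (LP (LK LD1_c16 LD2_c18 LD3_c19)) = (LP (LK LD1_c8 LD2_c42 LD3_c14)) :=
  Lre_e IH (LK LD1_c16 LD2_c18 LD3_c19) (LK LD1_c8 LD2_c42 LD3_c14) Lrfl Lrfl
theorem f39804 : Led Lsl_bt (LP (LK LD1_c24 LD2_c46 LD3_c22)) = (LP (LK LD1_c16 LD2_c18 LD3_c19)) :=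
  Lgr Lrot119 (Lpe (f39802 IH) (Lpr_bf (f39766 IH) (Lpe (f39803 IH) (Lpn (LP (LK LD1_c16 LD2_c18 LD3_c19))))))
theorem f39812 : Led Lsl_ct (LP (LK LD1_c14 LD2_c58 LD3_c58)) = (LP (LK LD1_c24 LD2_c46 LD3_c22)) :=
  Lre_c IH (LK LD1_c14 LD2_c58 LD3_c58) (LK LD1_c24 LD2_c46 LD3_c22) Lrfl Lrfl
theorem f39813 : Led Lsl_bt (LP (LK LD1_c7 LD2_c56 LD3_c39)) = (LP (LK LD1_c14 LD2_c58 LD3_c58)) :=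
  Lre_b IH (LK LD1_c7 LD2_c56 LD3_c39) (LK LD1_c14 LD2_c58 LD3_c58) Lrfl Lrfl
theorem f39814 : Led Lsl_ct (LP (LK LD1_c16 LD2_c18 LD3_c19)) = (LP (LK LD1_c8 LD2_c42 LD3_c15)) :=
  Lre_c IH (LK LD1_c16 LD2_c18 LD3_c19) (LK LD1_c8 LD2_c42 LD3_c15) Lrfl Lrfl
theorem f39314 : Led Lsl_bt (LP (LK LD1_c8 LD2_c42 LD3_c15)) = (LP (LK LD1_c4 LD2_c22 LD3_c13)) :=
  Lre_b IH (LK LD1_c8 LD2_c42 LD3_c15) (LK LD1_c4 LD2_c22 LD3_c13) Lrfl Lrfl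
theorem f39815 : Led Lsl_cf (LP (LK LD1_c7 LD2_c56 LD3_c39)) = (LP (LK LD1_c4 LD2_c22 LD3_c13)) :=
  Lgr Lrot97 (Lpr_bt (f39813 IH) (Lpr_ct (f39812 IH) (Lpr_bt (f39804 IH) (Lpr_ct (f39814 IH) (Lpr_bt (f39314 IH) (Lpn (LP (LK LD1_c4 LD2_c22 LD3_c13))))))))
theorem f39321 : Led Lsl_dt (LP (LK LD1_c8 LD2_c40 LD3_c31)) = (LP (LK LD1_c4 LD2_c22 LD3_c13)) :=
  Lre_d IH (LK LD1_c8 LD2_c40 LD3_c31) (LK LD1_c4 LD2_c22 LD3_c13) Lrfl Lrfl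
theorem f39389 : Led Lsl_ct (LP (LK LD1_c16 LD2_c14 LD3_c47)) = (LP (LK LD1_c8 LD2_c40 LD3_c31)) :=
  Lre_c IH (LK LD1_c16 LD2_c14 LD3_c47) (LK LD1_c8 LD2_c40 LD3_c31) Lrfl Lrfl
theorem f39600 : Led Lsl_dt (LP (LK LD1_c26 LD2_c12 LD3_c7)) = (LP (LK LD1_c16 LD2_c14 LD3_c47)) :=
  Lre_d IH (LK LD1_c26 LD2_c12 LD3_c7) (LK LD1_c16 LD2_c14 LD3_c47) Lrfl Lrfl
theorem f39820 : Led Lsl_ct (LP (LK LD1_c32 LD2_c5 LD3_c61)) = (LP (LK LD1_c26 LD2_c12 LD3_c7)) :=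
  Lre_c IH (LK LD1_c32 LD2_c5 LD3_c61) (LK LD1_c26 LD2_c12 LD3_c7) Lrfl Lrfl
theorem f38897 : Led Lsl_af (LP (LK LD1_c7 LD2_c56 LD3_c39)) = (LP (LK LD1_c4 LD2_c23 LD3_c43)) :=
  Lgr Lrot0 (Lpr_at (K1.f38880 IH) (Lpn (LP (LK LD1_c4 LD2_c23 LD3_c43))))
theorem f39825 : Led Lsl_ft (LP (LK LD1_c8 LD2_c45 LD3_c19)) = (LP (LK LD1_c4 LD2_c23 LD3_c43)) :=
  Lre_f IH (LK LD1_c8 LD2_c45 LD3_c19) (LK LD1_c4 LD2_c23 LD3_c43) Lrfl Lrfl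
theorem f16374 : Led Lsl_dt (LP (LK LD1_c8 LD2_c45 LD3_c19)) = (LP (LK LD1_c16 LD2_c23 LD3_c23)) :=
  Lre_d IH (LK LD1_c8 LD2_c45 LD3_c19) (LK LD1_c16 LD2_c23 LD3_c23) Lrfl Lrfl
theorem f16393 : Led Lsl_ct (LP (LK LD1_c16 LD2_c23 LD3_c23)) = (LP (LK LD1_c26 LD2_c21 LD3_c15)) :=
  Lre_c IH (LK LD1_c16 LD2_c23 LD3_c23) (LK LD1_c26 LD2_c21 LD3_c15) Lrfl Lrfl
theorem f39826 : Led Lsl_dt (LP (LK LD1_c26 LD2_c21 LD3_c15)) = (LP (LK LD1_c32 LD2_c5 LD3_c61)) :=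
  Lgr Lrot32 (Lpe (f16393 IH) (Lpe (f16374 IH) (Lpr_ft (f39825 IH) (Lpe (f38897 IH) (Lpr_cf (f39815 IH) (Lpe (f39321 IH) (Lpe (f39389 IH) (Lpe (f39600 IH) (Lpe (f39820 IH) (Lpn (LP (LK LD1_c32 LD2_c5 LD3_c61))))))))))))
theorem f16392 : Led Lsl_ft (LP (LK LD1_c26 LD2_c21 LD3_c15)) = (LP (LK LD1_c16 LD2_c23 LD3_c30)) :=
  Lre_f IH (LK LD1_c26 LD2_c21 LD3_c15) (LK LD1_c16 LD2_c23 LD3_c30) Lrfl Lrfl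
theorem f41799 : Led Lsl_et (LP (LK LD1_c0 LD2_c15 LD3_c45)) = (LP (LK LD1_c0 LD2_c35 LD3_c3)) :=
  Lre_e IH (LK LD1_c0 LD2_c15 LD3_c45) (LK LD1_c0 LD2_c35 LD3_c3) Lrfl Lrfl
theorem f41536 : Led Lsl_dt (LP (LK LD1_c0 LD2_c35 LD3_c3)) = (LP (LK LD1_c1 LD2_c15 LD3_c36)) :=
  Lre_d IH (LK LD1_c0 LD2_c35 LD3_c3) (LK LD1_c1 LD2_c15 LD3_c36) Lrfl Lrfl
theorem f29050 : Led Lsl_dt (LP (LK LD1_c1 LD2_c24 LD3_c53)) = (LP (LK LD1_c0 LD2_c39 LD3_c7)) :=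
  Lre_d IH (LK LD1_c1 LD2_c24 LD3_c53) (LK LD1_c0 LD2_c39 LD3_c7) Lrfl Lrfl
theorem f42488 : Led Lsl_et (LP (LK LD1_c1 LD2_c15 LD3_c36)) = (LP (LK LD1_c1 LD2_c24 LD3_c53)) :=
  Lgr Lrot71 (Lpe (f41536 IH) (Lpe (f41799 IH) (Lpr_df (K1.f42484 IH) (Lpe (K0.f29057 IH) (Lpe (f29050 IH) (Lpn (LP (LK LD1_c1 LD2_c24 LD3_c53))))))))
theorem f42643 : Led Lsl_ef (LP (LK LD1_c1 LD2_c15 LD3_c36)) = (LP (LK LD1_c1 LD2_c24 LD3_c53)) :=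
  Lgr Lrot88 (Lpr_et (f42488 IH) (Lpn (LP (LK LD1_c1 LD2_c24 LD3_c53))))
theorem f42650 : Led Lsl_ct (LP (LK LD1_c1 LD2_c15 LD3_c36)) = (LP (LK LD1_c2 LD2_c37 LD3_c12)) :=
  Lre_c IH (LK LD1_c1 LD2_c15 LD3_c36) (LK LD1_c2 LD2_c37 LD3_c12) Lrfl Lrfl
theorem f29051 : Led Lsl_ct (LP (LK LD1_c2 LD2_c58 LD3_c22)) = (LP (LK LD1_c1 LD2_c24 LD3_c53)) :=
  Lre_c IH (LK LD1_c2 LD2_c58 LD3_c22) (LK LD1_c1 LD2_c24 LD3_c53) Lrfl Lrfl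
theorem f42651 : Led Lsl_et (LP (LK LD1_c2 LD2_c37 LD3_c12)) = (LP (LK LD1_c2 LD2_c58 LD3_c22)) :=
  Lgr Lrot158 (Lpe (f42650 IH) (Lpr_ef (f42643 IH) (Lpe (f29051 IH) (Lpn (LP (LK LD1_c2 LD2_c58 LD3_c22))))))
theorem f42658 : Led Lsl_dt (LP (LK LD1_c5 LD2_c21 LD3_c17)) = (LP (LK LD1_c2 LD2_c37 LD3_c12)) :=
  Lre_d IH (LK LD1_c5 LD2_c21 LD3_c17) (LK LD1_c2 LD2_c37 LD3_c12) Lrfl Lrfl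
theorem f42659 : Led Lsl_et (LP (LK LD1_c10 LD2_c32 LD3_c53)) = (LP (LK LD1_c5 LD2_c21 LD3_c17)) :=
  Lre_e IH (LK LD1_c10 LD2_c32 LD3_c53) (LK LD1_c5 LD2_c21 LD3_c17) Lrfl Lrfl
theorem f29056 : Led Lsl_dt (LP (LK LD1_c2 LD2_c58 LD3_c22)) = (LP (LK LD1_c6 LD2_c4 LD3_c22)) :=
  Lre_d IH (LK LD1_c2 LD2_c58 LD3_c22) (LK LD1_c6 LD2_c4 LD3_c22) Lrfl Lrfl
theorem f42064 : Led Lsl_et (LP (LK LD1_c6 LD2_c4 LD3_c22)) = (LP (LK LD1_c11 LD2_c52 LD3_c11)) :=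
  Lre_e IH (LK LD1_c6 LD2_c4 LD3_c22) (LK LD1_c11 LD2_c52 LD3_c11) Lrfl Lrfl
theorem f42660 : Led Lsl_df (LP (LK LD1_c10 LD2_c32 LD3_c53)) = (LP (LK LD1_c11 LD2_c52 LD3_c11)) :=
  Lgr Lrot70 (Lpr_et (f42659 IH) (Lpr_dt (f42658 IH) (Lpr_et (f42651 IH) (Lpr_dt (f29056 IH) (Lpr_et (f42064 IH) (Lpn (LP (LK LD1_c11 LD2_c52 LD3_c11))))))))
theorem f42671 : Led Lsl_dt (LP (LK LD1_c10 LD2_c32 LD3_c53)) = (LP (LK LD1_c11 LD2_c52 LD3_c11)) :=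
  Lgr Lrot42 (Lpr_df (f42660 IH) (Lpn (LP (LK LD1_c11 LD2_c52 LD3_c11))))
theorem f29023 : Led Lsl_ct (LP (LK LD1_c1 LD2_c24 LD3_c52)) = (LP (LK LD1_c2 LD2_c58 LD3_c21)) :=
  Lre_c IH (LK LD1_c1 LD2_c24 LD3_c52) (LK LD1_c2 LD2_c58 LD3_c21) Lrfl Lrfl
theorem f42047 : Led Lsl_at (LP (LK LD1_c2 LD2_c58 LD3_c21)) = (LP (LK LD1_c2 LD2_c58 LD3_c22)) :=
  Lgr Lrot107 (Lpe (f29023 IH) (Lpr_af (K1.f42042 IH) (Lpe (f29051 IH) (Lpn (LP (LK LD1_c2 LD2_c58 LD3_c22))))))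
theorem f29017 : Led Lsl_dt (LP (LK LD1_c6 LD2_c4 LD3_c19)) = (LP (LK LD1_c2 LD2_c58 LD3_c21)) :=
  Lre_d IH (LK LD1_c6 LD2_c4 LD3_c19) (LK LD1_c2 LD2_c58 LD3_c21) Lrfl Lrfl
theorem f42052 : Led Lsl_af (LP (LK LD1_c6 LD2_c4 LD3_c19)) = (LP (LK LD1_c6 LD2_c4 LD3_c22)) :=
  Lgr Lrot117 (Lpr_dt (f29017 IH) (Lpr_at (f42047 IH) (Lpr_dt (f29056 IH) (Lpn (LP (LK LD1_c6 LD2_c4 LD3_c22))))))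
theorem f42057 : Led Lsl_et (LP (LK LD1_c6 LD2_c4 LD3_c19)) = (LP (LK LD1_c11 LD2_c52 LD3_c4)) :=
  Lre_e IH (LK LD1_c6 LD2_c4 LD3_c19) (LK LD1_c11 LD2_c52 LD3_c4) Lrfl Lrfl
theorem f42058 : Led Lsl_et (LP (LK LD1_c11 LD2_c52 LD3_c11)) = (LP (LK LD1_c6 LD2_c4 LD3_c22)) :=
  Lre_e IH (LK LD1_c11 LD2_c52 LD3_c11) (LK LD1_c6 LD2_c4 LD3_c22) Lrfl Lrfl
theorem f42059 : Led Lsl_at (LP (LK LD1_c11 LD2_c52 LD3_c4)) = (LP (LK LD1_c11 LD2_c52 LD3_c11)) :=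
  Lgr Lrot80 (Lpe (f42057 IH) (Lpr_af (f42052 IH) (Lpe (f42058 IH) (Lpn (LP (LK LD1_c11 LD2_c52 LD3_c11))))))
theorem f42061 : Led Lsl_af (LP (LK LD1_c11 LD2_c52 LD3_c4)) = (LP (LK LD1_c11 LD2_c52 LD3_c11)) :=
  Lgr Lrot0 (Lpr_at (f42059 IH) (Lpn (LP (LK LD1_c11 LD2_c52 LD3_c11))))
theorem f42083 : Led Lsl_et (LP (LK LD1_c1 LD2_c24 LD3_c52)) = (LP (LK LD1_c1 LD2_c15 LD3_c35)) :=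
  Lgr Lrot87 (Lpr_ef (K1.f42077 IH) (Lpn (LP (LK LD1_c1 LD2_c15 LD3_c35))))
theorem f29016 : Led Lsl_ct (LP (LK LD1_c2 LD2_c58 LD3_c21)) = (LP (LK LD1_c1 LD2_c24 LD3_c52)) :=
  Lre_c IH (LK LD1_c2 LD2_c58 LD3_c21) (LK LD1_c1 LD2_c24 LD3_c52) Lrfl Lrfl
theorem f41928 : Led Lsl_ct (LP (LK LD1_c1 LD2_c15 LD3_c35)) = (LP (LK LD1_c2 LD2_c37 LD3_c11)) :=
  Lre_c IH (LK LD1_c1 LD2_c15 LD3_c35) (LK LD1_c2 LD2_c37 LD3_c11) Lrfl Lrfl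
theorem f42085 : Led Lsl_ef (LP (LK LD1_c2 LD2_c58 LD3_c21)) = (LP (LK LD1_c2 LD2_c37 LD3_c11)) :=
  Lgr Lrot28 (Lpr_ct (f29016 IH) (Lpr_et (f42083 IH) (Lpr_ct (f41928 IH) (Lpn (LP (LK LD1_c2 LD2_c37 LD3_c11))))))
theorem f29024 : Led Lsl_dt (LP (LK LD1_c2 LD2_c58 LD3_c21)) = (LP (LK LD1_c6 LD2_c4 LD3_c19)) :=
  Lre_d IH (LK LD1_c2 LD2_c58 LD3_c21) (LK LD1_c6 LD2_c4 LD3_c19) Lrfl Lrfl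
theorem f41897 : Led Lsl_dt (LP (LK LD1_c5 LD2_c21 LD3_c14)) = (LP (LK LD1_c2 LD2_c37 LD3_c11)) :=
  Lre_d IH (LK LD1_c5 LD2_c21 LD3_c14) (LK LD1_c2 LD2_c37 LD3_c11) Lrfl Lrfl
theorem f41935 : Led Lsl_et (LP (LK LD1_c10 LD2_c32 LD3_c44)) = (LP (LK LD1_c5 LD2_c21 LD3_c14)) :=
  Lre_e IH (LK LD1_c10 LD2_c32 LD3_c44) (LK LD1_c5 LD2_c21 LD3_c14) Lrfl Lrfl
theorem f42089 : Led Lsl_dt (LP (LK LD1_c11 LD2_c52 LD3_c4)) = (LP (LK LD1_c10 LD2_c32 LD3_c44)) :=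
  Lgr Lrot77 (Lpe (f42057 IH) (Lpe (f29024 IH) (Lpr_ef (f42085 IH) (Lpe (f41897 IH) (Lpe (f41935 IH) (Lpn (LP (LK LD1_c10 LD2_c32 LD3_c44))))))))
theorem f42682 : Led Lsl_af (LP (LK LD1_c10 LD2_c32 LD3_c53)) = (LP (LK LD1_c10 LD2_c32 LD3_c44)) :=
  Lgr Lrot117 (Lpr_dt (f42671 IH) (Lpe (f42061 IH) (Lpr_dt (f42089 IH) (Lpn (LP (LK LD1_c10 LD2_c32 LD3_c44))))))
theorem f41916 : Led Lsl_et (LP (LK LD1_c5 LD2_c21 LD3_c14)) = (LP (LK LD1_c10 LD2_c32 LD3_c44)) :=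
  Lre_e IH (LK LD1_c5 LD2_c21 LD3_c14) (LK LD1_c10 LD2_c32 LD3_c44) Lrfl Lrfl
theorem f42691 : Led Lsl_at (LP (LK LD1_c5 LD2_c21 LD3_c17)) = (LP (LK LD1_c5 LD2_c21 LD3_c14)) :=
  Lgr Lrot80 (Lpe (f42659 IH) (Lpr_af (f42682 IH) (Lpe (f41916 IH) (Lpn (LP (LK LD1_c5 LD2_c21 LD3_c14))))))
theorem f42697 : Led Lsl_ct (LP (LK LD1_c10 LD2_c32 LD3_c52)) = (LP (LK LD1_c5 LD2_c21 LD3_c17)) :=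
  Lre_c IH (LK LD1_c10 LD2_c32 LD3_c52) (LK LD1_c5 LD2_c21 LD3_c17) Lrfl Lrfl
theorem f41895 : Led Lsl_dt (LP (LK LD1_c1 LD2_c15 LD3_c35)) = (LP (LK LD1_c0 LD2_c35 LD3_c2)) :=
  Lre_d IH (LK LD1_c1 LD2_c15 LD3_c35) (LK LD1_c0 LD2_c35 LD3_c2) Lrfl Lrfl
theorem f41896 : Led Lsl_ct (LP (LK LD1_c2 LD2_c37 LD3_c11)) = (LP (LK LD1_c1 LD2_c15 LD3_c35)) :=
  Lre_c IH (LK LD1_c2 LD2_c37 LD3_c11) (LK LD1_c1 LD2_c15 LD3_c35) Lrfl Lrfl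
theorem f41899 : Led Lsl_at (LP (LK LD1_c0 LD2_c24 LD3_c43)) = (LP (LK LD1_c0 LD2_c54 LD3_c40)) :=
  Lre_a IH (LK LD1_c0 LD2_c24 LD3_c43) (LK LD1_c0 LD2_c54 LD3_c40) Lrfl Lrfl
theorem f41900 : Led Lsl_ft (LP (LK LD1_c0 LD2_c54 LD3_c44)) = (LP (LK LD1_c0 LD2_c24 LD3_c43)) :=
  Lre_f IH (LK LD1_c0 LD2_c54 LD3_c44) (LK LD1_c0 LD2_c24 LD3_c43) Lrfl Lrfl
theorem f41338 : Led Lsl_dt (LP (LK LD1_c0 LD2_c54 LD3_c44)) = (LP (LK LD1_c1 LD2_c56 LD3_c2)) :=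
  Lre_d IH (LK LD1_c0 LD2_c54 LD3_c44) (LK LD1_c1 LD2_c56 LD3_c2) Lrfl Lrfl
theorem f41081 : Led Lsl_ct (LP (LK LD1_c1 LD2_c56 LD3_c2)) = (LP (LK LD1_c3 LD2_c58 LD3_c34)) :=
  Lre_c IH (LK LD1_c1 LD2_c56 LD3_c2) (LK LD1_c3 LD2_c58 LD3_c34) Lrfl Lrfl
theorem f41901 : Led Lsl_dt (LP (LK LD1_c3 LD2_c58 LD3_c34)) = (LP (LK LD1_c7 LD2_c58 LD3_c40)) :=
  Lre_d IH (LK LD1_c3 LD2_c58 LD3_c34) (LK LD1_c7 LD2_c58 LD3_c40) Lrfl Lrfl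
theorem f41902 : Led Lsl_cf (LP (LK LD1_c5 LD2_c21 LD3_c14)) = (LP (LK LD1_c7 LD2_c58 LD3_c40)) :=
  Lgr Lrot116 (Lpr_dt (f41897 IH) (Lpr_ct (f41896 IH) (Lpr_dt (f41895 IH) (Lpr_ct (K1.f41887 IH) (Lpe (f41899 IH) (Lpe (f41900 IH) (Lpr_dt (f41338 IH) (Lpr_ct (f41081 IH) (Lpr_dt (f41901 IH) (Lpn (LP (LK LD1_c7 LD2_c58 LD3_c40))))))))))))
theorem f41914 : Led Lsl_ct (LP (LK LD1_c5 LD2_c21 LD3_c14)) = (LP (LK LD1_c7 LD2_c58 LD3_c40)) :=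
  Lgr Lrot59 (Lpr_cf (f41902 IH) (Lpn (LP (LK LD1_c7 LD2_c58 LD3_c40))))
theorem f42698 : Led Lsl_af (LP (LK LD1_c10 LD2_c32 LD3_c52)) = (LP (LK LD1_c7 LD2_c58 LD3_c40)) :=
  Lgr Lrot68 (Lpr_ct (f42697 IH) (Lpr_at (f42691 IH) (Lpr_ct (f41914 IH) (Lpn (LP (LK LD1_c7 LD2_c58 LD3_c40))))))
theorem f42714 : Led Lsl_ct (LP (LK LD1_c5 LD2_c21 LD3_c17)) = (LP (LK LD1_c10 LD2_c32 LD3_c52)) :=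
  Lre_c IH (LK LD1_c5 LD2_c21 LD3_c17) (LK LD1_c10 LD2_c32 LD3_c52) Lrfl Lrfl
theorem f42662 : Led Lsl_dt (LP (LK LD1_c2 LD2_c37 LD3_c12)) = (LP (LK LD1_c5 LD2_c21 LD3_c17)) :=
  Lre_d IH (LK LD1_c2 LD2_c37 LD3_c12) (LK LD1_c5 LD2_c21 LD3_c17) Lrfl Lrfl
theorem f41920 : Led Lsl_ft (LP (LK LD1_c3 LD2_c58 LD3_c33)) = (LP (LK LD1_c7 LD2_c58 LD3_c40)) :=
  Lre_f IH (LK LD1_c3 LD2_c58 LD3_c33) (LK LD1_c7 LD2_c58 LD3_c40) Lrfl Lrfl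
theorem f42715 : Led Lsl_dt (LP (LK LD1_c3 LD2_c58 LD3_c33)) = (LP (LK LD1_c1 LD2_c56 LD3_c1)) :=
  Lre_d IH (LK LD1_c3 LD2_c58 LD3_c33) (LK LD1_c1 LD2_c56 LD3_c1) Lrfl Lrfl
theorem f42716 : Led Lsl_ct (LP (LK LD1_c1 LD2_c56 LD3_c1)) = (LP (LK LD1_c0 LD2_c54 LD3_c43)) :=
  Lre_c IH (LK LD1_c1 LD2_c56 LD3_c1) (LK LD1_c0 LD2_c54 LD3_c43) Lrfl Lrfl
theorem f42717 : Led Lsl_dt (LP (LK LD1_c0 LD2_c54 LD3_c43)) = (LP (LK LD1_c0 LD2_c24 LD3_c43)) :=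
  Lre_d IH (LK LD1_c0 LD2_c54 LD3_c43) (LK LD1_c0 LD2_c24 LD3_c43) Lrfl Lrfl
theorem f42718 : Led Lsl_cf (LP (LK LD1_c0 LD2_c35 LD3_c3)) = (LP (LK LD1_c0 LD2_c24 LD3_c43)) :=
  Lgr Lrot116 (Lpr_dt (f41536 IH) (Lpr_ct (f42650 IH) (Lpr_dt (f42662 IH) (Lpr_ct (f42714 IH) (Lpr_af (f42698 IH) (Lpe (f41920 IH) (Lpr_dt (f42715 IH) (Lpr_ct (f42716 IH) (Lpr_dt (f42717 IH) (Lpn (LP (LK LD1_c0 LD2_c24 LD3_c43))))))))))))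
theorem f42725 : Led Lsl_ct (LP (LK LD1_c0 LD2_c35 LD3_c3)) = (LP (LK LD1_c0 LD2_c24 LD3_c43)) :=
  Lgr Lrot59 (Lpr_cf (f42718 IH) (Lpn (LP (LK LD1_c0 LD2_c24 LD3_c43))))
theorem f41251 : Led Lsl_bt (LP (LK LD1_c0 LD2_c24 LD3_c43)) = (LP (LK LD1_c0 LD2_c10 LD3_c61)) :=
  Lre_b IH (LK LD1_c0 LD2_c24 LD3_c43) (LK LD1_c0 LD2_c10 LD3_c61) Lrfl Lrfl
theorem f40775 : Led Lsl_bt (LP (LK LD1_c0 LD2_c5 LD3_c8)) = (LP (LK LD1_c0 LD2_c10 LD3_c57)) :=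
  Lre_b IH (LK LD1_c0 LD2_c5 LD3_c8) (LK LD1_c0 LD2_c10 LD3_c57) Lrfl Lrfl
theorem f42743 : Led Lsl_bf (LP (LK LD1_c0 LD2_c35 LD3_c3)) = (LP (LK LD1_c0 LD2_c24 LD3_c33)) :=
  Lgr Lrot90 (Lpr_ct (f42725 IH) (Lpr_bt (f41251 IH) (Lpr_ct (K1.f28388 IH) (Lpr_bt (f40775 IH) (Lpr_ct (K1.f39246 IH) (Lpn (LP (LK LD1_c0 LD2_c24 LD3_c33))))))))
theorem f41886 : Led Lsl_et (LP (LK LD1_c0 LD2_c35 LD3_c2)) = (LP (LK LD1_c0 LD2_c15 LD3_c44)) :=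
  Lre_e IH (LK LD1_c0 LD2_c35 LD3_c2) (LK LD1_c0 LD2_c15 LD3_c44) Lrfl Lrfl
theorem f42126 : Led Lsl_at (LP (LK LD1_c0 LD2_c35 LD3_c3)) = (LP (LK LD1_c0 LD2_c35 LD3_c2)) :=
  Lgr Lrot80 (Lpe (f41799 IH) (Lpr_af (K1.f42107 IH) (Lpe (f41886 IH) (Lpn (LP (LK LD1_c0 LD2_c35 LD3_c2))))))
theorem f41840 : Led Lsl_et (LP (LK LD1_c1 LD2_c1 LD3_c9)) = (LP (LK LD1_c0 LD2_c27 LD3_c57)) :=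
  Lre_e IH (LK LD1_c1 LD2_c1 LD3_c9) (LK LD1_c0 LD2_c27 LD3_c57) Lrfl Lrfl
theorem f41880 : Led Lsl_bt (LP (LK LD1_c0 LD2_c35 LD3_c2)) = (LP (LK LD1_c1 LD2_c1 LD3_c9)) :=
  Lgr Lrot119 (Lpe (K1.f41879 IH) (Lpr_bf (K1.f41871 IH) (Lpe (f41840 IH) (Lpn (LP (LK LD1_c1 LD2_c1 LD3_c9))))))
theorem f42012 : Led Lsl_at (LP (LK LD1_c1 LD2_c1 LD3_c9)) = (LP (LK LD1_c0 LD2_c27 LD3_c59)) :=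
  Lre_a IH (LK LD1_c1 LD2_c1 LD3_c9) (LK LD1_c0 LD2_c27 LD3_c59) Lrfl Lrfl
theorem f42013 : Led Lsl_bt (LP (LK LD1_c0 LD2_c27 LD3_c59)) = (LP (LK LD1_c0 LD2_c12 LD3_c23)) :=
  Lre_b IH (LK LD1_c0 LD2_c27 LD3_c59) (LK LD1_c0 LD2_c12 LD3_c23) Lrfl Lrfl
theorem f42866 : Led Lsl_at (LP (LK LD1_c0 LD2_c12 LD3_c23)) = (LP (LK LD1_c0 LD2_c24 LD3_c33)) :=
  Lgr Lrot67 (Lpe (f42013 IH) (Lpe (f42012 IH) (Lpe (f41880 IH) (Lpe (f42126 IH) (Lpr_bf (f42743 IH) (Lpn (LP (LK LD1_c0 LD2_c24 LD3_c33))))))))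
theorem f28819 : Led Lsl_et (LP (LK LD1_c0 LD2_c5 LD3_c40)) = (LP (LK LD1_c0 LD2_c12 LD3_c23)) :=
  Lre_e IH (LK LD1_c0 LD2_c5 LD3_c40) (LK LD1_c0 LD2_c12 LD3_c23) Lrfl Lrfl
theorem f31134 : Led Lsl_et (LP (LK LD1_c0 LD2_c24 LD3_c33)) = (LP (LK LD1_c0 LD2_c10 LD3_c56)) :=
  Lre_e IH (LK LD1_c0 LD2_c24 LD3_c33) (LK LD1_c0 LD2_c10 LD3_c56) Lrfl Lrfl
theorem f42874 : Led Lsl_af (LP (LK LD1_c0 LD2_c5 LD3_c40)) = (LP (LK LD1_c0 LD2_c10 LD3_c56)) :=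
  Lgr Lrot50 (Lpr_et (f28819 IH) (Lpr_at (f42866 IH) (Lpr_et (f31134 IH) (Lpn (LP (LK LD1_c0 LD2_c10 LD3_c56))))))
theorem f41841 : Led Lsl_ff (LP (LK LD1_c0 LD2_c5 LD3_c40)) = (LP (LK LD1_c0 LD2_c5 LD3_c40)) :=
  Lgr Lrot25 (Lpr_bt (K1.f27908 IH) (Lpr_ft (K1.f41837 IH) (Lpr_bt (K1.f28730 IH) (Lpn (LP (LK LD1_c0 LD2_c5 LD3_c40))))))
theorem f42892 : Led Lsl_at (LP (LK LD1_c0 LD2_c5 LD3_c40)) = (LP (LK LD1_c0 LD2_c10 LD3_c56)) :=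
  Lgr Lrot100 (Lpr_af (f42874 IH) (Lpn (LP (LK LD1_c0 LD2_c10 LD3_c56))))
theorem f42896 : Led Lsl_ft (LP (LK LD1_c0 LD2_c10 LD3_c56)) = (LP (LK LD1_c0 LD2_c10 LD3_c56)) :=
  Lgr Lrot101 (Lpe (f42892 IH) (Lpr_ff (f41841 IH) (Lpr_af (f42874 IH) (Lpn (LP (LK LD1_c0 LD2_c10 LD3_c56))))))
theorem f42869 : Led Lsl_ft (LP (LK LD1_c0 LD2_c54 LD3_c24)) = (LP (LK LD1_c0 LD2_c24 LD3_c33)) :=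
  Lre_f IH (LK LD1_c0 LD2_c54 LD3_c24) (LK LD1_c0 LD2_c24 LD3_c33) Lrfl Lrfl
theorem f28798 : Led Lsl_et (LP (LK LD1_c0 LD2_c10 LD3_c56)) = (LP (LK LD1_c0 LD2_c24 LD3_c33)) :=
  Lre_e IH (LK LD1_c0 LD2_c10 LD3_c56) (LK LD1_c0 LD2_c24 LD3_c33) Lrfl Lrfl
theorem f39270 : Led Lsl_ft (LP (LK LD1_c0 LD2_c24 LD3_c33)) = (LP (LK LD1_c0 LD2_c54 LD3_c24)) :=
  Lre_f IH (LK LD1_c0 LD2_c24 LD3_c33) (LK LD1_c0 LD2_c54 LD3_c24) Lrfl Lrfl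
theorem f42900 : Led Lsl_ef (LP (LK LD1_c0 LD2_c54 LD3_c24)) = (LP (LK LD1_c0 LD2_c54 LD3_c24)) :=
  Lgr Lrot21 (Lpr_ft (f42869 IH) (Lpr_et (f31134 IH) (Lpr_ft (f42896 IH) (Lpr_et (f28798 IH) (Lpr_ft (f39270 IH) (Lpn (LP (LK LD1_c0 LD2_c54 LD3_c24))))))))
theorem f39122 : Led Lsl_et (LP (LK LD1_c3 LD2_c57 LD3_c10)) = (LP (LK LD1_c1 LD2_c55 LD3_c20)) :=
  Lre_e IH (LK LD1_c3 LD2_c57 LD3_c10) (LK LD1_c1 LD2_c55 LD3_c20) Lrfl Lrfl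
theorem f42906 : Led Lsl_dt (LP (LK LD1_c3 LD2_c57 LD3_c10)) = (LP (LK LD1_c3 LD2_c57 LD3_c10)) :=
  Lgr Lrot77 (Lpe (K1.f39139 IH) (Lpe (K1.f38943 IH) (Lpr_ef (f42900 IH) (Lpe (K1.f39005 IH) (Lpe (f39122 IH) (Lpn (LP (LK LD1_c3 LD2_c57 LD3_c10))))))))
theorem f39127 : Led Lsl_ct (LP (LK LD1_c7 LD2_c56 LD3_c0)) = (LP (LK LD1_c3 LD2_c57 LD3_c10)) :=
  Lre_c IH (LK LD1_c7 LD2_c56 LD3_c0) (LK LD1_c3 LD2_c57 LD3_c10) Lrfl Lrfl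
theorem f39128 : Led Lsl_dt (LP (LK LD1_c14 LD2_c58 LD3_c3)) = (LP (LK LD1_c7 LD2_c56 LD3_c0)) :=
  Lre_d IH (LK LD1_c14 LD2_c58 LD3_c3) (LK LD1_c7 LD2_c56 LD3_c0) Lrfl Lrfl
theorem f39129 : Led Lsl_ct (LP (LK LD1_c24 LD2_c45 LD3_c42)) = (LP (LK LD1_c14 LD2_c58 LD3_c3)) :=
  Lre_c IH (LK LD1_c24 LD2_c45 LD3_c42) (LK LD1_c14 LD2_c58 LD3_c3) Lrfl Lrfl
theorem f39120 : Led Lsl_ct (LP (LK LD1_c3 LD2_c57 LD3_c10)) = (LP (LK LD1_c7 LD2_c56 LD3_c0)) :=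
  Lre_c IH (LK LD1_c3 LD2_c57 LD3_c10) (LK LD1_c7 LD2_c56 LD3_c0) Lrfl Lrfl
theorem f39017 : Led Lsl_dt (LP (LK LD1_c7 LD2_c56 LD3_c0)) = (LP (LK LD1_c14 LD2_c58 LD3_c3)) :=
  Lre_d IH (LK LD1_c7 LD2_c56 LD3_c0) (LK LD1_c14 LD2_c58 LD3_c3) Lrfl Lrfl
theorem f39593 : Led Lsl_ct (LP (LK LD1_c14 LD2_c58 LD3_c3)) = (LP (LK LD1_c24 LD2_c45 LD3_c42)) :=
  Lre_c IH (LK LD1_c14 LD2_c58 LD3_c3) (LK LD1_c24 LD2_c45 LD3_c42) Lrfl Lrfl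
theorem f39482 : Led Lsl_dt (LP (LK LD1_c2 LD2_c8 LD3_c31)) = (LP (LK LD1_c4 LD2_c22 LD3_c9)) :=
  Lre_d IH (LK LD1_c2 LD2_c8 LD3_c31) (LK LD1_c4 LD2_c22 LD3_c9) Lrfl Lrfl
theorem f39483 : Led Lsl_ft (LP (LK LD1_c4 LD2_c22 LD3_c10)) = (LP (LK LD1_c2 LD2_c8 LD3_c31)) :=
  Lre_f IH (LK LD1_c4 LD2_c22 LD3_c10) (LK LD1_c2 LD2_c8 LD3_c31) Lrfl Lrfl
theorem f39484 : Led Lsl_dt (LP (LK LD1_c7 LD2_c56 LD3_c34)) = (LP (LK LD1_c4 LD2_c22 LD3_c10)) :=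
  Lgr Lrot60 (Lpr_ff (f39457 IH) (Lpe (f39482 IH) (Lpe (f39483 IH) (Lpn (LP (LK LD1_c4 LD2_c22 LD3_c10))))))
theorem f39453 : Led Lsl_et (LP (LK LD1_c14 LD2_c59 LD3_c11)) = (LP (LK LD1_c7 LD2_c56 LD3_c34)) :=
  Lre_e IH (LK LD1_c14 LD2_c59 LD3_c11) (LK LD1_c7 LD2_c56 LD3_c34) Lrfl Lrfl
theorem f39507 : Led Lsl_dt (LP (LK LD1_c24 LD2_c46 LD3_c41)) = (LP (LK LD1_c14 LD2_c59 LD3_c11)) :=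
  Lre_d IH (LK LD1_c24 LD2_c46 LD3_c41) (LK LD1_c14 LD2_c59 LD3_c11) Lrfl Lrfl
theorem f39508 : Led Lsl_et (LP (LK LD1_c4 LD2_c22 LD3_c10)) = (LP (LK LD1_c8 LD2_c42 LD3_c16)) :=
  Lre_e IH (LK LD1_c4 LD2_c22 LD3_c10) (LK LD1_c8 LD2_c42 LD3_c16) Lrfl Lrfl
theorem f39509 : Led Lsl_dt (LP (LK LD1_c8 LD2_c42 LD3_c16)) = (LP (LK LD1_c16 LD2_c18 LD3_c25)) :=
  Lre_d IH (LK LD1_c8 LD2_c42 LD3_c16) (LK LD1_c16 LD2_c18 LD3_c25) Lrfl Lrfl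
theorem f39510 : Led Lsl_ef (LP (LK LD1_c24 LD2_c46 LD3_c41)) = (LP (LK LD1_c16 LD2_c18 LD3_c25)) :=
  Lgr Lrot73 (Lpr_dt (f39507 IH) (Lpr_et (f39453 IH) (Lpr_dt (f39484 IH) (Lpr_et (f39508 IH) (Lpr_dt (f39509 IH) (Lpn (LP (LK LD1_c16 LD2_c18 LD3_c25))))))))
theorem f38756 : Led Lsl_bt (LP (LK LD1_c24 LD2_c46 LD3_c41)) = (LP (LK LD1_c14 LD2_c59 LD3_c14)) :=
  Lre_b IH (LK LD1_c24 LD2_c46 LD3_c41) (LK LD1_c14 LD2_c59 LD3_c14) Lrfl Lrfl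
theorem f39539 : Led Lsl_bt (LP (LK LD1_c8 LD2_c42 LD3_c26)) = (LP (LK LD1_c16 LD2_c18 LD3_c25)) :=
  Lre_b IH (LK LD1_c8 LD2_c42 LD3_c26) (LK LD1_c16 LD2_c18 LD3_c25) Lrfl Lrfl
theorem f39540 : Led Lsl_et (LP (LK LD1_c14 LD2_c59 LD3_c14)) = (LP (LK LD1_c8 LD2_c42 LD3_c26)) :=
  Lgr Lrot74 (Lpe (f38756 IH) (Lpr_ef (f39510 IH) (Lpe (f39539 IH) (Lpn (LP (LK LD1_c8 LD2_c42 LD3_c26))))))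
theorem f38771 : Led Lsl_dt (LP (LK LD1_c14 LD2_c59 LD3_c14)) = (LP (LK LD1_c7 LD2_c56 LD3_c35)) :=
  Lre_d IH (LK LD1_c14 LD2_c59 LD3_c14) (LK LD1_c7 LD2_c56 LD3_c35) Lrfl Lrfl
theorem f38805 : Led Lsl_af (LP (LK LD1_c14 LD2_c59 LD3_c14)) = (LP (LK LD1_c8 LD2_c45 LD3_c9)) :=
  Lgr Lrot117 (Lpr_dt (f38771 IH) (Lpr_at (K1.f38798 IH) (Lpr_dt (K1.f16290 IH) (Lpn (LP (LK LD1_c8 LD2_c45 LD3_c9))))))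
theorem f38993 : Led Lsl_et (LP (LK LD1_c3 LD2_c57 LD3_c9)) = (LP (LK LD1_c7 LD2_c56 LD3_c0)) :=
  Lre_e IH (LK LD1_c3 LD2_c57 LD3_c9) (LK LD1_c7 LD2_c56 LD3_c0) Lrfl Lrfl
theorem f16282 : Led Lsl_dt (LP (LK LD1_c8 LD2_c45 LD3_c9)) = (LP (LK LD1_c4 LD2_c23 LD3_c39)) :=
  Lre_d IH (LK LD1_c8 LD2_c45 LD3_c9) (LK LD1_c4 LD2_c23 LD3_c39) Lrfl Lrfl
theorem f39179 : Led Lsl_et (LP (LK LD1_c14 LD2_c58 LD3_c3)) = (LP (LK LD1_c8 LD2_c45 LD3_c9)) :=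
  Lgr Lrot71 (Lpe (f39017 IH) (Lpe (f38993 IH) (Lpr_df (K1.f39171 IH) (Lpe (K1.f38808 IH) (Lpe (f16282 IH) (Lpn (LP (LK LD1_c8 LD2_c45 LD3_c9))))))))
theorem f39581 : Led Lsl_af (LP (LK LD1_c14 LD2_c58 LD3_c3)) = (LP (LK LD1_c8 LD2_c42 LD3_c26)) :=
  Lgr Lrot50 (Lpr_et (f39179 IH) (Lpe (f38805 IH) (Lpr_et (f39540 IH) (Lpn (LP (LK LD1_c8 LD2_c42 LD3_c26))))))
theorem f39149 : Led Lsl_ct (LP (LK LD1_c16 LD2_c18 LD3_c51)) = (LP (LK LD1_c8 LD2_c42 LD3_c26)) :=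
  Lre_c IH (LK LD1_c16 LD2_c18 LD3_c51) (LK LD1_c8 LD2_c42 LD3_c26) Lrfl Lrfl
theorem f39594 : Led Lsl_at (LP (LK LD1_c24 LD2_c45 LD3_c42)) = (LP (LK LD1_c16 LD2_c18 LD3_c51)) :=
  Lgr Lrot107 (Lpe (f39593 IH) (Lpr_af (f39581 IH) (Lpe (f39149 IH) (Lpn (LP (LK LD1_c16 LD2_c18 LD3_c51))))))
theorem f39603 : Led Lsl_af (LP (LK LD1_c24 LD2_c45 LD3_c42)) = (LP (LK LD1_c16 LD2_c18 LD3_c51)) :=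
  Lgr Lrot0 (Lpr_at (f39594 IH) (Lpn (LP (LK LD1_c16 LD2_c18 LD3_c51))))
theorem f39580 : Led Lsl_ft (LP (LK LD1_c26 LD2_c12 LD3_c14)) = (LP (LK LD1_c16 LD2_c18 LD3_c51)) :=
  Lre_f IH (LK LD1_c26 LD2_c12 LD3_c14) (LK LD1_c16 LD2_c18 LD3_c51) Lrfl Lrfl
theorem f42914 : Led Lsl_df (LP (LK LD1_c24 LD2_c45 LD3_c42)) = (LP (LK LD1_c26 LD2_c12 LD3_c14)) :=
  Lgr Lrot157 (Lpr_ct (f39129 IH) (Lpr_dt (f39128 IH) (Lpr_ct (f39127 IH) (Lpr_dt (f42906 IH) (Lpr_ct (f39120 IH) (Lpr_dt (f39017 IH) (Lpr_ct (f39593 IH) (Lpr_af (f39603 IH) (Lpe (f39580 IH) (Lpn (LP (LK LD1_c26 LD2_c12 LD3_c14))))))))))))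
theorem f39573 : Led Lsl_ft (LP (LK LD1_c16 LD2_c18 LD3_c51)) = (LP (LK LD1_c26 LD2_c12 LD3_c14)) :=
  Lre_f IH (LK LD1_c16 LD2_c18 LD3_c51) (LK LD1_c26 LD2_c12 LD3_c14) Lrfl Lrfl
theorem f39150 : Led Lsl_dt (LP (LK LD1_c26 LD2_c16 LD3_c43)) = (LP (LK LD1_c16 LD2_c18 LD3_c51)) :=
  Lre_d IH (LK LD1_c26 LD2_c16 LD3_c43) (LK LD1_c16 LD2_c18 LD3_c51) Lrfl Lrfl
theorem f42928 : Led Lsl_ft (LP (LK LD1_c24 LD2_c45 LD3_c42)) = (LP (LK LD1_c26 LD2_c16 LD3_c43)) :=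
  Lgr Lrot54 (Lpr_df (f42914 IH) (Lpe (f39573 IH) (Lpe (f39150 IH) (Lpn (LP (LK LD1_c26 LD2_c16 LD3_c43))))))
theorem f42932 : Led Lsl_ff (LP (LK LD1_c24 LD2_c45 LD3_c42)) = (LP (LK LD1_c26 LD2_c16 LD3_c43)) :=
  Lgr Lrot3 (Lpr_ft (f42928 IH) (Lpn (LP (LK LD1_c26 LD2_c16 LD3_c43))))
theorem f39542 : Led Lsl_et (LP (LK LD1_c24 LD2_c46 LD3_c41)) = (LP (LK LD1_c16 LD2_c18 LD3_c25)) :=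
  Lgr Lrot87 (Lpr_ef (f39510 IH) (Lpn (LP (LK LD1_c16 LD2_c18 LD3_c25))))
theorem f38774 : Led Lsl_bt (LP (LK LD1_c14 LD2_c59 LD3_c14)) = (LP (LK LD1_c24 LD2_c46 LD3_c41)) :=
  Lre_b IH (LK LD1_c14 LD2_c59 LD3_c14) (LK LD1_c24 LD2_c46 LD3_c41) Lrfl Lrfl
theorem f39549 : Led Lsl_bt (LP (LK LD1_c16 LD2_c18 LD3_c25)) = (LP (LK LD1_c8 LD2_c42 LD3_c26)) :=
  Lre_b IH (LK LD1_c16 LD2_c18 LD3_c25) (LK LD1_c8 LD2_c42 LD3_c26) Lrfl Lrfl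
theorem f39550 : Led Lsl_ef (LP (LK LD1_c14 LD2_c59 LD3_c14)) = (LP (LK LD1_c8 LD2_c42 LD3_c26)) :=
  Lgr Lrot29 (Lpr_bt (f38774 IH) (Lpr_et (f39542 IH) (Lpr_bt (f39549 IH) (Lpn (LP (LK LD1_c8 LD2_c42 LD3_c26))))))
theorem f39557 : Led Lsl_et (LP (LK LD1_c24 LD2_c46 LD3_c49)) = (LP (LK LD1_c16 LD2_c18 LD3_c51)) :=
  Lgr Lrot158 (Lpe (K1.f38710 IH) (Lpr_ef (f39550 IH) (Lpe (f39149 IH) (Lpn (LP (LK LD1_c16 LD2_c18 LD3_c51))))))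
theorem f39571 : Led Lsl_ef (LP (LK LD1_c24 LD2_c46 LD3_c49)) = (LP (LK LD1_c16 LD2_c18 LD3_c51)) :=
  Lgr Lrot88 (Lpr_et (f39557 IH) (Lpn (LP (LK LD1_c16 LD2_c18 LD3_c51))))
theorem f38763 : Led Lsl_at (LP (LK LD1_c24 LD2_c46 LD3_c49)) = (LP (LK LD1_c16 LD2_c23 LD3_c2)) :=
  Lgr Lrot100 (Lpr_af (K1.f38721 IH) (Lpn (LP (LK LD1_c16 LD2_c23 LD3_c2))))
theorem f39605 : Led Lsl_ef (LP (LK LD1_c24 LD2_c45 LD3_c42)) = (LP (LK LD1_c16 LD2_c23 LD3_c2)) :=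
  Lgr Lrot20 (Lpr_at (f39594 IH) (Lpe (f39571 IH) (Lpr_at (f38763 IH) (Lpn (LP (LK LD1_c16 LD2_c23 LD3_c2))))))
theorem f39607 : Led Lsl_et (LP (LK LD1_c24 LD2_c45 LD3_c42)) = (LP (LK LD1_c16 LD2_c23 LD3_c2)) :=
  Lgr Lrot87 (Lpr_ef (f39605 IH) (Lpn (LP (LK LD1_c16 LD2_c23 LD3_c2))))
theorem f16264 : Led Lsl_ff (LP (LK LD1_c16 LD2_c33 LD3_c52)) = (LP (LK LD1_c16 LD2_c23 LD3_c2)) :=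
  Lgr Lrot3 (Lpr_ft (K1.f16246 IH) (Lpn (LP (LK LD1_c16 LD2_c23 LD3_c2))))
theorem f16240 : Led Lsl_et (LP (LK LD1_c16 LD2_c33 LD3_c52)) = (LP (LK LD1_c26 LD2_c30 LD3_c46)) :=
  Lre_e IH (LK LD1_c16 LD2_c33 LD3_c52) (LK LD1_c26 LD2_c30 LD3_c46) Lrfl Lrfl
theorem f39577 : Led Lsl_et (LP (LK LD1_c32 LD2_c6 LD3_c52)) = (LP (LK LD1_c26 LD2_c16 LD3_c43)) :=
  Lre_e IH (LK LD1_c32 LD2_c6 LD3_c52) (LK LD1_c26 LD2_c16 LD3_c43) Lrfl Lrfl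
theorem f42936 : Led Lsl_ft (LP (LK LD1_c26 LD2_c30 LD3_c46)) = (LP (LK LD1_c32 LD2_c6 LD3_c52)) :=
  Lgr Lrot86 (Lpe (f16240 IH) (Lpr_ff (f16264 IH) (Lpe (f39607 IH) (Lpr_ff (f42932 IH) (Lpe (f39577 IH) (Lpn (LP (LK LD1_c32 LD2_c6 LD3_c52))))))))
theorem f16527 : Led Lsl_dt (LP (LK LD1_c16 LD2_c34 LD3_c25)) = (LP (LK LD1_c26 LD2_c30 LD3_c46)) :=
  Lre_d IH (LK LD1_c16 LD2_c34 LD3_c25) (LK LD1_c26 LD2_c30 LD3_c46) Lrfl Lrfl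
theorem f16407 : Led Lsl_ft (LP (LK LD1_c8 LD2_c50 LD3_c59)) = (LP (LK LD1_c16 LD2_c32 LD3_c35)) :=
  Lre_f IH (LK LD1_c8 LD2_c50 LD3_c59) (LK LD1_c16 LD2_c32 LD3_c35) Lrfl Lrfl
theorem f38778 : Led Lsl_df (LP (LK LD1_c24 LD2_c46 LD3_c49)) = (LP (LK LD1_c16 LD2_c32 LD3_c35)) :=
  Lgr Lrot78 (Lpr_ft (K1.f38767 IH) (Lpr_dt (K1.f16332 IH) (Lpr_ft (f16407 IH) (Lpn (LP (LK LD1_c16 LD2_c32 LD3_c35))))))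
theorem f16394 : Led Lsl_et (LP (LK LD1_c26 LD2_c29 LD3_c20)) = (LP (LK LD1_c16 LD2_c32 LD3_c35)) :=
  Lre_e IH (LK LD1_c26 LD2_c29 LD3_c20) (LK LD1_c16 LD2_c32 LD3_c35) Lrfl Lrfl
theorem f39567 : Led Lsl_dt (LP (LK LD1_c16 LD2_c18 LD3_c51)) = (LP (LK LD1_c26 LD2_c16 LD3_c43)) :=
  Lre_d IH (LK LD1_c16 LD2_c18 LD3_c51) (LK LD1_c26 LD2_c16 LD3_c43) Lrfl Lrfl
theorem f39568 : Led Lsl_et (LP (LK LD1_c26 LD2_c16 LD3_c43)) = (LP (LK LD1_c32 LD2_c6 LD3_c52)) :=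
  Lre_e IH (LK LD1_c26 LD2_c16 LD3_c43) (LK LD1_c32 LD2_c6 LD3_c52) Lrfl Lrfl
theorem f39569 : Led Lsl_df (LP (LK LD1_c26 LD2_c29 LD3_c20)) = (LP (LK LD1_c32 LD2_c6 LD3_c52)) :=
  Lgr Lrot70 (Lpr_et (f16394 IH) (Lpe (f38778 IH) (Lpr_et (f39557 IH) (Lpr_dt (f39567 IH) (Lpr_et (f39568 IH) (Lpn (LP (LK LD1_c32 LD2_c6 LD3_c52))))))))
theorem f42942 : Led Lsl_ff (LP (LK LD1_c16 LD2_c34 LD3_c25)) = (LP (LK LD1_c26 LD2_c29 LD3_c20)) :=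
  Lgr Lrot19 (Lpr_dt (f16527 IH) (Lpr_ft (f42936 IH) (Lpe (f39569 IH) (Lpn (LP (LK LD1_c26 LD2_c29 LD3_c20))))))
theorem f42953 : Led Lsl_ft (LP (LK LD1_c16 LD2_c34 LD3_c25)) = (LP (LK LD1_c26 LD2_c29 LD3_c20)) :=
  Lgr Lrot48 (Lpr_ff (f42942 IH) (Lpn (LP (LK LD1_c26 LD2_c29 LD3_c20))))
theorem f16348 : Led Lsl_et (LP (LK LD1_c8 LD2_c51 LD3_c26)) = (LP (LK LD1_c16 LD2_c23 LD3_c23)) :=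
  Lre_e IH (LK LD1_c8 LD2_c51 LD3_c26) (LK LD1_c16 LD2_c23 LD3_c23) Lrfl Lrfl
theorem f16349 : Led Lsl_et (LP (LK LD1_c16 LD2_c32 LD3_c36)) = (LP (LK LD1_c8 LD2_c50 LD3_c60)) :=
  Lre_e IH (LK LD1_c16 LD2_c32 LD3_c36) (LK LD1_c8 LD2_c50 LD3_c60) Lrfl Lrfl
theorem f16350 : Led Lsl_at (LP (LK LD1_c16 LD2_c23 LD3_c23)) = (LP (LK LD1_c16 LD2_c32 LD3_c36)) :=
  Lgr Lrot80 (Lpe (f16348 IH) (Lpr_af (K1.f16334 IH) (Lpe (f16349 IH) (Lpn (LP (LK LD1_c16 LD2_c32 LD3_c36))))))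
theorem f16370 : Led Lsl_ct (LP (LK LD1_c26 LD2_c21 LD3_c15)) = (LP (LK LD1_c16 LD2_c23 LD3_c23)) :=
  Lre_c IH (LK LD1_c26 LD2_c21 LD3_c15) (LK LD1_c16 LD2_c23 LD3_c23) Lrfl Lrfl
theorem f16371 : Led Lsl_ct (LP (LK LD1_c16 LD2_c32 LD3_c36)) = (LP (LK LD1_c26 LD2_c29 LD3_c20)) :=
  Lre_c IH (LK LD1_c16 LD2_c32 LD3_c36) (LK LD1_c26 LD2_c29 LD3_c20) Lrfl Lrfl
theorem f16372 : Led Lsl_af (LP (LK LD1_c26 LD2_c21 LD3_c15)) = (LP (LK LD1_c26 LD2_c29 LD3_c20)) :=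
  Lgr Lrot68 (Lpr_ct (f16370 IH) (Lpr_at (f16350 IH) (Lpr_ct (f16371 IH) (Lpn (LP (LK LD1_c26 LD2_c29 LD3_c20))))))
theorem f42961 : Led Lsl_af (LP (LK LD1_c16 LD2_c34 LD3_c25)) = (LP (LK LD1_c16 LD2_c23 LD3_c30)) :=
  Lgr Lrot45 (Lpr_ft (f42953 IH) (Lpe (f16372 IH) (Lpr_ft (f16392 IH) (Lpn (LP (LK LD1_c16 LD2_c23 LD3_c30))))))
theorem f100987 : Led Lsl_ct (LP (LK LD1_c12 LD2_c5 LD3_c19)) = (LP (LK LD1_c16 LD2_c34 LD3_c25)) :=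
  Lgr Lrot98 (Lpr_df (f100976 IH) (Lpr_cf (f39815 IH) (Lpe (f39321 IH) (Lpe (f39389 IH) (Lpe (f39600 IH) (Lpe (f39820 IH) (Lpe (f39826 IH) (Lpr_ft (f16392 IH) (Lpe (f42961 IH) (Lpn (LP (LK LD1_c16 LD2_c34 LD3_c25))))))))))))
theorem f101002 : Led Lsl_et (LP (LK LD1_c6 LD2_c13 LD3_c11)) = (LP (LK LD1_c12 LD2_c5 LD3_c19)) :=
  Lre_e IH (LK LD1_c6 LD2_c13 LD3_c11) (LK LD1_c12 LD2_c5 LD3_c19) Lrfl Lrfl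
theorem f42952 : Led Lsl_et (LP (LK LD1_c16 LD2_c34 LD3_c25)) = (LP (LK LD1_c8 LD2_c51 LD3_c51)) :=
  Lre_e IH (LK LD1_c16 LD2_c34 LD3_c25) (LK LD1_c8 LD2_c51 LD3_c51) Lrfl Lrfl
theorem f101003 : Led Lsl_cf (LP (LK LD1_c6 LD2_c13 LD3_c11)) = (LP (LK LD1_c8 LD2_c51 LD3_c51)) :=
  Lgr Lrot39 (Lpr_et (f101002 IH) (Lpr_ct (f100987 IH) (Lpr_et (f42952 IH) (Lpn (LP (LK LD1_c8 LD2_c51 LD3_c51))))))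
theorem f42994 : Led Lsl_dt (LP (LK LD1_c4 LD2_c26 LD3_c61)) = (LP (LK LD1_c8 LD2_c51 LD3_c51)) :=
  Lre_d IH (LK LD1_c4 LD2_c26 LD3_c61) (LK LD1_c8 LD2_c51 LD3_c51) Lrfl Lrfl
theorem f43029 : Led Lsl_ct (LP (LK LD1_c2 LD2_c10 LD3_c38)) = (LP (LK LD1_c4 LD2_c26 LD3_c61)) :=
  Lre_c IH (LK LD1_c2 LD2_c10 LD3_c38) (LK LD1_c4 LD2_c26 LD3_c61) Lrfl Lrfl
theorem f35553 : Led Lsl_dt (LP (LK LD1_c1 LD2_c2 LD3_c20)) = (LP (LK LD1_c2 LD2_c10 LD3_c38)) :=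
  Lre_d IH (LK LD1_c1 LD2_c2 LD3_c20) (LK LD1_c2 LD2_c10 LD3_c38) Lrfl Lrfl
theorem f101021 : Led Lsl_ct (LP (LK LD1_c0 LD2_c28 LD3_c26)) = (LP (LK LD1_c1 LD2_c2 LD3_c20)) :=
  Lre_c IH (LK LD1_c0 LD2_c28 LD3_c26) (LK LD1_c1 LD2_c2 LD3_c20) Lrfl Lrfl
theorem f100659 : Led Lsl_ct (LP (LK LD1_c3 LD2_c3 LD3_c21)) = (LP (LK LD1_c1 LD2_c27 LD3_c35)) :=
  Lre_c IH (LK LD1_c3 LD2_c3 LD3_c21) (LK LD1_c1 LD2_c27 LD3_c35) Lrfl Lrfl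
theorem f42904 : Led Lsl_et (LP (LK LD1_c0 LD2_c24 LD3_c36)) = (LP (LK LD1_c0 LD2_c24 LD3_c36)) :=
  Lgr Lrot158 (Lpe (K1.f39176 IH) (Lpr_ef (f42900 IH) (Lpe (K1.f38942 IH) (Lpn (LP (LK LD1_c0 LD2_c24 LD3_c36))))))
theorem f100968 : Led Lsl_dt (LP (LK LD1_c1 LD2_c27 LD3_c35)) = (LP (LK LD1_c1 LD2_c27 LD3_c35)) :=
  Lgr Lrot77 (Lpr_ef (f100956 IH) (Lpe (K1.f39177 IH) (Lpe (f42904 IH) (Lpe (K1.f38941 IH) (Lpe (f100949 IH) (Lpn (LP (LK LD1_c1 LD2_c27 LD3_c35))))))))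
theorem f100971 : Led Lsl_dt (LP (LK LD1_c3 LD2_c3 LD3_c21)) = (LP (LK LD1_c6 LD2_c13 LD3_c11)) :=
  Lre_d IH (LK LD1_c3 LD2_c3 LD3_c21) (LK LD1_c6 LD2_c13 LD3_c11) Lrfl Lrfl
theorem f101017 : Led Lsl_ct (LP (LK LD1_c6 LD2_c13 LD3_c11)) = (LP (LK LD1_c8 LD2_c51 LD3_c51)) :=
  Lgr Lrot59 (Lpr_cf (f101003 IH) (Lpn (LP (LK LD1_c8 LD2_c51 LD3_c51))))
theorem f43020 : Led Lsl_dt (LP (LK LD1_c8 LD2_c51 LD3_c51)) = (LP (LK LD1_c4 LD2_c26 LD3_c61)) :=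
  Lre_d IH (LK LD1_c8 LD2_c51 LD3_c51) (LK LD1_c4 LD2_c26 LD3_c61) Lrfl Lrfl
theorem f43026 : Led Lsl_ct (LP (LK LD1_c4 LD2_c26 LD3_c61)) = (LP (LK LD1_c2 LD2_c10 LD3_c38)) :=
  Lre_c IH (LK LD1_c4 LD2_c26 LD3_c61) (LK LD1_c2 LD2_c10 LD3_c38) Lrfl Lrfl
theorem f101019 : Led Lsl_dt (LP (LK LD1_c2 LD2_c10 LD3_c38)) = (LP (LK LD1_c1 LD2_c2 LD3_c20)) :=
  Lre_d IH (LK LD1_c2 LD2_c10 LD3_c38) (LK LD1_c1 LD2_c2 LD3_c20) Lrfl Lrfl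
theorem f101020 : Led Lsl_ct (LP (LK LD1_c1 LD2_c2 LD3_c20)) = (LP (LK LD1_c0 LD2_c28 LD3_c26)) :=
  Lre_c IH (LK LD1_c1 LD2_c2 LD3_c20) (LK LD1_c0 LD2_c28 LD3_c26) Lrfl Lrfl
theorem f101022 : Led Lsl_dt (LP (LK LD1_c0 LD2_c28 LD3_c26)) = (LP (LK LD1_c0 LD2_c28 LD3_c26)) :=
  Lgr Lrot173 (Lpe (f101020 IH) (Lpe (f101019 IH) (Lpe (f43026 IH) (Lpe (f43020 IH) (Lpe (f101017 IH) (Lpe (f100971 IH) (Lpe (f100661 IH) (Lpe (f100968 IH) (Lpe (f100659 IH) (Lpe (f100660 IH) (Lpr_cf (f101003 IH) (Lpe (f42994 IH) (Lpe (f43029 IH) (Lpe (f35553 IH) (Lpe (f101021 IH) (Lpn (LP (LK LD1_c0 LD2_c28 LD3_c26))))))))))))))))))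
theorem f101026 : Led Lsl_ft (LP (LK LD1_c2 LD2_c10 LD3_c38)) = (LP (LK LD1_c4 LD2_c23 LD3_c44)) :=
  Lre_f IH (LK LD1_c2 LD2_c10 LD3_c38) (LK LD1_c4 LD2_c23 LD3_c44) Lrfl Lrfl
theorem f101027 : Led Lsl_af (LP (LK LD1_c6 LD2_c13 LD3_c11)) = (LP (LK LD1_c4 LD2_c23 LD3_c44)) :=
  Lgr Lrot109 (Lpr_cf (f101003 IH) (Lpe (f42994 IH) (Lpe (f43029 IH) (Lpe (f35553 IH) (Lpe (f101021 IH) (Lpe (f101022 IH) (Lpe (f101020 IH) (Lpe (f101019 IH) (Lpr_ft (f101026 IH) (Lpn (LP (LK LD1_c4 LD2_c23 LD3_c44))))))))))))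
theorem f100972 : Led Lsl_ft (LP (LK LD1_c6 LD2_c13 LD3_c11)) = (LP (LK LD1_c3 LD2_c3 LD3_c20)) :=
  Lre_f IH (LK LD1_c6 LD2_c13 LD3_c11) (LK LD1_c3 LD2_c3 LD3_c20) Lrfl Lrfl
theorem f101040 : Led Lsl_at (LP (LK LD1_c3 LD2_c3 LD3_c20)) = (LP (LK LD1_c2 LD2_c10 LD3_c38)) :=
  Lgr Lrot66 (Lpe (f100972 IH) (Lpr_af (f101027 IH) (Lpe (f101026 IH) (Lpn (LP (LK LD1_c2 LD2_c10 LD3_c38))))))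
theorem f69365 : Led Lsl_dt (LP (LK LD1_c1 LD2_c27 LD3_c33)) = (LP (LK LD1_c3 LD2_c3 LD3_c20)) :=
  Lre_d IH (LK LD1_c1 LD2_c27 LD3_c33) (LK LD1_c3 LD2_c3 LD3_c20) Lrfl Lrfl
theorem f101057 : Led Lsl_af (LP (LK LD1_c1 LD2_c27 LD3_c33)) = (LP (LK LD1_c1 LD2_c2 LD3_c20)) :=
  Lgr Lrot117 (Lpr_dt (f69365 IH) (Lpr_at (f101040 IH) (Lpr_dt (f101019 IH) (Lpn (LP (LK LD1_c1 LD2_c2 LD3_c20))))))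
theorem f80910 : Led Lsl_gt (LP (LK LD1_c3 LD2_c3 LD3_c19)) = (LP (LK LD1_c1 LD2_c27 LD3_c33)) :=
  Lre_g IH (LK LD1_c3 LD2_c3 LD3_c19) (LK LD1_c1 LD2_c27 LD3_c33) Lrfl Lrfl
theorem f101266 : Led Lsl_ft (LP (LK LD1_c2 LD2_c9 LD3_c16)) = (LP (LK LD1_c1 LD2_c2 LD3_c20)) :=
  Lre_f IH (LK LD1_c2 LD2_c9 LD3_c16) (LK LD1_c1 LD2_c2 LD3_c20) Lrfl Lrfl
theorem f101281 : Led Lsl_gf (LP (LK LD1_c3 LD2_c3 LD3_c19)) = (LP (LK LD1_c2 LD2_c9 LD3_c16)) :=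
  Lgr Lrot47 (Lpr_gt (f80910 IH) (Lpr_af (f101057 IH) (Lpe (f101266 IH) (Lpn (LP (LK LD1_c2 LD2_c9 LD3_c16))))))
theorem f175888 : Led Lsl_ct (LP (LK LD1_c1 LD2_c27 LD3_c43)) = (LP (LK LD1_c3 LD2_c3 LD3_c19)) :=
  Lgr Lrot10 (Lpr_bt (f101511 IH) (Lpr_gt (f101509 IH) (Lpr_ct (f100592 IH) (Lpe (f172121 IH) (Lpe (f9391 IH) (Lpr_bt (f175825 IH) (Lpr_gt (f9421 IH) (Lpe (f9438 IH) (Lpr_ct (f42998 IH) (Lpe (f101281 IH) (Lpn (LP (LK LD1_c3 LD2_c3 LD3_c19)))))))))))))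
theorem f59521 : Led Lsl_et (LP (LK LD1_c0 LD2_c18 LD3_c10)) = (LP (LK LD1_c0 LD2_c8 LD3_c10)) :=
  Lre_e IH (LK LD1_c0 LD2_c18 LD3_c10) (LK LD1_c0 LD2_c8 LD3_c10) Lrfl Lrfl
theorem f59523 : Led Lsl_gt (LP (LK LD1_c0 LD2_c30 LD3_c3)) = (LP (LK LD1_c1 LD2_c5 LD3_c45)) :=
  Lre_g IH (LK LD1_c0 LD2_c30 LD3_c3) (LK LD1_c1 LD2_c5 LD3_c45) Lrfl Lrfl
theorem f101510 : Led Lsl_dt (LP (LK LD1_c1 LD2_c27 LD3_c44)) = (LP (LK LD1_c0 LD2_c40 LD3_c35)) :=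
  Lre_d IH (LK LD1_c1 LD2_c27 LD3_c44) (LK LD1_c0 LD2_c40 LD3_c35) Lrfl Lrfl
theorem f101514 : Led Lsl_ef (LP (LK LD1_c1 LD2_c5 LD3_c45)) = (LP (LK LD1_c1 LD2_c27 LD3_c44)) :=
  Lgr Lrot17 (Lpe (f59523 IH) (Lpe (K1.f59522 IH) (Lpe (K1.f36284 IH) (Lpr_gf (K0.f26738 IH) (Lpe (K1.f59505 IH) (Lpr_gf (K1.f59515 IH) (Lpe (f59521 IH) (Lpr_dt (f100645 IH) (Lpe (f101509 IH) (Lpe (f101510 IH) (Lpn (LP (LK LD1_c1 LD2_c27 LD3_c44)))))))))))))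
theorem f55596 : Led Lsl_af (LP (LK LD1_c0 LD2_c26 LD3_c11)) = (LP (LK LD1_c0 LD2_c25 LD3_c57)) :=
  Lgr Lrot0 (Lpr_at (K1.f55591 IH) (Lpn (LP (LK LD1_c0 LD2_c25 LD3_c57))))
theorem f60883 : Led Lsl_at (LP (LK LD1_c0 LD2_c57 LD3_c36)) = (LP (LK LD1_c0 LD2_c40 LD3_c56)) :=
  Lgr Lrot80 (Lpe (f47926 IH) (Lpr_af (f55596 IH) (Lpr_ef (K1.f60427 IH) (Lpn (LP (LK LD1_c0 LD2_c40 LD3_c56))))))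
theorem f80283 : Led Lsl_gf (LP (LK LD1_c0 LD2_c40 LD3_c56)) = (LP (LK LD1_c1 LD2_c5 LD3_c45)) :=
  Lgr Lrot76 (Lpe (f60883 IH) (Lpr_ff (f80279 IH) (Lpr_gt (f59523 IH) (Lpn (LP (LK LD1_c1 LD2_c5 LD3_c45))))))
theorem f55610 : Led Lsl_bt (LP (LK LD1_c0 LD2_c56 LD3_c42)) = (LP (LK LD1_c0 LD2_c25 LD3_c57)) :=
  Lre_b IH (LK LD1_c0 LD2_c56 LD3_c42) (LK LD1_c0 LD2_c25 LD3_c57) Lrfl Lrfl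
theorem f60418 : Led Lsl_et (LP (LK LD1_c0 LD2_c25 LD3_c57)) = (LP (LK LD1_c0 LD2_c40 LD3_c56)) :=
  Lgr Lrot74 (Lpe (f55610 IH) (Lpr_ef (K1.f60413 IH) (Lpe (K1.f60417 IH) (Lpn (LP (LK LD1_c0 LD2_c40 LD3_c56))))))
theorem f55581 : Led Lsl_dt (LP (LK LD1_c0 LD2_c25 LD3_c57)) = (LP (LK LD1_c0 LD2_c11 LD3_c32)) :=
  Lre_d IH (LK LD1_c0 LD2_c25 LD3_c57) (LK LD1_c0 LD2_c11 LD3_c32) Lrfl Lrfl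
theorem f101424 : Led Lsl_ft (LP (LK LD1_c0 LD2_c18 LD3_c10)) = (LP (LK LD1_c0 LD2_c40 LD3_c36)) :=
  Lre_f IH (LK LD1_c0 LD2_c18 LD3_c10) (LK LD1_c0 LD2_c40 LD3_c36) Lrfl Lrfl
theorem f58971 : Led Lsl_gt (LP (LK LD1_c0 LD2_c18 LD3_c10)) = (LP (LK LD1_c0 LD2_c40 LD3_c34)) :=
  Lre_g IH (LK LD1_c0 LD2_c18 LD3_c10) (LK LD1_c0 LD2_c40 LD3_c34) Lrfl Lrfl
theorem f101495 : Led Lsl_gf (LP (LK LD1_c0 LD2_c32 LD3_c45)) = (LP (LK LD1_c0 LD2_c40 LD3_c34)) :=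
  Lgr Lrot76 (Lpr_af (f100666 IH) (Lpe (f101424 IH) (Lpr_gt (f58971 IH) (Lpn (LP (LK LD1_c0 LD2_c40 LD3_c34))))))
theorem f8081 : Led Lsl_gt (LP (LK LD1_c0 LD2_c11 LD3_c37)) = (LP (LK LD1_c0 LD2_c26 LD3_c8)) :=
  Lre_g IH (LK LD1_c0 LD2_c11 LD3_c37) (LK LD1_c0 LD2_c26 LD3_c8) Lrfl Lrfl
theorem f56040 : Led Lsl_ef (LP (LK LD1_c0 LD2_c26 LD3_c8)) = (LP (LK LD1_c0 LD2_c24 LD3_c49)) :=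
  Lgr Lrot17 (Lpe (f8081 IH) (Lpr_ef (K1.f56035 IH) (Lpr_dt (K1.f194 IH) (Lpe (K0.f20988 IH) (Lpe (K1.f8235 IH) (Lpr_gf (K1.f37752 IH) (Lpe (f27241 IH) (Lpr_dt (K1.f27242 IH) (Lpe (f6795 IH) (Lpe (f6809 IH) (Lpn (LP (LK LD1_c0 LD2_c24 LD3_c49)))))))))))))
theorem f55605 : Led Lsl_gt (LP (LK LD1_c0 LD2_c26 LD3_c8)) = (LP (LK LD1_c0 LD2_c25 LD3_c57)) :=
  Lgr Lrot46 (Lpe (f8081 IH) (Lpr_ft (K1.f55590 IH) (Lpr_at (K1.f55591 IH) (Lpn (LP (LK LD1_c0 LD2_c25 LD3_c57))))))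
theorem f8257 : Led Lsl_gt (LP (LK LD1_c0 LD2_c11 LD3_c36)) = (LP (LK LD1_c0 LD2_c5 LD3_c23)) :=
  Lre_g IH (LK LD1_c0 LD2_c11 LD3_c36) (LK LD1_c0 LD2_c5 LD3_c23) Lrfl Lrfl
theorem f58968 : Led Lsl_dt (LP (LK LD1_c0 LD2_c26 LD3_c6)) = (LP (LK LD1_c0 LD2_c11 LD3_c36)) :=
  Lre_d IH (LK LD1_c0 LD2_c26 LD3_c6) (LK LD1_c0 LD2_c11 LD3_c36) Lrfl Lrfl
theorem f58970 : Led Lsl_et (LP (LK LD1_c0 LD2_c8 LD3_c10)) = (LP (LK LD1_c0 LD2_c18 LD3_c10)) :=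
  Lre_e IH (LK LD1_c0 LD2_c8 LD3_c10) (LK LD1_c0 LD2_c18 LD3_c10) Lrfl Lrfl
theorem f58972 : Led Lsl_et (LP (LK LD1_c0 LD2_c26 LD3_c6)) = (LP (LK LD1_c0 LD2_c40 LD3_c34)) :=
  Lgr Lrot122 (Lpr_dt (f58968 IH) (Lpr_gt (f8257 IH) (Lpe (K1.f53168 IH) (Lpr_et (f8134 IH) (Lpr_gt (K1.f58941 IH) (Lpr_dt (K1.f7120 IH) (Lpr_gt (K1.f3833 IH) (Lpe (K2.f58969 IH) (Lpr_et (f58970 IH) (Lpr_gt (f58971 IH) (Lpn (LP (LK LD1_c0 LD2_c40 LD3_c34)))))))))))))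
theorem f101497 : Led Lsl_gt (LP (LK LD1_c0 LD2_c11 LD3_c32)) = (LP (LK LD1_c0 LD2_c11 LD3_c36)) :=
  Lgr Lrot139 (Lpe (f55581 IH) (Lpe (f55605 IH) (Lpr_ef (f56040 IH) (Lpr_dt (f6809 IH) (Lpr_gf (f40789 IH) (Lpe (f40792 IH) (Lpr_et (f40807 IH) (Lpr_gf (f101495 IH) (Lpe (f58972 IH) (Lpr_dt (f58968 IH) (Lpn (LP (LK LD1_c0 LD2_c11 LD3_c36)))))))))))))
theorem f101527 : Led Lsl_gt (LP (LK LD1_c0 LD2_c32 LD3_c45)) = (LP (LK LD1_c0 LD2_c40 LD3_c35)) :=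
  Lgr Lrot139 (Lpr_df (f100675 IH) (Lpr_gf (f101495 IH) (Lpe (f58972 IH) (Lpr_dt (f58968 IH) (Lpe (f101497 IH) (Lpe (f55581 IH) (Lpr_et (f60418 IH) (Lpr_gf (f80283 IH) (Lpr_ef (f101514 IH) (Lpr_dt (f101510 IH) (Lpn (LP (LK LD1_c0 LD2_c40 LD3_c35)))))))))))))
theorem f100668 : Led Lsl_bt (LP (LK LD1_c0 LD2_c16 LD3_c35)) = (LP (LK LD1_c0 LD2_c32 LD3_c45)) :=
  Lre_b IH (LK LD1_c0 LD2_c16 LD3_c35) (LK LD1_c0 LD2_c32 LD3_c45) Lrfl Lrfl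
theorem f26662 : Led Lsl_ct (LP (LK LD1_c0 LD2_c16 LD3_c35)) = (LP (LK LD1_c0 LD2_c37 LD3_c13)) :=
  Lre_c IH (LK LD1_c0 LD2_c16 LD3_c35) (LK LD1_c0 LD2_c37 LD3_c13) Lrfl Lrfl
theorem f23958 : Led Lsl_gt (LP (LK LD1_c1 LD2_c5 LD3_c11)) = (LP (LK LD1_c0 LD2_c37 LD3_c13)) :=
  Lre_g IH (LK LD1_c1 LD2_c5 LD3_c11) (LK LD1_c0 LD2_c37 LD3_c13) Lrfl Lrfl
theorem f69378 : Led Lsl_ct (LP (LK LD1_c0 LD2_c40 LD3_c31)) = (LP (LK LD1_c1 LD2_c27 LD3_c33)) :=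
  Lre_c IH (LK LD1_c0 LD2_c40 LD3_c31) (LK LD1_c1 LD2_c27 LD3_c33) Lrfl Lrfl
theorem f175893 : Led Lsl_cf (LP (LK LD1_c1 LD2_c5 LD3_c11)) = (LP (LK LD1_c0 LD2_c40 LD3_c34)) :=
  Lgr Lrot125 (Lpr_gt (f23958 IH) (Lpe (f26662 IH) (Lpr_bt (f100668 IH) (Lpr_gt (f101527 IH) (Lpe (f101511 IH) (Lpr_ct (f175888 IH) (Lpr_gt (f80910 IH) (Lpe (f69378 IH) (Lpr_bt (f100641 IH) (Lpr_gt (f58971 IH) (Lpn (LP (LK LD1_c0 LD2_c40 LD3_c34)))))))))))))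
theorem f175895 : Led Lsl_ct (LP (LK LD1_c1 LD2_c5 LD3_c11)) = (LP (LK LD1_c0 LD2_c40 LD3_c34)) :=
  Lgr Lrot59 (Lpr_cf (f175893 IH) (Lpn (LP (LK LD1_c0 LD2_c40 LD3_c34))))
theorem f23974 : Led Lsl_gt (LP (LK LD1_c0 LD2_c29 LD3_c47)) = (LP (LK LD1_c1 LD2_c5 LD3_c11)) :=
  Lre_g IH (LK LD1_c0 LD2_c29 LD3_c47) (LK LD1_c1 LD2_c5 LD3_c11) Lrfl Lrfl
theorem f23928 : Led Lsl_dt (LP (LK LD1_c0 LD2_c29 LD3_c47)) = (LP (LK LD1_c1 LD2_c5 LD3_c13)) :=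
  Lre_d IH (LK LD1_c0 LD2_c29 LD3_c47) (LK LD1_c1 LD2_c5 LD3_c13) Lrfl Lrfl
theorem f169774 : Led Lsl_gt (LP (LK LD1_c1 LD2_c5 LD3_c13)) = (LP (LK LD1_c2 LD2_c16 LD3_c39)) :=
  Lre_g IH (LK LD1_c1 LD2_c5 LD3_c13) (LK LD1_c2 LD2_c16 LD3_c39) Lrfl Lrfl
theorem f176054 : Led Lsl_ct (LP (LK LD1_c2 LD2_c16 LD3_c39)) = (LP (LK LD1_c4 LD2_c39 LD3_c21)) :=
  Lre_c IH (LK LD1_c2 LD2_c16 LD3_c39) (LK LD1_c4 LD2_c39 LD3_c21) Lrfl Lrfl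
theorem f176055 : Led Lsl_gt (LP (LK LD1_c4 LD2_c39 LD3_c21)) = (LP (LK LD1_c4 LD2_c57 LD3_c61)) :=
  Lgr Lrot150 (Lpe (f176054 IH) (Lpe (f169774 IH) (Lpe (f23928 IH) (Lpr_gt (f23974 IH) (Lpr_ct (f175895 IH) (Lpe (f101495 IH) (Lpr_ct (f100681 IH) (Lpe (f100684 IH) (Lpe (f72514 IH) (Lpn (LP (LK LD1_c4 LD2_c57 LD3_c61))))))))))))
theorem f100495 : Led Lsl_at (LP (LK LD1_c9 LD2_c45 LD3_c12)) = (LP (LK LD1_c4 LD2_c57 LD3_c45)) :=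
  Lre_a IH (LK LD1_c9 LD2_c45 LD3_c12) (LK LD1_c4 LD2_c57 LD3_c45) Lrfl Lrfl
theorem f100496 : Led Lsl_bt (LP (LK LD1_c4 LD2_c57 LD3_c45)) = (LP (LK LD1_c2 LD2_c26 LD3_c50)) :=
  Lre_b IH (LK LD1_c4 LD2_c57 LD3_c45) (LK LD1_c2 LD2_c26 LD3_c50) Lrfl Lrfl
theorem f100497 : Led Lsl_at (LP (LK LD1_c6 LD2_c13 LD3_c28)) = (LP (LK LD1_c12 LD2_c5 LD3_c30)) :=
  Lre_a IH (LK LD1_c6 LD2_c13 LD3_c28) (LK LD1_c12 LD2_c5 LD3_c30) Lrfl Lrfl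
theorem f100498 : Led Lsl_bt (LP (LK LD1_c3 LD2_c3 LD3_c33)) = (LP (LK LD1_c6 LD2_c13 LD3_c28)) :=
  Lre_b IH (LK LD1_c3 LD2_c3 LD3_c33) (LK LD1_c6 LD2_c13 LD3_c28) Lrfl Lrfl
theorem f100499 : Led Lsl_at (LP (LK LD1_c2 LD2_c26 LD3_c50)) = (LP (LK LD1_c3 LD2_c3 LD3_c33)) :=
  Lgr Lrot67 (Lpe (f100496 IH) (Lpe (f100495 IH) (Lpr_bf (K7.f100493 IH) (Lpe (f100497 IH) (Lpe (f100498 IH) (Lpn (LP (LK LD1_c3 LD2_c3 LD3_c33))))))))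
theorem f100606 : Led Lsl_at (LP (LK LD1_c5 LD2_c0 LD3_c28)) = (LP (LK LD1_c4 LD2_c57 LD3_c61)) :=
  Lgr Lrot107 (Lpr_cf (f100604 IH) (Lpe (f100499 IH) (Lpe (f72514 IH) (Lpn (LP (LK LD1_c4 LD2_c57 LD3_c61))))))
theorem f100693 : Led Lsl_ff (LP (LK LD1_c5 LD2_c0 LD3_c28)) = (LP (LK LD1_c3 LD2_c3 LD3_c32)) :=
  Lgr Lrot103 (Lpr_at (f100606 IH) (Lpe (f100683 IH) (Lpe (f100682 IH) (Lpe (f100681 IH) (Lpr_df (f100675 IH) (Lpe (f100672 IH) (Lpe (f100684 IH) (Lpe (f72514 IH) (Lpe (f100691 IH) (Lpn (LP (LK LD1_c3 LD2_c3 LD3_c32))))))))))))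
theorem f176059 : Led Lsl_gf (LP (LK LD1_c4 LD2_c39 LD3_c21)) = (LP (LK LD1_c3 LD2_c3 LD3_c32)) :=
  Lgr Lrot47 (Lpr_gt (f176055 IH) (Lpe (f100606 IH) (Lpr_ff (f100693 IH) (Lpn (LP (LK LD1_c3 LD2_c3 LD3_c32))))))
theorem f176061 : Led Lsl_ct (LP (LK LD1_c4 LD2_c39 LD3_c21)) = (LP (LK LD1_c2 LD2_c16 LD3_c39)) :=
  Lre_c IH (LK LD1_c4 LD2_c39 LD3_c21) (LK LD1_c2 LD2_c16 LD3_c39) Lrfl Lrfl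
theorem f26684 : Led Lsl_gt (LP (LK LD1_c2 LD2_c16 LD3_c39)) = (LP (LK LD1_c1 LD2_c20 LD3_c33)) :=
  Lre_g IH (LK LD1_c2 LD2_c16 LD3_c39) (LK LD1_c1 LD2_c20 LD3_c33) Lrfl Lrfl
theorem f24003 : Led Lsl_ct (LP (LK LD1_c2 LD2_c48 LD3_c54)) = (LP (LK LD1_c1 LD2_c20 LD3_c33)) :=
  Lre_c IH (LK LD1_c2 LD2_c48 LD3_c54) (LK LD1_c1 LD2_c20 LD3_c33) Lrfl Lrfl
theorem f176098 : Led Lsl_bt (LP (LK LD1_c2 LD2_c48 LD3_c54)) = (LP (LK LD1_c5 LD2_c46 LD3_c21)) :=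
  Lre_b IH (LK LD1_c2 LD2_c48 LD3_c54) (LK LD1_c5 LD2_c46 LD3_c21) Lrfl Lrfl
theorem f176099 : Led Lsl_gt (LP (LK LD1_c5 LD2_c46 LD3_c21)) = (LP (LK LD1_c11 LD2_c22 LD3_c59)) :=
  Lre_g IH (LK LD1_c5 LD2_c46 LD3_c21) (LK LD1_c11 LD2_c22 LD3_c59) Lrfl Lrfl
theorem f176100 : Led Lsl_bt (LP (LK LD1_c20 LD2_c20 LD3_c42)) = (LP (LK LD1_c11 LD2_c22 LD3_c59)) :=
  Lre_b IH (LK LD1_c20 LD2_c20 LD3_c42) (LK LD1_c11 LD2_c22 LD3_c59) Lrfl Lrfl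
theorem f100723 : Led Lsl_bt (LP (LK LD1_c6 LD2_c13 LD3_c29)) = (LP (LK LD1_c3 LD2_c3 LD3_c32)) :=
  Lre_b IH (LK LD1_c6 LD2_c13 LD3_c29) (LK LD1_c3 LD2_c3 LD3_c32) Lrfl Lrfl
theorem f100762 : Led Lsl_ct (LP (LK LD1_c6 LD2_c13 LD3_c29)) = (LP (LK LD1_c12 LD2_c5 LD3_c43)) :=
  Lre_c IH (LK LD1_c6 LD2_c13 LD3_c29) (LK LD1_c12 LD2_c5 LD3_c43) Lrfl Lrfl
theorem f100781 : Led Lsl_gt (LP (LK LD1_c21 LD2_c11 LD3_c28)) = (LP (LK LD1_c12 LD2_c5 LD3_c43)) :=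
  Lre_g IH (LK LD1_c21 LD2_c11 LD3_c28) (LK LD1_c12 LD2_c5 LD3_c43) Lrfl Lrfl
theorem f176101 : Led Lsl_ct (LP (LK LD1_c20 LD2_c20 LD3_c42)) = (LP (LK LD1_c21 LD2_c11 LD3_c28)) :=
  Lgr Lrot64 (Lpr_bt (f176100 IH) (Lpe (f176099 IH) (Lpe (f176098 IH) (Lpr_ct (f24003 IH) (Lpe (f26684 IH) (Lpe (f176061 IH) (Lpr_gf (f176059 IH) (Lpe (f100723 IH) (Lpr_ct (f100762 IH) (Lpe (f100781 IH) (Lpn (LP (LK LD1_c21 LD2_c11 LD3_c28)))))))))))))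
theorem f176107 : Led Lsl_gt (LP (LK LD1_c11 LD2_c22 LD3_c59)) = (LP (LK LD1_c6 LD2_c3 LD3_c61)) :=
  Lre_g IH (LK LD1_c11 LD2_c22 LD3_c59) (LK LD1_c6 LD2_c3 LD3_c61) Lrfl Lrfl
theorem f176108 : Led Lsl_ct (LP (LK LD1_c6 LD2_c3 LD3_c61)) = (LP (LK LD1_c11 LD2_c47 LD3_c60)) :=
  Lre_c IH (LK LD1_c6 LD2_c3 LD3_c61) (LK LD1_c11 LD2_c47 LD3_c60) Lrfl Lrfl
theorem f176109 : Led Lsl_gt (LP (LK LD1_c11 LD2_c47 LD3_c60)) = (LP (LK LD1_c20 LD2_c18 LD3_c7)) :=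
  Lre_g IH (LK LD1_c11 LD2_c47 LD3_c60) (LK LD1_c20 LD2_c18 LD3_c7) Lrfl Lrfl
theorem f100793 : Led Lsl_ff (LP (LK LD1_c6 LD2_c13 LD3_c29)) = (LP (LK LD1_c9 LD2_c51 LD3_c18)) :=
  Lgr Lrot3 (Lpr_ft (f100768 IH) (Lpn (LP (LK LD1_c9 LD2_c51 LD3_c18))))
theorem f100812 : Led Lsl_ct (LP (LK LD1_c18 LD2_c2 LD3_c32)) = (LP (LK LD1_c9 LD2_c51 LD3_c18)) :=
  Lre_c IH (LK LD1_c18 LD2_c2 LD3_c32) (LK LD1_c9 LD2_c51 LD3_c18) Lrfl Lrfl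
theorem f100813 : Led Lsl_ft (LP (LK LD1_c12 LD2_c5 LD3_c43)) = (LP (LK LD1_c18 LD2_c2 LD3_c32)) :=
  Lgr Lrot4 (Lpe (f100762 IH) (Lpr_ff (f100793 IH) (Lpe (f100812 IH) (Lpn (LP (LK LD1_c18 LD2_c2 LD3_c32))))))
theorem f100770 : Led Lsl_at (LP (LK LD1_c21 LD2_c11 LD3_c29)) = (LP (LK LD1_c12 LD2_c5 LD3_c43)) :=
  Lre_a IH (LK LD1_c21 LD2_c11 LD3_c29) (LK LD1_c12 LD2_c5 LD3_c43) Lrfl Lrfl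
theorem f100829 : Led Lsl_at (LP (LK LD1_c18 LD2_c2 LD3_c32)) = (LP (LK LD1_c27 LD2_c44 LD3_c19)) :=
  Lre_a IH (LK LD1_c18 LD2_c2 LD3_c32) (LK LD1_c27 LD2_c44 LD3_c19) Lrfl Lrfl
theorem f100830 : Led Lsl_ff (LP (LK LD1_c21 LD2_c11 LD3_c29)) = (LP (LK LD1_c27 LD2_c44 LD3_c19)) :=
  Lgr Lrot30 (Lpr_at (f100770 IH) (Lpr_ft (f100813 IH) (Lpr_at (f100829 IH) (Lpn (LP (LK LD1_c27 LD2_c44 LD3_c19))))))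
theorem f100847 : Led Lsl_gf (LP (LK LD1_c21 LD2_c11 LD3_c28)) = (LP (LK LD1_c27 LD2_c44 LD3_c19)) :=
  Lgr Lrot47 (Lpr_gt (f100781 IH) (Lpe (f100770 IH) (Lpr_ff (f100830 IH) (Lpn (LP (LK LD1_c27 LD2_c44 LD3_c19))))))
theorem f100803 : Led Lsl_ct (LP (LK LD1_c18 LD2_c2 LD3_c29)) = (LP (LK LD1_c27 LD2_c44 LD3_c19)) :=
  Lre_c IH (LK LD1_c18 LD2_c2 LD3_c29) (LK LD1_c27 LD2_c44 LD3_c19) Lrfl Lrfl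
theorem f100717 : Led Lsl_at (LP (LK LD1_c6 LD2_c13 LD3_c29)) = (LP (LK LD1_c12 LD2_c5 LD3_c49)) :=
  Lre_a IH (LK LD1_c6 LD2_c13 LD3_c29) (LK LD1_c12 LD2_c5 LD3_c49) Lrfl Lrfl
theorem f100809 : Led Lsl_at (LP (LK LD1_c18 LD2_c2 LD3_c29)) = (LP (LK LD1_c9 LD2_c51 LD3_c18)) :=
  Lre_a IH (LK LD1_c18 LD2_c2 LD3_c29) (LK LD1_c9 LD2_c51 LD3_c18) Lrfl Lrfl
theorem f100810 : Led Lsl_ft (LP (LK LD1_c12 LD2_c5 LD3_c49)) = (LP (LK LD1_c18 LD2_c2 LD3_c29)) :=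
  Lgr Lrot101 (Lpe (f100717 IH) (Lpr_ff (f100793 IH) (Lpe (f100809 IH) (Lpn (LP (LK LD1_c18 LD2_c2 LD3_c29))))))
theorem f100799 : Led Lsl_dt (LP (LK LD1_c18 LD2_c2 LD3_c29)) = (LP (LK LD1_c9 LD2_c51 LD3_c17)) :=
  Lre_d IH (LK LD1_c18 LD2_c2 LD3_c29) (LK LD1_c9 LD2_c51 LD3_c17) Lrfl Lrfl
theorem f100866 : Led Lsl_ft (LP (LK LD1_c9 LD2_c51 LD3_c17)) = (LP (LK LD1_c17 LD2_c56 LD3_c55)) :=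
  Lre_f IH (LK LD1_c9 LD2_c51 LD3_c17) (LK LD1_c17 LD2_c56 LD3_c55) Lrfl Lrfl
theorem f100867 : Led Lsl_df (LP (LK LD1_c12 LD2_c5 LD3_c49)) = (LP (LK LD1_c17 LD2_c56 LD3_c55)) :=
  Lgr Lrot78 (Lpr_ft (f100810 IH) (Lpr_dt (f100799 IH) (Lpr_ft (f100866 IH) (Lpn (LP (LK LD1_c17 LD2_c56 LD3_c55))))))
theorem f100715 : Led Lsl_bt (LP (LK LD1_c5 LD2_c0 LD3_c27)) = (LP (LK LD1_c2 LD2_c27 LD3_c58)) :=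
  Lre_b IH (LK LD1_c5 LD2_c0 LD3_c27) (LK LD1_c2 LD2_c27 LD3_c58) Lrfl Lrfl
theorem f100716 : Led Lsl_at (LP (LK LD1_c9 LD2_c51 LD3_c17)) = (LP (LK LD1_c5 LD2_c0 LD3_c27)) :=
  Lre_a IH (LK LD1_c9 LD2_c51 LD3_c17) (LK LD1_c5 LD2_c0 LD3_c27) Lrfl Lrfl
theorem f100718 : Led Lsl_bf (LP (LK LD1_c9 LD2_c51 LD3_c17)) = (LP (LK LD1_c12 LD2_c5 LD3_c49)) :=
  Lgr Lrot81 (Lpr_at (f100716 IH) (Lpr_bt (f100715 IH) (Lpr_at (f100709 IH) (Lpr_bt (f100704 IH) (Lpr_at (f100717 IH) (Lpn (LP (LK LD1_c12 LD2_c5 LD3_c49))))))))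
theorem f100808 : Led Lsl_dt (LP (LK LD1_c9 LD2_c51 LD3_c17)) = (LP (LK LD1_c18 LD2_c2 LD3_c29)) :=
  Lre_d IH (LK LD1_c9 LD2_c51 LD3_c17) (LK LD1_c18 LD2_c2 LD3_c29) Lrfl Lrfl
theorem f100879 : Led Lsl_bt (LP (LK LD1_c18 LD2_c2 LD3_c29)) = (LP (LK LD1_c17 LD2_c56 LD3_c55)) :=
  Lgr Lrot95 (Lpe (f100808 IH) (Lpr_bf (f100718 IH) (Lpr_df (f100867 IH) (Lpn (LP (LK LD1_c17 LD2_c56 LD3_c55))))))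
theorem f100872 : Led Lsl_gt (LP (LK LD1_c9 LD2_c51 LD3_c15)) = (LP (LK LD1_c17 LD2_c56 LD3_c55)) :=
  Lre_g IH (LK LD1_c9 LD2_c51 LD3_c15) (LK LD1_c17 LD2_c56 LD3_c55) Lrfl Lrfl
theorem f100885 : Led Lsl_bt (LP (LK LD1_c18 LD2_c2 LD3_c22)) = (LP (LK LD1_c9 LD2_c51 LD3_c15)) :=
  Lre_b IH (LK LD1_c18 LD2_c2 LD3_c22) (LK LD1_c9 LD2_c51 LD3_c15) Lrfl Lrfl
theorem f176110 : Led Lsl_cf (LP (LK LD1_c20 LD2_c18 LD3_c7)) = (LP (LK LD1_c18 LD2_c2 LD3_c22)) :=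
  Lgr Lrot163 (Lpe (f176109 IH) (Lpe (f176108 IH) (Lpe (f176107 IH) (Lpe (f176100 IH) (Lpr_ct (f176101 IH) (Lpr_gf (f100847 IH) (Lpe (f100803 IH) (Lpr_bt (f100879 IH) (Lpe (f100872 IH) (Lpe (f100885 IH) (Lpn (LP (LK LD1_c18 LD2_c2 LD3_c22)))))))))))))
theorem f176117 : Led Lsl_gt (LP (LK LD1_c20 LD2_c18 LD3_c7)) = (LP (LK LD1_c11 LD2_c20 LD3_c40)) :=
  Lre_g IH (LK LD1_c20 LD2_c18 LD3_c7) (LK LD1_c11 LD2_c20 LD3_c40) Lrfl Lrfl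
theorem f176121 : Led Lsl_ct (LP (LK LD1_c5 LD2_c46 LD3_c21)) = (LP (LK LD1_c11 LD2_c20 LD3_c40)) :=
  Lre_c IH (LK LD1_c5 LD2_c46 LD3_c21) (LK LD1_c11 LD2_c20 LD3_c40) Lrfl Lrfl
theorem f176122 : Led Lsl_bt (LP (LK LD1_c5 LD2_c46 LD3_c21)) = (LP (LK LD1_c2 LD2_c48 LD3_c54)) :=
  Lre_b IH (LK LD1_c5 LD2_c46 LD3_c21) (LK LD1_c2 LD2_c48 LD3_c54) Lrfl Lrfl
theorem f24002 : Led Lsl_gt (LP (LK LD1_c2 LD2_c48 LD3_c54)) = (LP (LK LD1_c4 LD2_c39 LD3_c27)) :=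
  Lre_g IH (LK LD1_c2 LD2_c48 LD3_c54) (LK LD1_c4 LD2_c39 LD3_c27) Lrfl Lrfl
theorem f176125 : Led Lsl_gt (LP (LK LD1_c5 LD2_c0 LD3_c27)) = (LP (LK LD1_c9 LD2_c51 LD3_c15)) :=
  Lre_g IH (LK LD1_c5 LD2_c0 LD3_c27) (LK LD1_c9 LD2_c51 LD3_c15) Lrfl Lrfl
theorem f100891 : Led Lsl_bt (LP (LK LD1_c2 LD2_c27 LD3_c58)) = (LP (LK LD1_c5 LD2_c0 LD3_c27)) :=
  Lre_b IH (LK LD1_c2 LD2_c27 LD3_c58) (LK LD1_c5 LD2_c0 LD3_c27) Lrfl Lrfl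
theorem f26578 : Led Lsl_gt (LP (LK LD1_c2 LD2_c27 LD3_c57)) = (LP (LK LD1_c1 LD2_c11 LD3_c6)) :=
  Lre_g IH (LK LD1_c2 LD2_c27 LD3_c57) (LK LD1_c1 LD2_c11 LD3_c6) Lrfl Lrfl
theorem f176126 : Led Lsl_ct (LP (LK LD1_c4 LD2_c39 LD3_c27)) = (LP (LK LD1_c2 LD2_c27 LD3_c57)) :=
  Lgr Lrot91 (Lpe (f24002 IH) (Lpe (f176122 IH) (Lpr_ct (f176121 IH) (Lpe (f176117 IH) (Lpr_cf (f176110 IH) (Lpr_bt (f100885 IH) (Lpe (f176125 IH) (Lpe (f100891 IH) (Lpr_ct (f100601 IH) (Lpe (f26578 IH) (Lpn (LP (LK LD1_c2 LD2_c27 LD3_c57)))))))))))))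
theorem f176518 : Led Lsl_cf (LP (LK LD1_c4 LD2_c39 LD3_c27)) = (LP (LK LD1_c2 LD2_c27 LD3_c57)) :=
  Lgr Lrot11 (Lpr_ct (f176126 IH) (Lpn (LP (LK LD1_c2 LD2_c27 LD3_c57))))
theorem f176081 : Led Lsl_gt (LP (LK LD1_c4 LD2_c39 LD3_c27)) = (LP (LK LD1_c2 LD2_c16 LD3_c41)) :=
  Lre_g IH (LK LD1_c4 LD2_c39 LD3_c27) (LK LD1_c2 LD2_c16 LD3_c41) Lrfl Lrfl
theorem f23946 : Led Lsl_dt (LP (LK LD1_c1 LD2_c5 LD3_c13)) = (LP (LK LD1_c0 LD2_c29 LD3_c47)) :=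
  Lre_d IH (LK LD1_c1 LD2_c5 LD3_c13) (LK LD1_c0 LD2_c29 LD3_c47) Lrfl Lrfl
theorem f23950 : Led Lsl_ct (LP (LK LD1_c0 LD2_c13 LD3_c5)) = (LP (LK LD1_c0 LD2_c29 LD3_c47)) :=
  Lre_c IH (LK LD1_c0 LD2_c13 LD3_c5) (LK LD1_c0 LD2_c29 LD3_c47) Lrfl Lrfl
theorem f24451 : Led Lsl_ct (LP (LK LD1_c1 LD2_c5 LD3_c17)) = (LP (LK LD1_c0 LD2_c29 LD3_c49)) :=
  Lre_c IH (LK LD1_c1 LD2_c5 LD3_c17) (LK LD1_c0 LD2_c29 LD3_c49) Lrfl Lrfl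
theorem f100483 : Led Lsl_at (LP (LK LD1_c2 LD2_c27 LD3_c49)) = (LP (LK LD1_c4 LD2_c58 LD3_c15)) :=
  Lre_a IH (LK LD1_c2 LD2_c27 LD3_c49) (LK LD1_c4 LD2_c58 LD3_c15) Lrfl Lrfl
theorem f100484 : Led Lsl_bt (LP (LK LD1_c1 LD2_c11 LD3_c6)) = (LP (LK LD1_c2 LD2_c27 LD3_c49)) :=
  Lre_b IH (LK LD1_c1 LD2_c11 LD3_c6) (LK LD1_c2 LD2_c27 LD3_c49) Lrfl Lrfl
theorem f100458 : Led Lsl_at (LP (LK LD1_c6 LD2_c13 LD3_c18)) = (LP (LK LD1_c3 LD2_c3 LD3_c30)) :=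
  Lre_a IH (LK LD1_c6 LD2_c13 LD3_c18) (LK LD1_c3 LD2_c3 LD3_c30) Lrfl Lrfl
theorem f100485 : Led Lsl_bt (LP (LK LD1_c3 LD2_c3 LD3_c30)) = (LP (LK LD1_c1 LD2_c27 LD3_c40)) :=
  Lre_b IH (LK LD1_c3 LD2_c3 LD3_c30) (LK LD1_c1 LD2_c27 LD3_c40) Lrfl Lrfl
theorem f100486 : Led Lsl_af (LP (LK LD1_c1 LD2_c11 LD3_c6)) = (LP (LK LD1_c1 LD2_c27 LD3_c40)) :=
  Lgr Lrot36 (Lpr_bt (f100484 IH) (Lpr_at (f100483 IH) (Lpr_bt (K7.f100477 IH) (Lpr_at (f100458 IH) (Lpr_bt (f100485 IH) (Lpn (LP (LK LD1_c1 LD2_c27 LD3_c40))))))))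
theorem f100633 : Led Lsl_ft (LP (LK LD1_c3 LD2_c3 LD3_c33)) = (LP (LK LD1_c1 LD2_c27 LD3_c40)) :=
  Lre_f IH (LK LD1_c3 LD2_c3 LD3_c33) (LK LD1_c1 LD2_c27 LD3_c40) Lrfl Lrfl
theorem f101577 : Led Lsl_gf (LP (LK LD1_c2 LD2_c27 LD3_c57)) = (LP (LK LD1_c3 LD2_c3 LD3_c33)) :=
  Lgr Lrot47 (Lpr_gt (f26578 IH) (Lpr_af (f100486 IH) (Lpe (f100633 IH) (Lpn (LP (LK LD1_c3 LD2_c3 LD3_c33))))))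
theorem f176767 : Led Lsl_gf (LP (LK LD1_c1 LD2_c5 LD3_c17)) = (LP (LK LD1_c1 LD2_c27 LD3_c41)) :=
  Lgr Lrot147 (Lpr_ct (f24451 IH) (Lpr_gt (f23948 IH) (Lpr_ct (f23950 IH) (Lpe (f23946 IH) (Lpe (K0.f9335 IH) (Lpe (f176081 IH) (Lpr_cf (f176518 IH) (Lpr_gf (f101577 IH) (Lpe (f100603 IH) (Lpn (LP (LK LD1_c1 LD2_c27 LD3_c41))))))))))))
theorem f24449 : Led Lsl_ct (LP (LK LD1_c0 LD2_c29 LD3_c49)) = (LP (LK LD1_c1 LD2_c5 LD3_c17)) :=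
  Lre_c IH (LK LD1_c0 LD2_c29 LD3_c49) (LK LD1_c1 LD2_c5 LD3_c17) Lrfl Lrfl
theorem f100679 : Led Lsl_bt (LP (LK LD1_c1 LD2_c11 LD3_c7)) = (LP (LK LD1_c0 LD2_c32 LD3_c59)) :=
  Lre_b IH (LK LD1_c1 LD2_c11 LD3_c7) (LK LD1_c0 LD2_c32 LD3_c59) Lrfl Lrfl
theorem f100658 : Led Lsl_bt (LP (LK LD1_c1 LD2_c27 LD3_c35)) = (LP (LK LD1_c0 LD2_c40 LD3_c36)) :=
  Lre_b IH (LK LD1_c1 LD2_c27 LD3_c35) (LK LD1_c0 LD2_c40 LD3_c36) Lrfl Lrfl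
theorem f38919 : Led Lsl_dt (LP (LK LD1_c1 LD2_c1 LD3_c46)) = (LP (LK LD1_c2 LD2_c9 LD3_c15)) :=
  Lre_d IH (LK LD1_c1 LD2_c1 LD3_c46) (LK LD1_c2 LD2_c9 LD3_c15) Lrfl Lrfl
theorem f38920 : Led Lsl_at (LP (LK LD1_c1 LD2_c55 LD3_c33)) = (LP (LK LD1_c1 LD2_c1 LD3_c46)) :=
  Lgr Lrot51 (Lpe (K1.f38918 IH) (Lpr_af (K1.f38904 IH) (Lpe (f38919 IH) (Lpn (LP (LK LD1_c1 LD2_c1 LD3_c46))))))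
theorem f39898 : Led Lsl_et (LP (LK LD1_c1 LD2_c1 LD3_c46)) = (LP (LK LD1_c2 LD2_c9 LD3_c16)) :=
  Lre_e IH (LK LD1_c1 LD2_c1 LD3_c46) (LK LD1_c2 LD2_c9 LD3_c16) Lrfl Lrfl
theorem f100973 : Led Lsl_af (LP (LK LD1_c3 LD2_c3 LD3_c21)) = (LP (LK LD1_c2 LD2_c9 LD3_c16)) :=
  Lgr Lrot50 (Lpr_et (f100966 IH) (Lpr_at (f38920 IH) (Lpr_et (f39898 IH) (Lpn (LP (LK LD1_c2 LD2_c9 LD3_c16))))))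
theorem f101030 : Led Lsl_ft (LP (LK LD1_c1 LD2_c2 LD3_c20)) = (LP (LK LD1_c2 LD2_c9 LD3_c16)) :=
  Lre_f IH (LK LD1_c1 LD2_c2 LD3_c20) (LK LD1_c2 LD2_c9 LD3_c16) Lrfl Lrfl
theorem f101398 : Led Lsl_gt (LP (LK LD1_c1 LD2_c2 LD3_c20)) = (LP (LK LD1_c2 LD2_c10 LD3_c36)) :=
  Lre_g IH (LK LD1_c1 LD2_c2 LD3_c20) (LK LD1_c2 LD2_c10 LD3_c36) Lrfl Lrfl
theorem f101399 : Led Lsl_gf (LP (LK LD1_c3 LD2_c3 LD3_c21)) = (LP (LK LD1_c2 LD2_c10 LD3_c36)) :=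
  Lgr Lrot76 (Lpr_af (f100973 IH) (Lpe (f101030 IH) (Lpr_gt (f101398 IH) (Lpn (LP (LK LD1_c2 LD2_c10 LD3_c36))))))
theorem f175810 : Led Lsl_ct (LP (LK LD1_c1 LD2_c11 LD3_c7)) = (LP (LK LD1_c2 LD2_c10 LD3_c36)) :=
  Lgr Lrot64 (Lpr_bt (f100679 IH) (Lpe (f26029 IH) (Lpe (f9359 IH) (Lpr_ct (K0.f9348 IH) (Lpe (f9392 IH) (Lpr_cf (f175569 IH) (Lpr_gf (f100652 IH) (Lpe (f100658 IH) (Lpr_ct (f100661 IH) (Lpr_gf (f101399 IH) (Lpn (LP (LK LD1_c2 LD2_c10 LD3_c36)))))))))))))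
theorem f101295 : Led Lsl_bt (LP (LK LD1_c0 LD2_c28 LD3_c26)) = (LP (LK LD1_c0 LD2_c13 LD3_c5)) :=
  Lre_b IH (LK LD1_c0 LD2_c28 LD3_c26) (LK LD1_c0 LD2_c13 LD3_c5) Lrfl Lrfl
theorem f176777 : Led Lsl_bt (LP (LK LD1_c0 LD2_c29 LD3_c49)) = (LP (LK LD1_c0 LD2_c29 LD3_c49)) :=
  Lgr Lrot22 (Lpr_ct (f24449 IH) (Lpr_gf (f176767 IH) (Lpe (f100619 IH) (Lpe (f100677 IH) (Lpe (f100679 IH) (Lpr_ct (f175810 IH) (Lpe (f101398 IH) (Lpe (f101021 IH) (Lpr_bt (f101295 IH) (Lpe (f23948 IH) (Lpn (LP (LK LD1_c0 LD2_c29 LD3_c49)))))))))))))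
theorem f39239 : Led Lsl_et (LP (LK LD1_c0 LD2_c28 LD3_c12)) = (LP (LK LD1_c1 LD2_c1 LD3_c47)) :=
  Lre_e IH (LK LD1_c0 LD2_c28 LD3_c12) (LK LD1_c1 LD2_c1 LD3_c47) Lrfl Lrfl
theorem f100952 : Led Lsl_af (LP (LK LD1_c1 LD2_c27 LD3_c35)) = (LP (LK LD1_c1 LD2_c1 LD3_c47)) :=
  Lgr Lrot50 (Lpr_et (f100949 IH) (Lpr_at (K1.f39197 IH) (Lpr_et (f39239 IH) (Lpn (LP (LK LD1_c1 LD2_c1 LD3_c47))))))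
theorem f101029 : Led Lsl_ft (LP (LK LD1_c0 LD2_c28 LD3_c26)) = (LP (LK LD1_c1 LD2_c1 LD3_c47)) :=
  Lre_f IH (LK LD1_c0 LD2_c28 LD3_c26) (LK LD1_c1 LD2_c1 LD3_c47) Lrfl Lrfl
theorem f80923 : Led Lsl_gt (LP (LK LD1_c0 LD2_c28 LD3_c26)) = (LP (LK LD1_c1 LD2_c2 LD3_c21)) :=
  Lre_g IH (LK LD1_c0 LD2_c28 LD3_c26) (LK LD1_c1 LD2_c2 LD3_c21) Lrfl Lrfl
theorem f101419 : Led Lsl_gf (LP (LK LD1_c1 LD2_c27 LD3_c35)) = (LP (LK LD1_c1 LD2_c2 LD3_c21)) :=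
  Lgr Lrot76 (Lpr_af (f100952 IH) (Lpe (f101029 IH) (Lpr_gt (f80923 IH) (Lpn (LP (LK LD1_c1 LD2_c2 LD3_c21))))))
theorem f176787 : Led Lsl_bf (LP (LK LD1_c1 LD2_c2 LD3_c21)) = (LP (LK LD1_c0 LD2_c40 LD3_c34)) :=
  Lgr Lrot156 (Lpe (f101419 IH) (Lpe (f100669 IH) (Lpr_ct (f100619 IH) (Lpe (f176767 IH) (Lpe (f24449 IH) (Lpr_bt (f176777 IH) (Lpr_gt (f23948 IH) (Lpr_ct (f23950 IH) (Lpr_gt (f23974 IH) (Lpr_cf (f175893 IH) (Lpn (LP (LK LD1_c0 LD2_c40 LD3_c34)))))))))))))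
theorem f68587 : Led Lsl_gt (LP (LK LD1_c1 LD2_c5 LD3_c12)) = (LP (LK LD1_c0 LD2_c29 LD3_c47)) :=
  Lre_g IH (LK LD1_c1 LD2_c5 LD3_c12) (LK LD1_c0 LD2_c29 LD3_c47) Lrfl Lrfl
theorem f176795 : Led Lsl_cf (LP (LK LD1_c1 LD2_c5 LD3_c12)) = (LP (LK LD1_c0 LD2_c40 LD3_c35)) :=
  Lgr Lrot125 (Lpr_gt (f68587 IH) (Lpe (f23950 IH) (Lpr_bt (f100640 IH) (Lpr_gt (f80923 IH) (Lpr_bf (f176787 IH) (Lpe (f175893 IH) (Lpr_gt (f23958 IH) (Lpe (f26662 IH) (Lpr_bt (f100668 IH) (Lpr_gt (f101527 IH) (Lpn (LP (LK LD1_c0 LD2_c40 LD3_c35)))))))))))))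
theorem f176801 : Led Lsl_ct (LP (LK LD1_c1 LD2_c5 LD3_c12)) = (LP (LK LD1_c0 LD2_c40 LD3_c35)) :=
  Lgr Lrot59 (Lpr_cf (f176795 IH) (Lpn (LP (LK LD1_c0 LD2_c40 LD3_c35))))
theorem f26663 : Led Lsl_gt (LP (LK LD1_c0 LD2_c37 LD3_c13)) = (LP (LK LD1_c1 LD2_c5 LD3_c12)) :=
  Lre_g IH (LK LD1_c0 LD2_c37 LD3_c13) (LK LD1_c1 LD2_c5 LD3_c12) Lrfl Lrfl
theorem f20582 : Led Lsl_dt (LP (LK LD1_c0 LD2_c29 LD3_c48)) = (LP (LK LD1_c1 LD2_c5 LD3_c16)) :=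
  Lre_d IH (LK LD1_c0 LD2_c29 LD3_c48) (LK LD1_c1 LD2_c5 LD3_c16) Lrfl Lrfl
theorem f23957 : Led Lsl_dt (LP (LK LD1_c0 LD2_c37 LD3_c13)) = (LP (LK LD1_c1 LD2_c20 LD3_c33)) :=
  Lre_d IH (LK LD1_c0 LD2_c37 LD3_c13) (LK LD1_c1 LD2_c20 LD3_c33) Lrfl Lrfl
theorem f23956 : Led Lsl_gt (LP (LK LD1_c1 LD2_c20 LD3_c33)) = (LP (LK LD1_c2 LD2_c16 LD3_c40)) :=
  Lre_g IH (LK LD1_c1 LD2_c20 LD3_c33) (LK LD1_c2 LD2_c16 LD3_c40) Lrfl Lrfl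
theorem f23927 : Led Lsl_et (LP (LK LD1_c0 LD2_c29 LD3_c47)) = (LP (LK LD1_c0 LD2_c13 LD3_c4)) :=
  Lre_e IH (LK LD1_c0 LD2_c29 LD3_c47) (LK LD1_c0 LD2_c13 LD3_c4) Lrfl Lrfl
theorem f23929 : Led Lsl_gt (LP (LK LD1_c2 LD2_c16 LD3_c40)) = (LP (LK LD1_c1 LD2_c5 LD3_c13)) :=
  Lre_g IH (LK LD1_c2 LD2_c16 LD3_c40) (LK LD1_c1 LD2_c5 LD3_c13) Lrfl Lrfl
theorem f22853 : Led Lsl_et (LP (LK LD1_c0 LD2_c17 LD3_c51)) = (LP (LK LD1_c0 LD2_c39 LD3_c50)) :=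
  Lre_e IH (LK LD1_c0 LD2_c17 LD3_c51) (LK LD1_c0 LD2_c39 LD3_c50) Lrfl Lrfl
theorem f20229 : Led Lsl_gt (LP (LK LD1_c0 LD2_c39 LD3_c50)) = (LP (LK LD1_c1 LD2_c26 LD3_c14)) :=
  Lre_g IH (LK LD1_c0 LD2_c39 LD3_c50) (LK LD1_c1 LD2_c26 LD3_c14) Lrfl Lrfl
theorem f23930 : Led Lsl_et (LP (LK LD1_c3 LD2_c0 LD3_c54)) = (LP (LK LD1_c1 LD2_c26 LD3_c14)) :=
  Lre_e IH (LK LD1_c3 LD2_c0 LD3_c54) (LK LD1_c1 LD2_c26 LD3_c14) Lrfl Lrfl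
theorem f23931 : Led Lsl_df (LP (LK LD1_c2 LD2_c16 LD3_c40)) = (LP (LK LD1_c3 LD2_c0 LD3_c54)) :=
  Lgr Lrot170 (Lpr_gt (f23929 IH) (Lpe (f23928 IH) (Lpr_et (f23927 IH) (Lpr_gt (K0.f8318 IH) (Lpr_dt (K0.f23915 IH) (Lpr_gt (K0.f23906 IH) (Lpe (K0.f22833 IH) (Lpr_et (f22853 IH) (Lpr_gt (f20229 IH) (Lpe (f23930 IH) (Lpn (LP (LK LD1_c3 LD2_c0 LD3_c54)))))))))))))
theorem f23939 : Led Lsl_dt (LP (LK LD1_c2 LD2_c16 LD3_c40)) = (LP (LK LD1_c3 LD2_c0 LD3_c54)) :=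
  Lgr Lrot42 (Lpr_df (f23931 IH) (Lpn (LP (LK LD1_c3 LD2_c0 LD3_c54))))
theorem f101524 : Led Lsl_dt (LP (LK LD1_c0 LD2_c40 LD3_c35)) = (LP (LK LD1_c1 LD2_c27 LD3_c44)) :=
  Lre_d IH (LK LD1_c0 LD2_c40 LD3_c35) (LK LD1_c1 LD2_c27 LD3_c44) Lrfl Lrfl
theorem f175901 : Led Lsl_ct (LP (LK LD1_c3 LD2_c0 LD3_c54)) = (LP (LK LD1_c1 LD2_c27 LD3_c44)) :=
  Lgr Lrot7 (Lpe (f23939 IH) (Lpe (f23956 IH) (Lpe (f23957 IH) (Lpe (f23958 IH) (Lpr_cf (f175893 IH) (Lpe (f101495 IH) (Lpe (f100675 IH) (Lpr_gt (f101527 IH) (Lpr_dt (f101524 IH) (Lpn (LP (LK LD1_c1 LD2_c27 LD3_c44))))))))))))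
theorem f24216 : Led Lsl_gt (LP (LK LD1_c0 LD2_c7 LD3_c36)) = (LP (LK LD1_c0 LD2_c17 LD3_c2)) :=
  Lre_g IH (LK LD1_c0 LD2_c7 LD3_c36) (LK LD1_c0 LD2_c17 LD3_c2) Lrfl Lrfl
theorem f8415 : Led Lsl_dt (LP (LK LD1_c0 LD2_c6 LD3_c2)) = (LP (LK LD1_c0 LD2_c2 LD3_c44)) :=
  Lre_d IH (LK LD1_c0 LD2_c6 LD3_c2) (LK LD1_c0 LD2_c2 LD3_c44) Lrfl Lrfl
theorem f8414 : Led Lsl_et (LP (LK LD1_c0 LD2_c6 LD3_c2)) = (LP (LK LD1_c0 LD2_c13 LD3_c13)) :=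
  Lre_e IH (LK LD1_c0 LD2_c6 LD3_c2) (LK LD1_c0 LD2_c13 LD3_c13) Lrfl Lrfl
theorem f8410 : Led Lsl_et (LP (LK LD1_c0 LD2_c36 LD3_c23)) = (LP (LK LD1_c0 LD2_c16 LD3_c12)) :=
  Lre_e IH (LK LD1_c0 LD2_c36 LD3_c23) (LK LD1_c0 LD2_c16 LD3_c12) Lrfl Lrfl
theorem f8412 : Led Lsl_gt (LP (LK LD1_c0 LD2_c36 LD3_c22)) = (LP (LK LD1_c0 LD2_c16 LD3_c10)) :=
  Lre_g IH (LK LD1_c0 LD2_c36 LD3_c22) (LK LD1_c0 LD2_c16 LD3_c10) Lrfl Lrfl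
theorem f24217 : Led Lsl_dt (LP (LK LD1_c0 LD2_c17 LD3_c2)) = (LP (LK LD1_c0 LD2_c36 LD3_c22)) :=
  Lgr Lrot171 (Lpe (f24216 IH) (Lpe (f24215 IH) (Lpr_dt (K0.f23917 IH) (Lpe (K0.f8416 IH) (Lpe (f8415 IH) (Lpr_et (f8414 IH) (Lpe (K0.f8302 IH) (Lpe (f8410 IH) (Lpr_dt (f8411 IH) (Lpe (f8412 IH) (Lpn (LP (LK LD1_c0 LD2_c36 LD3_c22)))))))))))))
theorem f24241 : Led Lsl_df (LP (LK LD1_c0 LD2_c17 LD3_c2)) = (LP (LK LD1_c0 LD2_c36 LD3_c22)) :=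
  Lgr Lrot38 (Lpr_dt (f24217 IH) (Lpn (LP (LK LD1_c0 LD2_c36 LD3_c22))))
theorem f24243 : Led Lsl_et (LP (LK LD1_c0 LD2_c36 LD3_c22)) = (LP (LK LD1_c1 LD2_c18 LD3_c58)) :=
  Lre_e IH (LK LD1_c0 LD2_c36 LD3_c22) (LK LD1_c1 LD2_c18 LD3_c58) Lrfl Lrfl
theorem f24444 : Led Lsl_gf (LP (LK LD1_c1 LD2_c5 LD3_c18)) = (LP (LK LD1_c1 LD2_c18 LD3_c58)) :=
  Lgr Lrot138 (Lpr_dt (f20236 IH) (Lpr_gt (f23948 IH) (Lpe (f9357 IH) (Lpr_et (f21195 IH) (Lpr_gt (K0.f20267 IH) (Lpe (f24212 IH) (Lpr_dt (f24415 IH) (Lpr_gt (f24216 IH) (Lpr_df (f24241 IH) (Lpr_et (f24243 IH) (Lpn (LP (LK LD1_c1 LD2_c18 LD3_c58)))))))))))))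
theorem f24446 : Led Lsl_ct (LP (LK LD1_c2 LD2_c45 LD3_c17)) = (LP (LK LD1_c1 LD2_c18 LD3_c58)) :=
  Lre_c IH (LK LD1_c2 LD2_c45 LD3_c17) (LK LD1_c1 LD2_c18 LD3_c58) Lrfl Lrfl
theorem f24447 : Led Lsl_gf (LP (LK LD1_c3 LD2_c0 LD3_c54)) = (LP (LK LD1_c2 LD2_c45 LD3_c17)) :=
  Lgr Lrot144 (Lpe (f23931 IH) (Lpr_gt (f23929 IH) (Lpr_dt (f23946 IH) (Lpe (f23950 IH) (Lpe (f9357 IH) (Lpe (f23948 IH) (Lpe (f20236 IH) (Lpr_gf (f24444 IH) (Lpe (f24446 IH) (Lpn (LP (LK LD1_c2 LD2_c45 LD3_c17))))))))))))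
theorem f24452 : Led Lsl_ct (LP (LK LD1_c1 LD2_c18 LD3_c58)) = (LP (LK LD1_c2 LD2_c45 LD3_c17)) :=
  Lre_c IH (LK LD1_c1 LD2_c18 LD3_c58) (LK LD1_c2 LD2_c45 LD3_c17) Lrfl Lrfl
theorem f176810 : Led Lsl_gt (LP (LK LD1_c1 LD2_c5 LD3_c16)) = (LP (LK LD1_c1 LD2_c18 LD3_c58)) :=
  Lgr Lrot9 (Lpe (f20582 IH) (Lpr_gt (K0.f20585 IH) (Lpr_ct (f26662 IH) (Lpr_gt (f26663 IH) (Lpr_ct (f176801 IH) (Lpe (f101510 IH) (Lpe (f175901 IH) (Lpr_gf (f24447 IH) (Lpe (f24452 IH) (Lpn (LP (LK LD1_c1 LD2_c18 LD3_c58))))))))))))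
theorem f146326 : Led Lsl_gt (LP (LK LD1_c0 LD2_c16 LD3_c45)) = (LP (LK LD1_c0 LD2_c7 LD3_c27)) :=
  Lre_g IH (LK LD1_c0 LD2_c16 LD3_c45) (LK LD1_c0 LD2_c7 LD3_c27) Lrfl Lrfl
theorem f146340 : Led Lsl_et (LP (LK LD1_c0 LD2_c37 LD3_c40)) = (LP (LK LD1_c0 LD2_c16 LD3_c45)) :=
  Lre_e IH (LK LD1_c0 LD2_c37 LD3_c40) (LK LD1_c0 LD2_c16 LD3_c45) Lrfl Lrfl
theorem f176815 : Led Lsl_dt (LP (LK LD1_c0 LD2_c37 LD3_c40)) = (LP (LK LD1_c1 LD2_c18 LD3_c58)) :=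
  Lgr Lrot56 (Lpr_et (f146340 IH) (Lpr_gt (f146326 IH) (Lpe (K6.f20441 IH) (Lpr_dt (K0.f20264 IH) (Lpr_gt (K0.f16663 IH) (Lpe (K0.f8314 IH) (Lpr_et (K0.f20568 IH) (Lpr_gt (K0.f20569 IH) (Lpr_dt (f20582 IH) (Lpr_gt (f176810 IH) (Lpn (LP (LK LD1_c1 LD2_c18 LD3_c58)))))))))))))
theorem f176822 : Led Lsl_et (LP (LK LD1_c0 LD2_c16 LD3_c45)) = (LP (LK LD1_c0 LD2_c37 LD3_c40)) :=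
  Lre_e IH (LK LD1_c0 LD2_c16 LD3_c45) (LK LD1_c0 LD2_c37 LD3_c40) Lrfl Lrfl
theorem f146339 : Led Lsl_dt (LP (LK LD1_c0 LD2_c37 LD3_c39)) = (LP (LK LD1_c0 LD2_c16 LD3_c45)) :=
  Lre_d IH (LK LD1_c0 LD2_c37 LD3_c39) (LK LD1_c0 LD2_c16 LD3_c45) Lrfl Lrfl
theorem f24259 : Led Lsl_et (LP (LK LD1_c1 LD2_c18 LD3_c58)) = (LP (LK LD1_c0 LD2_c36 LD3_c22)) :=
  Lre_e IH (LK LD1_c1 LD2_c18 LD3_c58) (LK LD1_c0 LD2_c36 LD3_c22) Lrfl Lrfl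
theorem f176823 : Led Lsl_ef (LP (LK LD1_c0 LD2_c37 LD3_c39)) = (LP (LK LD1_c0 LD2_c17 LD3_c2)) :=
  Lgr Lrot73 (Lpr_dt (f146339 IH) (Lpr_et (f176822 IH) (Lpr_dt (f176815 IH) (Lpr_et (f24259 IH) (Lpe (f24241 IH) (Lpn (LP (LK LD1_c0 LD2_c17 LD3_c2))))))))
theorem f8413 : Led Lsl_dt (LP (LK LD1_c0 LD2_c29 LD3_c52)) = (LP (LK LD1_c0 LD2_c13 LD3_c11)) :=
  Lre_d IH (LK LD1_c0 LD2_c29 LD3_c52) (LK LD1_c0 LD2_c13 LD3_c11) Lrfl Lrfl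
theorem f9462 : Led Lsl_dt (LP (LK LD1_c0 LD2_c7 LD3_c22)) = (LP (LK LD1_c0 LD2_c16 LD3_c28)) :=
  Lre_d IH (LK LD1_c0 LD2_c7 LD3_c22) (LK LD1_c0 LD2_c16 LD3_c28) Lrfl Lrfl
theorem f9460 : Led Lsl_et (LP (LK LD1_c0 LD2_c16 LD3_c29)) = (LP (LK LD1_c0 LD2_c7 LD3_c22)) :=
  Lre_e IH (LK LD1_c0 LD2_c16 LD3_c29) (LK LD1_c0 LD2_c7 LD3_c22) Lrfl Lrfl
theorem f9496 : Led Lsl_dt (LP (LK LD1_c0 LD2_c36 LD3_c57)) = (LP (LK LD1_c0 LD2_c16 LD3_c29)) :=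
  Lre_d IH (LK LD1_c0 LD2_c36 LD3_c57) (LK LD1_c0 LD2_c16 LD3_c29) Lrfl Lrfl
theorem f8385 : Led Lsl_dt (LP (LK LD1_c0 LD2_c13 LD3_c11)) = (LP (LK LD1_c0 LD2_c29 LD3_c52)) :=
  Lre_d IH (LK LD1_c0 LD2_c13 LD3_c11) (LK LD1_c0 LD2_c29 LD3_c52) Lrfl Lrfl
theorem f9497 : Led Lsl_ef (LP (LK LD1_c0 LD2_c36 LD3_c57)) = (LP (LK LD1_c0 LD2_c29 LD3_c52)) :=
  Lgr Lrot73 (Lpr_dt (f9496 IH) (Lpr_et (f9460 IH) (Lpr_dt (f9462 IH) (Lpr_et (K0.f9483 IH) (Lpr_dt (f8385 IH) (Lpn (LP (LK LD1_c0 LD2_c29 LD3_c52))))))))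
theorem f176829 : Led Lsl_gf (LP (LK LD1_c0 LD2_c37 LD3_c39)) = (LP (LK LD1_c0 LD2_c36 LD3_c57)) :=
  Lgr Lrot141 (Lpr_ef (f176823 IH) (Lpr_dt (f24217 IH) (Lpr_gt (f8412 IH) (Lpe (f8411 IH) (Lpr_et (f8410 IH) (Lpr_gt (K0.f8302 IH) (Lpr_dt (K0.f8383 IH) (Lpr_gt (K0.f8384 IH) (Lpe (f8413 IH) (Lpe (f9497 IH) (Lpn (LP (LK LD1_c0 LD2_c36 LD3_c57)))))))))))))
theorem f176834 : Led Lsl_df (LP (LK LD1_c0 LD2_c7 LD3_c27)) = (LP (LK LD1_c0 LD2_c12 LD3_c57)) :=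
  Lgr Lrot132 (Lpe (f146326 IH) (Lpe (f146339 IH) (Lpr_gf (f176829 IH) (Lpr_ef (f9497 IH) (Lpr_dt (f8413 IH) (Lpe (K0.f8384 IH) (Lpe (K0.f8383 IH) (Lpr_et (f21218 IH) (Lpe (K0.f20186 IH) (Lpe (K6.f20217 IH) (Lpn (LP (LK LD1_c0 LD2_c12 LD3_c57)))))))))))))
theorem f176876 : Led Lsl_dt (LP (LK LD1_c0 LD2_c16 LD3_c46)) = (LP (LK LD1_c0 LD2_c29 LD3_c23)) :=
  Lgr Lrot60 (Lpe (K6.f146323 IH) (Lpr_df (f176834 IH) (Lpe (K6.f146301 IH) (Lpn (LP (LK LD1_c0 LD2_c29 LD3_c23))))))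
theorem f146341 : Led Lsl_at (LP (LK LD1_c0 LD2_c29 LD3_c17)) = (LP (LK LD1_c0 LD2_c16 LD3_c46)) :=
  Lgr Lrot100 (Lpr_af (K6.f146324 IH) (Lpn (LP (LK LD1_c0 LD2_c16 LD3_c46))))
theorem f146309 : Led Lsl_af (LP (LK LD1_c0 LD2_c16 LD3_c56)) = (LP (LK LD1_c0 LD2_c29 LD3_c23)) :=
  Lgr Lrot0 (Lpr_at (K6.f146302 IH) (Lpn (LP (LK LD1_c0 LD2_c29 LD3_c23))))
theorem f177095 : Led Lsl_df (LP (LK LD1_c0 LD2_c29 LD3_c17)) = (LP (LK LD1_c0 LD2_c16 LD3_c56)) :=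
  Lgr Lrot18 (Lpr_at (f146341 IH) (Lpr_dt (f176876 IH) (Lpe (f146309 IH) (Lpn (LP (LK LD1_c0 LD2_c16 LD3_c56))))))
theorem f146327 : Led Lsl_gt (LP (LK LD1_c0 LD2_c29 LD3_c17)) = (LP (LK LD1_c0 LD2_c16 LD3_c45)) :=
  Lgr Lrot5 (Lpr_ft (K6.f146285 IH) (Lpr_at (K6.f146299 IH) (Lpe (f146326 IH) (Lpn (LP (LK LD1_c0 LD2_c16 LD3_c45))))))
theorem f176827 : Led Lsl_et (LP (LK LD1_c0 LD2_c37 LD3_c39)) = (LP (LK LD1_c0 LD2_c17 LD3_c2)) :=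
  Lgr Lrot87 (Lpr_ef (f176823 IH) (Lpn (LP (LK LD1_c0 LD2_c17 LD3_c2))))
theorem f146313 : Led Lsl_ft (LP (LK LD1_c0 LD2_c12 LD3_c57)) = (LP (LK LD1_c0 LD2_c29 LD3_c23)) :=
  Lre_f IH (LK LD1_c0 LD2_c12 LD3_c57) (LK LD1_c0 LD2_c29 LD3_c23) Lrfl Lrfl
theorem f20477 : Led Lsl_gt (LP (LK LD1_c0 LD2_c12 LD3_c57)) = (LP (LK LD1_c0 LD2_c29 LD3_c21)) :=
  Lre_g IH (LK LD1_c0 LD2_c12 LD3_c57) (LK LD1_c0 LD2_c29 LD3_c21) Lrfl Lrfl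
theorem f146314 : Led Lsl_gf (LP (LK LD1_c0 LD2_c16 LD3_c56)) = (LP (LK LD1_c0 LD2_c29 LD3_c21)) :=
  Lgr Lrot76 (Lpr_af (f146309 IH) (Lpe (f146313 IH) (Lpr_gt (f20477 IH) (Lpn (LP (LK LD1_c0 LD2_c29 LD3_c21))))))
theorem f20474 : Led Lsl_gt (LP (LK LD1_c0 LD2_c6 LD3_c59)) = (LP (LK LD1_c0 LD2_c3 LD3_c10)) :=
  Lre_g IH (LK LD1_c0 LD2_c6 LD3_c59) (LK LD1_c0 LD2_c3 LD3_c10) Lrfl Lrfl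
theorem f20475 : Led Lsl_dt (LP (LK LD1_c0 LD2_c15 LD3_c19)) = (LP (LK LD1_c0 LD2_c6 LD3_c59)) :=
  Lre_d IH (LK LD1_c0 LD2_c15 LD3_c19) (LK LD1_c0 LD2_c6 LD3_c59) Lrfl Lrfl
theorem f20478 : Led Lsl_et (LP (LK LD1_c0 LD2_c15 LD3_c19)) = (LP (LK LD1_c0 LD2_c29 LD3_c21)) :=
  Lgr Lrot122 (Lpr_dt (f20475 IH) (Lpr_gt (f20474 IH) (Lpe (K0.f20469 IH) (Lpr_et (K0.f20453 IH) (Lpr_gt (K0.f6722 IH) (Lpr_dt (K4.f6721 IH) (Lpr_gt (K0.f6733 IH) (Lpe (K0.f20181 IH) (Lpr_et (K6.f20476 IH) (Lpr_gt (f20477 IH) (Lpn (LP (LK LD1_c0 LD2_c29 LD3_c21)))))))))))))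
theorem f163668 : Led Lsl_at (LP (LK LD1_c0 LD2_c3 LD3_c7)) = (LP (LK LD1_c0 LD2_c3 LD3_c10)) :=
  Lgr Lrot100 (Lpr_af (K8.f163664 IH) (Lpn (LP (LK LD1_c0 LD2_c3 LD3_c10))))
theorem f165506 : Led Lsl_gt (LP (LK LD1_c0 LD2_c6 LD3_c54)) = (LP (LK LD1_c0 LD2_c6 LD3_c59)) :=
  Lgr Lrot5 (Lpr_ft (K0.f3124 IH) (Lpr_at (f163668 IH) (Lpe (f20474 IH) (Lpn (LP (LK LD1_c0 LD2_c6 LD3_c59))))))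
theorem f177138 : Led Lsl_gt (LP (LK LD1_c0 LD2_c17 LD3_c2)) = (LP (LK LD1_c0 LD2_c29 LD3_c32)) :=
  Lgr Lrot131 (Lpe (f176827 IH) (Lpr_dt (f146339 IH) (Lpe (f146327 IH) (Lpr_df (f177095 IH) (Lpr_gf (f146314 IH) (Lpe (f20478 IH) (Lpr_dt (f20475 IH) (Lpe (f165506 IH) (Lpe (K8.f3152 IH) (Lpr_et (f164251 IH) (Lpn (LP (LK LD1_c0 LD2_c29 LD3_c32)))))))))))))
theorem f146286 : Led Lsl_et (LP (LK LD1_c0 LD2_c16 LD3_c56)) = (LP (LK LD1_c0 LD2_c29 LD3_c17)) :=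
  Lgr Lrot69 (Lpe (K6.f146284 IH) (Lpe (K6.f21200 IH) (Lpr_ff (K6.f146280 IH) (Lpe (K6.f21201 IH) (Lpe (K6.f146285 IH) (Lpn (LP (LK LD1_c0 LD2_c29 LD3_c17))))))))
theorem f24438 : Led Lsl_gt (LP (LK LD1_c0 LD2_c7 LD3_c27)) = (LP (LK LD1_c0 LD2_c16 LD3_c44)) :=
  Lre_g IH (LK LD1_c0 LD2_c7 LD3_c27) (LK LD1_c0 LD2_c16 LD3_c44) Lrfl Lrfl
theorem f146346 : Led Lsl_gf (LP (LK LD1_c0 LD2_c29 LD3_c17)) = (LP (LK LD1_c0 LD2_c16 LD3_c44)) :=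
  Lgr Lrot76 (Lpr_af (K6.f146324 IH) (Lpe (K6.f146323 IH) (Lpr_gt (f24438 IH) (Lpn (LP (LK LD1_c0 LD2_c16 LD3_c44))))))
theorem f24439 : Led Lsl_et (LP (LK LD1_c0 LD2_c36 LD3_c21)) = (LP (LK LD1_c0 LD2_c16 LD3_c44)) :=
  Lre_e IH (LK LD1_c0 LD2_c36 LD3_c21) (LK LD1_c0 LD2_c16 LD3_c44) Lrfl Lrfl
theorem f24221 : Led Lsl_gt (LP (LK LD1_c0 LD2_c17 LD3_c3)) = (LP (LK LD1_c0 LD2_c7 LD3_c36)) :=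
  Lre_g IH (LK LD1_c0 LD2_c17 LD3_c3) (LK LD1_c0 LD2_c7 LD3_c36) Lrfl Lrfl
theorem f24440 : Led Lsl_dt (LP (LK LD1_c0 LD2_c36 LD3_c21)) = (LP (LK LD1_c0 LD2_c17 LD3_c3)) :=
  Lgr Lrot136 (Lpr_et (f24439 IH) (Lpe (f24438 IH) (Lpe (K6.f20441 IH) (Lpr_dt (K0.f20264 IH) (Lpe (K0.f6703 IH) (Lpe (K0.f20270 IH) (Lpe (K0.f248 IH) (Lpe (f24212 IH) (Lpr_dt (f24415 IH) (Lpe (f24221 IH) (Lpn (LP (LK LD1_c0 LD2_c17 LD3_c3)))))))))))))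
theorem f177140 : Led Lsl_gt (LP (LK LD1_c0 LD2_c29 LD3_c32)) = (LP (LK LD1_c0 LD2_c17 LD3_c3)) :=
  Lgr Lrot139 (Lpe (f164255 IH) (Lpe (f177138 IH) (Lpe (f176827 IH) (Lpr_dt (f146339 IH) (Lpe (f146327 IH) (Lpr_df (f177095 IH) (Lpr_et (f146286 IH) (Lpr_gf (f146346 IH) (Lpe (f24439 IH) (Lpr_dt (f24440 IH) (Lpn (LP (LK LD1_c0 LD2_c17 LD3_c3)))))))))))))
theorem f20470 : Led Lsl_gt (LP (LK LD1_c0 LD2_c3 LD3_c10)) = (LP (LK LD1_c0 LD2_c6 LD3_c58)) :=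
  Lre_g IH (LK LD1_c0 LD2_c3 LD3_c10) (LK LD1_c0 LD2_c6 LD3_c58) Lrfl Lrfl
theorem f165494 : Led Lsl_gf (LP (LK LD1_c0 LD2_c6 LD3_c54)) = (LP (LK LD1_c0 LD2_c6 LD3_c58)) :=
  Lgr Lrot76 (Lpr_af (f163689 IH) (Lpe (f163922 IH) (Lpr_gt (f20470 IH) (Lpn (LP (LK LD1_c0 LD2_c6 LD3_c58))))))
theorem f20471 : Led Lsl_dt (LP (LK LD1_c0 LD2_c15 LD3_c16)) = (LP (LK LD1_c0 LD2_c6 LD3_c58)) :=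
  Lre_d IH (LK LD1_c0 LD2_c15 LD3_c16) (LK LD1_c0 LD2_c6 LD3_c58) Lrfl Lrfl
theorem f165497 : Led Lsl_gt (LP (LK LD1_c0 LD2_c34 LD3_c1)) = (LP (LK LD1_c0 LD2_c15 LD3_c16)) :=
  Lre_g IH (LK LD1_c0 LD2_c34 LD3_c1) (LK LD1_c0 LD2_c15 LD3_c16) Lrfl Lrfl
theorem f24520 : Led Lsl_dt (LP (LK LD1_c0 LD2_c37 LD3_c37)) = (LP (LK LD1_c0 LD2_c16 LD3_c44)) :=
  Lre_d IH (LK LD1_c0 LD2_c37 LD3_c37) (LK LD1_c0 LD2_c16 LD3_c44) Lrfl Lrfl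
theorem f20218 : Led Lsl_gt (LP (LK LD1_c1 LD2_c3 LD3_c32)) = (LP (LK LD1_c0 LD2_c29 LD3_c1)) :=
  Lre_g IH (LK LD1_c1 LD2_c3 LD3_c32) (LK LD1_c0 LD2_c29 LD3_c1) Lrfl Lrfl
theorem f176885 : Led Lsl_et (LP (LK LD1_c0 LD2_c37 LD3_c37)) = (LP (LK LD1_c1 LD2_c3 LD3_c32)) :=
  Lgr Lrot121 (Lpr_dt (f24520 IH) (Lpe (f24438 IH) (Lpr_df (f176834 IH) (Lpr_et (K6.f20217 IH) (Lpr_gf (K0.f20182 IH) (Lpe (K0.f9531 IH) (Lpr_dt (K0.f9519 IH) (Lpe (f9535 IH) (Lpe (f20214 IH) (Lpe (f20218 IH) (Lpn (LP (LK LD1_c1 LD2_c3 LD3_c32)))))))))))))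
theorem f176890 : Led Lsl_ef (LP (LK LD1_c0 LD2_c37 LD3_c37)) = (LP (LK LD1_c1 LD2_c3 LD3_c32)) :=
  Lgr Lrot88 (Lpr_et (f176885 IH) (Lpn (LP (LK LD1_c1 LD2_c3 LD3_c32))))
theorem f22417 : Led Lsl_gt (LP (LK LD1_c0 LD2_c37 LD3_c37)) = (LP (LK LD1_c0 LD2_c36 LD3_c57)) :=
  Lre_g IH (LK LD1_c0 LD2_c37 LD3_c37) (LK LD1_c0 LD2_c36 LD3_c57) Lrfl Lrfl
theorem f22412 : Led Lsl_gt (LP (LK LD1_c0 LD2_c16 LD3_c25)) = (LP (LK LD1_c0 LD2_c36 LD3_c45)) :=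
  Lre_g IH (LK LD1_c0 LD2_c16 LD3_c25) (LK LD1_c0 LD2_c36 LD3_c45) Lrfl Lrfl
theorem f176895 : Led Lsl_df (LP (LK LD1_c0 LD2_c36 LD3_c45)) = (LP (LK LD1_c1 LD2_c3 LD3_c32)) :=
  Lgr Lrot132 (Lpe (f22412 IH) (Lpe (f22411 IH) (Lpe (f22409 IH) (Lpe (K0.f9508 IH) (Lpr_dt (K0.f8508 IH) (Lpe (K0.f9482 IH) (Lpe (f8413 IH) (Lpe (f9497 IH) (Lpe (f22417 IH) (Lpr_ef (f176890 IH) (Lpn (LP (LK LD1_c1 LD2_c3 LD3_c32)))))))))))))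
theorem f24554 : Led Lsl_dt (LP (LK LD1_c0 LD2_c16 LD3_c44)) = (LP (LK LD1_c0 LD2_c37 LD3_c37)) :=
  Lre_d IH (LK LD1_c0 LD2_c16 LD3_c44) (LK LD1_c0 LD2_c37 LD3_c37) Lrfl Lrfl
theorem f24517 : Led Lsl_df (LP (LK LD1_c0 LD2_c36 LD3_c21)) = (LP (LK LD1_c0 LD2_c17 LD3_c3)) :=
  Lgr Lrot38 (Lpr_dt (f24440 IH) (Lpn (LP (LK LD1_c0 LD2_c17 LD3_c3))))
theorem f176901 : Led Lsl_et (LP (LK LD1_c0 LD2_c36 LD3_c45)) = (LP (LK LD1_c0 LD2_c17 LD3_c3)) :=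
  Lgr Lrot71 (Lpr_df (f176895 IH) (Lpe (f176885 IH) (Lpe (f24554 IH) (Lpe (f24439 IH) (Lpr_df (f24517 IH) (Lpn (LP (LK LD1_c0 LD2_c17 LD3_c3))))))))
theorem f176899 : Led Lsl_dt (LP (LK LD1_c0 LD2_c36 LD3_c45)) = (LP (LK LD1_c1 LD2_c3 LD3_c32)) :=
  Lgr Lrot42 (Lpr_df (f176895 IH) (Lpn (LP (LK LD1_c1 LD2_c3 LD3_c32))))
theorem f177146 : Led Lsl_ef (LP (LK LD1_c0 LD2_c34 LD3_c1)) = (LP (LK LD1_c0 LD2_c39 LD3_c52)) :=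
  Lgr Lrot167 (Lpr_gt (f165497 IH) (Lpr_dt (f20471 IH) (Lpe (f165494 IH) (Lpe (K8.f3152 IH) (Lpr_et (f164251 IH) (Lpr_gt (f177140 IH) (Lpe (f176901 IH) (Lpr_dt (f176899 IH) (Lpr_gt (f20218 IH) (Lpr_df (f20219 IH) (Lpn (LP (LK LD1_c0 LD2_c39 LD3_c52)))))))))))))
theorem f177150 : Led Lsl_et (LP (LK LD1_c0 LD2_c34 LD3_c1)) = (LP (LK LD1_c0 LD2_c39 LD3_c52)) :=
  Lgr Lrot87 (Lpr_ef (f177146 IH) (Lpn (LP (LK LD1_c0 LD2_c39 LD3_c52))))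
theorem f21234 : Led Lsl_gt (LP (LK LD1_c0 LD2_c31 LD3_c58)) = (LP (LK LD1_c0 LD2_c14 LD3_c15)) :=
  Lre_g IH (LK LD1_c0 LD2_c31 LD3_c58) (LK LD1_c0 LD2_c14 LD3_c15) Lrfl Lrfl
theorem f21235 : Led Lsl_et (LP (LK LD1_c0 LD2_c29 LD3_c0)) = (LP (LK LD1_c0 LD2_c31 LD3_c58)) :=
  Lgr Lrot121 (Lpr_dt (f20222 IH) (Lpe (f20212 IH) (Lpe (f20623 IH) (Lpr_et (f9477 IH) (Lpr_gf (K0.f21226 IH) (Lpe (K0.f3109 IH) (Lpr_dt (K7.f3119 IH) (Lpe (f3770 IH) (Lpe (f21232 IH) (Lpe (f21234 IH) (Lpn (LP (LK LD1_c0 LD2_c31 LD3_c58)))))))))))))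
theorem f21238 : Led Lsl_ef (LP (LK LD1_c0 LD2_c29 LD3_c0)) = (LP (LK LD1_c0 LD2_c31 LD3_c58)) :=
  Lgr Lrot88 (Lpr_et (f21235 IH) (Lpn (LP (LK LD1_c0 LD2_c31 LD3_c58))))
theorem f177148 : Led Lsl_dt (LP (LK LD1_c0 LD2_c34 LD3_c1)) = (LP (LK LD1_c0 LD2_c31 LD3_c58)) :=
  Lgr Lrot77 (Lpr_ef (f177146 IH) (Lpe (f20214 IH) (Lpe (f20221 IH) (Lpe (f20222 IH) (Lpr_ef (f21238 IH) (Lpn (LP (LK LD1_c0 LD2_c31 LD3_c58))))))))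
theorem f21249 : Led Lsl_df (LP (LK LD1_c0 LD2_c14 LD3_c15)) = (LP (LK LD1_c0 LD2_c15 LD3_c3)) :=
  Lgr Lrot38 (Lpr_dt (f21232 IH) (Lpn (LP (LK LD1_c0 LD2_c15 LD3_c3))))
theorem f21251 : Led Lsl_et (LP (LK LD1_c0 LD2_c15 LD3_c3)) = (LP (LK LD1_c0 LD2_c33 LD3_c33)) :=
  Lre_e IH (LK LD1_c0 LD2_c15 LD3_c3) (LK LD1_c0 LD2_c33 LD3_c33) Lrfl Lrfl
theorem f177154 : Led Lsl_gt (LP (LK LD1_c0 LD2_c33 LD3_c33)) = (LP (LK LD1_c0 LD2_c17 LD3_c39)) :=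
  Lgr Lrot137 (Lpe (f21251 IH) (Lpe (f21249 IH) (Lpe (f21234 IH) (Lpe (f177148 IH) (Lpr_et (f177150 IH) (Lpr_gf (f60201 IH) (Lpe (f59928 IH) (Lpr_dt (K0.f9021 IH) (Lpe (f9090 IH) (Lpe (f20636 IH) (Lpn (LP (LK LD1_c0 LD2_c17 LD3_c39)))))))))))))
theorem f3079 : Led Lsl_et (LP (LK LD1_c0 LD2_c6 LD3_c33)) = (LP (LK LD1_c0 LD2_c14 LD3_c15)) :=
  Lre_e IH (LK LD1_c0 LD2_c6 LD3_c33) (LK LD1_c0 LD2_c14 LD3_c15) Lrfl Lrfl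
theorem f21252 : Led Lsl_df (LP (LK LD1_c0 LD2_c16 LD3_c11)) = (LP (LK LD1_c0 LD2_c33 LD3_c33)) :=
  Lgr Lrot70 (Lpr_et (K0.f3077 IH) (Lpr_dt (K0.f3060 IH) (Lpr_et (f3079 IH) (Lpr_dt (f21232 IH) (Lpr_et (f21251 IH) (Lpn (LP (LK LD1_c0 LD2_c33 LD3_c33))))))))
theorem f21262 : Led Lsl_dt (LP (LK LD1_c0 LD2_c16 LD3_c11)) = (LP (LK LD1_c0 LD2_c33 LD3_c33)) :=
  Lgr Lrot42 (Lpr_df (f21252 IH) (Lpn (LP (LK LD1_c0 LD2_c33 LD3_c33))))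
theorem f165217 : Led Lsl_et (LP (LK LD1_c0 LD2_c3 LD3_c17)) = (LP (LK LD1_c0 LD2_c7 LD3_c20)) :=
  Lre_e IH (LK LD1_c0 LD2_c3 LD3_c17) (LK LD1_c0 LD2_c7 LD3_c20) Lrfl Lrfl
theorem f165218 : Led Lsl_gf (LP (LK LD1_c0 LD2_c14 LD3_c14)) = (LP (LK LD1_c0 LD2_c7 LD3_c20)) :=
  Lgr Lrot138 (Lpr_dt (K0.f3060 IH) (Lpe (f3058 IH) (Lpr_df (K0.f259 IH) (Lpr_et (K0.f1515 IH) (Lpr_gt (K0.f3083 IH) (Lpe (K0.f3068 IH) (Lpr_dt (K0.f3069 IH) (Lpr_gt (f165200 IH) (Lpe (f9490 IH) (Lpr_et (f165217 IH) (Lpn (LP (LK LD1_c0 LD2_c7 LD3_c20)))))))))))))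
theorem f20806 : Led Lsl_dt (LP (LK LD1_c0 LD2_c7 LD3_c57)) = (LP (LK LD1_c0 LD2_c17 LD3_c39)) :=
  Lre_d IH (LK LD1_c0 LD2_c7 LD3_c57) (LK LD1_c0 LD2_c17 LD3_c39) Lrfl Lrfl
theorem f177160 : Led Lsl_gf (LP (LK LD1_c0 LD2_c14 LD3_c17)) = (LP (LK LD1_c0 LD2_c17 LD3_c40)) :=
  Lgr Lrot138 (Lpr_dt (K0.f3069 IH) (Lpr_gt (f165200 IH) (Lpe (f9490 IH) (Lpr_et (f165217 IH) (Lpe (f165218 IH) (Lpe (K0.f3077 IH) (Lpr_dt (f21262 IH) (Lpr_gt (f177154 IH) (Lpe (f20806 IH) (Lpr_et (f20635 IH) (Lpn (LP (LK LD1_c0 LD2_c17 LD3_c40)))))))))))))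
theorem f7895 : Led Lsl_dt (LP (LK LD1_c1 LD2_c18 LD3_c38)) = (LP (LK LD1_c0 LD2_c36 LD3_c14)) :=
  Lre_d IH (LK LD1_c1 LD2_c18 LD3_c38) (LK LD1_c0 LD2_c36 LD3_c14) Lrfl Lrfl
theorem f20632 : Led Lsl_dt (LP (LK LD1_c0 LD2_c12 LD3_c50)) = (LP (LK LD1_c0 LD2_c17 LD3_c40)) :=
  Lgr Lrot42 (Lpr_df (f20627 IH) (Lpn (LP (LK LD1_c0 LD2_c17 LD3_c40))))
theorem f20810 : Led Lsl_dt (LP (LK LD1_c0 LD2_c29 LD3_c5)) = (LP (LK LD1_c1 LD2_c3 LD3_c43)) :=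
  Lre_d IH (LK LD1_c0 LD2_c29 LD3_c5) (LK LD1_c1 LD2_c3 LD3_c43) Lrfl Lrfl
theorem f177162 : Led Lsl_gf (LP (LK LD1_c1 LD2_c18 LD3_c38)) = (LP (LK LD1_c1 LD2_c3 LD3_c43)) :=
  Lgr Lrot143 (Lpr_dt (f7895 IH) (Lpe (f164745 IH) (Lpe (K0.f3069 IH) (Lpr_gf (f177160 IH) (Lpe (f20632 IH) (Lpe (f20649 IH) (Lpe (f20812 IH) (Lpr_gt (f20809 IH) (Lpr_dt (f20810 IH) (Lpn (LP (LK LD1_c1 LD2_c3 LD3_c43))))))))))))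
theorem f164733 : Led Lsl_dt (LP (LK LD1_c0 LD2_c36 LD3_c14)) = (LP (LK LD1_c1 LD2_c18 LD3_c38)) :=
  Lre_d IH (LK LD1_c0 LD2_c36 LD3_c14) (LK LD1_c1 LD2_c18 LD3_c38) Lrfl Lrfl
theorem f164739 : Led Lsl_et (LP (LK LD1_c0 LD2_c36 LD3_c14)) = (LP (LK LD1_c0 LD2_c33 LD3_c23)) :=
  Lgr Lrot87 (Lpr_ef (f164727 IH) (Lpn (LP (LK LD1_c0 LD2_c33 LD3_c23))))
theorem f164693 : Led Lsl_gt (LP (LK LD1_c0 LD2_c33 LD3_c23)) = (LP (LK LD1_c1 LD2_c12 LD3_c7)) :=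
  Lre_g IH (LK LD1_c0 LD2_c33 LD3_c23) (LK LD1_c1 LD2_c12 LD3_c7) Lrfl Lrfl
theorem f164752 : Led Lsl_et (LP (LK LD1_c2 LD2_c30 LD3_c13)) = (LP (LK LD1_c1 LD2_c12 LD3_c7)) :=
  Lre_e IH (LK LD1_c2 LD2_c30 LD3_c13) (LK LD1_c1 LD2_c12 LD3_c7) Lrfl Lrfl
theorem f23959 : Led Lsl_et (LP (LK LD1_c0 LD2_c37 LD3_c13)) = (LP (LK LD1_c0 LD2_c16 LD3_c34)) :=
  Lre_e IH (LK LD1_c0 LD2_c37 LD3_c13) (LK LD1_c0 LD2_c16 LD3_c34) Lrfl Lrfl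
theorem f177744 : Led Lsl_dt (LP (LK LD1_c2 LD2_c30 LD3_c13)) = (LP (LK LD1_c2 LD2_c16 LD3_c39)) :=
  Lgr Lrot136 (Lpr_et (f164752 IH) (Lpe (f164693 IH) (Lpe (f164739 IH) (Lpr_dt (f164733 IH) (Lpr_gf (f177162 IH) (Lpe (f20810 IH) (Lpe (f20809 IH) (Lpe (f23959 IH) (Lpr_dt (f23957 IH) (Lpe (f26684 IH) (Lpn (LP (LK LD1_c2 LD2_c16 LD3_c39)))))))))))))
theorem f68584 : Led Lsl_et (LP (LK LD1_c0 LD2_c17 LD3_c7)) = (LP (LK LD1_c0 LD2_c7 LD3_c37)) :=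
  Lre_e IH (LK LD1_c0 LD2_c17 LD3_c7) (LK LD1_c0 LD2_c7 LD3_c37) Lrfl Lrfl
theorem f167611 : Led Lsl_gt (LP (LK LD1_c0 LD2_c7 LD3_c1)) = (LP (LK LD1_c0 LD2_c14 LD3_c59)) :=
  Lgr Lrot131 (Lpe (K1.f28427 IH) (Lpe (K0.f28418 IH) (Lpr_gf (K0.f28435 IH) (Lpe (K0.f7688 IH) (Lpr_gf (K0.f8298 IH) (Lpe (K0.f484 IH) (Lpr_dt (K0.f1385 IH) (Lpe (f522 IH) (Lpr_df (f167425 IH) (Lpr_et (f165186 IH) (Lpn (LP (LK LD1_c0 LD2_c14 LD3_c59)))))))))))))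
theorem f32806 : Led Lsl_gt (LP (LK LD1_c0 LD2_c15 LD3_c29)) = (LP (LK LD1_c0 LD2_c34 LD3_c31)) :=
  Lre_g IH (LK LD1_c0 LD2_c15 LD3_c29) (LK LD1_c0 LD2_c34 LD3_c31) Lrfl Lrfl
theorem f163651 : Led Lsl_ct (LP (LK LD1_c1 LD2_c13 LD3_c19)) = (LP (LK LD1_c0 LD2_c33 LD3_c59)) :=
  Lre_c IH (LK LD1_c1 LD2_c13 LD3_c19) (LK LD1_c0 LD2_c33 LD3_c59) Lrfl Lrfl
theorem f163751 : Led Lsl_at (LP (LK LD1_c1 LD2_c11 LD3_c54)) = (LP (LK LD1_c1 LD2_c13 LD3_c19)) :=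
  Lgr Lrot100 (Lpr_af (K8.f163738 IH) (Lpn (LP (LK LD1_c1 LD2_c13 LD3_c19))))
theorem f21393 : Led Lsl_gt (LP (LK LD1_c0 LD2_c33 LD3_c15)) = (LP (LK LD1_c1 LD2_c11 LD3_c50)) :=
  Lre_g IH (LK LD1_c0 LD2_c33 LD3_c15) (LK LD1_c1 LD2_c11 LD3_c50) Lrfl Lrfl
theorem f165442 : Led Lsl_gt (LP (LK LD1_c1 LD2_c11 LD3_c50)) = (LP (LK LD1_c1 LD2_c13 LD3_c19)) :=
  Lgr Lrot46 (Lpe (f21393 IH) (Lpr_ft (K0.f21370 IH) (Lpr_at (f163751 IH) (Lpn (LP (LK LD1_c1 LD2_c13 LD3_c19))))))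
theorem f169438 : Led Lsl_ct (LP (LK LD1_c0 LD2_c34 LD3_c31)) = (LP (LK LD1_c1 LD2_c11 LD3_c50)) :=
  Lgr Lrot152 (Lpe (f32806 IH) (Lpe (K2.f32264 IH) (Lpr_gt (f167611 IH) (Lpr_ct (f163703 IH) (Lpr_gt (f163697 IH) (Lpr_ct (K8.f163680 IH) (Lpe (K8.f163650 IH) (Lpe (f163651 IH) (Lpe (f165442 IH) (Lpn (LP (LK LD1_c1 LD2_c11 LD3_c50))))))))))))
theorem f32797 : Led Lsl_af (LP (LK LD1_c0 LD2_c34 LD3_c49)) = (LP (LK LD1_c0 LD2_c34 LD3_c34)) :=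
  Lgr Lrot68 (Lpr_ct (K2.f32271 IH) (Lpr_at (f32579 IH) (Lpr_ct (K2.f32796 IH) (Lpn (LP (LK LD1_c0 LD2_c34 LD3_c34))))))
theorem f32805 : Led Lsl_ft (LP (LK LD1_c0 LD2_c15 LD3_c29)) = (LP (LK LD1_c0 LD2_c34 LD3_c34)) :=
  Lre_f IH (LK LD1_c0 LD2_c15 LD3_c29) (LK LD1_c0 LD2_c34 LD3_c34) Lrfl Lrfl
theorem f32807 : Led Lsl_gf (LP (LK LD1_c0 LD2_c34 LD3_c49)) = (LP (LK LD1_c0 LD2_c34 LD3_c31)) :=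
  Lgr Lrot76 (Lpr_af (f32797 IH) (Lpe (f32805 IH) (Lpr_gt (f32806 IH) (Lpn (LP (LK LD1_c0 LD2_c34 LD3_c31))))))
theorem f163682 : Led Lsl_dt (LP (LK LD1_c0 LD2_c14 LD3_c61)) = (LP (LK LD1_c0 LD2_c33 LD3_c25)) :=
  Lre_d IH (LK LD1_c0 LD2_c14 LD3_c61) (LK LD1_c0 LD2_c33 LD3_c25) Lrfl Lrfl
theorem f163683 : Led Lsl_ct (LP (LK LD1_c1 LD2_c12 LD3_c13)) = (LP (LK LD1_c0 LD2_c33 LD3_c25)) :=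
  Lre_c IH (LK LD1_c1 LD2_c12 LD3_c13) (LK LD1_c0 LD2_c33 LD3_c25) Lrfl Lrfl
theorem f169575 : Led Lsl_df (LP (LK LD1_c1 LD2_c12 LD3_c13)) = (LP (LK LD1_c2 LD2_c29 LD3_c41)) :=
  Lgr Lrot174 (Lpr_ct (f163683 IH) (Lpe (f163682 IH) (Lpe (f165867 IH) (Lpe (K1.f32224 IH) (Lpr_gf (f32807 IH) (Lpr_ct (f169438 IH) (Lpr_gt (f165442 IH) (Lpe (K8.f164111 IH) (Lpe (f163804 IH) (Lpn (LP (LK LD1_c2 LD2_c29 LD3_c41))))))))))))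
theorem f163684 : Led Lsl_dt (LP (LK LD1_c0 LD2_c33 LD3_c25)) = (LP (LK LD1_c0 LD2_c14 LD3_c61)) :=
  Lre_d IH (LK LD1_c0 LD2_c33 LD3_c25) (LK LD1_c0 LD2_c14 LD3_c61) Lrfl Lrfl
theorem f22126 : Led Lsl_dt (LP (LK LD1_c0 LD2_c6 LD3_c52)) = (LP (LK LD1_c0 LD2_c15 LD3_c0)) :=
  Lre_d IH (LK LD1_c0 LD2_c6 LD3_c52) (LK LD1_c0 LD2_c15 LD3_c0) Lrfl Lrfl
theorem f22132 : Led Lsl_ct (LP (LK LD1_c0 LD2_c15 LD3_c0)) = (LP (LK LD1_c0 LD2_c33 LD3_c27)) :=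
  Lre_c IH (LK LD1_c0 LD2_c15 LD3_c0) (LK LD1_c0 LD2_c33 LD3_c27) Lrfl Lrfl
theorem f22147 : Led Lsl_dt (LP (LK LD1_c0 LD2_c33 LD3_c27)) = (LP (LK LD1_c1 LD2_c12 LD3_c17)) :=
  Lre_d IH (LK LD1_c0 LD2_c33 LD3_c27) (LK LD1_c1 LD2_c12 LD3_c17) Lrfl Lrfl
theorem f164691 : Led Lsl_dt (LP (LK LD1_c0 LD2_c33 LD3_c20)) = (LP (LK LD1_c0 LD2_c14 LD3_c59)) :=
  Lre_d IH (LK LD1_c0 LD2_c33 LD3_c20) (LK LD1_c0 LD2_c14 LD3_c59) Lrfl Lrfl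
theorem f166366 : Led Lsl_ct (LP (LK LD1_c1 LD2_c12 LD3_c2)) = (LP (LK LD1_c0 LD2_c33 LD3_c20)) :=
  Lre_c IH (LK LD1_c1 LD2_c12 LD3_c2) (LK LD1_c0 LD2_c33 LD3_c20) Lrfl Lrfl
theorem f31447 : Led Lsl_dt (LP (LK LD1_c0 LD2_c15 LD3_c29)) = (LP (LK LD1_c0 LD2_c7 LD3_c1)) :=
  Lre_d IH (LK LD1_c0 LD2_c15 LD3_c29) (LK LD1_c0 LD2_c7 LD3_c1) Lrfl Lrfl
theorem f21423 : Led Lsl_gt (LP (LK LD1_c1 LD2_c11 LD3_c53)) = (LP (LK LD1_c2 LD2_c29 LD3_c40)) :=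
  Lre_g IH (LK LD1_c1 LD2_c11 LD3_c53) (LK LD1_c2 LD2_c29 LD3_c40) Lrfl Lrfl
theorem f165191 : Led Lsl_dt (LP (LK LD1_c0 LD2_c14 LD3_c59)) = (LP (LK LD1_c0 LD2_c33 LD3_c20)) :=
  Lre_d IH (LK LD1_c0 LD2_c14 LD3_c59) (LK LD1_c0 LD2_c33 LD3_c20) Lrfl Lrfl
theorem f169436 : Led Lsl_dt (LP (LK LD1_c2 LD2_c29 LD3_c40)) = (LP (LK LD1_c1 LD2_c12 LD3_c2)) :=
  Lgr Lrot105 (Lpe (f21423 IH) (Lpe (K0.f21383 IH) (Lpe (f21389 IH) (Lpe (f165872 IH) (Lpr_gt (f31448 IH) (Lpr_dt (f31447 IH) (Lpr_gt (f167611 IH) (Lpr_dt (f165191 IH) (Lpe (f166366 IH) (Lpn (LP (LK LD1_c1 LD2_c12 LD3_c2))))))))))))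
theorem f169580 : Led Lsl_ct (LP (LK LD1_c1 LD2_c12 LD3_c17)) = (LP (LK LD1_c2 LD2_c29 LD3_c40)) :=
  Lgr Lrot176 (Lpe (f22147 IH) (Lpe (f22132 IH) (Lpe (f22126 IH) (Lpe (f163686 IH) (Lpe (f163684 IH) (Lpe (f163683 IH) (Lpr_df (f169575 IH) (Lpr_cf (f166244 IH) (Lpe (f164741 IH) (Lpe (f3129 IH) (Lpe (f3128 IH) (Lpe (f163703 IH) (Lpe (f164691 IH) (Lpe (f166366 IH) (Lpe (f169436 IH) (Lpn (LP (LK LD1_c2 LD2_c29 LD3_c40))))))))))))))))))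
theorem f169678 : Led Lsl_cf (LP (LK LD1_c1 LD2_c12 LD3_c17)) = (LP (LK LD1_c2 LD2_c29 LD3_c40)) :=
  Lgr Lrot11 (Lpr_ct (f169580 IH) (Lpn (LP (LK LD1_c2 LD2_c29 LD3_c40))))
theorem f169570 : Led Lsl_cf (LP (LK LD1_c0 LD2_c34 LD3_c31)) = (LP (LK LD1_c1 LD2_c11 LD3_c50)) :=
  Lgr Lrot11 (Lpr_ct (f169438 IH) (Lpn (LP (LK LD1_c1 LD2_c11 LD3_c50))))
theorem f71531 : Led Lsl_dt (LP (LK LD1_c1 LD2_c22 LD3_c61)) = (LP (LK LD1_c1 LD2_c15 LD3_c1)) :=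
  Lgr Lrot42 (Lpr_df (K2.f71526 IH) (Lpn (LP (LK LD1_c1 LD2_c15 LD3_c1))))
theorem f169748 : Led Lsl_gt (LP (LK LD1_c1 LD2_c12 LD3_c17)) = (LP (LK LD1_c0 LD2_c38 LD3_c25)) :=
  Lgr Lrot150 (Lpr_cf (f169678 IH) (Lpe (f21423 IH) (Lpe (K0.f21383 IH) (Lpr_gt (f21393 IH) (Lpe (f169570 IH) (Lpe (f32807 IH) (Lpr_ct (K2.f32271 IH) (Lpe (f71531 IH) (Lpe (K8.f71517 IH) (Lpn (LP (LK LD1_c0 LD2_c38 LD3_c25))))))))))))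
theorem f177757 : Led Lsl_gt (LP (LK LD1_c1 LD2_c12 LD3_c7)) = (LP (LK LD1_c0 LD2_c33 LD3_c27)) :=
  Lgr Lrot137 (Lpe (f164752 IH) (Lpr_dt (f177744 IH) (Lpe (f169774 IH) (Lpe (f23928 IH) (Lpr_et (f23927 IH) (Lpe (K0.f22453 IH) (Lpe (f68584 IH) (Lpr_dt (f68585 IH) (Lpe (f169748 IH) (Lpe (f22147 IH) (Lpn (LP (LK LD1_c0 LD2_c33 LD3_c27)))))))))))))
theorem f31599 : Led Lsl_gt (LP (LK LD1_c0 LD2_c14 LD3_c20)) = (LP (LK LD1_c0 LD2_c6 LD3_c37)) :=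
  Lre_g IH (LK LD1_c0 LD2_c14 LD3_c20) (LK LD1_c0 LD2_c6 LD3_c37) Lrfl Lrfl
theorem f31695 : Led Lsl_dt (LP (LK LD1_c0 LD2_c32 LD3_c5)) = (LP (LK LD1_c0 LD2_c14 LD3_c20)) :=
  Lre_d IH (LK LD1_c0 LD2_c32 LD3_c5) (LK LD1_c0 LD2_c14 LD3_c20) Lrfl Lrfl
theorem f59128 : Led Lsl_dt (LP (LK LD1_c1 LD2_c27 LD3_c42)) = (LP (LK LD1_c0 LD2_c40 LD3_c34)) :=
  Lre_d IH (LK LD1_c1 LD2_c27 LD3_c42) (LK LD1_c0 LD2_c40 LD3_c34) Lrfl Lrfl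
theorem f26596 : Led Lsl_et (LP (LK LD1_c0 LD2_c6 LD3_c10)) = (LP (LK LD1_c0 LD2_c13 LD3_c32)) :=
  Lre_e IH (LK LD1_c0 LD2_c6 LD3_c10) (LK LD1_c0 LD2_c13 LD3_c32) Lrfl Lrfl
theorem f58976 : Led Lsl_et (LP (LK LD1_c0 LD2_c8 LD3_c16)) = (LP (LK LD1_c0 LD2_c3 LD3_c47)) :=
  Lre_e IH (LK LD1_c0 LD2_c8 LD3_c16) (LK LD1_c0 LD2_c3 LD3_c47) Lrfl Lrfl
theorem f58979 : Led Lsl_dt (LP (LK LD1_c0 LD2_c13 LD3_c32)) = (LP (LK LD1_c0 LD2_c8 LD3_c16)) :=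
  Lgr Lrot77 (Lpe (f26596 IH) (Lpe (K0.f26367 IH) (Lpr_ef (K1.f58974 IH) (Lpe (K1.f7120 IH) (Lpe (f58976 IH) (Lpn (LP (LK LD1_c0 LD2_c8 LD3_c16))))))))
theorem f58991 : Led Lsl_df (LP (LK LD1_c0 LD2_c13 LD3_c32)) = (LP (LK LD1_c0 LD2_c8 LD3_c16)) :=
  Lgr Lrot38 (Lpr_dt (f58979 IH) (Lpn (LP (LK LD1_c0 LD2_c8 LD3_c16))))
theorem f26597 : Led Lsl_gt (LP (LK LD1_c0 LD2_c13 LD3_c32)) = (LP (LK LD1_c0 LD2_c30 LD3_c27)) :=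
  Lre_g IH (LK LD1_c0 LD2_c13 LD3_c32) (LK LD1_c0 LD2_c30 LD3_c27) Lrfl Lrfl
theorem f35333 : Led Lsl_dt (LP (LK LD1_c1 LD2_c6 LD3_c35)) = (LP (LK LD1_c0 LD2_c30 LD3_c27)) :=
  Lre_d IH (LK LD1_c1 LD2_c6 LD3_c35) (LK LD1_c0 LD2_c30 LD3_c27) Lrfl Lrfl
theorem f28350 : Led Lsl_dt (LP (LK LD1_c0 LD2_c32 LD3_c10)) = (LP (LK LD1_c0 LD2_c14 LD3_c24)) :=
  Lre_d IH (LK LD1_c0 LD2_c32 LD3_c10) (LK LD1_c0 LD2_c14 LD3_c24) Lrfl Lrfl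
theorem f35326 : Led Lsl_ef (LP (LK LD1_c0 LD2_c30 LD3_c27)) = (LP (LK LD1_c0 LD2_c32 LD3_c10)) :=
  Lgr Lrot17 (Lpe (f26597 IH) (Lpe (f26596 IH) (Lpr_dt (K1.f26595 IH) (Lpr_gf (K0.f26304 IH) (Lpe (K0.f12615 IH) (Lpe (K0.f26568 IH) (Lpr_ef (f34777 IH) (Lpr_dt (K1.f28315 IH) (Lpe (K8.f28330 IH) (Lpe (f28350 IH) (Lpn (LP (LK LD1_c0 LD2_c32 LD3_c10)))))))))))))
theorem f35328 : Led Lsl_dt (LP (LK LD1_c0 LD2_c30 LD3_c27)) = (LP (LK LD1_c1 LD2_c6 LD3_c35)) :=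
  Lre_d IH (LK LD1_c0 LD2_c30 LD3_c27) (LK LD1_c1 LD2_c6 LD3_c35) Lrfl Lrfl
theorem f28353 : Led Lsl_dt (LP (LK LD1_c0 LD2_c14 LD3_c24)) = (LP (LK LD1_c0 LD2_c32 LD3_c10)) :=
  Lre_d IH (LK LD1_c0 LD2_c14 LD3_c24) (LK LD1_c0 LD2_c32 LD3_c10) Lrfl Lrfl
theorem f35329 : Led Lsl_et (LP (LK LD1_c1 LD2_c6 LD3_c35)) = (LP (LK LD1_c0 LD2_c57 LD3_c26)) :=
  Lgr Lrot71 (Lpe (f35328 IH) (Lpr_ef (f35326 IH) (Lpe (f28353 IH) (Lpe (K8.f28331 IH) (Lpe (K8.f28347 IH) (Lpn (LP (LK LD1_c0 LD2_c57 LD3_c26))))))))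
theorem f59118 : Led Lsl_gt (LP (LK LD1_c0 LD2_c57 LD3_c26)) = (LP (LK LD1_c0 LD2_c26 LD3_c6)) :=
  Lgr Lrot137 (Lpe (f35329 IH) (Lpr_dt (f35333 IH) (Lpe (f26597 IH) (Lpr_df (f58991 IH) (Lpr_et (f58976 IH) (Lpe (K1.f58941 IH) (Lpe (f8134 IH) (Lpr_dt (K1.f53168 IH) (Lpe (f8257 IH) (Lpe (f58968 IH) (Lpn (LP (LK LD1_c0 LD2_c26 LD3_c6)))))))))))))
theorem f59013 : Led Lsl_gt (LP (LK LD1_c0 LD2_c18 LD3_c23)) = (LP (LK LD1_c0 LD2_c8 LD3_c16)) :=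
  Lre_g IH (LK LD1_c0 LD2_c18 LD3_c23) (LK LD1_c0 LD2_c8 LD3_c16) Lrfl Lrfl
theorem f59114 : Led Lsl_et (LP (LK LD1_c0 LD2_c41 LD3_c7)) = (LP (LK LD1_c0 LD2_c18 LD3_c23)) :=
  Lre_e IH (LK LD1_c0 LD2_c41 LD3_c7) (LK LD1_c0 LD2_c18 LD3_c23) Lrfl Lrfl
theorem f59115 : Led Lsl_dt (LP (LK LD1_c0 LD2_c41 LD3_c7)) = (LP (LK LD1_c1 LD2_c28 LD3_c58)) :=
  Lre_d IH (LK LD1_c0 LD2_c41 LD3_c7) (LK LD1_c1 LD2_c28 LD3_c58) Lrfl Lrfl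
theorem f59116 : Led Lsl_gt (LP (LK LD1_c1 LD2_c27 LD3_c42)) = (LP (LK LD1_c1 LD2_c28 LD3_c58)) :=
  Lre_g IH (LK LD1_c1 LD2_c27 LD3_c42) (LK LD1_c1 LD2_c28 LD3_c58) Lrfl Lrfl
theorem f59117 : Led Lsl_dt (LP (LK LD1_c0 LD2_c40 LD3_c34)) = (LP (LK LD1_c1 LD2_c27 LD3_c42)) :=
  Lre_d IH (LK LD1_c0 LD2_c40 LD3_c34) (LK LD1_c1 LD2_c27 LD3_c42) Lrfl Lrfl
theorem f59126 : Led Lsl_et (LP (LK LD1_c0 LD2_c40 LD3_c34)) = (LP (LK LD1_c0 LD2_c26 LD3_c6)) :=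
  Lgr Lrot122 (Lpr_dt (f59117 IH) (Lpr_gt (f59116 IH) (Lpe (f59115 IH) (Lpr_et (f59114 IH) (Lpr_gt (f59013 IH) (Lpe (f58991 IH) (Lpr_gt (f26597 IH) (Lpe (f35333 IH) (Lpr_et (f35329 IH) (Lpr_gt (f59118 IH) (Lpn (LP (LK LD1_c0 LD2_c26 LD3_c6)))))))))))))
theorem f59125 : Led Lsl_et (LP (LK LD1_c0 LD2_c11 LD3_c36)) = (LP (LK LD1_c0 LD2_c26 LD3_c7)) :=
  Lre_e IH (LK LD1_c0 LD2_c11 LD3_c36) (LK LD1_c0 LD2_c26 LD3_c7) Lrfl Lrfl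
theorem f8259 : Led Lsl_dt (LP (LK LD1_c0 LD2_c26 LD3_c7)) = (LP (LK LD1_c0 LD2_c57 LD3_c31)) :=
  Lre_d IH (LK LD1_c0 LD2_c26 LD3_c7) (LK LD1_c0 LD2_c57 LD3_c31) Lrfl Lrfl
theorem f59129 : Led Lsl_ef (LP (LK LD1_c1 LD2_c27 LD3_c42)) = (LP (LK LD1_c0 LD2_c57 LD3_c31)) :=
  Lgr Lrot73 (Lpr_dt (f59128 IH) (Lpr_et (f59126 IH) (Lpr_dt (f58968 IH) (Lpr_et (f59125 IH) (Lpr_dt (f8259 IH) (Lpn (LP (LK LD1_c0 LD2_c57 LD3_c31))))))))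
theorem f59131 : Led Lsl_et (LP (LK LD1_c1 LD2_c27 LD3_c42)) = (LP (LK LD1_c0 LD2_c57 LD3_c31)) :=
  Lgr Lrot87 (Lpr_ef (f59129 IH) (Lpn (LP (LK LD1_c0 LD2_c57 LD3_c31))))
theorem f101517 : Led Lsl_gf (LP (LK LD1_c0 LD2_c32 LD3_c5)) = (LP (LK LD1_c0 LD2_c57 LD3_c31)) :=
  Lgr Lrot138 (Lpr_dt (f31695 IH) (Lpr_gt (f31599 IH) (Lpe (K2.f31443 IH) (Lpe (f37746 IH) (Lpr_gt (K2.f59527 IH) (Lpe (f59521 IH) (Lpr_dt (f100645 IH) (Lpr_gt (f58971 IH) (Lpe (f59128 IH) (Lpr_et (f59131 IH) (Lpn (LP (LK LD1_c0 LD2_c57 LD3_c31)))))))))))))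
theorem f177769 : Led Lsl_cf (LP (LK LD1_c1 LD2_c12 LD3_c7)) = (LP (LK LD1_c0 LD2_c57 LD3_c31)) :=
  Lgr Lrot166 (Lpr_gt (f177757 IH) (Lpr_dt (f22147 IH) (Lpr_gt (f169748 IH) (Lpr_dt (K2.f71507 IH) (Lpr_ct (f37949 IH) (Lpe (f31439 IH) (Lpe (f31599 IH) (Lpe (f31695 IH) (Lpr_gf (f101517 IH) (Lpn (LP (LK LD1_c0 LD2_c57 LD3_c31))))))))))))
theorem f22123 : Led Lsl_ct (LP (LK LD1_c0 LD2_c33 LD3_c27)) = (LP (LK LD1_c0 LD2_c15 LD3_c0)) :=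
  Lre_c IH (LK LD1_c0 LD2_c33 LD3_c27) (LK LD1_c0 LD2_c15 LD3_c0) Lrfl Lrfl
theorem f31557 : Led Lsl_ft (LP (LK LD1_c0 LD2_c6 LD3_c37)) = (LP (LK LD1_c0 LD2_c14 LD3_c22)) :=
  Lre_f IH (LK LD1_c0 LD2_c6 LD3_c37) (LK LD1_c0 LD2_c14 LD3_c22) Lrfl Lrfl
theorem f31444 : Led Lsl_gt (LP (LK LD1_c0 LD2_c6 LD3_c37)) = (LP (LK LD1_c0 LD2_c14 LD3_c19)) :=
  Lre_g IH (LK LD1_c0 LD2_c6 LD3_c37) (LK LD1_c0 LD2_c14 LD3_c19) Lrfl Lrfl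
theorem f31677 : Led Lsl_gf (LP (LK LD1_c0 LD2_c14 LD3_c26)) = (LP (LK LD1_c0 LD2_c14 LD3_c19)) :=
  Lgr Lrot76 (Lpr_af (K1.f31654 IH) (Lpe (f31557 IH) (Lpr_gt (f31444 IH) (Lpn (LP (LK LD1_c0 LD2_c14 LD3_c19))))))
theorem f31452 : Led Lsl_dt (LP (LK LD1_c0 LD2_c32 LD3_c4)) = (LP (LK LD1_c0 LD2_c14 LD3_c19)) :=
  Lre_d IH (LK LD1_c0 LD2_c32 LD3_c4) (LK LD1_c0 LD2_c14 LD3_c19) Lrfl Lrfl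
theorem f177771 : Led Lsl_gf (LP (LK LD1_c0 LD2_c57 LD3_c31)) = (LP (LK LD1_c0 LD2_c32 LD3_c4)) :=
  Lgr Lrot147 (Lpe (f177769 IH) (Lpr_gt (f177757 IH) (Lpr_ct (f22123 IH) (Lpe (f22126 IH) (Lpe (f163686 IH) (Lpe (f165867 IH) (Lpr_cf (K1.f32099 IH) (Lpr_gf (f31677 IH) (Lpe (f31452 IH) (Lpn (LP (LK LD1_c0 LD2_c32 LD3_c4))))))))))))
theorem f59134 : Led Lsl_dt (LP (LK LD1_c0 LD2_c57 LD3_c31)) = (LP (LK LD1_c0 LD2_c26 LD3_c7)) :=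
  Lre_d IH (LK LD1_c0 LD2_c57 LD3_c31) (LK LD1_c0 LD2_c26 LD3_c7) Lrfl Lrfl
theorem f31445 : Led Lsl_dt (LP (LK LD1_c0 LD2_c14 LD3_c19)) = (LP (LK LD1_c0 LD2_c32 LD3_c4)) :=
  Lre_d IH (LK LD1_c0 LD2_c14 LD3_c19) (LK LD1_c0 LD2_c32 LD3_c4) Lrfl Lrfl
theorem f165227 : Led Lsl_gt (LP (LK LD1_c0 LD2_c33 LD3_c20)) = (LP (LK LD1_c1 LD2_c12 LD3_c0)) :=
  Lre_g IH (LK LD1_c0 LD2_c33 LD3_c20) (LK LD1_c1 LD2_c12 LD3_c0) Lrfl Lrfl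
theorem f7690 : Led Lsl_et (LP (LK LD1_c0 LD2_c3 LD3_c37)) = (LP (LK LD1_c0 LD2_c7 LD3_c56)) :=
  Lre_e IH (LK LD1_c0 LD2_c3 LD3_c37) (LK LD1_c0 LD2_c7 LD3_c56) Lrfl Lrfl
theorem f55922 : Led Lsl_gt (LP (LK LD1_c0 LD2_c17 LD3_c35)) = (LP (LK LD1_c0 LD2_c7 LD3_c56)) :=
  Lre_g IH (LK LD1_c0 LD2_c17 LD3_c35) (LK LD1_c0 LD2_c7 LD3_c56) Lrfl Lrfl
theorem f169442 : Led Lsl_et (LP (LK LD1_c0 LD2_c39 LD3_c18)) = (LP (LK LD1_c0 LD2_c17 LD3_c35)) :=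
  Lre_e IH (LK LD1_c0 LD2_c39 LD3_c18) (LK LD1_c0 LD2_c17 LD3_c35) Lrfl Lrfl
theorem f169443 : Led Lsl_dt (LP (LK LD1_c0 LD2_c39 LD3_c18)) = (LP (LK LD1_c1 LD2_c12 LD3_c0)) :=
  Lgr Lrot56 (Lpr_et (f169442 IH) (Lpr_gt (f55922 IH) (Lpe (f7690 IH) (Lpr_dt (K0.f7688 IH) (Lpe (K0.f28435 IH) (Lpr_df (K0.f28418 IH) (Lpr_et (K1.f28427 IH) (Lpr_gt (f167611 IH) (Lpr_dt (f165191 IH) (Lpr_gt (f165227 IH) (Lpn (LP (LK LD1_c1 LD2_c12 LD3_c0)))))))))))))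
theorem f169450 : Led Lsl_df (LP (LK LD1_c0 LD2_c39 LD3_c18)) = (LP (LK LD1_c1 LD2_c12 LD3_c0)) :=
  Lgr Lrot38 (Lpr_dt (f169443 IH) (Lpn (LP (LK LD1_c1 LD2_c12 LD3_c0))))
theorem f177776 : Led Lsl_cf (LP (LK LD1_c0 LD2_c26 LD3_c7)) = (LP (LK LD1_c0 LD2_c39 LD3_c18)) :=
  Lgr Lrot14 (Lpe (f59134 IH) (Lpr_gf (f177771 IH) (Lpe (f31445 IH) (Lpe (f31444 IH) (Lpr_ct (K1.f32873 IH) (Lpr_gt (f167611 IH) (Lpr_dt (f165191 IH) (Lpr_gt (f165227 IH) (Lpe (f169450 IH) (Lpn (LP (LK LD1_c0 LD2_c39 LD3_c18))))))))))))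
theorem f8258 : Led Lsl_et (LP (LK LD1_c0 LD2_c26 LD3_c7)) = (LP (LK LD1_c0 LD2_c11 LD3_c36)) :=
  Lre_e IH (LK LD1_c0 LD2_c26 LD3_c7) (LK LD1_c0 LD2_c11 LD3_c36) Lrfl Lrfl
theorem f169452 : Led Lsl_et (LP (LK LD1_c0 LD2_c17 LD3_c35)) = (LP (LK LD1_c0 LD2_c39 LD3_c18)) :=
  Lre_e IH (LK LD1_c0 LD2_c17 LD3_c35) (LK LD1_c0 LD2_c39 LD3_c18) Lrfl Lrfl
theorem f177779 : Led Lsl_ct (LP (LK LD1_c0 LD2_c11 LD3_c36)) = (LP (LK LD1_c0 LD2_c17 LD3_c35)) :=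
  Lgr Lrot15 (Lpe (f8258 IH) (Lpr_cf (f177776 IH) (Lpe (f169452 IH) (Lpn (LP (LK LD1_c0 LD2_c17 LD3_c35))))))
theorem f53167 : Led Lsl_gt (LP (LK LD1_c0 LD2_c26 LD3_c9)) = (LP (LK LD1_c0 LD2_c11 LD3_c37)) :=
  Lre_g IH (LK LD1_c0 LD2_c26 LD3_c9) (LK LD1_c0 LD2_c11 LD3_c37) Lrfl Lrfl
theorem f55615 : Led Lsl_gf (LP (LK LD1_c0 LD2_c26 LD3_c9)) = (LP (LK LD1_c0 LD2_c25 LD3_c57)) :=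
  Lgr Lrot47 (Lpr_gt (f53167 IH) (Lpr_af (K1.f55603 IH) (Lpe (K1.f55602 IH) (Lpn (LP (LK LD1_c0 LD2_c25 LD3_c57))))))
theorem f9073 : Led Lsl_ct (LP (LK LD1_c0 LD2_c7 LD3_c56)) = (LP (LK LD1_c0 LD2_c3 LD3_c38)) :=
  Lre_c IH (LK LD1_c0 LD2_c7 LD3_c56) (LK LD1_c0 LD2_c3 LD3_c38) Lrfl Lrfl
theorem f9027 : Led Lsl_ct (LP (LK LD1_c0 LD2_c17 LD3_c47)) = (LP (LK LD1_c0 LD2_c7 LD3_c59)) :=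
  Lre_c IH (LK LD1_c0 LD2_c17 LD3_c47) (LK LD1_c0 LD2_c7 LD3_c59) Lrfl Lrfl
theorem f9042 : Led Lsl_gt (LP (LK LD1_c0 LD2_c39 LD3_c39)) = (LP (LK LD1_c0 LD2_c17 LD3_c47)) :=
  Lre_g IH (LK LD1_c0 LD2_c39 LD3_c39) (LK LD1_c0 LD2_c17 LD3_c47) Lrfl Lrfl
theorem f177789 : Led Lsl_ct (LP (LK LD1_c0 LD2_c26 LD3_c9)) = (LP (LK LD1_c0 LD2_c39 LD3_c39)) :=
  Lgr Lrot152 (Lpr_gf (f55615 IH) (Lpe (K1.f55438 IH) (Lpr_gt (f101497 IH) (Lpr_ct (f177779 IH) (Lpr_gt (f55922 IH) (Lpr_ct (f9073 IH) (Lpe (K0.f9026 IH) (Lpe (f9027 IH) (Lpe (f9042 IH) (Lpn (LP (LK LD1_c0 LD2_c39 LD3_c39))))))))))))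
theorem f9074 : Led Lsl_ct (LP (LK LD1_c0 LD2_c7 LD3_c59)) = (LP (LK LD1_c0 LD2_c17 LD3_c47)) :=
  Lre_c IH (LK LD1_c0 LD2_c7 LD3_c59) (LK LD1_c0 LD2_c17 LD3_c47) Lrfl Lrfl
theorem f56066 : Led Lsl_bt (LP (LK LD1_c0 LD2_c26 LD3_c54)) = (LP (LK LD1_c0 LD2_c13 LD3_c13)) :=
  Lgr Lrot119 (Lpr_ef (K1.f56062 IH) (Lpe (K1.f22460 IH) (Lpe (f21218 IH) (Lpn (LP (LK LD1_c0 LD2_c13 LD3_c13))))))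
theorem f9037 : Led Lsl_at (LP (LK LD1_c0 LD2_c13 LD3_c13)) = (LP (LK LD1_c0 LD2_c7 LD3_c59)) :=
  Lre_a IH (LK LD1_c0 LD2_c13 LD3_c13) (LK LD1_c0 LD2_c7 LD3_c59) Lrfl Lrfl
theorem f56321 : Led Lsl_bf (LP (LK LD1_c0 LD2_c11 LD3_c37)) = (LP (LK LD1_c0 LD2_c7 LD3_c59)) :=
  Lgr Lrot81 (Lpe (K1.f55406 IH) (Lpr_bt (f56320 IH) (Lpr_at (K1.f46618 IH) (Lpr_bt (f56066 IH) (Lpr_at (f9037 IH) (Lpn (LP (LK LD1_c0 LD2_c7 LD3_c59))))))))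
theorem f59122 : Led Lsl_ct (LP (LK LD1_c0 LD2_c57 LD3_c30)) = (LP (LK LD1_c0 LD2_c26 LD3_c6)) :=
  Lre_c IH (LK LD1_c0 LD2_c57 LD3_c30) (LK LD1_c0 LD2_c26 LD3_c6) Lrfl Lrfl
theorem f175899 : Led Lsl_et (LP (LK LD1_c1 LD2_c5 LD3_c11)) = (LP (LK LD1_c0 LD2_c57 LD3_c30)) :=
  Lgr Lrot158 (Lpr_cf (f175893 IH) (Lpe (f58972 IH) (Lpe (f59122 IH) (Lpn (LP (LK LD1_c0 LD2_c57 LD3_c30))))))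
theorem f175913 : Led Lsl_ef (LP (LK LD1_c1 LD2_c5 LD3_c11)) = (LP (LK LD1_c0 LD2_c57 LD3_c30)) :=
  Lgr Lrot88 (Lpr_et (f175899 IH) (Lpn (LP (LK LD1_c0 LD2_c57 LD3_c30))))
theorem f68586 : Led Lsl_et (LP (LK LD1_c0 LD2_c13 LD3_c4)) = (LP (LK LD1_c0 LD2_c29 LD3_c47)) :=
  Lre_e IH (LK LD1_c0 LD2_c13 LD3_c4) (LK LD1_c0 LD2_c29 LD3_c47) Lrfl Lrfl
theorem f175916 : Led Lsl_et (LP (LK LD1_c0 LD2_c17 LD3_c47)) = (LP (LK LD1_c0 LD2_c7 LD3_c61)) :=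
  Lre_e IH (LK LD1_c0 LD2_c17 LD3_c47) (LK LD1_c0 LD2_c7 LD3_c61) Lrfl Lrfl
theorem f9041 : Led Lsl_dt (LP (LK LD1_c0 LD2_c17 LD3_c47)) = (LP (LK LD1_c0 LD2_c39 LD3_c41)) :=
  Lre_d IH (LK LD1_c0 LD2_c17 LD3_c47) (LK LD1_c0 LD2_c39 LD3_c41) Lrfl Lrfl
theorem f9044 : Led Lsl_gt (LP (LK LD1_c1 LD2_c25 LD3_c56)) = (LP (LK LD1_c0 LD2_c39 LD3_c41)) :=
  Lre_g IH (LK LD1_c1 LD2_c25 LD3_c56) (LK LD1_c0 LD2_c39 LD3_c41) Lrfl Lrfl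
theorem f175917 : Led Lsl_df (LP (LK LD1_c1 LD2_c25 LD3_c56)) = (LP (LK LD1_c0 LD2_c57 LD3_c30)) :=
  Lgr Lrot170 (Lpr_gt (f9044 IH) (Lpe (f9041 IH) (Lpr_et (f175916 IH) (Lpe (K1.f21175 IH) (Lpe (K4.f58957 IH) (Lpr_gt (K1.f20554 IH) (Lpe (K0.f22827 IH) (Lpr_et (f68586 IH) (Lpr_gt (f23974 IH) (Lpr_ef (f175913 IH) (Lpn (LP (LK LD1_c0 LD2_c57 LD3_c30)))))))))))))
theorem f59951 : Led Lsl_gt (LP (LK LD1_c2 LD2_c16 LD3_c60)) = (LP (LK LD1_c1 LD2_c25 LD3_c56)) :=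
  Lre_g IH (LK LD1_c2 LD2_c16 LD3_c60) (LK LD1_c1 LD2_c25 LD3_c56) Lrfl Lrfl
theorem f9083 : Led Lsl_gt (LP (LK LD1_c0 LD2_c39 LD3_c38)) = (LP (LK LD1_c1 LD2_c5 LD3_c25)) :=
  Lre_g IH (LK LD1_c0 LD2_c39 LD3_c38) (LK LD1_c1 LD2_c5 LD3_c25) Lrfl Lrfl
theorem f174628 : Led Lsl_et (LP (LK LD1_c0 LD2_c16 LD3_c34)) = (LP (LK LD1_c0 LD2_c37 LD3_c13)) :=
  Lre_e IH (LK LD1_c0 LD2_c16 LD3_c34) (LK LD1_c0 LD2_c37 LD3_c13) Lrfl Lrfl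
theorem f175928 : Led Lsl_ef (LP (LK LD1_c0 LD2_c39 LD3_c38)) = (LP (LK LD1_c0 LD2_c54 LD3_c54)) :=
  Lgr Lrot167 (Lpr_gt (f9083 IH) (Lpr_dt (K1.f9065 IH) (Lpr_gt (f59951 IH) (Lpr_df (f175917 IH) (Lpe (f175913 IH) (Lpr_gt (f23958 IH) (Lpe (f174628 IH) (Lpr_dt (f168864 IH) (Lpr_gt (f173364 IH) (Lpe (f173377 IH) (Lpn (LP (LK LD1_c0 LD2_c54 LD3_c54)))))))))))))
theorem f175950 : Led Lsl_et (LP (LK LD1_c0 LD2_c39 LD3_c38)) = (LP (LK LD1_c0 LD2_c54 LD3_c54)) :=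
  Lgr Lrot87 (Lpr_ef (f175928 IH) (Lpn (LP (LK LD1_c0 LD2_c54 LD3_c54))))
theorem f175954 : Led Lsl_cf (LP (LK LD1_c0 LD2_c39 LD3_c38)) = (LP (LK LD1_c0 LD2_c26 LD3_c8)) :=
  Lgr Lrot39 (Lpr_et (f175950 IH) (Lpr_ct (f40793 IH) (Lpe (f56040 IH) (Lpn (LP (LK LD1_c0 LD2_c26 LD3_c8))))))
theorem f9066 : Led Lsl_ct (LP (LK LD1_c0 LD2_c29 LD3_c56)) = (LP (LK LD1_c1 LD2_c5 LD3_c25)) :=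
  Lre_c IH (LK LD1_c0 LD2_c29 LD3_c56) (LK LD1_c1 LD2_c5 LD3_c25) Lrfl Lrfl
theorem f47062 : Led Lsl_gt (LP (LK LD1_c0 LD2_c56 LD3_c40)) = (LP (LK LD1_c0 LD2_c25 LD3_c41)) :=
  Lre_g IH (LK LD1_c0 LD2_c56 LD3_c40) (LK LD1_c0 LD2_c25 LD3_c41) Lrfl Lrfl
theorem f47077 : Led Lsl_gt (LP (LK LD1_c0 LD2_c59 LD3_c5)) = (LP (LK LD1_c0 LD2_c56 LD3_c40)) :=
  Lgr Lrot5 (Lpr_ft (K1.f27859 IH) (Lpr_at (K1.f47070 IH) (Lpe (f47062 IH) (Lpn (LP (LK LD1_c0 LD2_c56 LD3_c40))))))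
theorem f177800 : Led Lsl_bt (LP (LK LD1_c0 LD2_c26 LD3_c9)) = (LP (LK LD1_c0 LD2_c56 LD3_c40)) :=
  Lgr Lrot92 (Lpr_ct (f177789 IH) (Lpr_gt (f9042 IH) (Lpe (f9074 IH) (Lpe (f56321 IH) (Lpr_gt (f8081 IH) (Lpe (f175954 IH) (Lpr_gt (f9083 IH) (Lpe (f9066 IH) (Lpe (K1.f45988 IH) (Lpr_gt (f47077 IH) (Lpn (LP (LK LD1_c0 LD2_c56 LD3_c40)))))))))))))
theorem f20756 : Led Lsl_gt (LP (LK LD1_c1 LD2_c5 LD3_c25)) = (LP (LK LD1_c0 LD2_c39 LD3_c39)) :=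
  Lre_g IH (LK LD1_c1 LD2_c5 LD3_c25) (LK LD1_c0 LD2_c39 LD3_c39) Lrfl Lrfl
theorem f55631 : Led Lsl_ct (LP (LK LD1_c0 LD2_c11 LD3_c31)) = (LP (LK LD1_c0 LD2_c25 LD3_c56)) :=
  Lre_c IH (LK LD1_c0 LD2_c11 LD3_c31) (LK LD1_c0 LD2_c25 LD3_c56) Lrfl Lrfl
theorem f28238 : Led Lsl_gt (LP (LK LD1_c0 LD2_c32 LD3_c25)) = (LP (LK LD1_c0 LD2_c14 LD3_c31)) :=
  Lre_g IH (LK LD1_c0 LD2_c32 LD3_c25) (LK LD1_c0 LD2_c14 LD3_c31) Lrfl Lrfl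
theorem f41074 : Led Lsl_gt (LP (LK LD1_c0 LD2_c54 LD3_c48)) = (LP (LK LD1_c0 LD2_c32 LD3_c25)) :=
  Lgr Lrot5 (Lpr_ft (K1.f41070 IH) (Lpr_at (K1.f41062 IH) (Lpe (f28238 IH) (Lpn (LP (LK LD1_c0 LD2_c32 LD3_c25))))))
theorem f20631 : Led Lsl_ct (LP (LK LD1_c0 LD2_c39 LD3_c25)) = (LP (LK LD1_c0 LD2_c17 LD3_c40)) :=
  Lre_c IH (LK LD1_c0 LD2_c39 LD3_c25) (LK LD1_c0 LD2_c17 LD3_c40) Lrfl Lrfl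
theorem f168824 : Led Lsl_dt (LP (LK LD1_c0 LD2_c32 LD3_c25)) = (LP (LK LD1_c0 LD2_c39 LD3_c25)) :=
  Lgr Lrot105 (Lpe (f41074 IH) (Lpe (K1.f40834 IH) (Lpr_gf (f167835 IH) (Lpe (f20811 IH) (Lpr_gt (f20651 IH) (Lpr_dt (f20650 IH) (Lpr_gt (f20649 IH) (Lpr_dt (f20632 IH) (Lpe (f20631 IH) (Lpn (LP (LK LD1_c0 LD2_c39 LD3_c25))))))))))))
theorem f168878 : Led Lsl_df (LP (LK LD1_c0 LD2_c32 LD3_c25)) = (LP (LK LD1_c0 LD2_c39 LD3_c25)) :=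
  Lgr Lrot38 (Lpr_dt (f168824 IH) (Lpn (LP (LK LD1_c0 LD2_c39 LD3_c25))))
theorem f3103 : Led Lsl_et (LP (LK LD1_c0 LD2_c6 LD3_c40)) = (LP (LK LD1_c0 LD2_c3 LD3_c2)) :=
  Lre_e IH (LK LD1_c0 LD2_c6 LD3_c40) (LK LD1_c0 LD2_c3 LD3_c2) Lrfl Lrfl
theorem f27278 : Led Lsl_df (LP (LK LD1_c0 LD2_c3 LD3_c2)) = (LP (LK LD1_c0 LD2_c5 LD3_c20)) :=
  Lgr Lrot43 (Lpr_ct (K0.f210 IH) (Lpr_dt (K0.f80 IH) (Lpr_ct (K0.f79 IH) (Lpr_dt (K0.f209 IH) (Lpe (K0.f199 IH) (Lpe (K0.f8123 IH) (Lpr_ct (K0.f8064 IH) (Lpr_dt (K0.f8107 IH) (Lpr_ct (K0.f8106 IH) (Lpr_dt (K0.f6788 IH) (Lpq (K0.f7194 IH) (Lpe (K0.f7037 IH) (Lpr_dt (K0.f7039 IH) (Lpe (K0.f9627 IH) (Lpr_dt (K0.f27271 IH) (Lpr_ct (K0.f6959 IH) (Lpn (LP (LK LD1_c0 LD2_c5 LD3_c20)))))))))))))))))))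
theorem f28237 : Led Lsl_et (LP (LK LD1_c0 LD2_c5 LD3_c20)) = (LP (LK LD1_c0 LD2_c11 LD3_c28)) :=
  Lre_e IH (LK LD1_c0 LD2_c5 LD3_c20) (LK LD1_c0 LD2_c11 LD3_c28) Lrfl Lrfl
theorem f168880 : Led Lsl_et (LP (LK LD1_c0 LD2_c39 LD3_c25)) = (LP (LK LD1_c0 LD2_c17 LD3_c38)) :=
  Lre_e IH (LK LD1_c0 LD2_c39 LD3_c25) (LK LD1_c0 LD2_c17 LD3_c38) Lrfl Lrfl
theorem f168994 : Led Lsl_gt (LP (LK LD1_c0 LD2_c11 LD3_c28)) = (LP (LK LD1_c0 LD2_c17 LD3_c38)) :=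
  Lgr Lrot131 (Lpe (f28237 IH) (Lpe (f27278 IH) (Lpe (K0.f3089 IH) (Lpe (K0.f21278 IH) (Lpr_gf (K0.f28221 IH) (Lpe (f3103 IH) (Lpr_dt (K1.f3104 IH) (Lpe (f28238 IH) (Lpr_df (f168878 IH) (Lpr_et (f168880 IH) (Lpn (LP (LK LD1_c0 LD2_c17 LD3_c38)))))))))))))
theorem f168996 : Led Lsl_gf (LP (LK LD1_c0 LD2_c26 LD3_c3)) = (LP (LK LD1_c0 LD2_c17 LD3_c38)) :=
  Lgr Lrot76 (Lpe (K1.f55419 IH) (Lpe (K1.f55418 IH) (Lpr_gt (f168994 IH) (Lpn (LP (LK LD1_c0 LD2_c17 LD3_c38))))))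
theorem f55390 : Led Lsl_ct (LP (LK LD1_c0 LD2_c57 LD3_c35)) = (LP (LK LD1_c0 LD2_c26 LD3_c11)) :=
  Lre_c IH (LK LD1_c0 LD2_c57 LD3_c35) (LK LD1_c0 LD2_c26 LD3_c11) Lrfl Lrfl
theorem f20758 : Led Lsl_ct (LP (LK LD1_c0 LD2_c7 LD3_c57)) = (LP (LK LD1_c0 LD2_c17 LD3_c38)) :=
  Lre_c IH (LK LD1_c0 LD2_c7 LD3_c57) (LK LD1_c0 LD2_c17 LD3_c38) Lrfl Lrfl
theorem f20589 : Led Lsl_ct (LP (LK LD1_c0 LD2_c17 LD3_c45)) = (LP (LK LD1_c0 LD2_c39 LD3_c34)) :=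
  Lre_c IH (LK LD1_c0 LD2_c17 LD3_c45) (LK LD1_c0 LD2_c39 LD3_c34) Lrfl Lrfl
theorem f169084 : Led Lsl_gf (LP (LK LD1_c0 LD2_c57 LD3_c35)) = (LP (LK LD1_c0 LD2_c39 LD3_c34)) :=
  Lgr Lrot104 (Lpr_ct (f55390 IH) (Lpe (K2.f47925 IH) (Lpe (K2.f47920 IH) (Lpr_gf (f168996 IH) (Lpe (f20758 IH) (Lpe (f20625 IH) (Lpe (K0.f9026 IH) (Lpr_gt (K0.f6885 IH) (Lpr_ct (f20589 IH) (Lpn (LP (LK LD1_c0 LD2_c39 LD3_c34))))))))))))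
theorem f55598 : Led Lsl_af (LP (LK LD1_c0 LD2_c57 LD3_c35)) = (LP (LK LD1_c0 LD2_c57 LD3_c8)) :=
  Lgr Lrot68 (Lpr_ct (f55390 IH) (Lpr_at (K1.f55591 IH) (Lpr_ct (K1.f55439 IH) (Lpn (LP (LK LD1_c0 LD2_c57 LD3_c8))))))
theorem f60832 : Led Lsl_ft (LP (LK LD1_c0 LD2_c25 LD3_c56)) = (LP (LK LD1_c0 LD2_c57 LD3_c8)) :=
  Lre_f IH (LK LD1_c0 LD2_c25 LD3_c56) (LK LD1_c0 LD2_c57 LD3_c8) Lrfl Lrfl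
theorem f169087 : Led Lsl_gt (LP (LK LD1_c0 LD2_c25 LD3_c56)) = (LP (LK LD1_c0 LD2_c39 LD3_c34)) :=
  Lgr Lrot5 (Lpr_ft (f60832 IH) (Lpe (f55598 IH) (Lpr_gf (f169084 IH) (Lpn (LP (LK LD1_c0 LD2_c39 LD3_c34))))))
theorem f177809 : Led Lsl_bf (LP (LK LD1_c0 LD2_c17 LD3_c45)) = (LP (LK LD1_c0 LD2_c17 LD3_c45)) :=
  Lgr Lrot165 (Lpr_gt (K0.f9082 IH) (Lpr_ct (f9066 IH) (Lpr_gt (f20756 IH) (Lpe (f177789 IH) (Lpr_bt (f177800 IH) (Lpr_gt (f47062 IH) (Lpe (f56320 IH) (Lpr_ct (f55631 IH) (Lpr_gt (f169087 IH) (Lpe (f20589 IH) (Lpn (LP (LK LD1_c0 LD2_c17 LD3_c45)))))))))))))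
theorem f55913 : Led Lsl_bt (LP (LK LD1_c0 LD2_c11 LD3_c37)) = (LP (LK LD1_c0 LD2_c7 LD3_c59)) :=
  Lgr Lrot95 (Lpe (K1.f8080 IH) (Lpr_bf (K1.f55619 IH) (Lpe (K0.f9026 IH) (Lpn (LP (LK LD1_c0 LD2_c7 LD3_c59))))))
theorem f55933 : Led Lsl_bt (LP (LK LD1_c0 LD2_c26 LD3_c11)) = (LP (LK LD1_c0 LD2_c17 LD3_c48)) :=
  Lgr Lrot127 (Lpr_bf (K1.f55928 IH) (Lpn (LP (LK LD1_c0 LD2_c17 LD3_c48))))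
theorem f8382 : Led Lsl_ct (LP (LK LD1_c0 LD2_c16 LD3_c12)) = (LP (LK LD1_c0 LD2_c36 LD3_c24)) :=
  Lre_c IH (LK LD1_c0 LD2_c16 LD3_c12) (LK LD1_c0 LD2_c36 LD3_c24) Lrfl Lrfl
theorem f177817 : Led Lsl_gf (LP (LK LD1_c0 LD2_c26 LD3_c10)) = (LP (LK LD1_c0 LD2_c36 LD3_c24)) :=
  Lgr Lrot129 (Lpe (K1.f55430 IH) (Lpr_bt (f55913 IH) (Lpr_gt (K0.f6885 IH) (Lpr_bf (f177809 IH) (Lpr_ct (f20589 IH) (Lpe (f169084 IH) (Lpe (K1.f55624 IH) (Lpr_bt (f55933 IH) (Lpe (K0.f8380 IH) (Lpr_ct (f8382 IH) (Lpn (LP (LK LD1_c0 LD2_c36 LD3_c24)))))))))))))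
theorem f177826 : Led Lsl_bf (LP (LK LD1_c0 LD2_c16 LD3_c12)) = (LP (LK LD1_c0 LD2_c16 LD3_c12)) :=
  Lgr Lrot34 (Lpr_gf (K0.f8380 IH) (Lpe (f55933 IH) (Lpr_ct (K1.f55624 IH) (Lpr_gf (f169084 IH) (Lpe (f20589 IH) (Lpe (K0.f6885 IH) (Lpe (f55913 IH) (Lpr_ct (K1.f55430 IH) (Lpr_gf (f177817 IH) (Lpe (f8382 IH) (Lpn (LP (LK LD1_c0 LD2_c16 LD3_c12)))))))))))))
theorem f21265 : Led Lsl_et (LP (LK LD1_c0 LD2_c16 LD3_c12)) = (LP (LK LD1_c0 LD2_c36 LD3_c23)) :=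
  Lre_e IH (LK LD1_c0 LD2_c16 LD3_c12) (LK LD1_c0 LD2_c36 LD3_c23) Lrfl Lrfl
theorem f177834 : Led Lsl_bt (LP (LK LD1_c0 LD2_c36 LD3_c23)) = (LP (LK LD1_c0 LD2_c36 LD3_c23)) :=
  Lgr Lrot119 (Lpe (f21265 IH) (Lpr_bf (f177826 IH) (Lpe (f8410 IH) (Lpn (LP (LK LD1_c0 LD2_c36 LD3_c23))))))
theorem f177836 : Led Lsl_bf (LP (LK LD1_c0 LD2_c16 LD3_c10)) = (LP (LK LD1_c0 LD2_c16 LD3_c10)) :=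
  Lgr Lrot93 (Lpr_dt (f24247 IH) (Lpr_bt (f177834 IH) (Lpr_dt (f8411 IH) (Lpn (LP (LK LD1_c0 LD2_c16 LD3_c10))))))
theorem f24443 : Led Lsl_et (LP (LK LD1_c0 LD2_c7 LD3_c15)) = (LP (LK LD1_c0 LD2_c16 LD3_c10)) :=
  Lre_e IH (LK LD1_c0 LD2_c7 LD3_c15) (LK LD1_c0 LD2_c16 LD3_c10) Lrfl Lrfl
theorem f177840 : Led Lsl_bt (LP (LK LD1_c0 LD2_c7 LD3_c15)) = (LP (LK LD1_c0 LD2_c7 LD3_c15)) :=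
  Lgr Lrot119 (Lpe (f164306 IH) (Lpr_bf (f177836 IH) (Lpe (f24443 IH) (Lpn (LP (LK LD1_c0 LD2_c7 LD3_c15))))))
theorem f177845 : Led Lsl_bf (LP (LK LD1_c0 LD2_c3 LD3_c16)) = (LP (LK LD1_c0 LD2_c3 LD3_c16)) :=
  Lgr Lrot93 (Lpr_dt (K0.f3071 IH) (Lpr_bt (f177840 IH) (Lpr_dt (f24442 IH) (Lpn (LP (LK LD1_c0 LD2_c3 LD3_c16))))))
theorem f168172 : Led Lsl_bt (LP (LK LD1_c0 LD2_c6 LD3_c42)) = (LP (LK LD1_c0 LD2_c14 LD3_c36)) :=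
  Lre_b IH (LK LD1_c0 LD2_c6 LD3_c42) (LK LD1_c0 LD2_c14 LD3_c36) Lrfl Lrfl
theorem f40776 : Led Lsl_bt (LP (LK LD1_c0 LD2_c1 LD3_c21)) = (LP (LK LD1_c0 LD2_c3 LD3_c3)) :=
  Lre_b IH (LK LD1_c0 LD2_c1 LD3_c21) (LK LD1_c0 LD2_c3 LD3_c3) Lrfl Lrfl
theorem f7879 : Led Lsl_ct (LP (LK LD1_c0 LD2_c1 LD3_c21)) = (LP (LK LD1_c0 LD2_c3 LD3_c15)) :=
  Lre_c IH (LK LD1_c0 LD2_c1 LD3_c21) (LK LD1_c0 LD2_c3 LD3_c15) Lrfl Lrfl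
theorem f168185 : Led Lsl_gt (LP (LK LD1_c0 LD2_c7 LD3_c11)) = (LP (LK LD1_c0 LD2_c3 LD3_c15)) :=
  Lre_g IH (LK LD1_c0 LD2_c7 LD3_c11) (LK LD1_c0 LD2_c3 LD3_c15) Lrfl Lrfl
theorem f9468 : Led Lsl_bt (LP (LK LD1_c0 LD2_c5 LD3_c51)) = (LP (LK LD1_c0 LD2_c12 LD3_c27)) :=
  Lre_b IH (LK LD1_c0 LD2_c5 LD3_c51) (LK LD1_c0 LD2_c12 LD3_c27) Lrfl Lrfl
theorem f174984 : Led Lsl_gf (LP (LK LD1_c0 LD2_c14 LD3_c36)) = (LP (LK LD1_c0 LD2_c12 LD3_c27)) :=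
  Lgr Lrot124 (Lpe (f168172 IH) (Lpr_ct (f168177 IH) (Lpr_gt (f168185 IH) (Lpe (f7879 IH) (Lpr_bt (f40776 IH) (Lpr_gt (f7029 IH) (Lpr_ct (f174961 IH) (Lpr_gt (f8439 IH) (Lpe (f9472 IH) (Lpr_bt (f9468 IH) (Lpn (LP (LK LD1_c0 LD2_c12 LD3_c27)))))))))))))
theorem f43088 : Led Lsl_ft (LP (LK LD1_c0 LD2_c12 LD3_c27)) = (LP (LK LD1_c0 LD2_c5 LD3_c41)) :=
  Lre_f IH (LK LD1_c0 LD2_c12 LD3_c27) (LK LD1_c0 LD2_c5 LD3_c41) Lrfl Lrfl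
theorem f39184 : Led Lsl_ft (LP (LK LD1_c0 LD2_c5 LD3_c41)) = (LP (LK LD1_c0 LD2_c12 LD3_c27)) :=
  Lre_f IH (LK LD1_c0 LD2_c5 LD3_c41) (LK LD1_c0 LD2_c12 LD3_c27) Lrfl Lrfl
theorem f39185 : Led Lsl_af (LP (LK LD1_c0 LD2_c24 LD3_c36)) = (LP (LK LD1_c0 LD2_c12 LD3_c27)) :=
  Lgr Lrot109 (Lpe (K1.f39176 IH) (Lpe (K1.f39005 IH) (Lpe (K1.f38987 IH) (Lpr_df (K1.f39171 IH) (Lpe (K1.f39004 IH) (Lpe (K1.f29616 IH) (Lpe (K1.f29621 IH) (Lpe (K1.f28949 IH) (Lpr_ft (f39184 IH) (Lpn (LP (LK LD1_c0 LD2_c12 LD3_c27))))))))))))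
theorem f9467 : Led Lsl_bt (LP (LK LD1_c0 LD2_c12 LD3_c27)) = (LP (LK LD1_c0 LD2_c5 LD3_c51)) :=
  Lre_b IH (LK LD1_c0 LD2_c12 LD3_c27) (LK LD1_c0 LD2_c5 LD3_c51) Lrfl Lrfl
theorem f9469 : Led Lsl_ef (LP (LK LD1_c0 LD2_c12 LD3_c27)) = (LP (LK LD1_c0 LD2_c12 LD3_c27)) :=
  Lgr Lrot29 (Lpr_bt (f9467 IH) (Lpr_et (K0.f9445 IH) (Lpr_bt (f9468 IH) (Lpn (LP (LK LD1_c0 LD2_c12 LD3_c27))))))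
theorem f43083 : Led Lsl_af (LP (LK LD1_c0 LD2_c12 LD3_c27)) = (LP (LK LD1_c0 LD2_c24 LD3_c36)) :=
  Lgr Lrot50 (Lpe (f9469 IH) (Lpe (f39185 IH) (Lpr_et (f42904 IH) (Lpn (LP (LK LD1_c0 LD2_c24 LD3_c36))))))
theorem f43085 : Led Lsl_ft (LP (LK LD1_c0 LD2_c10 LD3_c57)) = (LP (LK LD1_c0 LD2_c24 LD3_c36)) :=
  Lre_f IH (LK LD1_c0 LD2_c10 LD3_c57) (LK LD1_c0 LD2_c24 LD3_c36) Lrfl Lrfl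
theorem f43089 : Led Lsl_at (LP (LK LD1_c0 LD2_c5 LD3_c41)) = (LP (LK LD1_c0 LD2_c10 LD3_c57)) :=
  Lgr Lrot66 (Lpe (f43088 IH) (Lpr_af (f43083 IH) (Lpe (f43085 IH) (Lpn (LP (LK LD1_c0 LD2_c10 LD3_c57))))))
theorem f174986 : Led Lsl_gt (LP (LK LD1_c0 LD2_c14 LD3_c36)) = (LP (LK LD1_c0 LD2_c10 LD3_c57)) :=
  Lgr Lrot46 (Lpr_gf (f174984 IH) (Lpr_ft (f43088 IH) (Lpr_at (f43089 IH) (Lpn (LP (LK LD1_c0 LD2_c10 LD3_c57))))))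
theorem f177847 : Led Lsl_ct (LP (LK LD1_c0 LD2_c3 LD3_c16)) = (LP (LK LD1_c0 LD2_c7 LD3_c14)) :=
  Lre_c IH (LK LD1_c0 LD2_c3 LD3_c16) (LK LD1_c0 LD2_c7 LD3_c14) Lrfl Lrfl
theorem f177856 : Led Lsl_gt (LP (LK LD1_c0 LD2_c10 LD3_c61)) = (LP (LK LD1_c0 LD2_c7 LD3_c14)) :=
  Lgr Lrot65 (Lpe (K1.f28390 IH) (Lpr_bt (f40775 IH) (Lpe (f174986 IH) (Lpe (f168172 IH) (Lpr_ct (f168177 IH) (Lpe (f43097 IH) (Lpe (f9472 IH) (Lpe (K0.f9481 IH) (Lpr_bf (f177845 IH) (Lpr_ct (f177847 IH) (Lpn (LP (LK LD1_c0 LD2_c7 LD3_c14)))))))))))))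
theorem f8111 : Led Lsl_et (LP (LK LD1_c0 LD2_c11 LD3_c34)) = (LP (LK LD1_c0 LD2_c5 LD3_c22)) :=
  Lre_e IH (LK LD1_c0 LD2_c11 LD3_c34) (LK LD1_c0 LD2_c5 LD3_c22) Lrfl Lrfl
theorem f177876 : Led Lsl_et (LP (LK LD1_c0 LD2_c16 LD3_c6)) = (LP (LK LD1_c0 LD2_c7 LD3_c14)) :=
  Lre_e IH (LK LD1_c0 LD2_c16 LD3_c6) (LK LD1_c0 LD2_c7 LD3_c14) Lrfl Lrfl
theorem f7947 : Led Lsl_dt (LP (LK LD1_c0 LD2_c16 LD3_c6)) = (LP (LK LD1_c0 LD2_c36 LD3_c11)) :=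
  Lre_d IH (LK LD1_c0 LD2_c16 LD3_c6) (LK LD1_c0 LD2_c36 LD3_c11) Lrfl Lrfl
theorem f178181 : Led Lsl_gf (LP (LK LD1_c0 LD2_c26 LD3_c2)) = (LP (LK LD1_c0 LD2_c36 LD3_c11)) :=
  Lgr Lrot145 (Lpe (K1.f8112 IH) (Lpr_et (f8111 IH) (Lpe (K0.f8065 IH) (Lpr_dt (K0.f1664 IH) (Lpr_gt (K0.f8104 IH) (Lpr_df (f8116 IH) (Lpr_et (K1.f8119 IH) (Lpr_gt (f177856 IH) (Lpe (f177876 IH) (Lpr_dt (f7947 IH) (Lpn (LP (LK LD1_c0 LD2_c36 LD3_c11)))))))))))))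
theorem f40825 : Led Lsl_dt (LP (LK LD1_c0 LD2_c24 LD3_c47)) = (LP (LK LD1_c0 LD2_c26 LD3_c9)) :=
  Lre_d IH (LK LD1_c0 LD2_c24 LD3_c47) (LK LD1_c0 LD2_c26 LD3_c9) Lrfl Lrfl
theorem f53164 : Led Lsl_et (LP (LK LD1_c0 LD2_c11 LD3_c0)) = (LP (LK LD1_c0 LD2_c24 LD3_c47)) :=
  Lre_e IH (LK LD1_c0 LD2_c11 LD3_c0) (LK LD1_c0 LD2_c24 LD3_c47) Lrfl Lrfl
theorem f51597 : Led Lsl_dt (LP (LK LD1_c0 LD2_c11 LD3_c49)) = (LP (LK LD1_c0 LD2_c5 LD3_c26)) :=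
  Lre_d IH (LK LD1_c0 LD2_c11 LD3_c49) (LK LD1_c0 LD2_c5 LD3_c26) Lrfl Lrfl
theorem f51604 : Led Lsl_et (LP (LK LD1_c0 LD2_c11 LD3_c49)) = (LP (LK LD1_c0 LD2_c26 LD3_c40)) :=
  Lre_e IH (LK LD1_c0 LD2_c11 LD3_c49) (LK LD1_c0 LD2_c26 LD3_c40) Lrfl Lrfl
theorem f53165 : Led Lsl_gf (LP (LK LD1_c0 LD2_c24 LD3_c47)) = (LP (LK LD1_c0 LD2_c26 LD3_c40)) :=
  Lgr Lrot141 (Lpe (f53164 IH) (Lpr_dt (f40818 IH) (Lpr_gt (f40819 IH) (Lpe (f51589 IH) (Lpr_et (f51588 IH) (Lpr_gt (f51573 IH) (Lpr_dt (f51553 IH) (Lpr_gt (f6757 IH) (Lpe (f51597 IH) (Lpr_et (f51604 IH) (Lpn (LP (LK LD1_c0 LD2_c26 LD3_c40)))))))))))))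
theorem f178243 : Led Lsl_gt (LP (LK LD1_c0 LD2_c36 LD3_c10)) = (LP (LK LD1_c0 LD2_c16 LD3_c6)) :=
  Lre_g IH (LK LD1_c0 LD2_c36 LD3_c10) (LK LD1_c0 LD2_c16 LD3_c6) Lrfl Lrfl
theorem f178246 : Led Lsl_cf (LP (LK LD1_c0 LD2_c26 LD3_c40)) = (LP (LK LD1_c0 LD2_c36 LD3_c10)) :=
  Lgr Lrot166 (Lpe (f53165 IH) (Lpr_dt (f40825 IH) (Lpr_gt (f53167 IH) (Lpr_dt (K1.f53168 IH) (Lpr_ct (K1.f21294 IH) (Lpe (K1.f8118 IH) (Lpr_gf (f178181 IH) (Lpe (f7947 IH) (Lpe (f178243 IH) (Lpn (LP (LK LD1_c0 LD2_c36 LD3_c10))))))))))))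
theorem f53323 : Led Lsl_et (LP (LK LD1_c0 LD2_c26 LD3_c40)) = (LP (LK LD1_c0 LD2_c11 LD3_c49)) :=
  Lre_e IH (LK LD1_c0 LD2_c26 LD3_c40) (LK LD1_c0 LD2_c11 LD3_c49) Lrfl Lrfl
theorem f53156 : Led Lsl_ct (LP (LK LD1_c0 LD2_c11 LD3_c49)) = (LP (LK LD1_c0 LD2_c26 LD3_c39)) :=
  Lre_c IH (LK LD1_c0 LD2_c11 LD3_c49) (LK LD1_c0 LD2_c26 LD3_c39) Lrfl Lrfl
theorem f178259 : Led Lsl_et (LP (LK LD1_c0 LD2_c26 LD3_c39)) = (LP (LK LD1_c0 LD2_c36 LD3_c10)) :=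
  Lgr Lrot158 (Lpe (f53156 IH) (Lpe (f53323 IH) (Lpr_cf (f178246 IH) (Lpn (LP (LK LD1_c0 LD2_c36 LD3_c10))))))
theorem f1671 : Led Lsl_et (LP (LK LD1_c0 LD2_c6 LD3_c32)) = (LP (LK LD1_c0 LD2_c2 LD3_c60)) :=
  Lre_e IH (LK LD1_c0 LD2_c6 LD3_c32) (LK LD1_c0 LD2_c2 LD3_c60) Lrfl Lrfl
theorem f178270 : Led Lsl_dt (LP (LK LD1_c0 LD2_c26 LD3_c39)) = (LP (LK LD1_c0 LD2_c31 LD3_c53)) :=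
  Lgr Lrot37 (Lpr_et (f178259 IH) (Lpr_gt (f178243 IH) (Lpr_dt (f7947 IH) (Lpe (f178181 IH) (Lpe (K1.f8112 IH) (Lpr_et (f8111 IH) (Lpe (K0.f8065 IH) (Lpe (f1671 IH) (Lpr_dt (K0.f2225 IH) (Lpr_gt (f2864 IH) (Lpn (LP (LK LD1_c0 LD2_c31 LD3_c53)))))))))))))
theorem f178278 : Led Lsl_gf (LP (LK LD1_c0 LD2_c26 LD3_c39)) = (LP (LK LD1_c0 LD2_c16 LD3_c19)) :=
  Lgr Lrot144 (Lpr_dt (f178270 IH) (Lpe (f2865 IH) (Lpr_dt (K0.f282 IH) (Lpe (K0.f278 IH) (Lpr_df (K0.f259 IH) (Lpr_gf (f3058 IH) (Lpe (K0.f3060 IH) (Lpr_gf (f165218 IH) (Lpe (f165220 IH) (Lpn (LP (LK LD1_c0 LD2_c16 LD3_c19))))))))))))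
theorem f170083 : Led Lsl_et (LP (LK LD1_c0 LD2_c7 LD3_c18)) = (LP (LK LD1_c0 LD2_c16 LD3_c19)) :=
  Lre_e IH (LK LD1_c0 LD2_c7 LD3_c18) (LK LD1_c0 LD2_c16 LD3_c19) Lrfl Lrfl
theorem f170084 : Led Lsl_dt (LP (LK LD1_c0 LD2_c7 LD3_c18)) = (LP (LK LD1_c0 LD2_c16 LD3_c18)) :=
  Lre_d IH (LK LD1_c0 LD2_c7 LD3_c18) (LK LD1_c0 LD2_c16 LD3_c18) Lrfl Lrfl
theorem f43100 : Led Lsl_bt (LP (LK LD1_c0 LD2_c3 LD3_c3)) = (LP (LK LD1_c0 LD2_c1 LD3_c21)) :=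
  Lre_b IH (LK LD1_c0 LD2_c3 LD3_c3) (LK LD1_c0 LD2_c1 LD3_c21) Lrfl Lrfl
theorem f174915 : Led Lsl_ct (LP (LK LD1_c0 LD2_c5 LD3_c49)) = (LP (LK LD1_c0 LD2_c12 LD3_c46)) :=
  Lre_c IH (LK LD1_c0 LD2_c5 LD3_c49) (LK LD1_c0 LD2_c12 LD3_c46) Lrfl Lrfl
theorem f174916 : Led Lsl_gf (LP (LK LD1_c0 LD2_c6 LD3_c40)) = (LP (LK LD1_c0 LD2_c12 LD3_c46)) :=
  Lgr Lrot104 (Lpr_ct (K1.f40780 IH) (Lpe (K1.f40783 IH) (Lpe (K1.f40854 IH) (Lpr_gf (f174886 IH) (Lpe (f20629 IH) (Lpe (f20649 IH) (Lpe (f20650 IH) (Lpr_gt (K0.f20232 IH) (Lpr_ct (f174915 IH) (Lpn (LP (LK LD1_c0 LD2_c12 LD3_c46))))))))))))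
theorem f40811 : Led Lsl_bt (LP (LK LD1_c0 LD2_c6 LD3_c44)) = (LP (LK LD1_c0 LD2_c3 LD3_c19)) :=
  Lre_b IH (LK LD1_c0 LD2_c6 LD3_c44) (LK LD1_c0 LD2_c3 LD3_c19) Lrfl Lrfl
theorem f177858 : Led Lsl_gf (LP (LK LD1_c0 LD2_c14 LD3_c32)) = (LP (LK LD1_c0 LD2_c7 LD3_c14)) :=
  Lgr Lrot126 (Lpe (K1.f40794 IH) (Lpr_bt (f40811 IH) (Lpr_gt (K0.f20232 IH) (Lpr_ct (f174915 IH) (Lpe (f174916 IH) (Lpe (K1.f40853 IH) (Lpr_bt (f43100 IH) (Lpr_gt (K0.f7880 IH) (Lpr_bf (f177845 IH) (Lpr_ct (f177847 IH) (Lpn (LP (LK LD1_c0 LD2_c7 LD3_c14)))))))))))))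
theorem f165019 : Led Lsl_dt (LP (LK LD1_c0 LD2_c12 LD3_c39)) = (LP (LK LD1_c0 LD2_c28 LD3_c39)) :=
  Lre_d IH (LK LD1_c0 LD2_c12 LD3_c39) (LK LD1_c0 LD2_c28 LD3_c39) Lrfl Lrfl
theorem f172320 : Led Lsl_dt (LP (LK LD1_c0 LD2_c16 LD3_c5)) = (LP (LK LD1_c0 LD2_c7 LD3_c14)) :=
  Lre_d IH (LK LD1_c0 LD2_c16 LD3_c5) (LK LD1_c0 LD2_c7 LD3_c14) Lrfl Lrfl
theorem f177865 : Led Lsl_gt (LP (LK LD1_c0 LD2_c16 LD3_c5)) = (LP (LK LD1_c0 LD2_c36 LD3_c6)) :=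
  Lre_g IH (LK LD1_c0 LD2_c16 LD3_c5) (LK LD1_c0 LD2_c36 LD3_c6) Lrfl Lrfl
theorem f177866 : Led Lsl_ct (LP (LK LD1_c0 LD2_c36 LD3_c6)) = (LP (LK LD1_c1 LD2_c18 LD3_c23)) :=
  Lre_c IH (LK LD1_c0 LD2_c36 LD3_c6) (LK LD1_c1 LD2_c18 LD3_c23) Lrfl Lrfl
theorem f177867 : Led Lsl_gf (LP (LK LD1_c1 LD2_c2 LD3_c52)) = (LP (LK LD1_c1 LD2_c18 LD3_c23)) :=
  Lgr Lrot104 (Lpr_ct (f167779 IH) (Lpe (f165019 IH) (Lpe (f167771 IH) (Lpr_gf (f40789 IH) (Lpe (f40750 IH) (Lpr_gf (f177858 IH) (Lpe (f172320 IH) (Lpr_gt (f177865 IH) (Lpr_ct (f177866 IH) (Lpn (LP (LK LD1_c1 LD2_c18 LD3_c23))))))))))))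
theorem f167777 : Led Lsl_dt (LP (LK LD1_c1 LD2_c2 LD3_c52)) = (LP (LK LD1_c2 LD2_c11 LD3_c44)) :=
  Lre_d IH (LK LD1_c1 LD2_c2 LD3_c52) (LK LD1_c2 LD2_c11 LD3_c44) Lrfl Lrfl
theorem f165206 : Led Lsl_dt (LP (LK LD1_c0 LD2_c16 LD3_c18)) = (LP (LK LD1_c0 LD2_c7 LD3_c18)) :=
  Lre_d IH (LK LD1_c0 LD2_c16 LD3_c18) (LK LD1_c0 LD2_c7 LD3_c18) Lrfl Lrfl
theorem f177920 : Led Lsl_gf (LP (LK LD1_c0 LD2_c16 LD3_c18)) = (LP (LK LD1_c0 LD2_c36 LD3_c6)) :=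
  Lgr Lrot144 (Lpr_dt (f165206 IH) (Lpr_gt (f171200 IH) (Lpr_dt (K1.f8120 IH) (Lpe (K1.f40734 IH) (Lpe (K1.f40735 IH) (Lpe (f174642 IH) (Lpe (f167777 IH) (Lpr_gf (f177867 IH) (Lpe (f177866 IH) (Lpn (LP (LK LD1_c0 LD2_c36 LD3_c6))))))))))))
theorem f51585 : Led Lsl_ct (LP (LK LD1_c0 LD2_c11 LD3_c51)) = (LP (LK LD1_c0 LD2_c5 LD3_c27)) :=
  Lre_c IH (LK LD1_c0 LD2_c11 LD3_c51) (LK LD1_c0 LD2_c5 LD3_c27) Lrfl Lrfl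
theorem f167236 : Led Lsl_gf (LP (LK LD1_c0 LD2_c11 LD3_c51)) = (LP (LK LD1_c0 LD2_c13 LD3_c61)) :=
  Lgr Lrot147 (Lpr_ct (f51585 IH) (Lpr_gt (f51573 IH) (Lpr_ct (f51552 IH) (Lpe (f517 IH) (Lpe (f505 IH) (Lpe (f1401 IH) (Lpr_cf (f167044 IH) (Lpe (f2214 IH) (Lpe (K0.f279 IH) (Lpn (LP (LK LD1_c0 LD2_c13 LD3_c61))))))))))))
theorem f178284 : Led Lsl_et (LP (LK LD1_c0 LD2_c26 LD3_c46)) = (LP (LK LD1_c0 LD2_c11 LD3_c51)) :=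
  Lre_e IH (LK LD1_c0 LD2_c26 LD3_c46) (LK LD1_c0 LD2_c11 LD3_c51) Lrfl Lrfl
theorem f178285 : Led Lsl_df (LP (LK LD1_c0 LD2_c36 LD3_c6)) = (LP (LK LD1_c0 LD2_c26 LD3_c46)) :=
  Lgr Lrot170 (Lpe (f177920 IH) (Lpe (f170084 IH) (Lpr_et (f170083 IH) (Lpe (f178278 IH) (Lpr_dt (f178270 IH) (Lpe (f2865 IH) (Lpe (K0.f279 IH) (Lpe (K0.f1517 IH) (Lpe (f167236 IH) (Lpe (f178284 IH) (Lpn (LP (LK LD1_c0 LD2_c26 LD3_c46)))))))))))))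
theorem f20807 : Led Lsl_ct (LP (LK LD1_c0 LD2_c17 LD3_c40)) = (LP (LK LD1_c0 LD2_c39 LD3_c25)) :=
  Lre_c IH (LK LD1_c0 LD2_c17 LD3_c40) (LK LD1_c0 LD2_c39 LD3_c25) Lrfl Lrfl
theorem f178297 : Led Lsl_gt (LP (LK LD1_c0 LD2_c39 LD3_c25)) = (LP (LK LD1_c0 LD2_c26 LD3_c46)) :=
  Lgr Lrot94 (Lpe (f20807 IH) (Lpe (f177160 IH) (Lpr_dt (K0.f3069 IH) (Lpr_gt (f165200 IH) (Lpr_dt (f8337 IH) (Lpe (f165205 IH) (Lpe (f165206 IH) (Lpr_gf (f177920 IH) (Lpr_df (f178285 IH) (Lpn (LP (LK LD1_c0 LD2_c26 LD3_c46))))))))))))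
theorem f168188 : Led Lsl_dt (LP (LK LD1_c0 LD2_c16 LD3_c0)) = (LP (LK LD1_c0 LD2_c35 LD3_c53)) :=
  Lre_d IH (LK LD1_c0 LD2_c16 LD3_c0) (LK LD1_c0 LD2_c35 LD3_c53) Lrfl Lrfl
theorem f165141 : Led Lsl_ct (LP (LK LD1_c0 LD2_c26 LD3_c46)) = (LP (LK LD1_c0 LD2_c11 LD3_c53)) :=
  Lre_c IH (LK LD1_c0 LD2_c26 LD3_c46) (LK LD1_c0 LD2_c11 LD3_c53) Lrfl Lrfl
theorem f53314 : Led Lsl_gt (LP (LK LD1_c0 LD2_c11 LD3_c53)) = (LP (LK LD1_c0 LD2_c26 LD3_c48)) :=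
  Lre_g IH (LK LD1_c0 LD2_c11 LD3_c53) (LK LD1_c0 LD2_c26 LD3_c48) Lrfl Lrfl
theorem f178455 : Led Lsl_cf (LP (LK LD1_c0 LD2_c35 LD3_c53)) = (LP (LK LD1_c0 LD2_c26 LD3_c48)) :=
  Lgr Lrot99 (Lpe (f168188 IH) (Lpe (f172860 IH) (Lpe (f172861 IH) (Lpe (K1.f40842 IH) (Lpe (f28238 IH) (Lpr_df (f168878 IH) (Lpr_gt (f178297 IH) (Lpr_ct (f165141 IH) (Lpr_gt (f53314 IH) (Lpn (LP (LK LD1_c0 LD2_c26 LD3_c48))))))))))))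
theorem f168186 : Led Lsl_dt (LP (LK LD1_c0 LD2_c3 LD3_c15)) = (LP (LK LD1_c0 LD2_c7 LD3_c12)) :=
  Lre_d IH (LK LD1_c0 LD2_c3 LD3_c15) (LK LD1_c0 LD2_c7 LD3_c12) Lrfl Lrfl
theorem f178469 : Led Lsl_dt (LP (LK LD1_c0 LD2_c14 LD3_c39)) = (LP (LK LD1_c0 LD2_c26 LD3_c48)) :=
  Lgr Lrot105 (Lpe (f53310 IH) (Lpe (K1.f40992 IH) (Lpe (f7022 IH) (Lpr_cf (f168096 IH) (Lpr_gt (f168185 IH) (Lpr_dt (f168186 IH) (Lpr_gt (f168187 IH) (Lpr_dt (f168188 IH) (Lpr_cf (f178455 IH) (Lpn (LP (LK LD1_c0 LD2_c26 LD3_c48))))))))))))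
theorem f178473 : Led Lsl_df (LP (LK LD1_c0 LD2_c14 LD3_c39)) = (LP (LK LD1_c0 LD2_c26 LD3_c48)) :=
  Lgr Lrot38 (Lpr_dt (f178469 IH) (Lpn (LP (LK LD1_c0 LD2_c26 LD3_c48))))
theorem f53309 : Led Lsl_et (LP (LK LD1_c0 LD2_c3 LD3_c3)) = (LP (LK LD1_c0 LD2_c1 LD3_c16)) :=
  Lre_e IH (LK LD1_c0 LD2_c3 LD3_c3) (LK LD1_c0 LD2_c1 LD3_c16) Lrfl Lrfl
theorem f53204 : Led Lsl_gt (LP (LK LD1_c0 LD2_c26 LD3_c41)) = (LP (LK LD1_c0 LD2_c11 LD3_c50)) :=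
  Lre_g IH (LK LD1_c0 LD2_c26 LD3_c41) (LK LD1_c0 LD2_c11 LD3_c50) Lrfl Lrfl
theorem f178477 : Led Lsl_ef (LP (LK LD1_c0 LD2_c26 LD3_c41)) = (LP (LK LD1_c0 LD2_c26 LD3_c48)) :=
  Lgr Lrot167 (Lpr_gt (f53204 IH) (Lpr_dt (f6761 IH) (Lpe (f53181 IH) (Lpe (K8.f7020 IH) (Lpr_et (K0.f7019 IH) (Lpr_gt (K0.f81 IH) (Lpe (f53309 IH) (Lpr_dt (K1.f40992 IH) (Lpr_gt (f53310 IH) (Lpr_df (f178473 IH) (Lpn (LP (LK LD1_c0 LD2_c26 LD3_c48)))))))))))))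
theorem f53338 : Led Lsl_et (LP (LK LD1_c0 LD2_c5 LD3_c26)) = (LP (LK LD1_c0 LD2_c11 LD3_c50)) :=
  Lre_e IH (LK LD1_c0 LD2_c5 LD3_c26) (LK LD1_c0 LD2_c11 LD3_c50) Lrfl Lrfl
theorem f6758 : Led Lsl_dt (LP (LK LD1_c0 LD2_c5 LD3_c26)) = (LP (LK LD1_c0 LD2_c11 LD3_c49)) :=
  Lre_d IH (LK LD1_c0 LD2_c5 LD3_c26) (LK LD1_c0 LD2_c11 LD3_c49) Lrfl Lrfl
theorem f6759 : Led Lsl_gt (LP (LK LD1_c0 LD2_c11 LD3_c49)) = (LP (LK LD1_c0 LD2_c26 LD3_c38)) :=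
  Lre_g IH (LK LD1_c0 LD2_c11 LD3_c49) (LK LD1_c0 LD2_c26 LD3_c38) Lrfl Lrfl
theorem f7023 : Led Lsl_et (LP (LK LD1_c0 LD2_c14 LD3_c38)) = (LP (LK LD1_c0 LD2_c6 LD3_c42)) :=
  Lre_e IH (LK LD1_c0 LD2_c14 LD3_c38) (LK LD1_c0 LD2_c6 LD3_c42) Lrfl Lrfl
theorem f178484 : Led Lsl_df (LP (LK LD1_c0 LD2_c26 LD3_c38)) = (LP (LK LD1_c0 LD2_c14 LD3_c38)) :=
  Lgr Lrot168 (Lpe (f6759 IH) (Lpe (f6758 IH) (Lpr_et (f53338 IH) (Lpe (f53204 IH) (Lpr_ef (f178477 IH) (Lpe (f178473 IH) (Lpe (f53310 IH) (Lpe (K1.f40992 IH) (Lpe (f7022 IH) (Lpe (f7023 IH) (Lpn (LP (LK LD1_c0 LD2_c14 LD3_c38)))))))))))))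
theorem f178489 : Led Lsl_dt (LP (LK LD1_c0 LD2_c26 LD3_c38)) = (LP (LK LD1_c0 LD2_c14 LD3_c38)) :=
  Lgr Lrot42 (Lpr_df (f178484 IH) (Lpn (LP (LK LD1_c0 LD2_c14 LD3_c38))))
theorem f518 : Led Lsl_gt (LP (LK LD1_c0 LD2_c5 LD3_c25)) = (LP (LK LD1_c0 LD2_c11 LD3_c43)) :=
  Lre_g IH (LK LD1_c0 LD2_c5 LD3_c25) (LK LD1_c0 LD2_c11 LD3_c43) Lrfl Lrfl
theorem f1413 : Led Lsl_dt (LP (LK LD1_c0 LD2_c11 LD3_c43)) = (LP (LK LD1_c0 LD2_c26 LD3_c23)) :=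
  Lre_d IH (LK LD1_c0 LD2_c11 LD3_c43) (LK LD1_c0 LD2_c26 LD3_c23) Lrfl Lrfl
theorem f56539 : Led Lsl_et (LP (LK LD1_c0 LD2_c6 LD3_c42)) = (LP (LK LD1_c0 LD2_c14 LD3_c38)) :=
  Lre_e IH (LK LD1_c0 LD2_c6 LD3_c42) (LK LD1_c0 LD2_c14 LD3_c38) Lrfl Lrfl
theorem f168182 : Led Lsl_et (LP (LK LD1_c0 LD2_c15 LD3_c61)) = (LP (LK LD1_c0 LD2_c7 LD3_c11)) :=
  Lre_e IH (LK LD1_c0 LD2_c15 LD3_c61) (LK LD1_c0 LD2_c7 LD3_c11) Lrfl Lrfl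
theorem f168183 : Led Lsl_ct (LP (LK LD1_c0 LD2_c14 LD3_c38)) = (LP (LK LD1_c0 LD2_c15 LD3_c61)) :=
  Lgr Lrot15 (Lpe (f56539 IH) (Lpr_cf (f168096 IH) (Lpe (f168182 IH) (Lpn (LP (LK LD1_c0 LD2_c15 LD3_c61))))))
theorem f168320 : Led Lsl_cf (LP (LK LD1_c0 LD2_c14 LD3_c38)) = (LP (LK LD1_c0 LD2_c15 LD3_c61)) :=
  Lgr Lrot11 (Lpr_ct (f168183 IH) (Lpn (LP (LK LD1_c0 LD2_c15 LD3_c61))))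
theorem f168325 : Led Lsl_dt (LP (LK LD1_c0 LD2_c35 LD3_c49)) = (LP (LK LD1_c0 LD2_c15 LD3_c61)) :=
  Lre_d IH (LK LD1_c0 LD2_c35 LD3_c49) (LK LD1_c0 LD2_c15 LD3_c61) Lrfl Lrfl
theorem f178496 : Led Lsl_gt (LP (LK LD1_c0 LD2_c26 LD3_c23)) = (LP (LK LD1_c0 LD2_c35 LD3_c49)) :=
  Lgr Lrot49 (Lpe (f1413 IH) (Lpe (f518 IH) (Lpe (f51552 IH) (Lpr_gt (f6757 IH) (Lpr_dt (f6758 IH) (Lpr_gt (f6759 IH) (Lpr_dt (f178489 IH) (Lpr_cf (f168320 IH) (Lpe (f168325 IH) (Lpn (LP (LK LD1_c0 LD2_c35 LD3_c49))))))))))))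
theorem f519 : Led Lsl_dt (LP (LK LD1_c0 LD2_c26 LD3_c23)) = (LP (LK LD1_c0 LD2_c11 LD3_c43)) :=
  Lre_d IH (LK LD1_c0 LD2_c26 LD3_c23) (LK LD1_c0 LD2_c11 LD3_c43) Lrfl Lrfl
theorem f51434 : Led Lsl_at (LP (LK LD1_c0 LD2_c57 LD3_c50)) = (LP (LK LD1_c0 LD2_c26 LD3_c21)) :=
  Lre_a IH (LK LD1_c0 LD2_c57 LD3_c50) (LK LD1_c0 LD2_c26 LD3_c21) Lrfl Lrfl
theorem f27312 : Led Lsl_bt (LP (LK LD1_c0 LD2_c26 LD3_c21)) = (LP (LK LD1_c0 LD2_c11 LD3_c46)) :=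
  Lre_b IH (LK LD1_c0 LD2_c26 LD3_c21) (LK LD1_c0 LD2_c11 LD3_c46) Lrfl Lrfl
theorem f27354 : Led Lsl_at (LP (LK LD1_c0 LD2_c27 LD3_c12)) = (LP (LK LD1_c0 LD2_c59 LD3_c39)) :=
  Lre_a IH (LK LD1_c0 LD2_c27 LD3_c12) (LK LD1_c0 LD2_c59 LD3_c39) Lrfl Lrfl
theorem f51435 : Led Lsl_at (LP (LK LD1_c0 LD2_c11 LD3_c46)) = (LP (LK LD1_c0 LD2_c12 LD3_c7)) :=
  Lgr Lrot67 (Lpe (f27312 IH) (Lpe (f51434 IH) (Lpr_bf (f51431 IH) (Lpe (f27354 IH) (Lpe (K0.f27345 IH) (Lpn (LP (LK LD1_c0 LD2_c12 LD3_c7))))))))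
theorem f53438 : Led Lsl_gt (LP (LK LD1_c0 LD2_c11 LD3_c43)) = (LP (LK LD1_c0 LD2_c12 LD3_c7)) :=
  Lgr Lrot46 (Lpe (f518 IH) (Lpr_ft (K0.f27308 IH) (Lpr_at (f51435 IH) (Lpn (LP (LK LD1_c0 LD2_c12 LD3_c7))))))
theorem f51579 : Led Lsl_ct (LP (LK LD1_c0 LD2_c5 LD3_c27)) = (LP (LK LD1_c0 LD2_c11 LD3_c51)) :=
  Lre_c IH (LK LD1_c0 LD2_c5 LD3_c27) (LK LD1_c0 LD2_c11 LD3_c51) Lrfl Lrfl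
theorem f51580 : Led Lsl_dt (LP (LK LD1_c0 LD2_c11 LD3_c51)) = (LP (LK LD1_c0 LD2_c26 LD3_c45)) :=
  Lre_d IH (LK LD1_c0 LD2_c11 LD3_c51) (LK LD1_c0 LD2_c26 LD3_c45) Lrfl Lrfl
theorem f51581 : Led Lsl_ct (LP (LK LD1_c0 LD2_c58 LD3_c56)) = (LP (LK LD1_c0 LD2_c26 LD3_c45)) :=
  Lre_c IH (LK LD1_c0 LD2_c58 LD3_c56) (LK LD1_c0 LD2_c26 LD3_c45) Lrfl Lrfl
theorem f168323 : Led Lsl_ct (LP (LK LD1_c0 LD2_c35 LD3_c49)) = (LP (LK LD1_c1 LD2_c17 LD3_c32)) :=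
  Lre_c IH (LK LD1_c0 LD2_c35 LD3_c49) (LK LD1_c1 LD2_c17 LD3_c32) Lrfl Lrfl
theorem f178498 : Led Lsl_gf (LP (LK LD1_c0 LD2_c58 LD3_c56)) = (LP (LK LD1_c1 LD2_c17 LD3_c32)) :=
  Lgr Lrot104 (Lpr_ct (f51581 IH) (Lpe (f51580 IH) (Lpe (f51579 IH) (Lpr_gf (f51574 IH) (Lpe (f27349 IH) (Lpe (f53438 IH) (Lpe (f519 IH) (Lpr_gt (f178496 IH) (Lpr_ct (f168323 IH) (Lpn (LP (LK LD1_c1 LD2_c17 LD3_c32))))))))))))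
theorem f177869 : Led Lsl_dt (LP (LK LD1_c0 LD2_c7 LD3_c14)) = (LP (LK LD1_c0 LD2_c16 LD3_c5)) :=
  Lre_d IH (LK LD1_c0 LD2_c7 LD3_c14) (LK LD1_c0 LD2_c16 LD3_c5) Lrfl Lrfl
theorem f178303 : Led Lsl_gf (LP (LK LD1_c0 LD2_c6 LD3_c32)) = (LP (LK LD1_c0 LD2_c11 LD3_c51)) :=
  Lgr Lrot141 (Lpe (K0.f1683 IH) (Lpr_dt (K0.f1664 IH) (Lpr_gt (K0.f8104 IH) (Lpr_df (f8116 IH) (Lpr_et (K1.f8119 IH) (Lpr_gt (f177856 IH) (Lpr_dt (f177869 IH) (Lpr_gt (f177865 IH) (Lpr_df (f178285 IH) (Lpr_et (f178284 IH) (Lpn (LP (LK LD1_c0 LD2_c11 LD3_c51)))))))))))))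
theorem f2219 : Led Lsl_af (LP (LK LD1_c1 LD2_c9 LD3_c3)) = (LP (LK LD1_c1 LD2_c9 LD3_c2)) :=
  Lgr Lrot117 (Lpr_dt (K0.f2217 IH) (Lpe (f2210 IH) (Lpr_dt (K0.f256 IH) (Lpn (LP (LK LD1_c1 LD2_c9 LD3_c2))))))
theorem f2177 : Led Lsl_ft (LP (LK LD1_c0 LD2_c31 LD3_c56)) = (LP (LK LD1_c0 LD2_c14 LD3_c12)) :=
  Lre_f IH (LK LD1_c0 LD2_c31 LD3_c56) (LK LD1_c0 LD2_c14 LD3_c12) Lrfl Lrfl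
theorem f2179 : Led Lsl_ff (LP (LK LD1_c1 LD2_c9 LD3_c2)) = (LP (LK LD1_c0 LD2_c31 LD3_c55)) :=
  Lgr Lrot23 (Lpr_ct (K0.f2162 IH) (Lpr_ft (f2177 IH) (Lpr_ct (K0.f2178 IH) (Lpn (LP (LK LD1_c0 LD2_c31 LD3_c55))))))
theorem f167293 : Led Lsl_gf (LP (LK LD1_c1 LD2_c0 LD3_c7)) = (LP (LK LD1_c0 LD2_c31 LD3_c55)) :=
  Lgr Lrot47 (Lpr_gt (f167291 IH) (Lpr_af (f2219 IH) (Lpr_ff (f2179 IH) (Lpn (LP (LK LD1_c0 LD2_c31 LD3_c55))))))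
theorem f7917 : Led Lsl_ct (LP (LK LD1_c1 LD2_c0 LD3_c7)) = (LP (LK LD1_c0 LD2_c27 LD3_c19)) :=
  Lre_c IH (LK LD1_c1 LD2_c0 LD3_c7) (LK LD1_c0 LD2_c27 LD3_c19) Lrfl Lrfl
theorem f51468 : Led Lsl_at (LP (LK LD1_c0 LD2_c58 LD3_c0)) = (LP (LK LD1_c2 LD2_c1 LD3_c35)) :=
  Lre_a IH (LK LD1_c0 LD2_c58 LD3_c0) (LK LD1_c2 LD2_c1 LD3_c35) Lrfl Lrfl
theorem f47728 : Led Lsl_bt (LP (LK LD1_c0 LD2_c26 LD3_c31)) = (LP (LK LD1_c0 LD2_c58 LD3_c0)) :=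
  Lre_b IH (LK LD1_c0 LD2_c26 LD3_c31) (LK LD1_c0 LD2_c58 LD3_c0) Lrfl Lrfl
theorem f51469 : Led Lsl_at (LP (LK LD1_c2 LD2_c5 LD3_c9)) = (LP (LK LD1_c0 LD2_c59 LD3_c49)) :=
  Lre_a IH (LK LD1_c2 LD2_c5 LD3_c9) (LK LD1_c0 LD2_c59 LD3_c49) Lrfl Lrfl
theorem f51470 : Led Lsl_bt (LP (LK LD1_c0 LD2_c59 LD3_c49)) = (LP (LK LD1_c0 LD2_c27 LD3_c22)) :=
  Lre_b IH (LK LD1_c0 LD2_c59 LD3_c49) (LK LD1_c0 LD2_c27 LD3_c22) Lrfl Lrfl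
theorem f51471 : Led Lsl_af (LP (LK LD1_c0 LD2_c26 LD3_c31)) = (LP (LK LD1_c0 LD2_c27 LD3_c22)) :=
  Lgr Lrot36 (Lpr_bt (f47728 IH) (Lpr_at (f51468 IH) (Lpr_bt (f51439 IH) (Lpr_at (f51469 IH) (Lpr_bt (f51470 IH) (Lpn (LP (LK LD1_c0 LD2_c27 LD3_c22))))))))
theorem f53424 : Led Lsl_gf (LP (LK LD1_c0 LD2_c26 LD3_c31)) = (LP (LK LD1_c0 LD2_c27 LD3_c19)) :=
  Lgr Lrot76 (Lpr_af (f51471 IH) (Lpe (K0.f513 IH) (Lpr_gt (K0.f526 IH) (Lpn (LP (LK LD1_c0 LD2_c27 LD3_c19))))))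
theorem f506 : Led Lsl_ct (LP (LK LD1_c0 LD2_c12 LD3_c6)) = (LP (LK LD1_c0 LD2_c27 LD3_c21)) :=
  Lre_c IH (LK LD1_c0 LD2_c12 LD3_c6) (LK LD1_c0 LD2_c27 LD3_c21) Lrfl Lrfl
theorem f51626 : Led Lsl_ct (LP (LK LD1_c1 LD2_c0 LD3_c10)) = (LP (LK LD1_c0 LD2_c27 LD3_c20)) :=
  Lre_c IH (LK LD1_c1 LD2_c0 LD3_c10) (LK LD1_c0 LD2_c27 LD3_c20) Lrfl Lrfl
theorem f170069 : Led Lsl_gf (LP (LK LD1_c1 LD2_c0 LD3_c10)) = (LP (LK LD1_c1 LD2_c9 LD3_c3)) :=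
  Lgr Lrot147 (Lpr_ct (f51626 IH) (Lpr_gt (f522 IH) (Lpr_ct (f506 IH) (Lpe (f51613 IH) (Lpe (f51607 IH) (Lpr_gf (f53424 IH) (Lpe (f7917 IH) (Lpr_gf (f167293 IH) (Lpe (K0.f2217 IH) (Lpn (LP (LK LD1_c1 LD2_c9 LD3_c3))))))))))))
theorem f170109 : Led Lsl_gt (LP (LK LD1_c1 LD2_c0 LD3_c10)) = (LP (LK LD1_c0 LD2_c31 LD3_c55)) :=
  Lgr Lrot46 (Lpr_gf (f170069 IH) (Lpr_ft (K0.f2229 IH) (Lpr_at (K0.f2230 IH) (Lpn (LP (LK LD1_c0 LD2_c31 LD3_c55))))))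
theorem f53376 : Led Lsl_ct (LP (LK LD1_c0 LD2_c27 LD3_c20)) = (LP (LK LD1_c1 LD2_c0 LD3_c10)) :=
  Lre_c IH (LK LD1_c0 LD2_c27 LD3_c20) (LK LD1_c1 LD2_c0 LD3_c10) Lrfl Lrfl
theorem f167306 : Led Lsl_ct (LP (LK LD1_c0 LD2_c59 LD3_c56)) = (LP (LK LD1_c0 LD2_c27 LD3_c14)) :=
  Lre_c IH (LK LD1_c0 LD2_c59 LD3_c56) (LK LD1_c0 LD2_c27 LD3_c14) Lrfl Lrfl
theorem f170111 : Led Lsl_dt (LP (LK LD1_c1 LD2_c0 LD3_c10)) = (LP (LK LD1_c0 LD2_c59 LD3_c56)) :=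
  Lgr Lrot105 (Lpr_gf (f170069 IH) (Lpr_df (K0.f2226 IH) (Lpe (f170109 IH) (Lpe (f53376 IH) (Lpr_gt (f522 IH) (Lpr_dt (K0.f485 IH) (Lpr_gt (f497 IH) (Lpr_dt (f499 IH) (Lpe (f167306 IH) (Lpn (LP (LK LD1_c0 LD2_c59 LD3_c56))))))))))))
theorem f170151 : Led Lsl_df (LP (LK LD1_c1 LD2_c0 LD3_c10)) = (LP (LK LD1_c0 LD2_c59 LD3_c56)) :=
  Lgr Lrot38 (Lpr_dt (f170111 IH) (Lpn (LP (LK LD1_c0 LD2_c59 LD3_c56))))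
theorem f3086 : Led Lsl_ct (LP (LK LD1_c0 LD2_c31 LD3_c60)) = (LP (LK LD1_c0 LD2_c14 LD3_c16)) :=
  Lre_c IH (LK LD1_c0 LD2_c31 LD3_c60) (LK LD1_c0 LD2_c14 LD3_c16) Lrfl Lrfl
theorem f7858 : Led Lsl_dt (LP (LK LD1_c0 LD2_c12 LD3_c5)) = (LP (LK LD1_c0 LD2_c27 LD3_c17)) :=
  Lre_d IH (LK LD1_c0 LD2_c12 LD3_c5) (LK LD1_c0 LD2_c27 LD3_c17) Lrfl Lrfl
theorem f7991 : Led Lsl_ct (LP (LK LD1_c0 LD2_c27 LD3_c17)) = (LP (LK LD1_c1 LD2_c0 LD3_c2)) :=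
  Lre_c IH (LK LD1_c0 LD2_c27 LD3_c17) (LK LD1_c1 LD2_c0 LD3_c2) Lrfl Lrfl
theorem f167761 : Led Lsl_ct (LP (LK LD1_c0 LD2_c27 LD3_c14)) = (LP (LK LD1_c0 LD2_c59 LD3_c56)) :=
  Lre_c IH (LK LD1_c0 LD2_c27 LD3_c14) (LK LD1_c0 LD2_c59 LD3_c56) Lrfl Lrfl
theorem f167304 : Led Lsl_cf (LP (LK LD1_c0 LD2_c12 LD3_c4)) = (LP (LK LD1_c0 LD2_c6 LD3_c33)) :=
  Lgr Lrot11 (Lpr_ct (f167295 IH) (Lpn (LP (LK LD1_c0 LD2_c6 LD3_c33))))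
theorem f170160 : Led Lsl_dt (LP (LK LD1_c1 LD2_c0 LD3_c2)) = (LP (LK LD1_c1 LD2_c0 LD3_c7)) :=
  Lgr Lrot173 (Lpe (f7991 IH) (Lpe (f7858 IH) (Lpr_cf (K0.f7908 IH) (Lpe (f3065 IH) (Lpe (f3086 IH) (Lpe (f167309 IH) (Lpe (f51626 IH) (Lpr_df (f170151 IH) (Lpe (f167761 IH) (Lpe (f499 IH) (Lpr_cf (f167304 IH) (Lpe (K0.f3060 IH) (Lpe (K0.f3064 IH) (Lpe (K0.f7911 IH) (Lpe (f7917 IH) (Lpn (LP (LK LD1_c1 LD2_c0 LD3_c7))))))))))))))))))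
theorem f166470 : Led Lsl_dt (LP (LK LD1_c0 LD2_c11 LD3_c48)) = (LP (LK LD1_c0 LD2_c26 LD3_c36)) :=
  Lre_d IH (LK LD1_c0 LD2_c11 LD3_c48) (LK LD1_c0 LD2_c26 LD3_c36) Lrfl Lrfl
theorem f166471 : Led Lsl_gt (LP (LK LD1_c0 LD2_c26 LD3_c36)) = (LP (LK LD1_c0 LD2_c58 LD3_c42)) :=
  Lre_g IH (LK LD1_c0 LD2_c26 LD3_c36) (LK LD1_c0 LD2_c58 LD3_c42) Lrfl Lrfl
theorem f166472 : Led Lsl_ct (LP (LK LD1_c0 LD2_c58 LD3_c42)) = (LP (LK LD1_c2 LD2_c3 LD3_c31)) :=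
  Lre_c IH (LK LD1_c0 LD2_c58 LD3_c42) (LK LD1_c2 LD2_c3 LD3_c31) Lrfl Lrfl
theorem f1387 : Led Lsl_dt (LP (LK LD1_c0 LD2_c27 LD3_c17)) = (LP (LK LD1_c0 LD2_c12 LD3_c5)) :=
  Lre_d IH (LK LD1_c0 LD2_c27 LD3_c17) (LK LD1_c0 LD2_c12 LD3_c5) Lrfl Lrfl
theorem f7910 : Led Lsl_ct (LP (LK LD1_c1 LD2_c0 LD3_c2)) = (LP (LK LD1_c0 LD2_c27 LD3_c17)) :=
  Lre_c IH (LK LD1_c1 LD2_c0 LD3_c2) (LK LD1_c0 LD2_c27 LD3_c17) Lrfl Lrfl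
theorem f166473 : Led Lsl_gt (LP (LK LD1_c2 LD2_c3 LD3_c31)) = (LP (LK LD1_c1 LD2_c0 LD3_c2)) :=
  Lgr Lrot150 (Lpe (f166472 IH) (Lpe (f166471 IH) (Lpe (f166470 IH) (Lpr_gt (f166442 IH) (Lpr_ct (K0.f281 IH) (Lpr_gt (K0.f3083 IH) (Lpe (K0.f7908 IH) (Lpe (f1387 IH) (Lpe (f7910 IH) (Lpn (LP (LK LD1_c1 LD2_c0 LD3_c2))))))))))))
theorem f166481 : Led Lsl_ct (LP (LK LD1_c2 LD2_c3 LD3_c31)) = (LP (LK LD1_c0 LD2_c58 LD3_c42)) :=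
  Lre_c IH (LK LD1_c2 LD2_c3 LD3_c31) (LK LD1_c0 LD2_c58 LD3_c42) Lrfl Lrfl
theorem f51582 : Led Lsl_dt (LP (LK LD1_c0 LD2_c26 LD3_c45)) = (LP (LK LD1_c0 LD2_c11 LD3_c51)) :=
  Lre_d IH (LK LD1_c0 LD2_c26 LD3_c45) (LK LD1_c0 LD2_c11 LD3_c51) Lrfl Lrfl
theorem f178305 : Led Lsl_gt (LP (LK LD1_c0 LD2_c58 LD3_c42)) = (LP (LK LD1_c0 LD2_c26 LD3_c45)) :=
  Lgr Lrot94 (Lpe (f166481 IH) (Lpr_gt (f166473 IH) (Lpr_dt (f170160 IH) (Lpr_gt (f167291 IH) (Lpr_dt (K0.f2217 IH) (Lpe (K0.f2178 IH) (Lpe (K0.f2225 IH) (Lpr_gf (f178303 IH) (Lpe (f51582 IH) (Lpn (LP (LK LD1_c0 LD2_c26 LD3_c45))))))))))))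
theorem f166578 : Led Lsl_ct (LP (LK LD1_c0 LD2_c26 LD3_c45)) = (LP (LK LD1_c0 LD2_c58 LD3_c56)) :=
  Lre_c IH (LK LD1_c0 LD2_c26 LD3_c45) (LK LD1_c0 LD2_c58 LD3_c56) Lrfl Lrfl
theorem f53324 : Led Lsl_dt (LP (LK LD1_c0 LD2_c26 LD3_c36)) = (LP (LK LD1_c0 LD2_c11 LD3_c48)) :=
  Lre_d IH (LK LD1_c0 LD2_c26 LD3_c36) (LK LD1_c0 LD2_c11 LD3_c48) Lrfl Lrfl
theorem f166993 : Led Lsl_ct (LP (LK LD1_c0 LD2_c58 LD3_c44)) = (LP (LK LD1_c0 LD2_c26 LD3_c36)) :=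
  Lre_c IH (LK LD1_c0 LD2_c58 LD3_c44) (LK LD1_c0 LD2_c26 LD3_c36) Lrfl Lrfl
theorem f166992 : Led Lsl_ct (LP (LK LD1_c0 LD2_c26 LD3_c36)) = (LP (LK LD1_c0 LD2_c58 LD3_c44)) :=
  Lre_c IH (LK LD1_c0 LD2_c26 LD3_c36) (LK LD1_c0 LD2_c58 LD3_c44) Lrfl Lrfl
theorem f167046 : Led Lsl_dt (LP (LK LD1_c0 LD2_c58 LD3_c26)) = (LP (LK LD1_c0 LD2_c58 LD3_c44)) :=
  Lgr Lrot113 (Lpr_gf (f52223 IH) (Lpe (f1125 IH) (Lpe (f1401 IH) (Lpr_ct (f167032 IH) (Lpr_gt (f2213 IH) (Lpr_dt (K0.f1672 IH) (Lpe (f166464 IH) (Lpr_dt (f166470 IH) (Lpr_ct (f166992 IH) (Lpn (LP (LK LD1_c0 LD2_c58 LD3_c44))))))))))))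
theorem f51577 : Led Lsl_ct (LP (LK LD1_c0 LD2_c11 LD3_c52)) = (LP (LK LD1_c0 LD2_c26 LD3_c47)) :=
  Lre_c IH (LK LD1_c0 LD2_c11 LD3_c52) (LK LD1_c0 LD2_c26 LD3_c47) Lrfl Lrfl
theorem f166466 : Led Lsl_df (LP (LK LD1_c0 LD2_c26 LD3_c47)) = (LP (LK LD1_c0 LD2_c31 LD3_c54)) :=
  Lgr Lrot84 (Lpe (f51577 IH) (Lpe (f51576 IH) (Lpr_gf (f51574 IH) (Lpr_df (f8000 IH) (Lpe (f51594 IH) (Lpe (f51598 IH) (Lpr_gt (f166442 IH) (Lpr_dt (K0.f279 IH) (Lpr_gt (f2214 IH) (Lpn (LP (LK LD1_c0 LD2_c31 LD3_c54))))))))))))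
theorem f166579 : Led Lsl_dt (LP (LK LD1_c0 LD2_c26 LD3_c47)) = (LP (LK LD1_c0 LD2_c31 LD3_c54)) :=
  Lgr Lrot42 (Lpr_df (f166466 IH) (Lpn (LP (LK LD1_c0 LD2_c31 LD3_c54))))
theorem f178274 : Led Lsl_df (LP (LK LD1_c0 LD2_c58 LD3_c56)) = (LP (LK LD1_c0 LD2_c58 LD3_c25)) :=
  Lgr Lrot43 (Lpr_ct (f51581 IH) (Lpr_dt (f51582 IH) (Lpr_ct (f51585 IH) (Lpr_dt (f51576 IH) (Lpr_ct (f51577 IH) (Lpr_dt (f166579 IH) (Lpe (f167044 IH) (Lpr_dt (f167046 IH) (Lpr_ct (f166993 IH) (Lpr_dt (f53324 IH) (Lpr_ct (f51598 IH) (Lpr_dt (f6758 IH) (Lpr_ct (f53156 IH) (Lpr_dt (f178270 IH) (Lpe (f166994 IH) (Lpn (LP (LK LD1_c0 LD2_c58 LD3_c25))))))))))))))))))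
theorem f178323 : Led Lsl_gf (LP (LK LD1_c2 LD2_c3 LD3_c31)) = (LP (LK LD1_c0 LD2_c59 LD3_c56)) :=
  Lgr Lrot147 (Lpr_ct (f166481 IH) (Lpr_gt (f178305 IH) (Lpr_ct (f166578 IH) (Lpr_df (f178274 IH) (Lpr_cf (f166994 IH) (Lpe (f2864 IH) (Lpe (K0.f2216 IH) (Lpe (f170109 IH) (Lpr_df (f170151 IH) (Lpn (LP (LK LD1_c0 LD2_c59 LD3_c56))))))))))))
theorem f178325 : Led Lsl_df (LP (LK LD1_c0 LD2_c58 LD3_c25)) = (LP (LK LD1_c0 LD2_c58 LD3_c56)) :=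
  Lgr Lrot162 (Lpr_cf (f166994 IH) (Lpe (f2864 IH) (Lpe (K0.f2216 IH) (Lpe (f170109 IH) (Lpr_dt (f170111 IH) (Lpe (f178323 IH) (Lpr_ct (f166481 IH) (Lpr_gt (f178305 IH) (Lpr_ct (f166578 IH) (Lpn (LP (LK LD1_c0 LD2_c58 LD3_c56))))))))))))
theorem f525 : Led Lsl_dt (LP (LK LD1_c0 LD2_c26 LD3_c26)) = (LP (LK LD1_c0 LD2_c11 LD3_c44)) :=
  Lre_d IH (LK LD1_c0 LD2_c26 LD3_c26) (LK LD1_c0 LD2_c11 LD3_c44) Lrfl Lrfl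
theorem f178830 : Led Lsl_gf (LP (LK LD1_c0 LD2_c26 LD3_c26)) = (LP (LK LD1_c0 LD2_c35 LD3_c49)) :=
  Lgr Lrot144 (Lpr_dt (f525 IH) (Lpr_gt (f524 IH) (Lpr_dt (K0.f483 IH) (Lpe (f505 IH) (Lpe (f1121 IH) (Lpr_gf (f53144 IH) (Lpr_df (f178325 IH) (Lpr_gf (f178498 IH) (Lpe (f168323 IH) (Lpn (LP (LK LD1_c0 LD2_c35 LD3_c49))))))))))))
theorem f53459 : Led Lsl_dt (LP (LK LD1_c0 LD2_c11 LD3_c44)) = (LP (LK LD1_c0 LD2_c26 LD3_c26)) :=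
  Lre_d IH (LK LD1_c0 LD2_c11 LD3_c44) (LK LD1_c0 LD2_c26 LD3_c26) Lrfl Lrfl
theorem f167229 : Led Lsl_et (LP (LK LD1_c0 LD2_c11 LD3_c44)) = (LP (LK LD1_c0 LD2_c26 LD3_c27)) :=
  Lre_e IH (LK LD1_c0 LD2_c11 LD3_c44) (LK LD1_c0 LD2_c26 LD3_c27) Lrfl Lrfl
theorem f168322 : Led Lsl_dt (LP (LK LD1_c0 LD2_c15 LD3_c61)) = (LP (LK LD1_c0 LD2_c35 LD3_c49)) :=
  Lre_d IH (LK LD1_c0 LD2_c15 LD3_c61) (LK LD1_c0 LD2_c35 LD3_c49) Lrfl Lrfl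
theorem f9473 : Led Lsl_ef (LP (LK LD1_c0 LD2_c12 LD3_c41)) = (LP (LK LD1_c0 LD2_c12 LD3_c41)) :=
  Lgr Lrot28 (Lpr_ct (f9471 IH) (Lpr_et (K0.f9445 IH) (Lpr_ct (f9472 IH) (Lpn (LP (LK LD1_c0 LD2_c12 LD3_c41))))))
theorem f173038 : Led Lsl_dt (LP (LK LD1_c0 LD2_c35 LD3_c53)) = (LP (LK LD1_c0 LD2_c16 LD3_c0)) :=
  Lre_d IH (LK LD1_c0 LD2_c35 LD3_c53) (LK LD1_c0 LD2_c16 LD3_c0) Lrfl Lrfl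
theorem f178848 : Led Lsl_gt (LP (LK LD1_c0 LD2_c26 LD3_c27)) = (LP (LK LD1_c0 LD2_c35 LD3_c53)) :=
  Lgr Lrot137 (Lpe (f167229 IH) (Lpr_dt (f53459 IH) (Lpr_gf (f178830 IH) (Lpe (f168322 IH) (Lpr_et (f168182 IH) (Lpe (f43097 IH) (Lpr_ef (f9473 IH) (Lpr_dt (f8440 IH) (Lpe (f172859 IH) (Lpe (f173038 IH) (Lpn (LP (LK LD1_c0 LD2_c35 LD3_c53)))))))))))))
theorem f1415 : Led Lsl_et (LP (LK LD1_c0 LD2_c26 LD3_c27)) = (LP (LK LD1_c0 LD2_c11 LD3_c44)) :=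
  Lre_e IH (LK LD1_c0 LD2_c26 LD3_c27) (LK LD1_c0 LD2_c11 LD3_c44) Lrfl Lrfl
theorem f20689 : Led Lsl_et (LP (LK LD1_c0 LD2_c6 LD3_c25)) = (LP (LK LD1_c0 LD2_c14 LD3_c4)) :=
  Lre_e IH (LK LD1_c0 LD2_c6 LD3_c25) (LK LD1_c0 LD2_c14 LD3_c4) Lrfl Lrfl
theorem f171157 : Led Lsl_cf (LP (LK LD1_c0 LD2_c26 LD3_c27)) = (LP (LK LD1_c0 LD2_c14 LD3_c4)) :=
  Lgr Lrot39 (Lpr_et (f1415 IH) (Lpr_ct (f171034 IH) (Lpr_et (f20689 IH) (Lpn (LP (LK LD1_c0 LD2_c14 LD3_c4))))))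
theorem f178467 : Led Lsl_ct (LP (LK LD1_c0 LD2_c35 LD3_c53)) = (LP (LK LD1_c0 LD2_c26 LD3_c48)) :=
  Lgr Lrot59 (Lpr_cf (f178455 IH) (Lpn (LP (LK LD1_c0 LD2_c26 LD3_c48))))
theorem f178869 : Led Lsl_gf (LP (LK LD1_c0 LD2_c14 LD3_c4)) = (LP (LK LD1_c0 LD2_c16 LD3_c28)) :=
  Lgr Lrot147 (Lpe (f171157 IH) (Lpr_gt (f178848 IH) (Lpr_ct (f178467 IH) (Lpe (f178469 IH) (Lpr_cf (f174957 IH) (Lpe (f68576 IH) (Lpe (f165207 IH) (Lpe (K0.f9501 IH) (Lpe (K0.f9480 IH) (Lpn (LP (LK LD1_c0 LD2_c16 LD3_c28))))))))))))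
theorem f20672 : Led Lsl_gt (LP (LK LD1_c0 LD2_c28 LD3_c53)) = (LP (LK LD1_c0 LD2_c12 LD3_c45)) :=
  Lre_g IH (LK LD1_c0 LD2_c28 LD3_c53) (LK LD1_c0 LD2_c12 LD3_c45) Lrfl Lrfl
theorem f6884 : Led Lsl_dt (LP (LK LD1_c0 LD2_c3 LD3_c38)) = (LP (LK LD1_c0 LD2_c7 LD3_c59)) :=
  Lre_d IH (LK LD1_c0 LD2_c3 LD3_c38) (LK LD1_c0 LD2_c7 LD3_c59) Lrfl Lrfl
theorem f6883 : Led Lsl_et (LP (LK LD1_c0 LD2_c3 LD3_c38)) = (LP (LK LD1_c0 LD2_c1 LD3_c33)) :=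
  Lre_e IH (LK LD1_c0 LD2_c3 LD3_c38) (LK LD1_c0 LD2_c1 LD3_c33) Lrfl Lrfl
theorem f277 : Led Lsl_dt (LP (LK LD1_c0 LD2_c14 LD3_c1)) = (LP (LK LD1_c0 LD2_c6 LD3_c24)) :=
  Lre_d IH (LK LD1_c0 LD2_c14 LD3_c1) (LK LD1_c0 LD2_c6 LD3_c24) Lrfl Lrfl
theorem f20676 : Led Lsl_ef (LP (LK LD1_c0 LD2_c28 LD3_c53)) = (LP (LK LD1_c0 LD2_c14 LD3_c1)) :=
  Lgr Lrot167 (Lpr_gt (f20672 IH) (Lpr_dt (f20653 IH) (Lpr_gt (f6969 IH) (Lpe (f6884 IH) (Lpr_et (f6883 IH) (Lpe (K0.f6876 IH) (Lpe (K0.f243 IH) (Lpr_dt (K0.f244 IH) (Lpr_gt (f263 IH) (Lpe (f277 IH) (Lpn (LP (LK LD1_c0 LD2_c14 LD3_c1)))))))))))))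
theorem f6855 : Led Lsl_dt (LP (LK LD1_c0 LD2_c5 LD3_c48)) = (LP (LK LD1_c0 LD2_c12 LD3_c44)) :=
  Lre_d IH (LK LD1_c0 LD2_c5 LD3_c48) (LK LD1_c0 LD2_c12 LD3_c44) Lrfl Lrfl
theorem f6856 : Led Lsl_gt (LP (LK LD1_c0 LD2_c12 LD3_c44)) = (LP (LK LD1_c0 LD2_c28 LD3_c49)) :=
  Lre_g IH (LK LD1_c0 LD2_c12 LD3_c44) (LK LD1_c0 LD2_c28 LD3_c49) Lrfl Lrfl
theorem f276 : Led Lsl_et (LP (LK LD1_c0 LD2_c14 LD3_c4)) = (LP (LK LD1_c0 LD2_c6 LD3_c25)) :=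
  Lre_e IH (LK LD1_c0 LD2_c14 LD3_c4) (LK LD1_c0 LD2_c6 LD3_c25) Lrfl Lrfl
theorem f20684 : Led Lsl_df (LP (LK LD1_c0 LD2_c28 LD3_c49)) = (LP (LK LD1_c0 LD2_c14 LD3_c4)) :=
  Lgr Lrot168 (Lpe (f6856 IH) (Lpe (f6855 IH) (Lpr_et (f20664 IH) (Lpe (f20672 IH) (Lpr_ef (f20676 IH) (Lpr_dt (f277 IH) (Lpe (f263 IH) (Lpe (K0.f244 IH) (Lpe (f262 IH) (Lpe (f276 IH) (Lpn (LP (LK LD1_c0 LD2_c14 LD3_c4)))))))))))))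
theorem f20686 : Led Lsl_ct (LP (LK LD1_c0 LD2_c28 LD3_c49)) = (LP (LK LD1_c1 LD2_c3 LD3_c12)) :=
  Lre_c IH (LK LD1_c0 LD2_c28 LD3_c49) (LK LD1_c1 LD2_c3 LD3_c12) Lrfl Lrfl
theorem f172843 : Led Lsl_dt (LP (LK LD1_c0 LD2_c16 LD3_c31)) = (LP (LK LD1_c0 LD2_c37 LD3_c1)) :=
  Lre_d IH (LK LD1_c0 LD2_c16 LD3_c31) (LK LD1_c0 LD2_c37 LD3_c1) Lrfl Lrfl
theorem f168099 : Led Lsl_dt (LP (LK LD1_c0 LD2_c35 LD3_c56)) = (LP (LK LD1_c1 LD2_c17 LD3_c49)) :=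
  Lre_d IH (LK LD1_c0 LD2_c35 LD3_c56) (LK LD1_c1 LD2_c17 LD3_c49) Lrfl Lrfl
theorem f40980 : Led Lsl_bt (LP (LK LD1_c2 LD2_c26 LD3_c44)) = (LP (LK LD1_c1 LD2_c10 LD3_c38)) :=
  Lre_b IH (LK LD1_c2 LD2_c26 LD3_c44) (LK LD1_c1 LD2_c10 LD3_c38) Lrfl Lrfl
theorem f173647 : Led Lsl_dt (LP (LK LD1_c1 LD2_c10 LD3_c38)) = (LP (LK LD1_c1 LD2_c17 LD3_c37)) :=
  Lgr Lrot79 (Lpe (f40980 IH) (Lpr_df (f173627 IH) (Lpe (f173061 IH) (Lpn (LP (LK LD1_c1 LD2_c17 LD3_c37))))))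
theorem f68581 : Led Lsl_dt (LP (LK LD1_c0 LD2_c16 LD3_c30)) = (LP (LK LD1_c0 LD2_c36 LD3_c60)) :=
  Lre_d IH (LK LD1_c0 LD2_c16 LD3_c30) (LK LD1_c0 LD2_c36 LD3_c60) Lrfl Lrfl
theorem f174110 : Led Lsl_cf (LP (LK LD1_c1 LD2_c17 LD3_c49)) = (LP (LK LD1_c0 LD2_c36 LD3_c60)) :=
  Lgr Lrot14 (Lpe (f168099 IH) (Lpr_gf (f174106 IH) (Lpe (f173647 IH) (Lpr_gf (f168539 IH) (Lpr_ct (f172404 IH) (Lpr_gt (f22481 IH) (Lpr_dt (f165204 IH) (Lpr_gt (f68576 IH) (Lpr_dt (f68581 IH) (Lpn (LP (LK LD1_c0 LD2_c36 LD3_c60))))))))))))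
theorem f168094 : Led Lsl_dt (LP (LK LD1_c1 LD2_c17 LD3_c49)) = (LP (LK LD1_c0 LD2_c35 LD3_c56)) :=
  Lre_d IH (LK LD1_c1 LD2_c17 LD3_c49) (LK LD1_c0 LD2_c35 LD3_c56) Lrfl Lrfl
theorem f44739 : Led Lsl_ct (LP (LK LD1_c1 LD2_c3 LD3_c2)) = (LP (LK LD1_c0 LD2_c28 LD3_c44)) :=
  Lre_c IH (LK LD1_c1 LD2_c3 LD3_c2) (LK LD1_c0 LD2_c28 LD3_c44) Lrfl Lrfl
theorem f174126 : Led Lsl_gt (LP (LK LD1_c0 LD2_c35 LD3_c58)) = (LP (LK LD1_c1 LD2_c3 LD3_c2)) :=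
  Lre_g IH (LK LD1_c0 LD2_c35 LD3_c58) (LK LD1_c1 LD2_c3 LD3_c2) Lrfl Lrfl
theorem f172327 : Led Lsl_dt (LP (LK LD1_c0 LD2_c35 LD3_c58)) = (LP (LK LD1_c1 LD2_c17 LD3_c55)) :=
  Lre_d IH (LK LD1_c0 LD2_c35 LD3_c58) (LK LD1_c1 LD2_c17 LD3_c55) Lrfl Lrfl
theorem f174127 : Led Lsl_gt (LP (LK LD1_c1 LD2_c17 LD3_c55)) = (LP (LK LD1_c2 LD2_c42 LD3_c46)) :=
  Lre_g IH (LK LD1_c1 LD2_c17 LD3_c55) (LK LD1_c2 LD2_c42 LD3_c46) Lrfl Lrfl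
theorem f174128 : Led Lsl_gt (LP (LK LD1_c1 LD2_c19 LD3_c55)) = (LP (LK LD1_c0 LD2_c36 LD3_c60)) :=
  Lre_g IH (LK LD1_c1 LD2_c19 LD3_c55) (LK LD1_c0 LD2_c36 LD3_c60) Lrfl Lrfl
theorem f174129 : Led Lsl_ct (LP (LK LD1_c2 LD2_c42 LD3_c46)) = (LP (LK LD1_c1 LD2_c19 LD3_c55)) :=
  Lgr Lrot152 (Lpe (f174127 IH) (Lpe (f172327 IH) (Lpr_gt (f174126 IH) (Lpr_ct (f44739 IH) (Lpr_gt (f8441 IH) (Lpr_ct (f168086 IH) (Lpe (f168094 IH) (Lpr_cf (f174110 IH) (Lpe (f174128 IH) (Lpn (LP (LK LD1_c1 LD2_c19 LD3_c55))))))))))))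
theorem f174153 : Led Lsl_dt (LP (LK LD1_c0 LD2_c36 LD3_c60)) = (LP (LK LD1_c0 LD2_c16 LD3_c30)) :=
  Lre_d IH (LK LD1_c0 LD2_c36 LD3_c60) (LK LD1_c0 LD2_c16 LD3_c30) Lrfl Lrfl
theorem f174113 : Led Lsl_dt (LP (LK LD1_c0 LD2_c16 LD3_c2)) = (LP (LK LD1_c0 LD2_c35 LD3_c61)) :=
  Lre_d IH (LK LD1_c0 LD2_c16 LD3_c2) (LK LD1_c0 LD2_c35 LD3_c61) Lrfl Lrfl
theorem f171863 : Led Lsl_gt (LP (LK LD1_c0 LD2_c35 LD3_c59)) = (LP (LK LD1_c0 LD2_c16 LD3_c2)) :=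
  Lre_g IH (LK LD1_c0 LD2_c35 LD3_c59) (LK LD1_c0 LD2_c16 LD3_c2) Lrfl Lrfl
theorem f174154 : Led Lsl_dt (LP (LK LD1_c1 LD2_c17 LD3_c58)) = (LP (LK LD1_c0 LD2_c35 LD3_c59)) :=
  Lre_d IH (LK LD1_c1 LD2_c17 LD3_c58) (LK LD1_c0 LD2_c35 LD3_c59) Lrfl Lrfl
theorem f174155 : Led Lsl_gt (LP (LK LD1_c2 LD2_c42 LD3_c46)) = (LP (LK LD1_c1 LD2_c17 LD3_c58)) :=
  Lgr Lrot180 (Lpr_ct (f174129 IH) (Lpr_gt (f174128 IH) (Lpr_dt (f174153 IH) (Lpr_gt (f68910 IH) (Lpr_dt (f68912 IH) (Lpr_ct (f168298 IH) (Lpe (f174113 IH) (Lpe (f171863 IH) (Lpe (f174154 IH) (Lpn (LP (LK LD1_c1 LD2_c17 LD3_c58))))))))))))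
theorem f174147 : Led Lsl_cf (LP (LK LD1_c2 LD2_c42 LD3_c46)) = (LP (LK LD1_c1 LD2_c19 LD3_c55)) :=
  Lgr Lrot11 (Lpr_ct (f174129 IH) (Lpn (LP (LK LD1_c1 LD2_c19 LD3_c55))))
theorem f172033 : Led Lsl_gt (LP (LK LD1_c0 LD2_c36 LD3_c39)) = (LP (LK LD1_c0 LD2_c54 LD3_c59)) :=
  Lgr Lrot49 (Lpe (f165211 IH) (Lpr_gf (f171864 IH) (Lpr_cf (f165077 IH) (Lpe (f53317 IH) (Lpr_dt (f6809 IH) (Lpr_gt (f6795 IH) (Lpr_dt (K1.f6812 IH) (Lpe (K1.f40723 IH) (Lpe (K1.f41038 IH) (Lpn (LP (LK LD1_c0 LD2_c54 LD3_c59))))))))))))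
theorem f171766 : Led Lsl_gf (LP (LK LD1_c0 LD2_c16 LD3_c27)) = (LP (LK LD1_c0 LD2_c32 LD3_c44)) :=
  Lgr Lrot47 (Lpr_gt (f171757 IH) (Lpr_af (K1.f40716 IH) (Lpe (K1.f40731 IH) (Lpn (LP (LK LD1_c0 LD2_c32 LD3_c44))))))
theorem f171852 : Led Lsl_ct (LP (LK LD1_c0 LD2_c37 LD3_c10)) = (LP (LK LD1_c0 LD2_c16 LD3_c33)) :=
  Lre_c IH (LK LD1_c0 LD2_c37 LD3_c10) (LK LD1_c0 LD2_c16 LD3_c33) Lrfl Lrfl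
theorem f44741 : Led Lsl_gt (LP (LK LD1_c1 LD2_c18 LD3_c3)) = (LP (LK LD1_c0 LD2_c37 LD3_c10)) :=
  Lre_g IH (LK LD1_c1 LD2_c18 LD3_c3) (LK LD1_c0 LD2_c37 LD3_c10) Lrfl Lrfl
theorem f172139 : Led Lsl_ct (LP (LK LD1_c0 LD2_c36 LD3_c39)) = (LP (LK LD1_c1 LD2_c18 LD3_c3)) :=
  Lgr Lrot152 (Lpr_gf (f172135 IH) (Lpe (K1.f40736 IH) (Lpe (f171766 IH) (Lpr_ct (f171768 IH) (Lpr_gt (K0.f9501 IH) (Lpr_ct (f165207 IH) (Lpe (f165204 IH) (Lpe (f171852 IH) (Lpe (f44741 IH) (Lpn (LP (LK LD1_c1 LD2_c18 LD3_c3))))))))))))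
theorem f44740 : Led Lsl_dt (LP (LK LD1_c0 LD2_c37 LD3_c10)) = (LP (LK LD1_c1 LD2_c3 LD3_c2)) :=
  Lre_d IH (LK LD1_c0 LD2_c37 LD3_c10) (LK LD1_c1 LD2_c3 LD3_c2) Lrfl Lrfl
theorem f172294 : Led Lsl_gt (LP (LK LD1_c1 LD2_c3 LD3_c2)) = (LP (LK LD1_c0 LD2_c35 LD3_c59)) :=
  Lre_g IH (LK LD1_c1 LD2_c3 LD3_c2) (LK LD1_c0 LD2_c35 LD3_c59) Lrfl Lrfl
theorem f172295 : Led Lsl_dt (LP (LK LD1_c0 LD2_c35 LD3_c59)) = (LP (LK LD1_c1 LD2_c17 LD3_c58)) :=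
  Lre_d IH (LK LD1_c0 LD2_c35 LD3_c59) (LK LD1_c1 LD2_c17 LD3_c58) Lrfl Lrfl
theorem f171300 : Led Lsl_dt (LP (LK LD1_c0 LD2_c16 LD3_c23)) = (LP (LK LD1_c0 LD2_c36 LD3_c42)) :=
  Lre_d IH (LK LD1_c0 LD2_c16 LD3_c23) (LK LD1_c0 LD2_c36 LD3_c42) Lrfl Lrfl
theorem f172296 : Led Lsl_ct (LP (LK LD1_c1 LD2_c17 LD3_c58)) = (LP (LK LD1_c0 LD2_c36 LD3_c42)) :=
  Lgr Lrot7 (Lpe (f172295 IH) (Lpe (f172294 IH) (Lpe (f44740 IH) (Lpe (f44741 IH) (Lpe (f172139 IH) (Lpr_gt (f172033 IH) (Lpr_dt (K1.f41038 IH) (Lpr_gt (f172291 IH) (Lpr_dt (f171300 IH) (Lpn (LP (LK LD1_c0 LD2_c36 LD3_c42))))))))))))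
theorem f172420 : Led Lsl_dt (LP (LK LD1_c0 LD2_c37 LD3_c1)) = (LP (LK LD1_c0 LD2_c16 LD3_c31)) :=
  Lre_d IH (LK LD1_c0 LD2_c37 LD3_c1) (LK LD1_c0 LD2_c16 LD3_c31) Lrfl Lrfl
theorem f174220 : Led Lsl_gf (LP (LK LD1_c1 LD2_c19 LD3_c55)) = (LP (LK LD1_c0 LD2_c37 LD3_c1)) :=
  Lgr Lrot147 (Lpe (f174147 IH) (Lpr_gt (f174155 IH) (Lpr_ct (f172296 IH) (Lpe (f171300 IH) (Lpe (f171299 IH) (Lpe (f60166 IH) (Lpe (f165203 IH) (Lpe (f168534 IH) (Lpe (f172420 IH) (Lpn (LP (LK LD1_c0 LD2_c37 LD3_c1))))))))))))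
theorem f178876 : Led Lsl_df (LP (LK LD1_c1 LD2_c3 LD3_c12)) = (LP (LK LD1_c1 LD2_c19 LD3_c55)) :=
  Lgr Lrot84 (Lpe (f20686 IH) (Lpr_df (f20684 IH) (Lpr_gf (f178869 IH) (Lpe (f9462 IH) (Lpe (K0.f9459 IH) (Lpe (f172307 IH) (Lpr_gt (f172409 IH) (Lpr_dt (f172843 IH) (Lpe (f174220 IH) (Lpn (LP (LK LD1_c1 LD2_c19 LD3_c55))))))))))))
theorem f178883 : Led Lsl_dt (LP (LK LD1_c1 LD2_c3 LD3_c12)) = (LP (LK LD1_c1 LD2_c19 LD3_c55)) :=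
  Lgr Lrot42 (Lpr_df (f178876 IH) (Lpn (LP (LK LD1_c1 LD2_c19 LD3_c55))))
theorem f165143 : Led Lsl_ct (LP (LK LD1_c0 LD2_c54 LD3_c49)) = (LP (LK LD1_c0 LD2_c24 LD3_c46)) :=
  Lre_c IH (LK LD1_c0 LD2_c54 LD3_c49) (LK LD1_c0 LD2_c24 LD3_c46) Lrfl Lrfl
theorem f178952 : Led Lsl_gf (LP (LK LD1_c1 LD2_c3 LD3_c12)) = (LP (LK LD1_c0 LD2_c54 LD3_c49)) :=
  Lgr Lrot144 (Lpr_dt (f178883 IH) (Lpr_gt (f174128 IH) (Lpr_dt (f174153 IH) (Lpe (f174953 IH) (Lpr_df (f178473 IH) (Lpe (f53314 IH) (Lpe (f53174 IH) (Lpe (f40819 IH) (Lpe (f165143 IH) (Lpn (LP (LK LD1_c0 LD2_c54 LD3_c49))))))))))))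
theorem f20692 : Led Lsl_ct (LP (LK LD1_c1 LD2_c3 LD3_c12)) = (LP (LK LD1_c0 LD2_c28 LD3_c49)) :=
  Lre_c IH (LK LD1_c1 LD2_c3 LD3_c12) (LK LD1_c0 LD2_c28 LD3_c49) Lrfl Lrfl
theorem f169303 : Led Lsl_gt (LP (LK LD1_c1 LD2_c3 LD3_c50)) = (LP (LK LD1_c0 LD2_c37 LD3_c12)) :=
  Lre_g IH (LK LD1_c1 LD2_c3 LD3_c50) (LK LD1_c0 LD2_c37 LD3_c12) Lrfl Lrfl
theorem f169302 : Led Lsl_ct (LP (LK LD1_c0 LD2_c37 LD3_c12)) = (LP (LK LD1_c1 LD2_c3 LD3_c1)) :=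
  Lre_c IH (LK LD1_c0 LD2_c37 LD3_c12) (LK LD1_c1 LD2_c3 LD3_c1) Lrfl Lrfl
theorem f9232 : Led Lsl_gt (LP (LK LD1_c1 LD2_c3 LD3_c1)) = (LP (LK LD1_c2 LD2_c12 LD3_c15)) :=
  Lre_g IH (LK LD1_c1 LD2_c3 LD3_c1) (LK LD1_c2 LD2_c12 LD3_c15) Lrfl Lrfl
theorem f41096 : Led Lsl_gf (LP (LK LD1_c0 LD2_c54 LD3_c48)) = (LP (LK LD1_c0 LD2_c32 LD3_c24)) :=
  Lgr Lrot76 (Lpr_af (K1.f41072 IH) (Lpe (K1.f41071 IH) (Lpr_gt (f3105 IH) (Lpn (LP (LK LD1_c0 LD2_c32 LD3_c24))))))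
theorem f167911 : Led Lsl_cf (LP (LK LD1_c0 LD2_c32 LD3_c24)) = (LP (LK LD1_c1 LD2_c2 LD3_c60)) :=
  Lgr Lrot11 (Lpr_ct (f167841 IH) (Lpn (LP (LK LD1_c1 LD2_c2 LD3_c60))))
theorem f165037 : Led Lsl_gt (LP (LK LD1_c0 LD2_c28 LD3_c43)) = (LP (LK LD1_c1 LD2_c2 LD3_c60)) :=
  Lre_g IH (LK LD1_c0 LD2_c28 LD3_c43) (LK LD1_c1 LD2_c2 LD3_c60) Lrfl Lrfl
theorem f168797 : Led Lsl_dt (LP (LK LD1_c1 LD2_c3 LD3_c1)) = (LP (LK LD1_c0 LD2_c28 LD3_c43)) :=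
  Lre_d IH (LK LD1_c1 LD2_c3 LD3_c1) (LK LD1_c0 LD2_c28 LD3_c43) Lrfl Lrfl
theorem f40728 : Led Lsl_at (LP (LK LD1_c0 LD2_c54 LD3_c59)) = (LP (LK LD1_c0 LD2_c32 LD3_c43)) :=
  Lgr Lrot51 (Lpe (f35536 IH) (Lpr_af (K1.f40716 IH) (Lpe (K1.f40727 IH) (Lpn (LP (LK LD1_c0 LD2_c32 LD3_c43))))))
theorem f168848 : Led Lsl_gf (LP (LK LD1_c0 LD2_c32 LD3_c43)) = (LP (LK LD1_c1 LD2_c3 LD3_c26)) :=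
  Lgr Lrot76 (Lpe (f40728 IH) (Lpe (f40859 IH) (Lpr_gt (f168832 IH) (Lpn (LP (LK LD1_c1 LD2_c3 LD3_c26))))))
theorem f173081 : Led Lsl_ct (LP (LK LD1_c2 LD2_c12 LD3_c15)) = (LP (LK LD1_c1 LD2_c3 LD3_c26)) :=
  Lgr Lrot186 (Lpe (f9232 IH) (Lpr_dt (f168797 IH) (Lpr_gt (f165037 IH) (Lpe (f167911 IH) (Lpe (f41096 IH) (Lpr_ct (f173074 IH) (Lpe (f173067 IH) (Lpe (K1.f40983 IH) (Lpr_gf (f168848 IH) (Lpn (LP (LK LD1_c1 LD2_c3 LD3_c26))))))))))))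
theorem f168836 : Led Lsl_dt (LP (LK LD1_c0 LD2_c28 LD3_c58)) = (LP (LK LD1_c1 LD2_c3 LD3_c26)) :=
  Lre_d IH (LK LD1_c0 LD2_c28 LD3_c58) (LK LD1_c1 LD2_c3 LD3_c26) Lrfl Lrfl
theorem f168834 : Led Lsl_ct (LP (LK LD1_c0 LD2_c12 LD3_c47)) = (LP (LK LD1_c0 LD2_c28 LD3_c58)) :=
  Lre_c IH (LK LD1_c0 LD2_c12 LD3_c47) (LK LD1_c0 LD2_c28 LD3_c58) Lrfl Lrfl
theorem f178954 : Led Lsl_gt (LP (LK LD1_c0 LD2_c28 LD3_c49)) = (LP (LK LD1_c0 LD2_c12 LD3_c47)) :=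
  Lgr Lrot150 (Lpe (f20692 IH) (Lpr_gf (f178952 IH) (Lpr_df (f174531 IH) (Lpr_gt (f169303 IH) (Lpr_ct (f169302 IH) (Lpr_gt (f9232 IH) (Lpr_ct (f173081 IH) (Lpe (f168836 IH) (Lpe (f168834 IH) (Lpn (LP (LK LD1_c0 LD2_c12 LD3_c47))))))))))))
theorem f9499 : Led Lsl_ef (LP (LK LD1_c0 LD2_c16 LD3_c28)) = (LP (LK LD1_c0 LD2_c13 LD3_c11)) :=
  Lgr Lrot88 (Lpr_et (K0.f9483 IH) (Lpn (LP (LK LD1_c0 LD2_c13 LD3_c11))))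
theorem f164681 : Led Lsl_et (LP (LK LD1_c0 LD2_c33 LD3_c22)) = (LP (LK LD1_c0 LD2_c36 LD3_c47)) :=
  Lgr Lrot87 (Lpr_ef (f164676 IH) (Lpn (LP (LK LD1_c0 LD2_c36 LD3_c47))))
theorem f60172 : Led Lsl_et (LP (LK LD1_c0 LD2_c7 LD3_c21)) = (LP (LK LD1_c0 LD2_c16 LD3_c25)) :=
  Lre_e IH (LK LD1_c0 LD2_c7 LD3_c21) (LK LD1_c0 LD2_c16 LD3_c25) Lrfl Lrfl
theorem f9485 : Led Lsl_dt (LP (LK LD1_c0 LD2_c16 LD3_c24)) = (LP (LK LD1_c0 LD2_c7 LD3_c21)) :=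
  Lre_d IH (LK LD1_c0 LD2_c16 LD3_c24) (LK LD1_c0 LD2_c7 LD3_c21) Lrfl Lrfl
theorem f164678 : Led Lsl_et (LP (LK LD1_c0 LD2_c31 LD3_c39)) = (LP (LK LD1_c0 LD2_c16 LD3_c24)) :=
  Lre_e IH (LK LD1_c0 LD2_c31 LD3_c39) (LK LD1_c0 LD2_c16 LD3_c24) Lrfl Lrfl
theorem f164679 : Led Lsl_dt (LP (LK LD1_c0 LD2_c33 LD3_c22)) = (LP (LK LD1_c0 LD2_c31 LD3_c39)) :=
  Lgr Lrot77 (Lpr_ef (f164676 IH) (Lpe (f9458 IH) (Lpe (f60172 IH) (Lpe (f9485 IH) (Lpe (f164678 IH) (Lpn (LP (LK LD1_c0 LD2_c31 LD3_c39))))))))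
theorem f164685 : Led Lsl_gt (LP (LK LD1_c0 LD2_c31 LD3_c39)) = (LP (LK LD1_c0 LD2_c14 LD3_c2)) :=
  Lre_g IH (LK LD1_c0 LD2_c31 LD3_c39) (LK LD1_c0 LD2_c14 LD3_c2) Lrfl Lrfl
theorem f20679 : Led Lsl_dt (LP (LK LD1_c0 LD2_c15 LD3_c22)) = (LP (LK LD1_c0 LD2_c14 LD3_c2)) :=
  Lre_d IH (LK LD1_c0 LD2_c15 LD3_c22) (LK LD1_c0 LD2_c14 LD3_c2) Lrfl Lrfl
theorem f20701 : Led Lsl_et (LP (LK LD1_c0 LD2_c15 LD3_c22)) = (LP (LK LD1_c0 LD2_c34 LD3_c15)) :=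
  Lre_e IH (LK LD1_c0 LD2_c15 LD3_c22) (LK LD1_c0 LD2_c34 LD3_c15) Lrfl Lrfl
theorem f164686 : Led Lsl_gt (LP (LK LD1_c0 LD2_c34 LD3_c15)) = (LP (LK LD1_c0 LD2_c29 LD3_c52)) :=
  Lgr Lrot137 (Lpe (f20701 IH) (Lpr_dt (f20679 IH) (Lpe (f164685 IH) (Lpe (f164679 IH) (Lpr_et (f164681 IH) (Lpe (f22409 IH) (Lpe (K0.f9508 IH) (Lpr_dt (K0.f8508 IH) (Lpe (K0.f9482 IH) (Lpe (f8413 IH) (Lpn (LP (LK LD1_c0 LD2_c29 LD3_c52)))))))))))))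
theorem f2882 : Led Lsl_et (LP (LK LD1_c0 LD2_c14 LD3_c2)) = (LP (LK LD1_c0 LD2_c6 LD3_c24)) :=
  Lre_e IH (LK LD1_c0 LD2_c14 LD3_c2) (LK LD1_c0 LD2_c6 LD3_c24) Lrfl Lrfl
theorem f20537 : Led Lsl_et (LP (LK LD1_c0 LD2_c34 LD3_c15)) = (LP (LK LD1_c0 LD2_c15 LD3_c22)) :=
  Lre_e IH (LK LD1_c0 LD2_c34 LD3_c15) (LK LD1_c0 LD2_c15 LD3_c22) Lrfl Lrfl
theorem f20680 : Led Lsl_dt (LP (LK LD1_c0 LD2_c28 LD3_c53)) = (LP (LK LD1_c0 LD2_c34 LD3_c15)) :=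
  Lgr Lrot77 (Lpr_ef (f20676 IH) (Lpe (f264 IH) (Lpe (f2882 IH) (Lpe (f20679 IH) (Lpe (f20537 IH) (Lpn (LP (LK LD1_c0 LD2_c34 LD3_c15))))))))
theorem f20682 : Led Lsl_et (LP (LK LD1_c0 LD2_c28 LD3_c53)) = (LP (LK LD1_c0 LD2_c14 LD3_c1)) :=
  Lgr Lrot87 (Lpr_ef (f20676 IH) (Lpn (LP (LK LD1_c0 LD2_c14 LD3_c1))))
theorem f174634 : Led Lsl_et (LP (LK LD1_c0 LD2_c5 LD3_c49)) = (LP (LK LD1_c0 LD2_c12 LD3_c48)) :=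
  Lre_e IH (LK LD1_c0 LD2_c5 LD3_c49) (LK LD1_c0 LD2_c12 LD3_c48) Lrfl Lrfl
theorem f178973 : Led Lsl_gf (LP (LK LD1_c0 LD2_c14 LD3_c1)) = (LP (LK LD1_c0 LD2_c12 LD3_c48)) :=
  Lgr Lrot141 (Lpe (f20682 IH) (Lpr_dt (f20680 IH) (Lpr_gt (f164686 IH) (Lpe (f8385 IH) (Lpe (f9499 IH) (Lpe (f178869 IH) (Lpe (f20684 IH) (Lpr_gt (f178954 IH) (Lpe (f20593 IH) (Lpr_et (f174634 IH) (Lpn (LP (LK LD1_c0 LD2_c12 LD3_c48)))))))))))))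
theorem f20700 : Led Lsl_et (LP (LK LD1_c0 LD2_c6 LD3_c24)) = (LP (LK LD1_c0 LD2_c14 LD3_c2)) :=
  Lre_e IH (LK LD1_c0 LD2_c6 LD3_c24) (LK LD1_c0 LD2_c14 LD3_c2) Lrfl Lrfl
theorem f20594 : Led Lsl_dt (LP (LK LD1_c0 LD2_c28 LD3_c59)) = (LP (LK LD1_c0 LD2_c12 LD3_c48)) :=
  Lre_d IH (LK LD1_c0 LD2_c28 LD3_c59) (LK LD1_c0 LD2_c12 LD3_c48) Lrfl Lrfl
theorem f6847 : Led Lsl_et (LP (LK LD1_c0 LD2_c12 LD3_c48)) = (LP (LK LD1_c0 LD2_c5 LD3_c49)) :=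
  Lre_e IH (LK LD1_c0 LD2_c12 LD3_c48) (LK LD1_c0 LD2_c5 LD3_c49) Lrfl Lrfl
theorem f6848 : Led Lsl_dt (LP (LK LD1_c0 LD2_c12 LD3_c48)) = (LP (LK LD1_c0 LD2_c28 LD3_c59)) :=
  Lre_d IH (LK LD1_c0 LD2_c12 LD3_c48) (LK LD1_c0 LD2_c28 LD3_c59) Lrfl Lrfl
theorem f21240 : Led Lsl_gf (LP (LK LD1_c0 LD2_c28 LD3_c59)) = (LP (LK LD1_c0 LD2_c14 LD3_c14)) :=
  Lgr Lrot145 (Lpe (f6848 IH) (Lpr_et (f6847 IH) (Lpr_gt (K0.f6846 IH) (Lpr_dt (f20623 IH) (Lpr_gt (f20212 IH) (Lpe (f20222 IH) (Lpr_et (f21235 IH) (Lpr_gt (f21234 IH) (Lpe (f3079 IH) (Lpr_dt (K0.f3061 IH) (Lpn (LP (LK LD1_c0 LD2_c14 LD3_c14)))))))))))))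
theorem f164300 : Led Lsl_gf (LP (LK LD1_c0 LD2_c17 LD3_c4)) = (LP (LK LD1_c0 LD2_c29 LD3_c30)) :=
  Lgr Lrot76 (Lpr_af (f164257 IH) (Lpe (K7.f20317 IH) (Lpr_gt (f20321 IH) (Lpn (LP (LK LD1_c0 LD2_c29 LD3_c30))))))
theorem f21266 : Led Lsl_et (LP (LK LD1_c0 LD2_c33 LD3_c33)) = (LP (LK LD1_c0 LD2_c15 LD3_c3)) :=
  Lre_e IH (LK LD1_c0 LD2_c33 LD3_c33) (LK LD1_c0 LD2_c15 LD3_c3) Lrfl Lrfl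
theorem f8391 : Led Lsl_dt (LP (LK LD1_c0 LD2_c16 LD3_c12)) = (LP (LK LD1_c0 LD2_c7 LD3_c16)) :=
  Lre_d IH (LK LD1_c0 LD2_c16 LD3_c12) (LK LD1_c0 LD2_c7 LD3_c16) Lrfl Lrfl
theorem f164302 : Led Lsl_gt (LP (LK LD1_c0 LD2_c36 LD3_c23)) = (LP (LK LD1_c1 LD2_c3 LD3_c19)) :=
  Lgr Lrot137 (Lpe (f21265 IH) (Lpr_dt (f8391 IH) (Lpe (K0.f3073 IH) (Lpr_df (f21252 IH) (Lpr_et (f21266 IH) (Lpr_gf (f164170 IH) (Lpe (f164298 IH) (Lpe (f24424 IH) (Lpr_gf (f164300 IH) (Lpe (f26629 IH) (Lpn (LP (LK LD1_c1 LD2_c3 LD3_c19)))))))))))))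
theorem f26651 : Led Lsl_ef (LP (LK LD1_c1 LD2_c3 LD3_c19)) = (LP (LK LD1_c1 LD2_c24 LD3_c45)) :=
  Lgr Lrot88 (Lpr_et (f26633 IH) (Lpn (LP (LK LD1_c1 LD2_c24 LD3_c45))))
theorem f22425 : Led Lsl_dt (LP (LK LD1_c1 LD2_c4 LD3_c6)) = (LP (LK LD1_c1 LD2_c24 LD3_c45)) :=
  Lre_d IH (LK LD1_c1 LD2_c4 LD3_c6) (LK LD1_c1 LD2_c24 LD3_c45) Lrfl Lrfl
theorem f26657 : Led Lsl_et (LP (LK LD1_c0 LD2_c29 LD3_c16)) = (LP (LK LD1_c1 LD2_c4 LD3_c6)) :=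
  Lre_e IH (LK LD1_c0 LD2_c29 LD3_c16) (LK LD1_c1 LD2_c4 LD3_c6) Lrfl Lrfl
theorem f26658 : Led Lsl_et (LP (LK LD1_c0 LD2_c29 LD3_c30)) = (LP (LK LD1_c1 LD2_c4 LD3_c5)) :=
  Lgr Lrot71 (Lpe (f26629 IH) (Lpr_ef (f26651 IH) (Lpe (f22425 IH) (Lpe (f26657 IH) (Lpe (f26622 IH) (Lpn (LP (LK LD1_c1 LD2_c4 LD3_c5))))))))
theorem f26674 : Led Lsl_gt (LP (LK LD1_c0 LD2_c39 LD3_c27)) = (LP (LK LD1_c1 LD2_c4 LD3_c5)) :=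
  Lgr Lrot131 (Lpe (f20730 IH) (Lpr_dt (f20636 IH) (Lpe (f20625 IH) (Lpe (K0.f9026 IH) (Lpe (f6969 IH) (Lpe (f20728 IH) (Lpe (f20668 IH) (Lpe (f20729 IH) (Lpr_df (f26625 IH) (Lpr_et (f26658 IH) (Lpn (LP (LK LD1_c1 LD2_c4 LD3_c5)))))))))))))
theorem f20773 : Led Lsl_dt (LP (LK LD1_c1 LD2_c5 LD3_c16)) = (LP (LK LD1_c0 LD2_c29 LD3_c48)) :=
  Lre_d IH (LK LD1_c1 LD2_c5 LD3_c16) (LK LD1_c0 LD2_c29 LD3_c48) Lrfl Lrfl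
theorem f26681 : Led Lsl_gf (LP (LK LD1_c1 LD2_c5 LD3_c16)) = (LP (LK LD1_c1 LD2_c4 LD3_c6)) :=
  Lgr Lrot138 (Lpr_dt (f20773 IH) (Lpr_gt (K0.f20585 IH) (Lpe (f9372 IH) (Lpr_et (f20234 IH) (Lpr_gt (f20649 IH) (Lpe (f20767 IH) (Lpr_dt (f20638 IH) (Lpr_gt (f26674 IH) (Lpe (f26631 IH) (Lpr_et (f26657 IH) (Lpn (LP (LK LD1_c1 LD2_c4 LD3_c6)))))))))))))
theorem f20583 : Led Lsl_ef (LP (LK LD1_c0 LD2_c17 LD3_c43)) = (LP (LK LD1_c0 LD2_c29 LD3_c48)) :=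
  Lgr Lrot88 (Lpr_et (K0.f20570 IH) (Lpn (LP (LK LD1_c0 LD2_c29 LD3_c48))))
theorem f164304 : Led Lsl_gf (LP (LK LD1_c0 LD2_c33 LD3_c33)) = (LP (LK LD1_c0 LD2_c17 LD3_c43)) :=
  Lgr Lrot138 (Lpe (f21252 IH) (Lpr_gt (K0.f3073 IH) (Lpe (f8391 IH) (Lpr_et (f21265 IH) (Lpr_gt (f164302 IH) (Lpr_ef (f26651 IH) (Lpr_dt (f26632 IH) (Lpe (f26681 IH) (Lpe (f20582 IH) (Lpe (f20583 IH) (Lpn (LP (LK LD1_c0 LD2_c17 LD3_c43)))))))))))))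
theorem f9081 : Led Lsl_dt (LP (LK LD1_c0 LD2_c7 LD3_c58)) = (LP (LK LD1_c0 LD2_c17 LD3_c43)) :=
  Lre_d IH (LK LD1_c0 LD2_c7 LD3_c58) (LK LD1_c0 LD2_c17 LD3_c43) Lrfl Lrfl
theorem f164308 : Led Lsl_et (LP (LK LD1_c0 LD2_c7 LD3_c58)) = (LP (LK LD1_c0 LD2_c17 LD3_c44)) :=
  Lre_e IH (LK LD1_c0 LD2_c7 LD3_c58) (LK LD1_c0 LD2_c17 LD3_c44) Lrfl Lrfl
theorem f178979 : Led Lsl_gt (LP (LK LD1_c0 LD2_c14 LD3_c2)) = (LP (LK LD1_c0 LD2_c17 LD3_c44)) :=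
  Lgr Lrot131 (Lpe (f20700 IH) (Lpr_dt (f264 IH) (Lpr_gf (f178973 IH) (Lpe (f20594 IH) (Lpr_gf (f21240 IH) (Lpe (K0.f3077 IH) (Lpr_dt (f21262 IH) (Lpr_gf (f164304 IH) (Lpe (f9081 IH) (Lpr_et (f164308 IH) (Lpn (LP (LK LD1_c0 LD2_c17 LD3_c44)))))))))))))
theorem f163705 : Led Lsl_gt (LP (LK LD1_c0 LD2_c14 LD3_c60)) = (LP (LK LD1_c0 LD2_c33 LD3_c21)) :=
  Lre_g IH (LK LD1_c0 LD2_c14 LD3_c60) (LK LD1_c0 LD2_c33 LD3_c21) Lrfl Lrfl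
theorem f177165 : Led Lsl_ef (LP (LK LD1_c0 LD2_c33 LD3_c21)) = (LP (LK LD1_c1 LD2_c5 LD3_c16)) :=
  Lgr Lrot17 (Lpe (f163705 IH) (Lpe (f164721 IH) (Lpr_dt (K0.f7881 IH) (Lpr_gf (f177160 IH) (Lpe (f20632 IH) (Lpe (f20649 IH) (Lpe (f20234 IH) (Lpr_dt (f9372 IH) (Lpe (K0.f20585 IH) (Lpe (f20773 IH) (Lpn (LP (LK LD1_c1 LD2_c5 LD3_c16)))))))))))))
theorem f20581 : Led Lsl_et (LP (LK LD1_c0 LD2_c17 LD3_c44)) = (LP (LK LD1_c0 LD2_c7 LD3_c58)) :=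
  Lre_e IH (LK LD1_c0 LD2_c17 LD3_c44) (LK LD1_c0 LD2_c7 LD3_c58) Lrfl Lrfl
theorem f177171 : Led Lsl_dt (LP (LK LD1_c0 LD2_c33 LD3_c21)) = (LP (LK LD1_c0 LD2_c17 LD3_c44)) :=
  Lgr Lrot77 (Lpr_ef (f177165 IH) (Lpe (f20582 IH) (Lpe (K0.f20570 IH) (Lpe (f9081 IH) (Lpe (f20581 IH) (Lpn (LP (LK LD1_c0 LD2_c17 LD3_c44))))))))
theorem f177173 : Led Lsl_et (LP (LK LD1_c0 LD2_c33 LD3_c21)) = (LP (LK LD1_c1 LD2_c5 LD3_c16)) :=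
  Lgr Lrot87 (Lpr_ef (f177165 IH) (Lpn (LP (LK LD1_c1 LD2_c5 LD3_c16))))
theorem f178987 : Led Lsl_gf (LP (LK LD1_c0 LD2_c15 LD3_c22)) = (LP (LK LD1_c0 LD2_c15 LD3_c5)) :=
  Lgr Lrot138 (Lpr_dt (f20679 IH) (Lpr_gt (f178979 IH) (Lpe (f177171 IH) (Lpr_et (f177173 IH) (Lpr_gt (f176810 IH) (Lpe (f24243 IH) (Lpe (f24241 IH) (Lpr_gt (f177138 IH) (Lpe (f164255 IH) (Lpe (f164247 IH) (Lpn (LP (LK LD1_c0 LD2_c15 LD3_c5)))))))))))))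
theorem f2883 : Led Lsl_dt (LP (LK LD1_c0 LD2_c14 LD3_c2)) = (LP (LK LD1_c0 LD2_c15 LD3_c22)) :=
  Lre_d IH (LK LD1_c0 LD2_c14 LD3_c2) (LK LD1_c0 LD2_c15 LD3_c22) Lrfl Lrfl
theorem f2159 : Led Lsl_gt (LP (LK LD1_c0 LD2_c6 LD3_c24)) = (LP (LK LD1_c0 LD2_c6 LD3_c35)) :=
  Lgr Lrot46 (Lpe (f263 IH) (Lpr_ft (K0.f258 IH) (Lpr_at (K0.f2136 IH) (Lpn (LP (LK LD1_c0 LD2_c6 LD3_c35))))))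
theorem f2138 : Led Lsl_gf (LP (LK LD1_c0 LD2_c6 LD3_c25)) = (LP (LK LD1_c0 LD2_c6 LD3_c35)) :=
  Lgr Lrot47 (Lpr_gt (f262 IH) (Lpr_af (K0.f2122 IH) (Lpe (K0.f2135 IH) (Lpn (LP (LK LD1_c0 LD2_c6 LD3_c35))))))
theorem f266 : Led Lsl_dt (LP (LK LD1_c0 LD2_c14 LD3_c3)) = (LP (LK LD1_c0 LD2_c6 LD3_c25)) :=
  Lre_d IH (LK LD1_c0 LD2_c14 LD3_c3) (LK LD1_c0 LD2_c6 LD3_c25) Lrfl Lrfl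
theorem f179005 : Led Lsl_et (LP (LK LD1_c0 LD2_c14 LD3_c3)) = (LP (LK LD1_c0 LD2_c6 LD3_c58)) :=
  Lgr Lrot185 (Lpr_dt (f266 IH) (Lpr_gf (f2138 IH) (Lpr_df (K0.f2155 IH) (Lpe (f2159 IH) (Lpe (f2882 IH) (Lpr_dt (f2883 IH) (Lpr_gf (f178987 IH) (Lpe (K8.f3153 IH) (Lpe (f164183 IH) (Lpr_gf (f165494 IH) (Lpn (LP (LK LD1_c0 LD2_c6 LD3_c58)))))))))))))
theorem f179009 : Led Lsl_ef (LP (LK LD1_c0 LD2_c14 LD3_c3)) = (LP (LK LD1_c0 LD2_c6 LD3_c58)) :=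
  Lgr Lrot88 (Lpr_et (f179005 IH) (Lpn (LP (LK LD1_c0 LD2_c6 LD3_c58))))
theorem f22102 : Led Lsl_dt (LP (LK LD1_c0 LD2_c6 LD3_c58)) = (LP (LK LD1_c0 LD2_c15 LD3_c16)) :=
  Lre_d IH (LK LD1_c0 LD2_c6 LD3_c58) (LK LD1_c0 LD2_c15 LD3_c16) Lrfl Lrfl
theorem f177152 : Led Lsl_df (LP (LK LD1_c0 LD2_c34 LD3_c1)) = (LP (LK LD1_c0 LD2_c31 LD3_c58)) :=
  Lgr Lrot70 (Lpr_et (f177150 IH) (Lpe (f20219 IH) (Lpr_et (f20213 IH) (Lpr_dt (f20237 IH) (Lpr_et (f21235 IH) (Lpn (LP (LK LD1_c0 LD2_c31 LD3_c58))))))))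
theorem f9463 : Led Lsl_at (LP (LK LD1_c0 LD2_c3 LD3_c19)) = (LP (LK LD1_c0 LD2_c5 LD3_c51)) :=
  Lre_a IH (LK LD1_c0 LD2_c3 LD3_c19) (LK LD1_c0 LD2_c5 LD3_c51) Lrfl Lrfl
theorem f9464 : Led Lsl_at (LP (LK LD1_c0 LD2_c5 LD3_c51)) = (LP (LK LD1_c0 LD2_c3 LD3_c19)) :=
  Lre_a IH (LK LD1_c0 LD2_c5 LD3_c51) (LK LD1_c0 LD2_c3 LD3_c19) Lrfl Lrfl
theorem f9465 : Led Lsl_ef (LP (LK LD1_c0 LD2_c3 LD3_c19)) = (LP (LK LD1_c0 LD2_c3 LD3_c19)) :=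
  Lgr Lrot20 (Lpr_at (f9463 IH) (Lpr_et (K0.f9445 IH) (Lpr_at (f9464 IH) (Lpn (LP (LK LD1_c0 LD2_c3 LD3_c19))))))
theorem f164719 : Led Lsl_gf (LP (LK LD1_c0 LD2_c14 LD3_c16)) = (LP (LK LD1_c0 LD2_c28 LD3_c59)) :=
  Lgr Lrot145 (Lpe (f3085 IH) (Lpr_et (K0.f7896 IH) (Lpr_gt (f164705 IH) (Lpr_dt (f20222 IH) (Lpr_gt (f20230 IH) (Lpe (f20650 IH) (Lpe (f9465 IH) (Lpr_gt (K0.f20232 IH) (Lpe (f6847 IH) (Lpr_dt (f6848 IH) (Lpn (LP (LK LD1_c0 LD2_c28 LD3_c59)))))))))))))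
theorem f179015 : Led Lsl_gt (LP (LK LD1_c0 LD2_c14 LD3_c3)) = (LP (LK LD1_c0 LD2_c12 LD3_c48)) :=
  Lgr Lrot137 (Lpr_ef (f179009 IH) (Lpr_dt (f22102 IH) (Lpe (f165497 IH) (Lpr_df (f177152 IH) (Lpe (f21238 IH) (Lpe (f164705 IH) (Lpe (K0.f7896 IH) (Lpr_dt (f3085 IH) (Lpr_gf (f164719 IH) (Lpe (f6848 IH) (Lpn (LP (LK LD1_c0 LD2_c12 LD3_c48)))))))))))))
theorem f6822 : Led Lsl_ct (LP (LK LD1_c0 LD2_c27 LD3_c27)) = (LP (LK LD1_c0 LD2_c12 LD3_c9)) :=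
  Lre_c IH (LK LD1_c0 LD2_c27 LD3_c27) (LK LD1_c0 LD2_c12 LD3_c9) Lrfl Lrfl
theorem f21242 : Led Lsl_ct (LP (LK LD1_c0 LD2_c12 LD3_c48)) = (LP (LK LD1_c0 LD2_c28 LD3_c57)) :=
  Lre_c IH (LK LD1_c0 LD2_c12 LD3_c48) (LK LD1_c0 LD2_c28 LD3_c57) Lrfl Lrfl
theorem f179017 : Led Lsl_gf (LP (LK LD1_c0 LD2_c27 LD3_c27)) = (LP (LK LD1_c0 LD2_c28 LD3_c57)) :=
  Lgr Lrot104 (Lpr_ct (f6822 IH) (Lpe (f6797 IH) (Lpe (f53135 IH) (Lpr_gf (f171185 IH) (Lpe (K0.f253 IH) (Lpe (f262 IH) (Lpe (f266 IH) (Lpr_gt (f179015 IH) (Lpr_ct (f21242 IH) (Lpn (LP (LK LD1_c0 LD2_c28 LD3_c57))))))))))))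
theorem f6805 : Led Lsl_ct (LP (LK LD1_c0 LD2_c27 LD3_c26)) = (LP (LK LD1_c1 LD2_c0 LD3_c26)) :=
  Lre_c IH (LK LD1_c0 LD2_c27 LD3_c26) (LK LD1_c1 LD2_c0 LD3_c26) Lrfl Lrfl
theorem f21243 : Led Lsl_ct (LP (LK LD1_c0 LD2_c28 LD3_c57)) = (LP (LK LD1_c0 LD2_c12 LD3_c48)) :=
  Lre_c IH (LK LD1_c0 LD2_c28 LD3_c57) (LK LD1_c0 LD2_c12 LD3_c48) Lrfl Lrfl
theorem f166990 : Led Lsl_dt (LP (LK LD1_c0 LD2_c58 LD3_c42)) = (LP (LK LD1_c0 LD2_c28 LD3_c57)) :=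
  Lgr Lrot105 (Lpe (f166471 IH) (Lpe (f166470 IH) (Lpr_gf (f166464 IH) (Lpe (K0.f2200 IH) (Lpr_gt (K0.f3057 IH) (Lpr_dt (K0.f3061 IH) (Lpe (f21240 IH) (Lpr_dt (f20594 IH) (Lpe (f21243 IH) (Lpn (LP (LK LD1_c0 LD2_c28 LD3_c57))))))))))))
theorem f170610 : Led Lsl_ct (LP (LK LD1_c0 LD2_c58 LD3_c7)) = (LP (LK LD1_c0 LD2_c26 LD3_c23)) :=
  Lre_c IH (LK LD1_c0 LD2_c58 LD3_c7) (LK LD1_c0 LD2_c26 LD3_c23) Lrfl Lrfl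
theorem f170941 : Led Lsl_dt (LP (LK LD1_c0 LD2_c58 LD3_c23)) = (LP (LK LD1_c0 LD2_c58 LD3_c7)) :=
  Lgr Lrot105 (Lpr_gf (f170917 IH) (Lpe (K0.f256 IH) (Lpe (f170939 IH) (Lpe (f53146 IH) (Lpr_gt (f1391 IH) (Lpr_dt (f517 IH) (Lpr_gt (f518 IH) (Lpr_dt (f1413 IH) (Lpe (f170610 IH) (Lpn (LP (LK LD1_c0 LD2_c58 LD3_c7))))))))))))
theorem f170848 : Led Lsl_ct (LP (LK LD1_c0 LD2_c26 LD3_c23)) = (LP (LK LD1_c0 LD2_c58 LD3_c7)) :=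
  Lre_c IH (LK LD1_c0 LD2_c26 LD3_c23) (LK LD1_c0 LD2_c58 LD3_c7) Lrfl Lrfl
theorem f53440 : Led Lsl_gt (LP (LK LD1_c0 LD2_c58 LD3_c6)) = (LP (LK LD1_c0 LD2_c26 LD3_c23)) :=
  Lre_g IH (LK LD1_c0 LD2_c58 LD3_c6) (LK LD1_c0 LD2_c26 LD3_c23) Lrfl Lrfl
theorem f53442 : Led Lsl_ct (LP (LK LD1_c2 LD2_c2 LD3_c25)) = (LP (LK LD1_c0 LD2_c58 LD3_c6)) :=
  Lre_c IH (LK LD1_c2 LD2_c2 LD3_c25) (LK LD1_c0 LD2_c58 LD3_c6) Lrfl Lrfl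
theorem f178343 : Led Lsl_gf (LP (LK LD1_c2 LD2_c2 LD3_c25)) = (LP (LK LD1_c0 LD2_c58 LD3_c56)) :=
  Lgr Lrot147 (Lpr_ct (f53442 IH) (Lpr_gt (f53440 IH) (Lpr_ct (f170848 IH) (Lpe (f170941 IH) (Lpe (f53146 IH) (Lpr_gf (f51540 IH) (Lpe (f51550 IH) (Lpr_gf (f53144 IH) (Lpr_df (f178325 IH) (Lpn (LP (LK LD1_c0 LD2_c58 LD3_c56))))))))))))
theorem f179021 : Led Lsl_dt (LP (LK LD1_c1 LD2_c0 LD3_c26)) = (LP (LK LD1_c0 LD2_c58 LD3_c6)) :=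
  Lgr Lrot27 (Lpe (f6805 IH) (Lpe (f6798 IH) (Lpe (f6822 IH) (Lpr_gf (f179017 IH) (Lpe (f166990 IH) (Lpr_gt (f178305 IH) (Lpr_ct (f166578 IH) (Lpe (f178343 IH) (Lpr_ct (f53442 IH) (Lpn (LP (LK LD1_c0 LD2_c58 LD3_c6))))))))))))
theorem f170594 : Led Lsl_ct (LP (LK LD1_c0 LD2_c11 LD3_c43)) = (LP (LK LD1_c0 LD2_c6 LD3_c24)) :=
  Lgr Lrot152 (Lpe (f518 IH) (Lpe (f517 IH) (Lpr_gt (f1386 IH) (Lpr_ct (f51521 IH) (Lpr_gt (f170588 IH) (Lpr_ct (K0.f2162 IH) (Lpe (f2172 IH) (Lpe (K0.f2144 IH) (Lpe (f2159 IH) (Lpn (LP (LK LD1_c0 LD2_c6 LD3_c24))))))))))))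
theorem f170608 : Led Lsl_cf (LP (LK LD1_c0 LD2_c11 LD3_c43)) = (LP (LK LD1_c0 LD2_c6 LD3_c24)) :=
  Lgr Lrot11 (Lpr_ct (f170594 IH) (Lpn (LP (LK LD1_c0 LD2_c6 LD3_c24))))
theorem f179031 : Led Lsl_gf (LP (LK LD1_c1 LD2_c0 LD3_c26)) = (LP (LK LD1_c0 LD2_c31 LD3_c57)) :=
  Lgr Lrot144 (Lpr_dt (f179021 IH) (Lpr_gt (f53440 IH) (Lpr_dt (f519 IH) (Lpr_cf (f170608 IH) (Lpe (f277 IH) (Lpr_gf (f178973 IH) (Lpe (f20594 IH) (Lpr_gf (f21240 IH) (Lpe (K0.f3064 IH) (Lpn (LP (LK LD1_c0 LD2_c31 LD3_c57))))))))))))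
theorem f6810 : Led Lsl_ct (LP (LK LD1_c1 LD2_c0 LD3_c26)) = (LP (LK LD1_c0 LD2_c27 LD3_c26)) :=
  Lre_c IH (LK LD1_c1 LD2_c0 LD3_c26) (LK LD1_c0 LD2_c27 LD3_c26) Lrfl Lrfl
theorem f6808 : Led Lsl_et (LP (LK LD1_c0 LD2_c11 LD3_c1)) = (LP (LK LD1_c0 LD2_c24 LD3_c50)) :=
  Lre_e IH (LK LD1_c0 LD2_c11 LD3_c1) (LK LD1_c0 LD2_c24 LD3_c50) Lrfl Lrfl
theorem f53321 : Led Lsl_gt (LP (LK LD1_c0 LD2_c24 LD3_c50)) = (LP (LK LD1_c0 LD2_c11 LD3_c49)) :=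
  Lgr Lrot137 (Lpe (f6808 IH) (Lpr_dt (f6820 IH) (Lpr_gf (f53317 IH) (Lpe (f51589 IH) (Lpr_et (f51588 IH) (Lpr_gf (f51574 IH) (Lpe (f8044 IH) (Lpe (f8000 IH) (Lpe (f51594 IH) (Lpe (f51597 IH) (Lpn (LP (LK LD1_c0 LD2_c11 LD3_c49)))))))))))))
theorem f2140 : Led Lsl_dt (LP (LK LD1_c0 LD2_c6 LD3_c25)) = (LP (LK LD1_c0 LD2_c14 LD3_c3)) :=
  Lre_d IH (LK LD1_c0 LD2_c6 LD3_c25) (LK LD1_c0 LD2_c14 LD3_c3) Lrfl Lrfl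
theorem f2142 : Led Lsl_ct (LP (LK LD1_c0 LD2_c14 LD3_c3)) = (LP (LK LD1_c0 LD2_c31 LD3_c41)) :=
  Lre_c IH (LK LD1_c0 LD2_c14 LD3_c3) (LK LD1_c0 LD2_c31 LD3_c41) Lrfl Lrfl
theorem f170613 : Led Lsl_dt (LP (LK LD1_c0 LD2_c26 LD3_c29)) = (LP (LK LD1_c0 LD2_c31 LD3_c41)) :=
  Lgr Lrot113 (Lpr_gf (f51540 IH) (Lpe (K0.f27338 IH) (Lpe (f53438 IH) (Lpr_ct (f170594 IH) (Lpr_gt (f2159 IH) (Lpe (K0.f2155 IH) (Lpe (f2138 IH) (Lpr_dt (f2140 IH) (Lpr_ct (f2142 IH) (Lpn (LP (LK LD1_c0 LD2_c31 LD3_c41))))))))))))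
theorem f178282 : Led Lsl_gf (LP (LK LD1_c0 LD2_c28 LD3_c40)) = (LP (LK LD1_c0 LD2_c31 LD3_c41)) :=
  Lgr Lrot179 (Lpe (f167764 IH) (Lpr_gt (f53321 IH) (Lpr_ct (f53156 IH) (Lpr_dt (f178270 IH) (Lpe (f167000 IH) (Lpe (f1399 IH) (Lpe (f1119 IH) (Lpe (f1391 IH) (Lpr_dt (f170613 IH) (Lpn (LP (LK LD1_c0 LD2_c31 LD3_c41))))))))))))
theorem f179080 : Led Lsl_gf (LP (LK LD1_c0 LD2_c14 LD3_c3)) = (LP (LK LD1_c0 LD2_c16 LD3_c22)) :=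
  Lgr Lrot147 (Lpr_ct (f2142 IH) (Lpe (f178282 IH) (Lpe (f167764 IH) (Lpr_df (f6806 IH) (Lpe (f6810 IH) (Lpr_gf (f179031 IH) (Lpe (K0.f3066 IH) (Lpr_gf (f165218 IH) (Lpe (f20704 IH) (Lpn (LP (LK LD1_c0 LD2_c16 LD3_c22))))))))))))
theorem f168098 : Led Lsl_dt (LP (LK LD1_c0 LD2_c28 LD3_c44)) = (LP (LK LD1_c0 LD2_c12 LD3_c41)) :=
  Lre_d IH (LK LD1_c0 LD2_c28 LD3_c44) (LK LD1_c0 LD2_c12 LD3_c41) Lrfl Lrfl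
theorem f178867 : Led Lsl_gt (LP (LK LD1_c0 LD2_c14 LD3_c4)) = (LP (LK LD1_c0 LD2_c16 LD3_c24)) :=
  Lgr Lrot180 (Lpe (f171157 IH) (Lpr_gt (f178848 IH) (Lpr_dt (f173038 IH) (Lpr_gt (f172859 IH) (Lpr_dt (f168098 IH) (Lpr_ct (f9471 IH) (Lpe (K0.f9442 IH) (Lpe (f9456 IH) (Lpe (f9485 IH) (Lpn (LP (LK LD1_c0 LD2_c16 LD3_c24))))))))))))
theorem f60173 : Led Lsl_dt (LP (LK LD1_c0 LD2_c7 LD3_c21)) = (LP (LK LD1_c0 LD2_c16 LD3_c24)) :=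
  Lre_d IH (LK LD1_c0 LD2_c7 LD3_c21) (LK LD1_c0 LD2_c16 LD3_c24) Lrfl Lrfl
theorem f9489 : Led Lsl_et (LP (LK LD1_c0 LD2_c16 LD3_c24)) = (LP (LK LD1_c0 LD2_c31 LD3_c39)) :=
  Lre_e IH (LK LD1_c0 LD2_c16 LD3_c24) (LK LD1_c0 LD2_c31 LD3_c39) Lrfl Lrfl
theorem f164683 : Led Lsl_df (LP (LK LD1_c0 LD2_c33 LD3_c22)) = (LP (LK LD1_c0 LD2_c31 LD3_c39)) :=
  Lgr Lrot70 (Lpr_et (f164681 IH) (Lpr_dt (f22411 IH) (Lpr_et (f9457 IH) (Lpr_dt (f60173 IH) (Lpr_et (f9489 IH) (Lpn (LP (LK LD1_c0 LD2_c31 LD3_c39))))))))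
theorem f9488 : Led Lsl_dt (LP (LK LD1_c0 LD2_c7 LD3_c20)) = (LP (LK LD1_c0 LD2_c16 LD3_c22)) :=
  Lre_d IH (LK LD1_c0 LD2_c7 LD3_c20) (LK LD1_c0 LD2_c16 LD3_c22) Lrfl Lrfl
theorem f179098 : Led Lsl_gt (LP (LK LD1_c0 LD2_c14 LD3_c16)) = (LP (LK LD1_c0 LD2_c7 LD3_c20)) :=
  Lgr Lrot137 (Lpr_ef (f164179 IH) (Lpr_dt (f3128 IH) (Lpe (f163699 IH) (Lpr_df (f164683 IH) (Lpr_et (f164678 IH) (Lpe (f178867 IH) (Lpe (f20689 IH) (Lpr_dt (f2140 IH) (Lpr_gf (f179080 IH) (Lpe (f9488 IH) (Lpn (LP (LK LD1_c0 LD2_c7 LD3_c20)))))))))))))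
theorem f1393 : Led Lsl_dt (LP (LK LD1_c0 LD2_c27 LD3_c14)) = (LP (LK LD1_c0 LD2_c12 LD3_c4)) :=
  Lre_d IH (LK LD1_c0 LD2_c27 LD3_c14) (LK LD1_c0 LD2_c12 LD3_c4) Lrfl Lrfl
theorem f170149 : Led Lsl_df (LP (LK LD1_c1 LD2_c0 LD3_c2)) = (LP (LK LD1_c1 LD2_c0 LD3_c7)) :=
  Lgr Lrot43 (Lpr_ct (f7910 IH) (Lpr_dt (f1387 IH) (Lpr_ct (K0.f7897 IH) (Lpr_dt (f3085 IH) (Lpr_ct (f3087 IH) (Lpe (f167425 IH) (Lpr_ct (f53376 IH) (Lpr_dt (f170111 IH) (Lpr_ct (f167306 IH) (Lpr_dt (f1393 IH) (Lpr_ct (f167295 IH) (Lpr_dt (K0.f3061 IH) (Lpr_ct (K0.f3066 IH) (Lpe (K0.f7918 IH) (Lpr_ct (f7930 IH) (Lpn (LP (LK LD1_c1 LD2_c0 LD3_c7))))))))))))))))))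
theorem f170279 : Led Lsl_gf (LP (LK LD1_c0 LD2_c12 LD3_c5)) = (LP (LK LD1_c0 LD2_c11 LD3_c46)) :=
  Lgr Lrot143 (Lpr_dt (f7858 IH) (Lpe (f7910 IH) (Lpr_df (f170149 IH) (Lpr_gf (f167293 IH) (Lpe (K0.f2217 IH) (Lpe (f167291 IH) (Lpe (f7930 IH) (Lpe (f53424 IH) (Lpr_dt (K0.f27320 IH) (Lpn (LP (LK LD1_c0 LD2_c11 LD3_c46))))))))))))
theorem f8015 : Led Lsl_dt (LP (LK LD1_c0 LD2_c12 LD3_c9)) = (LP (LK LD1_c0 LD2_c5 LD3_c35)) :=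
  Lre_d IH (LK LD1_c0 LD2_c12 LD3_c9) (LK LD1_c0 LD2_c5 LD3_c35) Lrfl Lrfl
theorem f170281 : Led Lsl_gf (LP (LK LD1_c0 LD2_c31 LD3_c60)) = (LP (LK LD1_c1 LD2_c0 LD3_c26)) :=
  Lgr Lrot104 (Lpr_ct (f3086 IH) (Lpe (f3085 IH) (Lpe (K0.f7897 IH) (Lpr_gf (f170279 IH) (Lpe (f27316 IH) (Lpr_gf (f53133 IH) (Lpe (f8015 IH) (Lpr_gt (f6798 IH) (Lpr_ct (f6805 IH) (Lpn (LP (LK LD1_c1 LD2_c0 LD3_c26))))))))))))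
theorem f165221 : Led Lsl_ct (LP (LK LD1_c0 LD2_c7 LD3_c20)) = (LP (LK LD1_c0 LD2_c16 LD3_c19)) :=
  Lre_c IH (LK LD1_c0 LD2_c7 LD3_c20) (LK LD1_c0 LD2_c16 LD3_c19) Lrfl Lrfl
theorem f170075 : Led Lsl_ct (LP (LK LD1_c1 LD2_c19 LD3_c19)) = (LP (LK LD1_c0 LD2_c36 LD3_c36)) :=
  Lre_c IH (LK LD1_c1 LD2_c19 LD3_c19) (LK LD1_c0 LD2_c36 LD3_c36) Lrfl Lrfl
theorem f179102 : Led Lsl_gt (LP (LK LD1_c0 LD2_c58 LD3_c7)) = (LP (LK LD1_c1 LD2_c19 LD3_c19)) :=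
  Lgr Lrot150 (Lpe (f170848 IH) (Lpe (f53440 IH) (Lpe (f179021 IH) (Lpe (f170281 IH) (Lpr_ct (f3086 IH) (Lpr_gt (f179098 IH) (Lpr_ct (f165221 IH) (Lpe (f170079 IH) (Lpe (f170075 IH) (Lpn (LP (LK LD1_c1 LD2_c19 LD3_c19))))))))))))
theorem f170071 : Led Lsl_gf (LP (LK LD1_c0 LD2_c16 LD3_c19)) = (LP (LK LD1_c0 LD2_c26 LD3_c47)) :=
  Lgr Lrot147 (Lpr_ct (f165220 IH) (Lpe (f165218 IH) (Lpr_ct (K0.f3066 IH) (Lpe (K0.f7911 IH) (Lpe (f7917 IH) (Lpr_gf (f167293 IH) (Lpe (K0.f2178 IH) (Lpe (f2213 IH) (Lpe (f166579 IH) (Lpn (LP (LK LD1_c0 LD2_c26 LD3_c47))))))))))))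
theorem f178387 : Led Lsl_dt (LP (LK LD1_c2 LD2_c3 LD3_c31)) = (LP (LK LD1_c1 LD2_c19 LD3_c19)) :=
  Lgr Lrot105 (Lpr_gf (f178323 IH) (Lpe (f170111 IH) (Lpr_gf (f170069 IH) (Lpe (K0.f280 IH) (Lpr_gt (f2214 IH) (Lpe (f166466 IH) (Lpe (f170071 IH) (Lpr_dt (f170073 IH) (Lpe (f170075 IH) (Lpn (LP (LK LD1_c1 LD2_c19 LD3_c19))))))))))))
theorem f178394 : Led Lsl_df (LP (LK LD1_c2 LD2_c3 LD3_c31)) = (LP (LK LD1_c1 LD2_c19 LD3_c19)) :=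
  Lgr Lrot38 (Lpr_dt (f178387 IH) (Lpn (LP (LK LD1_c1 LD2_c19 LD3_c19))))
theorem f179106 : Led Lsl_gt (LP (LK LD1_c0 LD2_c15 LD3_c61)) = (LP (LK LD1_c0 LD2_c31 LD3_c57)) :=
  Lgr Lrot49 (Lpe (f168325 IH) (Lpe (f178496 IH) (Lpe (f170610 IH) (Lpr_gt (f179102 IH) (Lpe (f178394 IH) (Lpr_gt (f166473 IH) (Lpr_dt (f170160 IH) (Lpe (f7930 IH) (Lpr_df (K0.f7918 IH) (Lpn (LP (LK LD1_c0 LD2_c31 LD3_c57))))))))))))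
theorem f168334 : Led Lsl_et (LP (LK LD1_c0 LD2_c7 LD3_c11)) = (LP (LK LD1_c0 LD2_c15 LD3_c61)) :=
  Lre_e IH (LK LD1_c0 LD2_c7 LD3_c11) (LK LD1_c0 LD2_c15 LD3_c61) Lrfl Lrfl
theorem f179116 : Led Lsl_gf (LP (LK LD1_c0 LD2_c15 LD3_c60)) = (LP (LK LD1_c0 LD2_c35 LD3_c36)) :=
  Lgr Lrot145 (Lpe (f168293 IH) (Lpr_et (f168334 IH) (Lpr_gt (f179106 IH) (Lpe (K0.f7918 IH) (Lpe (f53424 IH) (Lpe (K0.f27321 IH) (Lpr_et (K0.f27310 IH) (Lpe (f170279 IH) (Lpe (K0.f496 IH) (Lpr_dt (K0.f7715 IH) (Lpn (LP (LK LD1_c0 LD2_c35 LD3_c36)))))))))))))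
theorem f168179 : Led Lsl_dt (LP (LK LD1_c0 LD2_c15 LD3_c60)) = (LP (LK LD1_c0 LD2_c7 LD3_c11)) :=
  Lre_d IH (LK LD1_c0 LD2_c15 LD3_c60) (LK LD1_c0 LD2_c7 LD3_c11) Lrfl Lrfl
theorem f7732 : Led Lsl_ct (LP (LK LD1_c1 LD2_c16 LD3_c59)) = (LP (LK LD1_c0 LD2_c35 LD3_c36)) :=
  Lre_c IH (LK LD1_c1 LD2_c16 LD3_c59) (LK LD1_c0 LD2_c35 LD3_c36) Lrfl Lrfl
theorem f178111 : Led Lsl_gt (LP (LK LD1_c1 LD2_c16 LD3_c59)) = (LP (LK LD1_c0 LD2_c36 LD3_c34)) :=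
  Lre_g IH (LK LD1_c1 LD2_c16 LD3_c59) (LK LD1_c0 LD2_c36 LD3_c34) Lrfl Lrfl
theorem f179120 : Led Lsl_df (LP (LK LD1_c1 LD2_c18 LD3_c4)) = (LP (LK LD1_c0 LD2_c36 LD3_c34)) :=
  Lgr Lrot153 (Lpr_gt (f172300 IH) (Lpr_dt (f172325 IH) (Lpe (f174112 IH) (Lpe (f168186 IH) (Lpe (f168185 IH) (Lpe (f168179 IH) (Lpr_gf (f179116 IH) (Lpe (f7732 IH) (Lpr_gt (f178111 IH) (Lpn (LP (LK LD1_c0 LD2_c36 LD3_c34))))))))))))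
theorem f179182 : Led Lsl_dt (LP (LK LD1_c1 LD2_c18 LD3_c4)) = (LP (LK LD1_c0 LD2_c36 LD3_c34)) :=
  Lgr Lrot42 (Lpr_df (f179120 IH) (Lpn (LP (LK LD1_c0 LD2_c36 LD3_c34))))
theorem f168230 : Led Lsl_gt (LP (LK LD1_c0 LD2_c37 LD3_c10)) = (LP (LK LD1_c1 LD2_c18 LD3_c4)) :=
  Lre_g IH (LK LD1_c0 LD2_c37 LD3_c10) (LK LD1_c1 LD2_c18 LD3_c4) Lrfl Lrfl
theorem f20824 : Led Lsl_gt (LP (LK LD1_c0 LD2_c24 LD3_c44)) = (LP (LK LD1_c0 LD2_c54 LD3_c45)) :=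
  Lre_g IH (LK LD1_c0 LD2_c24 LD3_c44) (LK LD1_c0 LD2_c54 LD3_c45) Lrfl Lrfl
theorem f172319 : Led Lsl_ct (LP (LK LD1_c0 LD2_c7 LD3_c14)) = (LP (LK LD1_c0 LD2_c3 LD3_c16)) :=
  Lre_c IH (LK LD1_c0 LD2_c7 LD3_c14) (LK LD1_c0 LD2_c3 LD3_c16) Lrfl Lrfl
theorem f178171 : Led Lsl_ct (LP (LK LD1_c0 LD2_c54 LD3_c45)) = (LP (LK LD1_c0 LD2_c35 LD3_c58)) :=
  Lgr Lrot152 (Lpe (f20824 IH) (Lpe (K1.f8120 IH) (Lpr_gt (f177856 IH) (Lpr_ct (f172319 IH) (Lpr_gt (K0.f9481 IH) (Lpr_ct (f9472 IH) (Lpe (f168098 IH) (Lpe (f44739 IH) (Lpe (f174126 IH) (Lpn (LP (LK LD1_c0 LD2_c35 LD3_c58))))))))))))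
theorem f171861 : Led Lsl_ct (LP (LK LD1_c0 LD2_c36 LD3_c34)) = (LP (LK LD1_c0 LD2_c16 LD3_c18)) :=
  Lre_c IH (LK LD1_c0 LD2_c36 LD3_c34) (LK LD1_c0 LD2_c16 LD3_c18) Lrfl Lrfl
theorem f179510 : Led Lsl_gt (LP (LK LD1_c0 LD2_c54 LD3_c45)) = (LP (LK LD1_c0 LD2_c32 LD3_c27)) :=
  Lgr Lrot180 (Lpr_ct (f178171 IH) (Lpr_gt (f174126 IH) (Lpr_dt (f172857 IH) (Lpr_gt (f168230 IH) (Lpr_dt (f179182 IH) (Lpr_ct (f171861 IH) (Lpe (f170084 IH) (Lpr_gf (f171755 IH) (Lpe (f40751 IH) (Lpn (LP (LK LD1_c0 LD2_c32 LD3_c27))))))))))))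
theorem f171207 : Led Lsl_et (LP (LK LD1_c0 LD2_c27 LD3_c25)) = (LP (LK LD1_c0 LD2_c12 LD3_c8)) :=
  Lre_e IH (LK LD1_c0 LD2_c27 LD3_c25) (LK LD1_c0 LD2_c12 LD3_c8) Lrfl Lrfl
theorem f20820 : Led Lsl_et (LP (LK LD1_c0 LD2_c6 LD3_c57)) = (LP (LK LD1_c0 LD2_c3 LD3_c9)) :=
  Lre_e IH (LK LD1_c0 LD2_c6 LD3_c57) (LK LD1_c0 LD2_c3 LD3_c9) Lrfl Lrfl
theorem f20822 : Led Lsl_gt (LP (LK LD1_c0 LD2_c33 LD3_c57)) = (LP (LK LD1_c0 LD2_c15 LD3_c13)) :=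
  Lre_g IH (LK LD1_c0 LD2_c33 LD3_c57) (LK LD1_c0 LD2_c15 LD3_c13) Lrfl Lrfl
theorem f171208 : Led Lsl_dt (LP (LK LD1_c0 LD2_c27 LD3_c25)) = (LP (LK LD1_c0 LD2_c33 LD3_c57)) :=
  Lgr Lrot136 (Lpr_et (f171207 IH) (Lpr_gf (f171185 IH) (Lpe (f1528 IH) (Lpe (K0.f1669 IH) (Lpr_gf (K0.f8065 IH) (Lpr_df (f8116 IH) (Lpr_gf (K0.f20619 IH) (Lpe (f20820 IH) (Lpr_dt (K0.f20821 IH) (Lpe (f20822 IH) (Lpn (LP (LK LD1_c0 LD2_c33 LD3_c57)))))))))))))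
theorem f171223 : Led Lsl_gt (LP (LK LD1_c1 LD2_c0 LD3_c23)) = (LP (LK LD1_c0 LD2_c27 LD3_c25)) :=
  Lre_g IH (LK LD1_c1 LD2_c0 LD3_c23) (LK LD1_c0 LD2_c27 LD3_c25) Lrfl Lrfl
theorem f20536 : Led Lsl_gt (LP (LK LD1_c0 LD2_c15 LD3_c22)) = (LP (LK LD1_c0 LD2_c6 LD3_c60)) :=
  Lre_g IH (LK LD1_c0 LD2_c15 LD3_c22) (LK LD1_c0 LD2_c6 LD3_c60) Lrfl Lrfl
theorem f171226 : Led Lsl_cf (LP (LK LD1_c1 LD2_c0 LD3_c23)) = (LP (LK LD1_c0 LD2_c31 LD3_c39)) :=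
  Lgr Lrot166 (Lpr_gt (f171223 IH) (Lpr_dt (f171208 IH) (Lpr_gt (f20822 IH) (Lpr_dt (K8.f21325 IH) (Lpr_ct (K8.f22101 IH) (Lpe (K0.f20469 IH) (Lpe (f20536 IH) (Lpe (f2883 IH) (Lpe (f164685 IH) (Lpn (LP (LK LD1_c0 LD2_c31 LD3_c39))))))))))))
theorem f171230 : Led Lsl_ct (LP (LK LD1_c0 LD2_c36 LD3_c44)) = (LP (LK LD1_c0 LD2_c16 LD3_c24)) :=
  Lre_c IH (LK LD1_c0 LD2_c36 LD3_c44) (LK LD1_c0 LD2_c16 LD3_c24) Lrfl Lrfl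
theorem f171231 : Led Lsl_et (LP (LK LD1_c1 LD2_c0 LD3_c23)) = (LP (LK LD1_c0 LD2_c36 LD3_c44)) :=
  Lgr Lrot158 (Lpr_cf (f171226 IH) (Lpe (f9489 IH) (Lpe (f171230 IH) (Lpn (LP (LK LD1_c0 LD2_c36 LD3_c44))))))
theorem f171256 : Led Lsl_ef (LP (LK LD1_c1 LD2_c0 LD3_c23)) = (LP (LK LD1_c0 LD2_c36 LD3_c44)) :=
  Lgr Lrot88 (Lpr_et (f171231 IH) (Lpn (LP (LK LD1_c0 LD2_c36 LD3_c44))))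
theorem f171261 : Led Lsl_df (LP (LK LD1_c0 LD2_c54 LD3_c45)) = (LP (LK LD1_c0 LD2_c36 LD3_c44)) :=
  Lgr Lrot168 (Lpe (f20824 IH) (Lpe (K1.f8120 IH) (Lpr_et (K1.f20823 IH) (Lpr_gf (K0.f20619 IH) (Lpe (f20820 IH) (Lpr_dt (K0.f20821 IH) (Lpe (f20822 IH) (Lpe (f171208 IH) (Lpe (f171223 IH) (Lpr_ef (f171256 IH) (Lpn (LP (LK LD1_c0 LD2_c36 LD3_c44)))))))))))))
theorem f6771 : Led Lsl_gt (LP (LK LD1_c0 LD2_c5 LD3_c36)) = (LP (LK LD1_c0 LD2_c2 LD3_c33)) :=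
  Lre_g IH (LK LD1_c0 LD2_c5 LD3_c36) (LK LD1_c0 LD2_c2 LD3_c33) Lrfl Lrfl
theorem f8003 : Led Lsl_dt (LP (LK LD1_c0 LD2_c12 LD3_c13)) = (LP (LK LD1_c0 LD2_c5 LD3_c36)) :=
  Lre_d IH (LK LD1_c0 LD2_c12 LD3_c13) (LK LD1_c0 LD2_c5 LD3_c36) Lrfl Lrfl
theorem f170283 : Led Lsl_gf (LP (LK LD1_c0 LD2_c12 LD3_c13)) = (LP (LK LD1_c0 LD2_c27 LD3_c26)) :=
  Lgr Lrot144 (Lpr_dt (f8003 IH) (Lpr_gt (f6771 IH) (Lpr_dt (K0.f7992 IH) (Lpe (K0.f6821 IH) (Lpe (K0.f485 IH) (Lpe (f522 IH) (Lpr_df (f167425 IH) (Lpr_gf (f170281 IH) (Lpe (f6805 IH) (Lpn (LP (LK LD1_c0 LD2_c27 LD3_c26))))))))))))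
theorem f167311 : Led Lsl_dt (LP (LK LD1_c0 LD2_c5 LD3_c36)) = (LP (LK LD1_c0 LD2_c12 LD3_c13)) :=
  Lre_d IH (LK LD1_c0 LD2_c5 LD3_c36) (LK LD1_c0 LD2_c12 LD3_c13) Lrfl Lrfl
theorem f170295 : Led Lsl_et (LP (LK LD1_c0 LD2_c5 LD3_c36)) = (LP (LK LD1_c0 LD2_c12 LD3_c14)) :=
  Lre_e IH (LK LD1_c0 LD2_c5 LD3_c36) (LK LD1_c0 LD2_c12 LD3_c14) Lrfl Lrfl
theorem f170296 : Led Lsl_gt (LP (LK LD1_c0 LD2_c12 LD3_c14)) = (LP (LK LD1_c0 LD2_c27 LD3_c39)) :=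
  Lre_g IH (LK LD1_c0 LD2_c12 LD3_c14) (LK LD1_c0 LD2_c27 LD3_c39) Lrfl Lrfl
theorem f100685 : Led Lsl_et (LP (LK LD1_c0 LD2_c32 LD3_c45)) = (LP (LK LD1_c0 LD2_c14 LD3_c42)) :=
  Lre_e IH (LK LD1_c0 LD2_c32 LD3_c45) (LK LD1_c0 LD2_c14 LD3_c42) Lrfl Lrfl
theorem f100686 : Led Lsl_et (LP (LK LD1_c0 LD2_c6 LD3_c44)) = (LP (LK LD1_c0 LD2_c6 LD3_c44)) :=
  Lgr Lrot71 (Lpe (f40792 IH) (Lpe (f100685 IH) (Lpr_df (f100675 IH) (Lpe (f40807 IH) (Lpe (K1.f40749 IH) (Lpn (LP (LK LD1_c0 LD2_c6 LD3_c44))))))))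
theorem f170297 : Led Lsl_dt (LP (LK LD1_c0 LD2_c27 LD3_c39)) = (LP (LK LD1_c0 LD2_c24 LD3_c51)) :=
  Lgr Lrot171 (Lpe (f170296 IH) (Lpe (f170295 IH) (Lpr_dt (f167311 IH) (Lpr_gf (f170283 IH) (Lpe (f6799 IH) (Lpr_et (f6796 IH) (Lpr_gf (f40789 IH) (Lpe (f100686 IH) (Lpr_dt (K1.f40749 IH) (Lpr_gf (f101434 IH) (Lpn (LP (LK LD1_c0 LD2_c24 LD3_c51)))))))))))))
theorem f170304 : Led Lsl_ct (LP (LK LD1_c0 LD2_c27 LD3_c37)) = (LP (LK LD1_c0 LD2_c12 LD3_c14)) :=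
  Lre_c IH (LK LD1_c0 LD2_c27 LD3_c37) (LK LD1_c0 LD2_c12 LD3_c14) Lrfl Lrfl
theorem f179516 : Led Lsl_gf (LP (LK LD1_c0 LD2_c36 LD3_c44)) = (LP (LK LD1_c0 LD2_c27 LD3_c37)) :=
  Lgr Lrot144 (Lpe (f171261 IH) (Lpr_gt (f179510 IH) (Lpr_dt (f40751 IH) (Lpe (K1.f40794 IH) (Lpe (f40792 IH) (Lpr_gf (f101434 IH) (Lpe (f170297 IH) (Lpe (f170296 IH) (Lpe (f170304 IH) (Lpn (LP (LK LD1_c0 LD2_c27 LD3_c37))))))))))))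
theorem f179527 : Led Lsl_et (LP (LK LD1_c0 LD2_c12 LD3_c12)) = (LP (LK LD1_c0 LD2_c27 LD3_c37)) :=
  Lre_e IH (LK LD1_c0 LD2_c12 LD3_c12) (LK LD1_c0 LD2_c27 LD3_c37) Lrfl Lrfl
theorem f179528 : Led Lsl_dt (LP (LK LD1_c0 LD2_c12 LD3_c12)) = (LP (LK LD1_c0 LD2_c27 LD3_c36)) :=
  Lre_d IH (LK LD1_c0 LD2_c12 LD3_c12) (LK LD1_c0 LD2_c27 LD3_c36) Lrfl Lrfl
theorem f40826 : Led Lsl_at (LP (LK LD1_c0 LD2_c24 LD3_c45)) = (LP (LK LD1_c0 LD2_c14 LD3_c32)) :=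
  Lgr Lrot100 (Lpr_af (K1.f40813 IH) (Lpn (LP (LK LD1_c0 LD2_c14 LD3_c32))))
theorem f41314 : Led Lsl_ef (LP (LK LD1_c0 LD2_c14 LD3_c32)) = (LP (LK LD1_c0 LD2_c14 LD3_c32)) :=
  Lgr Lrot20 (Lpe (K1.f40813 IH) (Lpr_et (K1.f41312 IH) (Lpr_at (f40826 IH) (Lpn (LP (LK LD1_c0 LD2_c14 LD3_c32))))))
theorem f179529 : Led Lsl_gf (LP (LK LD1_c0 LD2_c27 LD3_c36)) = (LP (LK LD1_c0 LD2_c36 LD3_c36)) :=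
  Lgr Lrot145 (Lpe (f179528 IH) (Lpr_et (f179527 IH) (Lpe (f179516 IH) (Lpe (f171261 IH) (Lpr_gt (f179510 IH) (Lpe (f40820 IH) (Lpe (f41314 IH) (Lpe (f171755 IH) (Lpe (f171199 IH) (Lpr_dt (f170073 IH) (Lpn (LP (LK LD1_c0 LD2_c36 LD3_c36)))))))))))))
theorem f179533 : Led Lsl_ct (LP (LK LD1_c0 LD2_c27 LD3_c36)) = (LP (LK LD1_c1 LD2_c0 LD3_c40)) :=
  Lre_c IH (LK LD1_c0 LD2_c27 LD3_c36) (LK LD1_c1 LD2_c0 LD3_c40) Lrfl Lrfl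
theorem f170972 : Led Lsl_df (LP (LK LD1_c0 LD2_c58 LD3_c23)) = (LP (LK LD1_c0 LD2_c58 LD3_c7)) :=
  Lgr Lrot38 (Lpr_dt (f170941 IH) (Lpn (LP (LK LD1_c0 LD2_c58 LD3_c7))))
theorem f2798 : Led Lsl_gt (LP (LK LD1_c0 LD2_c13 LD3_c60)) = (LP (LK LD1_c0 LD2_c31 LD3_c31)) :=
  Lre_g IH (LK LD1_c0 LD2_c13 LD3_c60) (LK LD1_c0 LD2_c31 LD3_c31) Lrfl Lrfl
theorem f51609 : Led Lsl_dt (LP (LK LD1_c0 LD2_c27 LD3_c21)) = (LP (LK LD1_c0 LD2_c58 LD3_c29)) :=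
  Lgr Lrot32 (Lpe (f506 IH) (Lpe (K0.f1385 IH) (Lpr_ft (f27352 IH) (Lpe (f51514 IH) (Lpe (f27316 IH) (Lpr_df (f51592 IH) (Lpe (f27317 IH) (Lpe (K0.f27320 IH) (Lpe (f47729 IH) (Lpn (LP (LK LD1_c0 LD2_c58 LD3_c29))))))))))))
theorem f51611 : Led Lsl_ff (LP (LK LD1_c0 LD2_c58 LD3_c28)) = (LP (LK LD1_c0 LD2_c27 LD3_c21)) :=
  Lgr Lrot103 (Lpr_at (f51544 IH) (Lpe (f51607 IH) (Lpe (K0.f27321 IH) (Lpe (f27316 IH) (Lpr_df (f51592 IH) (Lpe (f27317 IH) (Lpe (K0.f27320 IH) (Lpe (f47729 IH) (Lpe (f51609 IH) (Lpn (LP (LK LD1_c0 LD2_c27 LD3_c21))))))))))))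
theorem f1128 : Led Lsl_gt (LP (LK LD1_c0 LD2_c27 LD3_c21)) = (LP (LK LD1_c1 LD2_c0 LD3_c12)) :=
  Lre_g IH (LK LD1_c0 LD2_c27 LD3_c21) (LK LD1_c1 LD2_c0 LD3_c12) Lrfl Lrfl
theorem f52225 : Led Lsl_gf (LP (LK LD1_c0 LD2_c58 LD3_c29)) = (LP (LK LD1_c1 LD2_c0 LD3_c12)) :=
  Lgr Lrot76 (Lpe (f51544 IH) (Lpr_ff (f51611 IH) (Lpr_gt (f1128 IH) (Lpn (LP (LK LD1_c1 LD2_c0 LD3_c12))))))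
theorem f250 : Led Lsl_dt (LP (LK LD1_c0 LD2_c13 LD3_c60)) = (LP (LK LD1_c0 LD2_c6 LD3_c23)) :=
  Lre_d IH (LK LD1_c0 LD2_c13 LD3_c60) (LK LD1_c0 LD2_c6 LD3_c23) Lrfl Lrfl
theorem f171194 : Led Lsl_cf (LP (LK LD1_c1 LD2_c0 LD3_c12)) = (LP (LK LD1_c0 LD2_c31 LD3_c31)) :=
  Lgr Lrot169 (Lpe (f52225 IH) (Lpr_ct (f47729 IH) (Lpe (K0.f27321 IH) (Lpe (f27316 IH) (Lpr_gf (f53133 IH) (Lpe (f53135 IH) (Lpr_gf (f171185 IH) (Lpe (f250 IH) (Lpr_gt (f2798 IH) (Lpn (LP (LK LD1_c0 LD2_c31 LD3_c31))))))))))))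
theorem f179536 : Led Lsl_df (LP (LK LD1_c1 LD2_c0 LD3_c40)) = (LP (LK LD1_c1 LD2_c0 LD3_c12)) :=
  Lgr Lrot162 (Lpe (f179533 IH) (Lpr_gf (f179529 IH) (Lpe (f170075 IH) (Lpe (f179102 IH) (Lpe (f170972 IH) (Lpr_gt (f170939 IH) (Lpr_ct (f251 IH) (Lpr_gt (f2798 IH) (Lpe (f171194 IH) (Lpn (LP (LK LD1_c1 LD2_c0 LD3_c12))))))))))))
theorem f53385 : Led Lsl_gt (LP (LK LD1_c0 LD2_c59 LD3_c55)) = (LP (LK LD1_c0 LD2_c27 LD3_c14)) :=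
  Lre_g IH (LK LD1_c0 LD2_c59 LD3_c55) (LK LD1_c0 LD2_c27 LD3_c14) Lrfl Lrfl
theorem f53386 : Led Lsl_ct (LP (LK LD1_c2 LD2_c5 LD3_c51)) = (LP (LK LD1_c0 LD2_c59 LD3_c55)) :=
  Lre_c IH (LK LD1_c2 LD2_c5 LD3_c51) (LK LD1_c0 LD2_c59 LD3_c55) Lrfl Lrfl
theorem f179558 : Led Lsl_gt (LP (LK LD1_c1 LD2_c0 LD3_c40)) = (LP (LK LD1_c2 LD2_c5 LD3_c51)) :=
  Lgr Lrot9 (Lpr_df (f179536 IH) (Lpe (f52225 IH) (Lpr_ct (f47729 IH) (Lpr_gt (f53374 IH) (Lpr_ct (f53376 IH) (Lpr_df (f170151 IH) (Lpe (f167761 IH) (Lpe (f53385 IH) (Lpe (f53386 IH) (Lpn (LP (LK LD1_c2 LD2_c5 LD3_c51))))))))))))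
theorem f53441 : Led Lsl_ct (LP (LK LD1_c0 LD2_c58 LD3_c6)) = (LP (LK LD1_c2 LD2_c2 LD3_c25)) :=
  Lre_c IH (LK LD1_c0 LD2_c58 LD3_c6) (LK LD1_c2 LD2_c2 LD3_c25) Lrfl Lrfl
theorem f179563 : Led Lsl_df (LP (LK LD1_c2 LD2_c2 LD3_c25)) = (LP (LK LD1_c2 LD2_c5 LD3_c51)) :=
  Lgr Lrot84 (Lpe (f53441 IH) (Lpe (f179021 IH) (Lpr_gf (f179031 IH) (Lpe (K0.f7911 IH) (Lpe (K0.f526 IH) (Lpe (f1120 IH) (Lpr_gt (f1128 IH) (Lpe (f179536 IH) (Lpr_gt (f179558 IH) (Lpn (LP (LK LD1_c2 LD2_c5 LD3_c51))))))))))))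
theorem f167070 : Led Lsl_df (LP (LK LD1_c0 LD2_c58 LD3_c26)) = (LP (LK LD1_c0 LD2_c58 LD3_c44)) :=
  Lgr Lrot38 (Lpr_dt (f167046 IH) (Lpn (LP (LK LD1_c0 LD2_c58 LD3_c44))))
theorem f167076 : Led Lsl_gt (LP (LK LD1_c2 LD2_c2 LD3_c25)) = (LP (LK LD1_c0 LD2_c58 LD3_c44)) :=
  Lgr Lrot94 (Lpe (f53441 IH) (Lpr_gt (f53440 IH) (Lpr_dt (f519 IH) (Lpr_gt (f53438 IH) (Lpr_dt (K0.f27338 IH) (Lpe (f51550 IH) (Lpe (f1125 IH) (Lpe (f1401 IH) (Lpr_df (f167070 IH) (Lpn (LP (LK LD1_c0 LD2_c58 LD3_c44))))))))))))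
theorem f170074 : Led Lsl_ct (LP (LK LD1_c0 LD2_c36 LD3_c36)) = (LP (LK LD1_c1 LD2_c19 LD3_c19)) :=
  Lre_c IH (LK LD1_c0 LD2_c36 LD3_c36) (LK LD1_c1 LD2_c19 LD3_c19) Lrfl Lrfl
theorem f171193 : Led Lsl_ct (LP (LK LD1_c1 LD2_c0 LD3_c21)) = (LP (LK LD1_c0 LD2_c27 LD3_c24)) :=
  Lre_c IH (LK LD1_c1 LD2_c0 LD3_c21) (LK LD1_c0 LD2_c27 LD3_c24) Lrfl Lrfl
theorem f179581 : Led Lsl_gf (LP (LK LD1_c1 LD2_c0 LD3_c21)) = (LP (LK LD1_c2 LD2_c5 LD3_c51)) :=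
  Lgr Lrot147 (Lpr_ct (f171193 IH) (Lpr_gt (f171190 IH) (Lpr_ct (f170074 IH) (Lpe (f178387 IH) (Lpe (f166472 IH) (Lpe (f166471 IH) (Lpe (f166993 IH) (Lpe (f167076 IH) (Lpr_df (f179563 IH) (Lpn (LP (LK LD1_c2 LD2_c5 LD3_c51))))))))))))
theorem f171202 : Led Lsl_dt (LP (LK LD1_c0 LD2_c27 LD3_c24)) = (LP (LK LD1_c0 LD2_c12 LD3_c8)) :=
  Lre_d IH (LK LD1_c0 LD2_c27 LD3_c24) (LK LD1_c0 LD2_c12 LD3_c8) Lrfl Lrfl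
theorem f8005 : Led Lsl_ct (LP (LK LD1_c0 LD2_c5 LD3_c35)) = (LP (LK LD1_c0 LD2_c12 LD3_c8)) :=
  Lre_c IH (LK LD1_c0 LD2_c5 LD3_c35) (LK LD1_c0 LD2_c12 LD3_c8) Lrfl Lrfl
theorem f53387 : Led Lsl_ct (LP (LK LD1_c0 LD2_c59 LD3_c55)) = (LP (LK LD1_c2 LD2_c5 LD3_c51)) :=
  Lre_c IH (LK LD1_c0 LD2_c59 LD3_c55) (LK LD1_c2 LD2_c5 LD3_c51) Lrfl Lrfl
theorem f179599 : Led Lsl_gt (LP (LK LD1_c0 LD2_c27 LD3_c17)) = (LP (LK LD1_c0 LD2_c59 LD3_c55)) :=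
  Lgr Lrot9 (Lpe (f7858 IH) (Lpr_gt (K0.f495 IH) (Lpr_ct (K0.f6821 IH) (Lpr_gt (f6791 IH) (Lpr_ct (f8005 IH) (Lpe (f171202 IH) (Lpe (f171193 IH) (Lpr_gf (f179581 IH) (Lpe (f53387 IH) (Lpn (LP (LK LD1_c0 LD2_c59 LD3_c55))))))))))))
theorem f179577 : Led Lsl_dt (LP (LK LD1_c2 LD2_c2 LD3_c25)) = (LP (LK LD1_c2 LD2_c5 LD3_c51)) :=
  Lgr Lrot42 (Lpr_df (f179563 IH) (Lpn (LP (LK LD1_c2 LD2_c5 LD3_c51))))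
theorem f167080 : Led Lsl_gf (LP (LK LD1_c0 LD2_c58 LD3_c6)) = (LP (LK LD1_c0 LD2_c26 LD3_c26)) :=
  Lgr Lrot147 (Lpr_ct (f53441 IH) (Lpr_gt (f167076 IH) (Lpr_ct (f166993 IH) (Lpe (f166470 IH) (Lpe (f51596 IH) (Lpe (f6757 IH) (Lpe (f51520 IH) (Lpe (f524 IH) (Lpe (f525 IH) (Lpn (LP (LK LD1_c0 LD2_c26 LD3_c26))))))))))))
theorem f53461 : Led Lsl_ct (LP (LK LD1_c0 LD2_c58 LD3_c15)) = (LP (LK LD1_c0 LD2_c26 LD3_c26)) :=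
  Lre_c IH (LK LD1_c0 LD2_c58 LD3_c15) (LK LD1_c0 LD2_c26 LD3_c26) Lrfl Lrfl
theorem f179719 : Led Lsl_gt (LP (LK LD1_c1 LD2_c19 LD3_c19)) = (LP (LK LD1_c0 LD2_c58 LD3_c15)) :=
  Lgr Lrot9 (Lpe (f178387 IH) (Lpr_gt (f166473 IH) (Lpr_ct (f7910 IH) (Lpr_gt (f179599 IH) (Lpr_ct (f53387 IH) (Lpe (f179577 IH) (Lpe (f53441 IH) (Lpr_gf (f167080 IH) (Lpe (f53461 IH) (Lpn (LP (LK LD1_c0 LD2_c58 LD3_c15))))))))))))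
theorem f170286 : Led Lsl_dt (LP (LK LD1_c0 LD2_c27 LD3_c36)) = (LP (LK LD1_c0 LD2_c12 LD3_c12)) :=
  Lre_d IH (LK LD1_c0 LD2_c27 LD3_c36) (LK LD1_c0 LD2_c12 LD3_c12) Lrfl Lrfl
theorem f53460 : Led Lsl_ct (LP (LK LD1_c0 LD2_c26 LD3_c26)) = (LP (LK LD1_c0 LD2_c58 LD3_c15)) :=
  Lre_c IH (LK LD1_c0 LD2_c26 LD3_c26) (LK LD1_c0 LD2_c58 LD3_c15) Lrfl Lrfl
theorem f170592 : Led Lsl_df (LP (LK LD1_c0 LD2_c58 LD3_c15)) = (LP (LK LD1_c0 LD2_c58 LD3_c20)) :=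
  Lgr Lrot84 (Lpe (f53460 IH) (Lpe (f53459 IH) (Lpr_gf (f53457 IH) (Lpe (K0.f27339 IH) (Lpe (f51518 IH) (Lpe (f51522 IH) (Lpr_gt (f170588 IH) (Lpr_dt (f252 IH) (Lpe (f170590 IH) (Lpn (LP (LK LD1_c0 LD2_c58 LD3_c20))))))))))))
theorem f170862 : Led Lsl_dt (LP (LK LD1_c0 LD2_c58 LD3_c15)) = (LP (LK LD1_c0 LD2_c58 LD3_c20)) :=
  Lgr Lrot42 (Lpr_df (f170592 IH) (Lpn (LP (LK LD1_c0 LD2_c58 LD3_c20))))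
theorem f179726 : Led Lsl_gt (LP (LK LD1_c0 LD2_c12 LD3_c12)) = (LP (LK LD1_c0 LD2_c6 LD3_c23)) :=
  Lgr Lrot49 (Lpe (f170286 IH) (Lpr_gf (f179529 IH) (Lpe (f170075 IH) (Lpr_gt (f179719 IH) (Lpr_dt (f170862 IH) (Lpr_gt (f170588 IH) (Lpr_dt (f252 IH) (Lpe (K0.f255 IH) (Lpe (K0.f254 IH) (Lpn (LP (LK LD1_c0 LD2_c6 LD3_c23))))))))))))
theorem f8002 : Led Lsl_ct (LP (LK LD1_c0 LD2_c5 LD3_c36)) = (LP (LK LD1_c0 LD2_c12 LD3_c12)) :=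
  Lre_c IH (LK LD1_c0 LD2_c5 LD3_c36) (LK LD1_c0 LD2_c12 LD3_c12) Lrfl Lrfl
theorem f179538 : Led Lsl_bt (LP (LK LD1_c0 LD2_c5 LD3_c36)) = (LP (LK LD1_c0 LD2_c12 LD3_c11)) :=
  Lre_b IH (LK LD1_c0 LD2_c5 LD3_c36) (LK LD1_c0 LD2_c12 LD3_c11) Lrfl Lrfl
theorem f27489 : Led Lsl_bt (LP (LK LD1_c0 LD2_c5 LD3_c37)) = (LP (LK LD1_c0 LD2_c11 LD3_c61)) :=
  Lre_b IH (LK LD1_c0 LD2_c5 LD3_c37) (LK LD1_c0 LD2_c11 LD3_c61) Lrfl Lrfl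
theorem f179842 : Led Lsl_gf (LP (LK LD1_c0 LD2_c12 LD3_c11)) = (LP (LK LD1_c0 LD2_c11 LD3_c61)) :=
  Lgr Lrot124 (Lpe (f179538 IH) (Lpr_ct (f8002 IH) (Lpr_gt (f179726 IH) (Lpe (K0.f253 IH) (Lpe (K0.f1697 IH) (Lpr_gt (f263 IH) (Lpe (f170608 IH) (Lpr_gt (f53438 IH) (Lpe (f27350 IH) (Lpr_bt (f27489 IH) (Lpn (LP (LK LD1_c0 LD2_c11 LD3_c61)))))))))))))
theorem f27490 : Led Lsl_ft (LP (LK LD1_c0 LD2_c11 LD3_c61)) = (LP (LK LD1_c0 LD2_c5 LD3_c32)) :=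
  Lre_f IH (LK LD1_c0 LD2_c11 LD3_c61) (LK LD1_c0 LD2_c5 LD3_c32) Lrfl Lrfl
theorem f52682 : Led Lsl_at (LP (LK LD1_c0 LD2_c5 LD3_c32)) = (LP (LK LD1_c0 LD2_c11 LD3_c55)) :=
  Lre_a IH (LK LD1_c0 LD2_c5 LD3_c32) (LK LD1_c0 LD2_c11 LD3_c55) Lrfl Lrfl
theorem f180097 : Led Lsl_gt (LP (LK LD1_c0 LD2_c12 LD3_c11)) = (LP (LK LD1_c0 LD2_c11 LD3_c55)) :=
  Lgr Lrot46 (Lpr_gf (f179842 IH) (Lpr_ft (f27490 IH) (Lpr_at (f52682 IH) (Lpn (LP (LK LD1_c0 LD2_c11 LD3_c55))))))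
theorem f180104 : Led Lsl_et (LP (LK LD1_c0 LD2_c27 LD3_c34)) = (LP (LK LD1_c0 LD2_c12 LD3_c11)) :=
  Lre_e IH (LK LD1_c0 LD2_c27 LD3_c34) (LK LD1_c0 LD2_c12 LD3_c11) Lrfl Lrfl
theorem f180105 : Led Lsl_dt (LP (LK LD1_c0 LD2_c27 LD3_c34)) = (LP (LK LD1_c1 LD2_c0 LD3_c34)) :=
  Lre_d IH (LK LD1_c0 LD2_c27 LD3_c34) (LK LD1_c1 LD2_c0 LD3_c34) Lrfl Lrfl
theorem f27756 : Led Lsl_et (LP (LK LD1_c0 LD2_c5 LD3_c29)) = (LP (LK LD1_c0 LD2_c11 LD3_c55)) :=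
  Lre_e IH (LK LD1_c0 LD2_c5 LD3_c29) (LK LD1_c0 LD2_c11 LD3_c55) Lrfl Lrfl
theorem f27825 : Led Lsl_et (LP (LK LD1_c0 LD2_c2 LD3_c34)) = (LP (LK LD1_c0 LD2_c5 LD3_c41)) :=
  Lre_e IH (LK LD1_c0 LD2_c2 LD3_c34) (LK LD1_c0 LD2_c5 LD3_c41) Lrfl Lrfl
theorem f27910 : Led Lsl_gt (LP (LK LD1_c0 LD2_c5 LD3_c41)) = (LP (LK LD1_c0 LD2_c12 LD3_c24)) :=
  Lre_g IH (LK LD1_c0 LD2_c5 LD3_c41) (LK LD1_c0 LD2_c12 LD3_c24) Lrfl Lrfl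
theorem f27911 : Led Lsl_dt (LP (LK LD1_c0 LD2_c12 LD3_c24)) = (LP (LK LD1_c0 LD2_c28 LD3_c4)) :=
  Lre_d IH (LK LD1_c0 LD2_c12 LD3_c24) (LK LD1_c0 LD2_c28 LD3_c4) Lrfl Lrfl
theorem f180108 : Led Lsl_gf (LP (LK LD1_c1 LD2_c0 LD3_c34)) = (LP (LK LD1_c0 LD2_c28 LD3_c4)) :=
  Lgr Lrot134 (Lpe (f180105 IH) (Lpr_et (f180104 IH) (Lpr_gt (f180097 IH) (Lpe (f27756 IH) (Lpr_dt (K0.f27556 IH) (Lpe (K0.f27812 IH) (Lpe (K0.f16671 IH) (Lpr_et (f27825 IH) (Lpr_gt (f27910 IH) (Lpr_dt (f27911 IH) (Lpn (LP (LK LD1_c0 LD2_c28 LD3_c4)))))))))))))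
theorem f180125 : Led Lsl_bt (LP (LK LD1_c0 LD2_c27 LD3_c40)) = (LP (LK LD1_c1 LD2_c0 LD3_c34)) :=
  Lre_b IH (LK LD1_c0 LD2_c27 LD3_c40) (LK LD1_c1 LD2_c0 LD3_c34) Lrfl Lrfl
theorem f179869 : Led Lsl_ct (LP (LK LD1_c0 LD2_c27 LD3_c40)) = (LP (LK LD1_c1 LD2_c0 LD3_c45)) :=
  Lre_c IH (LK LD1_c0 LD2_c27 LD3_c40) (LK LD1_c1 LD2_c0 LD3_c45) Lrfl Lrfl
theorem f40797 : Led Lsl_bt (LP (LK LD1_c0 LD2_c3 LD3_c19)) = (LP (LK LD1_c0 LD2_c6 LD3_c44)) :=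
  Lre_b IH (LK LD1_c0 LD2_c3 LD3_c19) (LK LD1_c0 LD2_c6 LD3_c44) Lrfl Lrfl
theorem f20641 : Led Lsl_ct (LP (LK LD1_c0 LD2_c2 LD3_c37)) = (LP (LK LD1_c0 LD2_c5 LD3_c47)) :=
  Lre_c IH (LK LD1_c0 LD2_c2 LD3_c37) (LK LD1_c0 LD2_c5 LD3_c47) Lrfl Lrfl
theorem f43098 : Led Lsl_bt (LP (LK LD1_c0 LD2_c2 LD3_c37)) = (LP (LK LD1_c0 LD2_c5 LD3_c41)) :=
  Lre_b IH (LK LD1_c0 LD2_c2 LD3_c37) (LK LD1_c0 LD2_c5 LD3_c41) Lrfl Lrfl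
theorem f173210 : Led Lsl_bt (LP (LK LD1_c0 LD2_c11 LD3_c0)) = (LP (LK LD1_c0 LD2_c12 LD3_c24)) :=
  Lgr Lrot92 (Lpr_ct (f173178 IH) (Lpr_gt (f40803 IH) (Lpe (f40802 IH) (Lpr_bt (f40797 IH) (Lpe (f40789 IH) (Lpr_ct (f167771 IH) (Lpr_gt (f8574 IH) (Lpe (f20641 IH) (Lpr_bt (f43098 IH) (Lpr_gt (f27910 IH) (Lpn (LP (LK LD1_c0 LD2_c12 LD3_c24)))))))))))))
theorem f173217 : Led Lsl_bf (LP (LK LD1_c0 LD2_c24 LD3_c46)) = (LP (LK LD1_c0 LD2_c28 LD3_c4)) :=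
  Lgr Lrot93 (Lpr_dt (f27244 IH) (Lpr_bt (f173210 IH) (Lpr_dt (f27911 IH) (Lpn (LP (LK LD1_c0 LD2_c28 LD3_c4))))))
theorem f173269 : Led Lsl_bt (LP (LK LD1_c0 LD2_c24 LD3_c46)) = (LP (LK LD1_c0 LD2_c28 LD3_c4)) :=
  Lgr Lrot127 (Lpr_bf (f173217 IH) (Lpn (LP (LK LD1_c0 LD2_c28 LD3_c4))))
theorem f168862 : Led Lsl_dt (LP (LK LD1_c0 LD2_c37 LD3_c12)) = (LP (LK LD1_c0 LD2_c16 LD3_c34)) :=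
  Lre_d IH (LK LD1_c0 LD2_c37 LD3_c12) (LK LD1_c0 LD2_c16 LD3_c34) Lrfl Lrfl
theorem f20808 : Led Lsl_ct (LP (LK LD1_c0 LD2_c7 LD3_c24)) = (LP (LK LD1_c0 LD2_c16 LD3_c34)) :=
  Lre_c IH (LK LD1_c0 LD2_c7 LD3_c24) (LK LD1_c0 LD2_c16 LD3_c34) Lrfl Lrfl
theorem f20740 : Led Lsl_gt (LP (LK LD1_c0 LD2_c28 LD3_c50)) = (LP (LK LD1_c0 LD2_c12 LD3_c44)) :=
  Lre_g IH (LK LD1_c0 LD2_c28 LD3_c50) (LK LD1_c0 LD2_c12 LD3_c44) Lrfl Lrfl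
theorem f174620 : Led Lsl_ct (LP (LK LD1_c1 LD2_c3 LD3_c13)) = (LP (LK LD1_c0 LD2_c28 LD3_c50)) :=
  Lre_c IH (LK LD1_c1 LD2_c3 LD3_c13) (LK LD1_c0 LD2_c28 LD3_c50) Lrfl Lrfl
theorem f174621 : Led Lsl_gf (LP (LK LD1_c0 LD2_c54 LD3_c49)) = (LP (LK LD1_c1 LD2_c3 LD3_c13)) :=
  Lgr Lrot144 (Lpr_dt (f174597 IH) (Lpr_gt (f169303 IH) (Lpr_dt (f168862 IH) (Lpe (f20808 IH) (Lpe (f20650 IH) (Lpe (f20651 IH) (Lpe (f20665 IH) (Lpe (f20740 IH) (Lpe (f174620 IH) (Lpn (LP (LK LD1_c1 LD2_c3 LD3_c13))))))))))))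
theorem f174623 : Led Lsl_ct (LP (LK LD1_c0 LD2_c28 LD3_c50)) = (LP (LK LD1_c1 LD2_c3 LD3_c13)) :=
  Lre_c IH (LK LD1_c0 LD2_c28 LD3_c50) (LK LD1_c1 LD2_c3 LD3_c13) Lrfl Lrfl
theorem f174629 : Led Lsl_gt (LP (LK LD1_c0 LD2_c12 LD3_c47)) = (LP (LK LD1_c0 LD2_c28 LD3_c50)) :=
  Lgr Lrot9 (Lpe (f20593 IH) (Lpr_gt (K0.f6846 IH) (Lpr_ct (f20641 IH) (Lpr_gt (f8579 IH) (Lpe (f173165 IH) (Lpe (f27244 IH) (Lpe (f165143 IH) (Lpr_gf (f174621 IH) (Lpe (f174623 IH) (Lpn (LP (LK LD1_c0 LD2_c28 LD3_c50))))))))))))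
theorem f20595 : Led Lsl_et (LP (LK LD1_c0 LD2_c17 LD3_c45)) = (LP (LK LD1_c0 LD2_c12 LD3_c47)) :=
  Lgr Lrot87 (Lpr_ef (K0.f20587 IH) (Lpn (LP (LK LD1_c0 LD2_c12 LD3_c47))))
theorem f177813 : Led Lsl_bt (LP (LK LD1_c0 LD2_c12 LD3_c47)) = (LP (LK LD1_c0 LD2_c12 LD3_c47)) :=
  Lgr Lrot119 (Lpe (f20595 IH) (Lpr_bf (f177809 IH) (Lpr_ef (K0.f20587 IH) (Lpn (LP (LK LD1_c0 LD2_c12 LD3_c47))))))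
theorem f180225 : Led Lsl_gt (LP (LK LD1_c1 LD2_c0 LD3_c45)) = (LP (LK LD1_c0 LD2_c28 LD3_c58)) :=
  Lgr Lrot65 (Lpe (f179869 IH) (Lpr_bt (f180125 IH) (Lpr_gf (f180108 IH) (Lpe (f173269 IH) (Lpr_ct (f173180 IH) (Lpr_gf (f174621 IH) (Lpe (f174623 IH) (Lpe (f174629 IH) (Lpe (f177813 IH) (Lpr_ct (f168834 IH) (Lpn (LP (LK LD1_c0 LD2_c28 LD3_c58)))))))))))))
theorem f179874 : Led Lsl_ct (LP (LK LD1_c1 LD2_c0 LD3_c45)) = (LP (LK LD1_c0 LD2_c27 LD3_c40)) :=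
  Lre_c IH (LK LD1_c1 LD2_c0 LD3_c45) (LK LD1_c0 LD2_c27 LD3_c40) Lrfl Lrfl
theorem f180227 : Led Lsl_gt (LP (LK LD1_c0 LD2_c27 LD3_c40)) = (LP (LK LD1_c0 LD2_c14 LD3_c37)) :=
  Lgr Lrot94 (Lpe (f179874 IH) (Lpr_gt (f180225 IH) (Lpr_dt (f168836 IH) (Lpe (f168848 IH) (Lpr_dt (K1.f40727 IH) (Lpe (K1.f40724 IH) (Lpe (K1.f40992 IH) (Lpe (f7022 IH) (Lpe (f56515 IH) (Lpn (LP (LK LD1_c0 LD2_c14 LD3_c37))))))))))))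
theorem f6773 : Led Lsl_dt (LP (LK LD1_c0 LD2_c12 LD3_c14)) = (LP (LK LD1_c0 LD2_c27 LD3_c40)) :=
  Lre_d IH (LK LD1_c0 LD2_c12 LD3_c14) (LK LD1_c0 LD2_c27 LD3_c40) Lrfl Lrfl
theorem f6772 : Led Lsl_et (LP (LK LD1_c0 LD2_c12 LD3_c14)) = (LP (LK LD1_c0 LD2_c5 LD3_c36)) :=
  Lre_e IH (LK LD1_c0 LD2_c12 LD3_c14) (LK LD1_c0 LD2_c5 LD3_c36) Lrfl Lrfl
theorem f179111 : Led Lsl_gt (LP (LK LD1_c0 LD2_c14 LD3_c38)) = (LP (LK LD1_c0 LD2_c12 LD3_c9)) :=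
  Lgr Lrot94 (Lpr_cf (f168320 IH) (Lpr_gt (f179106 IH) (Lpe (K0.f7918 IH) (Lpe (f53424 IH) (Lpr_dt (K0.f27320 IH) (Lpe (f27316 IH) (Lpr_df (f51592 IH) (Lpr_gf (f53133 IH) (Lpe (f8015 IH) (Lpn (LP (LK LD1_c0 LD2_c12 LD3_c9))))))))))))
theorem f27318 : Led Lsl_ef (LP (LK LD1_c0 LD2_c5 LD3_c28)) = (LP (LK LD1_c0 LD2_c5 LD3_c28)) :=
  Lgr Lrot28 (Lpr_ct (f27316 IH) (Lpr_et (K0.f27310 IH) (Lpr_ct (f27317 IH) (Lpn (LP (LK LD1_c0 LD2_c5 LD3_c28))))))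
theorem f180235 : Led Lsl_gf (LP (LK LD1_c0 LD2_c5 LD3_c36)) = (LP (LK LD1_c0 LD2_c5 LD3_c28)) :=
  Lgr Lrot141 (Lpe (f6772 IH) (Lpr_dt (f6773 IH) (Lpr_gt (f180227 IH) (Lpe (f56528 IH) (Lpr_et (f56539 IH) (Lpr_gt (f179111 IH) (Lpr_dt (f8015 IH) (Lpe (f53133 IH) (Lpr_df (f51592 IH) (Lpe (f27318 IH) (Lpn (LP (LK LD1_c0 LD2_c5 LD3_c28)))))))))))))
theorem f6792 : Led Lsl_et (LP (LK LD1_c0 LD2_c12 LD3_c10)) = (LP (LK LD1_c0 LD2_c5 LD3_c35)) :=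
  Lre_e IH (LK LD1_c0 LD2_c12 LD3_c10) (LK LD1_c0 LD2_c5 LD3_c35) Lrfl Lrfl
theorem f6793 : Led Lsl_dt (LP (LK LD1_c0 LD2_c12 LD3_c10)) = (LP (LK LD1_c0 LD2_c27 LD3_c30)) :=
  Lre_d IH (LK LD1_c0 LD2_c12 LD3_c10) (LK LD1_c0 LD2_c27 LD3_c30) Lrfl Lrfl
theorem f31667 : Led Lsl_ft (LP (LK LD1_c0 LD2_c32 LD3_c13)) = (LP (LK LD1_c0 LD2_c14 LD3_c25)) :=
  Lre_f IH (LK LD1_c0 LD2_c32 LD3_c13) (LK LD1_c0 LD2_c14 LD3_c25) Lrfl Lrfl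
theorem f31440 : Led Lsl_gf (LP (LK LD1_c0 LD2_c14 LD3_c21)) = (LP (LK LD1_c0 LD2_c27 LD3_c30)) :=
  Lgr Lrot145 (Lpe (f31439 IH) (Lpr_et (K1.f28428 IH) (Lpr_gt (K1.f31430 IH) (Lpr_dt (K0.f6788 IH) (Lpr_gt (K0.f6786 IH) (Lpe (K0.f298 IH) (Lpr_et (K0.f6770 IH) (Lpr_gt (f6791 IH) (Lpe (f6792 IH) (Lpr_dt (f6793 IH) (Lpn (LP (LK LD1_c0 LD2_c27 LD3_c30)))))))))))))
theorem f31679 : Led Lsl_gt (LP (LK LD1_c0 LD2_c32 LD3_c13)) = (LP (LK LD1_c0 LD2_c27 LD3_c30)) :=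
  Lgr Lrot5 (Lpr_ft (f31667 IH) (Lpr_at (K8.f31610 IH) (Lpr_gf (f31440 IH) (Lpn (LP (LK LD1_c0 LD2_c27 LD3_c30))))))
theorem f180243 : Led Lsl_et (LP (LK LD1_c0 LD2_c12 LD3_c13)) = (LP (LK LD1_c0 LD2_c14 LD3_c19)) :=
  Lgr Lrot121 (Lpr_dt (f8003 IH) (Lpr_gf (f180235 IH) (Lpr_df (f51592 IH) (Lpe (f27318 IH) (Lpr_gf (f53133 IH) (Lpe (f6792 IH) (Lpr_dt (f6793 IH) (Lpe (f31679 IH) (Lpe (f31663 IH) (Lpr_gf (f31677 IH) (Lpn (LP (LK LD1_c0 LD2_c14 LD3_c19)))))))))))))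
theorem f180249 : Led Lsl_ef (LP (LK LD1_c0 LD2_c12 LD3_c13)) = (LP (LK LD1_c0 LD2_c14 LD3_c19)) :=
  Lgr Lrot88 (Lpr_et (f180243 IH) (Lpn (LP (LK LD1_c0 LD2_c14 LD3_c19))))
theorem f180255 : Led Lsl_et (LP (LK LD1_c0 LD2_c27 LD3_c40)) = (LP (LK LD1_c0 LD2_c32 LD3_c4)) :=
  Lgr Lrot71 (Lpe (f6773 IH) (Lpe (f170295 IH) (Lpe (f8003 IH) (Lpr_ef (f180249 IH) (Lpe (f31452 IH) (Lpn (LP (LK LD1_c0 LD2_c32 LD3_c4))))))))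
theorem f31446 : Led Lsl_ct (LP (LK LD1_c0 LD2_c32 LD3_c4)) = (LP (LK LD1_c1 LD2_c9 LD3_c36)) :=
  Lre_c IH (LK LD1_c0 LD2_c32 LD3_c4) (LK LD1_c1 LD2_c9 LD3_c36) Lrfl Lrfl
theorem f181087 : Led Lsl_ef (LP (LK LD1_c1 LD2_c0 LD3_c45)) = (LP (LK LD1_c1 LD2_c9 LD3_c36)) :=
  Lgr Lrot28 (Lpr_ct (f179874 IH) (Lpr_et (f180255 IH) (Lpr_ct (f31446 IH) (Lpn (LP (LK LD1_c1 LD2_c9 LD3_c36))))))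
theorem f56662 : Led Lsl_et (LP (LK LD1_c0 LD2_c14 LD3_c41)) = (LP (LK LD1_c0 LD2_c6 LD3_c47)) :=
  Lre_e IH (LK LD1_c0 LD2_c14 LD3_c41) (LK LD1_c0 LD2_c6 LD3_c47) Lrfl Lrfl
theorem f20528 : Led Lsl_et (LP (LK LD1_c0 LD2_c15 LD3_c23)) = (LP (LK LD1_c0 LD2_c12 LD3_c59)) :=
  Lgr Lrot158 (Lpe (K8.f20526 IH) (Lpr_ef (K0.f20466 IH) (Lpe (K1.f20527 IH) (Lpn (LP (LK LD1_c0 LD2_c12 LD3_c59))))))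
theorem f163938 : Led Lsl_gt (LP (LK LD1_c0 LD2_c34 LD3_c19)) = (LP (LK LD1_c1 LD2_c14 LD3_c1)) :=
  Lre_g IH (LK LD1_c0 LD2_c34 LD3_c19) (LK LD1_c1 LD2_c14 LD3_c1) Lrfl Lrfl
theorem f181094 : Led Lsl_df (LP (LK LD1_c1 LD2_c14 LD3_c1)) = (LP (LK LD1_c1 LD2_c9 LD3_c36)) :=
  Lgr Lrot168 (Lpe (f163938 IH) (Lpe (K8.f59573 IH) (Lpr_et (f20528 IH) (Lpe (K1.f37314 IH) (Lpe (f56662 IH) (Lpr_dt (K1.f40991 IH) (Lpr_gf (f168848 IH) (Lpe (f168836 IH) (Lpe (f180225 IH) (Lpr_ef (f181087 IH) (Lpn (LP (LK LD1_c1 LD2_c9 LD3_c36)))))))))))))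
theorem f163633 : Led Lsl_dt (LP (LK LD1_c0 LD2_c34 LD3_c19)) = (LP (LK LD1_c0 LD2_c15 LD3_c23)) :=
  Lre_d IH (LK LD1_c0 LD2_c34 LD3_c19) (LK LD1_c0 LD2_c15 LD3_c23) Lrfl Lrfl
theorem f163657 : Led Lsl_ft (LP (LK LD1_c0 LD2_c34 LD3_c19)) = (LP (LK LD1_c1 LD2_c14 LD3_c5)) :=
  Lre_f IH (LK LD1_c0 LD2_c34 LD3_c19) (LK LD1_c1 LD2_c14 LD3_c5) Lrfl Lrfl
theorem f163735 : Led Lsl_af (LP (LK LD1_c1 LD2_c12 LD3_c42)) = (LP (LK LD1_c1 LD2_c14 LD3_c5)) :=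
  Lgr Lrot109 (Lpr_cf (K8.f163718 IH) (Lpe (K8.f21387 IH) (Lpe (K8.f21379 IH) (Lpe (K0.f20821 IH) (Lpe (K0.f22105 IH) (Lpe (K0.f20469 IH) (Lpe (K8.f20462 IH) (Lpe (f163633 IH) (Lpr_ft (f163657 IH) (Lpn (LP (LK LD1_c1 LD2_c14 LD3_c5))))))))))))
theorem f165455 : Led Lsl_gf (LP (LK LD1_c1 LD2_c12 LD3_c42)) = (LP (LK LD1_c1 LD2_c14 LD3_c1)) :=
  Lgr Lrot76 (Lpr_af (f163735 IH) (Lpe (f163657 IH) (Lpr_gt (f163938 IH) (Lpn (LP (LK LD1_c1 LD2_c14 LD3_c1))))))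
theorem f165499 : Led Lsl_ct (LP (LK LD1_c0 LD2_c34 LD3_c1)) = (LP (LK LD1_c1 LD2_c13 LD3_c27)) :=
  Lre_c IH (LK LD1_c0 LD2_c34 LD3_c1) (LK LD1_c1 LD2_c13 LD3_c27) Lrfl Lrfl
theorem f181102 : Led Lsl_gt (LP (LK LD1_c1 LD2_c13 LD3_c27)) = (LP (LK LD1_c1 LD2_c9 LD3_c36)) :=
  Lgr Lrot94 (Lpe (f165499 IH) (Lpr_gt (f165497 IH) (Lpr_dt (f20471 IH) (Lpe (f165494 IH) (Lpr_dt (K8.f3153 IH) (Lpe (K8.f3159 IH) (Lpe (K8.f3165 IH) (Lpr_gf (f165455 IH) (Lpr_df (f181094 IH) (Lpn (LP (LK LD1_c1 LD2_c9 LD3_c36))))))))))))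
theorem f31449 : Led Lsl_ct (LP (LK LD1_c1 LD2_c9 LD3_c36)) = (LP (LK LD1_c0 LD2_c32 LD3_c4)) :=
  Lre_c IH (LK LD1_c1 LD2_c9 LD3_c36) (LK LD1_c0 LD2_c32 LD3_c4) Lrfl Lrfl
theorem f171214 : Led Lsl_df (LP (LK LD1_c0 LD2_c27 LD3_c25)) = (LP (LK LD1_c0 LD2_c33 LD3_c57)) :=
  Lgr Lrot38 (Lpr_dt (f171208 IH) (Lpn (LP (LK LD1_c0 LD2_c33 LD3_c57))))
theorem f31682 : Led Lsl_ct (LP (LK LD1_c0 LD2_c12 LD3_c10)) = (LP (LK LD1_c0 LD2_c27 LD3_c25)) :=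
  Lre_c IH (LK LD1_c0 LD2_c12 LD3_c10) (LK LD1_c0 LD2_c27 LD3_c25) Lrfl Lrfl
theorem f31450 : Led Lsl_dt (LP (LK LD1_c0 LD2_c27 LD3_c30)) = (LP (LK LD1_c0 LD2_c12 LD3_c10)) :=
  Lre_d IH (LK LD1_c0 LD2_c27 LD3_c30) (LK LD1_c0 LD2_c12 LD3_c10) Lrfl Lrfl
theorem f21356 : Led Lsl_ft (LP (LK LD1_c0 LD2_c33 LD3_c16)) = (LP (LK LD1_c0 LD2_c14 LD3_c56)) :=
  Lre_f IH (LK LD1_c0 LD2_c33 LD3_c16) (LK LD1_c0 LD2_c14 LD3_c56) Lrfl Lrfl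
theorem f163912 : Led Lsl_at (LP (LK LD1_c0 LD2_c14 LD3_c56)) = (LP (LK LD1_c0 LD2_c15 LD3_c13)) :=
  Lgr Lrot66 (Lpe (f21356 IH) (Lpr_af (K8.f163896 IH) (Lpe (K8.f21355 IH) (Lpn (LP (LK LD1_c0 LD2_c15 LD3_c13))))))
theorem f165254 : Led Lsl_gt (LP (LK LD1_c0 LD2_c33 LD3_c16)) = (LP (LK LD1_c0 LD2_c33 LD3_c57)) :=
  Lgr Lrot5 (Lpr_ft (f21356 IH) (Lpr_at (f163912 IH) (Lpe (f20822 IH) (Lpn (LP (LK LD1_c0 LD2_c33 LD3_c57))))))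
theorem f163693 : Led Lsl_af (LP (LK LD1_c0 LD2_c14 LD3_c57)) = (LP (LK LD1_c0 LD2_c15 LD3_c14)) :=
  Lgr Lrot68 (Lpr_ct (K0.f3146 IH) (Lpr_at (K8.f163675 IH) (Lpr_ct (K8.f163680 IH) (Lpn (LP (LK LD1_c0 LD2_c15 LD3_c14))))))
theorem f163737 : Led Lsl_ft (LP (LK LD1_c0 LD2_c6 LD3_c57)) = (LP (LK LD1_c0 LD2_c15 LD3_c14)) :=
  Lre_f IH (LK LD1_c0 LD2_c6 LD3_c57) (LK LD1_c0 LD2_c15 LD3_c14) Lrfl Lrfl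
theorem f21326 : Led Lsl_gt (LP (LK LD1_c0 LD2_c6 LD3_c57)) = (LP (LK LD1_c0 LD2_c15 LD3_c11)) :=
  Lre_g IH (LK LD1_c0 LD2_c6 LD3_c57) (LK LD1_c0 LD2_c15 LD3_c11) Lrfl Lrfl
theorem f165481 : Led Lsl_gf (LP (LK LD1_c0 LD2_c14 LD3_c57)) = (LP (LK LD1_c0 LD2_c15 LD3_c11)) :=
  Lgr Lrot76 (Lpr_af (f163693 IH) (Lpe (f163737 IH) (Lpr_gt (f21326 IH) (Lpn (LP (LK LD1_c0 LD2_c15 LD3_c11))))))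
theorem f171512 : Led Lsl_cf (LP (LK LD1_c0 LD2_c14 LD3_c19)) = (LP (LK LD1_c0 LD2_c15 LD3_c11)) :=
  Lgr Lrot166 (Lpe (f31677 IH) (Lpr_dt (f31663 IH) (Lpr_gt (f31679 IH) (Lpr_dt (f31450 IH) (Lpr_ct (f31682 IH) (Lpr_df (f171214 IH) (Lpe (f165254 IH) (Lpe (K8.f163726 IH) (Lpr_gf (f165481 IH) (Lpn (LP (LK LD1_c0 LD2_c15 LD3_c11))))))))))))
theorem f181104 : Led Lsl_gf (LP (LK LD1_c0 LD2_c34 LD3_c1)) = (LP (LK LD1_c0 LD2_c15 LD3_c19)) :=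
  Lgr Lrot147 (Lpr_ct (f165499 IH) (Lpr_gt (f181102 IH) (Lpr_ct (f31449 IH) (Lpe (f31445 IH) (Lpr_cf (f171512 IH) (Lpe (f21326 IH) (Lpe (K0.f22105 IH) (Lpe (f20474 IH) (Lpe (f20475 IH) (Lpn (LP (LK LD1_c0 LD2_c15 LD3_c19))))))))))))
theorem f20761 : Led Lsl_df (LP (LK LD1_c0 LD2_c29 LD3_c3)) = (LP (LK LD1_c0 LD2_c39 LD3_c27)) :=
  Lgr Lrot38 (Lpr_dt (f20638 IH) (Lpn (LP (LK LD1_c0 LD2_c39 LD3_c27))))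
theorem f20765 : Led Lsl_gt (LP (LK LD1_c0 LD2_c29 LD3_c3)) = (LP (LK LD1_c1 LD2_c3 LD3_c37)) :=
  Lre_g IH (LK LD1_c0 LD2_c29 LD3_c3) (LK LD1_c1 LD2_c3 LD3_c37) Lrfl Lrfl
theorem f20488 : Led Lsl_ef (LP (LK LD1_c0 LD2_c15 LD3_c19)) = (LP (LK LD1_c0 LD2_c29 LD3_c21)) :=
  Lgr Lrot88 (Lpr_et (f20478 IH) (Lpn (LP (LK LD1_c0 LD2_c29 LD3_c21))))
theorem f181115 : Led Lsl_df (LP (LK LD1_c1 LD2_c3 LD3_c37)) = (LP (LK LD1_c0 LD2_c29 LD3_c21)) :=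
  Lgr Lrot168 (Lpe (f20765 IH) (Lpr_df (f20761 IH) (Lpr_et (f20637 IH) (Lpe (f177154 IH) (Lpe (f21251 IH) (Lpe (f21249 IH) (Lpe (f21234 IH) (Lpe (f177148 IH) (Lpr_gf (f181104 IH) (Lpr_ef (f20488 IH) (Lpn (LP (LK LD1_c0 LD2_c29 LD3_c21)))))))))))))
theorem f20485 : Led Lsl_dt (LP (LK LD1_c0 LD2_c6 LD3_c59)) = (LP (LK LD1_c0 LD2_c15 LD3_c19)) :=
  Lre_d IH (LK LD1_c0 LD2_c6 LD3_c59) (LK LD1_c0 LD2_c15 LD3_c19) Lrfl Lrfl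
theorem f20486 : Led Lsl_et (LP (LK LD1_c0 LD2_c15 LD3_c20)) = (LP (LK LD1_c0 LD2_c6 LD3_c59)) :=
  Lre_e IH (LK LD1_c0 LD2_c15 LD3_c20) (LK LD1_c0 LD2_c6 LD3_c59) Lrfl Lrfl
theorem f20487 : Led Lsl_dt (LP (LK LD1_c0 LD2_c34 LD3_c10)) = (LP (LK LD1_c0 LD2_c15 LD3_c20)) :=
  Lre_d IH (LK LD1_c0 LD2_c34 LD3_c10) (LK LD1_c0 LD2_c15 LD3_c20) Lrfl Lrfl
theorem f181119 : Led Lsl_et (LP (LK LD1_c1 LD2_c3 LD3_c37)) = (LP (LK LD1_c0 LD2_c34 LD3_c10)) :=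
  Lgr Lrot71 (Lpr_df (f181115 IH) (Lpe (f20478 IH) (Lpe (f20485 IH) (Lpe (f20486 IH) (Lpe (f20487 IH) (Lpn (LP (LK LD1_c0 LD2_c34 LD3_c10))))))))
theorem f181117 : Led Lsl_dt (LP (LK LD1_c1 LD2_c3 LD3_c37)) = (LP (LK LD1_c0 LD2_c29 LD3_c21)) :=
  Lgr Lrot42 (Lpr_df (f181115 IH) (Lpn (LP (LK LD1_c0 LD2_c29 LD3_c21))))
theorem f181129 : Led Lsl_gf (LP (LK LD1_c0 LD2_c17 LD3_c43)) = (LP (LK LD1_c0 LD2_c34 LD3_c10)) :=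
  Lgr Lrot141 (Lpr_ef (f20583 IH) (Lpr_dt (f20582 IH) (Lpr_gt (f176810 IH) (Lpe (f176815 IH) (Lpr_et (f146340 IH) (Lpr_gt (f146326 IH) (Lpr_dt (K6.f20442 IH) (Lpr_gt (f20477 IH) (Lpe (f181117 IH) (Lpr_et (f181119 IH) (Lpn (LP (LK LD1_c0 LD2_c34 LD3_c10)))))))))))))
theorem f45992 : Led Lsl_ct (LP (LK LD1_c0 LD2_c17 LD3_c43)) = (LP (LK LD1_c0 LD2_c39 LD3_c33)) :=
  Lre_c IH (LK LD1_c0 LD2_c17 LD3_c43) (LK LD1_c0 LD2_c39 LD3_c33) Lrfl Lrfl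
theorem f169089 : Led Lsl_dt (LP (LK LD1_c1 LD2_c25 LD3_c39)) = (LP (LK LD1_c0 LD2_c39 LD3_c33)) :=
  Lre_d IH (LK LD1_c1 LD2_c25 LD3_c39) (LK LD1_c0 LD2_c39 LD3_c33) Lrfl Lrfl
theorem f22119 : Led Lsl_dt (LP (LK LD1_c0 LD2_c15 LD3_c0)) = (LP (LK LD1_c0 LD2_c6 LD3_c52)) :=
  Lre_d IH (LK LD1_c0 LD2_c15 LD3_c0) (LK LD1_c0 LD2_c6 LD3_c52) Lrfl Lrfl
theorem f177175 : Led Lsl_gt (LP (LK LD1_c0 LD2_c33 LD3_c21)) = (LP (LK LD1_c0 LD2_c15 LD3_c0)) :=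
  Lgr Lrot137 (Lpr_ef (f177165 IH) (Lpr_dt (f20773 IH) (Lpe (K0.f20569 IH) (Lpe (f9357 IH) (Lpr_et (f21195 IH) (Lpe (K0.f8313 IH) (Lpr_ef (K7.f21224 IH) (Lpr_dt (K8.f3120 IH) (Lpe (f3144 IH) (Lpe (f22119 IH) (Lpn (LP (LK LD1_c0 LD2_c15 LD3_c0)))))))))))))
theorem f163706 : Led Lsl_ct (LP (LK LD1_c0 LD2_c33 LD3_c21)) = (LP (LK LD1_c1 LD2_c12 LD3_c5)) :=
  Lre_c IH (LK LD1_c0 LD2_c33 LD3_c21) (LK LD1_c1 LD2_c12 LD3_c5) Lrfl Lrfl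
theorem f28370 : Led Lsl_ct (LP (LK LD1_c1 LD2_c9 LD3_c39)) = (LP (LK LD1_c0 LD2_c32 LD3_c10)) :=
  Lre_c IH (LK LD1_c1 LD2_c9 LD3_c39) (LK LD1_c0 LD2_c32 LD3_c10) Lrfl Lrfl
theorem f164125 : Led Lsl_gf (LP (LK LD1_c1 LD2_c9 LD3_c39)) = (LP (LK LD1_c1 LD2_c12 LD3_c5)) :=
  Lgr Lrot104 (Lpr_ct (f28370 IH) (Lpe (f28353 IH) (Lpe (K8.f28363 IH) (Lpr_gf (K8.f164123 IH) (Lpe (K8.f163680 IH) (Lpe (f163697 IH) (Lpe (f21267 IH) (Lpr_gt (f163705 IH) (Lpr_ct (f163706 IH) (Lpn (LP (LK LD1_c1 LD2_c12 LD3_c5))))))))))))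
theorem f177177 : Led Lsl_dt (LP (LK LD1_c1 LD2_c9 LD3_c39)) = (LP (LK LD1_c1 LD2_c12 LD3_c39)) :=
  Lgr Lrot57 (Lpr_gf (f164125 IH) (Lpe (f163706 IH) (Lpr_gt (f177175 IH) (Lpr_dt (f22119 IH) (Lpr_gt (f3144 IH) (Lpr_dt (K7.f3119 IH) (Lpe (K7.f3273 IH) (Lpe (K7.f3763 IH) (Lpe (f3764 IH) (Lpn (LP (LK LD1_c1 LD2_c12 LD3_c39))))))))))))
theorem f28369 : Led Lsl_ct (LP (LK LD1_c0 LD2_c32 LD3_c10)) = (LP (LK LD1_c1 LD2_c9 LD3_c39)) :=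
  Lre_c IH (LK LD1_c0 LD2_c32 LD3_c10) (LK LD1_c1 LD2_c9 LD3_c39) Lrfl Lrfl
theorem f21989 : Led Lsl_dt (LP (LK LD1_c0 LD2_c33 LD3_c11)) = (LP (LK LD1_c0 LD2_c14 LD3_c55)) :=
  Lre_d IH (LK LD1_c0 LD2_c33 LD3_c11) (LK LD1_c0 LD2_c14 LD3_c55) Lrfl Lrfl
theorem f28367 : Led Lsl_ct (LP (LK LD1_c1 LD2_c11 LD3_c41)) = (LP (LK LD1_c0 LD2_c33 LD3_c11)) :=
  Lre_c IH (LK LD1_c1 LD2_c11 LD3_c41) (LK LD1_c0 LD2_c33 LD3_c11) Lrfl Lrfl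
theorem f28368 : Led Lsl_dt (LP (LK LD1_c2 LD2_c29 LD3_c6)) = (LP (LK LD1_c1 LD2_c11 LD3_c41)) :=
  Lre_d IH (LK LD1_c2 LD2_c29 LD3_c6) (LK LD1_c1 LD2_c11 LD3_c41) Lrfl Lrfl
theorem f165607 : Led Lsl_ct (LP (LK LD1_c1 LD2_c11 LD3_c35)) = (LP (LK LD1_c0 LD2_c33 LD3_c9)) :=
  Lre_c IH (LK LD1_c1 LD2_c11 LD3_c35) (LK LD1_c0 LD2_c33 LD3_c9) Lrfl Lrfl
theorem f21993 : Led Lsl_dt (LP (LK LD1_c0 LD2_c33 LD3_c9)) = (LP (LK LD1_c0 LD2_c14 LD3_c54)) :=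
  Lre_d IH (LK LD1_c0 LD2_c33 LD3_c9) (LK LD1_c0 LD2_c14 LD3_c54) Lrfl Lrfl
theorem f177197 : Led Lsl_cf (LP (LK LD1_c2 LD2_c29 LD3_c6)) = (LP (LK LD1_c1 LD2_c12 LD3_c38)) :=
  Lgr Lrot55 (Lpr_dt (f28368 IH) (Lpr_ct (f28367 IH) (Lpr_dt (f21989 IH) (Lpr_ct (K8.f28363 IH) (Lpr_dt (f28353 IH) (Lpr_ct (f28369 IH) (Lpr_dt (f177177 IH) (Lpe (f165640 IH) (Lpr_dt (K8.f165604 IH) (Lpr_ct (f165607 IH) (Lpr_dt (f21993 IH) (Lpe (f165829 IH) (Lpr_dt (f28338 IH) (Lpr_ct (f28343 IH) (Lpe (f53210 IH) (Lpn (LP (LK LD1_c1 LD2_c12 LD3_c38))))))))))))))))))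
theorem f28374 : Led Lsl_ct (LP (LK LD1_c0 LD2_c33 LD3_c11)) = (LP (LK LD1_c1 LD2_c11 LD3_c41)) :=
  Lre_c IH (LK LD1_c0 LD2_c33 LD3_c11) (LK LD1_c1 LD2_c11 LD3_c41) Lrfl Lrfl
theorem f169582 : Led Lsl_dt (LP (LK LD1_c1 LD2_c12 LD3_c13)) = (LP (LK LD1_c2 LD2_c29 LD3_c41)) :=
  Lgr Lrot42 (Lpr_df (f169575 IH) (Lpn (LP (LK LD1_c2 LD2_c29 LD3_c41))))
theorem f163910 : Led Lsl_at (LP (LK LD1_c0 LD2_c14 LD3_c57)) = (LP (LK LD1_c0 LD2_c15 LD3_c14)) :=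
  Lgr Lrot51 (Lpe (K8.f3156 IH) (Lpr_af (K8.f163896 IH) (Lpe (K8.f163707 IH) (Lpn (LP (LK LD1_c0 LD2_c15 LD3_c14))))))
theorem f164122 : Led Lsl_ft (LP (LK LD1_c0 LD2_c6 LD3_c50)) = (LP (LK LD1_c0 LD2_c14 LD3_c57)) :=
  Lre_f IH (LK LD1_c0 LD2_c6 LD3_c50) (LK LD1_c0 LD2_c14 LD3_c57) Lrfl Lrfl
theorem f165274 : Led Lsl_gt (LP (LK LD1_c0 LD2_c14 LD3_c54)) = (LP (LK LD1_c0 LD2_c15 LD3_c14)) :=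
  Lgr Lrot46 (Lpe (K8.f3145 IH) (Lpr_ft (f164122 IH) (Lpr_at (f163910 IH) (Lpn (LP (LK LD1_c0 LD2_c15 LD3_c14))))))
theorem f21288 : Led Lsl_gt (LP (LK LD1_c0 LD2_c33 LD3_c9)) = (LP (LK LD1_c1 LD2_c11 LD3_c33)) :=
  Lre_g IH (LK LD1_c0 LD2_c33 LD3_c9) (LK LD1_c1 LD2_c11 LD3_c33) Lrfl Lrfl
theorem f165279 : Led Lsl_ct (LP (LK LD1_c1 LD2_c11 LD3_c33)) = (LP (LK LD1_c2 LD2_c28 LD3_c45)) :=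
  Lre_c IH (LK LD1_c1 LD2_c11 LD3_c33) (LK LD1_c2 LD2_c28 LD3_c45) Lrfl Lrfl
theorem f165280 : Led Lsl_gt (LP (LK LD1_c2 LD2_c28 LD3_c45)) = (LP (LK LD1_c1 LD2_c12 LD3_c13)) :=
  Lgr Lrot150 (Lpe (f165279 IH) (Lpe (f21288 IH) (Lpe (K8.f3784 IH) (Lpr_gt (f165274 IH) (Lpr_ct (K8.f34641 IH) (Lpe (f163677 IH) (Lpr_ct (f163681 IH) (Lpe (f163684 IH) (Lpe (f163683 IH) (Lpn (LP (LK LD1_c1 LD2_c12 LD3_c13))))))))))))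
theorem f165286 : Led Lsl_ct (LP (LK LD1_c2 LD2_c28 LD3_c45)) = (LP (LK LD1_c1 LD2_c11 LD3_c33)) :=
  Lre_c IH (LK LD1_c2 LD2_c28 LD3_c45) (LK LD1_c1 LD2_c11 LD3_c33) Lrfl Lrfl
theorem f21314 : Led Lsl_ct (LP (LK LD1_c0 LD2_c14 LD3_c56)) = (LP (LK LD1_c0 LD2_c33 LD3_c15)) :=
  Lre_c IH (LK LD1_c0 LD2_c14 LD3_c56) (LK LD1_c0 LD2_c33 LD3_c15) Lrfl Lrfl
theorem f169610 : Led Lsl_gt (LP (LK LD1_c1 LD2_c11 LD3_c33)) = (LP (LK LD1_c0 LD2_c33 LD3_c11)) :=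
  Lgr Lrot94 (Lpe (f165286 IH) (Lpr_gt (f165280 IH) (Lpr_dt (f169582 IH) (Lpr_gt (f21419 IH) (Lpr_dt (K8.f21932 IH) (Lpe (f21314 IH) (Lpe (f3101 IH) (Lpe (K8.f3141 IH) (Lpe (f21989 IH) (Lpn (LP (LK LD1_c0 LD2_c33 LD3_c11))))))))))))
theorem f163658 : Led Lsl_ct (LP (LK LD1_c1 LD2_c14 LD3_c3)) = (LP (LK LD1_c0 LD2_c34 LD3_c19)) :=
  Lre_c IH (LK LD1_c1 LD2_c14 LD3_c3) (LK LD1_c0 LD2_c34 LD3_c19) Lrfl Lrfl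
theorem f163727 : Led Lsl_dt (LP (LK LD1_c1 LD2_c11 LD3_c54)) = (LP (LK LD1_c1 LD2_c14 LD3_c3)) :=
  Lgr Lrot173 (Lpe (K8.f33390 IH) (Lpe (K8.f163726 IH) (Lpe (K0.f3148 IH) (Lpe (K8.f3152 IH) (Lpe (K8.f3159 IH) (Lpe (K8.f3165 IH) (Lpr_cf (K8.f163718 IH) (Lpe (K8.f21387 IH) (Lpe (K8.f21379 IH) (Lpe (K0.f20821 IH) (Lpe (K0.f22105 IH) (Lpe (K0.f20469 IH) (Lpe (K8.f20462 IH) (Lpe (f163633 IH) (Lpe (f163658 IH) (Lpn (LP (LK LD1_c1 LD2_c14 LD3_c3))))))))))))))))))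
theorem f163652 : Led Lsl_dt (LP (LK LD1_c1 LD2_c12 LD3_c40)) = (LP (LK LD1_c1 LD2_c13 LD3_c19)) :=
  Lgr Lrot173 (Lpe (f53212 IH) (Lpe (f22214 IH) (Lpe (K8.f3274 IH) (Lpe (K7.f3119 IH) (Lpe (K8.f3115 IH) (Lpe (K0.f3134 IH) (Lpe (K8.f21380 IH) (Lpe (K8.f21932 IH) (Lpr_cf (K8.f163642 IH) (Lpe (K8.f163641 IH) (Lpe (K8.f163648 IH) (Lpe (K8.f163649 IH) (Lpe (K8.f34641 IH) (Lpe (K8.f163650 IH) (Lpe (f163651 IH) (Lpn (LP (LK LD1_c1 LD2_c13 LD3_c19))))))))))))))))))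
theorem f163761 : Led Lsl_at (LP (LK LD1_c1 LD2_c14 LD3_c3)) = (LP (LK LD1_c1 LD2_c12 LD3_c40)) :=
  Lgr Lrot51 (Lpe (f163727 IH) (Lpr_af (K8.f163738 IH) (Lpe (f163652 IH) (Lpn (LP (LK LD1_c1 LD2_c12 LD3_c40))))))
theorem f163659 : Led Lsl_ft (LP (LK LD1_c1 LD2_c11 LD3_c53)) = (LP (LK LD1_c1 LD2_c14 LD3_c3)) :=
  Lgr Lrot4 (Lpr_cf (K8.f163642 IH) (Lpe (f163657 IH) (Lpe (f163658 IH) (Lpn (LP (LK LD1_c1 LD2_c14 LD3_c3))))))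
theorem f165420 : Led Lsl_gt (LP (LK LD1_c2 LD2_c29 LD3_c40)) = (LP (LK LD1_c1 LD2_c12 LD3_c40)) :=
  Lgr Lrot46 (Lpe (f21423 IH) (Lpr_ft (f163659 IH) (Lpr_at (f163761 IH) (Lpn (LP (LK LD1_c1 LD2_c12 LD3_c40))))))
theorem f22143 : Led Lsl_dt (LP (LK LD1_c1 LD2_c12 LD3_c17)) = (LP (LK LD1_c0 LD2_c33 LD3_c27)) :=
  Lre_d IH (LK LD1_c1 LD2_c12 LD3_c17) (LK LD1_c0 LD2_c33 LD3_c27) Lrfl Lrfl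
theorem f165296 : Led Lsl_ct (LP (LK LD1_c0 LD2_c33 LD3_c25)) = (LP (LK LD1_c1 LD2_c12 LD3_c13)) :=
  Lre_c IH (LK LD1_c0 LD2_c33 LD3_c25) (LK LD1_c1 LD2_c12 LD3_c13) Lrfl Lrfl
theorem f166246 : Led Lsl_ct (LP (LK LD1_c0 LD2_c33 LD3_c20)) = (LP (LK LD1_c1 LD2_c12 LD3_c2)) :=
  Lre_c IH (LK LD1_c0 LD2_c33 LD3_c20) (LK LD1_c1 LD2_c12 LD3_c2) Lrfl Lrfl
theorem f169746 : Led Lsl_dt (LP (LK LD1_c1 LD2_c12 LD3_c2)) = (LP (LK LD1_c2 LD2_c29 LD3_c40)) :=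
  Lgr Lrot173 (Lpe (f166246 IH) (Lpe (f165191 IH) (Lpe (f3140 IH) (Lpe (f21267 IH) (Lpe (f164746 IH) (Lpe (f164735 IH) (Lpe (f166199 IH) (Lpe (f169582 IH) (Lpe (f165296 IH) (Lpe (f163682 IH) (Lpe (f163681 IH) (Lpe (f22119 IH) (Lpe (f22123 IH) (Lpe (f22143 IH) (Lpr_cf (f169678 IH) (Lpn (LP (LK LD1_c2 LD2_c29 LD3_c40))))))))))))))))))
theorem f177309 : Led Lsl_gf (LP (LK LD1_c2 LD2_c28 LD3_c45)) = (LP (LK LD1_c1 LD2_c12 LD3_c2)) :=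
  Lgr Lrot147 (Lpr_ct (f165286 IH) (Lpr_gt (f169610 IH) (Lpr_ct (f28374 IH) (Lpe (f28368 IH) (Lpr_cf (f177197 IH) (Lpe (f22231 IH) (Lpe (K8.f53213 IH) (Lpe (f165420 IH) (Lpe (f169746 IH) (Lpn (LP (LK LD1_c1 LD2_c12 LD3_c2))))))))))))
theorem f165288 : Led Lsl_dt (LP (LK LD1_c2 LD2_c28 LD3_c45)) = (LP (LK LD1_c5 LD2_c2 LD3_c20)) :=
  Lre_d IH (LK LD1_c2 LD2_c28 LD3_c45) (LK LD1_c5 LD2_c2 LD3_c20) Lrfl Lrfl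
theorem f177199 : Led Lsl_df (LP (LK LD1_c1 LD2_c9 LD3_c39)) = (LP (LK LD1_c1 LD2_c12 LD3_c39)) :=
  Lgr Lrot38 (Lpr_dt (f177177 IH) (Lpn (LP (LK LD1_c1 LD2_c12 LD3_c39))))
theorem f163704 : Led Lsl_ct (LP (LK LD1_c1 LD2_c12 LD3_c6)) = (LP (LK LD1_c0 LD2_c33 LD3_c22)) :=
  Lre_c IH (LK LD1_c1 LD2_c12 LD3_c6) (LK LD1_c0 LD2_c33 LD3_c22) Lrfl Lrfl
theorem f177201 : Led Lsl_gt (LP (LK LD1_c1 LD2_c9 LD3_c39)) = (LP (LK LD1_c1 LD2_c12 LD3_c6)) :=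
  Lgr Lrot146 (Lpr_dt (f177177 IH) (Lpr_gt (f3764 IH) (Lpr_ct (f53212 IH) (Lpe (f163804 IH) (Lpr_ct (f166199 IH) (Lpr_dt (f164735 IH) (Lpe (f3129 IH) (Lpe (f163699 IH) (Lpe (f163704 IH) (Lpn (LP (LK LD1_c1 LD2_c12 LD3_c6))))))))))))
theorem f164099 : Led Lsl_dt (LP (LK LD1_c1 LD2_c12 LD3_c6)) = (LP (LK LD1_c2 LD2_c30 LD3_c11)) :=
  Lre_d IH (LK LD1_c1 LD2_c12 LD3_c6) (LK LD1_c2 LD2_c30 LD3_c11) Lrfl Lrfl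
theorem f177311 : Led Lsl_ct (LP (LK LD1_c5 LD2_c2 LD3_c20)) = (LP (LK LD1_c2 LD2_c30 LD3_c11)) :=
  Lgr Lrot7 (Lpe (f165288 IH) (Lpr_gf (f177309 IH) (Lpe (f169436 IH) (Lpe (f21423 IH) (Lpr_cf (K8.f163642 IH) (Lpe (f164109 IH) (Lpe (f177199 IH) (Lpr_gt (f177201 IH) (Lpr_dt (f164099 IH) (Lpn (LP (LK LD1_c2 LD2_c30 LD3_c11))))))))))))
theorem f164098 : Led Lsl_dt (LP (LK LD1_c2 LD2_c30 LD3_c11)) = (LP (LK LD1_c1 LD2_c12 LD3_c6)) :=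
  Lre_d IH (LK LD1_c2 LD2_c30 LD3_c11) (LK LD1_c1 LD2_c12 LD3_c6) Lrfl Lrfl
theorem f164093 : Led Lsl_gf (LP (LK LD1_c1 LD2_c9 LD3_c38)) = (LP (LK LD1_c1 LD2_c12 LD3_c6)) :=
  Lgr Lrot144 (Lpe (f53210 IH) (Lpr_gt (f164091 IH) (Lpr_dt (K8.f163702 IH) (Lpe (K8.f163648 IH) (Lpe (K8.f163649 IH) (Lpe (f163697 IH) (Lpe (f21267 IH) (Lpe (f163699 IH) (Lpe (f163704 IH) (Lpn (LP (LK LD1_c1 LD2_c12 LD3_c6))))))))))))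
theorem f163700 : Led Lsl_ct (LP (LK LD1_c0 LD2_c33 LD3_c22)) = (LP (LK LD1_c1 LD2_c12 LD3_c6)) :=
  Lre_c IH (LK LD1_c0 LD2_c33 LD3_c22) (LK LD1_c1 LD2_c12 LD3_c6) Lrfl Lrfl
theorem f165845 : Led Lsl_gf (LP (LK LD1_c0 LD2_c33 LD3_c22)) = (LP (LK LD1_c0 LD2_c15 LD3_c0)) :=
  Lgr Lrot147 (Lpr_ct (f163700 IH) (Lpe (f164093 IH) (Lpr_ct (f28342 IH) (Lpe (f28338 IH) (Lpr_cf (f165829 IH) (Lpe (K8.f3145 IH) (Lpe (K8.f3113 IH) (Lpe (f3144 IH) (Lpe (f22119 IH) (Lpn (LP (LK LD1_c0 LD2_c15 LD3_c0))))))))))))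
theorem f28373 : Led Lsl_dt (LP (LK LD1_c0 LD2_c14 LD3_c55)) = (LP (LK LD1_c0 LD2_c33 LD3_c11)) :=
  Lre_d IH (LK LD1_c0 LD2_c14 LD3_c55) (LK LD1_c0 LD2_c33 LD3_c11) Lrfl Lrfl
theorem f165276 : Led Lsl_gt (LP (LK LD1_c1 LD2_c11 LD3_c34)) = (LP (LK LD1_c0 LD2_c33 LD3_c9)) :=
  Lre_g IH (LK LD1_c1 LD2_c11 LD3_c34) (LK LD1_c0 LD2_c33 LD3_c9) Lrfl Lrfl
theorem f165278 : Led Lsl_ct (LP (LK LD1_c2 LD2_c28 LD3_c47)) = (LP (LK LD1_c1 LD2_c11 LD3_c34)) :=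
  Lre_c IH (LK LD1_c2 LD2_c28 LD3_c47) (LK LD1_c1 LD2_c11 LD3_c34) Lrfl Lrfl
theorem f169827 : Led Lsl_gf (LP (LK LD1_c1 LD2_c12 LD3_c2)) = (LP (LK LD1_c2 LD2_c28 LD3_c47)) :=
  Lgr Lrot144 (Lpr_dt (f169746 IH) (Lpr_gt (f165420 IH) (Lpr_dt (f163652 IH) (Lpe (K8.f163758 IH) (Lpe (K8.f163707 IH) (Lpe (f165274 IH) (Lpe (f21993 IH) (Lpe (f165276 IH) (Lpe (f165278 IH) (Lpn (LP (LK LD1_c2 LD2_c28 LD3_c47))))))))))))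
theorem f165277 : Led Lsl_ct (LP (LK LD1_c1 LD2_c11 LD3_c34)) = (LP (LK LD1_c2 LD2_c28 LD3_c47)) :=
  Lre_c IH (LK LD1_c1 LD2_c11 LD3_c34) (LK LD1_c2 LD2_c28 LD3_c47) Lrfl Lrfl
theorem f169830 : Led Lsl_gt (LP (LK LD1_c0 LD2_c33 LD3_c11)) = (LP (LK LD1_c1 LD2_c11 LD3_c34)) :=
  Lgr Lrot9 (Lpe (f28373 IH) (Lpr_gt (K8.f3141 IH) (Lpr_ct (K8.f3115 IH) (Lpr_gt (f3127 IH) (Lpr_ct (f3140 IH) (Lpe (f164691 IH) (Lpe (f166366 IH) (Lpr_gf (f169827 IH) (Lpe (f165277 IH) (Lpn (LP (LK LD1_c1 LD2_c11 LD3_c34))))))))))))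
theorem f171233 : Led Lsl_df (LP (LK LD1_c1 LD2_c0 LD3_c23)) = (LP (LK LD1_c1 LD2_c11 LD3_c34)) :=
  Lgr Lrot84 (Lpr_cf (f171226 IH) (Lpe (f164679 IH) (Lpr_gf (f165845 IH) (Lpe (f22126 IH) (Lpr_gf (f163677 IH) (Lpe (K8.f34641 IH) (Lpe (K8.f164123 IH) (Lpr_dt (f28373 IH) (Lpr_gt (f169830 IH) (Lpn (LP (LK LD1_c1 LD2_c11 LD3_c34))))))))))))
theorem f171235 : Led Lsl_dt (LP (LK LD1_c1 LD2_c0 LD3_c23)) = (LP (LK LD1_c1 LD2_c11 LD3_c34)) :=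
  Lgr Lrot42 (Lpr_df (f171233 IH) (Lpn (LP (LK LD1_c1 LD2_c11 LD3_c34))))
theorem f169588 : Led Lsl_dt (LP (LK LD1_c2 LD2_c28 LD3_c47)) = (LP (LK LD1_c5 LD2_c2 LD3_c26)) :=
  Lre_d IH (LK LD1_c2 LD2_c28 LD3_c47) (LK LD1_c5 LD2_c2 LD3_c26) Lrfl Lrfl
theorem f164162 : Led Lsl_ct (LP (LK LD1_c1 LD2_c12 LD3_c5)) = (LP (LK LD1_c0 LD2_c33 LD3_c21)) :=
  Lre_c IH (LK LD1_c1 LD2_c12 LD3_c5) (LK LD1_c0 LD2_c33 LD3_c21) Lrfl Lrfl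
theorem f177179 : Led Lsl_gf (LP (LK LD1_c1 LD2_c12 LD3_c5)) = (LP (LK LD1_c1 LD2_c9 LD3_c38)) :=
  Lgr Lrot147 (Lpr_ct (f164162 IH) (Lpr_gt (f177175 IH) (Lpr_ct (f22132 IH) (Lpe (f22143 IH) (Lpr_cf (f169678 IH) (Lpe (f21423 IH) (Lpr_cf (K8.f163642 IH) (Lpe (f164091 IH) (Lpr_df (f53210 IH) (Lpn (LP (LK LD1_c1 LD2_c9 LD3_c38))))))))))))
theorem f164163 : Led Lsl_dt (LP (LK LD1_c1 LD2_c12 LD3_c5)) = (LP (LK LD1_c2 LD2_c30 LD3_c9)) :=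
  Lre_d IH (LK LD1_c1 LD2_c12 LD3_c5) (LK LD1_c2 LD2_c30 LD3_c9) Lrfl Lrfl
theorem f165618 : Led Lsl_dt (LP (LK LD1_c1 LD2_c11 LD3_c35)) = (LP (LK LD1_c2 LD2_c28 LD3_c52)) :=
  Lre_d IH (LK LD1_c1 LD2_c11 LD3_c35) (LK LD1_c2 LD2_c28 LD3_c52) Lrfl Lrfl
theorem f169585 : Led Lsl_gt (LP (LK LD1_c1 LD2_c12 LD3_c13)) = (LP (LK LD1_c2 LD2_c28 LD3_c47)) :=
  Lgr Lrot9 (Lpr_df (f169575 IH) (Lpr_gt (f21419 IH) (Lpr_ct (f163646 IH) (Lpe (f164109 IH) (Lpe (f165640 IH) (Lpe (f165618 IH) (Lpe (K8.f3785 IH) (Lpe (f165276 IH) (Lpe (f165278 IH) (Lpn (LP (LK LD1_c2 LD2_c28 LD3_c47))))))))))))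
theorem f177184 : Led Lsl_cf (LP (LK LD1_c2 LD2_c30 LD3_c9)) = (LP (LK LD1_c5 LD2_c2 LD3_c26)) :=
  Lgr Lrot14 (Lpe (f164163 IH) (Lpr_gf (f177179 IH) (Lpe (f53202 IH) (Lpe (f22231 IH) (Lpr_ct (f53212 IH) (Lpe (f163804 IH) (Lpe (f169575 IH) (Lpr_gt (f169585 IH) (Lpr_dt (f169588 IH) (Lpn (LP (LK LD1_c5 LD2_c2 LD3_c26))))))))))))
theorem f164161 : Led Lsl_dt (LP (LK LD1_c2 LD2_c30 LD3_c9)) = (LP (LK LD1_c1 LD2_c12 LD3_c5)) :=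
  Lre_d IH (LK LD1_c2 LD2_c30 LD3_c9) (LK LD1_c1 LD2_c12 LD3_c5) Lrfl Lrfl
theorem f177192 : Led Lsl_ct (LP (LK LD1_c0 LD2_c17 LD3_c44)) = (LP (LK LD1_c0 LD2_c39 LD3_c32)) :=
  Lre_c IH (LK LD1_c0 LD2_c17 LD3_c44) (LK LD1_c0 LD2_c39 LD3_c32) Lrfl Lrfl
theorem f177363 : Led Lsl_df (LP (LK LD1_c1 LD2_c11 LD3_c33)) = (LP (LK LD1_c0 LD2_c39 LD3_c32)) :=
  Lgr Lrot43 (Lpr_ct (f165279 IH) (Lpr_dt (f165288 IH) (Lpr_ct (f177311 IH) (Lpr_dt (f164098 IH) (Lpr_ct (f163704 IH) (Lpr_dt (f164679 IH) (Lpe (f171226 IH) (Lpr_dt (f171235 IH) (Lpr_ct (f165277 IH) (Lpr_dt (f169588 IH) (Lpe (f177184 IH) (Lpr_dt (f164161 IH) (Lpr_ct (f164162 IH) (Lpr_dt (f177171 IH) (Lpr_ct (f177192 IH) (Lpn (LP (LK LD1_c0 LD2_c39 LD3_c32))))))))))))))))))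
theorem f177376 : Led Lsl_et (LP (LK LD1_c0 LD2_c39 LD3_c32)) = (LP (LK LD1_c0 LD2_c17 LD3_c42)) :=
  Lre_e IH (LK LD1_c0 LD2_c39 LD3_c32) (LK LD1_c0 LD2_c17 LD3_c42) Lrfl Lrfl
theorem f177377 : Led Lsl_gf (LP (LK LD1_c0 LD2_c11 LD3_c28)) = (LP (LK LD1_c0 LD2_c17 LD3_c42)) :=
  Lgr Lrot141 (Lpe (f28237 IH) (Lpe (f27278 IH) (Lpe (K0.f28221 IH) (Lpr_df (K0.f21272 IH) (Lpr_et (K8.f21283 IH) (Lpr_gt (K8.f3145 IH) (Lpr_dt (K8.f3784 IH) (Lpr_gt (f21288 IH) (Lpr_df (f177363 IH) (Lpr_et (f177376 IH) (Lpn (LP (LK LD1_c0 LD2_c17 LD3_c42)))))))))))))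
theorem f9084 : Led Lsl_ct (LP (LK LD1_c0 LD2_c7 LD3_c58)) = (LP (LK LD1_c0 LD2_c17 LD3_c42)) :=
  Lre_c IH (LK LD1_c0 LD2_c7 LD3_c58) (LK LD1_c0 LD2_c17 LD3_c42) Lrfl Lrfl
theorem f20660 : Led Lsl_ct (LP (LK LD1_c0 LD2_c17 LD3_c46)) = (LP (LK LD1_c0 LD2_c39 LD3_c36)) :=
  Lre_c IH (LK LD1_c0 LD2_c17 LD3_c46) (LK LD1_c0 LD2_c39 LD3_c36) Lrfl Lrfl
theorem f177381 : Led Lsl_gf (LP (LK LD1_c0 LD2_c25 LD3_c56)) = (LP (LK LD1_c0 LD2_c39 LD3_c36)) :=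
  Lgr Lrot104 (Lpr_ct (K1.f55380 IH) (Lpe (K1.f27281 IH) (Lpe (K1.f47049 IH) (Lpr_gf (f177377 IH) (Lpe (f9084 IH) (Lpe (K0.f9080 IH) (Lpe (K0.f9021 IH) (Lpr_gt (f20652 IH) (Lpr_ct (f20660 IH) (Lpn (LP (LK LD1_c0 LD2_c39 LD3_c36))))))))))))
theorem f55611 : Led Lsl_at (LP (LK LD1_c0 LD2_c26 LD3_c10)) = (LP (LK LD1_c0 LD2_c25 LD3_c56)) :=
  Lgr Lrot107 (Lpe (K1.f55430 IH) (Lpr_af (K1.f55603 IH) (Lpe (K1.f55380 IH) (Lpn (LP (LK LD1_c0 LD2_c25 LD3_c56))))))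
theorem f55637 : Led Lsl_ft (LP (LK LD1_c0 LD2_c57 LD3_c35)) = (LP (LK LD1_c0 LD2_c26 LD3_c10)) :=
  Lre_f IH (LK LD1_c0 LD2_c57 LD3_c35) (LK LD1_c0 LD2_c26 LD3_c10) Lrfl Lrfl
theorem f177386 : Led Lsl_gt (LP (LK LD1_c0 LD2_c57 LD3_c35)) = (LP (LK LD1_c0 LD2_c39 LD3_c36)) :=
  Lgr Lrot5 (Lpr_ft (f55637 IH) (Lpr_at (f55611 IH) (Lpr_gf (f177381 IH) (Lpn (LP (LK LD1_c0 LD2_c39 LD3_c36))))))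
theorem f20577 : Led Lsl_ct (LP (LK LD1_c0 LD2_c39 LD3_c33)) = (LP (LK LD1_c0 LD2_c17 LD3_c43)) :=
  Lre_c IH (LK LD1_c0 LD2_c39 LD3_c33) (LK LD1_c0 LD2_c17 LD3_c43) Lrfl Lrfl
theorem f169090 : Led Lsl_gt (LP (LK LD1_c2 LD2_c1 LD3_c4)) = (LP (LK LD1_c1 LD2_c25 LD3_c39)) :=
  Lgr Lrot49 (Lpe (K2.f55625 IH) (Lpr_gf (f169084 IH) (Lpe (f20589 IH) (Lpr_gt (K0.f9082 IH) (Lpr_dt (K0.f9021 IH) (Lpr_gt (K0.f9080 IH) (Lpr_dt (f9081 IH) (Lpe (f20577 IH) (Lpe (f169089 IH) (Lpn (LP (LK LD1_c1 LD2_c25 LD3_c39))))))))))))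
theorem f20673 : Led Lsl_ct (LP (LK LD1_c0 LD2_c39 LD3_c36)) = (LP (LK LD1_c0 LD2_c17 LD3_c46)) :=
  Lre_c IH (LK LD1_c0 LD2_c39 LD3_c36) (LK LD1_c0 LD2_c17 LD3_c46) Lrfl Lrfl
theorem f9028 : Led Lsl_dt (LP (LK LD1_c0 LD2_c39 LD3_c41)) = (LP (LK LD1_c0 LD2_c17 LD3_c47)) :=
  Lre_d IH (LK LD1_c0 LD2_c39 LD3_c41) (LK LD1_c0 LD2_c17 LD3_c47) Lrfl Lrfl
theorem f9029 : Led Lsl_ct (LP (LK LD1_c1 LD2_c25 LD3_c57)) = (LP (LK LD1_c0 LD2_c39 LD3_c41)) :=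
  Lre_c IH (LK LD1_c1 LD2_c25 LD3_c57) (LK LD1_c0 LD2_c39 LD3_c41) Lrfl Lrfl
theorem f9046 : Led Lsl_gt (LP (LK LD1_c2 LD2_c59 LD3_c32)) = (LP (LK LD1_c1 LD2_c25 LD3_c57)) :=
  Lre_g IH (LK LD1_c2 LD2_c59 LD3_c32) (LK LD1_c1 LD2_c25 LD3_c57) Lrfl Lrfl
theorem f177448 : Led Lsl_ct (LP (LK LD1_c1 LD2_c25 LD3_c39)) = (LP (LK LD1_c2 LD2_c59 LD3_c32)) :=
  Lgr Lrot152 (Lpe (f169090 IH) (Lpe (K2.f55625 IH) (Lpr_gt (f177386 IH) (Lpr_ct (f20673 IH) (Lpr_gt (f6969 IH) (Lpr_ct (f9074 IH) (Lpe (f9028 IH) (Lpe (f9029 IH) (Lpe (f9046 IH) (Lpn (LP (LK LD1_c2 LD2_c59 LD3_c32))))))))))))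
theorem f177450 : Led Lsl_cf (LP (LK LD1_c1 LD2_c25 LD3_c39)) = (LP (LK LD1_c2 LD2_c59 LD3_c32)) :=
  Lgr Lrot11 (Lpr_ct (f177448 IH) (Lpn (LP (LK LD1_c2 LD2_c59 LD3_c32))))
theorem f176048 : Led Lsl_gt (LP (LK LD1_c1 LD2_c25 LD3_c26)) = (LP (LK LD1_c2 LD2_c59 LD3_c32)) :=
  Lre_g IH (LK LD1_c1 LD2_c25 LD3_c26) (LK LD1_c2 LD2_c59 LD3_c32) Lrfl Lrfl
theorem f9064 : Led Lsl_ct (LP (LK LD1_c2 LD2_c16 LD3_c60)) = (LP (LK LD1_c1 LD2_c25 LD3_c26)) :=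
  Lre_c IH (LK LD1_c2 LD2_c16 LD3_c60) (LK LD1_c1 LD2_c25 LD3_c26) Lrfl Lrfl
theorem f47079 : Led Lsl_gt (LP (LK LD1_c1 LD2_c25 LD3_c55)) = (LP (LK LD1_c2 LD2_c16 LD3_c60)) :=
  Lre_g IH (LK LD1_c1 LD2_c25 LD3_c55) (LK LD1_c2 LD2_c16 LD3_c60) Lrfl Lrfl
theorem f181131 : Led Lsl_ct (LP (LK LD1_c1 LD2_c13 LD3_c46)) = (LP (LK LD1_c0 LD2_c34 LD3_c10)) :=
  Lre_c IH (LK LD1_c1 LD2_c13 LD3_c46) (LK LD1_c0 LD2_c34 LD3_c10) Lrfl Lrfl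
theorem f169096 : Led Lsl_dt (LP (LK LD1_c0 LD2_c39 LD3_c33)) = (LP (LK LD1_c1 LD2_c25 LD3_c39)) :=
  Lre_d IH (LK LD1_c0 LD2_c39 LD3_c33) (LK LD1_c1 LD2_c25 LD3_c39) Lrfl Lrfl
theorem f28357 : Led Lsl_ct (LP (LK LD1_c0 LD2_c57 LD3_c28)) = (LP (LK LD1_c0 LD2_c26 LD3_c4)) :=
  Lre_c IH (LK LD1_c0 LD2_c57 LD3_c28) (LK LD1_c0 LD2_c26 LD3_c4) Lrfl Lrfl
theorem f9094 : Led Lsl_gt (LP (LK LD1_c0 LD2_c39 LD3_c41)) = (LP (LK LD1_c1 LD2_c25 LD3_c55)) :=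
  Lre_g IH (LK LD1_c0 LD2_c39 LD3_c41) (LK LD1_c1 LD2_c25 LD3_c55) Lrfl Lrfl
theorem f177798 : Led Lsl_df (LP (LK LD1_c0 LD2_c57 LD3_c28)) = (LP (LK LD1_c1 LD2_c25 LD3_c55)) :=
  Lgr Lrot174 (Lpr_ct (f28357 IH) (Lpe (K8.f8146 IH) (Lpe (K8.f8144 IH) (Lpe (K1.f53168 IH) (Lpe (f53167 IH) (Lpr_ct (f177789 IH) (Lpr_gt (f9042 IH) (Lpr_dt (f9041 IH) (Lpr_gt (f9094 IH) (Lpn (LP (LK LD1_c1 LD2_c25 LD3_c55))))))))))))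
theorem f181134 : Led Lsl_gt (LP (LK LD1_c0 LD2_c57 LD3_c28)) = (LP (LK LD1_c1 LD2_c13 LD3_c46)) :=
  Lgr Lrot9 (Lpr_df (f177798 IH) (Lpr_gt (f47079 IH) (Lpr_ct (f9064 IH) (Lpr_gt (f176048 IH) (Lpe (f177450 IH) (Lpe (f169096 IH) (Lpe (f45992 IH) (Lpr_gf (f181129 IH) (Lpe (f181131 IH) (Lpn (LP (LK LD1_c1 LD2_c13 LD3_c46))))))))))))
theorem f181136 : Led Lsl_df (LP (LK LD1_c1 LD2_c25 LD3_c55)) = (LP (LK LD1_c0 LD2_c57 LD3_c28)) :=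
  Lgr Lrot155 (Lpr_gt (f47079 IH) (Lpr_ct (f9064 IH) (Lpr_gt (f176048 IH) (Lpe (f177450 IH) (Lpr_dt (f169089 IH) (Lpe (f45992 IH) (Lpr_gf (f181129 IH) (Lpe (f181131 IH) (Lpe (f181134 IH) (Lpn (LP (LK LD1_c0 LD2_c57 LD3_c28))))))))))))
theorem f9023 : Led Lsl_dt (LP (LK LD1_c2 LD2_c16 LD3_c60)) = (LP (LK LD1_c1 LD2_c5 LD3_c25)) :=
  Lre_d IH (LK LD1_c2 LD2_c16 LD3_c60) (LK LD1_c1 LD2_c5 LD3_c25) Lrfl Lrfl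
theorem f21268 : Led Lsl_ct (LP (LK LD1_c0 LD2_c33 LD3_c33)) = (LP (LK LD1_c1 LD2_c12 LD3_c26)) :=
  Lre_c IH (LK LD1_c0 LD2_c33 LD3_c33) (LK LD1_c1 LD2_c12 LD3_c26) Lrfl Lrfl
theorem f181150 : Led Lsl_gt (LP (LK LD1_c1 LD2_c12 LD3_c26)) = (LP (LK LD1_c0 LD2_c57 LD3_c28)) :=
  Lgr Lrot94 (Lpe (f21268 IH) (Lpr_gt (f177154 IH) (Lpr_dt (f20636 IH) (Lpr_gt (f9090 IH) (Lpr_dt (K1.f9067 IH) (Lpe (f9022 IH) (Lpe (f9023 IH) (Lpe (f47079 IH) (Lpr_df (f181136 IH) (Lpn (LP (LK LD1_c0 LD2_c57 LD3_c28))))))))))))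
theorem f8443 : Led Lsl_ct (LP (LK LD1_c0 LD2_c3 LD3_c38)) = (LP (LK LD1_c0 LD2_c7 LD3_c56)) :=
  Lre_c IH (LK LD1_c0 LD2_c3 LD3_c38) (LK LD1_c0 LD2_c7 LD3_c56) Lrfl Lrfl
theorem f55923 : Led Lsl_gt (LP (LK LD1_c0 LD2_c7 LD3_c56)) = (LP (LK LD1_c0 LD2_c17 LD3_c34)) :=
  Lre_g IH (LK LD1_c0 LD2_c7 LD3_c56) (LK LD1_c0 LD2_c17 LD3_c34) Lrfl Lrfl
theorem f181160 : Led Lsl_ct (LP (LK LD1_c0 LD2_c17 LD3_c34)) = (LP (LK LD1_c0 LD2_c11 LD3_c35)) :=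
  Lgr Lrot110 (Lpe (f55923 IH) (Lpe (f8443 IH) (Lpe (K0.f20566 IH) (Lpe (K0.f20567 IH) (Lpe (f164304 IH) (Lpr_ct (f21268 IH) (Lpr_gt (f181150 IH) (Lpr_ct (f28357 IH) (Lpe (K8.f8146 IH) (Lpn (LP (LK LD1_c0 LD2_c11 LD3_c35))))))))))))
theorem f181173 : Led Lsl_cf (LP (LK LD1_c0 LD2_c17 LD3_c34)) = (LP (LK LD1_c0 LD2_c11 LD3_c35)) :=
  Lgr Lrot11 (Lpr_ct (f181160 IH) (Lpn (LP (LK LD1_c0 LD2_c11 LD3_c35))))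
theorem f9048 : Led Lsl_at (LP (LK LD1_c2 LD2_c16 LD3_c58)) = (LP (LK LD1_c1 LD2_c25 LD3_c57)) :=
  Lre_a IH (LK LD1_c2 LD2_c16 LD3_c58) (LK LD1_c1 LD2_c25 LD3_c57) Lrfl Lrfl
theorem f9049 : Led Lsl_ft (LP (LK LD1_c1 LD2_c25 LD3_c26)) = (LP (LK LD1_c2 LD2_c16 LD3_c58)) :=
  Lre_f IH (LK LD1_c1 LD2_c25 LD3_c26) (LK LD1_c2 LD2_c16 LD3_c58) Lrfl Lrfl
theorem f9050 : Led Lsl_at (LP (LK LD1_c1 LD2_c16 LD3_c44)) = (LP (LK LD1_c1 LD2_c25 LD3_c26)) :=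
  Lgr Lrot66 (Lpr_ff (K0.f9033 IH) (Lpe (f9048 IH) (Lpe (f9049 IH) (Lpn (LP (LK LD1_c1 LD2_c25 LD3_c26))))))
theorem f8957 : Led Lsl_bt (LP (LK LD1_c1 LD2_c16 LD3_c45)) = (LP (LK LD1_c2 LD2_c40 LD3_c0)) :=
  Lre_b IH (LK LD1_c1 LD2_c16 LD3_c45) (LK LD1_c2 LD2_c40 LD3_c0) Lrfl Lrfl
theorem f8958 : Led Lsl_bt (LP (LK LD1_c3 LD2_c0 LD3_c23)) = (LP (LK LD1_c1 LD2_c25 LD3_c57)) :=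
  Lre_b IH (LK LD1_c3 LD2_c0 LD3_c23) (LK LD1_c1 LD2_c25 LD3_c57) Lrfl Lrfl
theorem f8959 : Led Lsl_df (LP (LK LD1_c1 LD2_c16 LD3_c45)) = (LP (LK LD1_c1 LD2_c25 LD3_c57)) :=
  Lgr Lrot12 (Lpr_bt (f8957 IH) (Lpr_dt (K0.f8935 IH) (Lpr_bt (f8958 IH) (Lpn (LP (LK LD1_c1 LD2_c25 LD3_c57))))))
theorem f8494 : Led Lsl_ct (LP (LK LD1_c1 LD2_c16 LD3_c45)) = (LP (LK LD1_c0 LD2_c35 LD3_c31)) :=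
  Lre_c IH (LK LD1_c1 LD2_c16 LD3_c45) (LK LD1_c0 LD2_c35 LD3_c31) Lrfl Lrfl
theorem f9068 : Led Lsl_cf (LP (LK LD1_c0 LD2_c13 LD3_c14)) = (LP (LK LD1_c0 LD2_c15 LD3_c55)) :=
  Lgr Lrot116 (Lpr_dt (K1.f9067 IH) (Lpr_ct (f9066 IH) (Lpr_dt (K1.f9065 IH) (Lpr_ct (f9064 IH) (Lpe (f9050 IH) (Lpr_ff (K0.f9033 IH) (Lpe (f8959 IH) (Lpr_ct (f8494 IH) (Lpr_dt (K0.f7645 IH) (Lpn (LP (LK LD1_c0 LD2_c15 LD3_c55))))))))))))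
theorem f181193 : Led Lsl_gt (LP (LK LD1_c0 LD2_c17 LD3_c34)) = (LP (LK LD1_c0 LD2_c15 LD3_c55)) :=
  Lgr Lrot150 (Lpr_cf (f181173 IH) (Lpe (K8.f8144 IH) (Lpe (K1.f53168 IH) (Lpr_gt (f8081 IH) (Lpe (f175954 IH) (Lpr_gt (f9083 IH) (Lpr_ct (f9022 IH) (Lpe (K1.f9067 IH) (Lpr_cf (f9068 IH) (Lpn (LP (LK LD1_c0 LD2_c15 LD3_c55))))))))))))
theorem f181175 : Led Lsl_dt (LP (LK LD1_c0 LD2_c39 LD3_c14)) = (LP (LK LD1_c0 LD2_c17 LD3_c34)) :=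
  Lre_d IH (LK LD1_c0 LD2_c39 LD3_c14) (LK LD1_c0 LD2_c17 LD3_c34) Lrfl Lrfl
theorem f177379 : Led Lsl_gt (LP (LK LD1_c0 LD2_c26 LD3_c3)) = (LP (LK LD1_c0 LD2_c17 LD3_c42)) :=
  Lgr Lrot5 (Lpr_ft (K1.f47924 IH) (Lpe (K1.f55408 IH) (Lpr_gf (f177377 IH) (Lpn (LP (LK LD1_c0 LD2_c17 LD3_c42))))))
theorem f20662 : Led Lsl_df (LP (LK LD1_c0 LD2_c12 LD3_c45)) = (LP (LK LD1_c0 LD2_c17 LD3_c46)) :=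
  Lgr Lrot38 (Lpr_dt (f20653 IH) (Lpn (LP (LK LD1_c0 LD2_c17 LD3_c46))))
theorem f20659 : Led Lsl_ct (LP (LK LD1_c0 LD2_c28 LD3_c48)) = (LP (LK LD1_c0 LD2_c12 LD3_c45)) :=
  Lre_c IH (LK LD1_c0 LD2_c28 LD3_c48) (LK LD1_c0 LD2_c12 LD3_c45) Lrfl Lrfl
theorem f28223 : Led Lsl_et (LP (LK LD1_c0 LD2_c3 LD3_c2)) = (LP (LK LD1_c0 LD2_c6 LD3_c40)) :=
  Lre_e IH (LK LD1_c0 LD2_c3 LD3_c2) (LK LD1_c0 LD2_c6 LD3_c40) Lrfl Lrfl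
theorem f27288 : Led Lsl_gt (LP (LK LD1_c0 LD2_c2 LD3_c60)) = (LP (LK LD1_c0 LD2_c5 LD3_c20)) :=
  Lgr Lrot187 (Lpe (K0.f1655 IH) (Lpr_gf (K0.f8292 IH) (Lpr_dt (K0.f1467 IH) (Lpr_gt (K0.f9634 IH) (Lpr_ct (K0.f222 IH) (Lpr_gt (K0.f7354 IH) (Lpe (K0.f9627 IH) (Lpr_dt (K0.f27271 IH) (Lpe (K0.f6961 IH) (Lpn (LP (LK LD1_c0 LD2_c5 LD3_c20))))))))))))
theorem f28224 : Led Lsl_et (LP (LK LD1_c0 LD2_c11 LD3_c28)) = (LP (LK LD1_c0 LD2_c5 LD3_c20)) :=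
  Lre_e IH (LK LD1_c0 LD2_c11 LD3_c28) (LK LD1_c0 LD2_c5 LD3_c20) Lrfl Lrfl
theorem f28226 : Led Lsl_gt (LP (LK LD1_c0 LD2_c56 LD3_c53)) = (LP (LK LD1_c0 LD2_c25 LD3_c47)) :=
  Lre_g IH (LK LD1_c0 LD2_c56 LD3_c53) (LK LD1_c0 LD2_c25 LD3_c47) Lrfl Lrfl
theorem f167858 : Led Lsl_et (LP (LK LD1_c0 LD2_c28 LD3_c48)) = (LP (LK LD1_c0 LD2_c12 LD3_c43)) :=
  Lre_e IH (LK LD1_c0 LD2_c28 LD3_c48) (LK LD1_c0 LD2_c12 LD3_c43) Lrfl Lrfl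
theorem f167859 : Led Lsl_df (LP (LK LD1_c0 LD2_c56 LD3_c53)) = (LP (LK LD1_c0 LD2_c28 LD3_c48)) :=
  Lgr Lrot170 (Lpr_gt (f28226 IH) (Lpe (K1.f28225 IH) (Lpr_et (f28224 IH) (Lpe (K0.f28212 IH) (Lpe (K0.f1669 IH) (Lpr_gt (f27288 IH) (Lpe (K0.f28219 IH) (Lpr_et (f28223 IH) (Lpr_gt (f167832 IH) (Lpe (f167858 IH) (Lpn (LP (LK LD1_c0 LD2_c28 LD3_c48)))))))))))))
theorem f167862 : Led Lsl_dt (LP (LK LD1_c0 LD2_c56 LD3_c53)) = (LP (LK LD1_c0 LD2_c28 LD3_c48)) :=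
  Lgr Lrot42 (Lpr_df (f167859 IH) (Lpn (LP (LK LD1_c0 LD2_c28 LD3_c48))))
theorem f169082 : Led Lsl_gt (LP (LK LD1_c0 LD2_c57 LD3_c25)) = (LP (LK LD1_c0 LD2_c56 LD3_c53)) :=
  Lgr Lrot49 (Lpe (K1.f47912 IH) (Lpr_gf (f168996 IH) (Lpe (f20758 IH) (Lpr_gt (f9090 IH) (Lpr_dt (K1.f9067 IH) (Lpr_gt (f20652 IH) (Lpe (f20662 IH) (Lpe (f20659 IH) (Lpe (f167862 IH) (Lpn (LP (LK LD1_c0 LD2_c56 LD3_c53))))))))))))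
theorem f9088 : Led Lsl_ct (LP (LK LD1_c0 LD2_c17 LD3_c42)) = (LP (LK LD1_c0 LD2_c7 LD3_c58)) :=
  Lre_c IH (LK LD1_c0 LD2_c17 LD3_c42) (LK LD1_c0 LD2_c7 LD3_c58) Lrfl Lrfl
theorem f8562 : Led Lsl_dt (LP (LK LD1_c0 LD2_c17 LD3_c36)) = (LP (LK LD1_c0 LD2_c7 LD3_c56)) :=
  Lre_d IH (LK LD1_c0 LD2_c17 LD3_c36) (LK LD1_c0 LD2_c7 LD3_c56) Lrfl Lrfl
theorem f8536 : Led Lsl_ct (LP (LK LD1_c0 LD2_c39 LD3_c21)) = (LP (LK LD1_c0 LD2_c17 LD3_c36)) :=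
  Lre_c IH (LK LD1_c0 LD2_c39 LD3_c21) (LK LD1_c0 LD2_c17 LD3_c36) Lrfl Lrfl
theorem f177455 : Led Lsl_gt (LP (LK LD1_c1 LD2_c25 LD3_c24)) = (LP (LK LD1_c0 LD2_c39 LD3_c21)) :=
  Lre_g IH (LK LD1_c1 LD2_c25 LD3_c24) (LK LD1_c0 LD2_c39 LD3_c21) Lrfl Lrfl
theorem f177456 : Led Lsl_ct (LP (LK LD1_c0 LD2_c56 LD3_c53)) = (LP (LK LD1_c1 LD2_c25 LD3_c24)) :=
  Lgr Lrot152 (Lpe (f169082 IH) (Lpe (K1.f47912 IH) (Lpr_gt (f177379 IH) (Lpr_ct (f9088 IH) (Lpr_gt (K0.f20566 IH) (Lpr_ct (f8443 IH) (Lpe (f8562 IH) (Lpe (f8536 IH) (Lpe (f177455 IH) (Lpn (LP (LK LD1_c1 LD2_c25 LD3_c24))))))))))))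
theorem f168881 : Led Lsl_dt (LP (LK LD1_c0 LD2_c17 LD3_c38)) = (LP (LK LD1_c0 LD2_c39 LD3_c24)) :=
  Lre_d IH (LK LD1_c0 LD2_c17 LD3_c38) (LK LD1_c0 LD2_c39 LD3_c24) Lrfl Lrfl
theorem f169000 : Led Lsl_ct (LP (LK LD1_c1 LD2_c25 LD3_c31)) = (LP (LK LD1_c0 LD2_c39 LD3_c24)) :=
  Lre_c IH (LK LD1_c1 LD2_c25 LD3_c31) (LK LD1_c0 LD2_c39 LD3_c24) Lrfl Lrfl
theorem f9025 : Led Lsl_dt (LP (LK LD1_c0 LD2_c39 LD3_c21)) = (LP (LK LD1_c1 LD2_c25 LD3_c26)) :=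
  Lre_d IH (LK LD1_c0 LD2_c39 LD3_c21) (LK LD1_c1 LD2_c25 LD3_c26) Lrfl Lrfl
theorem f177468 : Led Lsl_df (LP (LK LD1_c1 LD2_c25 LD3_c31)) = (LP (LK LD1_c2 LD2_c59 LD3_c32)) :=
  Lgr Lrot174 (Lpr_ct (f169000 IH) (Lpe (f168881 IH) (Lpe (f168994 IH) (Lpe (K2.f55329 IH) (Lpe (f28226 IH) (Lpr_ct (f177456 IH) (Lpr_gt (f177455 IH) (Lpr_dt (f9025 IH) (Lpr_gt (f176048 IH) (Lpn (LP (LK LD1_c2 LD2_c59 LD3_c32))))))))))))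
theorem f177494 : Led Lsl_dt (LP (LK LD1_c1 LD2_c25 LD3_c31)) = (LP (LK LD1_c2 LD2_c59 LD3_c32)) :=
  Lgr Lrot42 (Lpr_df (f177468 IH) (Lpn (LP (LK LD1_c2 LD2_c59 LD3_c32))))
theorem f7937 : Led Lsl_dt (LP (LK LD1_c0 LD2_c35 LD3_c40)) = (LP (LK LD1_c1 LD2_c17 LD3_c9)) :=
  Lre_d IH (LK LD1_c0 LD2_c35 LD3_c40) (LK LD1_c1 LD2_c17 LD3_c9) Lrfl Lrfl
theorem f170842 : Led Lsl_et (LP (LK LD1_c0 LD2_c11 LD3_c43)) = (LP (LK LD1_c0 LD2_c26 LD3_c24)) :=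
  Lre_e IH (LK LD1_c0 LD2_c11 LD3_c43) (LK LD1_c0 LD2_c26 LD3_c24) Lrfl Lrfl
theorem f35020 : Led Lsl_df (LP (LK LD1_c2 LD2_c15 LD3_c3)) = (LP (LK LD1_c1 LD2_c14 LD3_c33)) :=
  Lgr Lrot78 (Lpr_ft (K2.f35009 IH) (Lpr_dt (f31690 IH) (Lpr_ft (K2.f32589 IH) (Lpn (LP (LK LD1_c1 LD2_c14 LD3_c33))))))
theorem f35185 : Led Lsl_dt (LP (LK LD1_c1 LD2_c4 LD3_c38)) = (LP (LK LD1_c0 LD2_c29 LD3_c35)) :=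
  Lre_d IH (LK LD1_c1 LD2_c4 LD3_c38) (LK LD1_c0 LD2_c29 LD3_c35) Lrfl Lrfl
theorem f32587 : Led Lsl_ct (LP (LK LD1_c0 LD2_c34 LD3_c34)) = (LP (LK LD1_c1 LD2_c14 LD3_c33)) :=
  Lre_c IH (LK LD1_c0 LD2_c34 LD3_c34) (LK LD1_c1 LD2_c14 LD3_c33) Lrfl Lrfl
theorem f32293 : Led Lsl_dt (LP (LK LD1_c0 LD2_c15 LD3_c30)) = (LP (LK LD1_c0 LD2_c34 LD3_c34)) :=
  Lre_d IH (LK LD1_c0 LD2_c15 LD3_c30) (LK LD1_c0 LD2_c34 LD3_c34) Lrfl Lrfl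
theorem f35186 : Led Lsl_ct (LP (LK LD1_c0 LD2_c29 LD3_c35)) = (LP (LK LD1_c0 LD2_c14 LD3_c25)) :=
  Lgr Lrot98 (Lpe (f35185 IH) (Lpe (K8.f35027 IH) (Lpr_df (f35020 IH) (Lpe (f32587 IH) (Lpe (f32293 IH) (Lpe (K1.f32278 IH) (Lpe (f31555 IH) (Lpr_ft (f31672 IH) (Lpe (f31673 IH) (Lpn (LP (LK LD1_c0 LD2_c14 LD3_c25))))))))))))
theorem f71505 : Led Lsl_cf (LP (LK LD1_c0 LD2_c17 LD3_c7)) = (LP (LK LD1_c0 LD2_c14 LD3_c21)) :=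
  Lgr Lrot1 (Lpr_at (K2.f71497 IH) (Lpr_ct (f35186 IH) (Lpr_at (K8.f31610 IH) (Lpn (LP (LK LD1_c0 LD2_c14 LD3_c21))))))
theorem f177767 : Led Lsl_ct (LP (LK LD1_c1 LD2_c12 LD3_c7)) = (LP (LK LD1_c0 LD2_c57 LD3_c31)) :=
  Lgr Lrot8 (Lpr_gt (f177757 IH) (Lpr_dt (f22147 IH) (Lpr_gt (f169748 IH) (Lpr_dt (K2.f71507 IH) (Lpr_cf (f71505 IH) (Lpe (f31439 IH) (Lpe (f31599 IH) (Lpe (f31695 IH) (Lpr_gf (f101517 IH) (Lpn (LP (LK LD1_c0 LD2_c57 LD3_c31))))))))))))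
theorem f1414 : Led Lsl_et (LP (LK LD1_c0 LD2_c26 LD3_c24)) = (LP (LK LD1_c0 LD2_c11 LD3_c43)) :=
  Lre_e IH (LK LD1_c0 LD2_c26 LD3_c24) (LK LD1_c0 LD2_c11 LD3_c43) Lrfl Lrfl
theorem f170611 : Led Lsl_cf (LP (LK LD1_c0 LD2_c26 LD3_c24)) = (LP (LK LD1_c0 LD2_c14 LD3_c2)) :=
  Lgr Lrot39 (Lpr_et (f1414 IH) (Lpr_ct (f170594 IH) (Lpr_et (f20700 IH) (Lpn (LP (LK LD1_c0 LD2_c14 LD3_c2))))))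
theorem f177781 : Led Lsl_gt (LP (LK LD1_c0 LD2_c26 LD3_c24)) = (LP (LK LD1_c0 LD2_c39 LD3_c18)) :=
  Lgr Lrot150 (Lpr_cf (f170611 IH) (Lpe (f164685 IH) (Lpe (f164679 IH) (Lpr_gt (f163699 IH) (Lpr_ct (f3129 IH) (Lpr_gt (f164693 IH) (Lpr_ct (f177767 IH) (Lpe (f8259 IH) (Lpr_cf (f177776 IH) (Lpn (LP (LK LD1_c0 LD2_c39 LD3_c18))))))))))))
theorem f169550 : Led Lsl_dt (LP (LK LD1_c0 LD2_c17 LD3_c35)) = (LP (LK LD1_c0 LD2_c39 LD3_c17)) :=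
  Lre_d IH (LK LD1_c0 LD2_c17 LD3_c35) (LK LD1_c0 LD2_c39 LD3_c17) Lrfl Lrfl
theorem f179033 : Led Lsl_gf (LP (LK LD1_c1 LD2_c17 LD3_c9)) = (LP (LK LD1_c0 LD2_c39 LD3_c17)) :=
  Lgr Lrot145 (Lpe (f7937 IH) (Lpr_et (K0.f7938 IH) (Lpe (f179031 IH) (Lpr_dt (f179021 IH) (Lpr_gt (f53440 IH) (Lpe (f1413 IH) (Lpr_et (f170842 IH) (Lpr_gt (f177781 IH) (Lpe (f169452 IH) (Lpr_dt (f169550 IH) (Lpn (LP (LK LD1_c0 LD2_c39 LD3_c17)))))))))))))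
theorem f7943 : Led Lsl_ct (LP (LK LD1_c1 LD2_c17 LD3_c9)) = (LP (LK LD1_c2 LD2_c40 LD3_c54)) :=
  Lre_c IH (LK LD1_c1 LD2_c17 LD3_c9) (LK LD1_c2 LD2_c40 LD3_c54) Lrfl Lrfl
theorem f168977 : Led Lsl_dt (LP (LK LD1_c0 LD2_c39 LD3_c24)) = (LP (LK LD1_c0 LD2_c17 LD3_c38)) :=
  Lre_d IH (LK LD1_c0 LD2_c39 LD3_c24) (LK LD1_c0 LD2_c17 LD3_c38) Lrfl Lrfl
theorem f179038 : Led Lsl_gt (LP (LK LD1_c2 LD2_c40 LD3_c54)) = (LP (LK LD1_c1 LD2_c25 LD3_c31)) :=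
  Lgr Lrot150 (Lpe (f7943 IH) (Lpr_gf (f179033 IH) (Lpe (f169550 IH) (Lpr_gt (f55922 IH) (Lpr_ct (f9073 IH) (Lpr_gt (f20625 IH) (Lpr_ct (f20758 IH) (Lpe (f168977 IH) (Lpe (f169000 IH) (Lpn (LP (LK LD1_c1 LD2_c25 LD3_c31))))))))))))
theorem f181195 : Led Lsl_gf (LP (LK LD1_c0 LD2_c39 LD3_c14)) = (LP (LK LD1_c1 LD2_c17 LD3_c9)) :=
  Lgr Lrot144 (Lpr_dt (f181175 IH) (Lpr_gt (f181193 IH) (Lpr_dt (K0.f7643 IH) (Lpe (f8494 IH) (Lpr_df (f8959 IH) (Lpe (f9046 IH) (Lpe (f177494 IH) (Lpe (f179038 IH) (Lpe (f7943 IH) (Lpn (LP (LK LD1_c1 LD2_c17 LD3_c9))))))))))))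
theorem f181189 : Led Lsl_dt (LP (LK LD1_c0 LD2_c17 LD3_c34)) = (LP (LK LD1_c0 LD2_c39 LD3_c14)) :=
  Lre_d IH (LK LD1_c0 LD2_c17 LD3_c34) (LK LD1_c0 LD2_c39 LD3_c14) Lrfl Lrfl
theorem f181188 : Led Lsl_et (LP (LK LD1_c0 LD2_c17 LD3_c34)) = (LP (LK LD1_c0 LD2_c39 LD3_c15)) :=
  Lre_e IH (LK LD1_c0 LD2_c17 LD3_c34) (LK LD1_c0 LD2_c39 LD3_c15) Lrfl Lrfl
theorem f181206 : Led Lsl_gt (LP (LK LD1_c0 LD2_c39 LD3_c15)) = (LP (LK LD1_c0 LD2_c27 LD3_c18)) :=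
  Lgr Lrot137 (Lpe (f181188 IH) (Lpr_dt (f181189 IH) (Lpr_gf (f181195 IH) (Lpe (f7937 IH) (Lpr_et (K0.f7938 IH) (Lpe (f179106 IH) (Lpe (f168334 IH) (Lpr_dt (f168293 IH) (Lpr_gf (f179116 IH) (Lpe (K0.f7715 IH) (Lpn (LP (LK LD1_c0 LD2_c27 LD3_c18)))))))))))))
theorem f181178 : Led Lsl_et (LP (LK LD1_c0 LD2_c39 LD3_c15)) = (LP (LK LD1_c0 LD2_c17 LD3_c34)) :=
  Lre_e IH (LK LD1_c0 LD2_c39 LD3_c15) (LK LD1_c0 LD2_c17 LD3_c34) Lrfl Lrfl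
theorem f28351 : Led Lsl_et (LP (LK LD1_c0 LD2_c11 LD3_c35)) = (LP (LK LD1_c0 LD2_c26 LD3_c5)) :=
  Lre_e IH (LK LD1_c0 LD2_c11 LD3_c35) (LK LD1_c0 LD2_c26 LD3_c5) Lrfl Lrfl
theorem f181179 : Led Lsl_cf (LP (LK LD1_c0 LD2_c39 LD3_c15)) = (LP (LK LD1_c0 LD2_c26 LD3_c5)) :=
  Lgr Lrot39 (Lpr_et (f181178 IH) (Lpr_ct (f181160 IH) (Lpr_et (f28351 IH) (Lpn (LP (LK LD1_c0 LD2_c26 LD3_c5))))))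
theorem f181185 : Led Lsl_ct (LP (LK LD1_c0 LD2_c39 LD3_c15)) = (LP (LK LD1_c0 LD2_c26 LD3_c5)) :=
  Lgr Lrot59 (Lpr_cf (f181179 IH) (Lpn (LP (LK LD1_c0 LD2_c26 LD3_c5))))
theorem f181209 : Led Lsl_gt (LP (LK LD1_c0 LD2_c26 LD3_c5)) = (LP (LK LD1_c0 LD2_c12 LD3_c14)) :=
  Lgr Lrot94 (Lpe (f181185 IH) (Lpr_gt (f181206 IH) (Lpr_dt (K0.f7715 IH) (Lpe (f179116 IH) (Lpr_dt (f168179 IH) (Lpe (f168177 IH) (Lpe (f56515 IH) (Lpe (f180227 IH) (Lpe (f6773 IH) (Lpn (LP (LK LD1_c0 LD2_c12 LD3_c14))))))))))))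
theorem f8145 : Led Lsl_et (LP (LK LD1_c0 LD2_c26 LD3_c5)) = (LP (LK LD1_c0 LD2_c11 LD3_c35)) :=
  Lre_e IH (LK LD1_c0 LD2_c26 LD3_c5) (LK LD1_c0 LD2_c11 LD3_c35) Lrfl Lrfl
theorem f28325 : Led Lsl_et (LP (LK LD1_c0 LD2_c5 LD3_c8)) = (LP (LK LD1_c0 LD2_c2 LD3_c20)) :=
  Lre_e IH (LK LD1_c0 LD2_c5 LD3_c8) (LK LD1_c0 LD2_c2 LD3_c20) Lrfl Lrfl
theorem f28327 : Led Lsl_dt (LP (LK LD1_c0 LD2_c26 LD3_c5)) = (LP (LK LD1_c0 LD2_c24 LD3_c52)) :=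
  Lgr Lrot136 (Lpr_et (f8145 IH) (Lpe (K8.f8144 IH) (Lpe (K8.f8133 IH) (Lpe (K0.f8062 IH) (Lpe (K0.f8138 IH) (Lpr_df (K0.f28229 IH) (Lpe (K0.f28320 IH) (Lpe (f28325 IH) (Lpr_dt (K1.f6812 IH) (Lpe (f28326 IH) (Lpn (LP (LK LD1_c0 LD2_c24 LD3_c52)))))))))))))
theorem f28382 : Led Lsl_df (LP (LK LD1_c0 LD2_c26 LD3_c5)) = (LP (LK LD1_c0 LD2_c24 LD3_c52)) :=
  Lgr Lrot38 (Lpr_dt (f28327 IH) (Lpn (LP (LK LD1_c0 LD2_c24 LD3_c52))))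
theorem f170303 : Led Lsl_dt (LP (LK LD1_c0 LD2_c27 LD3_c40)) = (LP (LK LD1_c0 LD2_c12 LD3_c14)) :=
  Lre_d IH (LK LD1_c0 LD2_c27 LD3_c40) (LK LD1_c0 LD2_c12 LD3_c14) Lrfl Lrfl
theorem f181216 : Led Lsl_gf (LP (LK LD1_c0 LD2_c24 LD3_c52)) = (LP (LK LD1_c0 LD2_c14 LD3_c42)) :=
  Lgr Lrot138 (Lpe (f28382 IH) (Lpr_gt (f181209 IH) (Lpe (f170303 IH) (Lpr_et (f180255 IH) (Lpe (f177771 IH) (Lpe (f59131 IH) (Lpr_dt (f59128 IH) (Lpe (f101495 IH) (Lpr_df (f100675 IH) (Lpr_et (f100685 IH) (Lpn (LP (LK LD1_c0 LD2_c14 LD3_c42)))))))))))))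
theorem f7600 : Led Lsl_dt (LP (LK LD1_c0 LD2_c7 LD3_c13)) = (LP (LK LD1_c0 LD2_c16 LD3_c3)) :=
  Lre_d IH (LK LD1_c0 LD2_c7 LD3_c13) (LK LD1_c0 LD2_c16 LD3_c3) Lrfl Lrfl
theorem f181218 : Led Lsl_df (LP (LK LD1_c0 LD2_c39 LD3_c15)) = (LP (LK LD1_c0 LD2_c28 LD3_c42)) :=
  Lgr Lrot84 (Lpr_cf (f181179 IH) (Lpr_df (f28382 IH) (Lpr_gf (f181216 IH) (Lpe (K1.f40749 IH) (Lpe (f40816 IH) (Lpr_cf (f173165 IH) (Lpr_gt (f40803 IH) (Lpr_dt (f7600 IH) (Lpr_gt (f7633 IH) (Lpn (LP (LK LD1_c0 LD2_c28 LD3_c42))))))))))))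
theorem f7882 : Led Lsl_ct (LP (LK LD1_c0 LD2_c27 LD3_c18)) = (LP (LK LD1_c0 LD2_c14 LD3_c17)) :=
  Lgr Lrot7 (Lpr_df (K0.f7723 IH) (Lpe (K0.f7714 IH) (Lpe (K0.f7713 IH) (Lpe (K0.f7709 IH) (Lpe (f7879 IH) (Lpr_gt (K0.f7880 IH) (Lpr_dt (K0.f3071 IH) (Lpr_gt (K0.f3070 IH) (Lpr_dt (K0.f7881 IH) (Lpn (LP (LK LD1_c0 LD2_c14 LD3_c17))))))))))))
theorem f165039 : Led Lsl_ct (LP (LK LD1_c0 LD2_c12 LD3_c40)) = (LP (LK LD1_c0 LD2_c28 LD3_c43)) :=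
  Lre_c IH (LK LD1_c0 LD2_c12 LD3_c40) (LK LD1_c0 LD2_c28 LD3_c43) Lrfl Lrfl
theorem f178299 : Led Lsl_gt (LP (LK LD1_c0 LD2_c26 LD3_c46)) = (LP (LK LD1_c0 LD2_c58 LD3_c58)) :=
  Lre_g IH (LK LD1_c0 LD2_c26 LD3_c46) (LK LD1_c0 LD2_c58 LD3_c58) Lrfl Lrfl
theorem f178475 : Led Lsl_df (LP (LK LD1_c0 LD2_c32 LD3_c24)) = (LP (LK LD1_c0 LD2_c58 LD3_c58)) :=
  Lgr Lrot153 (Lpe (f41096 IH) (Lpr_dt (K1.f41076 IH) (Lpe (K1.f40839 IH) (Lpe (K1.f40815 IH) (Lpr_gf (f175275 IH) (Lpr_df (f178473 IH) (Lpe (f53314 IH) (Lpe (f165141 IH) (Lpr_gt (f178299 IH) (Lpn (LP (LK LD1_c0 LD2_c58 LD3_c58))))))))))))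
theorem f181794 : Led Lsl_ct (LP (LK LD1_c0 LD2_c29 LD3_c0)) = (LP (LK LD1_c0 LD2_c58 LD3_c58)) :=
  Lgr Lrot110 (Lpe (f164705 IH) (Lpe (f7882 IH) (Lpe (f181206 IH) (Lpr_df (f181218 IH) (Lpr_gt (f20642 IH) (Lpr_ct (f165039 IH) (Lpr_gt (f165037 IH) (Lpe (f167911 IH) (Lpr_df (f178475 IH) (Lpn (LP (LK LD1_c0 LD2_c58 LD3_c58))))))))))))
theorem f165841 : Led Lsl_et (LP (LK LD1_c0 LD2_c26 LD3_c47)) = (LP (LK LD1_c0 LD2_c14 LD3_c54)) :=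
  Lgr Lrot158 (Lpe (f51577 IH) (Lpe (f53177 IH) (Lpr_cf (f165829 IH) (Lpn (LP (LK LD1_c0 LD2_c14 LD3_c54))))))
theorem f166476 : Led Lsl_et (LP (LK LD1_c0 LD2_c26 LD3_c37)) = (LP (LK LD1_c0 LD2_c11 LD3_c48)) :=
  Lre_e IH (LK LD1_c0 LD2_c26 LD3_c37) (LK LD1_c0 LD2_c11 LD3_c48) Lrfl Lrfl
theorem f166679 : Led Lsl_df (LP (LK LD1_c0 LD2_c33 LD3_c14)) = (LP (LK LD1_c0 LD2_c26 LD3_c37)) :=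
  Lgr Lrot132 (Lpr_gf (K8.f165581 IH) (Lpe (K8.f163707 IH) (Lpe (f165274 IH) (Lpe (f165841 IH) (Lpr_dt (f166579 IH) (Lpe (f2214 IH) (Lpe (K0.f279 IH) (Lpe (K0.f1517 IH) (Lpe (f166442 IH) (Lpe (f166476 IH) (Lpn (LP (LK LD1_c0 LD2_c26 LD3_c37)))))))))))))
theorem f53239 : Led Lsl_gt (LP (LK LD1_c0 LD2_c58 LD3_c46)) = (LP (LK LD1_c0 LD2_c26 LD3_c37)) :=
  Lre_g IH (LK LD1_c0 LD2_c58 LD3_c46) (LK LD1_c0 LD2_c26 LD3_c37) Lrfl Lrfl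
theorem f166694 : Led Lsl_cf (LP (LK LD1_c0 LD2_c31 LD3_c58)) = (LP (LK LD1_c0 LD2_c58 LD3_c46)) :=
  Lgr Lrot166 (Lpr_gt (f21234 IH) (Lpr_dt (f21232 IH) (Lpr_gt (f3770 IH) (Lpr_dt (K8.f3120 IH) (Lpr_ct (K8.f3113 IH) (Lpe (K0.f3134 IH) (Lpe (K8.f3102 IH) (Lpr_df (f166679 IH) (Lpe (f53239 IH) (Lpn (LP (LK LD1_c0 LD2_c58 LD3_c46))))))))))))
theorem f181875 : Led Lsl_ef (LP (LK LD1_c0 LD2_c58 LD3_c46)) = (LP (LK LD1_c0 LD2_c58 LD3_c58)) :=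
  Lgr Lrot28 (Lpe (f166694 IH) (Lpe (f21238 IH) (Lpr_ct (f181794 IH) (Lpn (LP (LK LD1_c0 LD2_c58 LD3_c58))))))
theorem f166686 : Led Lsl_et (LP (LK LD1_c0 LD2_c11 LD3_c48)) = (LP (LK LD1_c0 LD2_c26 LD3_c37)) :=
  Lre_e IH (LK LD1_c0 LD2_c11 LD3_c48) (LK LD1_c0 LD2_c26 LD3_c37) Lrfl Lrfl
theorem f181938 : Led Lsl_et (LP (LK LD1_c0 LD2_c28 LD3_c57)) = (LP (LK LD1_c0 LD2_c12 LD3_c46)) :=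
  Lre_e IH (LK LD1_c0 LD2_c28 LD3_c57) (LK LD1_c0 LD2_c12 LD3_c46) Lrfl Lrfl
theorem f181939 : Led Lsl_df (LP (LK LD1_c0 LD2_c58 LD3_c42)) = (LP (LK LD1_c0 LD2_c28 LD3_c57)) :=
  Lgr Lrot168 (Lpe (f166471 IH) (Lpe (f166470 IH) (Lpr_et (f166686 IH) (Lpe (f53239 IH) (Lpr_ef (f181875 IH) (Lpe (f178475 IH) (Lpe (f3105 IH) (Lpe (K1.f3104 IH) (Lpr_gf (f174916 IH) (Lpe (f181938 IH) (Lpn (LP (LK LD1_c0 LD2_c28 LD3_c57)))))))))))))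
theorem f178291 : Led Lsl_et (LP (LK LD1_c0 LD2_c11 LD3_c51)) = (LP (LK LD1_c0 LD2_c26 LD3_c46)) :=
  Lre_e IH (LK LD1_c0 LD2_c11 LD3_c51) (LK LD1_c0 LD2_c26 LD3_c46) Lrfl Lrfl
theorem f181948 : Led Lsl_gt (LP (LK LD1_c0 LD2_c24 LD3_c45)) = (LP (LK LD1_c0 LD2_c12 LD3_c46)) :=
  Lgr Lrot131 (Lpe (K1.f41312 IH) (Lpr_dt (K1.f40834 IH) (Lpr_gf (f41096 IH) (Lpr_df (f178475 IH) (Lpe (f178299 IH) (Lpe (f178291 IH) (Lpr_dt (f51580 IH) (Lpe (f178305 IH) (Lpr_df (f181939 IH) (Lpr_et (f181938 IH) (Lpn (LP (LK LD1_c0 LD2_c12 LD3_c46)))))))))))))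
theorem f41098 : Led Lsl_bt (LP (LK LD1_c0 LD2_c11 LD3_c3)) = (LP (LK LD1_c0 LD2_c24 LD3_c36)) :=
  Lre_b IH (LK LD1_c0 LD2_c11 LD3_c3) (LK LD1_c0 LD2_c24 LD3_c36) Lrfl Lrfl
theorem f177874 : Led Lsl_bf (LP (LK LD1_c0 LD2_c5 LD3_c49)) = (LP (LK LD1_c0 LD2_c5 LD3_c49)) :=
  Lgr Lrot34 (Lpe (K0.f20232 IH) (Lpe (f40811 IH) (Lpr_ct (K1.f40794 IH) (Lpr_gf (f177858 IH) (Lpe (f177847 IH) (Lpe (K0.f7880 IH) (Lpe (f43100 IH) (Lpr_ct (K1.f40853 IH) (Lpr_gf (f174916 IH) (Lpe (f174915 IH) (Lpn (LP (LK LD1_c0 LD2_c5 LD3_c49)))))))))))))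
theorem f181960 : Led Lsl_gf (LP (LK LD1_c0 LD2_c24 LD3_c36)) = (LP (LK LD1_c0 LD2_c12 LD3_c24)) :=
  Lgr Lrot124 (Lpe (f41098 IH) (Lpr_ct (K1.f40839 IH) (Lpr_gt (f181948 IH) (Lpe (f174915 IH) (Lpe (f177874 IH) (Lpr_gt (K0.f6846 IH) (Lpr_ct (f20641 IH) (Lpr_gt (f8579 IH) (Lpe (f173178 IH) (Lpr_bt (f173210 IH) (Lpn (LP (LK LD1_c0 LD2_c12 LD3_c24)))))))))))))
theorem f42872 : Led Lsl_af (LP (LK LD1_c0 LD2_c12 LD3_c23)) = (LP (LK LD1_c0 LD2_c24 LD3_c33)) :=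
  Lgr Lrot0 (Lpr_at (f42866 IH) (Lpn (LP (LK LD1_c0 LD2_c24 LD3_c33))))
theorem f28820 : Led Lsl_gt (LP (LK LD1_c0 LD2_c28 LD3_c0)) = (LP (LK LD1_c0 LD2_c12 LD3_c23)) :=
  Lre_g IH (LK LD1_c0 LD2_c28 LD3_c0) (LK LD1_c0 LD2_c12 LD3_c23) Lrfl Lrfl
theorem f43115 : Led Lsl_gf (LP (LK LD1_c0 LD2_c28 LD3_c0)) = (LP (LK LD1_c0 LD2_c54 LD3_c24)) :=
  Lgr Lrot47 (Lpr_gt (f28820 IH) (Lpr_af (f42872 IH) (Lpe (f42869 IH) (Lpn (LP (LK LD1_c0 LD2_c54 LD3_c24))))))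
theorem f28821 : Led Lsl_et (LP (LK LD1_c1 LD2_c1 LD3_c21)) = (LP (LK LD1_c0 LD2_c28 LD3_c0)) :=
  Lre_e IH (LK LD1_c1 LD2_c1 LD3_c21) (LK LD1_c0 LD2_c28 LD3_c0) Lrfl Lrfl
theorem f27974 : Led Lsl_et (LP (LK LD1_c0 LD2_c5 LD3_c17)) = (LP (LK LD1_c0 LD2_c11 LD3_c22)) :=
  Lre_e IH (LK LD1_c0 LD2_c5 LD3_c17) (LK LD1_c0 LD2_c11 LD3_c22) Lrfl Lrfl
theorem f28814 : Led Lsl_gt (LP (LK LD1_c0 LD2_c11 LD3_c22)) = (LP (LK LD1_c0 LD2_c25 LD3_c29)) :=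
  Lre_g IH (LK LD1_c0 LD2_c11 LD3_c22) (LK LD1_c0 LD2_c25 LD3_c29) Lrfl Lrfl
theorem f28822 : Led Lsl_dt (LP (LK LD1_c0 LD2_c25 LD3_c29)) = (LP (LK LD1_c0 LD2_c56 LD3_c11)) :=
  Lre_d IH (LK LD1_c0 LD2_c25 LD3_c29) (LK LD1_c0 LD2_c56 LD3_c11) Lrfl Lrfl
theorem f28823 : Led Lsl_gt (LP (LK LD1_c0 LD2_c56 LD3_c11)) = (LP (LK LD1_c1 LD2_c58 LD3_c40)) :=
  Lre_g IH (LK LD1_c0 LD2_c56 LD3_c11) (LK LD1_c1 LD2_c58 LD3_c40) Lrfl Lrfl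
theorem f28824 : Led Lsl_dt (LP (LK LD1_c1 LD2_c1 LD3_c21)) = (LP (LK LD1_c1 LD2_c58 LD3_c40)) :=
  Lgr Lrot56 (Lpr_et (f28821 IH) (Lpr_gt (f28820 IH) (Lpe (f28819 IH) (Lpr_dt (K0.f16670 IH) (Lpr_gt (K0.f28777 IH) (Lpe (K0.f27776 IH) (Lpr_et (f27974 IH) (Lpr_gt (f28814 IH) (Lpr_dt (f28822 IH) (Lpr_gt (f28823 IH) (Lpn (LP (LK LD1_c1 LD2_c58 LD3_c40)))))))))))))
theorem f28828 : Led Lsl_df (LP (LK LD1_c1 LD2_c1 LD3_c21)) = (LP (LK LD1_c1 LD2_c58 LD3_c40)) :=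
  Lgr Lrot38 (Lpr_dt (f28824 IH) (Lpn (LP (LK LD1_c1 LD2_c58 LD3_c40))))
theorem f28919 : Led Lsl_ct (LP (LK LD1_c0 LD2_c11 LD3_c22)) = (LP (LK LD1_c0 LD2_c5 LD3_c18)) :=
  Lre_c IH (LK LD1_c0 LD2_c11 LD3_c22) (LK LD1_c0 LD2_c5 LD3_c18) Lrfl Lrfl
theorem f28781 : Led Lsl_gt (LP (LK LD1_c0 LD2_c5 LD3_c18)) = (LP (LK LD1_c0 LD2_c11 LD3_c23)) :=
  Lre_g IH (LK LD1_c0 LD2_c5 LD3_c18) (LK LD1_c0 LD2_c11 LD3_c23) Lrfl Lrfl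
theorem f28913 : Led Lsl_dt (LP (LK LD1_c0 LD2_c11 LD3_c23)) = (LP (LK LD1_c0 LD2_c25 LD3_c34)) :=
  Lre_d IH (LK LD1_c0 LD2_c11 LD3_c23) (LK LD1_c0 LD2_c25 LD3_c34) Lrfl Lrfl
theorem f28914 : Led Lsl_gt (LP (LK LD1_c0 LD2_c25 LD3_c34)) = (LP (LK LD1_c0 LD2_c56 LD3_c22)) :=
  Lre_g IH (LK LD1_c0 LD2_c25 LD3_c34) (LK LD1_c0 LD2_c56 LD3_c22) Lrfl Lrfl
theorem f28915 : Led Lsl_dt (LP (LK LD1_c0 LD2_c56 LD3_c22)) = (LP (LK LD1_c0 LD2_c55 LD3_c17)) :=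
  Lre_d IH (LK LD1_c0 LD2_c56 LD3_c22) (LK LD1_c0 LD2_c55 LD3_c17) Lrfl Lrfl
theorem f28920 : Led Lsl_cf (LP (LK LD1_c1 LD2_c1 LD3_c21)) = (LP (LK LD1_c0 LD2_c55 LD3_c17)) :=
  Lgr Lrot14 (Lpr_df (f28828 IH) (Lpe (f28823 IH) (Lpe (f28822 IH) (Lpe (f28814 IH) (Lpr_ct (f28919 IH) (Lpr_gt (f28781 IH) (Lpr_dt (f28913 IH) (Lpr_gt (f28914 IH) (Lpr_dt (f28915 IH) (Lpn (LP (LK LD1_c0 LD2_c55 LD3_c17))))))))))))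
theorem f28927 : Led Lsl_et (LP (LK LD1_c0 LD2_c25 LD3_c2)) = (LP (LK LD1_c0 LD2_c55 LD3_c17)) :=
  Lre_e IH (LK LD1_c0 LD2_c25 LD3_c2) (LK LD1_c0 LD2_c55 LD3_c17) Lrfl Lrfl
theorem f28928 : Led Lsl_ct (LP (LK LD1_c0 LD2_c28 LD3_c0)) = (LP (LK LD1_c0 LD2_c25 LD3_c2)) :=
  Lgr Lrot15 (Lpe (f28821 IH) (Lpr_cf (f28920 IH) (Lpe (f28927 IH) (Lpn (LP (LK LD1_c0 LD2_c25 LD3_c2))))))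
theorem f28931 : Led Lsl_cf (LP (LK LD1_c0 LD2_c28 LD3_c0)) = (LP (LK LD1_c0 LD2_c25 LD3_c2)) :=
  Lgr Lrot11 (Lpr_ct (f28928 IH) (Lpn (LP (LK LD1_c0 LD2_c25 LD3_c2))))
theorem f27826 : Led Lsl_gt (LP (LK LD1_c0 LD2_c12 LD3_c25)) = (LP (LK LD1_c0 LD2_c5 LD3_c41)) :=
  Lre_g IH (LK LD1_c0 LD2_c12 LD3_c25) (LK LD1_c0 LD2_c5 LD3_c41) Lrfl Lrfl
theorem f181969 : Led Lsl_bt (LP (LK LD1_c0 LD2_c25 LD3_c2)) = (LP (LK LD1_c0 LD2_c12 LD3_c25)) :=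
  Lgr Lrot22 (Lpe (f28931 IH) (Lpr_gf (f43115 IH) (Lpe (K1.f38942 IH) (Lpr_gf (f181960 IH) (Lpe (f173210 IH) (Lpr_ct (f173178 IH) (Lpe (f8579 IH) (Lpe (f20641 IH) (Lpr_bt (f43098 IH) (Lpe (f27826 IH) (Lpn (LP (LK LD1_c0 LD2_c12 LD3_c25)))))))))))))
theorem f28954 : Led Lsl_bt (LP (LK LD1_c0 LD2_c5 LD3_c41)) = (LP (LK LD1_c0 LD2_c2 LD3_c37)) :=
  Lre_b IH (LK LD1_c0 LD2_c5 LD3_c41) (LK LD1_c0 LD2_c2 LD3_c37) Lrfl Lrfl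
theorem f181980 : Led Lsl_gt (LP (LK LD1_c0 LD2_c24 LD3_c36)) = (LP (LK LD1_c0 LD2_c12 LD3_c25)) :=
  Lgr Lrot164 (Lpe (f41098 IH) (Lpr_ct (K1.f40839 IH) (Lpr_gf (f167835 IH) (Lpe (f20811 IH) (Lpe (f6854 IH) (Lpe (f28954 IH) (Lpr_ct (K1.f28953 IH) (Lpe (f28820 IH) (Lpr_cf (f28931 IH) (Lpr_bt (f181969 IH) (Lpn (LP (LK LD1_c0 LD2_c12 LD3_c25)))))))))))))
theorem f174524 : Led Lsl_ct (LP (LK LD1_c0 LD2_c24 LD3_c52)) = (LP (LK LD1_c0 LD2_c29 LD3_c5)) :=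
  Lgr Lrot59 (Lpr_cf (f174518 IH) (Lpn (LP (LK LD1_c0 LD2_c29 LD3_c5))))
theorem f173373 : Led Lsl_bt (LP (LK LD1_c0 LD2_c5 LD3_c50)) = (LP (LK LD1_c0 LD2_c12 LD3_c26)) :=
  Lre_b IH (LK LD1_c0 LD2_c5 LD3_c50) (LK LD1_c0 LD2_c12 LD3_c26) Lrfl Lrfl
theorem f80916 : Led Lsl_gt (LP (LK LD1_c0 LD2_c12 LD3_c26)) = (LP (LK LD1_c0 LD2_c28 LD3_c9)) :=
  Lre_g IH (LK LD1_c0 LD2_c12 LD3_c26) (LK LD1_c0 LD2_c28 LD3_c9) Lrfl Lrfl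
theorem f39235 : Led Lsl_bt (LP (LK LD1_c0 LD2_c7 LD3_c24)) = (LP (LK LD1_c0 LD2_c14 LD3_c42)) :=
  Lre_b IH (LK LD1_c0 LD2_c7 LD3_c24) (LK LD1_c0 LD2_c14 LD3_c42) Lrfl Lrfl
theorem f181221 : Led Lsl_bf (LP (LK LD1_c0 LD2_c28 LD3_c9)) = (LP (LK LD1_c0 LD2_c24 LD3_c51)) :=
  Lgr Lrot34 (Lpe (f80916 IH) (Lpe (f173373 IH) (Lpr_ct (f20645 IH) (Lpe (f26792 IH) (Lpe (f174524 IH) (Lpr_gf (f181216 IH) (Lpe (f39235 IH) (Lpr_ct (f20808 IH) (Lpe (f23960 IH) (Lpe (f173206 IH) (Lpn (LP (LK LD1_c0 LD2_c24 LD3_c51)))))))))))))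
theorem f174918 : Led Lsl_bf (LP (LK LD1_c0 LD2_c12 LD3_c50)) = (LP (LK LD1_c0 LD2_c12 LD3_c50)) :=
  Lgr Lrot34 (Lpe (f20649 IH) (Lpe (f20814 IH) (Lpr_ct (K1.f40748 IH) (Lpe (f172137 IH) (Lpe (f171299 IH) (Lpe (f60166 IH) (Lpe (f168853 IH) (Lpr_ct (K1.f40724 IH) (Lpr_gf (f174886 IH) (Lpe (f20629 IH) (Lpn (LP (LK LD1_c0 LD2_c12 LD3_c50)))))))))))))
theorem f39232 : Led Lsl_bt (LP (LK LD1_c0 LD2_c24 LD3_c54)) = (LP (LK LD1_c0 LD2_c54 LD3_c30)) :=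
  Lre_b IH (LK LD1_c0 LD2_c24 LD3_c54) (LK LD1_c0 LD2_c54 LD3_c30) Lrfl Lrfl
theorem f181414 : Led Lsl_gt (LP (LK LD1_c0 LD2_c28 LD3_c9)) = (LP (LK LD1_c0 LD2_c54 LD3_c30)) :=
  Lgr Lrot164 (Lpr_bf (f181221 IH) (Lpr_ct (f173206 IH) (Lpe (f20646 IH) (Lpe (f20645 IH) (Lpe (f20624 IH) (Lpr_bf (f174918 IH) (Lpr_ct (f20629 IH) (Lpe (f174744 IH) (Lpe (f40867 IH) (Lpr_bt (f39232 IH) (Lpn (LP (LK LD1_c0 LD2_c54 LD3_c30)))))))))))))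
theorem f80917 : Led Lsl_et (LP (LK LD1_c1 LD2_c1 LD3_c39)) = (LP (LK LD1_c0 LD2_c28 LD3_c9)) :=
  Lre_e IH (LK LD1_c1 LD2_c1 LD3_c39) (LK LD1_c0 LD2_c28 LD3_c9) Lrfl Lrfl
theorem f80915 : Led Lsl_et (LP (LK LD1_c0 LD2_c5 LD3_c44)) = (LP (LK LD1_c0 LD2_c12 LD3_c26)) :=
  Lre_e IH (LK LD1_c0 LD2_c5 LD3_c44) (LK LD1_c0 LD2_c12 LD3_c26) Lrfl Lrfl
theorem f60454 : Led Lsl_gt (LP (LK LD1_c1 LD2_c28 LD3_c22)) = (LP (LK LD1_c0 LD2_c40 LD3_c51)) :=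
  Lre_g IH (LK LD1_c1 LD2_c28 LD3_c22) (LK LD1_c0 LD2_c40 LD3_c51) Lrfl Lrfl
theorem f80918 : Led Lsl_dt (LP (LK LD1_c1 LD2_c1 LD3_c39)) = (LP (LK LD1_c1 LD2_c28 LD3_c22)) :=
  Lgr Lrot136 (Lpr_et (f80917 IH) (Lpe (f80916 IH) (Lpe (f80915 IH) (Lpr_dt (K0.f16620 IH) (Lpe (K1.f16639 IH) (Lpe (K1.f16642 IH) (Lpr_gf (K5.f80435 IH) (Lpe (K1.f59667 IH) (Lpr_dt (K1.f59675 IH) (Lpe (f60454 IH) (Lpn (LP (LK LD1_c1 LD2_c28 LD3_c22)))))))))))))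
theorem f60630 : Led Lsl_af (LP (LK LD1_c0 LD2_c40 LD3_c51)) = (LP (LK LD1_c0 LD2_c37 LD3_c15)) :=
  Lgr Lrot0 (Lpr_at (K2.f60626 IH) (Lpn (LP (LK LD1_c0 LD2_c37 LD3_c15))))
theorem f60224 : Led Lsl_ft (LP (LK LD1_c1 LD2_c20 LD3_c39)) = (LP (LK LD1_c0 LD2_c37 LD3_c15)) :=
  Lre_f IH (LK LD1_c1 LD2_c20 LD3_c39) (LK LD1_c0 LD2_c37 LD3_c15) Lrfl Lrfl
theorem f60699 : Led Lsl_gf (LP (LK LD1_c1 LD2_c28 LD3_c22)) = (LP (LK LD1_c1 LD2_c20 LD3_c39)) :=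
  Lgr Lrot47 (Lpr_gt (f60454 IH) (Lpr_af (f60630 IH) (Lpe (f60224 IH) (Lpn (LP (LK LD1_c1 LD2_c20 LD3_c39))))))
theorem f60227 : Led Lsl_dt (LP (LK LD1_c1 LD2_c20 LD3_c39)) = (LP (LK LD1_c1 LD2_c20 LD3_c39)) :=
  Lgr Lrot77 (Lpe (K1.f60218 IH) (Lpe (K1.f27863 IH) (Lpr_ef (K1.f45990 IH) (Lpe (K1.f27854 IH) (Lpr_ef (K1.f60222 IH) (Lpn (LP (LK LD1_c1 LD2_c20 LD3_c39))))))))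
theorem f28218 : Led Lsl_gt (LP (LK LD1_c0 LD2_c25 LD3_c41)) = (LP (LK LD1_c0 LD2_c56 LD3_c39)) :=
  Lre_g IH (LK LD1_c0 LD2_c25 LD3_c41) (LK LD1_c0 LD2_c56 LD3_c39) Lrfl Lrfl
theorem f47072 : Led Lsl_gf (LP (LK LD1_c0 LD2_c59 LD3_c5)) = (LP (LK LD1_c0 LD2_c56 LD3_c39)) :=
  Lgr Lrot76 (Lpr_af (K1.f47058 IH) (Lpe (K1.f47057 IH) (Lpr_gt (f28218 IH) (Lpn (LP (LK LD1_c0 LD2_c56 LD3_c39))))))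
theorem f34768 : Led Lsl_dt (LP (LK LD1_c0 LD2_c28 LD3_c7)) = (LP (LK LD1_c0 LD2_c12 LD3_c25)) :=
  Lre_d IH (LK LD1_c0 LD2_c28 LD3_c7) (LK LD1_c0 LD2_c12 LD3_c25) Lrfl Lrfl
theorem f181985 : Led Lsl_ef (LP (LK LD1_c0 LD2_c56 LD3_c39)) = (LP (LK LD1_c0 LD2_c28 LD3_c7)) :=
  Lgr Lrot114 (Lpe (f47072 IH) (Lpr_ef (K1.f60222 IH) (Lpr_dt (f60227 IH) (Lpe (f60699 IH) (Lpe (f80918 IH) (Lpr_et (f80917 IH) (Lpr_gt (f181414 IH) (Lpr_dt (K1.f38941 IH) (Lpr_gt (f181980 IH) (Lpe (f34768 IH) (Lpn (LP (LK LD1_c0 LD2_c28 LD3_c7)))))))))))))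
theorem f181987 : Led Lsl_et (LP (LK LD1_c0 LD2_c56 LD3_c39)) = (LP (LK LD1_c0 LD2_c28 LD3_c7)) :=
  Lgr Lrot87 (Lpr_ef (f181985 IH) (Lpn (LP (LK LD1_c0 LD2_c28 LD3_c7))))
theorem f28938 : Led Lsl_dt (LP (LK LD1_c0 LD2_c55 LD3_c16)) = (LP (LK LD1_c0 LD2_c25 LD3_c2)) :=
  Lre_d IH (LK LD1_c0 LD2_c55 LD3_c16) (LK LD1_c0 LD2_c25 LD3_c2) Lrfl Lrfl
theorem f166460 : Led Lsl_dt (LP (LK LD1_c0 LD2_c12 LD3_c25)) = (LP (LK LD1_c0 LD2_c28 LD3_c7)) :=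
  Lre_d IH (LK LD1_c0 LD2_c12 LD3_c25) (LK LD1_c0 LD2_c28 LD3_c7) Lrfl Lrfl
theorem f181975 : Led Lsl_bf (LP (LK LD1_c0 LD2_c55 LD3_c16)) = (LP (LK LD1_c0 LD2_c28 LD3_c7)) :=
  Lgr Lrot93 (Lpr_dt (f28938 IH) (Lpr_bt (f181969 IH) (Lpr_dt (f166460 IH) (Lpn (LP (LK LD1_c0 LD2_c28 LD3_c7))))))
theorem f28937 : Led Lsl_gt (LP (LK LD1_c0 LD2_c25 LD3_c2)) = (LP (LK LD1_c0 LD2_c11 LD3_c9)) :=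
  Lre_g IH (LK LD1_c0 LD2_c25 LD3_c2) (LK LD1_c0 LD2_c11 LD3_c9) Lrfl Lrfl
theorem f53094 : Led Lsl_gt (LP (LK LD1_c0 LD2_c25 LD3_c17)) = (LP (LK LD1_c0 LD2_c55 LD3_c42)) :=
  Lre_g IH (LK LD1_c0 LD2_c25 LD3_c17) (LK LD1_c0 LD2_c55 LD3_c42) Lrfl Lrfl
theorem f69713 : Led Lsl_et (LP (LK LD1_c0 LD2_c55 LD3_c16)) = (LP (LK LD1_c0 LD2_c55 LD3_c42)) :=
  Lgr Lrot122 (Lpr_dt (f28938 IH) (Lpr_gt (f28937 IH) (Lpe (K1.f29257 IH) (Lpr_et (K1.f29299 IH) (Lpr_gt (K2.f37958 IH) (Lpe (K2.f37966 IH) (Lpr_gt (K0.f34683 IH) (Lpr_df (K2.f69506 IH) (Lpr_et (K2.f69708 IH) (Lpr_gt (f53094 IH) (Lpn (LP (LK LD1_c0 LD2_c55 LD3_c42)))))))))))))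
theorem f181989 : Led Lsl_bf (LP (LK LD1_c0 LD2_c56 LD3_c39)) = (LP (LK LD1_c0 LD2_c55 LD3_c42)) :=
  Lgr Lrot96 (Lpr_et (f181987 IH) (Lpe (f181975 IH) (Lpr_et (f69713 IH) (Lpn (LP (LK LD1_c0 LD2_c55 LD3_c42))))))
theorem f55931 : Led Lsl_bt (LP (LK LD1_c0 LD2_c59 LD3_c5)) = (LP (LK LD1_c0 LD2_c29 LD3_c56)) :=
  Lgr Lrot62 (Lpr_af (K1.f47058 IH) (Lpe (K1.f47069 IH) (Lpe (K1.f55591 IH) (Lpr_bf (K1.f55928 IH) (Lpe (K1.f22393 IH) (Lpn (LP (LK LD1_c0 LD2_c29 LD3_c56))))))))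
theorem f69715 : Led Lsl_ct (LP (LK LD1_c0 LD2_c55 LD3_c42)) = (LP (LK LD1_c1 LD2_c57 LD3_c39)) :=
  Lre_c IH (LK LD1_c0 LD2_c55 LD3_c42) (LK LD1_c1 LD2_c57 LD3_c39) Lrfl Lrfl
theorem f181995 : Led Lsl_gf (LP (LK LD1_c2 LD2_c4 LD3_c7)) = (LP (LK LD1_c1 LD2_c57 LD3_c39)) :=
  Lgr Lrot126 (Lpe (K1.f27864 IH) (Lpr_bt (f55931 IH) (Lpr_gt (f20652 IH) (Lpr_ct (f20660 IH) (Lpe (f177381 IH) (Lpe (f55631 IH) (Lpr_bt (f56320 IH) (Lpr_gt (f28218 IH) (Lpr_bf (f181989 IH) (Lpr_ct (f69715 IH) (Lpn (LP (LK LD1_c1 LD2_c57 LD3_c39)))))))))))))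
theorem f33187 : Led Lsl_gt (LP (LK LD1_c0 LD2_c11 LD3_c15)) = (LP (LK LD1_c0 LD2_c25 LD3_c15)) :=
  Lre_g IH (LK LD1_c0 LD2_c11 LD3_c15) (LK LD1_c0 LD2_c25 LD3_c15) Lrfl Lrfl
theorem f34618 : Led Lsl_ct (LP (LK LD1_c0 LD2_c25 LD3_c15)) = (LP (LK LD1_c0 LD2_c55 LD3_c36)) :=
  Lre_c IH (LK LD1_c0 LD2_c25 LD3_c15) (LK LD1_c0 LD2_c55 LD3_c36) Lrfl Lrfl
theorem f181997 : Led Lsl_gf (LP (LK LD1_c0 LD2_c56 LD3_c2)) = (LP (LK LD1_c0 LD2_c55 LD3_c36)) :=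
  Lgr Lrot104 (Lpe (K1.f27852 IH) (Lpe (K1.f27854 IH) (Lpe (K1.f27855 IH) (Lpr_gf (f181995 IH) (Lpe (f69715 IH) (Lpe (f53094 IH) (Lpe (K0.f27939 IH) (Lpr_gt (f33187 IH) (Lpr_ct (f34618 IH) (Lpn (LP (LK LD1_c0 LD2_c55 LD3_c36))))))))))))
theorem f45993 : Led Lsl_bt (LP (LK LD1_c0 LD2_c17 LD3_c41)) = (LP (LK LD1_c0 LD2_c7 LD3_c58)) :=
  Lre_b IH (LK LD1_c0 LD2_c17 LD3_c41) (LK LD1_c0 LD2_c7 LD3_c58) Lrfl Lrfl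
theorem f34630 : Led Lsl_bt (LP (LK LD1_c0 LD2_c14 LD3_c7)) = (LP (LK LD1_c0 LD2_c11 LD3_c15)) :=
  Lgr Lrot127 (Lpr_bf (K0.f34614 IH) (Lpn (LP (LK LD1_c0 LD2_c11 LD3_c15))))
theorem f37322 : Led Lsl_gt (LP (LK LD1_c0 LD2_c15 LD3_c7)) = (LP (LK LD1_c0 LD2_c6 LD3_c55)) :=
  Lre_g IH (LK LD1_c0 LD2_c15 LD3_c7) (LK LD1_c0 LD2_c6 LD3_c55) Lrfl Lrfl
theorem f182008 : Led Lsl_ct (LP (LK LD1_c0 LD2_c17 LD3_c41)) = (LP (LK LD1_c0 LD2_c15 LD3_c7)) :=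
  Lgr Lrot64 (Lpr_bt (f45993 IH) (Lpe (K0.f9080 IH) (Lpe (K1.f45814 IH) (Lpr_ct (K1.f27844 IH) (Lpr_gf (f181997 IH) (Lpe (f34618 IH) (Lpe (f33187 IH) (Lpe (f34630 IH) (Lpe (K0.f28588 IH) (Lpe (f37322 IH) (Lpn (LP (LK LD1_c0 LD2_c15 LD3_c7)))))))))))))
theorem f177384 : Led Lsl_bt (LP (LK LD1_c0 LD2_c7 LD3_c58)) = (LP (LK LD1_c0 LD2_c17 LD3_c41)) :=
  Lre_b IH (LK LD1_c0 LD2_c7 LD3_c58) (LK LD1_c0 LD2_c17 LD3_c41) Lrfl Lrfl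
theorem f177383 : Led Lsl_bt (LP (LK LD1_c0 LD2_c39 LD3_c30)) = (LP (LK LD1_c0 LD2_c17 LD3_c42)) :=
  Lre_b IH (LK LD1_c0 LD2_c39 LD3_c30) (LK LD1_c0 LD2_c17 LD3_c42) Lrfl Lrfl
theorem f182014 : Led Lsl_bt (LP (LK LD1_c0 LD2_c15 LD3_c7)) = (LP (LK LD1_c0 LD2_c33 LD3_c40)) :=
  Lre_b IH (LK LD1_c0 LD2_c15 LD3_c7) (LK LD1_c0 LD2_c33 LD3_c40) Lrfl Lrfl
theorem f182015 : Led Lsl_cf (LP (LK LD1_c0 LD2_c39 LD3_c30)) = (LP (LK LD1_c0 LD2_c33 LD3_c40)) :=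
  Lgr Lrot97 (Lpr_bt (f177383 IH) (Lpr_ct (f9088 IH) (Lpr_bt (f177384 IH) (Lpr_ct (f182008 IH) (Lpr_bt (f182014 IH) (Lpn (LP (LK LD1_c0 LD2_c33 LD3_c40))))))))
theorem f165182 : Led Lsl_bt (LP (LK LD1_c0 LD2_c33 LD3_c40)) = (LP (LK LD1_c0 LD2_c15 LD3_c7)) :=
  Lre_b IH (LK LD1_c0 LD2_c33 LD3_c40) (LK LD1_c0 LD2_c15 LD3_c7) Lrfl Lrfl
theorem f163670 : Led Lsl_bt (LP (LK LD1_c0 LD2_c3 LD3_c10)) = (LP (LK LD1_c0 LD2_c6 LD3_c55)) :=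
  Lre_b IH (LK LD1_c0 LD2_c3 LD3_c10) (LK LD1_c0 LD2_c6 LD3_c55) Lrfl Lrfl
theorem f163671 : Led Lsl_at (LP (LK LD1_c0 LD2_c6 LD3_c55)) = (LP (LK LD1_c0 LD2_c6 LD3_c55)) :=
  Lgr Lrot67 (Lpe (f163670 IH) (Lpe (f163668 IH) (Lpr_bf (K0.f3111 IH) (Lpr_af (K8.f163664 IH) (Lpe (K0.f34613 IH) (Lpn (LP (LK LD1_c0 LD2_c6 LD3_c55))))))))
theorem f165174 : Led Lsl_ft (LP (LK LD1_c0 LD2_c15 LD3_c9)) = (LP (LK LD1_c0 LD2_c6 LD3_c55)) :=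
  Lre_f IH (LK LD1_c0 LD2_c15 LD3_c9) (LK LD1_c0 LD2_c6 LD3_c55) Lrfl Lrfl
theorem f165502 : Led Lsl_gt (LP (LK LD1_c0 LD2_c15 LD3_c9)) = (LP (LK LD1_c0 LD2_c15 LD3_c7)) :=
  Lgr Lrot5 (Lpr_ft (f165174 IH) (Lpr_at (f163671 IH) (Lpe (f37322 IH) (Lpn (LP (LK LD1_c0 LD2_c15 LD3_c7))))))
theorem f34642 : Led Lsl_bt (LP (LK LD1_c0 LD2_c6 LD3_c61)) = (LP (LK LD1_c0 LD2_c15 LD3_c9)) :=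
  Lre_b IH (LK LD1_c0 LD2_c6 LD3_c61) (LK LD1_c0 LD2_c15 LD3_c9) Lrfl Lrfl
theorem f165839 : Led Lsl_ct (LP (LK LD1_c0 LD2_c14 LD3_c23)) = (LP (LK LD1_c0 LD2_c14 LD3_c54)) :=
  Lgr Lrot59 (Lpr_cf (f165829 IH) (Lpn (LP (LK LD1_c0 LD2_c14 LD3_c54))))
theorem f182034 : Led Lsl_gt (LP (LK LD1_c0 LD2_c39 LD3_c30)) = (LP (LK LD1_c0 LD2_c27 LD3_c42)) :=
  Lgr Lrot65 (Lpr_cf (f182015 IH) (Lpr_bt (f165182 IH) (Lpe (f165502 IH) (Lpe (f34642 IH) (Lpr_ct (K8.f163680 IH) (Lpe (f165274 IH) (Lpe (f165839 IH) (Lpe (f28334 IH) (Lpe (K0.f28452 IH) (Lpr_ct (K0.f31699 IH) (Lpn (LP (LK LD1_c0 LD2_c27 LD3_c42)))))))))))))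
theorem f31080 : Led Lsl_ft (LP (LK LD1_c1 LD2_c0 LD3_c57)) = (LP (LK LD1_c0 LD2_c27 LD3_c47)) :=
  Lre_f IH (LK LD1_c1 LD2_c0 LD3_c57) (LK LD1_c0 LD2_c27 LD3_c47) Lrfl Lrfl
theorem f31999 : Led Lsl_dt (LP (LK LD1_c0 LD2_c27 LD3_c44)) = (LP (LK LD1_c0 LD2_c12 LD3_c16)) :=
  Lre_d IH (LK LD1_c0 LD2_c27 LD3_c44) (LK LD1_c0 LD2_c12 LD3_c16) Lrfl Lrfl
theorem f32002 : Led Lsl_at (LP (LK LD1_c0 LD2_c27 LD3_c47)) = (LP (LK LD1_c0 LD2_c27 LD3_c42)) :=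
  Lgr Lrot33 (Lpe (f31080 IH) (Lpr_dt (K0.f31075 IH) (Lpr_ct (K0.f31829 IH) (Lpr_dt (K0.f31992 IH) (Lpr_ct (K0.f31991 IH) (Lpr_dt (K0.f31988 IH) (Lpr_ct (K0.f31755 IH) (Lpr_dt (f31999 IH) (Lpr_ct (K0.f31699 IH) (Lpn (LP (LK LD1_c0 LD2_c27 LD3_c42))))))))))))
theorem f182036 : Led Lsl_gf (LP (LK LD1_c0 LD2_c39 LD3_c30)) = (LP (LK LD1_c1 LD2_c0 LD3_c57)) :=
  Lgr Lrot47 (Lpr_gt (f182034 IH) (Lpe (f32002 IH) (Lpe (f31080 IH) (Lpn (LP (LK LD1_c1 LD2_c0 LD3_c57))))))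
theorem f9089 : Led Lsl_bt (LP (LK LD1_c0 LD2_c17 LD3_c42)) = (LP (LK LD1_c0 LD2_c39 LD3_c30)) :=
  Lre_b IH (LK LD1_c0 LD2_c17 LD3_c42) (LK LD1_c0 LD2_c39 LD3_c30) Lrfl Lrfl
theorem f177460 : Led Lsl_bt (LP (LK LD1_c0 LD2_c7 LD3_c56)) = (LP (LK LD1_c0 LD2_c17 LD3_c33)) :=
  Lre_b IH (LK LD1_c0 LD2_c7 LD3_c56) (LK LD1_c0 LD2_c17 LD3_c33) Lrfl Lrfl
theorem f42120 : Led Lsl_gt (LP (LK LD1_c0 LD2_c17 LD3_c33)) = (LP (LK LD1_c0 LD2_c39 LD3_c9)) :=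
  Lre_g IH (LK LD1_c0 LD2_c17 LD3_c33) (LK LD1_c0 LD2_c39 LD3_c9) Lrfl Lrfl
theorem f42478 : Led Lsl_ct (LP (LK LD1_c0 LD2_c39 LD3_c9)) = (LP (LK LD1_c1 LD2_c24 LD3_c59)) :=
  Lre_c IH (LK LD1_c0 LD2_c39 LD3_c9) (LK LD1_c1 LD2_c24 LD3_c59) Lrfl Lrfl
theorem f182089 : Led Lsl_gt (LP (LK LD1_c1 LD2_c24 LD3_c59)) = (LP (LK LD1_c2 LD2_c7 LD3_c57)) :=
  Lgr Lrot149 (Lpe (f42478 IH) (Lpe (f42120 IH) (Lpe (f177460 IH) (Lpr_ct (f9073 IH) (Lpe (K0.f20566 IH) (Lpe (f9088 IH) (Lpr_bt (f9089 IH) (Lpr_gf (f182036 IH) (Lpe (K0.f28623 IH) (Lpr_ct (K0.f28681 IH) (Lpn (LP (LK LD1_c2 LD2_c7 LD3_c57)))))))))))))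
theorem f42474 : Led Lsl_ct (LP (LK LD1_c1 LD2_c24 LD3_c59)) = (LP (LK LD1_c0 LD2_c39 LD3_c9)) :=
  Lre_c IH (LK LD1_c1 LD2_c24 LD3_c59) (LK LD1_c0 LD2_c39 LD3_c9) Lrfl Lrfl
theorem f41808 : Led Lsl_gt (LP (LK LD1_c0 LD2_c39 LD3_c9)) = (LP (LK LD1_c1 LD2_c24 LD3_c57)) :=
  Lre_g IH (LK LD1_c0 LD2_c39 LD3_c9) (LK LD1_c1 LD2_c24 LD3_c57) Lrfl Lrfl
theorem f41806 : Led Lsl_dt (LP (LK LD1_c1 LD2_c24 LD3_c57)) = (LP (LK LD1_c2 LD2_c58 LD3_c27)) :=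
  Lre_d IH (LK LD1_c1 LD2_c24 LD3_c57) (LK LD1_c2 LD2_c58 LD3_c27) Lrfl Lrfl
theorem f41807 : Led Lsl_gt (LP (LK LD1_c2 LD2_c58 LD3_c27)) = (LP (LK LD1_c1 LD2_c25 LD3_c5)) :=
  Lre_g IH (LK LD1_c2 LD2_c58 LD3_c27) (LK LD1_c1 LD2_c25 LD3_c5) Lrfl Lrfl
theorem f41427 : Led Lsl_et (LP (LK LD1_c0 LD2_c7 LD3_c6)) = (LP (LK LD1_c0 LD2_c15 LD3_c43)) :=
  Lre_e IH (LK LD1_c0 LD2_c7 LD3_c6) (LK LD1_c0 LD2_c15 LD3_c43) Lrfl Lrfl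
theorem f41277 : Led Lsl_gt (LP (LK LD1_c0 LD2_c15 LD3_c43)) = (LP (LK LD1_c0 LD2_c34 LD3_c60)) :=
  Lre_g IH (LK LD1_c0 LD2_c15 LD3_c43) (LK LD1_c0 LD2_c34 LD3_c60) Lrfl Lrfl
theorem f42134 : Led Lsl_et (LP (LK LD1_c1 LD2_c15 LD3_c27)) = (LP (LK LD1_c0 LD2_c34 LD3_c60)) :=
  Lre_e IH (LK LD1_c1 LD2_c15 LD3_c27) (LK LD1_c0 LD2_c34 LD3_c60) Lrfl Lrfl
theorem f41820 : Led Lsl_et (LP (LK LD1_c0 LD2_c17 LD3_c33)) = (LP (LK LD1_c0 LD2_c7 LD3_c55)) :=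
  Lre_e IH (LK LD1_c0 LD2_c17 LD3_c33) (LK LD1_c0 LD2_c7 LD3_c55) Lrfl Lrfl
theorem f42113 : Led Lsl_dt (LP (LK LD1_c0 LD2_c17 LD3_c33)) = (LP (LK LD1_c0 LD2_c39 LD3_c11)) :=
  Lre_d IH (LK LD1_c0 LD2_c17 LD3_c33) (LK LD1_c0 LD2_c39 LD3_c11) Lrfl Lrfl
theorem f42114 : Led Lsl_gt (LP (LK LD1_c1 LD2_c25 LD3_c5)) = (LP (LK LD1_c0 LD2_c39 LD3_c11)) :=
  Lre_g IH (LK LD1_c1 LD2_c25 LD3_c5) (LK LD1_c0 LD2_c39 LD3_c11) Lrfl Lrfl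
theorem f42135 : Led Lsl_dt (LP (LK LD1_c1 LD2_c15 LD3_c27)) = (LP (LK LD1_c1 LD2_c25 LD3_c5)) :=
  Lgr Lrot136 (Lpr_et (f42134 IH) (Lpe (f41277 IH) (Lpe (f41427 IH) (Lpr_dt (K1.f41531 IH) (Lpr_gf (K1.f42130 IH) (Lpe (K1.f42081 IH) (Lpe (K0.f418 IH) (Lpe (f41820 IH) (Lpr_dt (f42113 IH) (Lpe (f42114 IH) (Lpn (LP (LK LD1_c1 LD2_c25 LD3_c5)))))))))))))
theorem f42143 : Led Lsl_df (LP (LK LD1_c1 LD2_c15 LD3_c27)) = (LP (LK LD1_c1 LD2_c25 LD3_c5)) :=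
  Lgr Lrot38 (Lpr_dt (f42135 IH) (Lpn (LP (LK LD1_c1 LD2_c25 LD3_c5))))
theorem f171872 : Led Lsl_bt (LP (LK LD1_c0 LD2_c3 LD3_c15)) = (LP (LK LD1_c0 LD2_c7 LD3_c8)) :=
  Lre_b IH (LK LD1_c0 LD2_c3 LD3_c15) (LK LD1_c0 LD2_c7 LD3_c8) Lrfl Lrfl
theorem f171873 : Led Lsl_bt (LP (LK LD1_c0 LD2_c35 LD3_c10)) = (LP (LK LD1_c0 LD2_c15 LD3_c48)) :=
  Lre_b IH (LK LD1_c0 LD2_c35 LD3_c10) (LK LD1_c0 LD2_c15 LD3_c48) Lrfl Lrfl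
theorem f167804 : Led Lsl_ct (LP (LK LD1_c0 LD2_c32 LD3_c23)) = (LP (LK LD1_c0 LD2_c15 LD3_c51)) :=
  Lre_c IH (LK LD1_c0 LD2_c32 LD3_c23) (LK LD1_c0 LD2_c15 LD3_c51) Lrfl Lrfl
theorem f42157 : Led Lsl_gt (LP (LK LD1_c0 LD2_c34 LD3_c60)) = (LP (LK LD1_c0 LD2_c15 LD3_c51)) :=
  Lre_g IH (LK LD1_c0 LD2_c34 LD3_c60) (LK LD1_c0 LD2_c15 LD3_c51) Lrfl Lrfl
theorem f171874 : Led Lsl_ct (LP (LK LD1_c0 LD2_c35 LD3_c10)) = (LP (LK LD1_c0 LD2_c34 LD3_c60)) :=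
  Lgr Lrot64 (Lpr_bt (f171873 IH) (Lpe (K1.f42490 IH) (Lpe (f171872 IH) (Lpr_ct (K0.f7887 IH) (Lpe (f8336 IH) (Lpe (f165205 IH) (Lpr_gf (f171755 IH) (Lpe (f40830 IH) (Lpr_ct (f167804 IH) (Lpe (f42157 IH) (Lpn (LP (LK LD1_c0 LD2_c34 LD3_c60)))))))))))))
theorem f171890 : Led Lsl_et (LP (LK LD1_c1 LD2_c15 LD3_c52)) = (LP (LK LD1_c0 LD2_c35 LD3_c10)) :=
  Lre_e IH (LK LD1_c1 LD2_c15 LD3_c52) (LK LD1_c0 LD2_c35 LD3_c10) Lrfl Lrfl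
theorem f42145 : Led Lsl_et (LP (LK LD1_c0 LD2_c34 LD3_c60)) = (LP (LK LD1_c1 LD2_c15 LD3_c27)) :=
  Lre_e IH (LK LD1_c0 LD2_c34 LD3_c60) (LK LD1_c1 LD2_c15 LD3_c27) Lrfl Lrfl
theorem f171891 : Led Lsl_cf (LP (LK LD1_c1 LD2_c15 LD3_c52)) = (LP (LK LD1_c1 LD2_c15 LD3_c27)) :=
  Lgr Lrot39 (Lpr_et (f171890 IH) (Lpr_ct (f171874 IH) (Lpr_et (f42145 IH) (Lpn (LP (LK LD1_c1 LD2_c15 LD3_c27))))))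
theorem f171994 : Led Lsl_dt (LP (LK LD1_c2 LD2_c37 LD3_c44)) = (LP (LK LD1_c1 LD2_c15 LD3_c52)) :=
  Lre_d IH (LK LD1_c2 LD2_c37 LD3_c44) (LK LD1_c1 LD2_c15 LD3_c52) Lrfl Lrfl
theorem f28693 : Led Lsl_dt (LP (LK LD1_c2 LD2_c7 LD3_c57)) = (LP (LK LD1_c4 LD2_c20 LD3_c54)) :=
  Lre_d IH (LK LD1_c2 LD2_c7 LD3_c57) (LK LD1_c4 LD2_c20 LD3_c54) Lrfl Lrfl
theorem f182095 : Led Lsl_gf (LP (LK LD1_c2 LD2_c37 LD3_c44)) = (LP (LK LD1_c4 LD2_c20 LD3_c54)) :=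
  Lgr Lrot143 (Lpr_dt (f171994 IH) (Lpr_cf (f171891 IH) (Lpr_df (f42143 IH) (Lpe (f41807 IH) (Lpe (f41806 IH) (Lpe (f41808 IH) (Lpe (f42474 IH) (Lpr_gt (f182089 IH) (Lpr_dt (f28693 IH) (Lpn (LP (LK LD1_c4 LD2_c20 LD3_c54))))))))))))
theorem f28688 : Led Lsl_ft (LP (LK LD1_c4 LD2_c20 LD3_c54)) = (LP (LK LD1_c2 LD2_c7 LD3_c56)) :=
  Lre_f IH (LK LD1_c4 LD2_c20 LD3_c54) (LK LD1_c2 LD2_c7 LD3_c56) Lrfl Lrfl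
theorem f32077 : Led Lsl_dt (LP (LK LD1_c0 LD2_c34 LD3_c41)) = (LP (LK LD1_c1 LD2_c14 LD3_c46)) :=
  Lre_d IH (LK LD1_c0 LD2_c34 LD3_c41) (LK LD1_c1 LD2_c14 LD3_c46) Lrfl Lrfl
theorem f49155 : Led Lsl_et (LP (LK LD1_c1 LD2_c11 LD3_c12)) = (LP (LK LD1_c0 LD2_c32 LD3_c61)) :=
  Lre_e IH (LK LD1_c1 LD2_c11 LD3_c12) (LK LD1_c0 LD2_c32 LD3_c61) Lrfl Lrfl
theorem f48170 : Led Lsl_dt (LP (LK LD1_c2 LD2_c28 LD3_c3)) = (LP (LK LD1_c1 LD2_c11 LD3_c12)) :=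
  Lre_d IH (LK LD1_c2 LD2_c28 LD3_c3) (LK LD1_c1 LD2_c11 LD3_c12) Lrfl Lrfl
theorem f54035 : Led Lsl_et (LP (LK LD1_c1 LD2_c14 LD3_c46)) = (LP (LK LD1_c2 LD2_c28 LD3_c3)) :=
  Lgr Lrot71 (Lpe (f32077 IH) (Lpe (K1.f32122 IH) (Lpr_df (K8.f49143 IH) (Lpe (f49155 IH) (Lpe (f48170 IH) (Lpn (LP (LK LD1_c2 LD2_c28 LD3_c3))))))))
theorem f54042 : Led Lsl_ef (LP (LK LD1_c1 LD2_c14 LD3_c46)) = (LP (LK LD1_c2 LD2_c28 LD3_c3)) :=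
  Lgr Lrot88 (Lpr_et (f54035 IH) (Lpn (LP (LK LD1_c2 LD2_c28 LD3_c3))))
theorem f33045 : Led Lsl_at (LP (LK LD1_c1 LD2_c14 LD3_c46)) = (LP (LK LD1_c2 LD2_c35 LD3_c13)) :=
  Lre_a IH (LK LD1_c1 LD2_c14 LD3_c46) (LK LD1_c2 LD2_c35 LD3_c13) Lrfl Lrfl
theorem f44925 : Led Lsl_ft (LP (LK LD1_c0 LD2_c34 LD3_c39)) = (LP (LK LD1_c0 LD2_c34 LD3_c39)) :=
  Lgr Lrot54 (Lpe (K1.f44920 IH) (Lpe (K8.f33400 IH) (Lpr_df (K1.f44916 IH) (Lpn (LP (LK LD1_c0 LD2_c34 LD3_c39))))))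
theorem f44935 : Led Lsl_ff (LP (LK LD1_c0 LD2_c57 LD3_c37)) = (LP (LK LD1_c0 LD2_c57 LD3_c37)) :=
  Lgr Lrot23 (Lpr_ct (K1.f44927 IH) (Lpr_ft (f44925 IH) (Lpe (K1.f44930 IH) (Lpn (LP (LK LD1_c0 LD2_c57 LD3_c37))))))
theorem f49147 : Led Lsl_at (LP (LK LD1_c0 LD2_c57 LD3_c37)) = (LP (LK LD1_c0 LD2_c32 LD3_c61)) :=
  Lgr Lrot33 (Lpr_ff (f44935 IH) (Lpe (K8.f47739 IH) (Lpr_ct (K1.f32135 IH) (Lpe (K8.f45736 IH) (Lpr_ct (K1.f45122 IH) (Lpe (K1.f45092 IH) (Lpr_ct (K1.f32326 IH) (Lpr_dt (K8.f49141 IH) (Lpr_ct (K8.f32927 IH) (Lpn (LP (LK LD1_c0 LD2_c32 LD3_c61))))))))))))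
theorem f44932 : Led Lsl_et (LP (LK LD1_c2 LD2_c1 LD3_c5)) = (LP (LK LD1_c0 LD2_c57 LD3_c37)) :=
  Lre_e IH (LK LD1_c2 LD2_c1 LD3_c5) (LK LD1_c0 LD2_c57 LD3_c37) Lrfl Lrfl
theorem f49151 : Led Lsl_et (LP (LK LD1_c0 LD2_c32 LD3_c61)) = (LP (LK LD1_c1 LD2_c11 LD3_c12)) :=
  Lre_e IH (LK LD1_c0 LD2_c32 LD3_c61) (LK LD1_c1 LD2_c11 LD3_c12) Lrfl Lrfl
theorem f53608 : Led Lsl_af (LP (LK LD1_c2 LD2_c1 LD3_c5)) = (LP (LK LD1_c1 LD2_c11 LD3_c12)) :=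
  Lgr Lrot50 (Lpr_et (f44932 IH) (Lpr_at (f49147 IH) (Lpr_et (f49151 IH) (Lpn (LP (LK LD1_c1 LD2_c11 LD3_c12))))))
theorem f44940 : Led Lsl_dt (LP (LK LD1_c2 LD2_c1 LD3_c5)) = (LP (LK LD1_c4 LD2_c7 LD3_c29)) :=
  Lre_d IH (LK LD1_c2 LD2_c1 LD3_c5) (LK LD1_c4 LD2_c7 LD3_c29) Lrfl Lrfl
theorem f53614 : Led Lsl_at (LP (LK LD1_c4 LD2_c7 LD3_c29)) = (LP (LK LD1_c2 LD2_c28 LD3_c3)) :=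
  Lgr Lrot51 (Lpe (f44940 IH) (Lpr_af (f53608 IH) (Lpe (f48170 IH) (Lpn (LP (LK LD1_c2 LD2_c28 LD3_c3))))))
theorem f54051 : Led Lsl_et (LP (LK LD1_c2 LD2_c35 LD3_c13)) = (LP (LK LD1_c4 LD2_c7 LD3_c29)) :=
  Lgr Lrot123 (Lpe (f33045 IH) (Lpr_ef (f54042 IH) (Lpe (f53614 IH) (Lpn (LP (LK LD1_c4 LD2_c7 LD3_c29))))))
theorem f47443 : Led Lsl_bf (LP (LK LD1_c0 LD2_c57 LD3_c37)) = (LP (LK LD1_c0 LD2_c56 LD3_c44)) :=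
  Lgr Lrot34 (Lpe (K1.f744 IH) (Lpr_bf (K1.f44950 IH) (Lpr_ct (K1.f43216 IH) (Lpe (K1.f45785 IH) (Lpr_cf (K8.f45792 IH) (Lpr_gf (K1.f45734 IH) (Lpe (K1.f44242 IH) (Lpe (K1.f46229 IH) (Lpr_gf (K1.f47435 IH) (Lpe (K1.f43344 IH) (Lpn (LP (LK LD1_c0 LD2_c56 LD3_c44)))))))))))))
theorem f53606 : Led Lsl_af (LP (LK LD1_c0 LD2_c56 LD3_c44)) = (LP (LK LD1_c0 LD2_c33 LD3_c1)) :=
  Lgr Lrot36 (Lpe (f47443 IH) (Lpr_at (f49147 IH) (Lpr_bt (K1.f32929 IH) (Lpe (K1.f33285 IH) (Lpr_bt (K1.f33126 IH) (Lpn (LP (LK LD1_c0 LD2_c33 LD3_c1))))))))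
theorem f47467 : Led Lsl_et (LP (LK LD1_c0 LD2_c56 LD3_c44)) = (LP (LK LD1_c1 LD2_c59 LD3_c37)) :=
  Lre_e IH (LK LD1_c0 LD2_c56 LD3_c44) (LK LD1_c1 LD2_c59 LD3_c37) Lrfl Lrfl
theorem f44528 : Led Lsl_et (LP (LK LD1_c1 LD2_c11 LD3_c14)) = (LP (LK LD1_c0 LD2_c33 LD3_c1)) :=
  Lre_e IH (LK LD1_c1 LD2_c11 LD3_c14) (LK LD1_c0 LD2_c33 LD3_c1) Lrfl Lrfl
theorem f53628 : Led Lsl_at (LP (LK LD1_c1 LD2_c59 LD3_c37)) = (LP (LK LD1_c1 LD2_c11 LD3_c14)) :=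
  Lgr Lrot80 (Lpe (f47467 IH) (Lpr_af (f53606 IH) (Lpe (f44528 IH) (Lpn (LP (LK LD1_c1 LD2_c11 LD3_c14))))))
theorem f53630 : Led Lsl_af (LP (LK LD1_c1 LD2_c59 LD3_c37)) = (LP (LK LD1_c1 LD2_c11 LD3_c14)) :=
  Lgr Lrot0 (Lpr_at (f53628 IH) (Lpn (LP (LK LD1_c1 LD2_c11 LD3_c14))))
theorem f47468 : Led Lsl_bf (LP (LK LD1_c2 LD2_c1 LD3_c5)) = (LP (LK LD1_c1 LD2_c59 LD3_c37)) :=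
  Lgr Lrot96 (Lpr_et (f44932 IH) (Lpr_bt (K1.f47459 IH) (Lpr_et (f47467 IH) (Lpn (LP (LK LD1_c1 LD2_c59 LD3_c37))))))
theorem f53610 : Led Lsl_at (LP (LK LD1_c2 LD2_c1 LD3_c5)) = (LP (LK LD1_c1 LD2_c11 LD3_c12)) :=
  Lgr Lrot100 (Lpr_af (f53608 IH) (Lpn (LP (LK LD1_c1 LD2_c11 LD3_c12))))
theorem f53627 : Led Lsl_bt (LP (LK LD1_c1 LD2_c11 LD3_c12)) = (LP (LK LD1_c0 LD2_c33 LD3_c0)) :=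
  Lre_b IH (LK LD1_c1 LD2_c11 LD3_c12) (LK LD1_c0 LD2_c33 LD3_c0) Lrfl Lrfl
theorem f53647 : Led Lsl_bt (LP (LK LD1_c0 LD2_c33 LD3_c2)) = (LP (LK LD1_c1 LD2_c11 LD3_c14)) :=
  Lre_b IH (LK LD1_c0 LD2_c33 LD3_c2) (LK LD1_c1 LD2_c11 LD3_c14) Lrfl Lrfl
theorem f53648 : Led Lsl_at (LP (LK LD1_c0 LD2_c33 LD3_c0)) = (LP (LK LD1_c0 LD2_c33 LD3_c2)) :=
  Lgr Lrot67 (Lpe (f53627 IH) (Lpe (f53610 IH) (Lpr_bf (f47468 IH) (Lpr_af (f53630 IH) (Lpe (f53647 IH) (Lpn (LP (LK LD1_c0 LD2_c33 LD3_c2))))))))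
theorem f33294 : Led Lsl_dt (LP (LK LD1_c1 LD2_c11 LD3_c13)) = (LP (LK LD1_c0 LD2_c33 LD3_c0)) :=
  Lre_d IH (LK LD1_c1 LD2_c11 LD3_c13) (LK LD1_c0 LD2_c33 LD3_c0) Lrfl Lrfl
theorem f21866 : Led Lsl_dt (LP (LK LD1_c0 LD2_c33 LD3_c2)) = (LP (LK LD1_c1 LD2_c11 LD3_c15)) :=
  Lre_d IH (LK LD1_c0 LD2_c33 LD3_c2) (LK LD1_c1 LD2_c11 LD3_c15) Lrfl Lrfl
theorem f53657 : Led Lsl_af (LP (LK LD1_c1 LD2_c11 LD3_c13)) = (LP (LK LD1_c1 LD2_c11 LD3_c15)) :=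
  Lgr Lrot117 (Lpr_dt (f33294 IH) (Lpr_at (f53648 IH) (Lpr_dt (f21866 IH) (Lpn (LP (LK LD1_c1 LD2_c11 LD3_c15))))))
theorem f53619 : Led Lsl_bt (LP (LK LD1_c1 LD2_c11 LD3_c13)) = (LP (LK LD1_c2 LD2_c28 LD3_c3)) :=
  Lre_b IH (LK LD1_c1 LD2_c11 LD3_c13) (LK LD1_c2 LD2_c28 LD3_c3) Lrfl Lrfl
theorem f53616 : Led Lsl_af (LP (LK LD1_c4 LD2_c7 LD3_c29)) = (LP (LK LD1_c2 LD2_c28 LD3_c3)) :=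
  Lgr Lrot0 (Lpr_at (f53614 IH) (Lpn (LP (LK LD1_c2 LD2_c28 LD3_c3))))
theorem f53643 : Led Lsl_bt (LP (LK LD1_c2 LD2_c28 LD3_c5)) = (LP (LK LD1_c1 LD2_c11 LD3_c15)) :=
  Lre_b IH (LK LD1_c2 LD2_c28 LD3_c5) (LK LD1_c1 LD2_c11 LD3_c15) Lrfl Lrfl
theorem f53633 : Led Lsl_dt (LP (LK LD1_c4 LD2_c4 LD3_c61)) = (LP (LK LD1_c1 LD2_c59 LD3_c37)) :=
  Lre_d IH (LK LD1_c4 LD2_c4 LD3_c61) (LK LD1_c1 LD2_c59 LD3_c37) Lrfl Lrfl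
theorem f44529 : Led Lsl_dt (LP (LK LD1_c1 LD2_c11 LD3_c14)) = (LP (LK LD1_c2 LD2_c28 LD3_c5)) :=
  Lre_d IH (LK LD1_c1 LD2_c11 LD3_c14) (LK LD1_c2 LD2_c28 LD3_c5) Lrfl Lrfl
theorem f53634 : Led Lsl_af (LP (LK LD1_c4 LD2_c4 LD3_c61)) = (LP (LK LD1_c2 LD2_c28 LD3_c5)) :=
  Lgr Lrot117 (Lpr_dt (f53633 IH) (Lpr_at (f53628 IH) (Lpr_dt (f44529 IH) (Lpn (LP (LK LD1_c2 LD2_c28 LD3_c5))))))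
theorem f53639 : Led Lsl_at (LP (LK LD1_c4 LD2_c4 LD3_c61)) = (LP (LK LD1_c2 LD2_c28 LD3_c5)) :=
  Lgr Lrot100 (Lpr_af (f53634 IH) (Lpn (LP (LK LD1_c2 LD2_c28 LD3_c5))))
theorem f53661 : Led Lsl_bt (LP (LK LD1_c4 LD2_c7 LD3_c29)) = (LP (LK LD1_c4 LD2_c4 LD3_c61)) :=
  Lgr Lrot62 (Lpr_af (f53616 IH) (Lpe (f53619 IH) (Lpr_af (f53657 IH) (Lpe (f53643 IH) (Lpe (f53639 IH) (Lpn (LP (LK LD1_c4 LD2_c4 LD3_c61))))))))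
theorem f47462 : Led Lsl_dt (LP (LK LD1_c1 LD2_c59 LD3_c37)) = (LP (LK LD1_c4 LD2_c4 LD3_c61)) :=
  Lre_d IH (LK LD1_c1 LD2_c59 LD3_c37) (LK LD1_c4 LD2_c4 LD3_c61) Lrfl Lrfl
theorem f8088 : Led Lsl_et (LP (LK LD1_c2 LD2_c4 LD3_c55)) = (LP (LK LD1_c0 LD2_c59 LD3_c31)) :=
  Lre_e IH (LK LD1_c2 LD2_c4 LD3_c55) (LK LD1_c0 LD2_c59 LD3_c31) Lrfl Lrfl
theorem f47790 : Led Lsl_dt (LP (LK LD1_c4 LD2_c15 LD3_c3)) = (LP (LK LD1_c2 LD2_c4 LD3_c55)) :=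
  Lre_d IH (LK LD1_c4 LD2_c15 LD3_c3) (LK LD1_c2 LD2_c4 LD3_c55) Lrfl Lrfl
theorem f47791 : Led Lsl_et (LP (LK LD1_c4 LD2_c4 LD3_c61)) = (LP (LK LD1_c4 LD2_c15 LD3_c3)) :=
  Lgr Lrot71 (Lpe (f47462 IH) (Lpe (f47467 IH) (Lpr_df (K1.f47741 IH) (Lpe (f8088 IH) (Lpe (f47790 IH) (Lpn (LP (LK LD1_c4 LD2_c15 LD3_c3))))))))
theorem f54053 : Led Lsl_bf (LP (LK LD1_c2 LD2_c35 LD3_c13)) = (LP (LK LD1_c4 LD2_c15 LD3_c3)) :=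
  Lgr Lrot96 (Lpr_et (f54051 IH) (Lpr_bt (f53661 IH) (Lpr_et (f47791 IH) (Lpn (LP (LK LD1_c4 LD2_c15 LD3_c3))))))
theorem f32427 : Led Lsl_dt (LP (LK LD1_c2 LD2_c35 LD3_c13)) = (LP (LK LD1_c1 LD2_c14 LD3_c37)) :=
  Lre_d IH (LK LD1_c2 LD2_c35 LD3_c13) (LK LD1_c1 LD2_c14 LD3_c37) Lrfl Lrfl
theorem f8089 : Led Lsl_dt (LP (LK LD1_c2 LD2_c4 LD3_c55)) = (LP (LK LD1_c4 LD2_c15 LD3_c3)) :=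
  Lre_d IH (LK LD1_c2 LD2_c4 LD3_c55) (LK LD1_c4 LD2_c15 LD3_c3) Lrfl Lrfl
theorem f54063 : Led Lsl_bt (LP (LK LD1_c1 LD2_c14 LD3_c37)) = (LP (LK LD1_c2 LD2_c4 LD3_c55)) :=
  Lgr Lrot95 (Lpe (f32427 IH) (Lpr_bf (f54053 IH) (Lpe (f8089 IH) (Lpn (LP (LK LD1_c2 LD2_c4 LD3_c55))))))
theorem f32074 : Led Lsl_at (LP (LK LD1_c0 LD2_c34 LD3_c41)) = (LP (LK LD1_c1 LD2_c14 LD3_c37)) :=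
  Lre_a IH (LK LD1_c0 LD2_c34 LD3_c41) (LK LD1_c1 LD2_c14 LD3_c37) Lrfl Lrfl
theorem f28676 : Led Lsl_bt (LP (LK LD1_c1 LD2_c0 LD3_c54)) = (LP (LK LD1_c0 LD2_c27 LD3_c47)) :=
  Lre_b IH (LK LD1_c1 LD2_c0 LD3_c54) (LK LD1_c0 LD2_c27 LD3_c47) Lrfl Lrfl
theorem f54066 : Led Lsl_af (LP (LK LD1_c1 LD2_c0 LD3_c54)) = (LP (LK LD1_c2 LD2_c4 LD3_c55)) :=
  Lgr Lrot36 (Lpr_bt (f28676 IH) (Lpr_at (f32002 IH) (Lpe (K0.f32063 IH) (Lpr_at (f32074 IH) (Lpr_bt (f54063 IH) (Lpn (LP (LK LD1_c2 LD2_c4 LD3_c55))))))))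
theorem f54069 : Led Lsl_at (LP (LK LD1_c1 LD2_c0 LD3_c54)) = (LP (LK LD1_c2 LD2_c4 LD3_c55)) :=
  Lgr Lrot100 (Lpr_af (f54066 IH) (Lpn (LP (LK LD1_c2 LD2_c4 LD3_c55))))
theorem f54068 : Led Lsl_ct (LP (LK LD1_c2 LD2_c4 LD3_c55)) = (LP (LK LD1_c0 LD2_c59 LD3_c32)) :=
  Lre_c IH (LK LD1_c2 LD2_c4 LD3_c55) (LK LD1_c0 LD2_c59 LD3_c32) Lrfl Lrfl
theorem f54072 : Led Lsl_af (LP (LK LD1_c1 LD2_c1 LD3_c4)) = (LP (LK LD1_c0 LD2_c59 LD3_c32)) :=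
  Lgr Lrot68 (Lpe (K0.f28658 IH) (Lpr_at (f54069 IH) (Lpr_ct (f54068 IH) (Lpn (LP (LK LD1_c0 LD2_c59 LD3_c32))))))
theorem f28663 : Led Lsl_dt (LP (LK LD1_c1 LD2_c1 LD3_c4)) = (LP (LK LD1_c2 LD2_c7 LD3_c56)) :=
  Lre_d IH (LK LD1_c1 LD2_c1 LD3_c4) (LK LD1_c2 LD2_c7 LD3_c56) Lrfl Lrfl
theorem f54076 : Led Lsl_dt (LP (LK LD1_c2 LD2_c4 LD3_c56)) = (LP (LK LD1_c0 LD2_c59 LD3_c32)) :=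
  Lre_d IH (LK LD1_c2 LD2_c4 LD3_c56) (LK LD1_c0 LD2_c59 LD3_c32) Lrfl Lrfl
theorem f54271 : Led Lsl_at (LP (LK LD1_c2 LD2_c7 LD3_c56)) = (LP (LK LD1_c2 LD2_c4 LD3_c56)) :=
  Lgr Lrot51 (Lpe (f28663 IH) (Lpr_af (f54072 IH) (Lpe (f54076 IH) (Lpn (LP (LK LD1_c2 LD2_c4 LD3_c56))))))
theorem f182153 : Led Lsl_gt (LP (LK LD1_c2 LD2_c37 LD3_c44)) = (LP (LK LD1_c2 LD2_c4 LD3_c56)) :=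
  Lgr Lrot46 (Lpr_gf (f182095 IH) (Lpr_ft (f28688 IH) (Lpr_at (f54271 IH) (Lpn (LP (LK LD1_c2 LD2_c4 LD3_c56))))))
theorem f171992 : Led Lsl_dt (LP (LK LD1_c1 LD2_c15 LD3_c52)) = (LP (LK LD1_c2 LD2_c37 LD3_c44)) :=
  Lre_d IH (LK LD1_c1 LD2_c15 LD3_c52) (LK LD1_c2 LD2_c37 LD3_c44) Lrfl Lrfl
theorem f45740 : Led Lsl_dt (LP (LK LD1_c0 LD2_c59 LD3_c32)) = (LP (LK LD1_c2 LD2_c4 LD3_c56)) :=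
  Lre_d IH (LK LD1_c0 LD2_c59 LD3_c32) (LK LD1_c2 LD2_c4 LD3_c56) Lrfl Lrfl
theorem f45615 : Led Lsl_et (LP (LK LD1_c0 LD2_c59 LD3_c32)) = (LP (LK LD1_c0 LD2_c27 LD3_c6)) :=
  Lre_e IH (LK LD1_c0 LD2_c59 LD3_c32) (LK LD1_c0 LD2_c27 LD3_c6) Lrfl Lrfl
theorem f28156 : Led Lsl_et (LP (LK LD1_c0 LD2_c25 LD3_c9)) = (LP (LK LD1_c0 LD2_c55 LD3_c28)) :=
  Lre_e IH (LK LD1_c0 LD2_c25 LD3_c9) (LK LD1_c0 LD2_c55 LD3_c28) Lrfl Lrfl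
theorem f182167 : Led Lsl_gf (LP (LK LD1_c0 LD2_c35 LD3_c10)) = (LP (LK LD1_c0 LD2_c55 LD3_c28)) :=
  Lgr Lrot141 (Lpe (f171890 IH) (Lpr_dt (f171992 IH) (Lpr_gt (f182153 IH) (Lpe (f45740 IH) (Lpr_et (f45615 IH) (Lpr_gt (K1.f45726 IH) (Lpr_dt (K1.f29029 IH) (Lpr_gt (K1.f27909 IH) (Lpe (K1.f30841 IH) (Lpr_et (f28156 IH) (Lpn (LP (LK LD1_c0 LD2_c55 LD3_c28)))))))))))))
theorem f171759 : Led Lsl_bt (LP (LK LD1_c0 LD2_c16 LD3_c17)) = (LP (LK LD1_c0 LD2_c7 LD3_c18)) :=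
  Lre_b IH (LK LD1_c0 LD2_c16 LD3_c17) (LK LD1_c0 LD2_c7 LD3_c18) Lrfl Lrfl
theorem f50800 : Led Lsl_bt (LP (LK LD1_c0 LD2_c25 LD3_c11)) = (LP (LK LD1_c0 LD2_c55 LD3_c28)) :=
  Lre_b IH (LK LD1_c0 LD2_c25 LD3_c11) (LK LD1_c0 LD2_c55 LD3_c28) Lrfl Lrfl
theorem f52240 : Led Lsl_ct (LP (LK LD1_c0 LD2_c25 LD3_c11)) = (LP (LK LD1_c0 LD2_c11 LD3_c14)) :=
  Lre_c IH (LK LD1_c0 LD2_c25 LD3_c11) (LK LD1_c0 LD2_c11 LD3_c14) Lrfl Lrfl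
theorem f28566 : Led Lsl_gt (LP (LK LD1_c0 LD2_c25 LD3_c13)) = (LP (LK LD1_c0 LD2_c11 LD3_c14)) :=
  Lre_g IH (LK LD1_c0 LD2_c25 LD3_c13) (LK LD1_c0 LD2_c11 LD3_c14) Lrfl Lrfl
theorem f182174 : Led Lsl_ct (LP (LK LD1_c0 LD2_c16 LD3_c17)) = (LP (LK LD1_c0 LD2_c25 LD3_c13)) :=
  Lgr Lrot64 (Lpr_bt (f171759 IH) (Lpr_gf (f171755 IH) (Lpe (f40830 IH) (Lpr_ct (f167804 IH) (Lpe (f42157 IH) (Lpe (f171874 IH) (Lpr_gf (f182167 IH) (Lpe (f50800 IH) (Lpr_ct (f52240 IH) (Lpe (f28566 IH) (Lpn (LP (LK LD1_c0 LD2_c25 LD3_c13)))))))))))))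
theorem f27955 : Led Lsl_gt (LP (LK LD1_c0 LD2_c11 LD3_c25)) = (LP (LK LD1_c0 LD2_c25 LD3_c13)) :=
  Lre_g IH (LK LD1_c0 LD2_c11 LD3_c25) (LK LD1_c0 LD2_c25 LD3_c13) Lrfl Lrfl
theorem f1709 : Led Lsl_bt (LP (LK LD1_c0 LD2_c14 LD3_c0)) = (LP (LK LD1_c0 LD2_c6 LD3_c24)) :=
  Lre_b IH (LK LD1_c0 LD2_c14 LD3_c0) (LK LD1_c0 LD2_c6 LD3_c24) Lrfl Lrfl
theorem f1710 : Led Lsl_ct (LP (LK LD1_c0 LD2_c14 LD3_c0)) = (LP (LK LD1_c0 LD2_c31 LD3_c35)) :=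
  Lre_c IH (LK LD1_c0 LD2_c14 LD3_c0) (LK LD1_c0 LD2_c31 LD3_c35) Lrfl Lrfl
theorem f27948 : Led Lsl_bt (LP (LK LD1_c0 LD2_c11 LD3_c25)) = (LP (LK LD1_c0 LD2_c5 LD3_c28)) :=
  Lre_b IH (LK LD1_c0 LD2_c11 LD3_c25) (LK LD1_c0 LD2_c5 LD3_c28) Lrfl Lrfl
theorem f180241 : Led Lsl_gt (LP (LK LD1_c0 LD2_c31 LD3_c35)) = (LP (LK LD1_c0 LD2_c25 LD3_c32)) :=
  Lgr Lrot65 (Lpe (f1710 IH) (Lpr_bt (f1709 IH) (Lpe (f263 IH) (Lpr_bf (K0.f1697 IH) (Lpr_ct (K0.f253 IH) (Lpe (f179726 IH) (Lpe (f8002 IH) (Lpr_gf (f180235 IH) (Lpe (f27948 IH) (Lpr_ct (K1.f27950 IH) (Lpn (LP (LK LD1_c0 LD2_c25 LD3_c32)))))))))))))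
theorem f170653 : Led Lsl_ft (LP (LK LD1_c0 LD2_c26 LD3_c24)) = (LP (LK LD1_c0 LD2_c58 LD3_c10)) :=
  Lre_f IH (LK LD1_c0 LD2_c26 LD3_c24) (LK LD1_c0 LD2_c58 LD3_c10) Lrfl Lrfl
theorem f170654 : Led Lsl_ft (LP (LK LD1_c0 LD2_c31 LD3_c40)) = (LP (LK LD1_c0 LD2_c14 LD3_c2)) :=
  Lre_f IH (LK LD1_c0 LD2_c31 LD3_c40) (LK LD1_c0 LD2_c14 LD3_c2) Lrfl Lrfl
theorem f170655 : Led Lsl_ct (LP (LK LD1_c0 LD2_c58 LD3_c10)) = (LP (LK LD1_c0 LD2_c31 LD3_c40)) :=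
  Lgr Lrot40 (Lpe (f170653 IH) (Lpr_cf (f170611 IH) (Lpe (f170654 IH) (Lpn (LP (LK LD1_c0 LD2_c31 LD3_c40))))))
theorem f170667 : Led Lsl_cf (LP (LK LD1_c0 LD2_c58 LD3_c10)) = (LP (LK LD1_c0 LD2_c31 LD3_c40)) :=
  Lgr Lrot11 (Lpr_ct (f170655 IH) (Lpn (LP (LK LD1_c0 LD2_c31 LD3_c40))))
theorem f170669 : Led Lsl_bt (LP (LK LD1_c0 LD2_c58 LD3_c10)) = (LP (LK LD1_c2 LD2_c2 LD3_c24)) :=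
  Lre_b IH (LK LD1_c0 LD2_c58 LD3_c10) (LK LD1_c2 LD2_c2 LD3_c24) Lrfl Lrfl
theorem f170671 : Led Lsl_ct (LP (LK LD1_c2 LD2_c2 LD3_c24)) = (LP (LK LD1_c4 LD2_c10 LD3_c10)) :=
  Lre_c IH (LK LD1_c2 LD2_c2 LD3_c24) (LK LD1_c4 LD2_c10 LD3_c10) Lrfl Lrfl
theorem f170672 : Led Lsl_bt (LP (LK LD1_c1 LD2_c9 LD3_c9)) = (LP (LK LD1_c0 LD2_c31 LD3_c40)) :=
  Lre_b IH (LK LD1_c1 LD2_c9 LD3_c9) (LK LD1_c0 LD2_c31 LD3_c40) Lrfl Lrfl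
theorem f170673 : Led Lsl_ct (LP (LK LD1_c2 LD2_c24 LD3_c10)) = (LP (LK LD1_c1 LD2_c9 LD3_c9)) :=
  Lre_c IH (LK LD1_c2 LD2_c24 LD3_c10) (LK LD1_c1 LD2_c9 LD3_c9) Lrfl Lrfl
theorem f170674 : Led Lsl_bt (LP (LK LD1_c4 LD2_c10 LD3_c10)) = (LP (LK LD1_c2 LD2_c24 LD3_c10)) :=
  Lgr Lrot128 (Lpe (f170671 IH) (Lpe (f170669 IH) (Lpr_cf (f170667 IH) (Lpe (f170672 IH) (Lpe (f170673 IH) (Lpn (LP (LK LD1_c2 LD2_c24 LD3_c10))))))))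
theorem f170678 : Led Lsl_ft (LP (LK LD1_c2 LD2_c2 LD3_c17)) = (LP (LK LD1_c4 LD2_c10 LD3_c10)) :=
  Lre_f IH (LK LD1_c2 LD2_c2 LD3_c17) (LK LD1_c4 LD2_c10 LD3_c10) Lrfl Lrfl
theorem f170679 : Led Lsl_ft (LP (LK LD1_c2 LD2_c24 LD3_c10)) = (LP (LK LD1_c1 LD2_c9 LD3_c6)) :=
  Lre_f IH (LK LD1_c2 LD2_c24 LD3_c10) (LK LD1_c1 LD2_c9 LD3_c6) Lrfl Lrfl
theorem f170680 : Led Lsl_bf (LP (LK LD1_c2 LD2_c2 LD3_c17)) = (LP (LK LD1_c1 LD2_c9 LD3_c6)) :=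
  Lgr Lrot61 (Lpr_ft (f170678 IH) (Lpr_bt (f170674 IH) (Lpr_ft (f170679 IH) (Lpn (LP (LK LD1_c1 LD2_c9 LD3_c6))))))
theorem f170686 : Led Lsl_et (LP (LK LD1_c2 LD2_c2 LD3_c17)) = (LP (LK LD1_c0 LD2_c58 LD3_c3)) :=
  Lre_e IH (LK LD1_c2 LD2_c2 LD3_c17) (LK LD1_c0 LD2_c58 LD3_c3) Lrfl Lrfl
theorem f170687 : Led Lsl_et (LP (LK LD1_c0 LD2_c31 LD3_c35)) = (LP (LK LD1_c1 LD2_c9 LD3_c6)) :=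
  Lre_e IH (LK LD1_c0 LD2_c31 LD3_c35) (LK LD1_c1 LD2_c9 LD3_c6) Lrfl Lrfl
theorem f170688 : Led Lsl_bt (LP (LK LD1_c0 LD2_c58 LD3_c3)) = (LP (LK LD1_c0 LD2_c31 LD3_c35)) :=
  Lgr Lrot119 (Lpe (f170686 IH) (Lpr_bf (f170680 IH) (Lpe (f170687 IH) (Lpn (LP (LK LD1_c0 LD2_c31 LD3_c35))))))
theorem f53444 : Led Lsl_ct (LP (LK LD1_c0 LD2_c58 LD3_c3)) = (LP (LK LD1_c0 LD2_c26 LD3_c22)) :=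
  Lre_c IH (LK LD1_c0 LD2_c58 LD3_c3) (LK LD1_c0 LD2_c26 LD3_c22) Lrfl Lrfl
theorem f182191 : Led Lsl_gt (LP (LK LD1_c0 LD2_c35 LD3_c3)) = (LP (LK LD1_c0 LD2_c26 LD3_c22)) :=
  Lgr Lrot65 (Lpr_cf (f42718 IH) (Lpr_bt (f41251 IH) (Lpe (f171200 IH) (Lpe (f171759 IH) (Lpr_ct (f182174 IH) (Lpe (f27955 IH) (Lpe (K1.f27949 IH) (Lpe (f180241 IH) (Lpe (f170688 IH) (Lpr_ct (f53444 IH) (Lpn (LP (LK LD1_c0 LD2_c26 LD3_c22)))))))))))))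
theorem f42722 : Led Lsl_ct (LP (LK LD1_c0 LD2_c24 LD3_c33)) = (LP (LK LD1_c0 LD2_c10 LD3_c57)) :=
  Lre_c IH (LK LD1_c0 LD2_c24 LD3_c33) (LK LD1_c0 LD2_c10 LD3_c57) Lrfl Lrfl
theorem f168348 : Led Lsl_ct (LP (LK LD1_c0 LD2_c32 LD3_c34)) = (LP (LK LD1_c0 LD2_c14 LD3_c36)) :=
  Lre_c IH (LK LD1_c0 LD2_c32 LD3_c34) (LK LD1_c0 LD2_c14 LD3_c36) Lrfl Lrfl
theorem f170615 : Led Lsl_bt (LP (LK LD1_c0 LD2_c11 LD3_c43)) = (LP (LK LD1_c0 LD2_c26 LD3_c22)) :=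
  Lre_b IH (LK LD1_c0 LD2_c11 LD3_c43) (LK LD1_c0 LD2_c26 LD3_c22) Lrfl Lrfl
theorem f182200 : Led Lsl_gf (LP (LK LD1_c0 LD2_c32 LD3_c34)) = (LP (LK LD1_c0 LD2_c31 LD3_c52)) :=
  Lgr Lrot181 (Lpr_ct (f168348 IH) (Lpr_gt (f174986 IH) (Lpe (f42722 IH) (Lpe (f42743 IH) (Lpr_gt (f182191 IH) (Lpe (f170615 IH) (Lpr_ct (f170594 IH) (Lpr_gt (f2159 IH) (Lpe (K0.f2141 IH) (Lpr_bt (K1.f2147 IH) (Lpn (LP (LK LD1_c0 LD2_c31 LD3_c52)))))))))))))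
theorem f167852 : Led Lsl_ct (LP (LK LD1_c0 LD2_c14 LD3_c36)) = (LP (LK LD1_c0 LD2_c32 LD3_c34)) :=
  Lre_c IH (LK LD1_c0 LD2_c14 LD3_c36) (LK LD1_c0 LD2_c32 LD3_c34) Lrfl Lrfl
theorem f167851 : Led Lsl_bt (LP (LK LD1_c0 LD2_c14 LD3_c36)) = (LP (LK LD1_c0 LD2_c6 LD3_c42)) :=
  Lre_b IH (LK LD1_c0 LD2_c14 LD3_c36) (LK LD1_c0 LD2_c6 LD3_c42) Lrfl Lrfl
theorem f174983 : Led Lsl_bt (LP (LK LD1_c0 LD2_c6 LD3_c41)) = (LP (LK LD1_c0 LD2_c14 LD3_c33)) :=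
  Lre_b IH (LK LD1_c0 LD2_c6 LD3_c41) (LK LD1_c0 LD2_c14 LD3_c33) Lrfl Lrfl
theorem f182320 : Led Lsl_gt (LP (LK LD1_c0 LD2_c14 LD3_c33)) = (LP (LK LD1_c0 LD2_c24 LD3_c60)) :=
  Lgr Lrot82 (Lpe (f174983 IH) (Lpr_ct (f174961 IH) (Lpe (K0.f7709 IH) (Lpe (f7879 IH) (Lpr_bt (f40776 IH) (Lpe (f7022 IH) (Lpe (f167851 IH) (Lpr_ct (f167852 IH) (Lpr_gf (f182200 IH) (Lpr_cf (K0.f6926 IH) (Lpn (LP (LK LD1_c0 LD2_c24 LD3_c60)))))))))))))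
theorem f29209 : Led Lsl_ft (LP (LK LD1_c0 LD2_c11 LD3_c9)) = (LP (LK LD1_c0 LD2_c25 LD3_c4)) :=
  Lre_f IH (LK LD1_c0 LD2_c11 LD3_c9) (LK LD1_c0 LD2_c25 LD3_c4) Lrfl Lrfl
theorem f29598 : Led Lsl_af (LP (LK LD1_c0 LD2_c24 LD3_c60)) = (LP (LK LD1_c0 LD2_c25 LD3_c4)) :=
  Lgr Lrot109 (Lpe (K0.f6935 IH) (Lpe (K0.f2411 IH) (Lpe (K1.f2746 IH) (Lpr_df (K1.f29584 IH) (Lpe (K1.f29583 IH) (Lpe (K1.f29572 IH) (Lpe (K1.f29296 IH) (Lpe (K1.f28787 IH) (Lpr_ft (f29209 IH) (Lpn (LP (LK LD1_c0 LD2_c25 LD3_c4))))))))))))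
theorem f182322 : Led Lsl_gf (LP (LK LD1_c0 LD2_c14 LD3_c33)) = (LP (LK LD1_c0 LD2_c11 LD3_c9)) :=
  Lgr Lrot47 (Lpr_gt (f182320 IH) (Lpr_af (f29598 IH) (Lpe (f29209 IH) (Lpn (LP (LK LD1_c0 LD2_c11 LD3_c9))))))
theorem f182330 : Led Lsl_et (LP (LK LD1_c0 LD2_c32 LD3_c29)) = (LP (LK LD1_c0 LD2_c14 LD3_c33)) :=
  Lre_e IH (LK LD1_c0 LD2_c32 LD3_c29) (LK LD1_c0 LD2_c14 LD3_c33) Lrfl Lrfl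
theorem f28563 : Led Lsl_et (LP (LK LD1_c0 LD2_c5 LD3_c12)) = (LP (LK LD1_c0 LD2_c11 LD3_c9)) :=
  Lre_e IH (LK LD1_c0 LD2_c5 LD3_c12) (LK LD1_c0 LD2_c11 LD3_c9) Lrfl Lrfl
theorem f27940 : Led Lsl_gt (LP (LK LD1_c0 LD2_c55 LD3_c43)) = (LP (LK LD1_c0 LD2_c25 LD3_c17)) :=
  Lre_g IH (LK LD1_c0 LD2_c55 LD3_c43) (LK LD1_c0 LD2_c25 LD3_c17) Lrfl Lrfl
theorem f182354 : Led Lsl_dt (LP (LK LD1_c0 LD2_c32 LD3_c29)) = (LP (LK LD1_c0 LD2_c55 LD3_c43)) :=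
  Lgr Lrot136 (Lpr_et (f182330 IH) (Lpr_gf (f182322 IH) (Lpe (f28563 IH) (Lpr_dt (K0.f27809 IH) (Lpe (K0.f28555 IH) (Lpe (K0.f27914 IH) (Lpr_gf (K0.f27935 IH) (Lpe (K0.f27938 IH) (Lpr_dt (K0.f27939 IH) (Lpe (f27940 IH) (Lpn (LP (LK LD1_c0 LD2_c55 LD3_c43)))))))))))))
theorem f175047 : Led Lsl_bt (LP (LK LD1_c0 LD2_c14 LD3_c35)) = (LP (LK LD1_c0 LD2_c32 LD3_c29)) :=
  Lre_b IH (LK LD1_c0 LD2_c14 LD3_c35) (LK LD1_c0 LD2_c32 LD3_c29) Lrfl Lrfl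
theorem f179844 : Led Lsl_et (LP (LK LD1_c0 LD2_c27 LD3_c37)) = (LP (LK LD1_c0 LD2_c12 LD3_c12)) :=
  Lre_e IH (LK LD1_c0 LD2_c27 LD3_c37) (LK LD1_c0 LD2_c12 LD3_c12) Lrfl Lrfl
theorem f179845 : Led Lsl_dt (LP (LK LD1_c0 LD2_c27 LD3_c37)) = (LP (LK LD1_c1 LD2_c0 LD3_c42)) :=
  Lre_d IH (LK LD1_c0 LD2_c27 LD3_c37) (LK LD1_c1 LD2_c0 LD3_c42) Lrfl Lrfl
theorem f167837 : Led Lsl_dt (LP (LK LD1_c0 LD2_c12 LD3_c43)) = (LP (LK LD1_c0 LD2_c28 LD3_c47)) :=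
  Lre_d IH (LK LD1_c0 LD2_c12 LD3_c43) (LK LD1_c0 LD2_c28 LD3_c47) Lrfl Lrfl
theorem f179849 : Led Lsl_gf (LP (LK LD1_c1 LD2_c0 LD3_c42)) = (LP (LK LD1_c0 LD2_c28 LD3_c47)) :=
  Lgr Lrot134 (Lpe (f179845 IH) (Lpr_et (f179844 IH) (Lpr_gt (f179726 IH) (Lpe (f1528 IH) (Lpe (K0.f1669 IH) (Lpr_gt (f27288 IH) (Lpe (K0.f28219 IH) (Lpr_et (f28223 IH) (Lpr_gt (f167832 IH) (Lpr_dt (f167837 IH) (Lpn (LP (LK LD1_c0 LD2_c28 LD3_c47)))))))))))))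
theorem f179852 : Led Lsl_dt (LP (LK LD1_c1 LD2_c0 LD3_c42)) = (LP (LK LD1_c0 LD2_c27 LD3_c37)) :=
  Lre_d IH (LK LD1_c1 LD2_c0 LD3_c42) (LK LD1_c0 LD2_c27 LD3_c37) Lrfl Lrfl
theorem f179854 : Led Lsl_gf (LP (LK LD1_c0 LD2_c27 LD3_c40)) = (LP (LK LD1_c0 LD2_c14 LD3_c34)) :=
  Lgr Lrot143 (Lpr_dt (f170303 IH) (Lpe (f170304 IH) (Lpe (f179852 IH) (Lpr_gf (f179849 IH) (Lpe (f167837 IH) (Lpe (f167832 IH) (Lpe (K1.f40853 IH) (Lpr_gt (f7029 IH) (Lpr_dt (f7030 IH) (Lpn (LP (LK LD1_c0 LD2_c14 LD3_c34))))))))))))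
theorem f8016 : Led Lsl_et (LP (LK LD1_c0 LD2_c12 LD3_c9)) = (LP (LK LD1_c0 LD2_c27 LD3_c28)) :=
  Lre_e IH (LK LD1_c0 LD2_c12 LD3_c9) (LK LD1_c0 LD2_c27 LD3_c28) Lrfl Lrfl
theorem f175070 : Led Lsl_et (LP (LK LD1_c0 LD2_c6 LD3_c41)) = (LP (LK LD1_c0 LD2_c14 LD3_c35)) :=
  Lre_e IH (LK LD1_c0 LD2_c6 LD3_c41) (LK LD1_c0 LD2_c14 LD3_c35) Lrfl Lrfl
theorem f179879 : Led Lsl_gt (LP (LK LD1_c0 LD2_c27 LD3_c28)) = (LP (LK LD1_c0 LD2_c14 LD3_c35)) :=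
  Lgr Lrot131 (Lpe (f8016 IH) (Lpr_dt (f8015 IH) (Lpe (f6791 IH) (Lpe (K0.f7992 IH) (Lpe (f6771 IH) (Lpe (f6772 IH) (Lpr_dt (f6773 IH) (Lpr_gf (f179854 IH) (Lpe (f7030 IH) (Lpr_et (f175070 IH) (Lpn (LP (LK LD1_c0 LD2_c14 LD3_c35)))))))))))))
theorem f179867 : Led Lsl_ct (LP (LK LD1_c0 LD2_c27 LD3_c28)) = (LP (LK LD1_c1 LD2_c0 LD3_c28)) :=
  Lre_c IH (LK LD1_c0 LD2_c27 LD3_c28) (LK LD1_c1 LD2_c0 LD3_c28) Lrfl Lrfl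
theorem f261 : Led Lsl_ft (LP (LK LD1_c0 LD2_c13 LD3_c60)) = (LP (LK LD1_c0 LD2_c31 LD3_c34)) :=
  Lre_f IH (LK LD1_c0 LD2_c13 LD3_c60) (LK LD1_c0 LD2_c31 LD3_c34) Lrfl Lrfl
theorem f2181 : Led Lsl_at (LP (LK LD1_c0 LD2_c31 LD3_c34)) = (LP (LK LD1_c0 LD2_c31 LD3_c56)) :=
  Lgr Lrot33 (Lpe (f261 IH) (Lpr_dt (f250 IH) (Lpr_ct (f249 IH) (Lpr_dt (K0.f244 IH) (Lpr_ct (K0.f253 IH) (Lpr_dt (K0.f254 IH) (Lpr_ct (K0.f255 IH) (Lpr_dt (K0.f256 IH) (Lpr_ct (K0.f2162 IH) (Lpn (LP (LK LD1_c0 LD2_c31 LD3_c56))))))))))))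
theorem f2872 : Led Lsl_gt (LP (LK LD1_c0 LD2_c31 LD3_c31)) = (LP (LK LD1_c0 LD2_c31 LD3_c56)) :=
  Lgr Lrot46 (Lpe (f2798 IH) (Lpr_ft (f261 IH) (Lpr_at (f2181 IH) (Lpn (LP (LK LD1_c0 LD2_c31 LD3_c56))))))
theorem f179019 : Led Lsl_dt (LP (LK LD1_c0 LD2_c27 LD3_c27)) = (LP (LK LD1_c0 LD2_c31 LD3_c31)) :=
  Lgr Lrot57 (Lpr_gf (f179017 IH) (Lpe (f21242 IH) (Lpe (f178973 IH) (Lpr_dt (f277 IH) (Lpr_gt (f2159 IH) (Lpe (K0.f2155 IH) (Lpe (K0.f2141 IH) (Lpe (K0.f2161 IH) (Lpe (f2872 IH) (Lpn (LP (LK LD1_c0 LD2_c31 LD3_c31))))))))))))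
theorem f179846 : Led Lsl_et (LP (LK LD1_c0 LD2_c27 LD3_c27)) = (LP (LK LD1_c1 LD2_c0 LD3_c28)) :=
  Lre_e IH (LK LD1_c0 LD2_c27 LD3_c27) (LK LD1_c1 LD2_c0 LD3_c28) Lrfl Lrfl
theorem f167865 : Led Lsl_et (LP (LK LD1_c0 LD2_c12 LD3_c43)) = (LP (LK LD1_c0 LD2_c28 LD3_c48)) :=
  Lre_e IH (LK LD1_c0 LD2_c12 LD3_c43) (LK LD1_c0 LD2_c28 LD3_c48) Lrfl Lrfl
theorem f179863 : Led Lsl_gt (LP (LK LD1_c1 LD2_c0 LD3_c28)) = (LP (LK LD1_c0 LD2_c28 LD3_c48)) :=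
  Lgr Lrot131 (Lpe (f179846 IH) (Lpr_dt (f179019 IH) (Lpe (f2798 IH) (Lpe (K0.f254 IH) (Lpe (f179726 IH) (Lpe (f179844 IH) (Lpr_dt (f179845 IH) (Lpr_gf (f179849 IH) (Lpe (f167837 IH) (Lpr_et (f167865 IH) (Lpn (LP (LK LD1_c0 LD2_c28 LD3_c48)))))))))))))
theorem f56518 : Led Lsl_gt (LP (LK LD1_c0 LD2_c25 LD3_c55)) = (LP (LK LD1_c0 LD2_c11 LD3_c31)) :=
  Lre_g IH (LK LD1_c0 LD2_c25 LD3_c55) (LK LD1_c0 LD2_c11 LD3_c31) Lrfl Lrfl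
theorem f179881 : Led Lsl_df (LP (LK LD1_c0 LD2_c25 LD3_c55)) = (LP (LK LD1_c0 LD2_c14 LD3_c35)) :=
  Lgr Lrot153 (Lpr_gt (f56518 IH) (Lpr_dt (K1.f55379 IH) (Lpe (K1.f47049 IH) (Lpe (K2.f55329 IH) (Lpe (f28226 IH) (Lpr_df (f167859 IH) (Lpe (f179863 IH) (Lpe (f179867 IH) (Lpr_gt (f179879 IH) (Lpn (LP (LK LD1_c0 LD2_c14 LD3_c35))))))))))))
theorem f179889 : Led Lsl_dt (LP (LK LD1_c0 LD2_c25 LD3_c55)) = (LP (LK LD1_c0 LD2_c14 LD3_c35)) :=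
  Lgr Lrot42 (Lpr_df (f179881 IH) (Lpn (LP (LK LD1_c0 LD2_c14 LD3_c35))))
theorem f182356 : Led Lsl_bf (LP (LK LD1_c0 LD2_c25 LD3_c55)) = (LP (LK LD1_c0 LD2_c55 LD3_c43)) :=
  Lgr Lrot93 (Lpr_dt (f179889 IH) (Lpr_bt (f175047 IH) (Lpr_dt (f182354 IH) (Lpn (LP (LK LD1_c0 LD2_c55 LD3_c43))))))
theorem f182358 : Led Lsl_ct (LP (LK LD1_c0 LD2_c55 LD3_c43)) = (LP (LK LD1_c1 LD2_c57 LD3_c40)) :=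
  Lre_c IH (LK LD1_c0 LD2_c55 LD3_c43) (LK LD1_c1 LD2_c57 LD3_c40) Lrfl Lrfl
theorem f182449 : Led Lsl_gt (LP (LK LD1_c2 LD2_c4 LD3_c7)) = (LP (LK LD1_c1 LD2_c57 LD3_c40)) :=
  Lgr Lrot65 (Lpe (K1.f27864 IH) (Lpr_bt (f55931 IH) (Lpe (K0.f9082 IH) (Lpr_bf (f177809 IH) (Lpr_ct (f20589 IH) (Lpe (f169087 IH) (Lpe (f55631 IH) (Lpe (f56518 IH) (Lpr_bf (f182356 IH) (Lpr_ct (f182358 IH) (Lpn (LP (LK LD1_c1 LD2_c57 LD3_c40)))))))))))))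
theorem f182451 : Led Lsl_gf (LP (LK LD1_c0 LD2_c56 LD3_c41)) = (LP (LK LD1_c1 LD2_c57 LD3_c40)) :=
  Lgr Lrot76 (Lpr_af (K1.f46604 IH) (Lpe (K1.f46603 IH) (Lpr_gt (f182449 IH) (Lpn (LP (LK LD1_c1 LD2_c57 LD3_c40))))))
theorem f47074 : Led Lsl_bt (LP (LK LD1_c0 LD2_c25 LD3_c41)) = (LP (LK LD1_c0 LD2_c11 LD3_c31)) :=
  Lre_b IH (LK LD1_c0 LD2_c25 LD3_c41) (LK LD1_c0 LD2_c11 LD3_c31) Lrfl Lrfl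
theorem f8452 : Led Lsl_ct (LP (LK LD1_c0 LD2_c17 LD3_c48)) = (LP (LK LD1_c0 LD2_c39 LD3_c42)) :=
  Lre_c IH (LK LD1_c0 LD2_c17 LD3_c48) (LK LD1_c0 LD2_c39 LD3_c42) Lrfl Lrfl
theorem f182463 : Led Lsl_gt (LP (LK LD1_c0 LD2_c26 LD3_c11)) = (LP (LK LD1_c0 LD2_c25 LD3_c55)) :=
  Lgr Lrot164 (Lpr_bf (K1.f55928 IH) (Lpr_ct (f8452 IH) (Lpe (f168212 IH) (Lpe (f56524 IH) (Lpe (f28346 IH) (Lpe (f47074 IH) (Lpr_ct (K1.f46590 IH) (Lpr_gf (f182451 IH) (Lpe (f182358 IH) (Lpe (f182356 IH) (Lpn (LP (LK LD1_c0 LD2_c25 LD3_c55)))))))))))))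
theorem f56520 : Led Lsl_bt (LP (LK LD1_c0 LD2_c25 LD3_c54)) = (LP (LK LD1_c0 LD2_c57 LD3_c2)) :=
  Lre_b IH (LK LD1_c0 LD2_c25 LD3_c54) (LK LD1_c0 LD2_c57 LD3_c2) Lrfl Lrfl
theorem f56559 : Led Lsl_dt (LP (LK LD1_c0 LD2_c32 LD3_c35)) = (LP (LK LD1_c0 LD2_c14 LD3_c36)) :=
  Lre_d IH (LK LD1_c0 LD2_c32 LD3_c35) (LK LD1_c0 LD2_c14 LD3_c36) Lrfl Lrfl
theorem f56531 : Led Lsl_bt (LP (LK LD1_c0 LD2_c57 LD3_c2)) = (LP (LK LD1_c0 LD2_c25 LD3_c54)) :=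
  Lre_b IH (LK LD1_c0 LD2_c57 LD3_c2) (LK LD1_c0 LD2_c25 LD3_c54) Lrfl Lrfl
theorem f56532 : Led Lsl_bt (LP (LK LD1_c0 LD2_c14 LD3_c37)) = (LP (LK LD1_c0 LD2_c32 LD3_c35)) :=
  Lre_b IH (LK LD1_c0 LD2_c14 LD3_c37) (LK LD1_c0 LD2_c32 LD3_c35) Lrfl Lrfl
theorem f56533 : Led Lsl_ef (LP (LK LD1_c0 LD2_c57 LD3_c2)) = (LP (LK LD1_c0 LD2_c32 LD3_c35)) :=
  Lgr Lrot29 (Lpr_bt (f56531 IH) (Lpr_et (f56529 IH) (Lpr_bt (f56532 IH) (Lpn (LP (LK LD1_c0 LD2_c32 LD3_c35))))))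
theorem f35596 : Led Lsl_et (LP (LK LD1_c0 LD2_c24 LD3_c35)) = (LP (LK LD1_c0 LD2_c10 LD3_c59)) :=
  Lre_e IH (LK LD1_c0 LD2_c24 LD3_c35) (LK LD1_c0 LD2_c10 LD3_c59) Lrfl Lrfl
theorem f174996 : Led Lsl_gf (LP (LK LD1_c0 LD2_c57 LD3_c2)) = (LP (LK LD1_c0 LD2_c26 LD3_c54)) :=
  Lgr Lrot141 (Lpr_ef (f56533 IH) (Lpr_dt (f56559 IH) (Lpr_gt (f174986 IH) (Lpe (K1.f35597 IH) (Lpr_et (f35596 IH) (Lpr_gt (K1.f28523 IH) (Lpe (K1.f35574 IH) (Lpr_gt (K0.f35424 IH) (Lpe (K1.f13642 IH) (Lpe (K1.f56062 IH) (Lpn (LP (LK LD1_c0 LD2_c26 LD3_c54)))))))))))))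
theorem f56058 : Led Lsl_bf (LP (LK LD1_c0 LD2_c26 LD3_c54)) = (LP (LK LD1_c0 LD2_c13 LD3_c13)) :=
  Lgr Lrot96 (Lpr_et (K1.f56056 IH) (Lpr_bt (K1.f21214 IH) (Lpr_et (f8414 IH) (Lpn (LP (LK LD1_c0 LD2_c13 LD3_c13))))))
theorem f179885 : Led Lsl_ct (LP (LK LD1_c0 LD2_c25 LD3_c55)) = (LP (LK LD1_c0 LD2_c57 LD3_c4)) :=
  Lre_c IH (LK LD1_c0 LD2_c25 LD3_c55) (LK LD1_c0 LD2_c57 LD3_c4) Lrfl Lrfl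
theorem f182468 : Led Lsl_gf (LP (LK LD1_c0 LD2_c29 LD3_c55)) = (LP (LK LD1_c0 LD2_c57 LD3_c4)) :=
  Lgr Lrot129 (Lpe (K0.f8392 IH) (Lpe (f56058 IH) (Lpe (f174996 IH) (Lpe (f56520 IH) (Lpr_ct (f56524 IH) (Lpr_gt (f168212 IH) (Lpe (f8452 IH) (Lpe (K1.f55928 IH) (Lpr_gt (f182463 IH) (Lpr_ct (f179885 IH) (Lpn (LP (LK LD1_c0 LD2_c57 LD3_c4)))))))))))))
theorem f8403 : Led Lsl_ct (LP (LK LD1_c0 LD2_c29 LD3_c55)) = (LP (LK LD1_c0 LD2_c13 LD3_c13)) :=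
  Lre_c IH (LK LD1_c0 LD2_c29 LD3_c55) (LK LD1_c0 LD2_c13 LD3_c13) Lrfl Lrfl
theorem f8472 : Led Lsl_gt (LP (LK LD1_c0 LD2_c15 LD3_c53)) = (LP (LK LD1_c0 LD2_c7 LD3_c9)) :=
  Lre_g IH (LK LD1_c0 LD2_c15 LD3_c53) (LK LD1_c0 LD2_c7 LD3_c9) Lrfl Lrfl
theorem f182477 : Led Lsl_cf (LP (LK LD1_c0 LD2_c15 LD3_c53)) = (LP (LK LD1_c0 LD2_c11 LD3_c30)) :=
  Lgr Lrot169 (Lpr_gt (f8472 IH) (Lpe (K0.f8433 IH) (Lpe (K0.f8383 IH) (Lpe (f8403 IH) (Lpr_gf (f182468 IH) (Lpe (f179885 IH) (Lpe (f182463 IH) (Lpe (K2.f47925 IH) (Lpr_gt (f55622 IH) (Lpn (LP (LK LD1_c0 LD2_c11 LD3_c30))))))))))))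
theorem f182486 : Led Lsl_ct (LP (LK LD1_c0 LD2_c15 LD3_c53)) = (LP (LK LD1_c0 LD2_c11 LD3_c30)) :=
  Lgr Lrot59 (Lpr_cf (f182477 IH) (Lpn (LP (LK LD1_c0 LD2_c11 LD3_c30))))
theorem f22118 : Led Lsl_gt (LP (LK LD1_c0 LD2_c7 LD3_c32)) = (LP (LK LD1_c0 LD2_c16 LD3_c54)) :=
  Lre_g IH (LK LD1_c0 LD2_c7 LD3_c32) (LK LD1_c0 LD2_c16 LD3_c54) Lrfl Lrfl
theorem f22120 : Led Lsl_ef (LP (LK LD1_c0 LD2_c16 LD3_c54)) = (LP (LK LD1_c0 LD2_c15 LD3_c0)) :=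
  Lgr Lrot17 (Lpe (f22118 IH) (Lpe (K6.f21200 IH) (Lpr_dt (K1.f20891 IH) (Lpe (K0.f7137 IH) (Lpe (K0.f8314 IH) (Lpe (K0.f8313 IH) (Lpr_ef (K7.f21224 IH) (Lpr_dt (K8.f3120 IH) (Lpe (f3144 IH) (Lpe (f22119 IH) (Lpn (LP (LK LD1_c0 LD2_c15 LD3_c0)))))))))))))
theorem f22129 : Led Lsl_et (LP (LK LD1_c0 LD2_c16 LD3_c54)) = (LP (LK LD1_c0 LD2_c15 LD3_c0)) :=
  Lgr Lrot87 (Lpr_ef (f22120 IH) (Lpn (LP (LK LD1_c0 LD2_c15 LD3_c0))))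
theorem f176832 : Led Lsl_gt (LP (LK LD1_c0 LD2_c16 LD3_c29)) = (LP (LK LD1_c0 LD2_c36 LD3_c56)) :=
  Lre_g IH (LK LD1_c0 LD2_c16 LD3_c29) (LK LD1_c0 LD2_c36 LD3_c56) Lrfl Lrfl
theorem f176905 : Led Lsl_dt (LP (LK LD1_c0 LD2_c16 LD3_c54)) = (LP (LK LD1_c0 LD2_c36 LD3_c56)) :=
  Lgr Lrot56 (Lpr_et (f22129 IH) (Lpe (f165845 IH) (Lpr_ef (f164676 IH) (Lpr_dt (f22411 IH) (Lpr_gt (f22412 IH) (Lpr_df (f176895 IH) (Lpe (f176890 IH) (Lpr_gt (f22417 IH) (Lpr_dt (f9496 IH) (Lpr_gt (f176832 IH) (Lpn (LP (LK LD1_c0 LD2_c36 LD3_c56)))))))))))))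
theorem f22127 : Led Lsl_et (LP (LK LD1_c0 LD2_c15 LD3_c1)) = (LP (LK LD1_c0 LD2_c6 LD3_c52)) :=
  Lre_e IH (LK LD1_c0 LD2_c15 LD3_c1) (LK LD1_c0 LD2_c6 LD3_c52) Lrfl Lrfl
theorem f22128 : Led Lsl_dt (LP (LK LD1_c0 LD2_c33 LD3_c28)) = (LP (LK LD1_c0 LD2_c15 LD3_c1)) :=
  Lre_d IH (LK LD1_c0 LD2_c33 LD3_c28) (LK LD1_c0 LD2_c15 LD3_c1) Lrfl Lrfl
theorem f176909 : Led Lsl_ef (LP (LK LD1_c0 LD2_c33 LD3_c28)) = (LP (LK LD1_c0 LD2_c36 LD3_c56)) :=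
  Lgr Lrot73 (Lpr_dt (f22128 IH) (Lpr_et (f22127 IH) (Lpr_dt (f22126 IH) (Lpe (f22120 IH) (Lpr_dt (f176905 IH) (Lpn (LP (LK LD1_c0 LD2_c36 LD3_c56))))))))
theorem f176907 : Led Lsl_df (LP (LK LD1_c0 LD2_c16 LD3_c54)) = (LP (LK LD1_c0 LD2_c36 LD3_c56)) :=
  Lgr Lrot38 (Lpr_dt (f176905 IH) (Lpn (LP (LK LD1_c0 LD2_c36 LD3_c56))))
theorem f146316 : Led Lsl_af (LP (LK LD1_c0 LD2_c12 LD3_c55)) = (LP (LK LD1_c0 LD2_c7 LD3_c27)) :=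
  Lgr Lrot0 (Lpr_at (K6.f146299 IH) (Lpn (LP (LK LD1_c0 LD2_c7 LD3_c27))))
theorem f146296 : Led Lsl_at (LP (LK LD1_c0 LD2_c7 LD3_c32)) = (LP (LK LD1_c0 LD2_c12 LD3_c57)) :=
  Lgr Lrot100 (Lpr_af (K6.f146294 IH) (Lpn (LP (LK LD1_c0 LD2_c12 LD3_c57))))
theorem f176871 : Led Lsl_dt (LP (LK LD1_c0 LD2_c12 LD3_c55)) = (LP (LK LD1_c0 LD2_c7 LD3_c32)) :=
  Lgr Lrot44 (Lpr_af (f146316 IH) (Lpr_df (f176834 IH) (Lpe (f146296 IH) (Lpn (LP (LK LD1_c0 LD2_c7 LD3_c32))))))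
theorem f176939 : Led Lsl_gt (LP (LK LD1_c0 LD2_c33 LD3_c28)) = (LP (LK LD1_c0 LD2_c29 LD3_c53)) :=
  Lgr Lrot137 (Lpr_ef (f176909 IH) (Lpe (f176907 IH) (Lpe (f22118 IH) (Lpe (f176871 IH) (Lpr_et (K6.f21201 IH) (Lpe (K0.f21204 IH) (Lpe (f21218 IH) (Lpr_dt (K0.f8383 IH) (Lpe (f8483 IH) (Lpe (f21219 IH) (Lpn (LP (LK LD1_c0 LD2_c29 LD3_c53)))))))))))))
theorem f166153 : Led Lsl_ct (LP (LK LD1_c0 LD2_c33 LD3_c28)) = (LP (LK LD1_c1 LD2_c12 LD3_c18)) :=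
  Lre_c IH (LK LD1_c0 LD2_c33 LD3_c28) (LK LD1_c1 LD2_c12 LD3_c18) Lrfl Lrfl
theorem f8393 : Led Lsl_dt (LP (LK LD1_c1 LD2_c5 LD3_c24)) = (LP (LK LD1_c0 LD2_c29 LD3_c55)) :=
  Lre_d IH (LK LD1_c1 LD2_c5 LD3_c24) (LK LD1_c0 LD2_c29 LD3_c55) Lrfl Lrfl
theorem f9052 : Led Lsl_ft (LP (LK LD1_c1 LD2_c25 LD3_c59)) = (LP (LK LD1_c0 LD2_c39 LD3_c41)) :=
  Lre_f IH (LK LD1_c1 LD2_c25 LD3_c59) (LK LD1_c0 LD2_c39 LD3_c41) Lrfl Lrfl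
theorem f175311 : Led Lsl_at (LP (LK LD1_c0 LD2_c39 LD3_c41)) = (LP (LK LD1_c1 LD2_c5 LD3_c24)) :=
  Lre_a IH (LK LD1_c0 LD2_c39 LD3_c41) (LK LD1_c1 LD2_c5 LD3_c24) Lrfl Lrfl
theorem f175312 : Led Lsl_gf (LP (LK LD1_c1 LD2_c5 LD3_c24)) = (LP (LK LD1_c2 LD2_c0 LD3_c7)) :=
  Lgr Lrot76 (Lpe (f175311 IH) (Lpe (f9052 IH) (Lpr_gt (f175306 IH) (Lpn (LP (LK LD1_c2 LD2_c0 LD3_c7))))))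
theorem f176941 : Led Lsl_gt (LP (LK LD1_c1 LD2_c12 LD3_c18)) = (LP (LK LD1_c0 LD2_c57 LD3_c0)) :=
  Lgr Lrot94 (Lpe (f166153 IH) (Lpr_gt (f176939 IH) (Lpr_dt (f21219 IH) (Lpr_gt (f8483 IH) (Lpr_dt (K0.f8301 IH) (Lpe (f8403 IH) (Lpe (f8393 IH) (Lpr_gf (f175312 IH) (Lpe (f175318 IH) (Lpn (LP (LK LD1_c0 LD2_c57 LD3_c0))))))))))))
theorem f8470 : Led Lsl_gt (LP (LK LD1_c0 LD2_c7 LD3_c9)) = (LP (LK LD1_c0 LD2_c15 LD3_c52)) :=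
  Lre_g IH (LK LD1_c0 LD2_c7 LD3_c9) (LK LD1_c0 LD2_c15 LD3_c52) Lrfl Lrfl
theorem f8471 : Led Lsl_dt (LP (LK LD1_c0 LD2_c15 LD3_c52)) = (LP (LK LD1_c0 LD2_c35 LD3_c23)) :=
  Lre_d IH (LK LD1_c0 LD2_c15 LD3_c52) (LK LD1_c0 LD2_c35 LD3_c23) Lrfl Lrfl
theorem f165879 : Led Lsl_et (LP (LK LD1_c0 LD2_c33 LD3_c26)) = (LP (LK LD1_c0 LD2_c14 LD3_c61)) :=
  Lre_e IH (LK LD1_c0 LD2_c33 LD3_c26) (LK LD1_c0 LD2_c14 LD3_c61) Lrfl Lrfl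
theorem f165880 : Led Lsl_dt (LP (LK LD1_c0 LD2_c33 LD3_c26)) = (LP (LK LD1_c1 LD2_c12 LD3_c15)) :=
  Lre_d IH (LK LD1_c0 LD2_c33 LD3_c26) (LK LD1_c1 LD2_c12 LD3_c15) Lrfl Lrfl
theorem f166120 : Led Lsl_gt (LP (LK LD1_c0 LD2_c35 LD3_c23)) = (LP (LK LD1_c1 LD2_c12 LD3_c15)) :=
  Lgr Lrot139 (Lpe (f8471 IH) (Lpe (f8470 IH) (Lpe (K0.f7667 IH) (Lpr_dt (K0.f460 IH) (Lpe (K0.f6789 IH) (Lpr_df (K0.f28418 IH) (Lpr_et (K1.f28427 IH) (Lpr_gf (f165870 IH) (Lpe (f165879 IH) (Lpr_dt (f165880 IH) (Lpn (LP (LK LD1_c1 LD2_c12 LD3_c15)))))))))))))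
theorem f166124 : Led Lsl_dt (LP (LK LD1_c1 LD2_c12 LD3_c15)) = (LP (LK LD1_c0 LD2_c33 LD3_c26)) :=
  Lre_d IH (LK LD1_c1 LD2_c12 LD3_c15) (LK LD1_c0 LD2_c33 LD3_c26) Lrfl Lrfl
theorem f166125 : Led Lsl_ct (LP (LK LD1_c0 LD2_c15 LD3_c1)) = (LP (LK LD1_c0 LD2_c33 LD3_c26)) :=
  Lre_c IH (LK LD1_c0 LD2_c15 LD3_c1) (LK LD1_c0 LD2_c33 LD3_c26) Lrfl Lrfl
theorem f166126 : Led Lsl_gt (LP (LK LD1_c0 LD2_c29 LD3_c52)) = (LP (LK LD1_c0 LD2_c33 LD3_c28)) :=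
  Lgr Lrot49 (Lpe (f8385 IH) (Lpe (K0.f8384 IH) (Lpr_cf (K0.f8433 IH) (Lpr_gt (f8470 IH) (Lpr_dt (f8471 IH) (Lpr_gt (f166120 IH) (Lpr_dt (f166124 IH) (Lpe (f166125 IH) (Lpe (f22128 IH) (Lpn (LP (LK LD1_c0 LD2_c33 LD3_c28))))))))))))
theorem f8509 : Led Lsl_ct (LP (LK LD1_c0 LD2_c7 LD3_c60)) = (LP (LK LD1_c0 LD2_c17 LD3_c37)) :=
  Lre_c IH (LK LD1_c0 LD2_c7 LD3_c60) (LK LD1_c0 LD2_c17 LD3_c37) Lrfl Lrfl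
theorem f182515 : Led Lsl_gf (LP (LK LD1_c0 LD2_c15 LD3_c53)) = (LP (LK LD1_c0 LD2_c17 LD3_c37)) :=
  Lgr Lrot104 (Lpr_ct (f182486 IH) (Lpe (f55911 IH) (Lpe (f55906 IH) (Lpe (f176941 IH) (Lpe (f166153 IH) (Lpe (f166126 IH) (Lpe (f8385 IH) (Lpr_gt (K0.f9482 IH) (Lpr_ct (f8509 IH) (Lpn (LP (LK LD1_c0 LD2_c17 LD3_c37))))))))))))
theorem f8449 : Led Lsl_dt (LP (LK LD1_c0 LD2_c39 LD3_c22)) = (LP (LK LD1_c0 LD2_c17 LD3_c37)) :=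
  Lre_d IH (LK LD1_c0 LD2_c39 LD3_c22) (LK LD1_c0 LD2_c17 LD3_c37) Lrfl Lrfl
theorem f8545 : Led Lsl_gt (LP (LK LD1_c0 LD2_c39 LD3_c22)) = (LP (LK LD1_c0 LD2_c35 LD3_c29)) :=
  Lgr Lrot5 (Lpr_ft (K0.f8502 IH) (Lpr_at (K0.f8503 IH) (Lpe (K0.f8388 IH) (Lpn (LP (LK LD1_c0 LD2_c35 LD3_c29))))))
theorem f8421 : Led Lsl_ct (LP (LK LD1_c0 LD2_c35 LD3_c29)) = (LP (LK LD1_c1 LD2_c16 LD3_c39)) :=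
  Lre_c IH (LK LD1_c0 LD2_c35 LD3_c29) (LK LD1_c1 LD2_c16 LD3_c39) Lrfl Lrfl
theorem f182517 : Led Lsl_gt (LP (LK LD1_c1 LD2_c16 LD3_c39)) = (LP (LK LD1_c0 LD2_c56 LD3_c54)) :=
  Lgr Lrot187 (Lpe (f8421 IH) (Lpe (f8545 IH) (Lpr_dt (f8449 IH) (Lpe (f182515 IH) (Lpr_ct (f182486 IH) (Lpr_gt (f28335 IH) (Lpr_ct (K1.f47413 IH) (Lpr_dt (K1.f28225 IH) (Lpe (K1.f55326 IH) (Lpn (LP (LK LD1_c0 LD2_c56 LD3_c54))))))))))))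
theorem f8431 : Led Lsl_ct (LP (LK LD1_c1 LD2_c16 LD3_c39)) = (LP (LK LD1_c0 LD2_c35 LD3_c29)) :=
  Lre_c IH (LK LD1_c1 LD2_c16 LD3_c39) (LK LD1_c0 LD2_c35 LD3_c29) Lrfl Lrfl
theorem f166123 : Led Lsl_ct (LP (LK LD1_c0 LD2_c35 LD3_c23)) = (LP (LK LD1_c1 LD2_c16 LD3_c29)) :=
  Lre_c IH (LK LD1_c0 LD2_c35 LD3_c23) (LK LD1_c1 LD2_c16 LD3_c29) Lrfl Lrfl
theorem f182540 : Led Lsl_dt (LP (LK LD1_c2 LD2_c39 LD3_c25)) = (LP (LK LD1_c1 LD2_c16 LD3_c29)) :=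
  Lre_d IH (LK LD1_c2 LD2_c39 LD3_c25) (LK LD1_c1 LD2_c16 LD3_c29) Lrfl Lrfl
theorem f182541 : Led Lsl_gf (LP (LK LD1_c2 LD2_c39 LD3_c25)) = (LP (LK LD1_c1 LD2_c59 LD3_c59)) :=
  Lgr Lrot143 (Lpr_dt (f182540 IH) (Lpe (f166123 IH) (Lpe (f8471 IH) (Lpe (f8470 IH) (Lpe (K0.f8387 IH) (Lpe (K0.f8388 IH) (Lpe (f8431 IH) (Lpr_gt (f182517 IH) (Lpr_dt (K1.f55335 IH) (Lpn (LP (LK LD1_c1 LD2_c59 LD3_c59))))))))))))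
theorem f183024 : Led Lsl_gt (LP (LK LD1_c2 LD2_c39 LD3_c25)) = (LP (LK LD1_c2 LD2_c0 LD3_c18)) :=
  Lgr Lrot46 (Lpr_gf (f182541 IH) (Lpr_ft (K2.f55450 IH) (Lpe (K2.f55642 IH) (Lpn (LP (LK LD1_c2 LD2_c0 LD3_c18))))))
theorem f55410 : Led Lsl_dt (LP (LK LD1_c0 LD2_c25 LD3_c56)) = (LP (LK LD1_c0 LD2_c57 LD3_c7)) :=
  Lre_d IH (LK LD1_c0 LD2_c25 LD3_c56) (LK LD1_c0 LD2_c57 LD3_c7) Lrfl Lrfl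
theorem f179883 : Led Lsl_ct (LP (LK LD1_c0 LD2_c57 LD3_c4)) = (LP (LK LD1_c0 LD2_c25 LD3_c55)) :=
  Lre_c IH (LK LD1_c0 LD2_c57 LD3_c4) (LK LD1_c0 LD2_c25 LD3_c55) Lrfl Lrfl
theorem f8462 : Led Lsl_at (LP (LK LD1_c0 LD2_c17 LD3_c47)) = (LP (LK LD1_c0 LD2_c29 LD3_c55)) :=
  Lre_a IH (LK LD1_c0 LD2_c17 LD3_c47) (LK LD1_c0 LD2_c29 LD3_c55) Lrfl Lrfl
theorem f8463 : Led Lsl_ft (LP (LK LD1_c0 LD2_c39 LD3_c42)) = (LP (LK LD1_c0 LD2_c17 LD3_c47)) :=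
  Lre_f IH (LK LD1_c0 LD2_c39 LD3_c42) (LK LD1_c0 LD2_c17 LD3_c47) Lrfl Lrfl
theorem f182470 : Led Lsl_gt (LP (LK LD1_c0 LD2_c39 LD3_c42)) = (LP (LK LD1_c0 LD2_c57 LD3_c4)) :=
  Lgr Lrot5 (Lpr_ft (f8463 IH) (Lpr_at (f8462 IH) (Lpr_gf (f182468 IH) (Lpn (LP (LK LD1_c0 LD2_c57 LD3_c4))))))
theorem f22400 : Led Lsl_dt (LP (LK LD1_c1 LD2_c25 LD3_c59)) = (LP (LK LD1_c0 LD2_c39 LD3_c42)) :=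
  Lre_d IH (LK LD1_c1 LD2_c25 LD3_c59) (LK LD1_c0 LD2_c39 LD3_c42) Lrfl Lrfl
theorem f183033 : Led Lsl_cf (LP (LK LD1_c2 LD2_c39 LD3_c25)) = (LP (LK LD1_c2 LD2_c0 LD3_c7)) :=
  Lgr Lrot169 (Lpr_gt (f183024 IH) (Lpr_ct (K1.f55382 IH) (Lpe (f55410 IH) (Lpe (f55631 IH) (Lpe (f56518 IH) (Lpe (f179883 IH) (Lpe (f182470 IH) (Lpe (f22400 IH) (Lpr_gt (f175306 IH) (Lpn (LP (LK LD1_c2 LD2_c0 LD3_c7))))))))))))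
theorem f183039 : Led Lsl_ct (LP (LK LD1_c2 LD2_c39 LD3_c25)) = (LP (LK LD1_c2 LD2_c0 LD3_c7)) :=
  Lgr Lrot59 (Lpr_cf (f183033 IH) (Lpn (LP (LK LD1_c2 LD2_c0 LD3_c7))))
theorem f8511 : Led Lsl_dt (LP (LK LD1_c1 LD2_c25 LD3_c27)) = (LP (LK LD1_c2 LD2_c16 LD3_c58)) :=
  Lre_d IH (LK LD1_c1 LD2_c25 LD3_c27) (LK LD1_c2 LD2_c16 LD3_c58) Lrfl Lrfl
theorem f8493 : Led Lsl_ct (LP (LK LD1_c0 LD2_c39 LD3_c22)) = (LP (LK LD1_c1 LD2_c25 LD3_c27)) :=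
  Lre_c IH (LK LD1_c0 LD2_c39 LD3_c22) (LK LD1_c1 LD2_c25 LD3_c27) Lrfl Lrfl
theorem f7712 : Led Lsl_gt (LP (LK LD1_c0 LD2_c15 LD3_c54)) = (LP (LK LD1_c0 LD2_c35 LD3_c28)) :=
  Lre_g IH (LK LD1_c0 LD2_c15 LD3_c54) (LK LD1_c0 LD2_c35 LD3_c28) Lrfl Lrfl
theorem f8505 : Led Lsl_gf (LP (LK LD1_c0 LD2_c39 LD3_c22)) = (LP (LK LD1_c0 LD2_c35 LD3_c28)) :=
  Lgr Lrot76 (Lpr_af (K0.f8468 IH) (Lpe (K0.f8467 IH) (Lpr_gt (f7712 IH) (Lpn (LP (LK LD1_c0 LD2_c35 LD3_c28))))))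
theorem f8507 : Led Lsl_ct (LP (LK LD1_c1 LD2_c16 LD3_c36)) = (LP (LK LD1_c0 LD2_c35 LD3_c28)) :=
  Lre_c IH (LK LD1_c1 LD2_c16 LD3_c36) (LK LD1_c0 LD2_c35 LD3_c28) Lrfl Lrfl
theorem f183050 : Led Lsl_gt (LP (LK LD1_c0 LD2_c56 LD3_c54)) = (LP (LK LD1_c1 LD2_c16 LD3_c36)) :=
  Lgr Lrot9 (Lpe (K2.f55350 IH) (Lpe (f182541 IH) (Lpr_ct (f183039 IH) (Lpe (f175312 IH) (Lpr_ct (K0.f8446 IH) (Lpe (f8511 IH) (Lpe (f8493 IH) (Lpr_gf (f8505 IH) (Lpe (f8507 IH) (Lpn (LP (LK LD1_c1 LD2_c16 LD3_c36))))))))))))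
theorem f183054 : Led Lsl_gf (LP (LK LD1_c2 LD2_c0 LD3_c53)) = (LP (LK LD1_c1 LD2_c16 LD3_c36)) :=
  Lgr Lrot76 (Lpe (K1.f55377 IH) (Lpe (K1.f55341 IH) (Lpr_gt (f183050 IH) (Lpn (LP (LK LD1_c1 LD2_c16 LD3_c36))))))
theorem f8510 : Led Lsl_ct (LP (LK LD1_c0 LD2_c35 LD3_c28)) = (LP (LK LD1_c1 LD2_c16 LD3_c36)) :=
  Lre_c IH (LK LD1_c0 LD2_c35 LD3_c28) (LK LD1_c1 LD2_c16 LD3_c36) Lrfl Lrfl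
theorem f8474 : Led Lsl_dt (LP (LK LD1_c0 LD2_c15 LD3_c53)) = (LP (LK LD1_c0 LD2_c35 LD3_c26)) :=
  Lre_d IH (LK LD1_c0 LD2_c15 LD3_c53) (LK LD1_c0 LD2_c35 LD3_c26) Lrfl Lrfl
theorem f182493 : Led Lsl_ct (LP (LK LD1_c1 LD2_c16 LD3_c33)) = (LP (LK LD1_c0 LD2_c35 LD3_c26)) :=
  Lre_c IH (LK LD1_c1 LD2_c16 LD3_c33) (LK LD1_c0 LD2_c35 LD3_c26) Lrfl Lrfl
theorem f182507 : Led Lsl_dt (LP (LK LD1_c2 LD2_c39 LD3_c34)) = (LP (LK LD1_c1 LD2_c16 LD3_c33)) :=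
  Lre_d IH (LK LD1_c2 LD2_c39 LD3_c34) (LK LD1_c1 LD2_c16 LD3_c33) Lrfl Lrfl
theorem f183063 : Led Lsl_gt (LP (LK LD1_c2 LD2_c0 LD3_c18)) = (LP (LK LD1_c2 LD2_c39 LD3_c34)) :=
  Lgr Lrot49 (Lpr_df (K1.f55383 IH) (Lpr_gf (f183054 IH) (Lpe (f8510 IH) (Lpe (f8505 IH) (Lpr_dt (f8449 IH) (Lpe (f182515 IH) (Lpr_dt (f8474 IH) (Lpe (f182493 IH) (Lpe (f182507 IH) (Lpn (LP (LK LD1_c2 LD2_c39 LD3_c34))))))))))))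
theorem f183074 : Led Lsl_gf (LP (LK LD1_c1 LD2_c59 LD3_c59)) = (LP (LK LD1_c2 LD2_c39 LD3_c34)) :=
  Lgr Lrot76 (Lpe (K2.f55635 IH) (Lpe (K2.f55400 IH) (Lpr_gt (f183063 IH) (Lpn (LP (LK LD1_c2 LD2_c39 LD3_c34))))))
theorem f55391 : Led Lsl_dt (LP (LK LD1_c2 LD2_c1 LD3_c4)) = (LP (LK LD1_c0 LD2_c57 LD3_c35)) :=
  Lre_d IH (LK LD1_c2 LD2_c1 LD3_c4) (LK LD1_c0 LD2_c57 LD3_c35) Lrfl Lrfl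
theorem f55392 : Led Lsl_ct (LP (LK LD1_c1 LD2_c59 LD3_c59)) = (LP (LK LD1_c2 LD2_c1 LD3_c4)) :=
  Lgr Lrot176 (Lpe (K1.f55335 IH) (Lpe (K1.f55349 IH) (Lpe (K1.f28225 IH) (Lpe (K1.f47413 IH) (Lpe (K1.f55379 IH) (Lpe (K1.f55380 IH) (Lpe (K1.f55381 IH) (Lpe (K1.f55382 IH) (Lpr_df (K1.f55383 IH) (Lpe (K1.f55389 IH) (Lpe (K1.f47912 IH) (Lpe (K1.f47919 IH) (Lpe (K1.f47927 IH) (Lpe (f55390 IH) (Lpe (f55391 IH) (Lpn (LP (LK LD1_c2 LD2_c1 LD3_c4))))))))))))))))))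
theorem f47067 : Led Lsl_gt (LP (LK LD1_c0 LD2_c5 LD3_c21)) = (LP (LK LD1_c0 LD2_c11 LD3_c29)) :=
  Lre_g IH (LK LD1_c0 LD2_c5 LD3_c21) (LK LD1_c0 LD2_c11 LD3_c29) Lrfl Lrfl
theorem f168998 : Led Lsl_dt (LP (LK LD1_c0 LD2_c11 LD3_c29)) = (LP (LK LD1_c0 LD2_c25 LD3_c50)) :=
  Lre_d IH (LK LD1_c0 LD2_c11 LD3_c29) (LK LD1_c0 LD2_c25 LD3_c50) Lrfl Lrfl
theorem f182472 : Led Lsl_ct (LP (LK LD1_c0 LD2_c56 LD3_c60)) = (LP (LK LD1_c0 LD2_c25 LD3_c50)) :=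
  Lre_c IH (LK LD1_c0 LD2_c56 LD3_c60) (LK LD1_c0 LD2_c25 LD3_c50) Lrfl Lrfl
theorem f182473 : Led Lsl_dt (LP (LK LD1_c2 LD2_c0 LD3_c4)) = (LP (LK LD1_c0 LD2_c56 LD3_c60)) :=
  Lre_d IH (LK LD1_c2 LD2_c0 LD3_c4) (LK LD1_c0 LD2_c56 LD3_c60) Lrfl Lrfl
theorem f182474 : Led Lsl_gt (LP (LK LD1_c1 LD2_c5 LD3_c24)) = (LP (LK LD1_c2 LD2_c0 LD3_c4)) :=
  Lgr Lrot49 (Lpe (K0.f8395 IH) (Lpr_gf (f182468 IH) (Lpe (f179885 IH) (Lpr_gt (f56518 IH) (Lpr_dt (K1.f55379 IH) (Lpr_gt (f47067 IH) (Lpr_dt (f168998 IH) (Lpe (f182472 IH) (Lpe (f182473 IH) (Lpn (LP (LK LD1_c2 LD2_c0 LD3_c4))))))))))))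
theorem f183083 : Led Lsl_ct (LP (LK LD1_c2 LD2_c0 LD3_c4)) = (LP (LK LD1_c2 LD2_c39 LD3_c34)) :=
  Lgr Lrot152 (Lpe (f182474 IH) (Lpe (K0.f8395 IH) (Lpe (f168209 IH) (Lpr_ct (f56535 IH) (Lpr_gt (f175284 IH) (Lpr_ct (K1.f55624 IH) (Lpe (f55391 IH) (Lpe (f55392 IH) (Lpr_gf (f183074 IH) (Lpn (LP (LK LD1_c2 LD2_c39 LD3_c34))))))))))))
theorem f182480 : Led Lsl_dt (LP (LK LD1_c0 LD2_c56 LD3_c60)) = (LP (LK LD1_c2 LD2_c0 LD3_c4)) :=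
  Lre_d IH (LK LD1_c0 LD2_c56 LD3_c60) (LK LD1_c2 LD2_c0 LD3_c4) Lrfl Lrfl
theorem f182476 : Led Lsl_ct (LP (LK LD1_c0 LD2_c25 LD3_c50)) = (LP (LK LD1_c0 LD2_c56 LD3_c60)) :=
  Lre_c IH (LK LD1_c0 LD2_c25 LD3_c50) (LK LD1_c0 LD2_c56 LD3_c60) Lrfl Lrfl
theorem f8473 : Led Lsl_dt (LP (LK LD1_c0 LD2_c35 LD3_c26)) = (LP (LK LD1_c0 LD2_c15 LD3_c53)) :=
  Lre_d IH (LK LD1_c0 LD2_c35 LD3_c26) (LK LD1_c0 LD2_c15 LD3_c53) Lrfl Lrfl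
theorem f55908 : Led Lsl_ct (LP (LK LD1_c0 LD2_c25 LD3_c52)) = (LP (LK LD1_c0 LD2_c57 LD3_c0)) :=
  Lre_c IH (LK LD1_c0 LD2_c25 LD3_c52) (LK LD1_c0 LD2_c57 LD3_c0) Lrfl Lrfl
theorem f166128 : Led Lsl_ct (LP (LK LD1_c1 LD2_c16 LD3_c29)) = (LP (LK LD1_c0 LD2_c35 LD3_c23)) :=
  Lre_c IH (LK LD1_c1 LD2_c16 LD3_c29) (LK LD1_c0 LD2_c35 LD3_c23) Lrfl Lrfl
theorem f166130 : Led Lsl_dt (LP (LK LD1_c0 LD2_c35 LD3_c23)) = (LP (LK LD1_c0 LD2_c15 LD3_c52)) :=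
  Lre_d IH (LK LD1_c0 LD2_c35 LD3_c23) (LK LD1_c0 LD2_c15 LD3_c52) Lrfl Lrfl
theorem f183189 : Led Lsl_cf (LP (LK LD1_c0 LD2_c11 LD3_c29)) = (LP (LK LD1_c0 LD2_c15 LD3_c52)) :=
  Lgr Lrot55 (Lpr_dt (f168998 IH) (Lpr_ct (f182476 IH) (Lpr_dt (f182480 IH) (Lpr_ct (f183083 IH) (Lpr_dt (f182507 IH) (Lpr_ct (f182493 IH) (Lpr_dt (f8473 IH) (Lpr_ct (f182486 IH) (Lpr_dt (f55905 IH) (Lpr_ct (f55908 IH) (Lpr_dt (f175318 IH) (Lpe (f183033 IH) (Lpr_dt (f182540 IH) (Lpr_ct (f166128 IH) (Lpr_dt (f166130 IH) (Lpn (LP (LK LD1_c0 LD2_c15 LD3_c52))))))))))))))))))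
theorem f183204 : Led Lsl_gt (LP (LK LD1_c0 LD2_c11 LD3_c29)) = (LP (LK LD1_c0 LD2_c11 LD3_c38)) :=
  Lgr Lrot150 (Lpr_cf (f183189 IH) (Lpe (f8470 IH) (Lpe (K0.f8387 IH) (Lpr_gt (f7712 IH) (Lpr_ct (f8510 IH) (Lpe (f183054 IH) (Lpr_ct (K2.f55427 IH) (Lpe (K1.f47912 IH) (Lpe (K1.f47919 IH) (Lpn (LP (LK LD1_c0 LD2_c11 LD3_c38))))))))))))
theorem f59015 : Led Lsl_dt (LP (LK LD1_c0 LD2_c25 LD3_c50)) = (LP (LK LD1_c0 LD2_c11 LD3_c29)) :=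
  Lre_d IH (LK LD1_c0 LD2_c25 LD3_c50) (LK LD1_c0 LD2_c11 LD3_c29) Lrfl Lrfl
theorem f183201 : Led Lsl_gt (LP (LK LD1_c0 LD2_c56 LD3_c59)) = (LP (LK LD1_c0 LD2_c25 LD3_c50)) :=
  Lre_g IH (LK LD1_c0 LD2_c56 LD3_c59) (LK LD1_c0 LD2_c25 LD3_c50) Lrfl Lrfl
theorem f178479 : Led Lsl_dt (LP (LK LD1_c0 LD2_c26 LD3_c41)) = (LP (LK LD1_c0 LD2_c58 LD3_c51)) :=
  Lre_d IH (LK LD1_c0 LD2_c26 LD3_c41) (LK LD1_c0 LD2_c58 LD3_c51) Lrfl Lrfl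
theorem f161776 : Led Lsl_df (LP (LK LD1_c0 LD2_c32 LD3_c39)) = (LP (LK LD1_c0 LD2_c40 LD3_c55)) :=
  Lgr Lrot38 (Lpr_dt (f161773 IH) (Lpn (LP (LK LD1_c0 LD2_c40 LD3_c55))))
theorem f178480 : Led Lsl_et (LP (LK LD1_c0 LD2_c58 LD3_c51)) = (LP (LK LD1_c0 LD2_c40 LD3_c55)) :=
  Lgr Lrot71 (Lpe (f178479 IH) (Lpr_ef (f178477 IH) (Lpe (f178469 IH) (Lpe (f161772 IH) (Lpr_df (f161776 IH) (Lpn (LP (LK LD1_c0 LD2_c40 LD3_c55))))))))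
theorem f53205 : Led Lsl_dt (LP (LK LD1_c0 LD2_c58 LD3_c51)) = (LP (LK LD1_c0 LD2_c26 LD3_c41)) :=
  Lre_d IH (LK LD1_c0 LD2_c58 LD3_c51) (LK LD1_c0 LD2_c26 LD3_c41) Lrfl Lrfl
theorem f53183 : Led Lsl_dt (LP (LK LD1_c0 LD2_c26 LD3_c42)) = (LP (LK LD1_c0 LD2_c11 LD3_c50)) :=
  Lre_d IH (LK LD1_c0 LD2_c26 LD3_c42) (LK LD1_c0 LD2_c11 LD3_c50) Lrfl Lrfl
theorem f183210 : Led Lsl_ef (LP (LK LD1_c0 LD2_c56 LD3_c59)) = (LP (LK LD1_c0 LD2_c26 LD3_c42)) :=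
  Lgr Lrot167 (Lpr_gt (f183201 IH) (Lpr_dt (f59015 IH) (Lpr_gt (f183204 IH) (Lpe (K1.f47927 IH) (Lpr_et (f47926 IH) (Lpr_gt (f80288 IH) (Lpe (f178480 IH) (Lpr_dt (f53205 IH) (Lpr_gt (f53204 IH) (Lpe (f53183 IH) (Lpn (LP (LK LD1_c0 LD2_c26 LD3_c42)))))))))))))
theorem f183216 : Led Lsl_et (LP (LK LD1_c0 LD2_c56 LD3_c59)) = (LP (LK LD1_c0 LD2_c26 LD3_c42)) :=
  Lgr Lrot87 (Lpr_ef (f183210 IH) (Lpn (LP (LK LD1_c0 LD2_c26 LD3_c42))))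
theorem f183221 : Led Lsl_df (LP (LK LD1_c0 LD2_c56 LD3_c59)) = (LP (LK LD1_c0 LD2_c26 LD3_c40)) :=
  Lgr Lrot70 (Lpr_et (f183216 IH) (Lpr_dt (f53183 IH) (Lpr_et (f6760 IH) (Lpr_dt (f6758 IH) (Lpr_et (f51604 IH) (Lpn (LP (LK LD1_c0 LD2_c26 LD3_c40))))))))
theorem f183197 : Led Lsl_et (LP (LK LD1_c0 LD2_c11 LD3_c29)) = (LP (LK LD1_c0 LD2_c25 LD3_c51)) :=
  Lre_e IH (LK LD1_c0 LD2_c11 LD3_c29) (LK LD1_c0 LD2_c25 LD3_c51) Lrfl Lrfl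
theorem f183227 : Led Lsl_gt (LP (LK LD1_c0 LD2_c25 LD3_c51)) = (LP (LK LD1_c0 LD2_c11 LD3_c53)) :=
  Lgr Lrot137 (Lpe (f183197 IH) (Lpr_dt (f168998 IH) (Lpe (f183201 IH) (Lpr_df (f183221 IH) (Lpr_et (f53323 IH) (Lpe (f53321 IH) (Lpe (f6808 IH) (Lpr_dt (f6820 IH) (Lpr_gf (f53317 IH) (Lpe (f51589 IH) (Lpn (LP (LK LD1_c0 LD2_c11 LD3_c53)))))))))))))
theorem f165158 : Led Lsl_ct (LP (LK LD1_c0 LD2_c11 LD3_c53)) = (LP (LK LD1_c0 LD2_c26 LD3_c46)) :=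
  Lre_c IH (LK LD1_c0 LD2_c11 LD3_c53) (LK LD1_c0 LD2_c26 LD3_c46) Lrfl Lrfl
theorem f181873 : Led Lsl_cf (LP (LK LD1_c0 LD2_c29 LD3_c0)) = (LP (LK LD1_c0 LD2_c58 LD3_c58)) :=
  Lgr Lrot11 (Lpr_ct (f181794 IH) (Lpn (LP (LK LD1_c0 LD2_c58 LD3_c58))))
theorem f164712 : Led Lsl_ct (LP (LK LD1_c0 LD2_c28 LD3_c61)) = (LP (LK LD1_c0 LD2_c12 LD3_c49)) :=
  Lre_c IH (LK LD1_c0 LD2_c28 LD3_c61) (LK LD1_c0 LD2_c12 LD3_c49) Lrfl Lrfl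
theorem f40160 : Led Lsl_at (LP (LK LD1_c1 LD2_c56 LD3_c18)) = (LP (LK LD1_c3 LD2_c58 LD3_c56)) :=
  Lre_a IH (LK LD1_c1 LD2_c56 LD3_c18) (LK LD1_c3 LD2_c58 LD3_c56) Lrfl Lrfl
theorem f40161 : Led Lsl_bt (LP (LK LD1_c0 LD2_c54 LD3_c60)) = (LP (LK LD1_c1 LD2_c56 LD3_c18)) :=
  Lre_b IH (LK LD1_c0 LD2_c54 LD3_c60) (LK LD1_c1 LD2_c56 LD3_c18) Lrfl Lrfl
theorem f40162 : Led Lsl_at (LP (LK LD1_c2 LD2_c26 LD3_c27)) = (LP (LK LD1_c1 LD2_c10 LD3_c37)) :=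
  Lre_a IH (LK LD1_c2 LD2_c26 LD3_c27) (LK LD1_c1 LD2_c10 LD3_c37) Lrfl Lrfl
theorem f40163 : Led Lsl_bt (LP (LK LD1_c1 LD2_c10 LD3_c37)) = (LP (LK LD1_c0 LD2_c32 LD3_c44)) :=
  Lre_b IH (LK LD1_c1 LD2_c10 LD3_c37) (LK LD1_c0 LD2_c32 LD3_c44) Lrfl Lrfl
theorem f40164 : Led Lsl_af (LP (LK LD1_c0 LD2_c54 LD3_c60)) = (LP (LK LD1_c0 LD2_c32 LD3_c44)) :=
  Lgr Lrot36 (Lpr_bt (f40161 IH) (Lpr_at (f40160 IH) (Lpr_bt (K1.f40154 IH) (Lpr_at (f40162 IH) (Lpr_bt (f40163 IH) (Lpn (LP (LK LD1_c0 LD2_c32 LD3_c44))))))))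
theorem f168828 : Led Lsl_ft (LP (LK LD1_c0 LD2_c14 LD3_c41)) = (LP (LK LD1_c0 LD2_c32 LD3_c44)) :=
  Lre_f IH (LK LD1_c0 LD2_c14 LD3_c41) (LK LD1_c0 LD2_c32 LD3_c44) Lrfl Lrfl
theorem f168829 : Led Lsl_gt (LP (LK LD1_c0 LD2_c14 LD3_c41)) = (LP (LK LD1_c0 LD2_c28 LD3_c61)) :=
  Lgr Lrot5 (Lpr_ft (f168828 IH) (Lpe (f40164 IH) (Lpr_gf (f168826 IH) (Lpn (LP (LK LD1_c0 LD2_c28 LD3_c61))))))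
theorem f183235 : Led Lsl_df (LP (LK LD1_c0 LD2_c25 LD3_c51)) = (LP (LK LD1_c0 LD2_c14 LD3_c40)) :=
  Lgr Lrot155 (Lpr_gt (f183227 IH) (Lpr_ct (f165158 IH) (Lpr_gt (f178299 IH) (Lpe (f181873 IH) (Lpr_dt (f20222 IH) (Lpe (f164712 IH) (Lpe (f168829 IH) (Lpe (K1.f40724 IH) (Lpe (f168550 IH) (Lpn (LP (LK LD1_c0 LD2_c14 LD3_c40))))))))))))
theorem f28336 : Led Lsl_et (LP (LK LD1_c0 LD2_c25 LD3_c53)) = (LP (LK LD1_c0 LD2_c11 LD3_c30)) :=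
  Lre_e IH (LK LD1_c0 LD2_c25 LD3_c53) (LK LD1_c0 LD2_c11 LD3_c30) Lrfl Lrfl
theorem f28337 : Led Lsl_dt (LP (LK LD1_c0 LD2_c25 LD3_c53)) = (LP (LK LD1_c0 LD2_c57 LD3_c1)) :=
  Lre_d IH (LK LD1_c0 LD2_c25 LD3_c53) (LK LD1_c0 LD2_c57 LD3_c1) Lrfl Lrfl
theorem f28339 : Led Lsl_gf (LP (LK LD1_c0 LD2_c57 LD3_c1)) = (LP (LK LD1_c0 LD2_c32 LD3_c9)) :=
  Lgr Lrot134 (Lpe (f28337 IH) (Lpr_et (f28336 IH) (Lpr_gt (f28335 IH) (Lpe (K1.f27280 IH) (Lpe (K0.f9629 IH) (Lpe (K0.f8246 IH) (Lpr_df (K0.f28229 IH) (Lpr_et (K8.f28329 IH) (Lpr_gt (f28334 IH) (Lpr_dt (f28338 IH) (Lpn (LP (LK LD1_c0 LD2_c32 LD3_c9)))))))))))))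
theorem f26030 : Led Lsl_dt (LP (LK LD1_c0 LD2_c32 LD3_c59)) = (LP (LK LD1_c1 LD2_c11 LD3_c8)) :=
  Lre_d IH (LK LD1_c0 LD2_c32 LD3_c59) (LK LD1_c1 LD2_c11 LD3_c8) Lrfl Lrfl
theorem f28341 : Led Lsl_dt (LP (LK LD1_c0 LD2_c57 LD3_c1)) = (LP (LK LD1_c0 LD2_c25 LD3_c53)) :=
  Lre_d IH (LK LD1_c0 LD2_c57 LD3_c1) (LK LD1_c0 LD2_c25 LD3_c53) Lrfl Lrfl
theorem f175294 : Led Lsl_et (LP (LK LD1_c1 LD2_c11 LD3_c8)) = (LP (LK LD1_c0 LD2_c57 LD3_c1)) :=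
  Lgr Lrot71 (Lpe (f26030 IH) (Lpr_ef (f175291 IH) (Lpe (f55905 IH) (Lpe (f28336 IH) (Lpe (f28341 IH) (Lpn (LP (LK LD1_c0 LD2_c57 LD3_c1))))))))
theorem f26038 : Led Lsl_dt (LP (LK LD1_c1 LD2_c11 LD3_c8)) = (LP (LK LD1_c0 LD2_c32 LD3_c59)) :=
  Lre_d IH (LK LD1_c1 LD2_c11 LD3_c8) (LK LD1_c0 LD2_c32 LD3_c59) Lrfl Lrfl
theorem f183241 : Led Lsl_gf (LP (LK LD1_c0 LD2_c14 LD3_c40)) = (LP (LK LD1_c0 LD2_c24 LD3_c54)) :=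
  Lgr Lrot138 (Lpe (f183235 IH) (Lpr_gt (f183227 IH) (Lpe (f53174 IH) (Lpe (f53312 IH) (Lpe (f28339 IH) (Lpe (f175294 IH) (Lpr_dt (f26038 IH) (Lpr_gt (f100677 IH) (Lpe (f100620 IH) (Lpr_et (f100940 IH) (Lpn (LP (LK LD1_c0 LD2_c24 LD3_c54)))))))))))))
theorem f183198 : Led Lsl_et (LP (LK LD1_c0 LD2_c35 LD3_c24)) = (LP (LK LD1_c0 LD2_c15 LD3_c52)) :=
  Lre_e IH (LK LD1_c0 LD2_c35 LD3_c24) (LK LD1_c0 LD2_c15 LD3_c52) Lrfl Lrfl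
theorem f183199 : Led Lsl_ct (LP (LK LD1_c0 LD2_c25 LD3_c51)) = (LP (LK LD1_c0 LD2_c35 LD3_c24)) :=
  Lgr Lrot15 (Lpe (f183197 IH) (Lpr_cf (f183189 IH) (Lpe (f183198 IH) (Lpn (LP (LK LD1_c0 LD2_c35 LD3_c24))))))
theorem f172031 : Led Lsl_ct (LP (LK LD1_c0 LD2_c12 LD3_c46)) = (LP (LK LD1_c0 LD2_c5 LD3_c49)) :=
  Lre_c IH (LK LD1_c0 LD2_c12 LD3_c46) (LK LD1_c0 LD2_c5 LD3_c49) Lrfl Lrfl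
theorem f181954 : Led Lsl_gf (LP (LK LD1_c0 LD2_c11 LD3_c3)) = (LP (LK LD1_c0 LD2_c6 LD3_c41)) :=
  Lgr Lrot147 (Lpr_ct (K1.f40839 IH) (Lpr_gt (f181948 IH) (Lpr_ct (f172031 IH) (Lpe (K0.f20233 IH) (Lpe (f20590 IH) (Lpe (f180225 IH) (Lpe (f179869 IH) (Lpr_gf (f179854 IH) (Lpe (f7030 IH) (Lpn (LP (LK LD1_c0 LD2_c6 LD3_c41))))))))))))
theorem f174968 : Led Lsl_cf (LP (LK LD1_c0 LD2_c6 LD3_c41)) = (LP (LK LD1_c0 LD2_c7 LD3_c10)) :=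
  Lgr Lrot11 (Lpr_ct (f174961 IH) (Lpn (LP (LK LD1_c0 LD2_c7 LD3_c10))))
theorem f183243 : Led Lsl_df (LP (LK LD1_c0 LD2_c35 LD3_c24)) = (LP (LK LD1_c0 LD2_c16 LD3_c1)) :=
  Lgr Lrot84 (Lpe (f183199 IH) (Lpr_df (f183235 IH) (Lpr_gf (f183241 IH) (Lpe (f41077 IH) (Lpr_gf (f181954 IH) (Lpr_cf (f174968 IH) (Lpr_gt (f8439 IH) (Lpr_dt (f8440 IH) (Lpr_gt (f8441 IH) (Lpn (LP (LK LD1_c0 LD2_c16 LD3_c1))))))))))))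
theorem f170619 : Led Lsl_df (LP (LK LD1_c0 LD2_c26 LD3_c29)) = (LP (LK LD1_c0 LD2_c31 LD3_c41)) :=
  Lgr Lrot38 (Lpr_dt (f170613 IH) (Lpn (LP (LK LD1_c0 LD2_c31 LD3_c41))))
theorem f268 : Led Lsl_ct (LP (LK LD1_c0 LD2_c14 LD3_c1)) = (LP (LK LD1_c0 LD2_c31 LD3_c38)) :=
  Lre_c IH (LK LD1_c0 LD2_c14 LD3_c1) (LK LD1_c0 LD2_c31 LD3_c38) Lrfl Lrfl
theorem f171155 : Led Lsl_df (LP (LK LD1_c0 LD2_c26 LD3_c28)) = (LP (LK LD1_c0 LD2_c31 LD3_c38)) :=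
  Lgr Lrot43 (Lpr_ct (f51521 IH) (Lpe (f170592 IH) (Lpr_ct (f53461 IH) (Lpr_dt (f525 IH) (Lpr_ct (f171034 IH) (Lpr_dt (f2140 IH) (Lpr_ct (f2142 IH) (Lpe (f170619 IH) (Lpr_ct (f53146 IH) (Lpr_dt (f170941 IH) (Lpr_ct (f170610 IH) (Lpr_dt (f519 IH) (Lpr_ct (f170594 IH) (Lpr_dt (f264 IH) (Lpr_ct (f268 IH) (Lpn (LP (LK LD1_c0 LD2_c31 LD3_c38))))))))))))))))))
theorem f179728 : Led Lsl_gt (LP (LK LD1_c0 LD2_c28 LD3_c40)) = (LP (LK LD1_c0 LD2_c31 LD3_c38)) :=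
  Lgr Lrot49 (Lpe (f167641 IH) (Lpe (f500 IH) (Lpe (f167306 IH) (Lpe (f178323 IH) (Lpr_dt (f178387 IH) (Lpr_gt (f179719 IH) (Lpr_dt (f170862 IH) (Lpe (f51521 IH) (Lpr_df (f171155 IH) (Lpn (LP (LK LD1_c0 LD2_c31 LD3_c38))))))))))))
theorem f1416 : Led Lsl_dt (LP (LK LD1_c0 LD2_c26 LD3_c27)) = (LP (LK LD1_c0 LD2_c58 LD3_c17)) :=
  Lre_d IH (LK LD1_c0 LD2_c26 LD3_c27) (LK LD1_c0 LD2_c58 LD3_c17) Lrfl Lrfl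
theorem f179758 : Led Lsl_gf (LP (LK LD1_c0 LD2_c28 LD3_c39)) = (LP (LK LD1_c0 LD2_c58 LD3_c17)) :=
  Lgr Lrot145 (Lpe (f165019 IH) (Lpr_et (f167644 IH) (Lpr_gt (f179728 IH) (Lpe (f171155 IH) (Lpr_gt (f51518 IH) (Lpe (K0.f27338 IH) (Lpe (K0.f27340 IH) (Lpe (f53457 IH) (Lpe (f1415 IH) (Lpr_dt (f1416 IH) (Lpn (LP (LK LD1_c0 LD2_c58 LD3_c17)))))))))))))
theorem f183229 : Led Lsl_gt (LP (LK LD1_c0 LD2_c35 LD3_c24)) = (LP (LK LD1_c0 LD2_c26 LD3_c27)) :=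
  Lgr Lrot94 (Lpe (f183199 IH) (Lpr_gt (f183227 IH) (Lpr_dt (f51589 IH) (Lpe (f53317 IH) (Lpr_dt (f6809 IH) (Lpr_cf (f167774 IH) (Lpe (f8575 IH) (Lpr_gf (f179758 IH) (Lpe (f1416 IH) (Lpn (LP (LK LD1_c0 LD2_c26 LD3_c27))))))))))))
theorem f172326 : Led Lsl_gt (LP (LK LD1_c0 LD2_c16 LD3_c2)) = (LP (LK LD1_c0 LD2_c35 LD3_c58)) :=
  Lre_g IH (LK LD1_c0 LD2_c16 LD3_c2) (LK LD1_c0 LD2_c35 LD3_c58) Lrfl Lrfl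
theorem f171860 : Led Lsl_ct (LP (LK LD1_c0 LD2_c16 LD3_c18)) = (LP (LK LD1_c0 LD2_c36 LD3_c34)) :=
  Lre_c IH (LK LD1_c0 LD2_c16 LD3_c18) (LK LD1_c0 LD2_c36 LD3_c34) Lrfl Lrfl
theorem f179518 : Led Lsl_cf (LP (LK LD1_c0 LD2_c54 LD3_c45)) = (LP (LK LD1_c0 LD2_c35 LD3_c58)) :=
  Lgr Lrot166 (Lpr_gt (f179510 IH) (Lpr_dt (f40751 IH) (Lpe (f171755 IH) (Lpr_dt (f170084 IH) (Lpr_ct (f171860 IH) (Lpe (f179182 IH) (Lpe (f168230 IH) (Lpe (f172857 IH) (Lpe (f174126 IH) (Lpn (LP (LK LD1_c0 LD2_c35 LD3_c58))))))))))))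
theorem f168854 : Led Lsl_ct (LP (LK LD1_c0 LD2_c16 LD3_c24)) = (LP (LK LD1_c0 LD2_c36 LD3_c44)) :=
  Lre_c IH (LK LD1_c0 LD2_c16 LD3_c24) (LK LD1_c0 LD2_c36 LD3_c44) Lrfl Lrfl
theorem f183256 : Led Lsl_ct (LP (LK LD1_c0 LD2_c26 LD3_c27)) = (LP (LK LD1_c0 LD2_c14 LD3_c4)) :=
  Lgr Lrot152 (Lpe (f183229 IH) (Lpr_df (f183243 IH) (Lpr_gt (f168089 IH) (Lpr_ct (f174112 IH) (Lpr_gt (f172326 IH) (Lpe (f179518 IH) (Lpr_df (f171261 IH) (Lpe (f168854 IH) (Lpe (f178867 IH) (Lpn (LP (LK LD1_c0 LD2_c14 LD3_c4))))))))))))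
theorem f178865 : Led Lsl_dt (LP (LK LD1_c0 LD2_c58 LD3_c17)) = (LP (LK LD1_c0 LD2_c26 LD3_c27)) :=
  Lre_d IH (LK LD1_c0 LD2_c58 LD3_c17) (LK LD1_c0 LD2_c26 LD3_c27) Lrfl Lrfl
theorem f20687 : Led Lsl_dt (LP (LK LD1_c0 LD2_c28 LD3_c49)) = (LP (LK LD1_c0 LD2_c14 LD3_c4)) :=
  Lgr Lrot42 (Lpr_df (f20684 IH) (Lpn (LP (LK LD1_c0 LD2_c14 LD3_c4))))
theorem f183304 : Led Lsl_gf (LP (LK LD1_c0 LD2_c58 LD3_c17)) = (LP (LK LD1_c0 LD2_c28 LD3_c36)) :=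
  Lgr Lrot154 (Lpr_dt (f178865 IH) (Lpr_ct (f183256 IH) (Lpe (f20687 IH) (Lpe (f6856 IH) (Lpe (f6855 IH) (Lpe (f6854 IH) (Lpr_ct (f20641 IH) (Lpr_gt (f8579 IH) (Lpr_dt (f20695 IH) (Lpn (LP (LK LD1_c0 LD2_c28 LD3_c36))))))))))))
theorem f173204 : Led Lsl_et (LP (LK LD1_c0 LD2_c12 LD3_c38)) = (LP (LK LD1_c0 LD2_c28 LD3_c37)) :=
  Lre_e IH (LK LD1_c0 LD2_c12 LD3_c38) (LK LD1_c0 LD2_c28 LD3_c37) Lrfl Lrfl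
theorem f173196 : Led Lsl_gt (LP (LK LD1_c1 LD2_c2 LD3_c47)) = (LP (LK LD1_c0 LD2_c28 LD3_c37)) :=
  Lre_g IH (LK LD1_c1 LD2_c2 LD3_c47) (LK LD1_c0 LD2_c28 LD3_c37) Lrfl Lrfl
theorem f183328 : Led Lsl_et (LP (LK LD1_c0 LD2_c31 LD3_c38)) = (LP (LK LD1_c1 LD2_c2 LD3_c47)) :=
  Lgr Lrot185 (Lpe (f171155 IH) (Lpe (f1386 IH) (Lpe (K0.f483 IH) (Lpe (f524 IH) (Lpe (f1415 IH) (Lpr_dt (f1416 IH) (Lpr_gf (f183304 IH) (Lpe (f20695 IH) (Lpr_et (f173204 IH) (Lpe (f173196 IH) (Lpn (LP (LK LD1_c1 LD2_c2 LD3_c47)))))))))))))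
theorem f6965 : Led Lsl_et (LP (LK LD1_c0 LD2_c7 LD3_c56)) = (LP (LK LD1_c0 LD2_c3 LD3_c37)) :=
  Lre_e IH (LK LD1_c0 LD2_c7 LD3_c56) (LK LD1_c0 LD2_c3 LD3_c37) Lrfl Lrfl
theorem f6966 : Led Lsl_dt (LP (LK LD1_c0 LD2_c7 LD3_c56)) = (LP (LK LD1_c0 LD2_c17 LD3_c36)) :=
  Lre_d IH (LK LD1_c0 LD2_c7 LD3_c56) (LK LD1_c0 LD2_c17 LD3_c36) Lrfl Lrfl
theorem f6967 : Led Lsl_gt (LP (LK LD1_c0 LD2_c39 LD3_c20)) = (LP (LK LD1_c0 LD2_c17 LD3_c36)) :=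
  Lre_g IH (LK LD1_c0 LD2_c39 LD3_c20) (LK LD1_c0 LD2_c17 LD3_c36) Lrfl Lrfl
theorem f183334 : Led Lsl_df (LP (LK LD1_c0 LD2_c39 LD3_c20)) = (LP (LK LD1_c0 LD2_c28 LD3_c37)) :=
  Lgr Lrot135 (Lpr_gt (f6967 IH) (Lpe (f6966 IH) (Lpr_et (f6965 IH) (Lpe (K0.f6878 IH) (Lpe (K0.f1384 IH) (Lpr_dt (K0.f483 IH) (Lpr_gt (f1386 IH) (Lpr_df (f171155 IH) (Lpr_et (f183328 IH) (Lpr_gt (f173196 IH) (Lpn (LP (LK LD1_c0 LD2_c28 LD3_c37)))))))))))))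
theorem f173181 : Led Lsl_et (LP (LK LD1_c0 LD2_c28 LD3_c37)) = (LP (LK LD1_c0 LD2_c12 LD3_c38)) :=
  Lre_e IH (LK LD1_c0 LD2_c28 LD3_c37) (LK LD1_c0 LD2_c12 LD3_c38) Lrfl Lrfl
theorem f7597 : Led Lsl_et (LP (LK LD1_c0 LD2_c36 LD3_c1)) = (LP (LK LD1_c0 LD2_c16 LD3_c3)) :=
  Lre_e IH (LK LD1_c0 LD2_c36 LD3_c1) (LK LD1_c0 LD2_c16 LD3_c3) Lrfl Lrfl
theorem f7599 : Led Lsl_et (LP (LK LD1_c0 LD2_c16 LD3_c3)) = (LP (LK LD1_c0 LD2_c36 LD3_c1)) :=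
  Lre_e IH (LK LD1_c0 LD2_c16 LD3_c3) (LK LD1_c0 LD2_c36 LD3_c1) Lrfl Lrfl
theorem f7601 : Led Lsl_et (LP (LK LD1_c0 LD2_c7 LD3_c13)) = (LP (LK LD1_c0 LD2_c7 LD3_c13)) :=
  Lgr Lrot71 (Lpe (f7598 IH) (Lpe (f7597 IH) (Lpr_df (K0.f7587 IH) (Lpe (f7599 IH) (Lpe (f7600 IH) (Lpn (LP (LK LD1_c0 LD2_c7 LD3_c13))))))))
theorem f181788 : Led Lsl_dt (LP (LK LD1_c0 LD2_c39 LD3_c15)) = (LP (LK LD1_c0 LD2_c28 LD3_c42)) :=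
  Lgr Lrot42 (Lpr_df (f181218 IH) (Lpn (LP (LK LD1_c0 LD2_c28 LD3_c42))))
theorem f183352 : Led Lsl_gf (LP (LK LD1_c0 LD2_c39 LD3_c20)) = (LP (LK LD1_c0 LD2_c35 LD3_c31)) :=
  Lgr Lrot134 (Lpr_df (f183334 IH) (Lpr_et (f173181 IH) (Lpr_gt (f40803 IH) (Lpe (f7601 IH) (Lpr_dt (f7600 IH) (Lpr_gt (f7633 IH) (Lpe (f181788 IH) (Lpr_et (f181178 IH) (Lpr_gt (f181193 IH) (Lpr_dt (K0.f7643 IH) (Lpn (LP (LK LD1_c0 LD2_c35 LD3_c31)))))))))))))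
theorem f183339 : Led Lsl_ct (LP (LK LD1_c0 LD2_c39 LD3_c20)) = (LP (LK LD1_c1 LD2_c25 LD3_c21)) :=
  Lre_c IH (LK LD1_c0 LD2_c39 LD3_c20) (LK LD1_c1 LD2_c25 LD3_c21) Lrfl Lrfl
theorem f7942 : Led Lsl_dt (LP (LK LD1_c1 LD2_c17 LD3_c9)) = (LP (LK LD1_c0 LD2_c35 LD3_c40)) :=
  Lre_d IH (LK LD1_c1 LD2_c17 LD3_c9) (LK LD1_c0 LD2_c35 LD3_c40) Lrfl Lrfl
theorem f179036 : Led Lsl_gt (LP (LK LD1_c0 LD2_c15 LD3_c55)) = (LP (LK LD1_c0 LD2_c17 LD3_c35)) :=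
  Lgr Lrot94 (Lpe (K1.f8458 IH) (Lpr_gt (K0.f9080 IH) (Lpr_dt (f9081 IH) (Lpe (f164304 IH) (Lpe (f21252 IH) (Lpe (K0.f7935 IH) (Lpe (f7942 IH) (Lpr_gf (f179033 IH) (Lpe (f169550 IH) (Lpn (LP (LK LD1_c0 LD2_c17 LD3_c35))))))))))))
theorem f177785 : Led Lsl_cf (LP (LK LD1_c0 LD2_c11 LD3_c36)) = (LP (LK LD1_c0 LD2_c17 LD3_c35)) :=
  Lgr Lrot11 (Lpr_ct (f177779 IH) (Lpn (LP (LK LD1_c0 LD2_c17 LD3_c35))))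
theorem f183354 : Led Lsl_gt (LP (LK LD1_c1 LD2_c25 LD3_c21)) = (LP (LK LD1_c0 LD2_c57 LD3_c24)) :=
  Lgr Lrot150 (Lpe (f183339 IH) (Lpr_gf (f183352 IH) (Lpe (K0.f7643 IH) (Lpr_gt (f179036 IH) (Lpe (f177785 IH) (Lpr_gt (f8257 IH) (Lpr_ct (K1.f21294 IH) (Lpe (K1.f8118 IH) (Lpe (K1.f54853 IH) (Lpn (LP (LK LD1_c0 LD2_c57 LD3_c24))))))))))))
theorem f41054 : Led Lsl_at (LP (LK LD1_c0 LD2_c54 LD3_c47)) = (LP (LK LD1_c0 LD2_c32 LD3_c26)) :=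
  Lgr Lrot100 (Lpr_af (K1.f41049 IH) (Lpn (LP (LK LD1_c0 LD2_c32 LD3_c26))))
theorem f55330 : Led Lsl_at (LP (LK LD1_c0 LD2_c56 LD3_c54)) = (LP (LK LD1_c0 LD2_c57 LD3_c24)) :=
  Lgr Lrot80 (Lpr_ef (K1.f55327 IH) (Lpe (f41054 IH) (Lpr_ef (f54829 IH) (Lpn (LP (LK LD1_c0 LD2_c57 LD3_c24))))))
theorem f183360 : Led Lsl_gf (LP (LK LD1_c1 LD2_c25 LD3_c21)) = (LP (LK LD1_c1 LD2_c59 LD3_c60)) :=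
  Lgr Lrot47 (Lpr_gt (f183354 IH) (Lpe (f55330 IH) (Lpe (K2.f55355 IH) (Lpn (LP (LK LD1_c1 LD2_c59 LD3_c60))))))
theorem f183336 : Led Lsl_bt (LP (LK LD1_c0 LD2_c39 LD3_c20)) = (LP (LK LD1_c1 LD2_c25 LD3_c20)) :=
  Lre_b IH (LK LD1_c0 LD2_c39 LD3_c20) (LK LD1_c1 LD2_c25 LD3_c20) Lrfl Lrfl
theorem f47979 : Led Lsl_ct (LP (LK LD1_c0 LD2_c56 LD3_c55)) = (LP (LK LD1_c1 LD2_c59 LD3_c60)) :=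
  Lre_c IH (LK LD1_c0 LD2_c56 LD3_c55) (LK LD1_c1 LD2_c59 LD3_c60) Lrfl Lrfl
theorem f22032 : Led Lsl_gt (LP (LK LD1_c0 LD2_c26 LD3_c2)) = (LP (LK LD1_c0 LD2_c57 LD3_c23)) :=
  Lre_g IH (LK LD1_c0 LD2_c26 LD3_c2) (LK LD1_c0 LD2_c57 LD3_c23) Lrfl Lrfl
theorem f55428 : Led Lsl_gf (LP (LK LD1_c0 LD2_c56 LD3_c55)) = (LP (LK LD1_c0 LD2_c57 LD3_c23)) :=
  Lgr Lrot76 (Lpr_af (K1.f55423 IH) (Lpe (K1.f54868 IH) (Lpr_gt (f22032 IH) (Lpn (LP (LK LD1_c0 LD2_c57 LD3_c23))))))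
theorem f182587 : Led Lsl_bt (LP (LK LD1_c2 LD2_c0 LD3_c49)) = (LP (LK LD1_c0 LD2_c57 LD3_c23)) :=
  Lre_b IH (LK LD1_c2 LD2_c0 LD3_c49) (LK LD1_c0 LD2_c57 LD3_c23) Lrfl Lrfl
theorem f182588 : Led Lsl_ct (LP (LK LD1_c2 LD2_c0 LD3_c49)) = (LP (LK LD1_c4 LD2_c6 LD3_c54)) :=
  Lre_c IH (LK LD1_c2 LD2_c0 LD3_c49) (LK LD1_c4 LD2_c6 LD3_c54) Lrfl Lrfl
theorem f8522 : Led Lsl_bt (LP (LK LD1_c1 LD2_c25 LD3_c7)) = (LP (LK LD1_c0 LD2_c39 LD3_c22)) :=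
  Lre_b IH (LK LD1_c1 LD2_c25 LD3_c7) (LK LD1_c0 LD2_c39 LD3_c22) Lrfl Lrfl
theorem f8523 : Led Lsl_ct (LP (LK LD1_c1 LD2_c25 LD3_c7)) = (LP (LK LD1_c2 LD2_c58 LD3_c49)) :=
  Lre_c IH (LK LD1_c1 LD2_c25 LD3_c7) (LK LD1_c2 LD2_c58 LD3_c49) Lrfl Lrfl
theorem f8549 : Led Lsl_gt (LP (LK LD1_c6 LD2_c4 LD3_c28)) = (LP (LK LD1_c2 LD2_c58 LD3_c49)) :=
  Lre_g IH (LK LD1_c6 LD2_c4 LD3_c28) (LK LD1_c2 LD2_c58 LD3_c49) Lrfl Lrfl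
theorem f182549 : Led Lsl_bt (LP (LK LD1_c0 LD2_c25 LD3_c47)) = (LP (LK LD1_c0 LD2_c56 LD3_c50)) :=
  Lre_b IH (LK LD1_c0 LD2_c25 LD3_c47) (LK LD1_c0 LD2_c56 LD3_c50) Lrfl Lrfl
theorem f182550 : Led Lsl_gt (LP (LK LD1_c0 LD2_c56 LD3_c50)) = (LP (LK LD1_c1 LD2_c59 LD3_c51)) :=
  Lre_g IH (LK LD1_c0 LD2_c56 LD3_c50) (LK LD1_c1 LD2_c59 LD3_c51) Lrfl Lrfl
theorem f55049 : Led Lsl_bt (LP (LK LD1_c4 LD2_c5 LD3_c17)) = (LP (LK LD1_c1 LD2_c59 LD3_c51)) :=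
  Lre_b IH (LK LD1_c4 LD2_c5 LD3_c17) (LK LD1_c1 LD2_c59 LD3_c51) Lrfl Lrfl
theorem f182551 : Led Lsl_cf (LP (LK LD1_c6 LD2_c4 LD3_c28)) = (LP (LK LD1_c4 LD2_c5 LD3_c17)) :=
  Lgr Lrot160 (Lpr_gt (f8549 IH) (Lpe (f8523 IH) (Lpr_bt (f8522 IH) (Lpr_gt (f8545 IH) (Lpr_ct (f8421 IH) (Lpr_gt (f182517 IH) (Lpe (K1.f55349 IH) (Lpr_bt (f182549 IH) (Lpr_gt (f182550 IH) (Lpe (f55049 IH) (Lpn (LP (LK LD1_c4 LD2_c5 LD3_c17)))))))))))))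
theorem f42505 : Led Lsl_gt (LP (LK LD1_c2 LD2_c58 LD3_c26)) = (LP (LK LD1_c6 LD2_c4 LD3_c28)) :=
  Lre_g IH (LK LD1_c2 LD2_c58 LD3_c26) (LK LD1_c6 LD2_c4 LD3_c28) Lrfl Lrfl
theorem f41764 : Led Lsl_ct (LP (LK LD1_c1 LD2_c24 LD3_c56)) = (LP (LK LD1_c2 LD2_c58 LD3_c26)) :=
  Lre_c IH (LK LD1_c1 LD2_c24 LD3_c56) (LK LD1_c2 LD2_c58 LD3_c26) Lrfl Lrfl
theorem f42511 : Led Lsl_bt (LP (LK LD1_c2 LD2_c37 LD3_c44)) = (LP (LK LD1_c1 LD2_c16 LD3_c0)) :=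
  Lre_b IH (LK LD1_c2 LD2_c37 LD3_c44) (LK LD1_c1 LD2_c16 LD3_c0) Lrfl Lrfl
theorem f46217 : Led Lsl_gt (LP (LK LD1_c1 LD2_c59 LD3_c51)) = (LP (LK LD1_c4 LD2_c5 LD3_c6)) :=
  Lre_g IH (LK LD1_c1 LD2_c59 LD3_c51) (LK LD1_c4 LD2_c5 LD3_c6) Lrfl Lrfl
theorem f55048 : Led Lsl_ct (LP (LK LD1_c4 LD2_c6 LD3_c16)) = (LP (LK LD1_c8 LD2_c13 LD3_c8)) :=
  Lre_c IH (LK LD1_c4 LD2_c6 LD3_c16) (LK LD1_c8 LD2_c13 LD3_c8) Lrfl Lrfl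
theorem f55050 : Led Lsl_gt (LP (LK LD1_c8 LD2_c13 LD3_c8)) = (LP (LK LD1_c4 LD2_c6 LD3_c39)) :=
  Lre_g IH (LK LD1_c8 LD2_c13 LD3_c8) (LK LD1_c4 LD2_c6 LD3_c39) Lrfl Lrfl
theorem f182571 : Led Lsl_ct (LP (LK LD1_c2 LD2_c37 LD3_c44)) = (LP (LK LD1_c4 LD2_c6 LD3_c39)) :=
  Lgr Lrot10 (Lpr_bt (f42511 IH) (Lpr_gt (K1.f42491 IH) (Lpr_ct (f41764 IH) (Lpr_gt (f42505 IH) (Lpr_cf (f182551 IH) (Lpr_bt (f55049 IH) (Lpr_gt (f46217 IH) (Lpr_bf (K1.f55025 IH) (Lpr_ct (f55048 IH) (Lpr_gt (f55050 IH) (Lpn (LP (LK LD1_c4 LD2_c6 LD3_c39)))))))))))))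
theorem f31411 : Led Lsl_bt (LP (LK LD1_c2 LD2_c7 LD3_c61)) = (LP (LK LD1_c4 LD2_c20 LD3_c54)) :=
  Lre_b IH (LK LD1_c2 LD2_c7 LD3_c61) (LK LD1_c4 LD2_c20 LD3_c54) Lrfl Lrfl
theorem f28714 : Led Lsl_ct (LP (LK LD1_c2 LD2_c7 LD3_c61)) = (LP (LK LD1_c4 LD2_c20 LD3_c60)) :=
  Lre_c IH (LK LD1_c2 LD2_c7 LD3_c61) (LK LD1_c4 LD2_c20 LD3_c60) Lrfl Lrfl
theorem f54961 : Led Lsl_gt (LP (LK LD1_c4 LD2_c6 LD3_c39)) = (LP (LK LD1_c2 LD2_c0 LD3_c39)) :=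
  Lre_g IH (LK LD1_c4 LD2_c6 LD3_c39) (LK LD1_c2 LD2_c0 LD3_c39) Lrfl Lrfl
theorem f54661 : Led Lsl_ct (LP (LK LD1_c0 LD2_c57 LD3_c16)) = (LP (LK LD1_c2 LD2_c0 LD3_c39)) :=
  Lre_c IH (LK LD1_c0 LD2_c57 LD3_c16) (LK LD1_c2 LD2_c0 LD3_c39) Lrfl Lrfl
theorem f54858 : Led Lsl_bt (LP (LK LD1_c0 LD2_c57 LD3_c16)) = (LP (LK LD1_c0 LD2_c26 LD3_c2)) :=
  Lre_b IH (LK LD1_c0 LD2_c57 LD3_c16) (LK LD1_c0 LD2_c26 LD3_c2) Lrfl Lrfl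
theorem f182589 : Led Lsl_gf (LP (LK LD1_c4 LD2_c20 LD3_c60)) = (LP (LK LD1_c4 LD2_c6 LD3_c54)) :=
  Lgr Lrot126 (Lpe (f28714 IH) (Lpr_bt (f31411 IH) (Lpe (f182095 IH) (Lpr_ct (f182571 IH) (Lpr_gt (f54961 IH) (Lpe (f54661 IH) (Lpr_bt (f54858 IH) (Lpr_gt (f22032 IH) (Lpe (f182587 IH) (Lpr_ct (f182588 IH) (Lpn (LP (LK LD1_c4 LD2_c6 LD3_c54)))))))))))))
theorem f31191 : Led Lsl_ct (LP (LK LD1_c2 LD2_c7 LD3_c55)) = (LP (LK LD1_c4 LD2_c20 LD3_c51)) :=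
  Lre_c IH (LK LD1_c2 LD2_c7 LD3_c55) (LK LD1_c4 LD2_c20 LD3_c51) Lrfl Lrfl
theorem f28700 : Led Lsl_ct (LP (LK LD1_c4 LD2_c20 LD3_c60)) = (LP (LK LD1_c2 LD2_c7 LD3_c61)) :=
  Lre_c IH (LK LD1_c4 LD2_c20 LD3_c60) (LK LD1_c2 LD2_c7 LD3_c61) Lrfl Lrfl
theorem f31205 : Led Lsl_at (LP (LK LD1_c4 LD2_c20 LD3_c51)) = (LP (LK LD1_c4 LD2_c20 LD3_c60)) :=
  Lgr Lrot107 (Lpe (f31191 IH) (Lpr_af (K0.f31187 IH) (Lpe (f28700 IH) (Lpn (LP (LK LD1_c4 LD2_c20 LD3_c60))))))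
theorem f31409 : Led Lsl_ft (LP (LK LD1_c2 LD2_c7 LD3_c54)) = (LP (LK LD1_c4 LD2_c20 LD3_c51)) :=
  Lre_f IH (LK LD1_c2 LD2_c7 LD3_c54) (LK LD1_c4 LD2_c20 LD3_c51) Lrfl Lrfl
theorem f182591 : Led Lsl_gt (LP (LK LD1_c2 LD2_c7 LD3_c54)) = (LP (LK LD1_c4 LD2_c6 LD3_c54)) :=
  Lgr Lrot5 (Lpr_ft (f31409 IH) (Lpr_at (f31205 IH) (Lpr_gf (f182589 IH) (Lpn (LP (LK LD1_c4 LD2_c6 LD3_c54))))))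
theorem f31282 : Led Lsl_ct (LP (LK LD1_c1 LD2_c1 LD3_c2)) = (LP (LK LD1_c2 LD2_c7 LD3_c54)) :=
  Lre_c IH (LK LD1_c1 LD2_c1 LD3_c2) (LK LD1_c2 LD2_c7 LD3_c54) Lrfl Lrfl
theorem f45694 : Led Lsl_bt (LP (LK LD1_c1 LD2_c1 LD3_c2)) = (LP (LK LD1_c0 LD2_c59 LD3_c29)) :=
  Lgr Lrot95 (Lpe (K0.f31131 IH) (Lpr_bf (K1.f45387 IH) (Lpe (K1.f45131 IH) (Lpn (LP (LK LD1_c0 LD2_c59 LD3_c29))))))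
theorem f183491 : Led Lsl_gt (LP (LK LD1_c1 LD2_c25 LD3_c20)) = (LP (LK LD1_c0 LD2_c59 LD3_c29)) :=
  Lgr Lrot164 (Lpe (f183336 IH) (Lpr_ct (f183339 IH) (Lpr_gf (f183360 IH) (Lpe (f47979 IH) (Lpr_gf (f55428 IH) (Lpe (f182587 IH) (Lpr_ct (f182588 IH) (Lpe (f182591 IH) (Lpe (f31282 IH) (Lpr_bt (f45694 IH) (Lpn (LP (LK LD1_c0 LD2_c59 LD3_c29)))))))))))))
theorem f45132 : Led Lsl_af (LP (LK LD1_c0 LD2_c59 LD3_c29)) = (LP (LK LD1_c0 LD2_c59 LD3_c34)) :=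
  Lgr Lrot117 (Lpr_dt (K1.f45131 IH) (Lpr_at (K1.f45126 IH) (Lpr_dt (K1.f752 IH) (Lpn (LP (LK LD1_c0 LD2_c59 LD3_c34))))))
theorem f45187 : Led Lsl_ft (LP (LK LD1_c2 LD2_c5 LD3_c0)) = (LP (LK LD1_c0 LD2_c59 LD3_c34)) :=
  Lre_f IH (LK LD1_c2 LD2_c5 LD3_c0) (LK LD1_c0 LD2_c59 LD3_c34) Lrfl Lrfl
theorem f183493 : Led Lsl_gf (LP (LK LD1_c1 LD2_c25 LD3_c20)) = (LP (LK LD1_c2 LD2_c5 LD3_c0)) :=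
  Lgr Lrot47 (Lpr_gt (f183491 IH) (Lpr_af (f45132 IH) (Lpe (f45187 IH) (Lpn (LP (LK LD1_c2 LD2_c5 LD3_c0))))))
theorem f54970 : Led Lsl_bt (LP (LK LD1_c0 LD2_c26 LD3_c2)) = (LP (LK LD1_c0 LD2_c57 LD3_c16)) :=
  Lre_b IH (LK LD1_c0 LD2_c26 LD3_c2) (LK LD1_c0 LD2_c57 LD3_c16) Lrfl Lrfl
theorem f55009 : Led Lsl_gt (LP (LK LD1_c0 LD2_c57 LD3_c16)) = (LP (LK LD1_c2 LD2_c0 LD3_c37)) :=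
  Lre_g IH (LK LD1_c0 LD2_c57 LD3_c16) (LK LD1_c2 LD2_c0 LD3_c37) Lrfl Lrfl
theorem f182697 : Led Lsl_ct (LP (LK LD1_c2 LD2_c0 LD3_c37)) = (LP (LK LD1_c4 LD2_c6 LD3_c33)) :=
  Lre_c IH (LK LD1_c2 LD2_c0 LD3_c37) (LK LD1_c4 LD2_c6 LD3_c33) Lrfl Lrfl
theorem f182713 : Led Lsl_gt (LP (LK LD1_c4 LD2_c6 LD3_c33)) = (LP (LK LD1_c8 LD2_c13 LD3_c37)) :=
  Lre_g IH (LK LD1_c4 LD2_c6 LD3_c33) (LK LD1_c8 LD2_c13 LD3_c37) Lrfl Lrfl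
theorem f54505 : Led Lsl_bt (LP (LK LD1_c4 LD2_c15 LD3_c6)) = (LP (LK LD1_c2 LD2_c5 LD3_c0)) :=
  Lre_b IH (LK LD1_c4 LD2_c15 LD3_c6) (LK LD1_c2 LD2_c5 LD3_c0) Lrfl Lrfl
theorem f183502 : Led Lsl_cf (LP (LK LD1_c8 LD2_c13 LD3_c37)) = (LP (LK LD1_c4 LD2_c15 LD3_c6)) :=
  Lgr Lrot163 (Lpe (f182713 IH) (Lpe (f182697 IH) (Lpe (f55009 IH) (Lpe (f54970 IH) (Lpr_ct (K1.f54843 IH) (Lpe (f183354 IH) (Lpe (f183339 IH) (Lpr_bt (f183336 IH) (Lpr_gf (f183493 IH) (Lpe (f54505 IH) (Lpn (LP (LK LD1_c4 LD2_c15 LD3_c6)))))))))))))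
theorem f183509 : Led Lsl_ct (LP (LK LD1_c8 LD2_c13 LD3_c37)) = (LP (LK LD1_c4 LD2_c15 LD3_c6)) :=
  Lgr Lrot59 (Lpr_cf (f183502 IH) (Lpn (LP (LK LD1_c4 LD2_c15 LD3_c6))))
theorem f54973 : Led Lsl_dt (LP (LK LD1_c0 LD2_c57 LD3_c16)) = (LP (LK LD1_c0 LD2_c25 LD3_c61)) :=
  Lre_d IH (LK LD1_c0 LD2_c57 LD3_c16) (LK LD1_c0 LD2_c25 LD3_c61) Lrfl Lrfl
theorem f54977 : Led Lsl_gt (LP (LK LD1_c0 LD2_c25 LD3_c61)) = (LP (LK LD1_c0 LD2_c57 LD3_c14)) :=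
  Lre_g IH (LK LD1_c0 LD2_c25 LD3_c61) (LK LD1_c0 LD2_c57 LD3_c14) Lrfl Lrfl
theorem f179074 : Led Lsl_ct (LP (LK LD1_c0 LD2_c57 LD3_c14)) = (LP (LK LD1_c2 LD2_c0 LD3_c30)) :=
  Lre_c IH (LK LD1_c0 LD2_c57 LD3_c14) (LK LD1_c2 LD2_c0 LD3_c30) Lrfl Lrfl
theorem f183612 : Led Lsl_gt (LP (LK LD1_c2 LD2_c0 LD3_c30)) = (LP (LK LD1_c4 LD2_c6 LD3_c19)) :=
  Lre_g IH (LK LD1_c2 LD2_c0 LD3_c30) (LK LD1_c4 LD2_c6 LD3_c19) Lrfl Lrfl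
theorem f45610 : Led Lsl_dt (LP (LK LD1_c2 LD2_c4 LD3_c57)) = (LP (LK LD1_c4 LD2_c15 LD3_c6)) :=
  Lre_d IH (LK LD1_c2 LD2_c4 LD3_c57) (LK LD1_c4 LD2_c15 LD3_c6) Lrfl Lrfl
theorem f183613 : Led Lsl_ct (LP (LK LD1_c4 LD2_c6 LD3_c19)) = (LP (LK LD1_c2 LD2_c4 LD3_c57)) :=
  Lgr Lrot110 (Lpe (f183612 IH) (Lpe (f179074 IH) (Lpe (f54977 IH) (Lpe (f54973 IH) (Lpr_gt (f55009 IH) (Lpr_ct (f182697 IH) (Lpr_gt (f182713 IH) (Lpr_ct (f183509 IH) (Lpe (f45610 IH) (Lpn (LP (LK LD1_c2 LD2_c4 LD3_c57))))))))))))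
theorem f183619 : Led Lsl_cf (LP (LK LD1_c4 LD2_c6 LD3_c19)) = (LP (LK LD1_c2 LD2_c4 LD3_c57)) :=
  Lgr Lrot11 (Lpr_ct (f183613 IH) (Lpn (LP (LK LD1_c2 LD2_c4 LD3_c57))))
theorem f55012 : Led Lsl_bt (LP (LK LD1_c0 LD2_c11 LD3_c34)) = (LP (LK LD1_c0 LD2_c25 LD3_c61)) :=
  Lre_b IH (LK LD1_c0 LD2_c11 LD3_c34) (LK LD1_c0 LD2_c25 LD3_c61) Lrfl Lrfl
theorem f177783 : Led Lsl_bt (LP (LK LD1_c0 LD2_c17 LD3_c35)) = (LP (LK LD1_c0 LD2_c39 LD3_c16)) :=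
  Lre_b IH (LK LD1_c0 LD2_c17 LD3_c35) (LK LD1_c0 LD2_c39 LD3_c16) Lrfl Lrfl
theorem f45153 : Led Lsl_bt (LP (LK LD1_c2 LD2_c4 LD3_c57)) = (LP (LK LD1_c0 LD2_c59 LD3_c35)) :=
  Lre_b IH (LK LD1_c2 LD2_c4 LD3_c57) (LK LD1_c0 LD2_c59 LD3_c35) Lrfl Lrfl
theorem f183668 : Led Lsl_gf (LP (LK LD1_c0 LD2_c39 LD3_c16)) = (LP (LK LD1_c0 LD2_c59 LD3_c35)) :=
  Lgr Lrot124 (Lpe (f177783 IH) (Lpe (f177785 IH) (Lpr_gt (f8257 IH) (Lpe (K1.f21292 IH) (Lpr_bt (f55012 IH) (Lpr_gt (f54977 IH) (Lpr_ct (f179074 IH) (Lpr_gt (f183612 IH) (Lpr_cf (f183619 IH) (Lpr_bt (f45153 IH) (Lpn (LP (LK LD1_c0 LD2_c59 LD3_c35)))))))))))))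
theorem f45112 : Led Lsl_ft (LP (LK LD1_c0 LD2_c59 LD3_c35)) = (LP (LK LD1_c0 LD2_c27 LD3_c7)) :=
  Lre_f IH (LK LD1_c0 LD2_c59 LD3_c35) (LK LD1_c0 LD2_c27 LD3_c7) Lrfl Lrfl
theorem f45128 : Led Lsl_af (LP (LK LD1_c0 LD2_c27 LD3_c5)) = (LP (LK LD1_c0 LD2_c27 LD3_c7)) :=
  Lgr Lrot0 (Lpr_at (K1.f45126 IH) (Lpn (LP (LK LD1_c0 LD2_c27 LD3_c7))))
theorem f183670 : Led Lsl_gt (LP (LK LD1_c0 LD2_c39 LD3_c16)) = (LP (LK LD1_c0 LD2_c27 LD3_c5)) :=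
  Lgr Lrot46 (Lpr_gf (f183668 IH) (Lpr_ft (f45112 IH) (Lpe (f45128 IH) (Lpn (LP (LK LD1_c0 LD2_c27 LD3_c5))))))
theorem f169545 : Led Lsl_et (LP (LK LD1_c1 LD2_c25 LD3_c14)) = (LP (LK LD1_c0 LD2_c39 LD3_c16)) :=
  Lre_e IH (LK LD1_c1 LD2_c25 LD3_c14) (LK LD1_c0 LD2_c39 LD3_c16) Lrfl Lrfl
theorem f165046 : Led Lsl_dt (LP (LK LD1_c0 LD2_c39 LD3_c17)) = (LP (LK LD1_c0 LD2_c17 LD3_c35)) :=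
  Lre_d IH (LK LD1_c0 LD2_c39 LD3_c17) (LK LD1_c0 LD2_c17 LD3_c35) Lrfl Lrfl
theorem f169453 : Led Lsl_et (LP (LK LD1_c1 LD2_c25 LD3_c16)) = (LP (LK LD1_c0 LD2_c39 LD3_c17)) :=
  Lre_e IH (LK LD1_c1 LD2_c25 LD3_c16) (LK LD1_c0 LD2_c39 LD3_c17) Lrfl Lrfl
theorem f169454 : Led Lsl_et (LP (LK LD1_c1 LD2_c12 LD3_c0)) = (LP (LK LD1_c2 LD2_c30 LD3_c1)) :=
  Lre_e IH (LK LD1_c1 LD2_c12 LD3_c0) (LK LD1_c2 LD2_c30 LD3_c1) Lrfl Lrfl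
theorem f169455 : Led Lsl_df (LP (LK LD1_c1 LD2_c25 LD3_c16)) = (LP (LK LD1_c2 LD2_c30 LD3_c1)) :=
  Lgr Lrot70 (Lpr_et (f169453 IH) (Lpr_dt (f165046 IH) (Lpr_et (f169452 IH) (Lpr_dt (f169443 IH) (Lpr_et (f169454 IH) (Lpn (LP (LK LD1_c2 LD2_c30 LD3_c1))))))))
theorem f169469 : Led Lsl_ft (LP (LK LD1_c1 LD2_c25 LD3_c16)) = (LP (LK LD1_c2 LD2_c59 LD3_c6)) :=
  Lre_f IH (LK LD1_c1 LD2_c25 LD3_c16) (LK LD1_c2 LD2_c59 LD3_c6) Lrfl Lrfl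
theorem f169470 : Led Lsl_ft (LP (LK LD1_c5 LD2_c5 LD3_c36)) = (LP (LK LD1_c2 LD2_c30 LD3_c1)) :=
  Lre_f IH (LK LD1_c5 LD2_c5 LD3_c36) (LK LD1_c2 LD2_c30 LD3_c1) Lrfl Lrfl
theorem f169471 : Led Lsl_dt (LP (LK LD1_c2 LD2_c59 LD3_c6)) = (LP (LK LD1_c5 LD2_c5 LD3_c36)) :=
  Lgr Lrot60 (Lpe (f169469 IH) (Lpr_df (f169455 IH) (Lpe (f169470 IH) (Lpn (LP (LK LD1_c5 LD2_c5 LD3_c36))))))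
theorem f169489 : Led Lsl_df (LP (LK LD1_c2 LD2_c59 LD3_c6)) = (LP (LK LD1_c5 LD2_c5 LD3_c36)) :=
  Lgr Lrot38 (Lpr_dt (f169471 IH) (Lpn (LP (LK LD1_c5 LD2_c5 LD3_c36))))
theorem f169493 : Led Lsl_bt (LP (LK LD1_c2 LD2_c59 LD3_c6)) = (LP (LK LD1_c6 LD2_c5 LD3_c52)) :=
  Lre_b IH (LK LD1_c2 LD2_c59 LD3_c6) (LK LD1_c6 LD2_c5 LD3_c52) Lrfl Lrfl
theorem f169494 : Led Lsl_bt (LP (LK LD1_c10 LD2_c2 LD3_c11)) = (LP (LK LD1_c5 LD2_c5 LD3_c36)) :=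
  Lre_b IH (LK LD1_c10 LD2_c2 LD3_c11) (LK LD1_c5 LD2_c5 LD3_c36) Lrfl Lrfl
theorem f169495 : Led Lsl_dt (LP (LK LD1_c6 LD2_c5 LD3_c52)) = (LP (LK LD1_c10 LD2_c2 LD3_c11)) :=
  Lgr Lrot79 (Lpe (f169493 IH) (Lpr_df (f169489 IH) (Lpe (f169494 IH) (Lpn (LP (LK LD1_c10 LD2_c2 LD3_c11))))))
theorem f169501 : Led Lsl_ft (LP (LK LD1_c2 LD2_c59 LD3_c1)) = (LP (LK LD1_c6 LD2_c5 LD3_c52)) :=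
  Lre_f IH (LK LD1_c2 LD2_c59 LD3_c1) (LK LD1_c6 LD2_c5 LD3_c52) Lrfl Lrfl
theorem f169502 : Led Lsl_ft (LP (LK LD1_c10 LD2_c2 LD3_c11)) = (LP (LK LD1_c5 LD2_c5 LD3_c31)) :=
  Lre_f IH (LK LD1_c10 LD2_c2 LD3_c11) (LK LD1_c5 LD2_c5 LD3_c31) Lrfl Lrfl
theorem f169503 : Led Lsl_df (LP (LK LD1_c2 LD2_c59 LD3_c1)) = (LP (LK LD1_c5 LD2_c5 LD3_c31)) :=
  Lgr Lrot78 (Lpr_ft (f169501 IH) (Lpr_dt (f169495 IH) (Lpr_ft (f169502 IH) (Lpn (LP (LK LD1_c5 LD2_c5 LD3_c31))))))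
theorem f169516 : Led Lsl_et (LP (LK LD1_c2 LD2_c59 LD3_c1)) = (LP (LK LD1_c1 LD2_c25 LD3_c13)) :=
  Lre_e IH (LK LD1_c2 LD2_c59 LD3_c1) (LK LD1_c1 LD2_c25 LD3_c13) Lrfl Lrfl
theorem f169517 : Led Lsl_dt (LP (LK LD1_c1 LD2_c25 LD3_c13)) = (LP (LK LD1_c0 LD2_c39 LD3_c16)) :=
  Lre_d IH (LK LD1_c1 LD2_c25 LD3_c13) (LK LD1_c0 LD2_c39 LD3_c16) Lrfl Lrfl
theorem f169518 : Led Lsl_et (LP (LK LD1_c0 LD2_c39 LD3_c16)) = (LP (LK LD1_c1 LD2_c25 LD3_c14)) :=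
  Lre_e IH (LK LD1_c0 LD2_c39 LD3_c16) (LK LD1_c1 LD2_c25 LD3_c14) Lrfl Lrfl
theorem f169519 : Led Lsl_et (LP (LK LD1_c2 LD2_c29 LD3_c61)) = (LP (LK LD1_c5 LD2_c5 LD3_c31)) :=
  Lre_e IH (LK LD1_c2 LD2_c29 LD3_c61) (LK LD1_c5 LD2_c5 LD3_c31) Lrfl Lrfl
theorem f169520 : Led Lsl_dt (LP (LK LD1_c1 LD2_c25 LD3_c14)) = (LP (LK LD1_c2 LD2_c29 LD3_c61)) :=
  Lgr Lrot77 (Lpe (f169518 IH) (Lpe (f169517 IH) (Lpe (f169516 IH) (Lpr_df (f169503 IH) (Lpe (f169519 IH) (Lpn (LP (LK LD1_c2 LD2_c29 LD3_c61))))))))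
theorem f32916 : Led Lsl_gt (LP (LK LD1_c0 LD2_c34 LD3_c38)) = (LP (LK LD1_c1 LD2_c14 LD3_c38)) :=
  Lre_g IH (LK LD1_c0 LD2_c34 LD3_c38) (LK LD1_c1 LD2_c14 LD3_c38) Lrfl Lrfl
theorem f32917 : Led Lsl_dt (LP (LK LD1_c1 LD2_c14 LD3_c38)) = (LP (LK LD1_c2 LD2_c35 LD3_c15)) :=
  Lre_d IH (LK LD1_c1 LD2_c14 LD3_c38) (LK LD1_c2 LD2_c35 LD3_c15) Lrfl Lrfl
theorem f183694 : Led Lsl_gf (LP (LK LD1_c2 LD2_c29 LD3_c61)) = (LP (LK LD1_c2 LD2_c35 LD3_c15)) :=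
  Lgr Lrot134 (Lpe (f169520 IH) (Lpr_et (f169545 IH) (Lpr_gt (f183670 IH) (Lpe (K1.f44535 IH) (Lpr_dt (K1.f45124 IH) (Lpr_gt (K1.f32310 IH) (Lpr_df (K8.f45736 IH) (Lpr_et (K1.f32151 IH) (Lpr_gt (f32916 IH) (Lpr_dt (f32917 IH) (Lpn (LP (LK LD1_c2 LD2_c35 LD3_c15)))))))))))))
theorem f169445 : Led Lsl_bt (LP (LK LD1_c1 LD2_c25 LD3_c14)) = (LP (LK LD1_c0 LD2_c39 LD3_c18)) :=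
  Lre_b IH (LK LD1_c1 LD2_c25 LD3_c14) (LK LD1_c0 LD2_c39 LD3_c18) Lrfl Lrfl
theorem f169446 : Led Lsl_bt (LP (LK LD1_c1 LD2_c12 LD3_c0)) = (LP (LK LD1_c2 LD2_c29 LD3_c61)) :=
  Lre_b IH (LK LD1_c1 LD2_c12 LD3_c0) (LK LD1_c2 LD2_c29 LD3_c61) Lrfl Lrfl
theorem f169447 : Led Lsl_df (LP (LK LD1_c1 LD2_c25 LD3_c14)) = (LP (LK LD1_c2 LD2_c29 LD3_c61)) :=
  Lgr Lrot12 (Lpr_bt (f169445 IH) (Lpr_dt (f169443 IH) (Lpr_bt (f169446 IH) (Lpn (LP (LK LD1_c2 LD2_c29 LD3_c61))))))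
theorem f169565 : Led Lsl_ct (LP (LK LD1_c1 LD2_c25 LD3_c14)) = (LP (LK LD1_c2 LD2_c58 LD3_c60)) :=
  Lre_c IH (LK LD1_c1 LD2_c25 LD3_c14) (LK LD1_c2 LD2_c58 LD3_c60) Lrfl Lrfl
theorem f169538 : Led Lsl_dt (LP (LK LD1_c6 LD2_c5 LD3_c44)) = (LP (LK LD1_c2 LD2_c58 LD3_c60)) :=
  Lre_d IH (LK LD1_c6 LD2_c5 LD3_c44) (LK LD1_c2 LD2_c58 LD3_c60) Lrfl Lrfl
theorem f32421 : Led Lsl_ct (LP (LK LD1_c1 LD2_c14 LD3_c37)) = (LP (LK LD1_c0 LD2_c34 LD3_c38)) :=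
  Lre_c IH (LK LD1_c1 LD2_c14 LD3_c37) (LK LD1_c0 LD2_c34 LD3_c38) Lrfl Lrfl
theorem f165859 : Led Lsl_dt (LP (LK LD1_c2 LD2_c28 LD3_c12)) = (LP (LK LD1_c5 LD2_c0 LD3_c57)) :=
  Lre_d IH (LK LD1_c2 LD2_c28 LD3_c12) (LK LD1_c5 LD2_c0 LD3_c57) Lrfl Lrfl
theorem f183697 : Led Lsl_gf (LP (LK LD1_c6 LD2_c5 LD3_c44)) = (LP (LK LD1_c5 LD2_c0 LD3_c57)) :=
  Lgr Lrot143 (Lpr_dt (f169538 IH) (Lpe (f169565 IH) (Lpr_df (f169447 IH) (Lpr_gf (f183694 IH) (Lpe (f32917 IH) (Lpe (f32916 IH) (Lpe (f32421 IH) (Lpr_gt (f165855 IH) (Lpr_dt (f165859 IH) (Lpn (LP (LK LD1_c5 LD2_c0 LD3_c57))))))))))))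
theorem f169566 : Led Lsl_dt (LP (LK LD1_c2 LD2_c58 LD3_c60)) = (LP (LK LD1_c6 LD2_c5 LD3_c44)) :=
  Lre_d IH (LK LD1_c2 LD2_c58 LD3_c60) (LK LD1_c6 LD2_c5 LD3_c44) Lrfl Lrfl
theorem f183701 : Led Lsl_et (LP (LK LD1_c2 LD2_c58 LD3_c60)) = (LP (LK LD1_c1 LD2_c25 LD3_c12)) :=
  Lre_e IH (LK LD1_c2 LD2_c58 LD3_c60) (LK LD1_c1 LD2_c25 LD3_c12) Lrfl Lrfl
theorem f32922 : Led Lsl_et (LP (LK LD1_c0 LD2_c34 LD3_c37)) = (LP (LK LD1_c1 LD2_c14 LD3_c37)) :=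
  Lre_e IH (LK LD1_c0 LD2_c34 LD3_c37) (LK LD1_c1 LD2_c14 LD3_c37) Lrfl Lrfl
theorem f45722 : Led Lsl_dt (LP (LK LD1_c0 LD2_c34 LD3_c37)) = (LP (LK LD1_c0 LD2_c57 LD3_c37)) :=
  Lgr Lrot105 (Lpe (K1.f32132 IH) (Lpe (K1.f44920 IH) (Lpr_gf (K1.f45716 IH) (Lpe (K1.f45706 IH) (Lpr_gt (K1.f746 IH) (Lpr_dt (K0.f1427 IH) (Lpe (K1.f45716 IH) (Lpr_dt (K1.f44920 IH) (Lpe (K1.f44927 IH) (Lpn (LP (LK LD1_c0 LD2_c57 LD3_c37))))))))))))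
theorem f183705 : Led Lsl_gt (LP (LK LD1_c1 LD2_c25 LD3_c12)) = (LP (LK LD1_c0 LD2_c59 LD3_c7)) :=
  Lgr Lrot131 (Lpe (f183701 IH) (Lpr_dt (f169566 IH) (Lpr_gf (f183697 IH) (Lpe (f165859 IH) (Lpe (f165855 IH) (Lpe (f32922 IH) (Lpr_dt (f45722 IH) (Lpe (K1.f744 IH) (Lpr_df (K1.f44959 IH) (Lpr_et (K8.f44972 IH) (Lpn (LP (LK LD1_c0 LD2_c59 LD3_c7)))))))))))))
theorem f49427 : Led Lsl_af (LP (LK LD1_c0 LD2_c59 LD3_c7)) = (LP (LK LD1_c0 LD2_c59 LD3_c9)) :=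
  Lgr Lrot0 (Lpr_at (K8.f49425 IH) (Lpn (LP (LK LD1_c0 LD2_c59 LD3_c9))))
theorem f49543 : Led Lsl_ft (LP (LK LD1_c2 LD2_c4 LD3_c15)) = (LP (LK LD1_c0 LD2_c59 LD3_c9)) :=
  Lre_f IH (LK LD1_c2 LD2_c4 LD3_c15) (LK LD1_c0 LD2_c59 LD3_c9) Lrfl Lrfl
theorem f183707 : Led Lsl_gf (LP (LK LD1_c1 LD2_c25 LD3_c12)) = (LP (LK LD1_c2 LD2_c4 LD3_c15)) :=
  Lgr Lrot47 (Lpr_gt (f183705 IH) (Lpr_af (f49427 IH) (Lpe (f49543 IH) (Lpn (LP (LK LD1_c2 LD2_c4 LD3_c15))))))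
theorem f177784 : Led Lsl_ct (LP (LK LD1_c0 LD2_c39 LD3_c16)) = (LP (LK LD1_c1 LD2_c25 LD3_c12)) :=
  Lre_c IH (LK LD1_c0 LD2_c39 LD3_c16) (LK LD1_c1 LD2_c25 LD3_c12) Lrfl Lrfl
theorem f179065 : Led Lsl_bt (LP (LK LD1_c0 LD2_c39 LD3_c16)) = (LP (LK LD1_c0 LD2_c17 LD3_c35)) :=
  Lre_b IH (LK LD1_c0 LD2_c39 LD3_c16) (LK LD1_c0 LD2_c17 LD3_c35) Lrfl Lrfl
theorem f9091 : Led Lsl_ct (LP (LK LD1_c0 LD2_c17 LD3_c38)) = (LP (LK LD1_c0 LD2_c7 LD3_c57)) :=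
  Lre_c IH (LK LD1_c0 LD2_c17 LD3_c38) (LK LD1_c0 LD2_c7 LD3_c57) Lrfl Lrfl
theorem f9093 : Led Lsl_bt (LP (LK LD1_c0 LD2_c17 LD3_c38)) = (LP (LK LD1_c0 LD2_c39 LD3_c23)) :=
  Lre_b IH (LK LD1_c0 LD2_c17 LD3_c38) (LK LD1_c0 LD2_c39 LD3_c23) Lrfl Lrfl
theorem f28125 : Led Lsl_ft (LP (LK LD1_c0 LD2_c56 LD3_c5)) = (LP (LK LD1_c0 LD2_c25 LD3_c27)) :=
  Lre_f IH (LK LD1_c0 LD2_c56 LD3_c5) (LK LD1_c0 LD2_c25 LD3_c27) Lrfl Lrfl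
theorem f28092 : Led Lsl_dt (LP (LK LD1_c0 LD2_c56 LD3_c5)) = (LP (LK LD1_c1 LD2_c58 LD3_c28)) :=
  Lre_d IH (LK LD1_c0 LD2_c56 LD3_c5) (LK LD1_c1 LD2_c58 LD3_c28) Lrfl Lrfl
theorem f50135 : Led Lsl_ct (LP (LK LD1_c1 LD2_c58 LD3_c28)) = (LP (LK LD1_c4 LD2_c2 LD3_c55)) :=
  Lre_c IH (LK LD1_c1 LD2_c58 LD3_c28) (LK LD1_c4 LD2_c2 LD3_c55) Lrfl Lrfl
theorem f50136 : Led Lsl_dt (LP (LK LD1_c4 LD2_c2 LD3_c55)) = (LP (LK LD1_c8 LD2_c6 LD3_c29)) :=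
  Lre_d IH (LK LD1_c4 LD2_c2 LD3_c55) (LK LD1_c8 LD2_c6 LD3_c29) Lrfl Lrfl
theorem f50137 : Led Lsl_ct (LP (LK LD1_c8 LD2_c6 LD3_c29)) = (LP (LK LD1_c4 LD2_c8 LD3_c25)) :=
  Lre_c IH (LK LD1_c8 LD2_c6 LD3_c29) (LK LD1_c4 LD2_c8 LD3_c25) Lrfl Lrfl
theorem f888 : Led Lsl_dt (LP (LK LD1_c4 LD2_c8 LD3_c25)) = (LP (LK LD1_c2 LD2_c1 LD3_c34)) :=
  Lre_d IH (LK LD1_c4 LD2_c8 LD3_c25) (LK LD1_c2 LD2_c1 LD3_c34) Lrfl Lrfl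
theorem f792 : Led Lsl_ct (LP (LK LD1_c2 LD2_c1 LD3_c34)) = (LP (LK LD1_c0 LD2_c57 LD3_c49)) :=
  Lre_c IH (LK LD1_c2 LD2_c1 LD3_c34) (LK LD1_c0 LD2_c57 LD3_c49) Lrfl Lrfl
theorem f766 : Led Lsl_dt (LP (LK LD1_c0 LD2_c57 LD3_c49)) = (LP (LK LD1_c0 LD2_c26 LD3_c17)) :=
  Lre_d IH (LK LD1_c0 LD2_c57 LD3_c49) (LK LD1_c0 LD2_c26 LD3_c17) Lrfl Lrfl
theorem f50138 : Led Lsl_ct (LP (LK LD1_c0 LD2_c26 LD3_c17)) = (LP (LK LD1_c0 LD2_c34 LD3_c36)) :=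
  Lgr Lrot98 (Lpe (f766 IH) (Lpe (f792 IH) (Lpe (f888 IH) (Lpe (f50137 IH) (Lpe (f50136 IH) (Lpe (f50135 IH) (Lpe (f28092 IH) (Lpr_ft (f28125 IH) (Lpr_at (f50118 IH) (Lpn (LP (LK LD1_c0 LD2_c34 LD3_c36))))))))))))
theorem f50150 : Led Lsl_ft (LP (LK LD1_c4 LD2_c2 LD3_c55)) = (LP (LK LD1_c1 LD2_c58 LD3_c27)) :=
  Lre_f IH (LK LD1_c4 LD2_c2 LD3_c55) (LK LD1_c1 LD2_c58 LD3_c27) Lrfl Lrfl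
theorem f32161 : Led Lsl_dt (LP (LK LD1_c0 LD2_c34 LD3_c36)) = (LP (LK LD1_c1 LD2_c14 LD3_c36)) :=
  Lre_d IH (LK LD1_c0 LD2_c34 LD3_c36) (LK LD1_c1 LD2_c14 LD3_c36) Lrfl Lrfl
theorem f49315 : Led Lsl_ct (LP (LK LD1_c1 LD2_c14 LD3_c36)) = (LP (LK LD1_c2 LD2_c35 LD3_c12)) :=
  Lre_c IH (LK LD1_c1 LD2_c14 LD3_c36) (LK LD1_c2 LD2_c35 LD3_c12) Lrfl Lrfl
theorem f50151 : Led Lsl_at (LP (LK LD1_c1 LD2_c58 LD3_c27)) = (LP (LK LD1_c2 LD2_c35 LD3_c12)) :=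
  Lgr Lrot33 (Lpe (f50150 IH) (Lpr_dt (f50136 IH) (Lpr_ct (f50137 IH) (Lpr_dt (f888 IH) (Lpr_ct (f792 IH) (Lpr_dt (f766 IH) (Lpr_ct (f50138 IH) (Lpr_dt (f32161 IH) (Lpr_ct (f49315 IH) (Lpn (LP (LK LD1_c2 LD2_c35 LD3_c12))))))))))))
theorem f41869 : Led Lsl_df (LP (LK LD1_c0 LD2_c25 LD3_c44)) = (LP (LK LD1_c0 LD2_c25 LD3_c59)) :=
  Lgr Lrot155 (Lpr_gt (K1.f41866 IH) (Lpr_ct (K1.f41854 IH) (Lpr_gt (K1.f20622 IH) (Lpr_ct (K1.f29004 IH) (Lpr_dt (K1.f29003 IH) (Lpr_cf (K0.f29001 IH) (Lpe (K0.f418 IH) (Lpe (K0.f28188 IH) (Lpe (K1.f28810 IH) (Lpn (LP (LK LD1_c0 LD2_c25 LD3_c59))))))))))))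
theorem f47530 : Led Lsl_gf (LP (LK LD1_c0 LD2_c26 LD3_c14)) = (LP (LK LD1_c0 LD2_c27 LD3_c57)) :=
  Lgr Lrot147 (Lpr_ct (K1.f47508 IH) (Lpe (K1.f44573 IH) (Lpr_ct (K1.f44576 IH) (Lpr_df (f41869 IH) (Lpr_cf (K1.f44480 IH) (Lpe (K1.f47498 IH) (Lpe (K1.f8075 IH) (Lpr_gf (K1.f45732 IH) (Lpr_df (K1.f41852 IH) (Lpn (LP (LK LD1_c0 LD2_c27 LD3_c57))))))))))))
theorem f49214 : Led Lsl_dt (LP (LK LD1_c0 LD2_c26 LD3_c14)) = (LP (LK LD1_c0 LD2_c34 LD3_c35)) :=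
  Lgr Lrot182 (Lpr_gf (f47530 IH) (Lpe (K1.f41873 IH) (Lpr_cf (K1.f41884 IH) (Lpr_df (K1.f47799 IH) (Lpe (K1.f45779 IH) (Lpe (K8.f8074 IH) (Lpr_cf (K8.f45792 IH) (Lpe (K8.f47504 IH) (Lpr_gf (K1.f45732 IH) (Lpe (K0.f29000 IH) (Lpe (K0.f28808 IH) (Lpe (K1.f29003 IH) (Lpe (K1.f47801 IH) (Lpe (K1.f47512 IH) (Lpe (K8.f1430 IH) (Lpr_df (K8.f49152 IH) (Lpr_gf (K1.f45702 IH) (Lpe (K1.f27394 IH) (Lpe (K1.f47474 IH) (Lpn (LP (LK LD1_c0 LD2_c34 LD3_c35))))))))))))))))))))))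
theorem f47519 : Led Lsl_et (LP (LK LD1_c0 LD2_c57 LD3_c42)) = (LP (LK LD1_c0 LD2_c26 LD3_c14)) :=
  Lre_e IH (LK LD1_c0 LD2_c57 LD3_c42) (LK LD1_c0 LD2_c26 LD3_c14) Lrfl Lrfl
theorem f49216 : Led Lsl_dt (LP (LK LD1_c2 LD2_c1 LD3_c16)) = (LP (LK LD1_c0 LD2_c57 LD3_c42)) :=
  Lre_d IH (LK LD1_c2 LD2_c1 LD3_c16) (LK LD1_c0 LD2_c57 LD3_c42) Lrfl Lrfl
theorem f47816 : Led Lsl_et (LP (LK LD1_c0 LD2_c34 LD3_c35)) = (LP (LK LD1_c1 LD2_c14 LD3_c35)) :=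
  Lre_e IH (LK LD1_c0 LD2_c34 LD3_c35) (LK LD1_c1 LD2_c14 LD3_c35) Lrfl Lrfl
theorem f49217 : Led Lsl_dt (LP (LK LD1_c1 LD2_c14 LD3_c35)) = (LP (LK LD1_c2 LD2_c35 LD3_c11)) :=
  Lre_d IH (LK LD1_c1 LD2_c14 LD3_c35) (LK LD1_c2 LD2_c35 LD3_c11) Lrfl Lrfl
theorem f49218 : Led Lsl_ef (LP (LK LD1_c2 LD2_c1 LD3_c16)) = (LP (LK LD1_c2 LD2_c35 LD3_c11)) :=
  Lgr Lrot73 (Lpr_dt (f49216 IH) (Lpr_et (f47519 IH) (Lpr_dt (f49214 IH) (Lpr_et (f47816 IH) (Lpr_dt (f49217 IH) (Lpn (LP (LK LD1_c2 LD2_c35 LD3_c11))))))))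
theorem f49231 : Led Lsl_et (LP (LK LD1_c2 LD2_c1 LD3_c16)) = (LP (LK LD1_c2 LD2_c35 LD3_c11)) :=
  Lgr Lrot87 (Lpr_ef (f49218 IH) (Lpn (LP (LK LD1_c2 LD2_c35 LD3_c11))))
theorem f49241 : Led Lsl_ct (LP (LK LD1_c4 LD2_c7 LD3_c51)) = (LP (LK LD1_c2 LD2_c1 LD3_c16)) :=
  Lre_c IH (LK LD1_c4 LD2_c7 LD3_c51) (LK LD1_c2 LD2_c1 LD3_c16) Lrfl Lrfl
theorem f49242 : Led Lsl_ct (LP (LK LD1_c2 LD2_c35 LD3_c11)) = (LP (LK LD1_c5 LD2_c16 LD3_c55)) :=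
  Lre_c IH (LK LD1_c2 LD2_c35 LD3_c11) (LK LD1_c5 LD2_c16 LD3_c55) Lrfl Lrfl
theorem f49243 : Led Lsl_ef (LP (LK LD1_c4 LD2_c7 LD3_c51)) = (LP (LK LD1_c5 LD2_c16 LD3_c55)) :=
  Lgr Lrot28 (Lpr_ct (f49241 IH) (Lpr_et (f49231 IH) (Lpr_ct (f49242 IH) (Lpn (LP (LK LD1_c5 LD2_c16 LD3_c55))))))
theorem f49249 : Led Lsl_bt (LP (LK LD1_c4 LD2_c7 LD3_c51)) = (LP (LK LD1_c8 LD2_c15 LD3_c44)) :=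
  Lre_b IH (LK LD1_c4 LD2_c7 LD3_c51) (LK LD1_c8 LD2_c15 LD3_c44) Lrfl Lrfl
theorem f49250 : Led Lsl_bt (LP (LK LD1_c10 LD2_c23 LD3_c22)) = (LP (LK LD1_c5 LD2_c16 LD3_c55)) :=
  Lre_b IH (LK LD1_c10 LD2_c23 LD3_c22) (LK LD1_c5 LD2_c16 LD3_c55) Lrfl Lrfl
theorem f49251 : Led Lsl_et (LP (LK LD1_c8 LD2_c15 LD3_c44)) = (LP (LK LD1_c10 LD2_c23 LD3_c22)) :=
  Lgr Lrot74 (Lpe (f49249 IH) (Lpr_ef (f49243 IH) (Lpe (f49250 IH) (Lpn (LP (LK LD1_c10 LD2_c23 LD3_c22))))))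
theorem f49268 : Led Lsl_ef (LP (LK LD1_c8 LD2_c15 LD3_c44)) = (LP (LK LD1_c10 LD2_c23 LD3_c22)) :=
  Lgr Lrot88 (Lpr_et (f49251 IH) (Lpn (LP (LK LD1_c10 LD2_c23 LD3_c22))))
theorem f49281 : Led Lsl_ct (LP (LK LD1_c8 LD2_c15 LD3_c44)) = (LP (LK LD1_c4 LD2_c8 LD3_c4)) :=
  Lre_c IH (LK LD1_c8 LD2_c15 LD3_c44) (LK LD1_c4 LD2_c8 LD3_c4) Lrfl Lrfl
theorem f49282 : Led Lsl_ct (LP (LK LD1_c5 LD2_c16 LD3_c58)) = (LP (LK LD1_c10 LD2_c23 LD3_c22)) :=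
  Lre_c IH (LK LD1_c5 LD2_c16 LD3_c58) (LK LD1_c10 LD2_c23 LD3_c22) Lrfl Lrfl
theorem f49283 : Led Lsl_et (LP (LK LD1_c4 LD2_c8 LD3_c4)) = (LP (LK LD1_c5 LD2_c16 LD3_c58)) :=
  Lgr Lrot158 (Lpe (f49281 IH) (Lpr_ef (f49268 IH) (Lpe (f49282 IH) (Lpn (LP (LK LD1_c5 LD2_c16 LD3_c58))))))
theorem f49295 : Led Lsl_bt (LP (LK LD1_c2 LD2_c1 LD3_c24)) = (LP (LK LD1_c4 LD2_c8 LD3_c4)) :=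
  Lre_b IH (LK LD1_c2 LD2_c1 LD3_c24) (LK LD1_c4 LD2_c8 LD3_c4) Lrfl Lrfl
theorem f49296 : Led Lsl_bt (LP (LK LD1_c5 LD2_c16 LD3_c58)) = (LP (LK LD1_c2 LD2_c35 LD3_c12)) :=
  Lre_b IH (LK LD1_c5 LD2_c16 LD3_c58) (LK LD1_c2 LD2_c35 LD3_c12) Lrfl Lrfl
theorem f49297 : Led Lsl_ef (LP (LK LD1_c2 LD2_c1 LD3_c24)) = (LP (LK LD1_c2 LD2_c35 LD3_c12)) :=
  Lgr Lrot29 (Lpr_bt (f49295 IH) (Lpr_et (f49283 IH) (Lpr_bt (f49296 IH) (Lpn (LP (LK LD1_c2 LD2_c35 LD3_c12))))))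
theorem f49345 : Led Lsl_ft (LP (LK LD1_c4 LD2_c8 LD3_c6)) = (LP (LK LD1_c2 LD2_c1 LD3_c24)) :=
  Lre_f IH (LK LD1_c4 LD2_c8 LD3_c6) (LK LD1_c2 LD2_c1 LD3_c24) Lrfl Lrfl
theorem f49785 : Led Lsl_af (LP (LK LD1_c2 LD2_c1 LD3_c13)) = (LP (LK LD1_c2 LD2_c1 LD3_c24)) :=
  Lgr Lrot45 (Lpr_ft (f49784 IH) (Lpr_at (f49774 IH) (Lpr_ft (f49345 IH) (Lpn (LP (LK LD1_c2 LD2_c1 LD3_c24))))))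
theorem f50164 : Led Lsl_ef (LP (LK LD1_c1 LD2_c58 LD3_c27)) = (LP (LK LD1_c2 LD2_c1 LD3_c13)) :=
  Lgr Lrot20 (Lpr_at (f50151 IH) (Lpe (f49297 IH) (Lpe (f49785 IH) (Lpn (LP (LK LD1_c2 LD2_c1 LD3_c13))))))
theorem f50196 : Led Lsl_ft (LP (LK LD1_c1 LD2_c58 LD3_c27)) = (LP (LK LD1_c4 LD2_c2 LD3_c55)) :=
  Lre_f IH (LK LD1_c1 LD2_c58 LD3_c27) (LK LD1_c4 LD2_c2 LD3_c55) Lrfl Lrfl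
theorem f50197 : Led Lsl_et (LP (LK LD1_c4 LD2_c2 LD3_c55)) = (LP (LK LD1_c8 LD2_c6 LD3_c30)) :=
  Lre_e IH (LK LD1_c4 LD2_c2 LD3_c55) (LK LD1_c8 LD2_c6 LD3_c30) Lrfl Lrfl
theorem f49579 : Led Lsl_ft (LP (LK LD1_c4 LD2_c7 LD3_c45)) = (LP (LK LD1_c2 LD2_c1 LD3_c13)) :=
  Lre_f IH (LK LD1_c4 LD2_c7 LD3_c45) (LK LD1_c2 LD2_c1 LD3_c13) Lrfl Lrfl
theorem f50198 : Led Lsl_ft (LP (LK LD1_c8 LD2_c6 LD3_c30)) = (LP (LK LD1_c8 LD2_c15 LD3_c38)) :=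
  Lgr Lrot86 (Lpe (f50197 IH) (Lpe (f50196 IH) (Lpr_ef (f50164 IH) (Lpe (f49579 IH) (Lpe (f49773 IH) (Lpn (LP (LK LD1_c8 LD2_c15 LD3_c38))))))))
theorem f28085 : Led Lsl_dt (LP (LK LD1_c8 LD2_c6 LD3_c30)) = (LP (LK LD1_c15 LD2_c16 LD3_c2)) :=
  Lre_d IH (LK LD1_c8 LD2_c6 LD3_c30) (LK LD1_c15 LD2_c16 LD3_c2) Lrfl Lrfl
theorem f28086 : Led Lsl_ct (LP (LK LD1_c15 LD2_c16 LD3_c2)) = (LP (LK LD1_c25 LD2_c5 LD3_c57)) :=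
  Lre_c IH (LK LD1_c15 LD2_c16 LD3_c2) (LK LD1_c25 LD2_c5 LD3_c57) Lrfl Lrfl
theorem f49761 : Led Lsl_at (LP (LK LD1_c8 LD2_c15 LD3_c38)) = (LP (LK LD1_c8 LD2_c16 LD3_c21)) :=
  Lgr Lrot100 (Lpr_af (f49758 IH) (Lpn (LP (LK LD1_c8 LD2_c16 LD3_c21))))
theorem f49770 : Led Lsl_ct (LP (LK LD1_c4 LD2_c8 LD3_c7)) = (LP (LK LD1_c8 LD2_c16 LD3_c21)) :=
  Lre_c IH (LK LD1_c4 LD2_c8 LD3_c7) (LK LD1_c8 LD2_c16 LD3_c21) Lrfl Lrfl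
theorem f49608 : Led Lsl_et (LP (LK LD1_c2 LD2_c1 LD3_c14)) = (LP (LK LD1_c4 LD2_c7 LD3_c46)) :=
  Lre_e IH (LK LD1_c2 LD2_c1 LD3_c14) (LK LD1_c4 LD2_c7 LD3_c46) Lrfl Lrfl
theorem f49605 : Led Lsl_dt (LP (LK LD1_c2 LD2_c1 LD3_c14)) = (LP (LK LD1_c0 LD2_c57 LD3_c41)) :=
  Lre_d IH (LK LD1_c2 LD2_c1 LD3_c14) (LK LD1_c0 LD2_c57 LD3_c41) Lrfl Lrfl
theorem f49625 : Led Lsl_et (LP (LK LD1_c4 LD2_c7 LD3_c46)) = (LP (LK LD1_c2 LD2_c1 LD3_c14)) :=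
  Lre_e IH (LK LD1_c4 LD2_c7 LD3_c46) (LK LD1_c2 LD2_c1 LD3_c14) Lrfl Lrfl
theorem f50087 : Led Lsl_dt (LP (LK LD1_c4 LD2_c7 LD3_c46)) = (LP (LK LD1_c4 LD2_c7 LD3_c46)) :=
  Lgr Lrot77 (Lpe (f49608 IH) (Lpe (f49562 IH) (Lpr_ef (f50080 IH) (Lpe (f49605 IH) (Lpe (f49625 IH) (Lpn (LP (LK LD1_c4 LD2_c7 LD3_c46))))))))
theorem f49626 : Led Lsl_et (LP (LK LD1_c2 LD2_c1 LD3_c25)) = (LP (LK LD1_c4 LD2_c8 LD3_c7)) :=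
  Lre_e IH (LK LD1_c2 LD2_c1 LD3_c25) (LK LD1_c4 LD2_c8 LD3_c7) Lrfl Lrfl
theorem f49627 : Led Lsl_af (LP (LK LD1_c4 LD2_c7 LD3_c46)) = (LP (LK LD1_c4 LD2_c8 LD3_c7)) :=
  Lgr Lrot50 (Lpr_et (f49625 IH) (Lpr_at (f49616 IH) (Lpr_et (f49626 IH) (Lpn (LP (LK LD1_c4 LD2_c8 LD3_c7))))))
theorem f49769 : Led Lsl_ct (LP (LK LD1_c8 LD2_c15 LD3_c38)) = (LP (LK LD1_c4 LD2_c7 LD3_c46)) :=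
  Lre_c IH (LK LD1_c8 LD2_c15 LD3_c38) (LK LD1_c4 LD2_c7 LD3_c46) Lrfl Lrfl
theorem f49771 : Led Lsl_at (LP (LK LD1_c4 LD2_c7 LD3_c46)) = (LP (LK LD1_c4 LD2_c8 LD3_c7)) :=
  Lgr Lrot107 (Lpe (f49769 IH) (Lpr_af (f49758 IH) (Lpe (f49770 IH) (Lpn (LP (LK LD1_c4 LD2_c8 LD3_c7))))))
theorem f50089 : Led Lsl_df (LP (LK LD1_c4 LD2_c8 LD3_c7)) = (LP (LK LD1_c4 LD2_c8 LD3_c7)) :=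
  Lgr Lrot18 (Lpe (f49627 IH) (Lpr_dt (f50087 IH) (Lpr_at (f49771 IH) (Lpn (LP (LK LD1_c4 LD2_c8 LD3_c7))))))
theorem f50099 : Led Lsl_ct (LP (LK LD1_c8 LD2_c16 LD3_c21)) = (LP (LK LD1_c4 LD2_c8 LD3_c7)) :=
  Lre_c IH (LK LD1_c8 LD2_c16 LD3_c21) (LK LD1_c4 LD2_c8 LD3_c7) Lrfl Lrfl
theorem f49760 : Led Lsl_ct (LP (LK LD1_c25 LD2_c26 LD3_c51)) = (LP (LK LD1_c15 LD2_c33 LD3_c14)) :=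
  Lre_c IH (LK LD1_c25 LD2_c26 LD3_c51) (LK LD1_c15 LD2_c33 LD3_c14) Lrfl Lrfl
theorem f50220 : Led Lsl_dt (LP (LK LD1_c25 LD2_c5 LD3_c57)) = (LP (LK LD1_c25 LD2_c26 LD3_c51)) :=
  Lgr Lrot32 (Lpe (f28086 IH) (Lpe (f28085 IH) (Lpr_ft (f50198 IH) (Lpr_at (f49761 IH) (Lpe (f49770 IH) (Lpr_df (f50089 IH) (Lpe (f50099 IH) (Lpe (f49757 IH) (Lpe (f49760 IH) (Lpn (LP (LK LD1_c25 LD2_c26 LD3_c51))))))))))))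
theorem f28084 : Led Lsl_ct (LP (LK LD1_c4 LD2_c2 LD3_c56)) = (LP (LK LD1_c8 LD2_c6 LD3_c30)) :=
  Lre_c IH (LK LD1_c4 LD2_c2 LD3_c56) (LK LD1_c8 LD2_c6 LD3_c30) Lrfl Lrfl
theorem f27966 : Led Lsl_dt (LP (LK LD1_c0 LD2_c25 LD3_c32)) = (LP (LK LD1_c0 LD2_c56 LD3_c19)) :=
  Lre_d IH (LK LD1_c0 LD2_c25 LD3_c32) (LK LD1_c0 LD2_c56 LD3_c19) Lrfl Lrfl
theorem f27967 : Led Lsl_et (LP (LK LD1_c0 LD2_c56 LD3_c19)) = (LP (LK LD1_c1 LD2_c59 LD3_c5)) :=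
  Lre_e IH (LK LD1_c0 LD2_c56 LD3_c19) (LK LD1_c1 LD2_c59 LD3_c5) Lrfl Lrfl
theorem f27968 : Led Lsl_dt (LP (LK LD1_c0 LD2_c56 LD3_c19)) = (LP (LK LD1_c0 LD2_c25 LD3_c32)) :=
  Lre_d IH (LK LD1_c0 LD2_c56 LD3_c19) (LK LD1_c0 LD2_c25 LD3_c32) Lrfl Lrfl
theorem f27969 : Led Lsl_et (LP (LK LD1_c1 LD2_c59 LD3_c5)) = (LP (LK LD1_c0 LD2_c56 LD3_c19)) :=
  Lre_e IH (LK LD1_c1 LD2_c59 LD3_c5) (LK LD1_c0 LD2_c56 LD3_c19) Lrfl Lrfl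
theorem f27970 : Led Lsl_dt (LP (LK LD1_c1 LD2_c59 LD3_c5)) = (LP (LK LD1_c1 LD2_c59 LD3_c5)) :=
  Lgr Lrot77 (Lpe (f27967 IH) (Lpe (f27966 IH) (Lpr_ef (K1.f27951 IH) (Lpe (f27968 IH) (Lpe (f27969 IH) (Lpn (LP (LK LD1_c1 LD2_c59 LD3_c5))))))))
theorem f27982 : Led Lsl_bt (LP (LK LD1_c4 LD2_c2 LD3_c56)) = (LP (LK LD1_c1 LD2_c59 LD3_c5)) :=
  Lre_b IH (LK LD1_c4 LD2_c2 LD3_c56) (LK LD1_c1 LD2_c59 LD3_c5) Lrfl Lrfl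
theorem f27983 : Led Lsl_bt (LP (LK LD1_c1 LD2_c59 LD3_c5)) = (LP (LK LD1_c4 LD2_c2 LD3_c56)) :=
  Lre_b IH (LK LD1_c1 LD2_c59 LD3_c5) (LK LD1_c4 LD2_c2 LD3_c56) Lrfl Lrfl
theorem f27984 : Led Lsl_df (LP (LK LD1_c4 LD2_c2 LD3_c56)) = (LP (LK LD1_c4 LD2_c2 LD3_c56)) :=
  Lgr Lrot12 (Lpr_bt (f27982 IH) (Lpr_dt (f27970 IH) (Lpr_bt (f27983 IH) (Lpn (LP (LK LD1_c4 LD2_c2 LD3_c56))))))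
theorem f28087 : Led Lsl_ct (LP (LK LD1_c8 LD2_c6 LD3_c30)) = (LP (LK LD1_c4 LD2_c2 LD3_c56)) :=
  Lre_c IH (LK LD1_c8 LD2_c6 LD3_c30) (LK LD1_c4 LD2_c2 LD3_c56) Lrfl Lrfl
theorem f28088 : Led Lsl_dt (LP (LK LD1_c15 LD2_c16 LD3_c2)) = (LP (LK LD1_c8 LD2_c6 LD3_c30)) :=
  Lre_d IH (LK LD1_c15 LD2_c16 LD3_c2) (LK LD1_c8 LD2_c6 LD3_c30) Lrfl Lrfl
theorem f50226 : Led Lsl_ft (LP (LK LD1_c15 LD2_c16 LD3_c2)) = (LP (LK LD1_c15 LD2_c31 LD3_c61)) :=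
  Lgr Lrot142 (Lpr_dt (f28088 IH) (Lpr_ct (f28087 IH) (Lpe (f27984 IH) (Lpr_ct (f28084 IH) (Lpr_dt (f28085 IH) (Lpr_ct (f28086 IH) (Lpr_dt (f50220 IH) (Lpr_ct (f49760 IH) (Lpe (f49746 IH) (Lpn (LP (LK LD1_c15 LD2_c31 LD3_c61))))))))))))
theorem f50229 : Led Lsl_bt (LP (LK LD1_c25 LD2_c5 LD3_c31)) = (LP (LK LD1_c15 LD2_c16 LD3_c2)) :=
  Lre_b IH (LK LD1_c25 LD2_c5 LD3_c31) (LK LD1_c15 LD2_c16 LD3_c2) Lrfl Lrfl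
theorem f50230 : Led Lsl_bt (LP (LK LD1_c15 LD2_c31 LD3_c61)) = (LP (LK LD1_c25 LD2_c24 LD3_c56)) :=
  Lre_b IH (LK LD1_c15 LD2_c31 LD3_c61) (LK LD1_c25 LD2_c24 LD3_c56) Lrfl Lrfl
theorem f50231 : Led Lsl_ff (LP (LK LD1_c25 LD2_c5 LD3_c31)) = (LP (LK LD1_c25 LD2_c24 LD3_c56)) :=
  Lgr Lrot25 (Lpr_bt (f50229 IH) (Lpr_ft (f50226 IH) (Lpr_bt (f50230 IH) (Lpn (LP (LK LD1_c25 LD2_c24 LD3_c56))))))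
theorem f50246 : Led Lsl_dt (LP (LK LD1_c25 LD2_c5 LD3_c31)) = (LP (LK LD1_c15 LD2_c15 LD3_c52)) :=
  Lre_d IH (LK LD1_c25 LD2_c5 LD3_c31) (LK LD1_c15 LD2_c15 LD3_c52) Lrfl Lrfl
theorem f50247 : Led Lsl_dt (LP (LK LD1_c15 LD2_c31 LD3_c50)) = (LP (LK LD1_c25 LD2_c24 LD3_c56)) :=
  Lre_d IH (LK LD1_c15 LD2_c31 LD3_c50) (LK LD1_c25 LD2_c24 LD3_c56) Lrfl Lrfl
theorem f50248 : Led Lsl_ft (LP (LK LD1_c15 LD2_c15 LD3_c52)) = (LP (LK LD1_c15 LD2_c31 LD3_c50)) :=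
  Lgr Lrot54 (Lpe (f50246 IH) (Lpr_ff (f50231 IH) (Lpe (f50247 IH) (Lpn (LP (LK LD1_c15 LD2_c31 LD3_c50))))))
theorem f50266 : Led Lsl_et (LP (LK LD1_c8 LD2_c6 LD3_c24)) = (LP (LK LD1_c15 LD2_c15 LD3_c52)) :=
  Lre_e IH (LK LD1_c8 LD2_c6 LD3_c24) (LK LD1_c15 LD2_c15 LD3_c52) Lrfl Lrfl
theorem f50267 : Led Lsl_ft (LP (LK LD1_c4 LD2_c2 LD3_c53)) = (LP (LK LD1_c8 LD2_c6 LD3_c24)) :=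
  Lre_f IH (LK LD1_c4 LD2_c2 LD3_c53) (LK LD1_c8 LD2_c6 LD3_c24) Lrfl Lrfl
theorem f50268 : Led Lsl_et (LP (LK LD1_c15 LD2_c31 LD3_c50)) = (LP (LK LD1_c8 LD2_c15 LD3_c32)) :=
  Lre_e IH (LK LD1_c15 LD2_c31 LD3_c50) (LK LD1_c8 LD2_c15 LD3_c32) Lrfl Lrfl
theorem f50269 : Led Lsl_ft (LP (LK LD1_c8 LD2_c15 LD3_c32)) = (LP (LK LD1_c4 LD2_c7 LD3_c43)) :=
  Lre_f IH (LK LD1_c8 LD2_c15 LD3_c32) (LK LD1_c4 LD2_c7 LD3_c43) Lrfl Lrfl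
theorem f50270 : Led Lsl_ef (LP (LK LD1_c4 LD2_c2 LD3_c53)) = (LP (LK LD1_c4 LD2_c7 LD3_c43)) :=
  Lgr Lrot21 (Lpr_ft (f50267 IH) (Lpr_et (f50266 IH) (Lpr_ft (f50248 IH) (Lpr_et (f50268 IH) (Lpr_ft (f50269 IH) (Lpn (LP (LK LD1_c4 LD2_c7 LD3_c43))))))))
theorem f50281 : Led Lsl_ct (LP (LK LD1_c4 LD2_c2 LD3_c53)) = (LP (LK LD1_c1 LD2_c59 LD3_c2)) :=
  Lre_c IH (LK LD1_c4 LD2_c2 LD3_c53) (LK LD1_c1 LD2_c59 LD3_c2) Lrfl Lrfl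
theorem f50282 : Led Lsl_et (LP (LK LD1_c1 LD2_c59 LD3_c2)) = (LP (LK LD1_c4 LD2_c3 LD3_c15)) :=
  Lre_e IH (LK LD1_c1 LD2_c59 LD3_c2) (LK LD1_c4 LD2_c3 LD3_c15) Lrfl Lrfl
theorem f50283 : Led Lsl_ct (LP (LK LD1_c4 LD2_c3 LD3_c15)) = (LP (LK LD1_c4 LD2_c7 LD3_c43)) :=
  Lgr Lrot15 (Lpe (f50282 IH) (Lpe (f50281 IH) (Lpr_ef (f50270 IH) (Lpn (LP (LK LD1_c4 LD2_c7 LD3_c43))))))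
theorem f50305 : Led Lsl_ft (LP (LK LD1_c8 LD2_c7 LD3_c8)) = (LP (LK LD1_c4 LD2_c3 LD3_c15)) :=
  Lre_f IH (LK LD1_c8 LD2_c7 LD3_c8) (LK LD1_c4 LD2_c3 LD3_c15) Lrfl Lrfl
theorem f50306 : Led Lsl_ft (LP (LK LD1_c4 LD2_c7 LD3_c43)) = (LP (LK LD1_c8 LD2_c15 LD3_c32)) :=
  Lre_f IH (LK LD1_c4 LD2_c7 LD3_c43) (LK LD1_c8 LD2_c15 LD3_c32) Lrfl Lrfl
theorem f50307 : Led Lsl_cf (LP (LK LD1_c8 LD2_c7 LD3_c8)) = (LP (LK LD1_c8 LD2_c15 LD3_c32)) :=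
  Lgr Lrot108 (Lpr_ft (f50305 IH) (Lpr_ct (f50283 IH) (Lpr_ft (f50306 IH) (Lpn (LP (LK LD1_c8 LD2_c15 LD3_c32))))))
theorem f50344 : Led Lsl_et (LP (LK LD1_c8 LD2_c7 LD3_c8)) = (LP (LK LD1_c15 LD2_c17 LD3_c23)) :=
  Lre_e IH (LK LD1_c8 LD2_c7 LD3_c8) (LK LD1_c15 LD2_c17 LD3_c23) Lrfl Lrfl
theorem f50345 : Led Lsl_ct (LP (LK LD1_c15 LD2_c17 LD3_c23)) = (LP (LK LD1_c15 LD2_c31 LD3_c50)) :=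
  Lgr Lrot15 (Lpe (f50344 IH) (Lpr_cf (f50307 IH) (Lpe (f50268 IH) (Lpn (LP (LK LD1_c15 LD2_c31 LD3_c50))))))
theorem f28041 : Led Lsl_bt (LP (LK LD1_c8 LD2_c7 LD3_c13)) = (LP (LK LD1_c15 LD2_c17 LD3_c23)) :=
  Lre_b IH (LK LD1_c8 LD2_c7 LD3_c13) (LK LD1_c15 LD2_c17 LD3_c23) Lrfl Lrfl
theorem f28024 : Led Lsl_ct (LP (LK LD1_c4 LD2_c3 LD3_c18)) = (LP (LK LD1_c8 LD2_c7 LD3_c13)) :=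
  Lre_c IH (LK LD1_c4 LD2_c3 LD3_c18) (LK LD1_c8 LD2_c7 LD3_c13) Lrfl Lrfl
theorem f50261 : Led Lsl_bt (LP (LK LD1_c15 LD2_c31 LD3_c50)) = (LP (LK LD1_c8 LD2_c15 LD3_c38)) :=
  Lre_b IH (LK LD1_c15 LD2_c31 LD3_c50) (LK LD1_c8 LD2_c15 LD3_c38) Lrfl Lrfl
theorem f50354 : Led Lsl_bf (LP (LK LD1_c4 LD2_c3 LD3_c18)) = (LP (LK LD1_c4 LD2_c7 LD3_c46)) :=
  Lgr Lrot90 (Lpr_ct (f28024 IH) (Lpr_bt (f28041 IH) (Lpr_ct (f50345 IH) (Lpr_bt (f50261 IH) (Lpr_ct (f49769 IH) (Lpn (LP (LK LD1_c4 LD2_c7 LD3_c46))))))))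
theorem f50365 : Led Lsl_bt (LP (LK LD1_c4 LD2_c3 LD3_c18)) = (LP (LK LD1_c4 LD2_c7 LD3_c46)) :=
  Lgr Lrot127 (Lpr_bf (f50354 IH) (Lpn (LP (LK LD1_c4 LD2_c7 LD3_c46))))
theorem f28030 : Led Lsl_et (LP (LK LD1_c1 LD2_c58 LD3_c37)) = (LP (LK LD1_c4 LD2_c3 LD3_c18)) :=
  Lre_e IH (LK LD1_c1 LD2_c58 LD3_c37) (LK LD1_c4 LD2_c3 LD3_c18) Lrfl Lrfl
theorem f50369 : Led Lsl_bf (LP (LK LD1_c1 LD2_c58 LD3_c37)) = (LP (LK LD1_c2 LD2_c1 LD3_c14)) :=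
  Lgr Lrot96 (Lpr_et (f28030 IH) (Lpr_bt (f50365 IH) (Lpr_et (f49625 IH) (Lpn (LP (LK LD1_c2 LD2_c1 LD3_c14))))))
theorem f50378 : Led Lsl_ft (LP (LK LD1_c1 LD2_c58 LD3_c37)) = (LP (LK LD1_c0 LD2_c56 LD3_c8)) :=
  Lre_f IH (LK LD1_c1 LD2_c58 LD3_c37) (LK LD1_c0 LD2_c56 LD3_c8) Lrfl Lrfl
theorem f50379 : Led Lsl_bt (LP (LK LD1_c0 LD2_c56 LD3_c8)) = (LP (LK LD1_c0 LD2_c57 LD3_c40)) :=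
  Lgr Lrot35 (Lpe (f50378 IH) (Lpr_bf (f50369 IH) (Lpe (f49629 IH) (Lpn (LP (LK LD1_c0 LD2_c57 LD3_c40))))))
theorem f28817 : Led Lsl_dt (LP (LK LD1_c0 LD2_c25 LD3_c28)) = (LP (LK LD1_c0 LD2_c56 LD3_c8)) :=
  Lre_d IH (LK LD1_c0 LD2_c25 LD3_c28) (LK LD1_c0 LD2_c56 LD3_c8) Lrfl Lrfl
theorem f50382 : Led Lsl_bf (LP (LK LD1_c0 LD2_c25 LD3_c28)) = (LP (LK LD1_c0 LD2_c26 LD3_c13)) :=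
  Lgr Lrot93 (Lpr_dt (f28817 IH) (Lpr_bt (f50379 IH) (Lpr_dt (f49593 IH) (Lpn (LP (LK LD1_c0 LD2_c26 LD3_c13))))))
theorem f27789 : Led Lsl_et (LP (LK LD1_c0 LD2_c11 LD3_c21)) = (LP (LK LD1_c0 LD2_c25 LD3_c28)) :=
  Lre_e IH (LK LD1_c0 LD2_c11 LD3_c21) (LK LD1_c0 LD2_c25 LD3_c28) Lrfl Lrfl
theorem f1613 : Led Lsl_et (LP (LK LD1_c0 LD2_c31 LD3_c25)) = (LP (LK LD1_c0 LD2_c13 LD3_c57)) :=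
  Lre_e IH (LK LD1_c0 LD2_c31 LD3_c25) (LK LD1_c0 LD2_c13 LD3_c57) Lrfl Lrfl
theorem f27790 : Led Lsl_ct (LP (LK LD1_c0 LD2_c25 LD3_c28)) = (LP (LK LD1_c0 LD2_c31 LD3_c25)) :=
  Lgr Lrot15 (Lpe (f27789 IH) (Lpr_cf (K0.f27777 IH) (Lpe (f1613 IH) (Lpn (LP (LK LD1_c0 LD2_c31 LD3_c25))))))
theorem f43276 : Led Lsl_bt (LP (LK LD1_c0 LD2_c31 LD3_c25)) = (LP (LK LD1_c1 LD2_c8 LD3_c39)) :=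
  Lre_b IH (LK LD1_c0 LD2_c31 LD3_c25) (LK LD1_c1 LD2_c8 LD3_c39) Lrfl Lrfl
theorem f41380 : Led Lsl_et (LP (LK LD1_c0 LD2_c54 LD3_c39)) = (LP (LK LD1_c0 LD2_c24 LD3_c41)) :=
  Lre_e IH (LK LD1_c0 LD2_c54 LD3_c39) (LK LD1_c0 LD2_c24 LD3_c41) Lrfl Lrfl
theorem f43229 : Led Lsl_at (LP (LK LD1_c0 LD2_c54 LD3_c38)) = (LP (LK LD1_c0 LD2_c54 LD3_c39)) :=
  Lgr Lrot80 (Lpe (K1.f31457 IH) (Lpr_af (K1.f43223 IH) (Lpe (f41380 IH) (Lpn (LP (LK LD1_c0 LD2_c54 LD3_c39))))))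
theorem f43843 : Led Lsl_af (LP (LK LD1_c0 LD2_c54 LD3_c38)) = (LP (LK LD1_c0 LD2_c54 LD3_c39)) :=
  Lgr Lrot0 (Lpr_at (f43229 IH) (Lpn (LP (LK LD1_c0 LD2_c54 LD3_c39))))
theorem f31470 : Led Lsl_ct (LP (LK LD1_c0 LD2_c54 LD3_c38)) = (LP (LK LD1_c1 LD2_c55 LD3_c47)) :=
  Lre_c IH (LK LD1_c0 LD2_c54 LD3_c38) (LK LD1_c1 LD2_c55 LD3_c47) Lrfl Lrfl
theorem f43242 : Led Lsl_et (LP (LK LD1_c0 LD2_c54 LD3_c37)) = (LP (LK LD1_c1 LD2_c55 LD3_c47)) :=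
  Lre_e IH (LK LD1_c0 LD2_c54 LD3_c37) (LK LD1_c1 LD2_c55 LD3_c47) Lrfl Lrfl
theorem f43246 : Led Lsl_af (LP (LK LD1_c1 LD2_c8 LD3_c39)) = (LP (LK LD1_c1 LD2_c55 LD3_c47)) :=
  Lgr Lrot50 (Lpr_et (K0.f27578 IH) (Lpr_at (K1.f43240 IH) (Lpr_et (f43242 IH) (Lpn (LP (LK LD1_c1 LD2_c55 LD3_c47))))))
theorem f43900 : Led Lsl_ct (LP (LK LD1_c1 LD2_c8 LD3_c39)) = (LP (LK LD1_c0 LD2_c54 LD3_c39)) :=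
  Lgr Lrot111 (Lpr_af (f43246 IH) (Lpe (f31470 IH) (Lpr_af (f43843 IH) (Lpn (LP (LK LD1_c0 LD2_c54 LD3_c39))))))
theorem f50805 : Led Lsl_bt (LP (LK LD1_c0 LD2_c54 LD3_c39)) = (LP (LK LD1_c0 LD2_c57 LD3_c38)) :=
  Lgr Lrot128 (Lpe (f43900 IH) (Lpe (f43276 IH) (Lpe (f27790 IH) (Lpr_bf (f50382 IH) (Lpe (f49592 IH) (Lpn (LP (LK LD1_c0 LD2_c57 LD3_c38))))))))
theorem f43257 : Led Lsl_dt (LP (LK LD1_c1 LD2_c55 LD3_c49)) = (LP (LK LD1_c0 LD2_c54 LD3_c39)) :=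
  Lre_d IH (LK LD1_c1 LD2_c55 LD3_c49) (LK LD1_c0 LD2_c54 LD3_c39) Lrfl Lrfl
theorem f50816 : Led Lsl_bf (LP (LK LD1_c1 LD2_c55 LD3_c49)) = (LP (LK LD1_c2 LD2_c1 LD3_c8)) :=
  Lgr Lrot93 (Lpr_dt (f43257 IH) (Lpr_bt (f50805 IH) (Lpr_dt (K8.f44966 IH) (Lpn (LP (LK LD1_c2 LD2_c1 LD3_c8))))))
theorem f43218 : Led Lsl_et (LP (LK LD1_c0 LD2_c24 LD3_c41)) = (LP (LK LD1_c0 LD2_c54 LD3_c39)) :=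
  Lre_e IH (LK LD1_c0 LD2_c24 LD3_c41) (LK LD1_c0 LD2_c54 LD3_c39) Lrfl Lrfl
theorem f41381 : Led Lsl_dt (LP (LK LD1_c0 LD2_c54 LD3_c39)) = (LP (LK LD1_c1 LD2_c55 LD3_c49)) :=
  Lre_d IH (LK LD1_c0 LD2_c54 LD3_c39) (LK LD1_c1 LD2_c55 LD3_c49) Lrfl Lrfl
theorem f41392 : Led Lsl_et (LP (LK LD1_c0 LD2_c32 LD3_c18)) = (LP (LK LD1_c0 LD2_c14 LD3_c28)) :=
  Lre_e IH (LK LD1_c0 LD2_c32 LD3_c18) (LK LD1_c0 LD2_c14 LD3_c28) Lrfl Lrfl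
theorem f31525 : Led Lsl_dt (LP (LK LD1_c1 LD2_c9 LD3_c47)) = (LP (LK LD1_c0 LD2_c32 LD3_c18)) :=
  Lre_d IH (LK LD1_c1 LD2_c9 LD3_c47) (LK LD1_c0 LD2_c32 LD3_c18) Lrfl Lrfl
theorem f43913 : Led Lsl_et (LP (LK LD1_c1 LD2_c55 LD3_c49)) = (LP (LK LD1_c1 LD2_c9 LD3_c47)) :=
  Lgr Lrot71 (Lpe (f41381 IH) (Lpe (f43218 IH) (Lpr_df (K1.f43907 IH) (Lpe (f41392 IH) (Lpe (f31525 IH) (Lpn (LP (LK LD1_c1 LD2_c9 LD3_c47))))))))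
theorem f50821 : Led Lsl_bt (LP (LK LD1_c1 LD2_c9 LD3_c47)) = (LP (LK LD1_c2 LD2_c4 LD3_c10)) :=
  Lgr Lrot119 (Lpe (f43913 IH) (Lpr_bf (f50816 IH) (Lpr_ef (K8.f44980 IH) (Lpn (LP (LK LD1_c2 LD2_c4 LD3_c10))))))
theorem f43779 : Led Lsl_ft (LP (LK LD1_c2 LD2_c25 LD3_c7)) = (LP (LK LD1_c1 LD2_c9 LD3_c47)) :=
  Lre_f IH (LK LD1_c2 LD2_c25 LD3_c7) (LK LD1_c1 LD2_c9 LD3_c47) Lrfl Lrfl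
theorem f50831 : Led Lsl_bf (LP (LK LD1_c2 LD2_c25 LD3_c7)) = (LP (LK LD1_c4 LD2_c13 LD3_c41)) :=
  Lgr Lrot61 (Lpr_ft (f43779 IH) (Lpr_bt (f50821 IH) (Lpr_ft (f44984 IH) (Lpn (LP (LK LD1_c4 LD2_c13 LD3_c41))))))
theorem f43296 : Led Lsl_dt (LP (LK LD1_c2 LD2_c25 LD3_c7)) = (LP (LK LD1_c1 LD2_c9 LD3_c48)) :=
  Lre_d IH (LK LD1_c2 LD2_c25 LD3_c7) (LK LD1_c1 LD2_c9 LD3_c48) Lrfl Lrfl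
theorem f50837 : Led Lsl_bt (LP (LK LD1_c1 LD2_c9 LD3_c48)) = (LP (LK LD1_c2 LD2_c4 LD3_c11)) :=
  Lgr Lrot95 (Lpe (f43296 IH) (Lpr_bf (f50831 IH) (Lpe (f49439 IH) (Lpn (LP (LK LD1_c2 LD2_c4 LD3_c11))))))
theorem f50846 : Led Lsl_bf (LP (LK LD1_c1 LD2_c9 LD3_c48)) = (LP (LK LD1_c2 LD2_c4 LD3_c11)) :=
  Lgr Lrot24 (Lpr_bt (f50837 IH) (Lpn (LP (LK LD1_c2 LD2_c4 LD3_c11))))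
theorem f43300 : Led Lsl_ft (LP (LK LD1_c1 LD2_c9 LD3_c48)) = (LP (LK LD1_c0 LD2_c32 LD3_c18)) :=
  Lre_f IH (LK LD1_c1 LD2_c9 LD3_c48) (LK LD1_c0 LD2_c32 LD3_c18) Lrfl Lrfl
theorem f49542 : Led Lsl_ft (LP (LK LD1_c0 LD2_c59 LD3_c7)) = (LP (LK LD1_c2 LD2_c4 LD3_c11)) :=
  Lre_f IH (LK LD1_c0 LD2_c59 LD3_c7) (LK LD1_c2 LD2_c4 LD3_c11) Lrfl Lrfl
theorem f50850 : Led Lsl_bt (LP (LK LD1_c0 LD2_c32 LD3_c18)) = (LP (LK LD1_c0 LD2_c59 LD3_c7)) :=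
  Lgr Lrot35 (Lpe (f43300 IH) (Lpr_bf (f50846 IH) (Lpe (f49542 IH) (Lpn (LP (LK LD1_c0 LD2_c59 LD3_c7))))))
theorem f31462 : Led Lsl_ct (LP (LK LD1_c1 LD2_c9 LD3_c45)) = (LP (LK LD1_c0 LD2_c32 LD3_c18)) :=
  Lre_c IH (LK LD1_c1 LD2_c9 LD3_c45) (LK LD1_c0 LD2_c32 LD3_c18) Lrfl Lrfl
theorem f31463 : Led Lsl_ct (LP (LK LD1_c1 LD2_c55 LD3_c47)) = (LP (LK LD1_c0 LD2_c54 LD3_c38)) :=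
  Lre_c IH (LK LD1_c1 LD2_c55 LD3_c47) (LK LD1_c0 LD2_c54 LD3_c38) Lrfl Lrfl
theorem f49462 : Led Lsl_ct (LP (LK LD1_c0 LD2_c59 LD3_c7)) = (LP (LK LD1_c2 LD2_c4 LD3_c8)) :=
  Lre_c IH (LK LD1_c0 LD2_c59 LD3_c7) (LK LD1_c2 LD2_c4 LD3_c8) Lrfl Lrfl
theorem f50854 : Led Lsl_bf (LP (LK LD1_c1 LD2_c55 LD3_c47)) = (LP (LK LD1_c2 LD2_c4 LD3_c8)) :=
  Lgr Lrot90 (Lpr_ct (f31463 IH) (Lpe (K1.f31458 IH) (Lpr_ct (f31462 IH) (Lpr_bt (f50850 IH) (Lpr_ct (f49462 IH) (Lpn (LP (LK LD1_c2 LD2_c4 LD3_c8))))))))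
theorem f27583 : Led Lsl_bt (LP (LK LD1_c1 LD2_c8 LD3_c39)) = (LP (LK LD1_c0 LD2_c31 LD3_c25)) :=
  Lre_b IH (LK LD1_c1 LD2_c8 LD3_c39) (LK LD1_c0 LD2_c31 LD3_c25) Lrfl Lrfl
theorem f27584 : Led Lsl_bt (LP (LK LD1_c0 LD2_c26 LD3_c61)) = (LP (LK LD1_c0 LD2_c59 LD3_c11)) :=
  Lre_b IH (LK LD1_c0 LD2_c26 LD3_c61) (LK LD1_c0 LD2_c59 LD3_c11) Lrfl Lrfl
theorem f50858 : Led Lsl_at (LP (LK LD1_c0 LD2_c59 LD3_c11)) = (LP (LK LD1_c2 LD2_c4 LD3_c8)) :=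
  Lgr Lrot67 (Lpe (f27584 IH) (Lpe (K0.f27545 IH) (Lpe (f27583 IH) (Lpr_af (f43246 IH) (Lpr_bf (f50854 IH) (Lpn (LP (LK LD1_c2 LD2_c4 LD3_c8))))))))
theorem f49430 : Led Lsl_ct (LP (LK LD1_c2 LD2_c4 LD3_c8)) = (LP (LK LD1_c0 LD2_c59 LD3_c7)) :=
  Lre_c IH (LK LD1_c2 LD2_c4 LD3_c8) (LK LD1_c0 LD2_c59 LD3_c7) Lrfl Lrfl
theorem f50882 : Led Lsl_cf (LP (LK LD1_c0 LD2_c59 LD3_c11)) = (LP (LK LD1_c0 LD2_c59 LD3_c9)) :=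
  Lgr Lrot1 (Lpr_at (f50858 IH) (Lpr_ct (f49430 IH) (Lpr_at (K8.f49425 IH) (Lpn (LP (LK LD1_c0 LD2_c59 LD3_c9))))))
theorem f27404 : Led Lsl_ft (LP (LK LD1_c0 LD2_c59 LD3_c11)) = (LP (LK LD1_c2 LD2_c4 LD3_c20)) :=
  Lre_f IH (LK LD1_c0 LD2_c59 LD3_c11) (LK LD1_c2 LD2_c4 LD3_c20) Lrfl Lrfl
theorem f50888 : Led Lsl_ct (LP (LK LD1_c2 LD2_c4 LD3_c20)) = (LP (LK LD1_c2 LD2_c4 LD3_c15)) :=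
  Lgr Lrot40 (Lpe (f27404 IH) (Lpr_cf (f50882 IH) (Lpe (f49543 IH) (Lpn (LP (LK LD1_c2 LD2_c4 LD3_c15))))))
theorem f27410 : Led Lsl_bt (LP (LK LD1_c2 LD2_c4 LD3_c20)) = (LP (LK LD1_c0 LD2_c59 LD3_c18)) :=
  Lre_b IH (LK LD1_c2 LD2_c4 LD3_c20) (LK LD1_c0 LD2_c59 LD3_c18) Lrfl Lrfl
theorem f183819 : Led Lsl_gt (LP (LK LD1_c0 LD2_c39 LD3_c23)) = (LP (LK LD1_c0 LD2_c59 LD3_c18)) :=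
  Lgr Lrot164 (Lpe (f9093 IH) (Lpr_ct (f9091 IH) (Lpe (f20625 IH) (Lpe (f9073 IH) (Lpe (f55922 IH) (Lpe (f179065 IH) (Lpr_ct (f177784 IH) (Lpr_gf (f183707 IH) (Lpe (f50888 IH) (Lpr_bt (f27410 IH) (Lpn (LP (LK LD1_c0 LD2_c59 LD3_c18)))))))))))))
theorem f69380 : Led Lsl_ct (LP (LK LD1_c1 LD2_c27 LD3_c33)) = (LP (LK LD1_c0 LD2_c40 LD3_c31)) :=
  Lre_c IH (LK LD1_c1 LD2_c27 LD3_c33) (LK LD1_c0 LD2_c40 LD3_c31) Lrfl Lrfl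
theorem f101278 : Led Lsl_at (LP (LK LD1_c0 LD2_c40 LD3_c31)) = (LP (LK LD1_c0 LD2_c28 LD3_c26)) :=
  Lgr Lrot107 (Lpe (f69380 IH) (Lpr_af (f101057 IH) (Lpe (f101021 IH) (Lpn (LP (LK LD1_c0 LD2_c28 LD3_c26))))))
theorem f100970 : Led Lsl_ft (LP (LK LD1_c1 LD2_c27 LD3_c35)) = (LP (LK LD1_c0 LD2_c40 LD3_c31)) :=
  Lre_f IH (LK LD1_c1 LD2_c27 LD3_c35) (LK LD1_c0 LD2_c40 LD3_c31) Lrfl Lrfl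
theorem f36331 : Led Lsl_gt (LP (LK LD1_c1 LD2_c2 LD3_c22)) = (LP (LK LD1_c0 LD2_c28 LD3_c26)) :=
  Lre_g IH (LK LD1_c1 LD2_c2 LD3_c22) (LK LD1_c0 LD2_c28 LD3_c26) Lrfl Lrfl
theorem f101296 : Led Lsl_gt (LP (LK LD1_c1 LD2_c27 LD3_c35)) = (LP (LK LD1_c1 LD2_c2 LD3_c22)) :=
  Lgr Lrot5 (Lpr_ft (f100970 IH) (Lpr_at (f101278 IH) (Lpe (f36331 IH) (Lpn (LP (LK LD1_c1 LD2_c2 LD3_c22))))))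
theorem f101307 : Led Lsl_dt (LP (LK LD1_c2 LD2_c10 LD3_c42)) = (LP (LK LD1_c1 LD2_c2 LD3_c22)) :=
  Lre_d IH (LK LD1_c2 LD2_c10 LD3_c42) (LK LD1_c1 LD2_c2 LD3_c22) Lrfl Lrfl
theorem f35580 : Led Lsl_et (LP (LK LD1_c0 LD2_c28 LD3_c26)) = (LP (LK LD1_c0 LD2_c12 LD3_c33)) :=
  Lre_e IH (LK LD1_c0 LD2_c28 LD3_c26) (LK LD1_c0 LD2_c12 LD3_c33) Lrfl Lrfl
theorem f60452 : Led Lsl_gt (LP (LK LD1_c0 LD2_c40 LD3_c51)) = (LP (LK LD1_c1 LD2_c28 LD3_c21)) :=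
  Lre_g IH (LK LD1_c0 LD2_c40 LD3_c51) (LK LD1_c1 LD2_c28 LD3_c21) Lrfl Lrfl
theorem f101367 : Led Lsl_ef (LP (LK LD1_c1 LD2_c28 LD3_c21)) = (LP (LK LD1_c2 LD2_c10 LD3_c42)) :=
  Lgr Lrot17 (Lpe (f60452 IH) (Lpe (K1.f59674 IH) (Lpr_dt (K1.f59672 IH) (Lpr_gf (K1.f35511 IH) (Lpr_df (K1.f37439 IH) (Lpe (K1.f37384 IH) (Lpe (f35580 IH) (Lpr_dt (f101022 IH) (Lpe (f36331 IH) (Lpe (f101307 IH) (Lpn (LP (LK LD1_c2 LD2_c10 LD3_c42)))))))))))))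
theorem f181418 : Led Lsl_gf (LP (LK LD1_c1 LD2_c20 LD3_c39)) = (LP (LK LD1_c1 LD2_c28 LD3_c21)) :=
  Lgr Lrot138 (Lpr_dt (f60227 IH) (Lpe (f60699 IH) (Lpe (f80918 IH) (Lpr_et (f80917 IH) (Lpr_gt (f181414 IH) (Lpe (f100949 IH) (Lpr_dt (f100968 IH) (Lpr_gt (f101296 IH) (Lpe (f101307 IH) (Lpe (f101367 IH) (Lpn (LP (LK LD1_c1 LD2_c28 LD3_c21)))))))))))))
theorem f35398 : Led Lsl_ef (LP (LK LD1_c0 LD2_c13 LD3_c8)) = (LP (LK LD1_c0 LD2_c13 LD3_c8)) :=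
  Lgr Lrot28 (Lpr_ct (K0.f35392 IH) (Lpe (K0.f27202 IH) (Lpe (K0.f35396 IH) (Lpn (LP (LK LD1_c0 LD2_c13 LD3_c8))))))
theorem f80920 : Led Lsl_gt (LP (LK LD1_c0 LD2_c10 LD3_c58)) = (LP (LK LD1_c0 LD2_c5 LD3_c45)) :=
  Lgr Lrot137 (Lpe (K1.f59346 IH) (Lpr_dt (K1.f16640 IH) (Lpr_gf (K5.f80435 IH) (Lpr_df (K1.f59665 IH) (Lpe (K1.f35414 IH) (Lpr_gf (K1.f35511 IH) (Lpr_ef (f35398 IH) (Lpe (K2.f37910 IH) (Lpe (K1.f37384 IH) (Lpe (K1.f16651 IH) (Lpn (LP (LK LD1_c0 LD2_c5 LD3_c45)))))))))))))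
theorem f37915 : Led Lsl_dt (LP (LK LD1_c0 LD2_c24 LD3_c37)) = (LP (LK LD1_c0 LD2_c10 LD3_c58)) :=
  Lre_d IH (LK LD1_c0 LD2_c24 LD3_c37) (LK LD1_c0 LD2_c10 LD3_c58) Lrfl Lrfl
theorem f47063 : Led Lsl_gt (LP (LK LD1_c0 LD2_c25 LD3_c40)) = (LP (LK LD1_c0 LD2_c11 LD3_c26)) :=
  Lre_g IH (LK LD1_c0 LD2_c25 LD3_c40) (LK LD1_c0 LD2_c11 LD3_c26) Lrfl Lrfl
theorem f47064 : Led Lsl_dt (LP (LK LD1_c0 LD2_c56 LD3_c37)) = (LP (LK LD1_c0 LD2_c25 LD3_c40)) :=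
  Lre_d IH (LK LD1_c0 LD2_c56 LD3_c37) (LK LD1_c0 LD2_c25 LD3_c40) Lrfl Lrfl
theorem f36330 : Led Lsl_et (LP (LK LD1_c0 LD2_c12 LD3_c33)) = (LP (LK LD1_c0 LD2_c28 LD3_c26)) :=
  Lre_e IH (LK LD1_c0 LD2_c12 LD3_c33) (LK LD1_c0 LD2_c28 LD3_c26) Lrfl Lrfl
theorem f80924 : Led Lsl_et (LP (LK LD1_c0 LD2_c56 LD3_c37)) = (LP (LK LD1_c1 LD2_c2 LD3_c21)) :=
  Lgr Lrot122 (Lpr_dt (f47064 IH) (Lpr_gt (f47063 IH) (Lpe (K1.f36400 IH) (Lpr_et (K1.f56064 IH) (Lpr_gt (K1.f59254 IH) (Lpr_dt (f37915 IH) (Lpr_gt (f80920 IH) (Lpe (K1.f16652 IH) (Lpr_et (f36330 IH) (Lpr_gt (f80923 IH) (Lpn (LP (LK LD1_c1 LD2_c2 LD3_c21)))))))))))))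
theorem f181420 : Led Lsl_gt (LP (LK LD1_c0 LD2_c26 LD3_c55)) = (LP (LK LD1_c0 LD2_c25 LD3_c40)) :=
  Lgr Lrot112 (Lpe (K1.f27854 IH) (Lpr_et (K1.f60218 IH) (Lpr_gf (f181418 IH) (Lpr_ef (f101367 IH) (Lpr_dt (f101307 IH) (Lpe (f101296 IH) (Lpe (f100968 IH) (Lpr_gf (f101419 IH) (Lpe (f80924 IH) (Lpr_dt (f47064 IH) (Lpn (LP (LK LD1_c0 LD2_c25 LD3_c40)))))))))))))
theorem f181422 : Led Lsl_bt (LP (LK LD1_c0 LD2_c11 LD3_c36)) = (LP (LK LD1_c0 LD2_c25 LD3_c40)) :=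
  Lgr Lrot92 (Lpr_ct (f177779 IH) (Lpr_gt (f55922 IH) (Lpe (f8443 IH) (Lpe (K1.f55619 IH) (Lpr_gt (K8.f8144 IH) (Lpe (f181173 IH) (Lpr_gt (f181193 IH) (Lpe (K1.f8458 IH) (Lpe (K1.f45986 IH) (Lpr_gt (f181420 IH) (Lpn (LP (LK LD1_c0 LD2_c25 LD3_c40)))))))))))))
theorem f181431 : Led Lsl_bf (LP (LK LD1_c0 LD2_c7 LD3_c57)) = (LP (LK LD1_c0 LD2_c7 LD3_c57)) :=
  Lgr Lrot165 (Lpr_gt (f9090 IH) (Lpr_ct (K1.f8458 IH) (Lpr_gt (f179036 IH) (Lpe (f177779 IH) (Lpr_bt (f181422 IH) (Lpr_gt (f47063 IH) (Lpe (K1.f47048 IH) (Lpr_ct (K1.f47413 IH) (Lpr_gt (f168994 IH) (Lpe (f20758 IH) (Lpn (LP (LK LD1_c0 LD2_c7 LD3_c57)))))))))))))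
theorem f169005 : Led Lsl_bt (LP (LK LD1_c0 LD2_c39 LD3_c23)) = (LP (LK LD1_c0 LD2_c17 LD3_c38)) :=
  Lre_b IH (LK LD1_c0 LD2_c39 LD3_c23) (LK LD1_c0 LD2_c17 LD3_c38) Lrfl Lrfl
theorem f181433 : Led Lsl_ct (LP (LK LD1_c0 LD2_c39 LD3_c23)) = (LP (LK LD1_c0 LD2_c39 LD3_c23)) :=
  Lgr Lrot83 (Lpe (f9093 IH) (Lpe (f20758 IH) (Lpr_bf (f181431 IH) (Lpe (f9091 IH) (Lpe (f169005 IH) (Lpn (LP (LK LD1_c0 LD2_c39 LD3_c23))))))))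
theorem f47191 : Led Lsl_ct (LP (LK LD1_c0 LD2_c25 LD3_c46)) = (LP (LK LD1_c0 LD2_c28 LD3_c29)) :=
  Lgr Lrot40 (Lpe (K1.f47190 IH) (Lpr_cf (K1.f47104 IH) (Lpe (K1.f46083 IH) (Lpn (LP (LK LD1_c0 LD2_c28 LD3_c29))))))
theorem f44597 : Led Lsl_gt (LP (LK LD1_c1 LD2_c2 LD3_c27)) = (LP (LK LD1_c0 LD2_c28 LD3_c29)) :=
  Lre_g IH (LK LD1_c1 LD2_c2 LD3_c27) (LK LD1_c0 LD2_c28 LD3_c29) Lrfl Lrfl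
theorem f43277 : Led Lsl_bt (LP (LK LD1_c0 LD2_c59 LD3_c11)) = (LP (LK LD1_c0 LD2_c26 LD3_c61)) :=
  Lre_b IH (LK LD1_c0 LD2_c59 LD3_c11) (LK LD1_c0 LD2_c26 LD3_c61) Lrfl Lrfl
theorem f50884 : Led Lsl_bt (LP (LK LD1_c2 LD2_c4 LD3_c12)) = (LP (LK LD1_c0 LD2_c59 LD3_c9)) :=
  Lre_b IH (LK LD1_c2 LD2_c4 LD3_c12) (LK LD1_c0 LD2_c59 LD3_c9) Lrfl Lrfl
theorem f30836 : Led Lsl_et (LP (LK LD1_c0 LD2_c27 LD3_c56)) = (LP (LK LD1_c1 LD2_c1 LD3_c8)) :=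
  Lre_e IH (LK LD1_c0 LD2_c27 LD3_c56) (LK LD1_c1 LD2_c1 LD3_c8) Lrfl Lrfl
theorem f44518 : Led Lsl_cf (LP (LK LD1_c2 LD2_c4 LD3_c12)) = (LP (LK LD1_c1 LD2_c1 LD3_c8)) :=
  Lgr Lrot39 (Lpr_et (f44517 IH) (Lpr_ct (K1.f44510 IH) (Lpr_et (f30836 IH) (Lpn (LP (LK LD1_c1 LD2_c1 LD3_c8))))))
theorem f28155 : Led Lsl_et (LP (LK LD1_c0 LD2_c55 LD3_c28)) = (LP (LK LD1_c0 LD2_c25 LD3_c9)) :=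
  Lre_e IH (LK LD1_c0 LD2_c55 LD3_c28) (LK LD1_c0 LD2_c25 LD3_c9) Lrfl Lrfl
theorem f30858 : Led Lsl_dt (LP (LK LD1_c1 LD2_c57 LD3_c17)) = (LP (LK LD1_c0 LD2_c55 LD3_c28)) :=
  Lre_d IH (LK LD1_c1 LD2_c57 LD3_c17) (LK LD1_c0 LD2_c55 LD3_c28) Lrfl Lrfl
theorem f30859 : Led Lsl_dt (LP (LK LD1_c1 LD2_c1 LD3_c8)) = (LP (LK LD1_c2 LD2_c8 LD3_c0)) :=
  Lre_d IH (LK LD1_c1 LD2_c1 LD3_c8) (LK LD1_c2 LD2_c8 LD3_c0) Lrfl Lrfl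
theorem f30860 : Led Lsl_ef (LP (LK LD1_c1 LD2_c57 LD3_c17)) = (LP (LK LD1_c2 LD2_c8 LD3_c0)) :=
  Lgr Lrot73 (Lpr_dt (f30858 IH) (Lpr_et (f28155 IH) (Lpr_dt (K1.f30841 IH) (Lpr_et (f30836 IH) (Lpr_dt (f30859 IH) (Lpn (LP (LK LD1_c2 LD2_c8 LD3_c0))))))))
theorem f30870 : Led Lsl_et (LP (LK LD1_c1 LD2_c57 LD3_c17)) = (LP (LK LD1_c2 LD2_c8 LD3_c0)) :=
  Lgr Lrot87 (Lpr_ef (f30860 IH) (Lpn (LP (LK LD1_c2 LD2_c8 LD3_c0))))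
theorem f30880 : Led Lsl_ct (LP (LK LD1_c4 LD2_c0 LD3_c60)) = (LP (LK LD1_c1 LD2_c57 LD3_c17)) :=
  Lre_c IH (LK LD1_c4 LD2_c0 LD3_c60) (LK LD1_c1 LD2_c57 LD3_c17) Lrfl Lrfl
theorem f30881 : Led Lsl_ct (LP (LK LD1_c2 LD2_c8 LD3_c0)) = (LP (LK LD1_c4 LD2_c21 LD3_c0)) :=
  Lre_c IH (LK LD1_c2 LD2_c8 LD3_c0) (LK LD1_c4 LD2_c21 LD3_c0) Lrfl Lrfl
theorem f30882 : Led Lsl_ef (LP (LK LD1_c4 LD2_c0 LD3_c60)) = (LP (LK LD1_c4 LD2_c21 LD3_c0)) :=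
  Lgr Lrot28 (Lpr_ct (f30880 IH) (Lpr_et (f30870 IH) (Lpr_ct (f30881 IH) (Lpn (LP (LK LD1_c4 LD2_c21 LD3_c0))))))
theorem f30886 : Led Lsl_bt (LP (LK LD1_c4 LD2_c0 LD3_c60)) = (LP (LK LD1_c8 LD2_c2 LD3_c44)) :=
  Lre_b IH (LK LD1_c4 LD2_c0 LD3_c60) (LK LD1_c8 LD2_c2 LD3_c44) Lrfl Lrfl
theorem f30887 : Led Lsl_bt (LP (LK LD1_c8 LD2_c39 LD3_c45)) = (LP (LK LD1_c4 LD2_c21 LD3_c0)) :=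
  Lre_b IH (LK LD1_c8 LD2_c39 LD3_c45) (LK LD1_c4 LD2_c21 LD3_c0) Lrfl Lrfl
theorem f30888 : Led Lsl_et (LP (LK LD1_c8 LD2_c2 LD3_c44)) = (LP (LK LD1_c8 LD2_c39 LD3_c45)) :=
  Lgr Lrot74 (Lpe (f30886 IH) (Lpr_ef (f30882 IH) (Lpe (f30887 IH) (Lpn (LP (LK LD1_c8 LD2_c39 LD3_c45))))))
theorem f30915 : Led Lsl_ef (LP (LK LD1_c8 LD2_c2 LD3_c44)) = (LP (LK LD1_c8 LD2_c39 LD3_c45)) :=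
  Lgr Lrot88 (Lpr_et (f30888 IH) (Lpn (LP (LK LD1_c8 LD2_c39 LD3_c45))))
theorem f30926 : Led Lsl_ct (LP (LK LD1_c8 LD2_c2 LD3_c44)) = (LP (LK LD1_c4 LD2_c1 LD3_c9)) :=
  Lre_c IH (LK LD1_c8 LD2_c2 LD3_c44) (LK LD1_c4 LD2_c1 LD3_c9) Lrfl Lrfl
theorem f30927 : Led Lsl_et (LP (LK LD1_c4 LD2_c1 LD3_c9)) = (LP (LK LD1_c8 LD2_c2 LD3_c49)) :=
  Lre_e IH (LK LD1_c4 LD2_c1 LD3_c9) (LK LD1_c8 LD2_c2 LD3_c49) Lrfl Lrfl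
theorem f30928 : Led Lsl_ct (LP (LK LD1_c8 LD2_c2 LD3_c49)) = (LP (LK LD1_c8 LD2_c39 LD3_c45)) :=
  Lgr Lrot15 (Lpe (f30927 IH) (Lpe (f30926 IH) (Lpr_ef (f30915 IH) (Lpn (LP (LK LD1_c8 LD2_c39 LD3_c45))))))
theorem f30940 : Led Lsl_ft (LP (LK LD1_c15 LD2_c9 LD3_c8)) = (LP (LK LD1_c8 LD2_c2 LD3_c49)) :=
  Lre_f IH (LK LD1_c15 LD2_c9 LD3_c8) (LK LD1_c8 LD2_c2 LD3_c49) Lrfl Lrfl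
theorem f30917 : Led Lsl_ft (LP (LK LD1_c8 LD2_c39 LD3_c45)) = (LP (LK LD1_c16 LD2_c13 LD3_c28)) :=
  Lre_f IH (LK LD1_c8 LD2_c39 LD3_c45) (LK LD1_c16 LD2_c13 LD3_c28) Lrfl Lrfl
theorem f30941 : Led Lsl_cf (LP (LK LD1_c15 LD2_c9 LD3_c8)) = (LP (LK LD1_c16 LD2_c13 LD3_c28)) :=
  Lgr Lrot108 (Lpr_ft (f30940 IH) (Lpr_ct (f30928 IH) (Lpr_ft (f30917 IH) (Lpn (LP (LK LD1_c16 LD2_c13 LD3_c28))))))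
theorem f30962 : Led Lsl_ct (LP (LK LD1_c15 LD2_c9 LD3_c8)) = (LP (LK LD1_c16 LD2_c13 LD3_c28)) :=
  Lgr Lrot59 (Lpr_cf (f30941 IH) (Lpn (LP (LK LD1_c16 LD2_c13 LD3_c28))))
theorem f30970 : Led Lsl_bt (LP (LK LD1_c8 LD2_c2 LD3_c51)) = (LP (LK LD1_c15 LD2_c9 LD3_c8)) :=
  Lre_b IH (LK LD1_c8 LD2_c2 LD3_c51) (LK LD1_c15 LD2_c9 LD3_c8) Lrfl Lrfl
theorem f30971 : Led Lsl_ct (LP (LK LD1_c4 LD2_c1 LD3_c3)) = (LP (LK LD1_c8 LD2_c2 LD3_c51)) :=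
  Lre_c IH (LK LD1_c4 LD2_c1 LD3_c3) (LK LD1_c8 LD2_c2 LD3_c51) Lrfl Lrfl
theorem f30969 : Led Lsl_bt (LP (LK LD1_c16 LD2_c13 LD3_c28)) = (LP (LK LD1_c8 LD2_c39 LD3_c47)) :=
  Lre_b IH (LK LD1_c16 LD2_c13 LD3_c28) (LK LD1_c8 LD2_c39 LD3_c47) Lrfl Lrfl
theorem f30972 : Led Lsl_ct (LP (LK LD1_c8 LD2_c39 LD3_c47)) = (LP (LK LD1_c4 LD2_c21 LD3_c1)) :=
  Lre_c IH (LK LD1_c8 LD2_c39 LD3_c47) (LK LD1_c4 LD2_c21 LD3_c1) Lrfl Lrfl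
theorem f30973 : Led Lsl_bf (LP (LK LD1_c4 LD2_c1 LD3_c3)) = (LP (LK LD1_c4 LD2_c21 LD3_c1)) :=
  Lgr Lrot90 (Lpr_ct (f30971 IH) (Lpr_bt (f30970 IH) (Lpr_ct (f30962 IH) (Lpr_bt (f30969 IH) (Lpr_ct (f30972 IH) (Lpn (LP (LK LD1_c4 LD2_c21 LD3_c1))))))))
theorem f28060 : Led Lsl_dt (LP (LK LD1_c4 LD2_c1 LD3_c3)) = (LP (LK LD1_c1 LD2_c57 LD3_c20)) :=
  Lre_d IH (LK LD1_c4 LD2_c1 LD3_c3) (LK LD1_c1 LD2_c57 LD3_c20) Lrfl Lrfl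
theorem f30850 : Led Lsl_dt (LP (LK LD1_c2 LD2_c8 LD3_c1)) = (LP (LK LD1_c4 LD2_c21 LD3_c1)) :=
  Lre_d IH (LK LD1_c2 LD2_c8 LD3_c1) (LK LD1_c4 LD2_c21 LD3_c1) Lrfl Lrfl
theorem f30979 : Led Lsl_bt (LP (LK LD1_c1 LD2_c57 LD3_c20)) = (LP (LK LD1_c2 LD2_c8 LD3_c1)) :=
  Lgr Lrot95 (Lpe (f28060 IH) (Lpr_bf (f30973 IH) (Lpe (f30850 IH) (Lpn (LP (LK LD1_c2 LD2_c8 LD3_c1))))))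
theorem f30989 : Led Lsl_bf (LP (LK LD1_c1 LD2_c57 LD3_c20)) = (LP (LK LD1_c2 LD2_c8 LD3_c1)) :=
  Lgr Lrot24 (Lpr_bt (f30979 IH) (Lpn (LP (LK LD1_c2 LD2_c8 LD3_c1))))
theorem f28061 : Led Lsl_ft (LP (LK LD1_c1 LD2_c57 LD3_c20)) = (LP (LK LD1_c0 LD2_c55 LD3_c29)) :=
  Lre_f IH (LK LD1_c1 LD2_c57 LD3_c20) (LK LD1_c0 LD2_c55 LD3_c29) Lrfl Lrfl
theorem f30843 : Led Lsl_ft (LP (LK LD1_c1 LD2_c1 LD3_c8)) = (LP (LK LD1_c2 LD2_c8 LD3_c1)) :=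
  Lre_f IH (LK LD1_c1 LD2_c1 LD3_c8) (LK LD1_c2 LD2_c8 LD3_c1) Lrfl Lrfl
theorem f30991 : Led Lsl_bt (LP (LK LD1_c0 LD2_c55 LD3_c29)) = (LP (LK LD1_c1 LD2_c1 LD3_c8)) :=
  Lgr Lrot35 (Lpe (f28061 IH) (Lpr_bf (f30989 IH) (Lpe (f30843 IH) (Lpn (LP (LK LD1_c1 LD2_c1 LD3_c8))))))
theorem f50885 : Led Lsl_ct (LP (LK LD1_c0 LD2_c26 LD3_c61)) = (LP (LK LD1_c0 LD2_c55 LD3_c29)) :=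
  Lgr Lrot83 (Lpe (f43277 IH) (Lpr_cf (f50882 IH) (Lpe (f50884 IH) (Lpr_cf (f44518 IH) (Lpe (f30991 IH) (Lpn (LP (LK LD1_c0 LD2_c55 LD3_c29))))))))
theorem f27532 : Led Lsl_ft (LP (LK LD1_c0 LD2_c59 LD3_c18)) = (LP (LK LD1_c0 LD2_c26 LD3_c61)) :=
  Lre_f IH (LK LD1_c0 LD2_c59 LD3_c18) (LK LD1_c0 LD2_c26 LD3_c61) Lrfl Lrfl
theorem f28063 : Led Lsl_ft (LP (LK LD1_c0 LD2_c55 LD3_c29)) = (LP (LK LD1_c1 LD2_c57 LD3_c20)) :=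
  Lre_f IH (LK LD1_c0 LD2_c55 LD3_c29) (LK LD1_c1 LD2_c57 LD3_c20) Lrfl Lrfl
theorem f50910 : Led Lsl_cf (LP (LK LD1_c0 LD2_c59 LD3_c18)) = (LP (LK LD1_c1 LD2_c57 LD3_c20)) :=
  Lgr Lrot108 (Lpr_ft (f27532 IH) (Lpr_ct (f50885 IH) (Lpr_ft (f28063 IH) (Lpn (LP (LK LD1_c1 LD2_c57 LD3_c20))))))
theorem f50384 : Led Lsl_et (LP (LK LD1_c0 LD2_c25 LD3_c31)) = (LP (LK LD1_c0 LD2_c56 LD3_c8)) :=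
  Lre_e IH (LK LD1_c0 LD2_c25 LD3_c31) (LK LD1_c0 LD2_c56 LD3_c8) Lrfl Lrfl
theorem f50385 : Led Lsl_bt (LP (LK LD1_c0 LD2_c56 LD3_c4)) = (LP (LK LD1_c0 LD2_c25 LD3_c31)) :=
  Lre_b IH (LK LD1_c0 LD2_c56 LD3_c4) (LK LD1_c0 LD2_c25 LD3_c31) Lrfl Lrfl
theorem f50386 : Led Lsl_ef (LP (LK LD1_c0 LD2_c56 LD3_c4)) = (LP (LK LD1_c0 LD2_c57 LD3_c40)) :=
  Lgr Lrot29 (Lpr_bt (f50385 IH) (Lpr_et (f50384 IH) (Lpr_bt (f50379 IH) (Lpn (LP (LK LD1_c0 LD2_c57 LD3_c40))))))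
theorem f1438 : Led Lsl_dt (LP (LK LD1_c0 LD2_c26 LD3_c16)) = (LP (LK LD1_c0 LD2_c57 LD3_c45)) :=
  Lre_d IH (LK LD1_c0 LD2_c26 LD3_c16) (LK LD1_c0 LD2_c57 LD3_c45) Lrfl Lrfl
theorem f49594 : Led Lsl_af (LP (LK LD1_c0 LD2_c57 LD3_c40)) = (LP (LK LD1_c0 LD2_c57 LD3_c45)) :=
  Lgr Lrot117 (Lpr_dt (f49593 IH) (Lpr_at (f49583 IH) (Lpr_dt (f1438 IH) (Lpn (LP (LK LD1_c0 LD2_c57 LD3_c45))))))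
theorem f47733 : Led Lsl_dt (LP (LK LD1_c0 LD2_c57 LD3_c45)) = (LP (LK LD1_c0 LD2_c26 LD3_c16)) :=
  Lre_d IH (LK LD1_c0 LD2_c57 LD3_c45) (LK LD1_c0 LD2_c26 LD3_c16) Lrfl Lrfl
theorem f47734 : Led Lsl_et (LP (LK LD1_c0 LD2_c15 LD3_c31)) = (LP (LK LD1_c0 LD2_c34 LD3_c36)) :=
  Lre_e IH (LK LD1_c0 LD2_c15 LD3_c31) (LK LD1_c0 LD2_c34 LD3_c36) Lrfl Lrfl
theorem f47735 : Led Lsl_ef (LP (LK LD1_c0 LD2_c57 LD3_c45)) = (LP (LK LD1_c1 LD2_c14 LD3_c36)) :=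
  Lgr Lrot73 (Lpr_dt (f47733 IH) (Lpr_et (f1437 IH) (Lpr_dt (K1.f47534 IH) (Lpr_et (f47734 IH) (Lpr_dt (f32161 IH) (Lpn (LP (LK LD1_c1 LD2_c14 LD3_c36))))))))
theorem f50392 : Led Lsl_at (LP (LK LD1_c0 LD2_c56 LD3_c4)) = (LP (LK LD1_c1 LD2_c14 LD3_c36)) :=
  Lgr Lrot80 (Lpr_ef (f50386 IH) (Lpr_af (f49594 IH) (Lpr_ef (f47735 IH) (Lpn (LP (LK LD1_c1 LD2_c14 LD3_c36))))))
theorem f50400 : Led Lsl_bt (LP (LK LD1_c0 LD2_c25 LD3_c31)) = (LP (LK LD1_c0 LD2_c56 LD3_c4)) :=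
  Lre_b IH (LK LD1_c0 LD2_c25 LD3_c31) (LK LD1_c0 LD2_c56 LD3_c4) Lrfl Lrfl
theorem f50401 : Led Lsl_at (LP (LK LD1_c0 LD2_c55 LD3_c30)) = (LP (LK LD1_c0 LD2_c25 LD3_c31)) :=
  Lre_a IH (LK LD1_c0 LD2_c55 LD3_c30) (LK LD1_c0 LD2_c25 LD3_c31) Lrfl Lrfl
theorem f30862 : Led Lsl_bt (LP (LK LD1_c1 LD2_c57 LD3_c17)) = (LP (LK LD1_c0 LD2_c55 LD3_c30)) :=
  Lre_b IH (LK LD1_c1 LD2_c57 LD3_c17) (LK LD1_c0 LD2_c55 LD3_c30) Lrfl Lrfl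
theorem f49224 : Led Lsl_bt (LP (LK LD1_c1 LD2_c14 LD3_c36)) = (LP (LK LD1_c2 LD2_c35 LD3_c11)) :=
  Lre_b IH (LK LD1_c1 LD2_c14 LD3_c36) (LK LD1_c2 LD2_c35 LD3_c11) Lrfl Lrfl
theorem f50402 : Led Lsl_af (LP (LK LD1_c1 LD2_c57 LD3_c17)) = (LP (LK LD1_c2 LD2_c35 LD3_c11)) :=
  Lgr Lrot36 (Lpr_bt (f30862 IH) (Lpr_at (f50401 IH) (Lpr_bt (f50400 IH) (Lpr_at (f50392 IH) (Lpr_bt (f49224 IH) (Lpn (LP (LK LD1_c2 LD2_c35 LD3_c11))))))))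
theorem f50606 : Led Lsl_at (LP (LK LD1_c2 LD2_c8 LD3_c0)) = (LP (LK LD1_c2 LD2_c1 LD3_c16)) :=
  Lgr Lrot80 (Lpe (f30870 IH) (Lpr_af (f50402 IH) (Lpe (f49231 IH) (Lpn (LP (LK LD1_c2 LD2_c1 LD3_c16))))))
theorem f30872 : Led Lsl_ft (LP (LK LD1_c4 LD2_c21 LD3_c1)) = (LP (LK LD1_c2 LD2_c8 LD3_c0)) :=
  Lre_f IH (LK LD1_c4 LD2_c21 LD3_c1) (LK LD1_c2 LD2_c8 LD3_c0) Lrfl Lrfl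
theorem f49233 : Led Lsl_ft (LP (LK LD1_c2 LD2_c1 LD3_c16)) = (LP (LK LD1_c4 LD2_c7 LD3_c52)) :=
  Lre_f IH (LK LD1_c2 LD2_c1 LD3_c16) (LK LD1_c4 LD2_c7 LD3_c52) Lrfl Lrfl
theorem f50612 : Led Lsl_af (LP (LK LD1_c4 LD2_c21 LD3_c1)) = (LP (LK LD1_c4 LD2_c7 LD3_c52)) :=
  Lgr Lrot45 (Lpr_ft (f30872 IH) (Lpr_at (f50606 IH) (Lpr_ft (f49233 IH) (Lpn (LP (LK LD1_c4 LD2_c7 LD3_c52))))))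
theorem f30848 : Led Lsl_dt (LP (LK LD1_c4 LD2_c21 LD3_c1)) = (LP (LK LD1_c2 LD2_c8 LD3_c1)) :=
  Lre_d IH (LK LD1_c4 LD2_c21 LD3_c1) (LK LD1_c2 LD2_c8 LD3_c1) Lrfl Lrfl
theorem f50103 : Led Lsl_dt (LP (LK LD1_c2 LD2_c1 LD3_c17)) = (LP (LK LD1_c4 LD2_c7 LD3_c52)) :=
  Lre_d IH (LK LD1_c2 LD2_c1 LD3_c17) (LK LD1_c4 LD2_c7 LD3_c52) Lrfl Lrfl
theorem f50616 : Led Lsl_at (LP (LK LD1_c2 LD2_c8 LD3_c1)) = (LP (LK LD1_c2 LD2_c1 LD3_c17)) :=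
  Lgr Lrot51 (Lpe (f30848 IH) (Lpr_af (f50612 IH) (Lpe (f50103 IH) (Lpn (LP (LK LD1_c2 LD2_c1 LD3_c17))))))
theorem f50621 : Led Lsl_af (LP (LK LD1_c2 LD2_c8 LD3_c1)) = (LP (LK LD1_c2 LD2_c1 LD3_c17)) :=
  Lgr Lrot0 (Lpr_at (f50616 IH) (Lpn (LP (LK LD1_c2 LD2_c1 LD3_c17))))
theorem f30845 : Led Lsl_ft (LP (LK LD1_c2 LD2_c8 LD3_c1)) = (LP (LK LD1_c1 LD2_c1 LD3_c8)) :=
  Lre_f IH (LK LD1_c2 LD2_c8 LD3_c1) (LK LD1_c1 LD2_c1 LD3_c8) Lrfl Lrfl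
theorem f50108 : Led Lsl_ft (LP (LK LD1_c0 LD2_c57 LD3_c42)) = (LP (LK LD1_c2 LD2_c1 LD3_c17)) :=
  Lre_f IH (LK LD1_c0 LD2_c57 LD3_c42) (LK LD1_c2 LD2_c1 LD3_c17) Lrfl Lrfl
theorem f50625 : Led Lsl_at (LP (LK LD1_c1 LD2_c1 LD3_c8)) = (LP (LK LD1_c0 LD2_c57 LD3_c42)) :=
  Lgr Lrot66 (Lpe (f30845 IH) (Lpr_af (f50621 IH) (Lpe (f50108 IH) (Lpn (LP (LK LD1_c0 LD2_c57 LD3_c42))))))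
theorem f49221 : Led Lsl_gt (LP (LK LD1_c2 LD2_c1 LD3_c15)) = (LP (LK LD1_c0 LD2_c57 LD3_c42)) :=
  Lre_g IH (LK LD1_c2 LD2_c1 LD3_c15) (LK LD1_c0 LD2_c57 LD3_c42) Lrfl Lrfl
theorem f50628 : Led Lsl_gt (LP (LK LD1_c2 LD2_c8 LD3_c1)) = (LP (LK LD1_c2 LD2_c1 LD3_c15)) :=
  Lgr Lrot5 (Lpr_ft (f30845 IH) (Lpr_at (f50625 IH) (Lpe (f49221 IH) (Lpn (LP (LK LD1_c2 LD2_c1 LD3_c15))))))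
theorem f183826 : Led Lsl_cf (LP (LK LD1_c1 LD2_c2 LD3_c27)) = (LP (LK LD1_c2 LD2_c1 LD3_c15)) :=
  Lgr Lrot125 (Lpr_gt (f44597 IH) (Lpe (f47191 IH) (Lpr_bt (K1.f47050 IH) (Lpr_gt (f168994 IH) (Lpe (f169005 IH) (Lpr_ct (f181433 IH) (Lpr_gt (f183819 IH) (Lpr_cf (f50910 IH) (Lpr_bt (f30979 IH) (Lpr_gt (f50628 IH) (Lpn (LP (LK LD1_c2 LD2_c1 LD3_c15)))))))))))))
theorem f9092 : Led Lsl_gt (LP (LK LD1_c0 LD2_c35 LD3_c9)) = (LP (LK LD1_c1 LD2_c15 LD3_c22)) :=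
  Lre_g IH (LK LD1_c0 LD2_c35 LD3_c9) (LK LD1_c1 LD2_c15 LD3_c22) Lrfl Lrfl
theorem f183836 : Led Lsl_bf (LP (LK LD1_c1 LD2_c15 LD3_c22)) = (LP (LK LD1_c2 LD2_c1 LD3_c15)) :=
  Lgr Lrot34 (Lpe (f9092 IH) (Lpe (K1.f7660 IH) (Lpe (f9068 IH) (Lpe (f9090 IH) (Lpe (f9091 IH) (Lpe (f168994 IH) (Lpe (K1.f47050 IH) (Lpr_ct (f47191 IH) (Lpe (f44597 IH) (Lpr_cf (f183826 IH) (Lpn (LP (LK LD1_c2 LD2_c1 LD3_c15)))))))))))))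
theorem f44319 : Led Lsl_gt (LP (LK LD1_c1 LD2_c15 LD3_c22)) = (LP (LK LD1_c0 LD2_c34 LD3_c59)) :=
  Lre_g IH (LK LD1_c1 LD2_c15 LD3_c22) (LK LD1_c0 LD2_c34 LD3_c59) Lrfl Lrfl
theorem f44295 : Led Lsl_ct (LP (LK LD1_c0 LD2_c34 LD3_c59)) = (LP (LK LD1_c1 LD2_c2 LD3_c23)) :=
  Lgr Lrot15 (Lpe (K1.f41522 IH) (Lpr_cf (K1.f44289 IH) (Lpe (K1.f44230 IH) (Lpn (LP (LK LD1_c1 LD2_c2 LD3_c23))))))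
theorem f44245 : Led Lsl_gt (LP (LK LD1_c1 LD2_c2 LD3_c23)) = (LP (LK LD1_c2 LD2_c10 LD3_c44)) :=
  Lre_g IH (LK LD1_c1 LD2_c2 LD3_c23) (LK LD1_c2 LD2_c10 LD3_c44) Lrfl Lrfl
theorem f7661 : Led Lsl_bt (LP (LK LD1_c0 LD2_c35 LD3_c9)) = (LP (LK LD1_c0 LD2_c15 LD3_c55)) :=
  Lre_b IH (LK LD1_c0 LD2_c35 LD3_c9) (LK LD1_c0 LD2_c15 LD3_c55) Lrfl Lrfl
theorem f46425 : Led Lsl_ft (LP (LK LD1_c0 LD2_c35 LD3_c9)) = (LP (LK LD1_c0 LD2_c15 LD3_c47)) :=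
  Lre_f IH (LK LD1_c0 LD2_c35 LD3_c9) (LK LD1_c0 LD2_c15 LD3_c47) Lrfl Lrfl
theorem f46426 : Led Lsl_at (LP (LK LD1_c0 LD2_c15 LD3_c47)) = (LP (LK LD1_c0 LD2_c34 LD3_c59)) :=
  Lre_a IH (LK LD1_c0 LD2_c15 LD3_c47) (LK LD1_c0 LD2_c34 LD3_c59) Lrfl Lrfl
theorem f46427 : Led Lsl_ct (LP (LK LD1_c1 LD2_c2 LD3_c23)) = (LP (LK LD1_c0 LD2_c34 LD3_c59)) :=
  Lgr Lrot98 (Lpe (K1.f44229 IH) (Lpe (K1.f44217 IH) (Lpe (K1.f44226 IH) (Lpr_cf (K1.f46410 IH) (Lpe (K1.f46409 IH) (Lpe (K1.f46408 IH) (Lpe (K1.f46407 IH) (Lpr_ft (f46425 IH) (Lpr_at (f46426 IH) (Lpn (LP (LK LD1_c0 LD2_c34 LD3_c59))))))))))))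
theorem f46134 : Led Lsl_ft (LP (LK LD1_c2 LD2_c10 LD3_c47)) = (LP (LK LD1_c1 LD2_c2 LD3_c23)) :=
  Lre_f IH (LK LD1_c2 LD2_c10 LD3_c47) (LK LD1_c1 LD2_c2 LD3_c23) Lrfl Lrfl
theorem f46445 : Led Lsl_cf (LP (LK LD1_c2 LD2_c10 LD3_c47)) = (LP (LK LD1_c1 LD2_c15 LD3_c24)) :=
  Lgr Lrot108 (Lpr_ft (f46134 IH) (Lpr_ct (f46427 IH) (Lpr_ft (K1.f41521 IH) (Lpn (LP (LK LD1_c1 LD2_c15 LD3_c24))))))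
theorem f41518 : Led Lsl_at (LP (LK LD1_c0 LD2_c35 LD3_c9)) = (LP (LK LD1_c1 LD2_c15 LD3_c24)) :=
  Lre_a IH (LK LD1_c0 LD2_c35 LD3_c9) (LK LD1_c1 LD2_c15 LD3_c24) Lrfl Lrfl
theorem f46451 : Led Lsl_at (LP (LK LD1_c2 LD2_c10 LD3_c47)) = (LP (LK LD1_c1 LD2_c15 LD3_c40)) :=
  Lgr Lrot107 (Lpr_cf (f46445 IH) (Lpe (f41518 IH) (Lpe (K1.f9071 IH) (Lpn (LP (LK LD1_c1 LD2_c15 LD3_c40))))))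
theorem f46133 : Led Lsl_ft (LP (LK LD1_c1 LD2_c2 LD3_c23)) = (LP (LK LD1_c2 LD2_c10 LD3_c47)) :=
  Lre_f IH (LK LD1_c1 LD2_c2 LD3_c23) (LK LD1_c2 LD2_c10 LD3_c47) Lrfl Lrfl
theorem f46478 : Led Lsl_gt (LP (LK LD1_c2 LD2_c10 LD3_c44)) = (LP (LK LD1_c1 LD2_c15 LD3_c40)) :=
  Lgr Lrot46 (Lpe (f44245 IH) (Lpr_ft (f46133 IH) (Lpr_at (f46451 IH) (Lpn (LP (LK LD1_c1 LD2_c15 LD3_c40))))))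
theorem f55030 : Led Lsl_bt (LP (LK LD1_c2 LD2_c0 LD3_c29)) = (LP (LK LD1_c0 LD2_c57 LD3_c14)) :=
  Lre_b IH (LK LD1_c2 LD2_c0 LD3_c29) (LK LD1_c0 LD2_c57 LD3_c14) Lrfl Lrfl
theorem f179063 : Led Lsl_cf (LP (LK LD1_c2 LD2_c10 LD3_c44)) = (LP (LK LD1_c2 LD2_c0 LD3_c29)) :=
  Lgr Lrot160 (Lpr_gt (f46478 IH) (Lpe (K1.f45813 IH) (Lpr_bt (f7661 IH) (Lpr_gt (f179036 IH) (Lpe (f177785 IH) (Lpr_gt (f8257 IH) (Lpe (K1.f21292 IH) (Lpr_bt (f55012 IH) (Lpr_gt (f54977 IH) (Lpe (f55030 IH) (Lpn (LP (LK LD1_c2 LD2_c0 LD3_c29)))))))))))))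
theorem f47856 : Led Lsl_gt (LP (LK LD1_c0 LD2_c57 LD3_c14)) = (LP (LK LD1_c2 LD2_c0 LD3_c28)) :=
  Lre_g IH (LK LD1_c0 LD2_c57 LD3_c14) (LK LD1_c2 LD2_c0 LD3_c28) Lrfl Lrfl
theorem f46205 : Led Lsl_ct (LP (LK LD1_c1 LD2_c59 LD3_c43)) = (LP (LK LD1_c1 LD2_c2 LD3_c26)) :=
  Lgr Lrot59 (Lpr_cf (K1.f46196 IH) (Lpn (LP (LK LD1_c1 LD2_c2 LD3_c26))))
theorem f183838 : Led Lsl_gf (LP (LK LD1_c1 LD2_c2 LD3_c27)) = (LP (LK LD1_c1 LD2_c2 LD3_c26)) :=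
  Lgr Lrot126 (Lpr_cf (f183826 IH) (Lpe (f183836 IH) (Lpr_gt (f44319 IH) (Lpr_ct (f44295 IH) (Lpr_gt (f44245 IH) (Lpr_cf (f179063 IH) (Lpr_bt (f55030 IH) (Lpr_gt (f47856 IH) (Lpe (K1.f55019 IH) (Lpr_ct (f46205 IH) (Lpn (LP (LK LD1_c1 LD2_c2 LD3_c26)))))))))))))
theorem f41787 : Led Lsl_bf (LP (LK LD1_c0 LD2_c34 LD3_c59)) = (LP (LK LD1_c0 LD2_c39 LD3_c8)) :=
  Lgr Lrot96 (Lpr_et (K1.f41520 IH) (Lpr_bt (K1.f41782 IH) (Lpr_et (K1.f41746 IH) (Lpn (LP (LK LD1_c0 LD2_c39 LD3_c8))))))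
theorem f46220 : Led Lsl_gt (LP (LK LD1_c0 LD2_c56 LD3_c48)) = (LP (LK LD1_c1 LD2_c59 LD3_c43)) :=
  Lre_g IH (LK LD1_c0 LD2_c56 LD3_c48) (LK LD1_c1 LD2_c59 LD3_c43) Lrfl Lrfl
theorem f182519 : Led Lsl_bt (LP (LK LD1_c1 LD2_c59 LD3_c44)) = (LP (LK LD1_c0 LD2_c56 LD3_c48)) :=
  Lre_b IH (LK LD1_c1 LD2_c59 LD3_c44) (LK LD1_c0 LD2_c56 LD3_c48) Lrfl Lrfl
theorem f41814 : Led Lsl_bt (LP (LK LD1_c0 LD2_c39 LD3_c12)) = (LP (LK LD1_c0 LD2_c17 LD3_c37)) :=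
  Lre_b IH (LK LD1_c0 LD2_c39 LD3_c12) (LK LD1_c0 LD2_c17 LD3_c37) Lrfl Lrfl
theorem f47917 : Led Lsl_bt (LP (LK LD1_c0 LD2_c57 LD3_c17)) = (LP (LK LD1_c0 LD2_c26 LD3_c3)) :=
  Lre_b IH (LK LD1_c0 LD2_c57 LD3_c17) (LK LD1_c0 LD2_c26 LD3_c3) Lrfl Lrfl
theorem f22401 : Led Lsl_bt (LP (LK LD1_c0 LD2_c17 LD3_c37)) = (LP (LK LD1_c0 LD2_c39 LD3_c12)) :=
  Lre_b IH (LK LD1_c0 LD2_c17 LD3_c37) (LK LD1_c0 LD2_c39 LD3_c12) Lrfl Lrfl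
theorem f55926 : Led Lsl_cf (LP (LK LD1_c0 LD2_c57 LD3_c17)) = (LP (LK LD1_c0 LD2_c39 LD3_c12)) :=
  Lgr Lrot97 (Lpr_bt (f47917 IH) (Lpr_ct (K2.f47920 IH) (Lpr_bt (K1.f55915 IH) (Lpr_ct (f8509 IH) (Lpr_bt (f22401 IH) (Lpn (LP (LK LD1_c0 LD2_c39 LD3_c12))))))))
theorem f47937 : Led Lsl_gt (LP (LK LD1_c2 LD2_c0 LD3_c25)) = (LP (LK LD1_c0 LD2_c57 LD3_c17)) :=
  Lre_g IH (LK LD1_c2 LD2_c0 LD3_c25) (LK LD1_c0 LD2_c57 LD3_c17) Lrfl Lrfl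
theorem f47412 : Led Lsl_bt (LP (LK LD1_c0 LD2_c11 LD3_c28)) = (LP (LK LD1_c0 LD2_c25 LD3_c46)) :=
  Lre_b IH (LK LD1_c0 LD2_c11 LD3_c28) (LK LD1_c0 LD2_c25 LD3_c46) Lrfl Lrfl
theorem f47415 : Led Lsl_gt (LP (LK LD1_c0 LD2_c25 LD3_c46)) = (LP (LK LD1_c0 LD2_c56 LD3_c48)) :=
  Lre_g IH (LK LD1_c0 LD2_c25 LD3_c46) (LK LD1_c0 LD2_c56 LD3_c48) Lrfl Lrfl
theorem f182520 : Led Lsl_cf (LP (LK LD1_c2 LD2_c0 LD3_c25)) = (LP (LK LD1_c1 LD2_c59 LD3_c44)) :=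
  Lgr Lrot160 (Lpr_gt (f47937 IH) (Lpr_cf (f55926 IH) (Lpr_bt (f41814 IH) (Lpe (f182515 IH) (Lpr_ct (f182486 IH) (Lpr_gt (f28335 IH) (Lpe (K1.f47049 IH) (Lpr_bt (f47412 IH) (Lpr_gt (f47415 IH) (Lpe (f182519 IH) (Lpn (LP (LK LD1_c1 LD2_c59 LD3_c44)))))))))))))
theorem f54529 : Led Lsl_gt (LP (LK LD1_c0 LD2_c57 LD3_c13)) = (LP (LK LD1_c2 LD2_c0 LD3_c25)) :=
  Lre_g IH (LK LD1_c0 LD2_c57 LD3_c13) (LK LD1_c2 LD2_c0 LD3_c25) Lrfl Lrfl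
theorem f183845 : Led Lsl_ct (LP (LK LD1_c0 LD2_c39 LD3_c8)) = (LP (LK LD1_c0 LD2_c57 LD3_c13)) :=
  Lgr Lrot64 (Lpe (f41787 IH) (Lpe (f44319 IH) (Lpr_bf (f183836 IH) (Lpe (f183826 IH) (Lpr_gf (f183838 IH) (Lpe (f46205 IH) (Lpe (f46220 IH) (Lpe (f182519 IH) (Lpe (f182520 IH) (Lpe (f54529 IH) (Lpn (LP (LK LD1_c0 LD2_c57 LD3_c13)))))))))))))
theorem f41752 : Led Lsl_gt (LP (LK LD1_c1 LD2_c24 LD3_c55)) = (LP (LK LD1_c0 LD2_c39 LD3_c8)) :=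
  Lre_g IH (LK LD1_c1 LD2_c24 LD3_c55) (LK LD1_c0 LD2_c39 LD3_c8) Lrfl Lrfl
theorem f55023 : Led Lsl_bf (LP (LK LD1_c1 LD2_c59 LD3_c43)) = (LP (LK LD1_c2 LD2_c0 LD3_c28)) :=
  Lgr Lrot24 (Lpr_bt (K1.f55019 IH) (Lpn (LP (LK LD1_c2 LD2_c0 LD3_c28))))
theorem f183852 : Led Lsl_cf (LP (LK LD1_c1 LD2_c24 LD3_c57)) = (LP (LK LD1_c2 LD2_c0 LD3_c28)) :=
  Lgr Lrot108 (Lpr_ft (K1.f41794 IH) (Lpr_ct (f183845 IH) (Lpr_ft (K1.f47840 IH) (Lpn (LP (LK LD1_c2 LD2_c0 LD3_c28))))))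
theorem f41811 : Led Lsl_gt (LP (LK LD1_c1 LD2_c24 LD3_c57)) = (LP (LK LD1_c0 LD2_c39 LD3_c10)) :=
  Lre_g IH (LK LD1_c1 LD2_c24 LD3_c57) (LK LD1_c0 LD2_c39 LD3_c10) Lrfl Lrfl
theorem f183859 : Led Lsl_ct (LP (LK LD1_c1 LD2_c25 LD3_c1)) = (LP (LK LD1_c0 LD2_c39 LD3_c10)) :=
  Lre_c IH (LK LD1_c1 LD2_c25 LD3_c1) (LK LD1_c0 LD2_c39 LD3_c10) Lrfl Lrfl
theorem f183860 : Led Lsl_bf (LP (LK LD1_c1 LD2_c24 LD3_c55)) = (LP (LK LD1_c1 LD2_c25 LD3_c1)) :=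
  Lgr Lrot165 (Lpr_gt (f41752 IH) (Lpr_ct (f183845 IH) (Lpr_gt (f54529 IH) (Lpr_cf (f182520 IH) (Lpr_bt (f182519 IH) (Lpr_gt (f46220 IH) (Lpr_bf (f55023 IH) (Lpe (f183852 IH) (Lpr_gt (f41811 IH) (Lpe (f183859 IH) (Lpn (LP (LK LD1_c1 LD2_c25 LD3_c1)))))))))))))
theorem f22402 : Led Lsl_gt (LP (LK LD1_c0 LD2_c39 LD3_c12)) = (LP (LK LD1_c1 LD2_c24 LD3_c55)) :=
  Lre_g IH (LK LD1_c0 LD2_c39 LD3_c12) (LK LD1_c1 LD2_c24 LD3_c55) Lrfl Lrfl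
theorem f8450 : Led Lsl_ct (LP (LK LD1_c0 LD2_c17 LD3_c37)) = (LP (LK LD1_c0 LD2_c7 LD3_c60)) :=
  Lre_c IH (LK LD1_c0 LD2_c17 LD3_c37) (LK LD1_c0 LD2_c7 LD3_c60) Lrfl Lrfl
theorem f42119 : Led Lsl_gt (LP (LK LD1_c0 LD2_c39 LD3_c10)) = (LP (LK LD1_c0 LD2_c17 LD3_c33)) :=
  Lre_g IH (LK LD1_c0 LD2_c39 LD3_c10) (LK LD1_c0 LD2_c17 LD3_c33) Lrfl Lrfl
theorem f44470 : Led Lsl_et (LP (LK LD1_c0 LD2_c11 LD3_c33)) = (LP (LK LD1_c0 LD2_c25 LD3_c61)) :=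
  Lre_e IH (LK LD1_c0 LD2_c11 LD3_c33) (LK LD1_c0 LD2_c25 LD3_c61) Lrfl Lrfl
theorem f44471 : Led Lsl_ct (LP (LK LD1_c0 LD2_c25 LD3_c61)) = (LP (LK LD1_c0 LD2_c17 LD3_c33)) :=
  Lgr Lrot15 (Lpe (f44470 IH) (Lpr_cf (K1.f44315 IH) (Lpe (f41820 IH) (Lpn (LP (LK LD1_c0 LD2_c17 LD3_c33))))))
theorem f55415 : Led Lsl_bt (LP (LK LD1_c0 LD2_c25 LD3_c61)) = (LP (LK LD1_c0 LD2_c11 LD3_c34)) :=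
  Lre_b IH (LK LD1_c0 LD2_c25 LD3_c61) (LK LD1_c0 LD2_c11 LD3_c34) Lrfl Lrfl
theorem f183871 : Led Lsl_cf (LP (LK LD1_c0 LD2_c13 LD3_c11)) = (LP (LK LD1_c0 LD2_c26 LD3_c0)) :=
  Lgr Lrot125 (Lpr_gt (K0.f9482 IH) (Lpe (f8450 IH) (Lpr_bt (f22401 IH) (Lpr_gt (f22402 IH) (Lpr_bf (f183860 IH) (Lpr_ct (f183859 IH) (Lpr_gt (f42119 IH) (Lpe (f44471 IH) (Lpr_bt (f55415 IH) (Lpr_gt (K8.f8127 IH) (Lpn (LP (LK LD1_c0 LD2_c26 LD3_c0)))))))))))))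
theorem f7945 : Led Lsl_ct (LP (LK LD1_c0 LD2_c7 LD3_c16)) = (LP (LK LD1_c0 LD2_c16 LD3_c6)) :=
  Lre_c IH (LK LD1_c0 LD2_c7 LD3_c16) (LK LD1_c0 LD2_c16 LD3_c6) Lrfl Lrfl
theorem f7946 : Led Lsl_dt (LP (LK LD1_c0 LD2_c36 LD3_c11)) = (LP (LK LD1_c0 LD2_c16 LD3_c6)) :=
  Lre_d IH (LK LD1_c0 LD2_c36 LD3_c11) (LK LD1_c0 LD2_c16 LD3_c6) Lrfl Lrfl
theorem f55373 : Led Lsl_at (LP (LK LD1_c0 LD2_c25 LD3_c47)) = (LP (LK LD1_c0 LD2_c26 LD3_c2)) :=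
  Lgr Lrot107 (Lpe (K1.f55326 IH) (Lpr_af (K1.f55343 IH) (Lpe (K1.f54843 IH) (Lpn (LP (LK LD1_c0 LD2_c26 LD3_c2))))))
theorem f178241 : Led Lsl_gt (LP (LK LD1_c0 LD2_c56 LD3_c55)) = (LP (LK LD1_c0 LD2_c36 LD3_c11)) :=
  Lgr Lrot5 (Lpr_ft (K1.f55311 IH) (Lpr_at (f55373 IH) (Lpr_gf (f178181 IH) (Lpn (LP (LK LD1_c0 LD2_c36 LD3_c11))))))
theorem f55457 : Led Lsl_dt (LP (LK LD1_c0 LD2_c25 LD3_c48)) = (LP (LK LD1_c0 LD2_c56 LD3_c55)) :=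
  Lre_d IH (LK LD1_c0 LD2_c25 LD3_c48) (LK LD1_c0 LD2_c56 LD3_c55) Lrfl Lrfl
theorem f183878 : Led Lsl_gf (LP (LK LD1_c0 LD2_c25 LD3_c48)) = (LP (LK LD1_c0 LD2_c26 LD3_c0)) :=
  Lgr Lrot144 (Lpr_dt (f55457 IH) (Lpr_gt (f178241 IH) (Lpr_dt (f7946 IH) (Lpe (f7945 IH) (Lpe (f8391 IH) (Lpr_gf (K0.f8380 IH) (Lpe (K0.f8451 IH) (Lpe (K0.f9482 IH) (Lpr_cf (f183871 IH) (Lpn (LP (LK LD1_c0 LD2_c26 LD3_c0))))))))))))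
theorem f183873 : Led Lsl_bt (LP (LK LD1_c0 LD2_c57 LD3_c18)) = (LP (LK LD1_c0 LD2_c26 LD3_c0)) :=
  Lre_b IH (LK LD1_c0 LD2_c57 LD3_c18) (LK LD1_c0 LD2_c26 LD3_c0) Lrfl Lrfl
theorem f45692 : Led Lsl_bt (LP (LK LD1_c0 LD2_c27 LD3_c52)) = (LP (LK LD1_c0 LD2_c27 LD3_c5)) :=
  Lgr Lrot127 (Lpr_bf (K1.f45387 IH) (Lpn (LP (LK LD1_c0 LD2_c27 LD3_c5))))
theorem f31053 : Led Lsl_gt (LP (LK LD1_c0 LD2_c14 LD3_c18)) = (LP (LK LD1_c0 LD2_c32 LD3_c0)) :=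
  Lre_g IH (LK LD1_c0 LD2_c14 LD3_c18) (LK LD1_c0 LD2_c32 LD3_c0) Lrfl Lrfl
theorem f183887 : Led Lsl_cf (LP (LK LD1_c0 LD2_c32 LD3_c0)) = (LP (LK LD1_c0 LD2_c57 LD3_c18)) :=
  Lgr Lrot58 (Lpe (f31053 IH) (Lpr_cf (K0.f31428 IH) (Lpr_bt (f45692 IH) (Lpe (f183670 IH) (Lpe (f177783 IH) (Lpe (f177785 IH) (Lpe (f101497 IH) (Lpe (K1.f47089 IH) (Lpr_gf (f183878 IH) (Lpe (f183873 IH) (Lpn (LP (LK LD1_c0 LD2_c57 LD3_c18)))))))))))))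
theorem f31681 : Led Lsl_ct (LP (LK LD1_c0 LD2_c27 LD3_c25)) = (LP (LK LD1_c0 LD2_c12 LD3_c10)) :=
  Lre_c IH (LK LD1_c0 LD2_c27 LD3_c25) (LK LD1_c0 LD2_c12 LD3_c10) Lrfl Lrfl
theorem f171510 : Led Lsl_ct (LP (LK LD1_c0 LD2_c14 LD3_c19)) = (LP (LK LD1_c0 LD2_c15 LD3_c11)) :=
  Lgr Lrot8 (Lpe (f31677 IH) (Lpr_dt (f31663 IH) (Lpr_gt (f31679 IH) (Lpr_dt (f31450 IH) (Lpe (f31681 IH) (Lpr_df (f171214 IH) (Lpe (f165254 IH) (Lpe (K8.f163726 IH) (Lpr_gf (f165481 IH) (Lpn (LP (LK LD1_c0 LD2_c15 LD3_c11))))))))))))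
theorem f31532 : Led Lsl_ct (LP (LK LD1_c0 LD2_c14 LD3_c18)) = (LP (LK LD1_c0 LD2_c27 LD3_c52)) :=
  Lgr Lrot59 (Lpr_cf (K0.f31428 IH) (Lpn (LP (LK LD1_c0 LD2_c27 LD3_c52))))
theorem f165183 : Led Lsl_bt (LP (LK LD1_c0 LD2_c15 LD3_c17)) = (LP (LK LD1_c0 LD2_c6 LD3_c59)) :=
  Lre_b IH (LK LD1_c0 LD2_c15 LD3_c17) (LK LD1_c0 LD2_c6 LD3_c59) Lrfl Lrfl
theorem f165184 : Led Lsl_ct (LP (LK LD1_c0 LD2_c15 LD3_c17)) = (LP (LK LD1_c0 LD2_c34 LD3_c3)) :=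
  Lre_c IH (LK LD1_c0 LD2_c15 LD3_c17) (LK LD1_c0 LD2_c34 LD3_c3) Lrfl Lrfl
theorem f171653 : Led Lsl_gf (LP (LK LD1_c0 LD2_c27 LD3_c52)) = (LP (LK LD1_c0 LD2_c34 LD3_c3)) :=
  Lgr Lrot126 (Lpe (f31532 IH) (Lpr_bt (K1.f31531 IH) (Lpr_gt (f31444 IH) (Lpr_ct (f171510 IH) (Lpe (f165481 IH) (Lpe (K0.f3148 IH) (Lpr_bt (K0.f3125 IH) (Lpr_gt (f165506 IH) (Lpe (f165183 IH) (Lpr_ct (f165184 IH) (Lpn (LP (LK LD1_c0 LD2_c34 LD3_c3)))))))))))))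
theorem f171666 : Led Lsl_bt (LP (LK LD1_c1 LD2_c13 LD3_c32)) = (LP (LK LD1_c0 LD2_c34 LD3_c3)) :=
  Lre_b IH (LK LD1_c1 LD2_c13 LD3_c32) (LK LD1_c0 LD2_c34 LD3_c3) Lrfl Lrfl
theorem f171670 : Led Lsl_ct (LP (LK LD1_c1 LD2_c13 LD3_c32)) = (LP (LK LD1_c0 LD2_c34 LD3_c6)) :=
  Lre_c IH (LK LD1_c1 LD2_c13 LD3_c32) (LK LD1_c0 LD2_c34 LD3_c6) Lrfl Lrfl
theorem f183889 : Led Lsl_gt (LP (LK LD1_c1 LD2_c2 LD3_c29)) = (LP (LK LD1_c0 LD2_c34 LD3_c6)) :=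
  Lgr Lrot65 (Lpe (K1.f46203 IH) (Lpr_bt (K1.f47103 IH) (Lpr_gf (f183878 IH) (Lpe (f183873 IH) (Lpe (f183887 IH) (Lpe (f31053 IH) (Lpr_cf (K0.f31428 IH) (Lpr_gf (f171653 IH) (Lpe (f171666 IH) (Lpr_ct (f171670 IH) (Lpn (LP (LK LD1_c0 LD2_c34 LD3_c6)))))))))))))
theorem f183891 : Led Lsl_gf (LP (LK LD1_c0 LD2_c28 LD3_c28)) = (LP (LK LD1_c0 LD2_c34 LD3_c6)) :=
  Lgr Lrot76 (Lpe (K1.f46148 IH) (Lpe (K1.f46082 IH) (Lpr_gt (f183889 IH) (Lpn (LP (LK LD1_c0 LD2_c34 LD3_c6))))))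
theorem f46450 : Led Lsl_bt (LP (LK LD1_c1 LD2_c2 LD3_c23)) = (LP (LK LD1_c0 LD2_c28 LD3_c28)) :=
  Lre_b IH (LK LD1_c1 LD2_c2 LD3_c23) (LK LD1_c0 LD2_c28 LD3_c28) Lrfl Lrfl
theorem f165516 : Led Lsl_bt (LP (LK LD1_c0 LD2_c15 LD3_c18)) = (LP (LK LD1_c0 LD2_c34 LD3_c6)) :=
  Lre_b IH (LK LD1_c0 LD2_c15 LD3_c18) (LK LD1_c0 LD2_c34 LD3_c6) Lrfl Lrfl
theorem f165515 : Led Lsl_ct (LP (LK LD1_c0 LD2_c15 LD3_c18)) = (LP (LK LD1_c0 LD2_c6 LD3_c59)) :=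
  Lre_c IH (LK LD1_c0 LD2_c15 LD3_c18) (LK LD1_c0 LD2_c6 LD3_c59) Lrfl Lrfl
theorem f34625 : Led Lsl_bt (LP (LK LD1_c0 LD2_c33 LD3_c51)) = (LP (LK LD1_c0 LD2_c15 LD3_c11)) :=
  Lre_b IH (LK LD1_c0 LD2_c33 LD3_c51) (LK LD1_c0 LD2_c15 LD3_c11) Lrfl Lrfl
theorem f34626 : Led Lsl_ct (LP (LK LD1_c0 LD2_c33 LD3_c51)) = (LP (LK LD1_c1 LD2_c12 LD3_c60)) :=
  Lre_c IH (LK LD1_c0 LD2_c33 LD3_c51) (LK LD1_c1 LD2_c12 LD3_c60) Lrfl Lrfl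
theorem f183910 : Led Lsl_gt (LP (LK LD1_c0 LD2_c34 LD3_c59)) = (LP (LK LD1_c1 LD2_c12 LD3_c60)) :=
  Lgr Lrot65 (Lpe (f46427 IH) (Lpr_bt (f46450 IH) (Lpr_gf (f183891 IH) (Lpe (f165516 IH) (Lpr_ct (f165515 IH) (Lpe (f165506 IH) (Lpe (K0.f3146 IH) (Lpr_gf (f165481 IH) (Lpe (f34625 IH) (Lpr_ct (f34626 IH) (Lpn (LP (LK LD1_c1 LD2_c12 LD3_c60)))))))))))))
theorem f183912 : Led Lsl_dt (LP (LK LD1_c1 LD2_c12 LD3_c60)) = (LP (LK LD1_c2 LD2_c31 LD3_c53)) :=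
  Lre_d IH (LK LD1_c1 LD2_c12 LD3_c60) (LK LD1_c2 LD2_c31 LD3_c53) Lrfl Lrfl
theorem f183904 : Led Lsl_et (LP (LK LD1_c1 LD2_c13 LD3_c40)) = (LP (LK LD1_c0 LD2_c34 LD3_c6)) :=
  Lre_e IH (LK LD1_c1 LD2_c13 LD3_c40) (LK LD1_c0 LD2_c34 LD3_c6) Lrfl Lrfl
theorem f183905 : Led Lsl_dt (LP (LK LD1_c1 LD2_c13 LD3_c40)) = (LP (LK LD1_c2 LD2_c33 LD3_c28)) :=
  Lre_d IH (LK LD1_c1 LD2_c13 LD3_c40) (LK LD1_c2 LD2_c33 LD3_c28) Lrfl Lrfl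
theorem f183913 : Led Lsl_gt (LP (LK LD1_c2 LD2_c31 LD3_c53)) = (LP (LK LD1_c2 LD2_c33 LD3_c28)) :=
  Lgr Lrot139 (Lpe (f183912 IH) (Lpe (f183910 IH) (Lpe (K1.f41522 IH) (Lpr_dt (K1.f41296 IH) (Lpr_gf (K1.f44299 IH) (Lpr_df (K1.f44037 IH) (Lpr_et (K1.f44053 IH) (Lpr_gf (f183891 IH) (Lpe (f183904 IH) (Lpr_dt (f183905 IH) (Lpn (LP (LK LD1_c2 LD2_c33 LD3_c28)))))))))))))
theorem f44246 : Led Lsl_dt (LP (LK LD1_c2 LD2_c10 LD3_c44)) = (LP (LK LD1_c4 LD2_c27 LD3_c7)) :=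
  Lre_d IH (LK LD1_c2 LD2_c10 LD3_c44) (LK LD1_c4 LD2_c27 LD3_c7) Lrfl Lrfl
theorem f183918 : Led Lsl_dt (LP (LK LD1_c2 LD2_c33 LD3_c28)) = (LP (LK LD1_c1 LD2_c13 LD3_c40)) :=
  Lre_d IH (LK LD1_c2 LD2_c33 LD3_c28) (LK LD1_c1 LD2_c13 LD3_c40) Lrfl Lrfl
theorem f183919 : Led Lsl_ct (LP (LK LD1_c2 LD2_c33 LD3_c10)) = (LP (LK LD1_c1 LD2_c13 LD3_c40)) :=
  Lre_c IH (LK LD1_c2 LD2_c33 LD3_c10) (LK LD1_c1 LD2_c13 LD3_c40) Lrfl Lrfl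
theorem f183920 : Led Lsl_dt (LP (LK LD1_c5 LD2_c12 LD3_c38)) = (LP (LK LD1_c2 LD2_c33 LD3_c10)) :=
  Lre_d IH (LK LD1_c5 LD2_c12 LD3_c38) (LK LD1_c2 LD2_c33 LD3_c10) Lrfl Lrfl
theorem f183921 : Led Lsl_gt (LP (LK LD1_c4 LD2_c27 LD3_c7)) = (LP (LK LD1_c5 LD2_c12 LD3_c38)) :=
  Lgr Lrot49 (Lpe (f44246 IH) (Lpe (f44245 IH) (Lpe (f44295 IH) (Lpr_gt (f183910 IH) (Lpr_dt (f183912 IH) (Lpr_gt (f183913 IH) (Lpr_dt (f183918 IH) (Lpe (f183919 IH) (Lpe (f183920 IH) (Lpn (LP (LK LD1_c5 LD2_c12 LD3_c38))))))))))))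
theorem f44243 : Led Lsl_et (LP (LK LD1_c0 LD2_c28 LD3_c27)) = (LP (LK LD1_c1 LD2_c2 LD3_c23)) :=
  Lre_e IH (LK LD1_c0 LD2_c28 LD3_c27) (LK LD1_c1 LD2_c2 LD3_c23) Lrfl Lrfl
theorem f183945 : Led Lsl_dt (LP (LK LD1_c2 LD2_c33 LD3_c10)) = (LP (LK LD1_c5 LD2_c12 LD3_c38)) :=
  Lre_d IH (LK LD1_c2 LD2_c33 LD3_c10) (LK LD1_c5 LD2_c12 LD3_c38) Lrfl Lrfl
theorem f183946 : Led Lsl_et (LP (LK LD1_c2 LD2_c33 LD3_c10)) = (LP (LK LD1_c1 LD2_c13 LD3_c32)) :=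
  Lre_e IH (LK LD1_c2 LD2_c33 LD3_c10) (LK LD1_c1 LD2_c13 LD3_c32) Lrfl Lrfl
theorem f183947 : Led Lsl_gf (LP (LK LD1_c1 LD2_c1 LD3_c8)) = (LP (LK LD1_c1 LD2_c13 LD3_c32)) :=
  Lgr Lrot141 (Lpe (f30836 IH) (Lpe (K1.f30834 IH) (Lpe (K1.f33114 IH) (Lpr_df (K1.f44231 IH) (Lpr_et (f44243 IH) (Lpr_gt (f44245 IH) (Lpr_dt (f44246 IH) (Lpr_gt (f183921 IH) (Lpe (f183945 IH) (Lpr_et (f183946 IH) (Lpn (LP (LK LD1_c1 LD2_c13 LD3_c32)))))))))))))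
theorem f44530 : Led Lsl_dt (LP (LK LD1_c2 LD2_c4 LD3_c12)) = (LP (LK LD1_c4 LD2_c13 LD3_c42)) :=
  Lre_d IH (LK LD1_c2 LD2_c4 LD3_c12) (LK LD1_c4 LD2_c13 LD3_c42) Lrfl Lrfl
theorem f171667 : Led Lsl_ct (LP (LK LD1_c0 LD2_c34 LD3_c6)) = (LP (LK LD1_c1 LD2_c13 LD3_c32)) :=
  Lre_c IH (LK LD1_c0 LD2_c34 LD3_c6) (LK LD1_c1 LD2_c13 LD3_c32) Lrfl Lrfl
theorem f178724 : Led Lsl_et (LP (LK LD1_c0 LD2_c58 LD3_c5)) = (LP (LK LD1_c0 LD2_c26 LD3_c22)) :=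
  Lre_e IH (LK LD1_c0 LD2_c58 LD3_c5) (LK LD1_c0 LD2_c26 LD3_c22) Lrfl Lrfl
theorem f170660 : Led Lsl_gt (LP (LK LD1_c0 LD2_c58 LD3_c9)) = (LP (LK LD1_c0 LD2_c26 LD3_c24)) :=
  Lre_g IH (LK LD1_c0 LD2_c58 LD3_c9) (LK LD1_c0 LD2_c26 LD3_c24) Lrfl Lrfl
theorem f178521 : Led Lsl_ef (LP (LK LD1_c0 LD2_c58 LD3_c9)) = (LP (LK LD1_c0 LD2_c35 LD3_c53)) :=
  Lgr Lrot114 (Lpr_gt (f170660 IH) (Lpe (f170842 IH) (Lpr_dt (f1413 IH) (Lpr_gt (f178496 IH) (Lpe (f168322 IH) (Lpr_et (f168182 IH) (Lpr_gt (f168185 IH) (Lpr_dt (f168186 IH) (Lpr_gt (f168187 IH) (Lpe (f173038 IH) (Lpn (LP (LK LD1_c0 LD2_c35 LD3_c53)))))))))))))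
theorem f178529 : Led Lsl_et (LP (LK LD1_c0 LD2_c3 LD3_c15)) = (LP (LK LD1_c0 LD2_c1 LD3_c20)) :=
  Lre_e IH (LK LD1_c0 LD2_c3 LD3_c15) (LK LD1_c0 LD2_c1 LD3_c20) Lrfl Lrfl
theorem f32238 : Led Lsl_et (LP (LK LD1_c0 LD2_c7 LD3_c3)) = (LP (LK LD1_c0 LD2_c3 LD3_c12)) :=
  Lre_e IH (LK LD1_c0 LD2_c7 LD3_c3) (LK LD1_c0 LD2_c3 LD3_c12) Lrfl Lrfl
theorem f32248 : Led Lsl_dt (LP (LK LD1_c0 LD2_c7 LD3_c3)) = (LP (LK LD1_c0 LD2_c15 LD3_c35)) :=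
  Lre_d IH (LK LD1_c0 LD2_c7 LD3_c3) (LK LD1_c0 LD2_c15 LD3_c35) Lrfl Lrfl
theorem f32065 : Led Lsl_gt (LP (LK LD1_c0 LD2_c34 LD3_c47)) = (LP (LK LD1_c0 LD2_c15 LD3_c35)) :=
  Lre_g IH (LK LD1_c0 LD2_c34 LD3_c47) (LK LD1_c0 LD2_c15 LD3_c35) Lrfl Lrfl
theorem f178530 : Led Lsl_dt (LP (LK LD1_c0 LD2_c26 LD3_c24)) = (LP (LK LD1_c0 LD2_c34 LD3_c47)) :=
  Lgr Lrot171 (Lpe (f170660 IH) (Lpr_ef (f178521 IH) (Lpr_dt (f173038 IH) (Lpe (f168187 IH) (Lpe (f168186 IH) (Lpr_et (f178529 IH) (Lpe (K0.f6789 IH) (Lpe (f32238 IH) (Lpr_dt (f32248 IH) (Lpe (f32065 IH) (Lpn (LP (LK LD1_c0 LD2_c34 LD3_c47)))))))))))))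
theorem f178517 : Led Lsl_et (LP (LK LD1_c0 LD2_c58 LD3_c8)) = (LP (LK LD1_c0 LD2_c26 LD3_c23)) :=
  Lre_e IH (LK LD1_c0 LD2_c58 LD3_c8) (LK LD1_c0 LD2_c26 LD3_c23) Lrfl Lrfl
theorem f178537 : Led Lsl_et (LP (LK LD1_c0 LD2_c34 LD3_c47)) = (LP (LK LD1_c1 LD2_c14 LD3_c60)) :=
  Lre_e IH (LK LD1_c0 LD2_c34 LD3_c47) (LK LD1_c1 LD2_c14 LD3_c60) Lrfl Lrfl
theorem f178538 : Led Lsl_df (LP (LK LD1_c0 LD2_c58 LD3_c8)) = (LP (LK LD1_c1 LD2_c14 LD3_c60)) :=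
  Lgr Lrot70 (Lpr_et (f178517 IH) (Lpr_dt (f519 IH) (Lpr_et (f170842 IH) (Lpr_dt (f178530 IH) (Lpr_et (f178537 IH) (Lpn (LP (LK LD1_c1 LD2_c14 LD3_c60))))))))
theorem f178548 : Led Lsl_ft (LP (LK LD1_c0 LD2_c58 LD3_c8)) = (LP (LK LD1_c2 LD2_c2 LD3_c32)) :=
  Lre_f IH (LK LD1_c0 LD2_c58 LD3_c8) (LK LD1_c2 LD2_c2 LD3_c32) Lrfl Lrfl
theorem f178549 : Led Lsl_ft (LP (LK LD1_c2 LD2_c35 LD3_c59)) = (LP (LK LD1_c1 LD2_c14 LD3_c60)) :=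
  Lre_f IH (LK LD1_c2 LD2_c35 LD3_c59) (LK LD1_c1 LD2_c14 LD3_c60) Lrfl Lrfl
theorem f178550 : Led Lsl_dt (LP (LK LD1_c2 LD2_c2 LD3_c32)) = (LP (LK LD1_c2 LD2_c35 LD3_c59)) :=
  Lgr Lrot60 (Lpe (f178548 IH) (Lpr_df (f178538 IH) (Lpe (f178549 IH) (Lpn (LP (LK LD1_c2 LD2_c35 LD3_c59))))))
theorem f178588 : Led Lsl_df (LP (LK LD1_c2 LD2_c2 LD3_c32)) = (LP (LK LD1_c2 LD2_c35 LD3_c59)) :=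
  Lgr Lrot38 (Lpr_dt (f178550 IH) (Lpn (LP (LK LD1_c2 LD2_c35 LD3_c59))))
theorem f178591 : Led Lsl_bt (LP (LK LD1_c2 LD2_c2 LD3_c32)) = (LP (LK LD1_c4 LD2_c10 LD3_c22)) :=
  Lre_b IH (LK LD1_c2 LD2_c2 LD3_c32) (LK LD1_c4 LD2_c10 LD3_c22) Lrfl Lrfl
theorem f178592 : Led Lsl_bt (LP (LK LD1_c5 LD2_c18 LD3_c35)) = (LP (LK LD1_c2 LD2_c35 LD3_c59)) :=
  Lre_b IH (LK LD1_c5 LD2_c18 LD3_c35) (LK LD1_c2 LD2_c35 LD3_c59) Lrfl Lrfl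
theorem f178593 : Led Lsl_dt (LP (LK LD1_c4 LD2_c10 LD3_c22)) = (LP (LK LD1_c5 LD2_c18 LD3_c35)) :=
  Lgr Lrot79 (Lpe (f178591 IH) (Lpr_df (f178588 IH) (Lpe (f178592 IH) (Lpn (LP (LK LD1_c5 LD2_c18 LD3_c35))))))
theorem f178603 : Led Lsl_ft (LP (LK LD1_c2 LD2_c2 LD3_c21)) = (LP (LK LD1_c4 LD2_c10 LD3_c22)) :=
  Lre_f IH (LK LD1_c2 LD2_c2 LD3_c21) (LK LD1_c4 LD2_c10 LD3_c22) Lrfl Lrfl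
theorem f178604 : Led Lsl_ft (LP (LK LD1_c5 LD2_c18 LD3_c35)) = (LP (LK LD1_c2 LD2_c35 LD3_c56)) :=
  Lre_f IH (LK LD1_c5 LD2_c18 LD3_c35) (LK LD1_c2 LD2_c35 LD3_c56) Lrfl Lrfl
theorem f178605 : Led Lsl_df (LP (LK LD1_c2 LD2_c2 LD3_c21)) = (LP (LK LD1_c2 LD2_c35 LD3_c56)) :=
  Lgr Lrot78 (Lpr_ft (f178603 IH) (Lpr_dt (f178593 IH) (Lpr_ft (f178604 IH) (Lpn (LP (LK LD1_c2 LD2_c35 LD3_c56))))))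
theorem f178698 : Led Lsl_et (LP (LK LD1_c2 LD2_c2 LD3_c21)) = (LP (LK LD1_c0 LD2_c58 LD3_c4)) :=
  Lre_e IH (LK LD1_c2 LD2_c2 LD3_c21) (LK LD1_c0 LD2_c58 LD3_c4) Lrfl Lrfl
theorem f170695 : Led Lsl_dt (LP (LK LD1_c0 LD2_c58 LD3_c4)) = (LP (LK LD1_c0 LD2_c26 LD3_c22)) :=
  Lre_d IH (LK LD1_c0 LD2_c58 LD3_c4) (LK LD1_c0 LD2_c26 LD3_c22) Lrfl Lrfl
theorem f178699 : Led Lsl_et (LP (LK LD1_c0 LD2_c26 LD3_c22)) = (LP (LK LD1_c0 LD2_c58 LD3_c5)) :=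
  Lre_e IH (LK LD1_c0 LD2_c26 LD3_c22) (LK LD1_c0 LD2_c58 LD3_c5) Lrfl Lrfl
theorem f178700 : Led Lsl_et (LP (LK LD1_c1 LD2_c14 LD3_c59)) = (LP (LK LD1_c2 LD2_c35 LD3_c56)) :=
  Lre_e IH (LK LD1_c1 LD2_c14 LD3_c59) (LK LD1_c2 LD2_c35 LD3_c56) Lrfl Lrfl
theorem f178701 : Led Lsl_dt (LP (LK LD1_c0 LD2_c58 LD3_c5)) = (LP (LK LD1_c1 LD2_c14 LD3_c59)) :=
  Lgr Lrot77 (Lpe (f178699 IH) (Lpe (f170695 IH) (Lpe (f178698 IH) (Lpr_df (f178605 IH) (Lpe (f178700 IH) (Lpn (LP (LK LD1_c1 LD2_c14 LD3_c59))))))))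
theorem f182204 : Led Lsl_gf (LP (LK LD1_c1 LD2_c2 LD3_c25)) = (LP (LK LD1_c1 LD2_c14 LD3_c59)) :=
  Lgr Lrot145 (Lpe (K1.f44264 IH) (Lpr_et (K1.f44048 IH) (Lpe (K1.f44287 IH) (Lpr_dt (K1.f41747 IH) (Lpe (K1.f41797 IH) (Lpr_df (K1.f29061 IH) (Lpr_et (f41799 IH) (Lpr_gt (f182191 IH) (Lpe (f178724 IH) (Lpr_dt (f178701 IH) (Lpn (LP (LK LD1_c1 LD2_c14 LD3_c59)))))))))))))
theorem f44066 : Led Lsl_ef (LP (LK LD1_c0 LD2_c34 LD3_c53)) = (LP (LK LD1_c1 LD2_c2 LD3_c25)) :=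
  Lgr Lrot88 (Lpr_et (K1.f44050 IH) (Lpn (LP (LK LD1_c1 LD2_c2 LD3_c25))))
theorem f46328 : Led Lsl_at (LP (LK LD1_c1 LD2_c2 LD3_c28)) = (LP (LK LD1_c1 LD2_c2 LD3_c25)) :=
  Lgr Lrot80 (Lpe (K1.f44592 IH) (Lpr_af (K1.f46324 IH) (Lpr_ef (f44066 IH) (Lpn (LP (LK LD1_c1 LD2_c2 LD3_c25))))))
theorem f44766 : Led Lsl_ft (LP (LK LD1_c2 LD2_c10 LD3_c57)) = (LP (LK LD1_c1 LD2_c2 LD3_c28)) :=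
  Lre_f IH (LK LD1_c2 LD2_c10 LD3_c57) (LK LD1_c1 LD2_c2 LD3_c28) Lrfl Lrfl
theorem f182206 : Led Lsl_gt (LP (LK LD1_c2 LD2_c10 LD3_c57)) = (LP (LK LD1_c1 LD2_c14 LD3_c59)) :=
  Lgr Lrot5 (Lpr_ft (f44766 IH) (Lpr_at (f46328 IH) (Lpr_gf (f182204 IH) (Lpn (LP (LK LD1_c1 LD2_c14 LD3_c59))))))
theorem f32913 : Led Lsl_ct (LP (LK LD1_c1 LD2_c14 LD3_c59)) = (LP (LK LD1_c2 LD2_c35 LD3_c55)) :=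
  Lre_c IH (LK LD1_c1 LD2_c14 LD3_c59) (LK LD1_c2 LD2_c35 LD3_c55) Lrfl Lrfl
theorem f32914 : Led Lsl_gt (LP (LK LD1_c2 LD2_c35 LD3_c55)) = (LP (LK LD1_c5 LD2_c18 LD3_c29)) :=
  Lre_g IH (LK LD1_c2 LD2_c35 LD3_c55) (LK LD1_c5 LD2_c18 LD3_c29) Lrfl Lrfl
theorem f183956 : Led Lsl_cf (LP (LK LD1_c4 LD2_c13 LD3_c42)) = (LP (LK LD1_c5 LD2_c18 LD3_c29)) :=
  Lgr Lrot99 (Lpe (f44530 IH) (Lpr_cf (f44518 IH) (Lpr_gf (f183947 IH) (Lpe (f171667 IH) (Lpe (f183889 IH) (Lpe (K1.f46079 IH) (Lpr_gt (f182206 IH) (Lpr_ct (f32913 IH) (Lpr_gt (f32914 IH) (Lpn (LP (LK LD1_c5 LD2_c18 LD3_c29))))))))))))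
theorem f43399 : Led Lsl_at (LP (LK LD1_c0 LD2_c32 LD3_c17)) = (LP (LK LD1_c0 LD2_c32 LD3_c15)) :=
  Lgr Lrot66 (Lpr_ff (K1.f43233 IH) (Lpe (K1.f43325 IH) (Lpr_ff (K1.f43335 IH) (Lpn (LP (LK LD1_c0 LD2_c32 LD3_c15))))))
theorem f43401 : Led Lsl_af (LP (LK LD1_c1 LD2_c9 LD3_c45)) = (LP (LK LD1_c1 LD2_c9 LD3_c41)) :=
  Lgr Lrot50 (Lpr_et (K1.f31456 IH) (Lpr_at (f43399 IH) (Lpr_et (f43392 IH) (Lpn (LP (LK LD1_c1 LD2_c9 LD3_c41))))))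
theorem f31468 : Led Lsl_ft (LP (LK LD1_c1 LD2_c9 LD3_c45)) = (LP (LK LD1_c2 LD2_c25 LD3_c2)) :=
  Lre_f IH (LK LD1_c1 LD2_c9 LD3_c45) (LK LD1_c2 LD2_c25 LD3_c2) Lrfl Lrfl
theorem f43394 : Led Lsl_ft (LP (LK LD1_c2 LD2_c24 LD3_c57)) = (LP (LK LD1_c1 LD2_c9 LD3_c41)) :=
  Lre_f IH (LK LD1_c2 LD2_c24 LD3_c57) (LK LD1_c1 LD2_c9 LD3_c41) Lrfl Lrfl
theorem f43411 : Led Lsl_at (LP (LK LD1_c2 LD2_c25 LD3_c2)) = (LP (LK LD1_c2 LD2_c24 LD3_c57)) :=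
  Lgr Lrot66 (Lpe (f31468 IH) (Lpr_af (f43401 IH) (Lpe (f43394 IH) (Lpn (LP (LK LD1_c2 LD2_c24 LD3_c57))))))
theorem f31482 : Led Lsl_ct (LP (LK LD1_c2 LD2_c25 LD3_c1)) = (LP (LK LD1_c4 LD2_c54 LD3_c18)) :=
  Lre_c IH (LK LD1_c2 LD2_c25 LD3_c1) (LK LD1_c4 LD2_c54 LD3_c18) Lrfl Lrfl
theorem f43431 : Led Lsl_dt (LP (LK LD1_c4 LD2_c54 LD3_c18)) = (LP (LK LD1_c9 LD2_c40 LD3_c5)) :=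
  Lre_d IH (LK LD1_c4 LD2_c54 LD3_c18) (LK LD1_c9 LD2_c40 LD3_c5) Lrfl Lrfl
theorem f43356 : Led Lsl_dt (LP (LK LD1_c2 LD2_c24 LD3_c61)) = (LP (LK LD1_c1 LD2_c9 LD3_c44)) :=
  Lre_d IH (LK LD1_c2 LD2_c24 LD3_c61) (LK LD1_c1 LD2_c9 LD3_c44) Lrfl Lrfl
theorem f43432 : Led Lsl_ct (LP (LK LD1_c4 LD2_c54 LD3_c13)) = (LP (LK LD1_c2 LD2_c24 LD3_c61)) :=
  Lre_c IH (LK LD1_c4 LD2_c54 LD3_c13) (LK LD1_c2 LD2_c24 LD3_c61) Lrfl Lrfl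
theorem f43433 : Led Lsl_dt (LP (LK LD1_c9 LD2_c39 LD3_c60)) = (LP (LK LD1_c4 LD2_c54 LD3_c13)) :=
  Lre_d IH (LK LD1_c9 LD2_c39 LD3_c60) (LK LD1_c4 LD2_c54 LD3_c13) Lrfl Lrfl
theorem f43434 : Led Lsl_ct (LP (LK LD1_c9 LD2_c40 LD3_c5)) = (LP (LK LD1_c9 LD2_c39 LD3_c60)) :=
  Lgr Lrot41 (Lpe (f43431 IH) (Lpe (f31482 IH) (Lpe (K1.f31464 IH) (Lpr_ft (f31468 IH) (Lpr_at (f43411 IH) (Lpe (f43350 IH) (Lpe (f43356 IH) (Lpe (f43432 IH) (Lpe (f43433 IH) (Lpn (LP (LK LD1_c9 LD2_c39 LD3_c60))))))))))))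
theorem f31521 : Led Lsl_ct (LP (LK LD1_c0 LD2_c32 LD3_c18)) = (LP (LK LD1_c1 LD2_c9 LD3_c45)) :=
  Lre_c IH (LK LD1_c0 LD2_c32 LD3_c18) (LK LD1_c1 LD2_c9 LD3_c45) Lrfl Lrfl
theorem f43446 : Led Lsl_ft (LP (LK LD1_c1 LD2_c9 LD3_c47)) = (LP (LK LD1_c2 LD2_c25 LD3_c7)) :=
  Lre_f IH (LK LD1_c1 LD2_c9 LD3_c47) (LK LD1_c2 LD2_c25 LD3_c7) Lrfl Lrfl
theorem f43447 : Led Lsl_at (LP (LK LD1_c2 LD2_c25 LD3_c7)) = (LP (LK LD1_c2 LD2_c24 LD3_c61)) :=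
  Lgr Lrot33 (Lpe (f43446 IH) (Lpr_dt (f31525 IH) (Lpr_ct (f31521 IH) (Lpr_dt (K1.f31464 IH) (Lpr_ct (f31482 IH) (Lpr_dt (f43431 IH) (Lpr_ct (f43434 IH) (Lpr_dt (f43433 IH) (Lpr_ct (f43432 IH) (Lpn (LP (LK LD1_c2 LD2_c24 LD3_c61))))))))))))
theorem f43459 : Led Lsl_ft (LP (LK LD1_c2 LD2_c24 LD3_c61)) = (LP (LK LD1_c1 LD2_c9 LD3_c43)) :=
  Lre_f IH (LK LD1_c2 LD2_c24 LD3_c61) (LK LD1_c1 LD2_c9 LD3_c43) Lrfl Lrfl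
theorem f43460 : Led Lsl_af (LP (LK LD1_c1 LD2_c9 LD3_c47)) = (LP (LK LD1_c1 LD2_c9 LD3_c43)) :=
  Lgr Lrot45 (Lpr_ft (f43446 IH) (Lpr_at (f43447 IH) (Lpr_ft (f43459 IH) (Lpn (LP (LK LD1_c1 LD2_c9 LD3_c43))))))
theorem f49453 : Led Lsl_af (LP (LK LD1_c4 LD2_c13 LD3_c41)) = (LP (LK LD1_c4 LD2_c13 LD3_c48)) :=
  Lgr Lrot0 (Lpr_at (f49449 IH) (Lpn (LP (LK LD1_c4 LD2_c13 LD3_c48))))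
theorem f45002 : Led Lsl_ft (LP (LK LD1_c4 LD2_c13 LD3_c41)) = (LP (LK LD1_c2 LD2_c4 LD3_c10)) :=
  Lre_f IH (LK LD1_c4 LD2_c13 LD3_c41) (LK LD1_c2 LD2_c4 LD3_c10) Lrfl Lrfl
theorem f49474 : Led Lsl_ft (LP (LK LD1_c2 LD2_c4 LD3_c14)) = (LP (LK LD1_c4 LD2_c13 LD3_c48)) :=
  Lre_f IH (LK LD1_c2 LD2_c4 LD3_c14) (LK LD1_c4 LD2_c13 LD3_c48) Lrfl Lrfl
theorem f49475 : Led Lsl_at (LP (LK LD1_c2 LD2_c4 LD3_c10)) = (LP (LK LD1_c2 LD2_c4 LD3_c14)) :=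
  Lgr Lrot66 (Lpe (f45002 IH) (Lpr_af (f49453 IH) (Lpe (f49474 IH) (Lpn (LP (LK LD1_c2 LD2_c4 LD3_c14))))))
theorem f49477 : Led Lsl_bt (LP (LK LD1_c2 LD2_c4 LD3_c14)) = (LP (LK LD1_c4 LD2_c13 LD3_c42)) :=
  Lre_b IH (LK LD1_c2 LD2_c4 LD3_c14) (LK LD1_c4 LD2_c13 LD3_c42) Lrfl Lrfl
theorem f50823 : Led Lsl_af (LP (LK LD1_c2 LD2_c24 LD3_c53)) = (LP (LK LD1_c4 LD2_c13 LD3_c42)) :=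
  Lgr Lrot36 (Lpr_bt (K1.f43464 IH) (Lpe (f43460 IH) (Lpr_bt (f50821 IH) (Lpr_at (f49475 IH) (Lpr_bt (f49477 IH) (Lpn (LP (LK LD1_c4 LD2_c13 LD3_c42))))))))
theorem f44395 : Led Lsl_ct (LP (LK LD1_c2 LD2_c24 LD3_c53)) = (LP (LK LD1_c4 LD2_c53 LD3_c60)) :=
  Lre_c IH (LK LD1_c2 LD2_c24 LD3_c53) (LK LD1_c4 LD2_c53 LD3_c60) Lrfl Lrfl
theorem f183965 : Led Lsl_at (LP (LK LD1_c4 LD2_c53 LD3_c60)) = (LP (LK LD1_c5 LD2_c18 LD3_c29)) :=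
  Lgr Lrot107 (Lpe (f44395 IH) (Lpr_af (f50823 IH) (Lpr_cf (f183956 IH) (Lpn (LP (LK LD1_c5 LD2_c18 LD3_c29))))))
theorem f165817 : Led Lsl_gt (LP (LK LD1_c5 LD2_c18 LD3_c30)) = (LP (LK LD1_c2 LD2_c35 LD3_c55)) :=
  Lre_g IH (LK LD1_c5 LD2_c18 LD3_c30) (LK LD1_c2 LD2_c35 LD3_c55) Lrfl Lrfl
theorem f184013 : Led Lsl_ff (LP (LK LD1_c4 LD2_c53 LD3_c60)) = (LP (LK LD1_c5 LD2_c18 LD3_c30)) :=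
  Lgr Lrot52 (Lpr_at (f183965 IH) (Lpe (f32914 IH) (Lpe (f165817 IH) (Lpn (LP (LK LD1_c5 LD2_c18 LD3_c30))))))
theorem f44399 : Led Lsl_ct (LP (LK LD1_c4 LD2_c53 LD3_c60)) = (LP (LK LD1_c2 LD2_c24 LD3_c53)) :=
  Lre_c IH (LK LD1_c4 LD2_c53 LD3_c60) (LK LD1_c2 LD2_c24 LD3_c53) Lrfl Lrfl
theorem f44445 : Led Lsl_ft (LP (LK LD1_c2 LD2_c24 LD3_c53)) = (LP (LK LD1_c4 LD2_c53 LD3_c61)) :=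
  Lre_f IH (LK LD1_c2 LD2_c24 LD3_c53) (LK LD1_c4 LD2_c53 LD3_c61) Lrfl Lrfl
theorem f184017 : Led Lsl_ct (LP (LK LD1_c4 LD2_c53 LD3_c61)) = (LP (LK LD1_c5 LD2_c18 LD3_c30)) :=
  Lgr Lrot40 (Lpe (f44445 IH) (Lpe (f44399 IH) (Lpr_ff (f184013 IH) (Lpn (LP (LK LD1_c5 LD2_c18 LD3_c30))))))
theorem f43474 : Led Lsl_bt (LP (LK LD1_c4 LD2_c53 LD3_c61)) = (LP (LK LD1_c2 LD2_c24 LD3_c61)) :=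
  Lre_b IH (LK LD1_c4 LD2_c53 LD3_c61) (LK LD1_c2 LD2_c24 LD3_c61) Lrfl Lrfl
theorem f32066 : Led Lsl_bt (LP (LK LD1_c1 LD2_c14 LD3_c59)) = (LP (LK LD1_c0 LD2_c34 LD3_c47)) :=
  Lre_b IH (LK LD1_c1 LD2_c14 LD3_c59) (LK LD1_c0 LD2_c34 LD3_c47) Lrfl Lrfl
theorem f32249 : Led Lsl_ct (LP (LK LD1_c0 LD2_c15 LD3_c35)) = (LP (LK LD1_c0 LD2_c34 LD3_c48)) :=
  Lre_c IH (LK LD1_c0 LD2_c15 LD3_c35) (LK LD1_c0 LD2_c34 LD3_c48) Lrfl Lrfl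
theorem f165818 : Led Lsl_bt (LP (LK LD1_c0 LD2_c33 LD3_c13)) = (LP (LK LD1_c1 LD2_c11 LD3_c44)) :=
  Lre_b IH (LK LD1_c0 LD2_c33 LD3_c13) (LK LD1_c1 LD2_c11 LD3_c44) Lrfl Lrfl
theorem f184042 : Led Lsl_gf (LP (LK LD1_c2 LD2_c24 LD3_c61)) = (LP (LK LD1_c1 LD2_c11 LD3_c44)) :=
  Lgr Lrot124 (Lpe (f43474 IH) (Lpr_ct (f184017 IH) (Lpr_gt (f165817 IH) (Lpe (f32913 IH) (Lpr_bt (f32066 IH) (Lpr_gt (f32065 IH) (Lpr_ct (f32249 IH) (Lpr_gt (f165778 IH) (Lpe (f165428 IH) (Lpr_bt (f165818 IH) (Lpn (LP (LK LD1_c1 LD2_c11 LD3_c44)))))))))))))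
theorem f43450 : Led Lsl_ct (LP (LK LD1_c2 LD2_c24 LD3_c61)) = (LP (LK LD1_c4 LD2_c54 LD3_c13)) :=
  Lre_c IH (LK LD1_c2 LD2_c24 LD3_c61) (LK LD1_c4 LD2_c54 LD3_c13) Lrfl Lrfl
theorem f43465 : Led Lsl_ct (LP (LK LD1_c1 LD2_c9 LD3_c47)) = (LP (LK LD1_c2 LD2_c25 LD3_c6)) :=
  Lre_c IH (LK LD1_c1 LD2_c9 LD3_c47) (LK LD1_c2 LD2_c25 LD3_c6) Lrfl Lrfl
theorem f43466 : Led Lsl_ct (LP (LK LD1_c2 LD2_c24 LD3_c60)) = (LP (LK LD1_c1 LD2_c9 LD3_c43)) :=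
  Lre_c IH (LK LD1_c2 LD2_c24 LD3_c60) (LK LD1_c1 LD2_c9 LD3_c43) Lrfl Lrfl
theorem f43467 : Led Lsl_at (LP (LK LD1_c2 LD2_c25 LD3_c6)) = (LP (LK LD1_c2 LD2_c24 LD3_c60)) :=
  Lgr Lrot107 (Lpe (f43465 IH) (Lpr_af (f43460 IH) (Lpe (f43466 IH) (Lpn (LP (LK LD1_c2 LD2_c24 LD3_c60))))))
theorem f43481 : Led Lsl_af (LP (LK LD1_c2 LD2_c25 LD3_c6)) = (LP (LK LD1_c2 LD2_c24 LD3_c60)) :=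
  Lgr Lrot0 (Lpr_at (f43467 IH) (Lpn (LP (LK LD1_c2 LD2_c24 LD3_c60))))
theorem f43768 : Led Lsl_gt (LP (LK LD1_c4 LD2_c54 LD3_c25)) = (LP (LK LD1_c2 LD2_c25 LD3_c6)) :=
  Lre_g IH (LK LD1_c4 LD2_c54 LD3_c25) (LK LD1_c2 LD2_c25 LD3_c6) Lrfl Lrfl
theorem f43742 : Led Lsl_ft (LP (LK LD1_c4 LD2_c54 LD3_c13)) = (LP (LK LD1_c2 LD2_c24 LD3_c60)) :=
  Lre_f IH (LK LD1_c4 LD2_c54 LD3_c13) (LK LD1_c2 LD2_c24 LD3_c60) Lrfl Lrfl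
theorem f43769 : Led Lsl_gf (LP (LK LD1_c4 LD2_c54 LD3_c25)) = (LP (LK LD1_c4 LD2_c54 LD3_c13)) :=
  Lgr Lrot47 (Lpr_gt (f43768 IH) (Lpr_af (f43481 IH) (Lpe (f43742 IH) (Lpn (LP (LK LD1_c4 LD2_c54 LD3_c13))))))
theorem f32844 : Led Lsl_bt (LP (LK LD1_c0 LD2_c15 LD3_c35)) = (LP (LK LD1_c0 LD2_c34 LD3_c44)) :=
  Lre_b IH (LK LD1_c0 LD2_c15 LD3_c35) (LK LD1_c0 LD2_c34 LD3_c44) Lrfl Lrfl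
theorem f33097 : Led Lsl_gt (LP (LK LD1_c1 LD2_c14 LD3_c54)) = (LP (LK LD1_c0 LD2_c34 LD3_c44)) :=
  Lre_g IH (LK LD1_c1 LD2_c14 LD3_c54) (LK LD1_c0 LD2_c34 LD3_c44) Lrfl Lrfl
theorem f32560 : Led Lsl_bt (LP (LK LD1_c2 LD2_c35 LD3_c41)) = (LP (LK LD1_c1 LD2_c14 LD3_c54)) :=
  Lre_b IH (LK LD1_c2 LD2_c35 LD3_c41) (LK LD1_c1 LD2_c14 LD3_c54) Lrfl Lrfl
theorem f184048 : Led Lsl_cf (LP (LK LD1_c4 LD2_c54 LD3_c25)) = (LP (LK LD1_c2 LD2_c35 LD3_c41)) :=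
  Lgr Lrot163 (Lpr_gf (f43769 IH) (Lpe (f43450 IH) (Lpr_gf (f184042 IH) (Lpe (f165818 IH) (Lpr_ct (f165428 IH) (Lpe (f165778 IH) (Lpe (f32249 IH) (Lpr_bt (f32844 IH) (Lpe (f33097 IH) (Lpe (f32560 IH) (Lpn (LP (LK LD1_c2 LD2_c35 LD3_c41)))))))))))))
theorem f44995 : Led Lsl_gt (LP (LK LD1_c2 LD2_c4 LD3_c10)) = (LP (LK LD1_c4 LD2_c13 LD3_c39)) :=
  Lre_g IH (LK LD1_c2 LD2_c4 LD3_c10) (LK LD1_c4 LD2_c13 LD3_c39) Lrfl Lrfl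
theorem f32179 : Led Lsl_gt (LP (LK LD1_c2 LD2_c35 LD3_c19)) = (LP (LK LD1_c1 LD2_c14 LD3_c54)) :=
  Lre_g IH (LK LD1_c2 LD2_c35 LD3_c19) (LK LD1_c1 LD2_c14 LD3_c54) Lrfl Lrfl
theorem f32334 : Led Lsl_et (LP (LK LD1_c5 LD2_c15 LD3_c10)) = (LP (LK LD1_c2 LD2_c34 LD3_c26)) :=
  Lre_e IH (LK LD1_c5 LD2_c15 LD3_c10) (LK LD1_c2 LD2_c34 LD3_c26) Lrfl Lrfl
theorem f32548 : Led Lsl_bf (LP (LK LD1_c2 LD2_c35 LD3_c19)) = (LP (LK LD1_c2 LD2_c34 LD3_c26)) :=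
  Lgr Lrot96 (Lpr_et (K1.f32167 IH) (Lpr_bt (K2.f32541 IH) (Lpr_et (f32334 IH) (Lpn (LP (LK LD1_c2 LD2_c34 LD3_c26))))))
theorem f32526 : Led Lsl_gt (LP (LK LD1_c2 LD2_c34 LD3_c49)) = (LP (LK LD1_c5 LD2_c15 LD3_c9)) :=
  Lre_g IH (LK LD1_c2 LD2_c34 LD3_c49) (LK LD1_c5 LD2_c15 LD3_c9) Lrfl Lrfl
theorem f184062 : Led Lsl_ct (LP (LK LD1_c4 LD2_c13 LD3_c39)) = (LP (LK LD1_c2 LD2_c34 LD3_c49)) :=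
  Lgr Lrot91 (Lpe (f44995 IH) (Lpe (f50821 IH) (Lpr_ct (f43465 IH) (Lpe (f43768 IH) (Lpr_cf (f184048 IH) (Lpr_bt (f32560 IH) (Lpe (f32179 IH) (Lpr_bf (f32548 IH) (Lpr_ct (K1.f32508 IH) (Lpe (f32526 IH) (Lpn (LP (LK LD1_c2 LD2_c34 LD3_c49)))))))))))))
theorem f32559 : Led Lsl_ct (LP (LK LD1_c1 LD2_c14 LD3_c54)) = (LP (LK LD1_c2 LD2_c35 LD3_c42)) :=
  Lre_c IH (LK LD1_c1 LD2_c14 LD3_c54) (LK LD1_c2 LD2_c35 LD3_c42) Lrfl Lrfl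
theorem f45399 : Led Lsl_gt (LP (LK LD1_c0 LD2_c27 LD3_c5)) = (LP (LK LD1_c0 LD2_c59 LD3_c28)) :=
  Lre_g IH (LK LD1_c0 LD2_c27 LD3_c5) (LK LD1_c0 LD2_c59 LD3_c28) Lrfl Lrfl
theorem f45400 : Led Lsl_dt (LP (LK LD1_c0 LD2_c59 LD3_c28)) = (LP (LK LD1_c2 LD2_c4 LD3_c50)) :=
  Lre_d IH (LK LD1_c0 LD2_c59 LD3_c28) (LK LD1_c2 LD2_c4 LD3_c50) Lrfl Lrfl
theorem f32145 : Led Lsl_et (LP (LK LD1_c0 LD2_c7 LD3_c2)) = (LP (LK LD1_c0 LD2_c15 LD3_c34)) :=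
  Lre_e IH (LK LD1_c0 LD2_c7 LD3_c2) (LK LD1_c0 LD2_c15 LD3_c34) Lrfl Lrfl
theorem f48187 : Led Lsl_gt (LP (LK LD1_c0 LD2_c34 LD3_c43)) = (LP (LK LD1_c0 LD2_c15 LD3_c34)) :=
  Lre_g IH (LK LD1_c0 LD2_c34 LD3_c43) (LK LD1_c0 LD2_c15 LD3_c34) Lrfl Lrfl
theorem f32175 : Led Lsl_et (LP (LK LD1_c1 LD2_c14 LD3_c52)) = (LP (LK LD1_c0 LD2_c34 LD3_c43)) :=
  Lre_e IH (LK LD1_c1 LD2_c14 LD3_c52) (LK LD1_c0 LD2_c34 LD3_c43) Lrfl Lrfl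
theorem f32176 : Led Lsl_dt (LP (LK LD1_c1 LD2_c14 LD3_c52)) = (LP (LK LD1_c2 LD2_c35 LD3_c38)) :=
  Lre_d IH (LK LD1_c1 LD2_c14 LD3_c52) (LK LD1_c2 LD2_c35 LD3_c38) Lrfl Lrfl
theorem f48188 : Led Lsl_gt (LP (LK LD1_c2 LD2_c4 LD3_c50)) = (LP (LK LD1_c2 LD2_c35 LD3_c38)) :=
  Lgr Lrot139 (Lpe (f45400 IH) (Lpe (f45399 IH) (Lpe (K1.f44535 IH) (Lpr_dt (K1.f45124 IH) (Lpe (K1.f28439 IH) (Lpr_df (K8.f48181 IH) (Lpr_et (f32145 IH) (Lpe (f48187 IH) (Lpe (f32175 IH) (Lpr_dt (f32176 IH) (Lpn (LP (LK LD1_c2 LD2_c35 LD3_c38)))))))))))))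
theorem f32878 : Led Lsl_gt (LP (LK LD1_c0 LD2_c15 LD3_c28)) = (LP (LK LD1_c0 LD2_c34 LD3_c27)) :=
  Lre_g IH (LK LD1_c0 LD2_c15 LD3_c28) (LK LD1_c0 LD2_c34 LD3_c27) Lrfl Lrfl
theorem f32879 : Led Lsl_dt (LP (LK LD1_c0 LD2_c34 LD3_c27)) = (LP (LK LD1_c1 LD2_c14 LD3_c17)) :=
  Lre_d IH (LK LD1_c0 LD2_c34 LD3_c27) (LK LD1_c1 LD2_c14 LD3_c17) Lrfl Lrfl
theorem f45398 : Led Lsl_gt (LP (LK LD1_c1 LD2_c14 LD3_c17)) = (LP (LK LD1_c2 LD2_c34 LD3_c32)) :=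
  Lre_g IH (LK LD1_c1 LD2_c14 LD3_c17) (LK LD1_c2 LD2_c34 LD3_c32) Lrfl Lrfl
theorem f47744 : Led Lsl_gt (LP (LK LD1_c0 LD2_c57 LD3_c44)) = (LP (LK LD1_c0 LD2_c26 LD3_c16)) :=
  Lre_g IH (LK LD1_c0 LD2_c57 LD3_c44) (LK LD1_c0 LD2_c26 LD3_c16) Lrfl Lrfl
theorem f47745 : Led Lsl_et (LP (LK LD1_c2 LD2_c1 LD3_c22)) = (LP (LK LD1_c0 LD2_c57 LD3_c44)) :=
  Lre_e IH (LK LD1_c2 LD2_c1 LD3_c22) (LK LD1_c0 LD2_c57 LD3_c44) Lrfl Lrfl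
theorem f32309 : Led Lsl_et (LP (LK LD1_c0 LD2_c7 LD3_c0)) = (LP (LK LD1_c0 LD2_c15 LD3_c28)) :=
  Lre_e IH (LK LD1_c0 LD2_c7 LD3_c0) (LK LD1_c0 LD2_c15 LD3_c28) Lrfl Lrfl
theorem f47746 : Led Lsl_dt (LP (LK LD1_c2 LD2_c1 LD3_c22)) = (LP (LK LD1_c2 LD2_c34 LD3_c32)) :=
  Lgr Lrot56 (Lpr_et (f47745 IH) (Lpr_gt (f47744 IH) (Lpe (f47743 IH) (Lpr_dt (K1.f47534 IH) (Lpr_gt (K1.f32155 IH) (Lpr_df (K8.f47506 IH) (Lpr_et (f32309 IH) (Lpr_gt (f32878 IH) (Lpr_dt (f32879 IH) (Lpr_gt (f45398 IH) (Lpn (LP (LK LD1_c2 LD2_c34 LD3_c32)))))))))))))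
theorem f47749 : Led Lsl_df (LP (LK LD1_c2 LD2_c1 LD3_c22)) = (LP (LK LD1_c2 LD2_c34 LD3_c32)) :=
  Lgr Lrot38 (Lpr_dt (f47746 IH) (Lpn (LP (LK LD1_c2 LD2_c34 LD3_c32))))
theorem f49076 : Led Lsl_dt (LP (LK LD1_c2 LD2_c35 LD3_c38)) = (LP (LK LD1_c1 LD2_c14 LD3_c52)) :=
  Lre_d IH (LK LD1_c2 LD2_c35 LD3_c38) (LK LD1_c1 LD2_c14 LD3_c52) Lrfl Lrfl
theorem f49080 : Led Lsl_cf (LP (LK LD1_c2 LD2_c1 LD3_c22)) = (LP (LK LD1_c1 LD2_c14 LD3_c52)) :=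
  Lgr Lrot14 (Lpr_df (f47749 IH) (Lpe (f45398 IH) (Lpe (f32879 IH) (Lpe (f32878 IH) (Lpr_ct (K1.f45382 IH) (Lpr_gt (f45399 IH) (Lpr_dt (f45400 IH) (Lpr_gt (f48188 IH) (Lpr_dt (f49076 IH) (Lpn (LP (LK LD1_c1 LD2_c14 LD3_c52))))))))))))
theorem f49098 : Led Lsl_et (LP (LK LD1_c0 LD2_c34 LD3_c43)) = (LP (LK LD1_c1 LD2_c14 LD3_c52)) :=
  Lre_e IH (LK LD1_c0 LD2_c34 LD3_c43) (LK LD1_c1 LD2_c14 LD3_c52) Lrfl Lrfl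
theorem f49099 : Led Lsl_ct (LP (LK LD1_c0 LD2_c57 LD3_c44)) = (LP (LK LD1_c0 LD2_c34 LD3_c43)) :=
  Lgr Lrot15 (Lpe (f47745 IH) (Lpr_cf (f49080 IH) (Lpe (f49098 IH) (Lpn (LP (LK LD1_c0 LD2_c34 LD3_c43))))))
theorem f49103 : Led Lsl_cf (LP (LK LD1_c0 LD2_c57 LD3_c44)) = (LP (LK LD1_c0 LD2_c34 LD3_c43)) :=
  Lgr Lrot11 (Lpr_ct (f49099 IH) (Lpn (LP (LK LD1_c0 LD2_c34 LD3_c43))))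
theorem f49113 : Led Lsl_ct (LP (LK LD1_c0 LD2_c26 LD3_c16)) = (LP (LK LD1_c0 LD2_c57 LD3_c43)) :=
  Lre_c IH (LK LD1_c0 LD2_c26 LD3_c16) (LK LD1_c0 LD2_c57 LD3_c43) Lrfl Lrfl
theorem f32172 : Led Lsl_gt (LP (LK LD1_c1 LD2_c14 LD3_c41)) = (LP (LK LD1_c0 LD2_c34 LD3_c43)) :=
  Lre_g IH (LK LD1_c1 LD2_c14 LD3_c41) (LK LD1_c0 LD2_c34 LD3_c43) Lrfl Lrfl
theorem f49115 : Led Lsl_gf (LP (LK LD1_c4 LD2_c7 LD3_c56)) = (LP (LK LD1_c2 LD2_c35 LD3_c42)) :=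
  Lgr Lrot104 (Lpr_ct (f49114 IH) (Lpe (K8.f47826 IH) (Lpe (f49113 IH) (Lpe (f47744 IH) (Lpr_cf (f49103 IH) (Lpe (f32172 IH) (Lpe (K1.f32168 IH) (Lpr_gt (f32179 IH) (Lpr_ct (f32559 IH) (Lpn (LP (LK LD1_c2 LD2_c35 LD3_c42))))))))))))
theorem f49124 : Led Lsl_ct (LP (LK LD1_c2 LD2_c1 LD3_c19)) = (LP (LK LD1_c4 LD2_c7 LD3_c56)) :=
  Lre_c IH (LK LD1_c2 LD2_c1 LD3_c19) (LK LD1_c4 LD2_c7 LD3_c56) Lrfl Lrfl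
theorem f43810 : Led Lsl_gt (LP (LK LD1_c2 LD2_c24 LD3_c56)) = (LP (LK LD1_c4 LD2_c54 LD3_c2)) :=
  Lre_g IH (LK LD1_c2 LD2_c24 LD3_c56) (LK LD1_c4 LD2_c54 LD3_c2) Lrfl Lrfl
theorem f184074 : Led Lsl_bt (LP (LK LD1_c4 LD2_c13 LD3_c39)) = (LP (LK LD1_c4 LD2_c54 LD3_c2)) :=
  Lgr Lrot92 (Lpr_ct (f184062 IH) (Lpr_gt (f32526 IH) (Lpe (K1.f32508 IH) (Lpe (f32548 IH) (Lpr_gt (f32179 IH) (Lpr_ct (f32559 IH) (Lpe (f49115 IH) (Lpe (f49124 IH) (Lpe (f49835 IH) (Lpr_gt (f43810 IH) (Lpn (LP (LK LD1_c4 LD2_c54 LD3_c2)))))))))))))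
theorem f47574 : Led Lsl_gt (LP (LK LD1_c1 LD2_c14 LD3_c25)) = (LP (LK LD1_c2 LD2_c34 LD3_c49)) :=
  Lre_g IH (LK LD1_c1 LD2_c14 LD3_c25) (LK LD1_c2 LD2_c34 LD3_c49) Lrfl Lrfl
theorem f32845 : Led Lsl_bt (LP (LK LD1_c0 LD2_c34 LD3_c29)) = (LP (LK LD1_c0 LD2_c15 LD3_c29)) :=
  Lre_b IH (LK LD1_c0 LD2_c34 LD3_c29) (LK LD1_c0 LD2_c15 LD3_c29) Lrfl Lrfl
theorem f32857 : Led Lsl_bt (LP (LK LD1_c1 LD2_c14 LD3_c29)) = (LP (LK LD1_c0 LD2_c34 LD3_c32)) :=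
  Lre_b IH (LK LD1_c1 LD2_c14 LD3_c29) (LK LD1_c0 LD2_c34 LD3_c32) Lrfl Lrfl
theorem f32858 : Led Lsl_ct (LP (LK LD1_c1 LD2_c14 LD3_c29)) = (LP (LK LD1_c2 LD2_c34 LD3_c60)) :=
  Lre_c IH (LK LD1_c1 LD2_c14 LD3_c29) (LK LD1_c2 LD2_c34 LD3_c60) Lrfl Lrfl
theorem f166115 : Led Lsl_gt (LP (LK LD1_c5 LD2_c16 LD3_c26)) = (LP (LK LD1_c2 LD2_c34 LD3_c60)) :=
  Lre_g IH (LK LD1_c5 LD2_c16 LD3_c26) (LK LD1_c2 LD2_c34 LD3_c60) Lrfl Lrfl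
theorem f43286 : Led Lsl_dt (LP (LK LD1_c4 LD2_c54 LD3_c19)) = (LP (LK LD1_c2 LD2_c25 LD3_c2)) :=
  Lre_d IH (LK LD1_c4 LD2_c54 LD3_c19) (LK LD1_c2 LD2_c25 LD3_c2) Lrfl Lrfl
theorem f43429 : Led Lsl_af (LP (LK LD1_c4 LD2_c54 LD3_c19)) = (LP (LK LD1_c4 LD2_c54 LD3_c4)) :=
  Lgr Lrot117 (Lpr_dt (f43286 IH) (Lpr_at (f43411 IH) (Lpr_dt (f43387 IH) (Lpn (LP (LK LD1_c4 LD2_c54 LD3_c4))))))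
theorem f43811 : Led Lsl_gf (LP (LK LD1_c4 LD2_c54 LD3_c19)) = (LP (LK LD1_c4 LD2_c54 LD3_c2)) :=
  Lgr Lrot76 (Lpr_af (f43429 IH) (Lpe (f43809 IH) (Lpr_gt (f43810 IH) (Lpn (LP (LK LD1_c4 LD2_c54 LD3_c2))))))
theorem f184081 : Led Lsl_cf (LP (LK LD1_c5 LD2_c16 LD3_c26)) = (LP (LK LD1_c4 LD2_c54 LD3_c19)) :=
  Lgr Lrot125 (Lpr_gt (f166115 IH) (Lpe (f32858 IH) (Lpr_bt (f32857 IH) (Lpr_gt (f31448 IH) (Lpe (f32845 IH) (Lpr_ct (K1.f45192 IH) (Lpr_gt (f47574 IH) (Lpe (f184062 IH) (Lpr_bt (f184074 IH) (Lpe (f43811 IH) (Lpn (LP (LK LD1_c4 LD2_c54 LD3_c19)))))))))))))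
theorem f31517 : Led Lsl_ft (LP (LK LD1_c2 LD2_c25 LD3_c1)) = (LP (LK LD1_c4 LD2_c54 LD3_c19)) :=
  Lre_f IH (LK LD1_c2 LD2_c25 LD3_c1) (LK LD1_c4 LD2_c54 LD3_c19) Lrfl Lrfl
theorem f31474 : Led Lsl_ct (LP (LK LD1_c4 LD2_c54 LD3_c18)) = (LP (LK LD1_c2 LD2_c25 LD3_c1)) :=
  Lre_c IH (LK LD1_c4 LD2_c54 LD3_c18) (LK LD1_c2 LD2_c25 LD3_c1) Lrfl Lrfl
theorem f184091 : Led Lsl_ft (LP (LK LD1_c5 LD2_c16 LD3_c26)) = (LP (LK LD1_c4 LD2_c54 LD3_c18)) :=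
  Lgr Lrot4 (Lpr_cf (f184081 IH) (Lpe (f31517 IH) (Lpe (f31474 IH) (Lpn (LP (LK LD1_c4 LD2_c54 LD3_c18))))))
theorem f43492 : Led Lsl_ft (LP (LK LD1_c4 LD2_c54 LD3_c28)) = (LP (LK LD1_c2 LD2_c25 LD3_c6)) :=
  Lre_f IH (LK LD1_c4 LD2_c54 LD3_c28) (LK LD1_c2 LD2_c25 LD3_c6) Lrfl Lrfl
theorem f43497 : Led Lsl_dt (LP (LK LD1_c4 LD2_c54 LD3_c28)) = (LP (LK LD1_c9 LD2_c40 LD3_c33)) :=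
  Lre_d IH (LK LD1_c4 LD2_c54 LD3_c28) (LK LD1_c9 LD2_c40 LD3_c33) Lrfl Lrfl
theorem f43498 : Led Lsl_ct (LP (LK LD1_c1 LD2_c9 LD3_c43)) = (LP (LK LD1_c2 LD2_c24 LD3_c60)) :=
  Lre_c IH (LK LD1_c1 LD2_c9 LD3_c43) (LK LD1_c2 LD2_c24 LD3_c60) Lrfl Lrfl
theorem f43345 : Led Lsl_dt (LP (LK LD1_c0 LD2_c32 LD3_c16)) = (LP (LK LD1_c1 LD2_c9 LD3_c43)) :=
  Lre_d IH (LK LD1_c0 LD2_c32 LD3_c16) (LK LD1_c1 LD2_c9 LD3_c43) Lrfl Lrfl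
theorem f43499 : Led Lsl_ct (LP (LK LD1_c1 LD2_c9 LD3_c41)) = (LP (LK LD1_c0 LD2_c32 LD3_c16)) :=
  Lre_c IH (LK LD1_c1 LD2_c9 LD3_c41) (LK LD1_c0 LD2_c32 LD3_c16) Lrfl Lrfl
theorem f43408 : Led Lsl_dt (LP (LK LD1_c2 LD2_c24 LD3_c56)) = (LP (LK LD1_c1 LD2_c9 LD3_c41)) :=
  Lre_d IH (LK LD1_c2 LD2_c24 LD3_c56) (LK LD1_c1 LD2_c9 LD3_c41) Lrfl Lrfl
theorem f43500 : Led Lsl_ct (LP (LK LD1_c4 LD2_c54 LD3_c3)) = (LP (LK LD1_c2 LD2_c24 LD3_c56)) :=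
  Lre_c IH (LK LD1_c4 LD2_c54 LD3_c3) (LK LD1_c2 LD2_c24 LD3_c56) Lrfl Lrfl
theorem f43501 : Led Lsl_dt (LP (LK LD1_c9 LD2_c39 LD3_c33)) = (LP (LK LD1_c4 LD2_c54 LD3_c3)) :=
  Lre_d IH (LK LD1_c9 LD2_c39 LD3_c33) (LK LD1_c4 LD2_c54 LD3_c3) Lrfl Lrfl
theorem f43502 : Led Lsl_ct (LP (LK LD1_c9 LD2_c40 LD3_c33)) = (LP (LK LD1_c9 LD2_c39 LD3_c33)) :=
  Lgr Lrot133 (Lpe (f43497 IH) (Lpr_ft (f43492 IH) (Lpr_at (f43467 IH) (Lpe (f43498 IH) (Lpe (f43345 IH) (Lpe (f43499 IH) (Lpe (f43408 IH) (Lpe (f43500 IH) (Lpe (f43501 IH) (Lpn (LP (LK LD1_c9 LD2_c39 LD3_c33))))))))))))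
theorem f43443 : Led Lsl_ft (LP (LK LD1_c4 LD2_c54 LD3_c27)) = (LP (LK LD1_c9 LD2_c40 LD3_c33)) :=
  Lre_f IH (LK LD1_c4 LD2_c54 LD3_c27) (LK LD1_c9 LD2_c40 LD3_c33) Lrfl Lrfl
theorem f43417 : Led Lsl_ct (LP (LK LD1_c9 LD2_c40 LD3_c31)) = (LP (LK LD1_c4 LD2_c54 LD3_c27)) :=
  Lre_c IH (LK LD1_c9 LD2_c40 LD3_c31) (LK LD1_c4 LD2_c54 LD3_c27) Lrfl Lrfl
theorem f43511 : Led Lsl_ff (LP (LK LD1_c9 LD2_c40 LD3_c31)) = (LP (LK LD1_c9 LD2_c39 LD3_c33)) :=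
  Lgr Lrot23 (Lpr_ct (f43417 IH) (Lpr_ft (f43443 IH) (Lpr_ct (f43502 IH) (Lpn (LP (LK LD1_c9 LD2_c39 LD3_c33))))))
theorem f43489 : Led Lsl_dt (LP (LK LD1_c2 LD2_c24 LD3_c60)) = (LP (LK LD1_c4 LD2_c54 LD3_c12)) :=
  Lre_d IH (LK LD1_c2 LD2_c24 LD3_c60) (LK LD1_c4 LD2_c54 LD3_c12) Lrfl Lrfl
theorem f43440 : Led Lsl_ct (LP (LK LD1_c4 LD2_c54 LD3_c12)) = (LP (LK LD1_c9 LD2_c39 LD3_c58)) :=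
  Lre_c IH (LK LD1_c4 LD2_c54 LD3_c12) (LK LD1_c9 LD2_c39 LD3_c58) Lrfl Lrfl
theorem f43519 : Led Lsl_at (LP (LK LD1_c9 LD2_c40 LD3_c31)) = (LP (LK LD1_c9 LD2_c39 LD3_c58)) :=
  Lgr Lrot33 (Lpr_ff (f43511 IH) (Lpr_dt (f43501 IH) (Lpr_ct (f43500 IH) (Lpr_dt (f43408 IH) (Lpr_ct (f43499 IH) (Lpr_dt (f43345 IH) (Lpr_ct (f43498 IH) (Lpr_dt (f43489 IH) (Lpr_ct (f43440 IH) (Lpn (LP (LK LD1_c9 LD2_c39 LD3_c58))))))))))))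
theorem f43439 : Led Lsl_ft (LP (LK LD1_c9 LD2_c39 LD3_c60)) = (LP (LK LD1_c4 LD2_c54 LD3_c12)) :=
  Lre_f IH (LK LD1_c9 LD2_c39 LD3_c60) (LK LD1_c4 LD2_c54 LD3_c12) Lrfl Lrfl
theorem f43441 : Led Lsl_ff (LP (LK LD1_c9 LD2_c40 LD3_c5)) = (LP (LK LD1_c9 LD2_c39 LD3_c58)) :=
  Lgr Lrot23 (Lpr_ct (f43434 IH) (Lpr_ft (f43439 IH) (Lpr_ct (f43440 IH) (Lpn (LP (LK LD1_c9 LD2_c39 LD3_c58))))))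
theorem f43530 : Led Lsl_af (LP (LK LD1_c9 LD2_c39 LD3_c33)) = (LP (LK LD1_c9 LD2_c40 LD3_c5)) :=
  Lgr Lrot45 (Lpe (f43511 IH) (Lpr_at (f43519 IH) (Lpe (f43441 IH) (Lpn (LP (LK LD1_c9 LD2_c40 LD3_c5))))))
theorem f43534 : Led Lsl_at (LP (LK LD1_c4 LD2_c54 LD3_c3)) = (LP (LK LD1_c4 LD2_c54 LD3_c18)) :=
  Lgr Lrot51 (Lpe (f43501 IH) (Lpr_af (f43530 IH) (Lpe (f43431 IH) (Lpn (LP (LK LD1_c4 LD2_c54 LD3_c18))))))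
theorem f43536 : Led Lsl_af (LP (LK LD1_c4 LD2_c54 LD3_c3)) = (LP (LK LD1_c4 LD2_c54 LD3_c18)) :=
  Lgr Lrot0 (Lpr_at (f43534 IH) (Lpn (LP (LK LD1_c4 LD2_c54 LD3_c18))))
theorem f184102 : Led Lsl_gt (LP (LK LD1_c2 LD2_c34 LD3_c60)) = (LP (LK LD1_c4 LD2_c54 LD3_c3)) :=
  Lgr Lrot46 (Lpe (f166115 IH) (Lpr_ft (f184091 IH) (Lpe (f43536 IH) (Lpn (LP (LK LD1_c4 LD2_c54 LD3_c3))))))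
theorem f165881 : Led Lsl_ct (LP (LK LD1_c2 LD2_c34 LD3_c60)) = (LP (LK LD1_c1 LD2_c14 LD3_c29)) :=
  Lre_c IH (LK LD1_c2 LD2_c34 LD3_c60) (LK LD1_c1 LD2_c14 LD3_c29) Lrfl Lrfl
theorem f43513 : Led Lsl_dt (LP (LK LD1_c4 LD2_c54 LD3_c3)) = (LP (LK LD1_c9 LD2_c39 LD3_c33)) :=
  Lre_d IH (LK LD1_c4 LD2_c54 LD3_c3) (LK LD1_c9 LD2_c39 LD3_c33) Lrfl Lrfl
theorem f50045 : Led Lsl_ft (LP (LK LD1_c8 LD2_c26 LD3_c15)) = (LP (LK LD1_c4 LD2_c13 LD3_c42)) :=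
  Lre_f IH (LK LD1_c8 LD2_c26 LD3_c15) (LK LD1_c4 LD2_c13 LD3_c42) Lrfl Lrfl
theorem f50046 : Led Lsl_ef (LP (LK LD1_c2 LD2_c24 LD3_c56)) = (LP (LK LD1_c4 LD2_c13 LD3_c42)) :=
  Lgr Lrot21 (Lpr_ft (f43809 IH) (Lpr_et (f43388 IH) (Lpr_ft (f50039 IH) (Lpr_et (f50044 IH) (Lpr_ft (f50045 IH) (Lpn (LP (LK LD1_c4 LD2_c13 LD3_c42))))))))
theorem f43514 : Led Lsl_ct (LP (LK LD1_c2 LD2_c24 LD3_c56)) = (LP (LK LD1_c4 LD2_c54 LD3_c3)) :=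
  Lre_c IH (LK LD1_c2 LD2_c24 LD3_c56) (LK LD1_c4 LD2_c54 LD3_c3) Lrfl Lrfl
theorem f183972 : Led Lsl_et (LP (LK LD1_c4 LD2_c54 LD3_c3)) = (LP (LK LD1_c5 LD2_c18 LD3_c29)) :=
  Lgr Lrot158 (Lpe (f43514 IH) (Lpr_ef (f50046 IH) (Lpr_cf (f183956 IH) (Lpn (LP (LK LD1_c5 LD2_c18 LD3_c29))))))
theorem f182246 : Led Lsl_et (LP (LK LD1_c5 LD2_c18 LD3_c32)) = (LP (LK LD1_c2 LD2_c35 LD3_c55)) :=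
  Lre_e IH (LK LD1_c5 LD2_c18 LD3_c32) (LK LD1_c2 LD2_c35 LD3_c55) Lrfl Lrfl
theorem f178681 : Led Lsl_dt (LP (LK LD1_c5 LD2_c18 LD3_c32)) = (LP (LK LD1_c10 LD2_c26 LD3_c47)) :=
  Lre_d IH (LK LD1_c5 LD2_c18 LD3_c32) (LK LD1_c10 LD2_c26 LD3_c47) Lrfl Lrfl
theorem f178734 : Led Lsl_gt (LP (LK LD1_c18 LD2_c56 LD3_c38)) = (LP (LK LD1_c10 LD2_c26 LD3_c47)) :=
  Lre_g IH (LK LD1_c18 LD2_c56 LD3_c38) (LK LD1_c10 LD2_c26 LD3_c47) Lrfl Lrfl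
theorem f44074 : Led Lsl_dt (LP (LK LD1_c0 LD2_c34 LD3_c53)) = (LP (LK LD1_c0 LD2_c15 LD3_c39)) :=
  Lre_d IH (LK LD1_c0 LD2_c34 LD3_c53) (LK LD1_c0 LD2_c15 LD3_c39) Lrfl Lrfl
theorem f28274 : Led Lsl_gt (LP (LK LD1_c0 LD2_c15 LD3_c39)) = (LP (LK LD1_c0 LD2_c34 LD3_c52)) :=
  Lre_g IH (LK LD1_c0 LD2_c15 LD3_c39) (LK LD1_c0 LD2_c34 LD3_c52) Lrfl Lrfl
theorem f44075 : Led Lsl_dt (LP (LK LD1_c1 LD2_c15 LD3_c10)) = (LP (LK LD1_c0 LD2_c34 LD3_c52)) :=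
  Lre_d IH (LK LD1_c1 LD2_c15 LD3_c10) (LK LD1_c0 LD2_c34 LD3_c52) Lrfl Lrfl
theorem f44076 : Led Lsl_et (LP (LK LD1_c1 LD2_c15 LD3_c10)) = (LP (LK LD1_c2 LD2_c36 LD3_c20)) :=
  Lre_e IH (LK LD1_c1 LD2_c15 LD3_c10) (LK LD1_c2 LD2_c36 LD3_c20) Lrfl Lrfl
theorem f44077 : Led Lsl_gt (LP (LK LD1_c2 LD2_c36 LD3_c20)) = (LP (LK LD1_c5 LD2_c19 LD3_c18)) :=
  Lre_g IH (LK LD1_c2 LD2_c36 LD3_c20) (LK LD1_c5 LD2_c19 LD3_c18) Lrfl Lrfl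
theorem f178716 : Led Lsl_et (LP (LK LD1_c2 LD2_c35 LD3_c56)) = (LP (LK LD1_c1 LD2_c14 LD3_c59)) :=
  Lre_e IH (LK LD1_c2 LD2_c35 LD3_c56) (LK LD1_c1 LD2_c14 LD3_c59) Lrfl Lrfl
theorem f178717 : Led Lsl_gt (LP (LK LD1_c4 LD2_c10 LD3_c21)) = (LP (LK LD1_c2 LD2_c2 LD3_c21)) :=
  Lre_g IH (LK LD1_c4 LD2_c10 LD3_c21) (LK LD1_c2 LD2_c2 LD3_c21) Lrfl Lrfl
theorem f182217 : Led Lsl_dt (LP (LK LD1_c5 LD2_c19 LD3_c18)) = (LP (LK LD1_c4 LD2_c10 LD3_c21)) :=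
  Lgr Lrot171 (Lpe (f44077 IH) (Lpe (f44076 IH) (Lpr_dt (f44075 IH) (Lpe (f28274 IH) (Lpe (f44074 IH) (Lpr_et (K1.f44050 IH) (Lpr_gf (f182204 IH) (Lpe (f178716 IH) (Lpe (f178605 IH) (Lpe (f178717 IH) (Lpn (LP (LK LD1_c4 LD2_c10 LD3_c21)))))))))))))
theorem f182226 : Led Lsl_ct (LP (LK LD1_c2 LD2_c36 LD3_c20)) = (LP (LK LD1_c5 LD2_c19 LD3_c17)) :=
  Lre_c IH (LK LD1_c2 LD2_c36 LD3_c20) (LK LD1_c5 LD2_c19 LD3_c17) Lrfl Lrfl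
theorem f182227 : Led Lsl_gt (LP (LK LD1_c5 LD2_c19 LD3_c17)) = (LP (LK LD1_c10 LD2_c28 LD3_c20)) :=
  Lre_g IH (LK LD1_c5 LD2_c19 LD3_c17) (LK LD1_c10 LD2_c28 LD3_c20) Lrfl Lrfl
theorem f178542 : Led Lsl_bt (LP (LK LD1_c0 LD2_c58 LD3_c8)) = (LP (LK LD1_c2 LD2_c2 LD3_c21)) :=
  Lre_b IH (LK LD1_c0 LD2_c58 LD3_c8) (LK LD1_c2 LD2_c2 LD3_c21) Lrfl Lrfl
theorem f178543 : Led Lsl_bt (LP (LK LD1_c2 LD2_c35 LD3_c56)) = (LP (LK LD1_c1 LD2_c14 LD3_c60)) :=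
  Lre_b IH (LK LD1_c2 LD2_c35 LD3_c56) (LK LD1_c1 LD2_c14 LD3_c60) Lrfl Lrfl
theorem f178544 : Led Lsl_dt (LP (LK LD1_c2 LD2_c2 LD3_c21)) = (LP (LK LD1_c2 LD2_c35 LD3_c56)) :=
  Lgr Lrot79 (Lpe (f178542 IH) (Lpr_df (f178538 IH) (Lpe (f178543 IH) (Lpn (LP (LK LD1_c2 LD2_c35 LD3_c56))))))
theorem f178671 : Led Lsl_ct (LP (LK LD1_c5 LD2_c18 LD3_c32)) = (LP (LK LD1_c2 LD2_c35 LD3_c56)) :=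
  Lre_c IH (LK LD1_c5 LD2_c18 LD3_c32) (LK LD1_c2 LD2_c35 LD3_c56) Lrfl Lrfl
theorem f178672 : Led Lsl_dt (LP (LK LD1_c10 LD2_c26 LD3_c47)) = (LP (LK LD1_c5 LD2_c18 LD3_c32)) :=
  Lre_d IH (LK LD1_c10 LD2_c26 LD3_c47) (LK LD1_c5 LD2_c18 LD3_c32) Lrfl Lrfl
theorem f182228 : Led Lsl_dt (LP (LK LD1_c10 LD2_c28 LD3_c20)) = (LP (LK LD1_c18 LD2_c56 LD3_c38)) :=
  Lgr Lrot57 (Lpe (f182227 IH) (Lpe (f182226 IH) (Lpr_gt (f44077 IH) (Lpr_dt (f182217 IH) (Lpr_gt (f178717 IH) (Lpr_dt (f178544 IH) (Lpe (f178671 IH) (Lpe (f178672 IH) (Lpe (f178734 IH) (Lpn (LP (LK LD1_c18 LD2_c56 LD3_c38))))))))))))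
theorem f182244 : Led Lsl_et (LP (LK LD1_c2 LD2_c36 LD3_c19)) = (LP (LK LD1_c5 LD2_c19 LD3_c17)) :=
  Lre_e IH (LK LD1_c2 LD2_c36 LD3_c19) (LK LD1_c5 LD2_c19 LD3_c17) Lrfl Lrfl
theorem f182245 : Led Lsl_dt (LP (LK LD1_c2 LD2_c36 LD3_c19)) = (LP (LK LD1_c5 LD2_c19 LD3_c16)) :=
  Lre_d IH (LK LD1_c2 LD2_c36 LD3_c19) (LK LD1_c5 LD2_c19 LD3_c16) Lrfl Lrfl
theorem f183983 : Led Lsl_gt (LP (LK LD1_c9 LD2_c39 LD3_c33)) = (LP (LK LD1_c5 LD2_c19 LD3_c16)) :=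
  Lgr Lrot112 (Lpe (f43513 IH) (Lpr_et (f183972 IH) (Lpe (f32914 IH) (Lpe (f182246 IH) (Lpr_dt (f178681 IH) (Lpe (f178734 IH) (Lpe (f182228 IH) (Lpe (f182227 IH) (Lpe (f182244 IH) (Lpr_dt (f182245 IH) (Lpn (LP (LK LD1_c5 LD2_c19 LD3_c16)))))))))))))
theorem f183987 : Led Lsl_dt (LP (LK LD1_c5 LD2_c19 LD3_c16)) = (LP (LK LD1_c2 LD2_c36 LD3_c19)) :=
  Lre_d IH (LK LD1_c5 LD2_c19 LD3_c16) (LK LD1_c2 LD2_c36 LD3_c19) Lrfl Lrfl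
theorem f28276 : Led Lsl_ct (LP (LK LD1_c1 LD2_c15 LD3_c10)) = (LP (LK LD1_c2 LD2_c36 LD3_c19)) :=
  Lre_c IH (LK LD1_c1 LD2_c15 LD3_c10) (LK LD1_c2 LD2_c36 LD3_c19) Lrfl Lrfl
theorem f28275 : Led Lsl_dt (LP (LK LD1_c0 LD2_c34 LD3_c52)) = (LP (LK LD1_c1 LD2_c15 LD3_c10)) :=
  Lre_d IH (LK LD1_c0 LD2_c34 LD3_c52) (LK LD1_c1 LD2_c15 LD3_c10) Lrfl Lrfl
theorem f184104 : Led Lsl_gt (LP (LK LD1_c1 LD2_c14 LD3_c29)) = (LP (LK LD1_c0 LD2_c34 LD3_c53)) :=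
  Lgr Lrot94 (Lpe (f165881 IH) (Lpr_gt (f184102 IH) (Lpr_dt (f43513 IH) (Lpr_gt (f183983 IH) (Lpr_dt (f183987 IH) (Lpe (f28276 IH) (Lpe (f28275 IH) (Lpe (f28274 IH) (Lpe (f44074 IH) (Lpn (LP (LK LD1_c0 LD2_c34 LD3_c53))))))))))))
theorem f28256 : Led Lsl_ct (LP (LK LD1_c1 LD2_c15 LD3_c20)) = (LP (LK LD1_c0 LD2_c34 LD3_c57)) :=
  Lre_c IH (LK LD1_c1 LD2_c15 LD3_c20) (LK LD1_c0 LD2_c34 LD3_c57) Lrfl Lrfl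
theorem f44118 : Led Lsl_ct (LP (LK LD1_c0 LD2_c34 LD3_c53)) = (LP (LK LD1_c1 LD2_c15 LD3_c13)) :=
  Lre_c IH (LK LD1_c0 LD2_c34 LD3_c53) (LK LD1_c1 LD2_c15 LD3_c13) Lrfl Lrfl
theorem f46268 : Led Lsl_at (LP (LK LD1_c0 LD2_c34 LD3_c57)) = (LP (LK LD1_c0 LD2_c34 LD3_c53)) :=
  Lgr Lrot107 (Lpe (f28256 IH) (Lpr_af (K1.f46254 IH) (Lpe (f44118 IH) (Lpn (LP (LK LD1_c0 LD2_c34 LD3_c53))))))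
theorem f184226 : Led Lsl_gf (LP (LK LD1_c1 LD2_c14 LD3_c29)) = (LP (LK LD1_c1 LD2_c15 LD3_c21)) :=
  Lgr Lrot47 (Lpr_gt (f184104 IH) (Lpe (f46268 IH) (Lpe (K1.f28298 IH) (Lpn (LP (LK LD1_c1 LD2_c15 LD3_c21))))))
theorem f50021 : Led Lsl_bt (LP (LK LD1_c2 LD2_c24 LD3_c56)) = (LP (LK LD1_c2 LD2_c1 LD3_c19)) :=
  Lgr Lrot127 (Lpr_bf (f49835 IH) (Lpn (LP (LK LD1_c2 LD2_c1 LD3_c19))))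
theorem f32551 : Led Lsl_bt (LP (LK LD1_c1 LD2_c14 LD3_c56)) = (LP (LK LD1_c0 LD2_c34 LD3_c49)) :=
  Lre_b IH (LK LD1_c1 LD2_c14 LD3_c56) (LK LD1_c0 LD2_c34 LD3_c49) Lrfl Lrfl
theorem f32813 : Led Lsl_ct (LP (LK LD1_c1 LD2_c14 LD3_c56)) = (LP (LK LD1_c2 LD2_c35 LD3_c48)) :=
  Lre_c IH (LK LD1_c1 LD2_c14 LD3_c56) (LK LD1_c2 LD2_c35 LD3_c48) Lrfl Lrfl
theorem f21310 : Led Lsl_bt (LP (LK LD1_c0 LD2_c14 LD3_c56)) = (LP (LK LD1_c0 LD2_c33 LD3_c6)) :=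
  Lre_b IH (LK LD1_c0 LD2_c14 LD3_c56) (LK LD1_c0 LD2_c33 LD3_c6) Lrfl Lrfl
theorem f21861 : Led Lsl_gt (LP (LK LD1_c0 LD2_c33 LD3_c6)) = (LP (LK LD1_c1 LD2_c11 LD3_c28)) :=
  Lre_g IH (LK LD1_c0 LD2_c33 LD3_c6) (LK LD1_c1 LD2_c11 LD3_c28) Lrfl Lrfl
theorem f3743 : Led Lsl_bt (LP (LK LD1_c2 LD2_c28 LD3_c28)) = (LP (LK LD1_c1 LD2_c11 LD3_c28)) :=
  Lre_b IH (LK LD1_c2 LD2_c28 LD3_c28) (LK LD1_c1 LD2_c11 LD3_c28) Lrfl Lrfl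
theorem f165377 : Led Lsl_ct (LP (LK LD1_c2 LD2_c28 LD3_c28)) = (LP (LK LD1_c5 LD2_c1 LD3_c31)) :=
  Lre_c IH (LK LD1_c2 LD2_c28 LD3_c28) (LK LD1_c5 LD2_c1 LD3_c31) Lrfl Lrfl
theorem f165894 : Led Lsl_gf (LP (LK LD1_c2 LD2_c35 LD3_c48)) = (LP (LK LD1_c5 LD2_c1 LD3_c31)) :=
  Lgr Lrot126 (Lpe (f32813 IH) (Lpr_bt (f32551 IH) (Lpr_gt (f32853 IH) (Lpr_ct (f165872 IH) (Lpr_gt (f21389 IH) (Lpe (f21314 IH) (Lpr_bt (f21310 IH) (Lpr_gt (f21861 IH) (Lpe (f3743 IH) (Lpr_ct (f165377 IH) (Lpn (LP (LK LD1_c5 LD2_c1 LD3_c31)))))))))))))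
theorem f184106 : Led Lsl_gf (LP (LK LD1_c2 LD2_c28 LD3_c28)) = (LP (LK LD1_c2 LD2_c1 LD3_c19)) :=
  Lgr Lrot181 (Lpr_ct (f165377 IH) (Lpe (f165894 IH) (Lpe (f32813 IH) (Lpr_bt (f32551 IH) (Lpr_gt (f32853 IH) (Lpe (f32857 IH) (Lpr_ct (f32858 IH) (Lpr_gt (f184102 IH) (Lpe (f43514 IH) (Lpr_bt (f50021 IH) (Lpn (LP (LK LD1_c2 LD2_c1 LD3_c19)))))))))))))
theorem f184115 : Led Lsl_bt (LP (LK LD1_c1 LD2_c11 LD3_c28)) = (LP (LK LD1_c2 LD2_c28 LD3_c28)) :=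
  Lre_b IH (LK LD1_c1 LD2_c11 LD3_c28) (LK LD1_c2 LD2_c28 LD3_c28) Lrfl Lrfl
theorem f165896 : Led Lsl_ct (LP (LK LD1_c1 LD2_c11 LD3_c28)) = (LP (LK LD1_c2 LD2_c28 LD3_c29)) :=
  Lre_c IH (LK LD1_c1 LD2_c11 LD3_c28) (LK LD1_c2 LD2_c28 LD3_c29) Lrfl Lrfl
theorem f165897 : Led Lsl_gt (LP (LK LD1_c2 LD2_c28 LD3_c29)) = (LP (LK LD1_c5 LD2_c1 LD3_c33)) :=
  Lre_g IH (LK LD1_c2 LD2_c28 LD3_c29) (LK LD1_c5 LD2_c1 LD3_c33) Lrfl Lrfl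
theorem f46321 : Led Lsl_bt (LP (LK LD1_c2 LD2_c36 LD3_c33)) = (LP (LK LD1_c1 LD2_c15 LD3_c21)) :=
  Lre_b IH (LK LD1_c2 LD2_c36 LD3_c33) (LK LD1_c1 LD2_c15 LD3_c21) Lrfl Lrfl
theorem f184521 : Led Lsl_cf (LP (LK LD1_c5 LD2_c1 LD3_c33)) = (LP (LK LD1_c2 LD2_c36 LD3_c33)) :=
  Lgr Lrot58 (Lpe (f165897 IH) (Lpe (f165896 IH) (Lpr_bt (f184115 IH) (Lpr_gf (f184106 IH) (Lpe (f50021 IH) (Lpr_ct (f43514 IH) (Lpe (f184102 IH) (Lpe (f32858 IH) (Lpr_gf (f184226 IH) (Lpe (f46321 IH) (Lpn (LP (LK LD1_c2 LD2_c36 LD3_c33)))))))))))))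
theorem f184532 : Led Lsl_ct (LP (LK LD1_c5 LD2_c1 LD3_c33)) = (LP (LK LD1_c2 LD2_c36 LD3_c33)) :=
  Lgr Lrot59 (Lpr_cf (f184521 IH) (Lpn (LP (LK LD1_c2 LD2_c36 LD3_c33))))
theorem f3778 : Led Lsl_ct (LP (LK LD1_c0 LD2_c33 LD3_c4)) = (LP (LK LD1_c1 LD2_c11 LD3_c21)) :=
  Lre_c IH (LK LD1_c0 LD2_c33 LD3_c4) (LK LD1_c1 LD2_c11 LD3_c21) Lrfl Lrfl
theorem f184611 : Led Lsl_gt (LP (LK LD1_c1 LD2_c11 LD3_c21)) = (LP (LK LD1_c1 LD2_c58 LD3_c18)) :=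
  Lgr Lrot150 (Lpe (f3778 IH) (Lpe (f3776 IH) (Lpe (K0.f3572 IH) (Lpr_gt (f21861 IH) (Lpr_ct (f165896 IH) (Lpr_gt (f165897 IH) (Lpr_ct (f184532 IH) (Lpe (K1.f45896 IH) (Lpe (K1.f45888 IH) (Lpn (LP (LK LD1_c1 LD2_c58 LD3_c18))))))))))))
theorem f45890 : Led Lsl_dt (LP (LK LD1_c1 LD2_c58 LD3_c18)) = (LP (LK LD1_c4 LD2_c2 LD3_c36)) :=
  Lre_d IH (LK LD1_c1 LD2_c58 LD3_c18) (LK LD1_c4 LD2_c2 LD3_c36) Lrfl Lrfl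
theorem f45847 : Led Lsl_ct (LP (LK LD1_c4 LD2_c2 LD3_c36)) = (LP (LK LD1_c8 LD2_c5 LD3_c46)) :=
  Lre_c IH (LK LD1_c4 LD2_c2 LD3_c36) (LK LD1_c8 LD2_c5 LD3_c46) Lrfl Lrfl
theorem f45858 : Led Lsl_ct (LP (LK LD1_c4 LD2_c2 LD3_c35)) = (LP (LK LD1_c1 LD2_c58 LD3_c17)) :=
  Lre_c IH (LK LD1_c4 LD2_c2 LD3_c35) (LK LD1_c1 LD2_c58 LD3_c17) Lrfl Lrfl
theorem f45865 : Led Lsl_dt (LP (LK LD1_c8 LD2_c5 LD3_c45)) = (LP (LK LD1_c4 LD2_c2 LD3_c35)) :=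
  Lre_d IH (LK LD1_c8 LD2_c5 LD3_c45) (LK LD1_c4 LD2_c2 LD3_c35) Lrfl Lrfl
theorem f45875 : Led Lsl_ct (LP (LK LD1_c15 LD2_c14 LD3_c38)) = (LP (LK LD1_c8 LD2_c5 LD3_c45)) :=
  Lre_c IH (LK LD1_c15 LD2_c14 LD3_c38) (LK LD1_c8 LD2_c5 LD3_c45) Lrfl Lrfl
theorem f46542 : Led Lsl_dt (LP (LK LD1_c8 LD2_c5 LD3_c46)) = (LP (LK LD1_c15 LD2_c14 LD3_c38)) :=
  Lgr Lrot140 (Lpe (f45847 IH) (Lpe (f45890 IH) (Lpr_cf (K1.f45881 IH) (Lpe (K1.f45891 IH) (Lpr_ft (K1.f45892 IH) (Lpr_at (K1.f46528 IH) (Lpe (f45858 IH) (Lpe (f45865 IH) (Lpe (f45875 IH) (Lpn (LP (LK LD1_c15 LD2_c14 LD3_c38))))))))))))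
theorem f46544 : Led Lsl_df (LP (LK LD1_c8 LD2_c5 LD3_c46)) = (LP (LK LD1_c15 LD2_c14 LD3_c38)) :=
  Lgr Lrot38 (Lpr_dt (f46542 IH) (Lpn (LP (LK LD1_c15 LD2_c14 LD3_c38))))
theorem f45893 : Led Lsl_ct (LP (LK LD1_c8 LD2_c5 LD3_c46)) = (LP (LK LD1_c4 LD2_c2 LD3_c36)) :=
  Lre_c IH (LK LD1_c8 LD2_c5 LD3_c46) (LK LD1_c4 LD2_c2 LD3_c36) Lrfl Lrfl
theorem f45902 : Led Lsl_ct (LP (LK LD1_c8 LD2_c5 LD3_c45)) = (LP (LK LD1_c15 LD2_c14 LD3_c38)) :=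
  Lre_c IH (LK LD1_c8 LD2_c5 LD3_c45) (LK LD1_c15 LD2_c14 LD3_c38) Lrfl Lrfl
theorem f45866 : Led Lsl_ct (LP (LK LD1_c1 LD2_c58 LD3_c17)) = (LP (LK LD1_c4 LD2_c2 LD3_c35)) :=
  Lre_c IH (LK LD1_c1 LD2_c58 LD3_c17) (LK LD1_c4 LD2_c2 LD3_c35) Lrfl Lrfl
theorem f45869 : Led Lsl_ft (LP (LK LD1_c0 LD2_c56 LD3_c0)) = (LP (LK LD1_c1 LD2_c58 LD3_c18)) :=
  Lre_f IH (LK LD1_c0 LD2_c56 LD3_c0) (LK LD1_c1 LD2_c58 LD3_c18) Lrfl Lrfl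
theorem f46558 : Led Lsl_af (LP (LK LD1_c1 LD2_c15 LD3_c16)) = (LP (LK LD1_c1 LD2_c58 LD3_c18)) :=
  Lgr Lrot109 (Lpe (K1.f45888 IH) (Lpe (K1.f45849 IH) (Lpe (f45893 IH) (Lpr_df (f46544 IH) (Lpe (f45902 IH) (Lpe (K1.f45901 IH) (Lpe (f45866 IH) (Lpe (K1.f44040 IH) (Lpr_ft (f45869 IH) (Lpn (LP (LK LD1_c1 LD2_c58 LD3_c18))))))))))))
theorem f46560 : Led Lsl_at (LP (LK LD1_c1 LD2_c15 LD3_c16)) = (LP (LK LD1_c1 LD2_c58 LD3_c18)) :=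
  Lgr Lrot100 (Lpr_af (f46558 IH) (Lpn (LP (LK LD1_c1 LD2_c58 LD3_c18))))
theorem f184614 : Led Lsl_gf (LP (LK LD1_c1 LD2_c11 LD3_c21)) = (LP (LK LD1_c0 LD2_c34 LD3_c55)) :=
  Lgr Lrot47 (Lpr_gt (f184611 IH) (Lpe (f46560 IH) (Lpe (K1.f45880 IH) (Lpn (LP (LK LD1_c0 LD2_c34 LD3_c55))))))
theorem f184122 : Led Lsl_bt (LP (LK LD1_c0 LD2_c33 LD3_c4)) = (LP (LK LD1_c1 LD2_c11 LD3_c20)) :=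
  Lre_b IH (LK LD1_c0 LD2_c33 LD3_c4) (LK LD1_c1 LD2_c11 LD3_c20) Lrfl Lrfl
theorem f32855 : Led Lsl_ct (LP (LK LD1_c2 LD2_c35 LD3_c48)) = (LP (LK LD1_c1 LD2_c14 LD3_c56)) :=
  Lre_c IH (LK LD1_c2 LD2_c35 LD3_c48) (LK LD1_c1 LD2_c14 LD3_c56) Lrfl Lrfl
theorem f32106 : Led Lsl_dt (LP (LK LD1_c1 LD2_c14 LD3_c56)) = (LP (LK LD1_c0 LD2_c34 LD3_c45)) :=
  Lre_d IH (LK LD1_c1 LD2_c14 LD3_c56) (LK LD1_c0 LD2_c34 LD3_c45) Lrfl Lrfl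
theorem f32108 : Led Lsl_ct (LP (LK LD1_c1 LD2_c14 LD3_c47)) = (LP (LK LD1_c0 LD2_c34 LD3_c45)) :=
  Lre_c IH (LK LD1_c1 LD2_c14 LD3_c47) (LK LD1_c0 LD2_c34 LD3_c45) Lrfl Lrfl
theorem f184110 : Led Lsl_gf (LP (LK LD1_c1 LD2_c11 LD3_c20)) = (LP (LK LD1_c0 LD2_c57 LD3_c43)) :=
  Lgr Lrot147 (Lpr_ct (f3747 IH) (Lpe (f165857 IH) (Lpr_ct (f32108 IH) (Lpe (f32106 IH) (Lpe (f32855 IH) (Lpr_gf (f165894 IH) (Lpe (f165377 IH) (Lpr_gf (f184106 IH) (Lpe (K8.f47826 IH) (Lpn (LP (LK LD1_c0 LD2_c57 LD3_c43))))))))))))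
theorem f51333 : Led Lsl_ft (LP (LK LD1_c0 LD2_c57 LD3_c43)) = (LP (LK LD1_c2 LD2_c1 LD3_c20)) :=
  Lre_f IH (LK LD1_c0 LD2_c57 LD3_c43) (LK LD1_c2 LD2_c1 LD3_c20) Lrfl Lrfl
theorem f49814 : Led Lsl_af (LP (LK LD1_c2 LD2_c1 LD3_c9)) = (LP (LK LD1_c2 LD2_c1 LD3_c20)) :=
  Lgr Lrot117 (Lpr_dt (f49813 IH) (Lpr_at (f49809 IH) (Lpr_dt (f49791 IH) (Lpn (LP (LK LD1_c2 LD2_c1 LD3_c20))))))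
theorem f184117 : Led Lsl_gt (LP (LK LD1_c1 LD2_c11 LD3_c20)) = (LP (LK LD1_c2 LD2_c1 LD3_c9)) :=
  Lgr Lrot46 (Lpr_gf (f184110 IH) (Lpr_ft (f51333 IH) (Lpe (f49814 IH) (Lpn (LP (LK LD1_c2 LD2_c1 LD3_c9))))))
theorem f49602 : Led Lsl_gt (LP (LK LD1_c0 LD2_c57 LD3_c41)) = (LP (LK LD1_c0 LD2_c57 LD3_c44)) :=
  Lgr Lrot5 (Lpr_ft (f49582 IH) (Lpr_at (f49583 IH) (Lpe (f47744 IH) (Lpn (LP (LK LD1_c0 LD2_c57 LD3_c44))))))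
theorem f49102 : Led Lsl_bt (LP (LK LD1_c0 LD2_c34 LD3_c43)) = (LP (LK LD1_c1 LD2_c14 LD3_c50)) :=
  Lre_b IH (LK LD1_c0 LD2_c34 LD3_c43) (LK LD1_c1 LD2_c14 LD3_c50) Lrfl Lrfl
theorem f28153 : Led Lsl_et (LP (LK LD1_c0 LD2_c25 LD3_c25)) = (LP (LK LD1_c0 LD2_c56 LD3_c0)) :=
  Lre_e IH (LK LD1_c0 LD2_c25 LD3_c25) (LK LD1_c0 LD2_c56 LD3_c0) Lrfl Lrfl
theorem f44025 : Led Lsl_bt (LP (LK LD1_c0 LD2_c56 LD3_c0)) = (LP (LK LD1_c0 LD2_c34 LD3_c51)) :=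
  Lgr Lrot119 (Lpe (f28153 IH) (Lpr_bf (K1.f43917 IH) (Lpe (K1.f43961 IH) (Lpn (LP (LK LD1_c0 LD2_c34 LD3_c51))))))
theorem f184763 : Led Lsl_gt (LP (LK LD1_c1 LD2_c14 LD3_c50)) = (LP (LK LD1_c0 LD2_c34 LD3_c51)) :=
  Lgr Lrot164 (Lpe (f49102 IH) (Lpe (f49103 IH) (Lpe (f49602 IH) (Lpe (K8.f49561 IH) (Lpe (f184117 IH) (Lpe (f184122 IH) (Lpr_ct (f3778 IH) (Lpr_gf (f184614 IH) (Lpe (K1.f45867 IH) (Lpr_bt (f44025 IH) (Lpn (LP (LK LD1_c0 LD2_c34 LD3_c51)))))))))))))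
theorem f46109 : Led Lsl_at (LP (LK LD1_c0 LD2_c34 LD3_c50)) = (LP (LK LD1_c0 LD2_c34 LD3_c51)) :=
  Lgr Lrot80 (Lpe (K1.f28305 IH) (Lpr_af (K1.f46099 IH) (Lpe (K1.f43961 IH) (Lpn (LP (LK LD1_c0 LD2_c34 LD3_c51))))))
theorem f184826 : Led Lsl_gf (LP (LK LD1_c1 LD2_c14 LD3_c50)) = (LP (LK LD1_c1 LD2_c15 LD3_c6)) :=
  Lgr Lrot47 (Lpr_gt (f184763 IH) (Lpe (f46109 IH) (Lpe (K1.f28296 IH) (Lpn (LP (LK LD1_c1 LD2_c15 LD3_c6))))))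
theorem f30959 : Led Lsl_ct (LP (LK LD1_c4 LD2_c21 LD3_c1)) = (LP (LK LD1_c8 LD2_c39 LD3_c47)) :=
  Lre_c IH (LK LD1_c4 LD2_c21 LD3_c1) (LK LD1_c8 LD2_c39 LD3_c47) Lrfl Lrfl
theorem f50620 : Led Lsl_dt (LP (LK LD1_c8 LD2_c39 LD3_c47)) = (LP (LK LD1_c16 LD2_c13 LD3_c30)) :=
  Lre_d IH (LK LD1_c8 LD2_c39 LD3_c47) (LK LD1_c16 LD2_c13 LD3_c30) Lrfl Lrfl
theorem f43396 : Led Lsl_et (LP (LK LD1_c0 LD2_c32 LD3_c14)) = (LP (LK LD1_c1 LD2_c9 LD3_c40)) :=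
  Lre_e IH (LK LD1_c0 LD2_c32 LD3_c14) (LK LD1_c1 LD2_c9 LD3_c40) Lrfl Lrfl
theorem f47520 : Led Lsl_cf (LP (LK LD1_c0 LD2_c57 LD3_c42)) = (LP (LK LD1_c1 LD2_c9 LD3_c40)) :=
  Lgr Lrot39 (Lpr_et (f47519 IH) (Lpr_ct (K1.f47508 IH) (Lpr_et (f43396 IH) (Lpn (LP (LK LD1_c1 LD2_c9 LD3_c40))))))
theorem f44396 : Led Lsl_dt (LP (LK LD1_c9 LD2_c39 LD3_c27)) = (LP (LK LD1_c4 LD2_c53 LD3_c60)) :=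
  Lre_d IH (LK LD1_c9 LD2_c39 LD3_c27) (LK LD1_c4 LD2_c53 LD3_c60) Lrfl Lrfl
theorem f50630 : Led Lsl_ct (LP (LK LD1_c16 LD2_c13 LD3_c30)) = (LP (LK LD1_c9 LD2_c39 LD3_c27)) :=
  Lgr Lrot41 (Lpe (f50620 IH) (Lpe (f30959 IH) (Lpe (f30850 IH) (Lpr_ft (f30845 IH) (Lpr_at (f50625 IH) (Lpr_cf (f47520 IH) (Lpe (K1.f44442 IH) (Lpe (f44399 IH) (Lpe (f44396 IH) (Lpn (LP (LK LD1_c9 LD2_c39 LD3_c27))))))))))))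
theorem f50632 : Led Lsl_cf (LP (LK LD1_c16 LD2_c13 LD3_c30)) = (LP (LK LD1_c9 LD2_c39 LD3_c27)) :=
  Lgr Lrot11 (Lpr_ct (f50630 IH) (Lpn (LP (LK LD1_c9 LD2_c39 LD3_c27))))
theorem f30984 : Led Lsl_dt (LP (LK LD1_c16 LD2_c13 LD3_c30)) = (LP (LK LD1_c8 LD2_c39 LD3_c47)) :=
  Lre_d IH (LK LD1_c16 LD2_c13 LD3_c30) (LK LD1_c8 LD2_c39 LD3_c47) Lrfl Lrfl
theorem f44398 : Led Lsl_dt (LP (LK LD1_c4 LD2_c53 LD3_c60)) = (LP (LK LD1_c9 LD2_c39 LD3_c27)) :=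
  Lre_d IH (LK LD1_c4 LD2_c53 LD3_c60) (LK LD1_c9 LD2_c39 LD3_c27) Lrfl Lrfl
theorem f44463 : Led Lsl_dt (LP (LK LD1_c1 LD2_c9 LD3_c40)) = (LP (LK LD1_c2 LD2_c24 LD3_c53)) :=
  Lre_d IH (LK LD1_c1 LD2_c9 LD3_c40) (LK LD1_c2 LD2_c24 LD3_c53) Lrfl Lrfl
theorem f50749 : Led Lsl_ct (LP (LK LD1_c0 LD2_c57 LD3_c42)) = (LP (LK LD1_c1 LD2_c9 LD3_c40)) :=
  Lgr Lrot133 (Lpe (f49216 IH) (Lpr_ft (f49233 IH) (Lpe (f50612 IH) (Lpe (f30972 IH) (Lpe (f30984 IH) (Lpr_cf (f50632 IH) (Lpe (f44398 IH) (Lpe (f44395 IH) (Lpe (f44463 IH) (Lpn (LP (LK LD1_c1 LD2_c9 LD3_c40))))))))))))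
theorem f50107 : Led Lsl_ft (LP (LK LD1_c2 LD2_c1 LD3_c17)) = (LP (LK LD1_c0 LD2_c57 LD3_c42)) :=
  Lre_f IH (LK LD1_c2 LD2_c1 LD3_c17) (LK LD1_c0 LD2_c57 LD3_c42) Lrfl Lrfl
theorem f43395 : Led Lsl_ft (LP (LK LD1_c1 LD2_c9 LD3_c40)) = (LP (LK LD1_c2 LD2_c24 LD3_c54)) :=
  Lre_f IH (LK LD1_c1 LD2_c9 LD3_c40) (LK LD1_c2 LD2_c24 LD3_c54) Lrfl Lrfl
theorem f50751 : Led Lsl_cf (LP (LK LD1_c2 LD2_c1 LD3_c17)) = (LP (LK LD1_c2 LD2_c24 LD3_c54)) :=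
  Lgr Lrot108 (Lpr_ft (f50107 IH) (Lpr_ct (f50749 IH) (Lpr_ft (f43395 IH) (Lpn (LP (LK LD1_c2 LD2_c24 LD3_c54))))))
theorem f50757 : Led Lsl_ct (LP (LK LD1_c2 LD2_c1 LD3_c17)) = (LP (LK LD1_c2 LD2_c24 LD3_c54)) :=
  Lgr Lrot59 (Lpr_cf (f50751 IH) (Lpn (LP (LK LD1_c2 LD2_c24 LD3_c54))))
theorem f49823 : Led Lsl_bt (LP (LK LD1_c0 LD2_c57 LD3_c46)) = (LP (LK LD1_c2 LD2_c1 LD3_c17)) :=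
  Lre_b IH (LK LD1_c0 LD2_c57 LD3_c46) (LK LD1_c2 LD2_c1 LD3_c17) Lrfl Lrfl
theorem f43347 : Led Lsl_bt (LP (LK LD1_c2 LD2_c24 LD3_c54)) = (LP (LK LD1_c1 LD2_c9 LD3_c44)) :=
  Lre_b IH (LK LD1_c2 LD2_c24 LD3_c54) (LK LD1_c1 LD2_c9 LD3_c44) Lrfl Lrfl
theorem f50759 : Led Lsl_bf (LP (LK LD1_c2 LD2_c1 LD3_c20)) = (LP (LK LD1_c2 LD2_c24 LD3_c57)) :=
  Lgr Lrot90 (Lpr_ct (f49612 IH) (Lpr_bt (f49823 IH) (Lpr_ct (f50757 IH) (Lpr_bt (f43347 IH) (Lpr_ct (f43350 IH) (Lpn (LP (LK LD1_c2 LD2_c24 LD3_c57))))))))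
theorem f50761 : Led Lsl_ft (LP (LK LD1_c2 LD2_c1 LD3_c20)) = (LP (LK LD1_c0 LD2_c57 LD3_c43)) :=
  Lre_f IH (LK LD1_c2 LD2_c1 LD3_c20) (LK LD1_c0 LD2_c57 LD3_c43) Lrfl Lrfl
theorem f43391 : Led Lsl_ft (LP (LK LD1_c1 LD2_c9 LD3_c41)) = (LP (LK LD1_c2 LD2_c24 LD3_c57)) :=
  Lre_f IH (LK LD1_c1 LD2_c9 LD3_c41) (LK LD1_c2 LD2_c24 LD3_c57) Lrfl Lrfl
theorem f50762 : Led Lsl_bt (LP (LK LD1_c0 LD2_c57 LD3_c43)) = (LP (LK LD1_c1 LD2_c9 LD3_c41)) :=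
  Lgr Lrot35 (Lpe (f50761 IH) (Lpr_bf (f50759 IH) (Lpe (f43391 IH) (Lpn (LP (LK LD1_c1 LD2_c9 LD3_c41))))))
theorem f43820 : Led Lsl_gt (LP (LK LD1_c1 LD2_c9 LD3_c41)) = (LP (LK LD1_c2 LD2_c24 LD3_c55)) :=
  Lre_g IH (LK LD1_c1 LD2_c9 LD3_c41) (LK LD1_c2 LD2_c24 LD3_c55) Lrfl Lrfl
theorem f28281 : Led Lsl_bt (LP (LK LD1_c0 LD2_c34 LD3_c54)) = (LP (LK LD1_c1 LD2_c15 LD3_c6)) :=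
  Lre_b IH (LK LD1_c0 LD2_c34 LD3_c54) (LK LD1_c1 LD2_c15 LD3_c6) Lrfl Lrfl
theorem f28264 : Led Lsl_gt (LP (LK LD1_c0 LD2_c34 LD3_c50)) = (LP (LK LD1_c1 LD2_c15 LD3_c3)) :=
  Lre_g IH (LK LD1_c0 LD2_c34 LD3_c50) (LK LD1_c1 LD2_c15 LD3_c3) Lrfl Lrfl
theorem f46363 : Led Lsl_gt (LP (LK LD1_c1 LD2_c15 LD3_c3)) = (LP (LK LD1_c1 LD2_c15 LD3_c9)) :=
  Lgr Lrot46 (Lpe (f28264 IH) (Lpr_ft (K1.f28259 IH) (Lpr_at (K1.f46351 IH) (Lpn (LP (LK LD1_c1 LD2_c15 LD3_c9))))))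
theorem f184838 : Led Lsl_ct (LP (LK LD1_c2 LD2_c24 LD3_c55)) = (LP (LK LD1_c1 LD2_c15 LD3_c3)) :=
  Lgr Lrot91 (Lpe (f43820 IH) (Lpe (f50762 IH) (Lpr_ct (f49118 IH) (Lpe (f47744 IH) (Lpr_cf (f49103 IH) (Lpr_bt (f49102 IH) (Lpr_gf (f184826 IH) (Lpe (f28281 IH) (Lpr_ct (K1.f28293 IH) (Lpe (f46363 IH) (Lpn (LP (LK LD1_c1 LD2_c15 LD3_c3)))))))))))))
theorem f28282 : Led Lsl_ct (LP (LK LD1_c1 LD2_c15 LD3_c9)) = (LP (LK LD1_c0 LD2_c34 LD3_c54)) :=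
  Lre_c IH (LK LD1_c1 LD2_c15 LD3_c9) (LK LD1_c0 LD2_c34 LD3_c54) Lrfl Lrfl
theorem f45900 : Led Lsl_dt (LP (LK LD1_c1 LD2_c15 LD3_c14)) = (LP (LK LD1_c0 LD2_c34 LD3_c54)) :=
  Lre_d IH (LK LD1_c1 LD2_c15 LD3_c14) (LK LD1_c0 LD2_c34 LD3_c54) Lrfl Lrfl
theorem f46278 : Led Lsl_ct (LP (LK LD1_c2 LD2_c36 LD3_c28)) = (LP (LK LD1_c1 LD2_c15 LD3_c14)) :=
  Lre_c IH (LK LD1_c2 LD2_c36 LD3_c28) (LK LD1_c1 LD2_c15 LD3_c14) Lrfl Lrfl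
theorem f44904 : Led Lsl_gt (LP (LK LD1_c1 LD2_c15 LD3_c20)) = (LP (LK LD1_c2 LD2_c36 LD3_c41)) :=
  Lre_g IH (LK LD1_c1 LD2_c15 LD3_c20) (LK LD1_c2 LD2_c36 LD3_c41) Lrfl Lrfl
theorem f46291 : Led Lsl_gt (LP (LK LD1_c2 LD2_c36 LD3_c41)) = (LP (LK LD1_c2 LD2_c36 LD3_c28)) :=
  Lgr Lrot46 (Lpe (f44904 IH) (Lpr_ft (K1.f44901 IH) (Lpr_at (K1.f46272 IH) (Lpn (LP (LK LD1_c2 LD2_c36 LD3_c28))))))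
theorem f184848 : Led Lsl_ct (LP (LK LD1_c4 LD2_c54 LD3_c2)) = (LP (LK LD1_c2 LD2_c36 LD3_c41)) :=
  Lgr Lrot152 (Lpe (f43810 IH) (Lpe (f43548 IH) (Lpr_gt (f43820 IH) (Lpr_ct (f184838 IH) (Lpr_gt (f46363 IH) (Lpr_ct (f28282 IH) (Lpe (f45900 IH) (Lpe (f46278 IH) (Lpe (f46291 IH) (Lpn (LP (LK LD1_c2 LD2_c36 LD3_c41))))))))))))
theorem f48256 : Led Lsl_bt (LP (LK LD1_c1 LD2_c14 LD3_c54)) = (LP (LK LD1_c2 LD2_c35 LD3_c41)) :=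
  Lre_b IH (LK LD1_c1 LD2_c14 LD3_c54) (LK LD1_c2 LD2_c35 LD3_c41) Lrfl Lrfl
theorem f46277 : Led Lsl_ct (LP (LK LD1_c1 LD2_c15 LD3_c14)) = (LP (LK LD1_c2 LD2_c36 LD3_c28)) :=
  Lre_c IH (LK LD1_c1 LD2_c15 LD3_c14) (LK LD1_c2 LD2_c36 LD3_c28) Lrfl Lrfl
theorem f46279 : Led Lsl_bt (LP (LK LD1_c1 LD2_c15 LD3_c14)) = (LP (LK LD1_c2 LD2_c36 LD3_c13)) :=
  Lre_b IH (LK LD1_c1 LD2_c15 LD3_c14) (LK LD1_c2 LD2_c36 LD3_c13) Lrfl Lrfl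
theorem f184860 : Led Lsl_gf (LP (LK LD1_c2 LD2_c35 LD3_c41)) = (LP (LK LD1_c2 LD2_c36 LD3_c13)) :=
  Lgr Lrot124 (Lpe (f48256 IH) (Lpr_ct (f32559 IH) (Lpe (f49115 IH) (Lpe (f49124 IH) (Lpe (f49835 IH) (Lpr_gt (f43810 IH) (Lpr_ct (f184848 IH) (Lpr_gt (f46291 IH) (Lpe (f46277 IH) (Lpr_bt (f46279 IH) (Lpn (LP (LK LD1_c2 LD2_c36 LD3_c13)))))))))))))

end

end K9

end

end Cfsg.Agent.Helper28.S1692
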