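import Cfsg.Agent.Lib.Helper28.S1692.LevelsA

set_option autoImplicit false
set_option maxRecDepth 100000
set_option linter.all false

namespace Cfsg.Agent.Helper28.S1692

open Cfsg.Agent.Helper28
open Cfsg.Spor.ON (Gen)

noncomputable section

abbrev sl_gt : Gen × Bool := (Gen.g, true)
abbrev sl_gf : Gen × Bool := (Gen.g, false)
abbrev sl_at : Gen × Bool := (Gen.a, true)
abbrev sl_af : Gen × Bool := (Gen.a, false)
abbrev sl_bt : Gen × Bool := (Gen.b, true)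
abbrev sl_bf : Gen × Bool := (Gen.b, false)
abbrev sl_ct : Gen × Bool := (Gen.c, true)
abbrev sl_cf : Gen × Bool := (Gen.c, false)
abbrev sl_dt : Gen × Bool := (Gen.d, true)
abbrev sl_df : Gen × Bool := (Gen.d, false)
abbrev sl_et : Gen × Bool := (Gen.e, true)
abbrev sl_ef : Gen × Bool := (Gen.e, false)
abbrev sl_ft : Gen × Bool := (Gen.f, true)
abbrev sl_ff : Gen × Bool := (Gen.f, false)
theorem relone_inv (rels : Set (FreeGroup Gen)) (w : Word Gen) (h : wG rels w = 1) :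
    wG rels (FreeGroup.invRev w) = 1 := by
  rw [wG_invRev, h, inv_one]

abbrev IHT : Prop := ∀ y q, lvl y q < 15 → EntryOK rels S fwd inv o plet idx y q
abbrev SQ (e : Gen × Pt) : Prop := IHT → EntryOK rels S fwd inv o plet idx e.1 e.2

def ed (l : Gen × Bool) (c : Qt rels S) : Qt rels S := edge rels S l c
def pw (w : Word Gen) (c : Qt rels S) : Qt rels S := wG rels w • c

theorem pn (c : Qt rels S) : pw [] c = c := path_nil c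
theorem pe {l : Gen × Bool} {w : Word Gen} {cs ca cb : Qt rels S} (h : ed l ca = cb) (hp : pw w cs = ca) :
    pw (l :: w) cs = cb := path_edge h hp
theorem pq {w : Word Gen} {cs ca cb : Qt rels S} (h : ca = cb) (hp : pw w cs = ca) : pw w cs = cb := path_eq h hp
theorem pqs {w : Word Gen} {cs ca cb : Qt rels S} (h : cb = ca) (hp : pw w cs = ca) : pw w cs = cb := path_eq h.symm hp
theorem gr {l : Gen × Bool} {B : Word Gen} {cs ca : Qt rels S} (hw : wG rels (l :: B) = 1) (hB : pw B cs = ca) :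
    ed l ca = cs := gap_rel hw hB
theorem lr {W : Word Gen} {cs ca : Qt rels S} (hw : wG rels W = 1) (hp : pw W cs = ca) : cs = ca := loop_rel hw hp
theorem eop {l : Gen × Bool} {cs cb : Qt rels S} (hp : pw [l] cs = cb) : ed l cs = cb := edge_of_path hp
theorem efun {l : Gen × Bool} {ca cb cb' : Qt rels S} (h1 : ed l ca = cb) (h2 : ed l ca = cb') : cb = cb' := edge_fun h1 h2
theorem econ {l : Gen × Bool} {ca ca' cb : Qt rels S} (h : ed l ca = cb) (he : ca = ca') : ed l ca' = cb := edge_congr h he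
theorem gsub {A : Word Gen} {l : Gen × Bool} {B : Word Gen} {ca cb : Qt rels S}
    (hw : wG rels (A ++ l :: B) ∈ subH rels S) (hB : pw B (c0 rels S) = ca)
    (hA : pw (FreeGroup.invRev A) (c0 rels S) = cb) : ed l ca = cb := gap_sub hw hB hA
theorem lsub {A B : Word Gen} {ca cb : Qt rels S}
    (hw : wG rels (A ++ B) ∈ subH rels S) (hB : pw B (c0 rels S) = ca)
    (hA : pw (FreeGroup.invRev A) (c0 rels S) = cb) : ca = cb := loop_sub hw hB hA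
theorem p0 : pw [] (c0 rels S) = P (Pt.mk D1.c0 D2.c0 D3.c0) :=
  path_eq (psiW_o_c0 rels S fwd inv o plet idx).symm (path_nil (c0 rels S))
theorem fl_gt {p q : Qt rels S} (h : ed sl_gt p = q) : ed sl_gf q = p := edge_flip h
theorem pr_gt {w : Word Gen} {cs ca cb : Qt rels S} (h : ed sl_gt cb = ca) (hp : pw w cs = ca) :
    pw (sl_gf :: w) cs = cb := path_edge (edge_flip h) hp
theorem fl_gf {p q : Qt rels S} (h : ed sl_gf p = q) : ed sl_gt q = p := edge_flip h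
theorem pr_gf {w : Word Gen} {cs ca cb : Qt rels S} (h : ed sl_gf cb = ca) (hp : pw w cs = ca) :
    pw (sl_gt :: w) cs = cb := path_edge (edge_flip h) hp
theorem re_g (IH : IHT) (p q : Pt) (hq : f_g p = q) (h : Nat.blt (lv_g p) 15 = true) :
    ed sl_gt (P p) = P q :=
  real_edge rels S fwd inv o lvl plet idx 15 IH Gen.g p q hq h
theorem eoe_g (p : Pt) (h : ed sl_gt (P p) = P (f_g p)) : EntryOK rels S fwd inv o plet idx Gen.g p :=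
  entryOK_of_edge rels S fwd inv o plet idx Gen.g p h
theorem fl_at {p q : Qt rels S} (h : ed sl_at p = q) : ed sl_af q = p := edge_flip h
theorem pr_at {w : Word Gen} {cs ca cb : Qt rels S} (h : ed sl_at cb = ca) (hp : pw w cs = ca) :
    pw (sl_af :: w) cs = cb := path_edge (edge_flip h) hp
theorem fl_af {p q : Qt rels S} (h : ed sl_af p = q) : ed sl_at q = p := edge_flip h
theorem pr_af {w : Word Gen} {cs ca cb : Qt rels S} (h : ed sl_af cb = ca) (hp : pw w cs = ca) :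
    pw (sl_at :: w) cs = cb := path_edge (edge_flip h) hp
theorem re_a (IH : IHT) (p q : Pt) (hq : f_a p = q) (h : Nat.blt (lv_a p) 15 = true) :
    ed sl_at (P p) = P q :=
  real_edge rels S fwd inv o lvl plet idx 15 IH Gen.a p q hq h
theorem eoe_a (p : Pt) (h : ed sl_at (P p) = P (f_a p)) : EntryOK rels S fwd inv o plet idx Gen.a p :=
  entryOK_of_edge rels S fwd inv o plet idx Gen.a p h
theorem fl_bt {p q : Qt rels S} (h : ed sl_bt p = q) : ed sl_bf q = p := edge_flip h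
theorem pr_bt {w : Word Gen} {cs ca cb : Qt rels S} (h : ed sl_bt cb = ca) (hp : pw w cs = ca) :
    pw (sl_bf :: w) cs = cb := path_edge (edge_flip h) hp
theorem fl_bf {p q : Qt rels S} (h : ed sl_bf p = q) : ed sl_bt q = p := edge_flip h
theorem pr_bf {w : Word Gen} {cs ca cb : Qt rels S} (h : ed sl_bf cb = ca) (hp : pw w cs = ca) :
    pw (sl_bt :: w) cs = cb := path_edge (edge_flip h) hp
theorem re_b (IH : IHT) (p q : Pt) (hq : f_b p = q) (h : Nat.blt (lv_b p) 15 = true) :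
    ed sl_bt (P p) = P q :=
  real_edge rels S fwd inv o lvl plet idx 15 IH Gen.b p q hq h
theorem eoe_b (p : Pt) (h : ed sl_bt (P p) = P (f_b p)) : EntryOK rels S fwd inv o plet idx Gen.b p :=
  entryOK_of_edge rels S fwd inv o plet idx Gen.b p h
theorem fl_ct {p q : Qt rels S} (h : ed sl_ct p = q) : ed sl_cf q = p := edge_flip h
theorem pr_ct {w : Word Gen} {cs ca cb : Qt rels S} (h : ed sl_ct cb = ca) (hp : pw w cs = ca) :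
    pw (sl_cf :: w) cs = cb := path_edge (edge_flip h) hp
theorem fl_cf {p q : Qt rels S} (h : ed sl_cf p = q) : ed sl_ct q = p := edge_flip h
theorem pr_cf {w : Word Gen} {cs ca cb : Qt rels S} (h : ed sl_cf cb = ca) (hp : pw w cs = ca) :
    pw (sl_ct :: w) cs = cb := path_edge (edge_flip h) hp
theorem re_c (IH : IHT) (p q : Pt) (hq : f_c p = q) (h : Nat.blt (lv_c p) 15 = true) :
    ed sl_ct (P p) = P q :=
  real_edge rels S fwd inv o lvl plet idx 15 IH Gen.c p q hq h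
theorem eoe_c (p : Pt) (h : ed sl_ct (P p) = P (f_c p)) : EntryOK rels S fwd inv o plet idx Gen.c p :=
  entryOK_of_edge rels S fwd inv o plet idx Gen.c p h
theorem fl_dt {p q : Qt rels S} (h : ed sl_dt p = q) : ed sl_df q = p := edge_flip h
theorem pr_dt {w : Word Gen} {cs ca cb : Qt rels S} (h : ed sl_dt cb = ca) (hp : pw w cs = ca) :
    pw (sl_df :: w) cs = cb := path_edge (edge_flip h) hp
theorem fl_df {p q : Qt rels S} (h : ed sl_df p = q) : ed sl_dt q = p := edge_flip h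
theorem pr_df {w : Word Gen} {cs ca cb : Qt rels S} (h : ed sl_df cb = ca) (hp : pw w cs = ca) :
    pw (sl_dt :: w) cs = cb := path_edge (edge_flip h) hp
theorem re_d (IH : IHT) (p q : Pt) (hq : f_d p = q) (h : Nat.blt (lv_d p) 15 = true) :
    ed sl_dt (P p) = P q :=
  real_edge rels S fwd inv o lvl plet idx 15 IH Gen.d p q hq h
theorem eoe_d (p : Pt) (h : ed sl_dt (P p) = P (f_d p)) : EntryOK rels S fwd inv o plet idx Gen.d p :=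
  entryOK_of_edge rels S fwd inv o plet idx Gen.d p h
theorem fl_et {p q : Qt rels S} (h : ed sl_et p = q) : ed sl_ef q = p := edge_flip h
theorem pr_et {w : Word Gen} {cs ca cb : Qt rels S} (h : ed sl_et cb = ca) (hp : pw w cs = ca) :
    pw (sl_ef :: w) cs = cb := path_edge (edge_flip h) hp
theorem fl_ef {p q : Qt rels S} (h : ed sl_ef p = q) : ed sl_et q = p := edge_flip h
theorem pr_ef {w : Word Gen} {cs ca cb : Qt rels S} (h : ed sl_ef cb = ca) (hp : pw w cs = ca) :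
    pw (sl_et :: w) cs = cb := path_edge (edge_flip h) hp
theorem re_e (IH : IHT) (p q : Pt) (hq : f_e p = q) (h : Nat.blt (lv_e p) 15 = true) :
    ed sl_et (P p) = P q :=
  real_edge rels S fwd inv o lvl plet idx 15 IH Gen.e p q hq h
theorem eoe_e (p : Pt) (h : ed sl_et (P p) = P (f_e p)) : EntryOK rels S fwd inv o plet idx Gen.e p :=
  entryOK_of_edge rels S fwd inv o plet idx Gen.e p h
theorem fl_ft {p q : Qt rels S} (h : ed sl_ft p = q) : ed sl_ff q = p := edge_flip h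
theorem pr_ft {w : Word Gen} {cs ca cb : Qt rels S} (h : ed sl_ft cb = ca) (hp : pw w cs = ca) :
    pw (sl_ff :: w) cs = cb := path_edge (edge_flip h) hp
theorem fl_ff {p q : Qt rels S} (h : ed sl_ff p = q) : ed sl_ft q = p := edge_flip h
theorem pr_ff {w : Word Gen} {cs ca cb : Qt rels S} (h : ed sl_ff cb = ca) (hp : pw w cs = ca) :
    pw (sl_ft :: w) cs = cb := path_edge (edge_flip h) hp
theorem re_f (IH : IHT) (p q : Pt) (hq : f_f p = q) (h : Nat.blt (lv_f p) 15 = true) :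
    ed sl_ft (P p) = P q :=
  real_edge rels S fwd inv o lvl plet idx 15 IH Gen.f p q hq h
theorem eoe_f (p : Pt) (h : ed sl_ft (P p) = P (f_f p)) : EntryOK rels S fwd inv o plet idx Gen.f p :=
  entryOK_of_edge rels S fwd inv o plet idx Gen.f p h
def relWi_0_s0 : Word Gen := [sl_af, sl_af]
theorem relone_inv_0_s0 : wG rels relWi_0_s0 = 1 :=
  relone_inv rels relW_0 relone_0
def relWi_1_s0 : Word Gen := [sl_bf, sl_af, sl_bf, sl_af, sl_bf, sl_af]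
theorem relone_inv_1_s0 : wG rels relWi_1_s0 = 1 :=
  relone_inv rels relW_1 relone_1
def relWi_2_s0 : Word Gen := [sl_cf, sl_af, sl_cf, sl_af]
theorem relone_inv_2_s0 : wG rels relWi_2_s0 = 1 :=
  relone_inv rels relW_2 relone_2
def relWi_3_s0 : Word Gen := [sl_df, sl_af, sl_df, sl_af]
theorem relone_inv_3_s0 : wG rels relWi_3_s0 = 1 :=
  relone_inv rels relW_3 relone_3
def relWi_4_s0 : Word Gen := [sl_ef, sl_af, sl_ef, sl_af]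
theorem relone_inv_4_s0 : wG rels relWi_4_s0 = 1 :=
  relone_inv rels relW_4 relone_4
def relWi_5_s0 : Word Gen := [sl_ff, sl_af, sl_ff, sl_af]
theorem relone_inv_5_s0 : wG rels relWi_5_s0 = 1 :=
  relone_inv rels relW_5 relone_5
def relWi_6_s0 : Word Gen := [sl_bf, sl_bf]
theorem relone_inv_6_s0 : wG rels relWi_6_s0 = 1 :=
  relone_inv rels relW_6 relone_6
def relWi_7_s0 : Word Gen := [sl_cf, sl_bf, sl_cf, sl_bf, sl_cf, sl_bf]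
theorem relone_inv_7_s0 : wG rels relWi_7_s0 = 1 :=
  relone_inv rels relW_7 relone_7
def relWi_8_s0 : Word Gen := [sl_df, sl_bf, sl_df, sl_bf]
theorem relone_inv_8_s0 : wG rels relWi_8_s0 = 1 :=
  relone_inv rels relW_8 relone_8
def relWi_9_s0 : Word Gen := [sl_ef, sl_bf, sl_ef, sl_bf]
theorem relone_inv_9_s0 : wG rels relWi_9_s0 = 1 :=
  relone_inv rels relW_9 relone_9
def relWi_10_s0 : Word Gen := [sl_ff, sl_bf, sl_ff, sl_bf]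
theorem relone_inv_10_s0 : wG rels relWi_10_s0 = 1 :=
  relone_inv rels relW_10 relone_10
def relWi_11_s0 : Word Gen := [sl_cf, sl_cf]
theorem relone_inv_11_s0 : wG rels relWi_11_s0 = 1 :=
  relone_inv rels relW_11 relone_11
def relWi_12_s0 : Word Gen := [sl_df, sl_cf, sl_df, sl_cf, sl_df, sl_cf, sl_df, sl_cf, sl_df, sl_cf, sl_df, sl_cf, sl_df, sl_cf, sl_df, sl_cf]
theorem relone_inv_12_s0 : wG rels relWi_12_s0 = 1 :=
  relone_inv rels relW_12 relone_12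
def relWi_13_s0 : Word Gen := [sl_ef, sl_cf, sl_ef, sl_cf]
theorem relone_inv_13_s0 : wG rels relWi_13_s0 = 1 :=
  relone_inv rels relW_13 relone_13
def relWi_14_s0 : Word Gen := [sl_ff, sl_cf, sl_ff, sl_cf]
theorem relone_inv_14_s0 : wG rels relWi_14_s0 = 1 :=
  relone_inv rels relW_14 relone_14
def relWi_15_s0 : Word Gen := [sl_df, sl_df]
theorem relone_inv_15_s0 : wG rels relWi_15_s0 = 1 :=
  relone_inv rels relW_15 relone_15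
def relWi_16_s0 : Word Gen := [sl_ef, sl_df, sl_ef, sl_df, sl_ef, sl_df]
theorem relone_inv_16_s0 : wG rels relWi_16_s0 = 1 :=
  relone_inv rels relW_16 relone_16
def relWi_17_s0 : Word Gen := [sl_ff, sl_df, sl_ff, sl_df]
theorem relone_inv_17_s0 : wG rels relWi_17_s0 = 1 :=
  relone_inv rels relW_17 relone_17
def relWi_18_s0 : Word Gen := [sl_ef, sl_ef]
theorem relone_inv_18_s0 : wG rels relWi_18_s0 = 1 :=
  relone_inv rels relW_18 relone_18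
def relWi_19_s0 : Word Gen := [sl_ff, sl_ef, sl_ff, sl_ef, sl_ff, sl_ef]
theorem relone_inv_19_s0 : wG rels relWi_19_s0 = 1 :=
  relone_inv rels relW_19 relone_19
def relWi_20_s0 : Word Gen := [sl_ff, sl_ff]
theorem relone_inv_20_s0 : wG rels relWi_20_s0 = 1 :=
  relone_inv rels relW_20 relone_20
def relWi_21_s0 : Word Gen := [sl_gt, sl_gt, sl_ff, sl_af]
theorem relone_inv_21_s0 : wG rels relWi_21_s0 = 1 :=
  relone_inv rels relW_21 relone_21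
def relWi_22_s0 : Word Gen := [sl_ct, sl_dt, sl_ct, sl_dt, sl_ct, sl_dt, sl_ct, sl_dt, sl_ff, sl_af]
theorem relone_inv_22_s0 : wG rels relWi_22_s0 = 1 :=
  relone_inv rels relW_22 relone_22
def relWi_23_s0 : Word Gen := [sl_gf, sl_df, sl_gf, sl_df, sl_cf, sl_dt, sl_gt, sl_dt, sl_gt, sl_cf]
theorem relone_inv_23_s0 : wG rels relWi_23_s0 = 1 :=
  relone_inv rels relW_23 relone_23
def relWi_24_s0 : Word Gen := [sl_gf, sl_cf, sl_gf, sl_cf, sl_df, sl_ct, sl_gt, sl_ct, sl_gt, sl_df]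
theorem relone_inv_24_s0 : wG rels relWi_24_s0 = 1 :=
  relone_inv rels relW_24 relone_24
def relWi_25_s0 : Word Gen := [sl_gf, sl_df, sl_cf, sl_bf, sl_gf, sl_df, sl_cf, sl_bf, sl_gf, sl_df, sl_cf, sl_bf, sl_gf, sl_df, sl_cf, sl_bf, sl_gf, sl_df, sl_cf, sl_bf]
theorem relone_inv_25_s0 : wG rels relWi_25_s0 = 1 :=
  relone_inv rels relW_25 relone_25
def relWi_26_s0 : Word Gen := [sl_cf, sl_gf, sl_ct, sl_bf, sl_gf, sl_bt, sl_cf, sl_gf, sl_ct, sl_bf, sl_gf]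
theorem relone_inv_26_s0 : wG rels relWi_26_s0 = 1 :=
  relone_inv rels relW_26 relone_26
def relWi_27_s0 : Word Gen := [sl_df, sl_gf, sl_dt, sl_ef, sl_gf, sl_et, sl_df, sl_gf, sl_dt, sl_ef, sl_gf]
theorem relone_inv_27_s0 : wG rels relWi_27_s0 = 1 :=
  relone_inv rels relW_27 relone_27
theorem rot0 : wG rels [sl_af, sl_af] = 1 :=
  wG_of_rotate rels relWi_0_s0 [sl_af, sl_af] 0 (by decide +kernel) relone_inv_0_s0
theorem rot1 : wG rels [sl_cf, sl_af, sl_cf, sl_af] = 1 :=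
  wG_of_rotate rels relWi_2_s0 [sl_cf, sl_af, sl_cf, sl_af] 0 (by decide +kernel) relone_inv_2_s0
theorem rot2 : wG rels [sl_ft, sl_gf, sl_gf, sl_at] = 1 :=
  wG_of_rotate rels relW_21 [sl_ft, sl_gf, sl_gf, sl_at] 1 (by decide +kernel) relone_21
theorem rot3 : wG rels [sl_ff, sl_ff] = 1 :=
  wG_of_rotate rels relWi_20_s0 [sl_ff, sl_ff] 0 (by decide +kernel) relone_inv_20_s0
theorem rot4 : wG rels [sl_ft, sl_ct, sl_ft, sl_ct] = 1 :=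
  wG_of_rotate rels relW_14 [sl_ft, sl_ct, sl_ft, sl_ct] 1 (by decide +kernel) relone_14
theorem rot5 : wG rels [sl_gt, sl_ff, sl_af, sl_gt] = 1 :=
  wG_of_rotate rels relWi_21_s0 [sl_gt, sl_ff, sl_af, sl_gt] 1 (by decide +kernel) relone_inv_21_s0
theorem rot6 : wG rels [sl_dt, sl_gf, sl_cf, sl_gf, sl_cf, sl_dt, sl_ct, sl_gt, sl_ct, sl_gt] = 1 :=
  wG_of_rotate rels relW_24 [sl_dt, sl_gf, sl_cf, sl_gf, sl_cf, sl_dt, sl_ct, sl_gt, sl_ct, sl_gt] 0 (by decide +kernel) relone_24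
theorem rot7 : wG rels [sl_ct, sl_dt, sl_gt, sl_dt, sl_gt, sl_ct, sl_gf, sl_df, sl_gf, sl_df] = 1 :=
  wG_of_rotate rels relW_23 [sl_ct, sl_dt, sl_gt, sl_dt, sl_gt, sl_ct, sl_gf, sl_df, sl_gf, sl_df] 5 (by decide +kernel) relone_23
theorem rot8 : wG rels [sl_ct, sl_gf, sl_df, sl_gf, sl_df, sl_ct, sl_dt, sl_gt, sl_dt, sl_gt] = 1 :=
  wG_of_rotate rels relW_23 [sl_ct, sl_gf, sl_df, sl_gf, sl_df, sl_ct, sl_dt, sl_gt, sl_dt, sl_gt] 0 (by decide +kernel) relone_23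
theorem rot9 : wG rels [sl_gt, sl_dt, sl_gf, sl_cf, sl_gf, sl_cf, sl_dt, sl_ct, sl_gt, sl_ct] = 1 :=
  wG_of_rotate rels relW_24 [sl_gt, sl_dt, sl_gf, sl_cf, sl_gf, sl_cf, sl_dt, sl_ct, sl_gt, sl_ct] 9 (by decide +kernel) relone_24
theorem rot10 : wG rels [sl_ct, sl_bf, sl_gf, sl_cf, sl_gf, sl_ct, sl_bf, sl_gf, sl_bt, sl_cf, sl_gf] = 1 :=
  wG_of_rotate rels relWi_26_s0 [sl_ct, sl_bf, sl_gf, sl_cf, sl_gf, sl_ct, sl_bf, sl_gf, sl_bt, sl_cf, sl_gf] 8 (by decide +kernel) relone_inv_26_s0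
theorem rot11 : wG rels [sl_cf, sl_cf] = 1 :=
  wG_of_rotate rels relWi_11_s0 [sl_cf, sl_cf] 0 (by decide +kernel) relone_inv_11_s0
theorem rot12 : wG rels [sl_df, sl_bf, sl_df, sl_bf] = 1 :=
  wG_of_rotate rels relWi_8_s0 [sl_df, sl_bf, sl_df, sl_bf] 0 (by decide +kernel) relone_inv_8_s0
theorem rot13 : wG rels [sl_df, sl_cf, sl_df, sl_cf, sl_at, sl_ft, sl_df, sl_cf, sl_df, sl_cf] = 1 :=
  wG_of_rotate rels relW_22 [sl_df, sl_cf, sl_df, sl_cf, sl_at, sl_ft, sl_df, sl_cf, sl_df, sl_cf] 6 (by decide +kernel) relone_22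
theorem rot14 : wG rels [sl_cf, sl_dt, sl_gt, sl_dt, sl_gt, sl_cf, sl_gf, sl_df, sl_gf, sl_df] = 1 :=
  wG_of_rotate rels relWi_23_s0 [sl_cf, sl_dt, sl_gt, sl_dt, sl_gt, sl_cf, sl_gf, sl_df, sl_gf, sl_df] 4 (by decide +kernel) relone_inv_23_s0
theorem rot15 : wG rels [sl_ct, sl_et, sl_ct, sl_et] = 1 :=
  wG_of_rotate rels relW_13 [sl_ct, sl_et, sl_ct, sl_et] 0 (by decide +kernel) relone_13
theorem rot16 : wG rels [sl_df, sl_gf, sl_df, sl_cf, sl_dt, sl_gt, sl_dt, sl_gt, sl_cf, sl_gf] = 1 :=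
  wG_of_rotate rels relWi_23_s0 [sl_df, sl_gf, sl_df, sl_cf, sl_dt, sl_gt, sl_dt, sl_gt, sl_cf, sl_gf] 1 (by decide +kernel) relone_inv_23_s0
theorem rot17 : wG rels [sl_ef, sl_gt, sl_et, sl_df, sl_gt, sl_dt, sl_gt, sl_et, sl_df, sl_gt, sl_dt] = 1 :=
  wG_of_rotate rels relW_27 [sl_ef, sl_gt, sl_et, sl_df, sl_gt, sl_dt, sl_gt, sl_et, sl_df, sl_gt, sl_dt] 5 (by decide +kernel) relone_27
theorem rot18 : wG rels [sl_df, sl_af, sl_df, sl_af] = 1 :=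
  wG_of_rotate rels relWi_3_s0 [sl_df, sl_af, sl_df, sl_af] 0 (by decide +kernel) relone_inv_3_s0
theorem rot19 : wG rels [sl_ff, sl_df, sl_ff, sl_df] = 1 :=
  wG_of_rotate rels relWi_17_s0 [sl_ff, sl_df, sl_ff, sl_df] 0 (by decide +kernel) relone_inv_17_s0
theorem rot20 : wG rels [sl_ef, sl_af, sl_ef, sl_af] = 1 :=
  wG_of_rotate rels relWi_4_s0 [sl_ef, sl_af, sl_ef, sl_af] 0 (by decide +kernel) relone_inv_4_s0
theorem rot21 : wG rels [sl_ef, sl_ff, sl_ef, sl_ff, sl_ef, sl_ff] = 1 :=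
  wG_of_rotate rels relWi_19_s0 [sl_ef, sl_ff, sl_ef, sl_ff, sl_ef, sl_ff] 1 (by decide +kernel) relone_inv_19_s0
theorem rot22 : wG rels [sl_bt, sl_cf, sl_gt, sl_ct, sl_gt, sl_bt, sl_cf, sl_gt, sl_ct, sl_bf, sl_gt] = 1 :=
  wG_of_rotate rels relW_26 [sl_bt, sl_cf, sl_gt, sl_ct, sl_gt, sl_bt, sl_cf, sl_gt, sl_ct, sl_bf, sl_gt] 7 (by decide +kernel) relone_26
theorem rot23 : wG rels [sl_ff, sl_cf, sl_ff, sl_cf] = 1 :=
  wG_of_rotate rels relWi_14_s0 [sl_ff, sl_cf, sl_ff, sl_cf] 0 (by decide +kernel) relone_inv_14_s0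
theorem rot24 : wG rels [sl_bf, sl_bf] = 1 :=
  wG_of_rotate rels relWi_6_s0 [sl_bf, sl_bf] 0 (by decide +kernel) relone_inv_6_s0
theorem rot25 : wG rels [sl_ff, sl_bf, sl_ff, sl_bf] = 1 :=
  wG_of_rotate rels relWi_10_s0 [sl_ff, sl_bf, sl_ff, sl_bf] 0 (by decide +kernel) relone_inv_10_s0
theorem rot26 : wG rels [sl_at, sl_ft, sl_gf, sl_gf] = 1 :=
  wG_of_rotate rels relW_21 [sl_at, sl_ft, sl_gf, sl_gf] 0 (by decide +kernel) relone_21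
theorem rot27 : wG rels [sl_dt, sl_ct, sl_gt, sl_ct, sl_gt, sl_dt, sl_gf, sl_cf, sl_gf, sl_cf] = 1 :=
  wG_of_rotate rels relW_24 [sl_dt, sl_ct, sl_gt, sl_ct, sl_gt, sl_dt, sl_gf, sl_cf, sl_gf, sl_cf] 5 (by decide +kernel) relone_24
theorem rot28 : wG rels [sl_ef, sl_cf, sl_ef, sl_cf] = 1 :=
  wG_of_rotate rels relWi_13_s0 [sl_ef, sl_cf, sl_ef, sl_cf] 0 (by decide +kernel) relone_inv_13_s0
theorem rot29 : wG rels [sl_ef, sl_bf, sl_ef, sl_bf] = 1 :=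
  wG_of_rotate rels relWi_9_s0 [sl_ef, sl_bf, sl_ef, sl_bf] 0 (by decide +kernel) relone_inv_9_s0
theorem rot30 : wG rels [sl_ff, sl_af, sl_ff, sl_af] = 1 :=
  wG_of_rotate rels relWi_5_s0 [sl_ff, sl_af, sl_ff, sl_af] 0 (by decide +kernel) relone_inv_5_s0
theorem rot31 : wG rels [sl_af, sl_gt, sl_gt, sl_ff] = 1 :=
  wG_of_rotate rels relWi_21_s0 [sl_af, sl_gt, sl_gt, sl_ff] 3 (by decide +kernel) relone_inv_21_s0
theorem rot32 : wG rels [sl_dt, sl_ct, sl_dt, sl_ff, sl_af, sl_ct, sl_dt, sl_ct, sl_dt, sl_ct] = 1 :=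
  wG_of_rotate rels relWi_22_s0 [sl_dt, sl_ct, sl_dt, sl_ff, sl_af, sl_ct, sl_dt, sl_ct, sl_dt, sl_ct] 5 (by decide +kernel) relone_inv_22_s0
theorem rot33 : wG rels [sl_at, sl_ft, sl_df, sl_cf, sl_df, sl_cf, sl_df, sl_cf, sl_df, sl_cf] = 1 :=
  wG_of_rotate rels relW_22 [sl_at, sl_ft, sl_df, sl_cf, sl_df, sl_cf, sl_df, sl_cf, sl_df, sl_cf] 0 (by decide +kernel) relone_22
theorem rot34 : wG rels [sl_bf, sl_gt, sl_bt, sl_cf, sl_gt, sl_ct, sl_gt, sl_bt, sl_cf, sl_gt, sl_ct] = 1 :=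
  wG_of_rotate rels relW_26 [sl_bf, sl_gt, sl_bt, sl_cf, sl_gt, sl_ct, sl_gt, sl_bt, sl_cf, sl_gt, sl_ct] 5 (by decide +kernel) relone_26
theorem rot35 : wG rels [sl_bt, sl_ft, sl_bt, sl_ft] = 1 :=
  wG_of_rotate rels relW_10 [sl_bt, sl_ft, sl_bt, sl_ft] 0 (by decide +kernel) relone_10
theorem rot36 : wG rels [sl_af, sl_bf, sl_af, sl_bf, sl_af, sl_bf] = 1 :=
  wG_of_rotate rels relWi_1_s0 [sl_af, sl_bf, sl_af, sl_bf, sl_af, sl_bf] 1 (by decide +kernel) relone_inv_1_s0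
theorem rot37 : wG rels [sl_dt, sl_ef, sl_gf, sl_df, sl_gf, sl_dt, sl_ef, sl_gf, sl_et, sl_df, sl_gf] = 1 :=
  wG_of_rotate rels relWi_27_s0 [sl_dt, sl_ef, sl_gf, sl_df, sl_gf, sl_dt, sl_ef, sl_gf, sl_et, sl_df, sl_gf] 8 (by decide +kernel) relone_inv_27_s0
theorem rot38 : wG rels [sl_df, sl_df] = 1 :=
  wG_of_rotate rels relWi_15_s0 [sl_df, sl_df] 0 (by decide +kernel) relone_inv_15_s0
theorem rot39 : wG rels [sl_cf, sl_ef, sl_cf, sl_ef] = 1 :=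
  wG_of_rotate rels relWi_13_s0 [sl_cf, sl_ef, sl_cf, sl_ef] 1 (by decide +kernel) relone_inv_13_s0
theorem rot40 : wG rels [sl_ct, sl_ft, sl_ct, sl_ft] = 1 :=
  wG_of_rotate rels relW_14 [sl_ct, sl_ft, sl_ct, sl_ft] 0 (by decide +kernel) relone_14
theorem rot41 : wG rels [sl_ct, sl_dt, sl_ct, sl_dt, sl_ff, sl_af, sl_ct, sl_dt, sl_ct, sl_dt] = 1 :=
  wG_of_rotate rels relWi_22_s0 [sl_ct, sl_dt, sl_ct, sl_dt, sl_ff, sl_af, sl_ct, sl_dt, sl_ct, sl_dt] 4 (by decide +kernel) relone_inv_22_s0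
theorem rot42 : wG rels [sl_dt, sl_dt] = 1 :=
  wG_of_rotate rels relW_15 [sl_dt, sl_dt] 0 (by decide +kernel) relone_15
theorem rot43 : wG rels [sl_df, sl_cf, sl_df, sl_cf, sl_df, sl_cf, sl_df, sl_cf, sl_df, sl_cf, sl_df, sl_cf, sl_df, sl_cf, sl_df, sl_cf] = 1 :=
  wG_of_rotate rels relWi_12_s0 [sl_df, sl_cf, sl_df, sl_cf, sl_df, sl_cf, sl_df, sl_cf, sl_df, sl_cf, sl_df, sl_cf, sl_df, sl_cf, sl_df, sl_cf] 0 (by decide +kernel) relone_inv_12_s0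
theorem rot44 : wG rels [sl_dt, sl_at, sl_dt, sl_at] = 1 :=
  wG_of_rotate rels relW_3 [sl_dt, sl_at, sl_dt, sl_at] 1 (by decide +kernel) relone_3
theorem rot45 : wG rels [sl_af, sl_ff, sl_af, sl_ff] = 1 :=
  wG_of_rotate rels relWi_5_s0 [sl_af, sl_ff, sl_af, sl_ff] 1 (by decide +kernel) relone_inv_5_s0
theorem rot46 : wG rels [sl_gt, sl_gt, sl_ff, sl_af] = 1 :=
  wG_of_rotate rels relWi_21_s0 [sl_gt, sl_gt, sl_ff, sl_af] 0 (by decide +kernel) relone_inv_21_s0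
theorem rot47 : wG rels [sl_gf, sl_gf, sl_at, sl_ft] = 1 :=
  wG_of_rotate rels relW_21 [sl_gf, sl_gf, sl_at, sl_ft] 2 (by decide +kernel) relone_21
theorem rot48 : wG rels [sl_ft, sl_ft] = 1 :=
  wG_of_rotate rels relW_20 [sl_ft, sl_ft] 0 (by decide +kernel) relone_20
theorem rot49 : wG rels [sl_gt, sl_dt, sl_gt, sl_ct, sl_gf, sl_df, sl_gf, sl_df, sl_ct, sl_dt] = 1 :=
  wG_of_rotate rels relW_23 [sl_gt, sl_dt, sl_gt, sl_ct, sl_gf, sl_df, sl_gf, sl_df, sl_ct, sl_dt] 7 (by decide +kernel) relone_23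
theorem rot50 : wG rels [sl_af, sl_ef, sl_af, sl_ef] = 1 :=
  wG_of_rotate rels relWi_4_s0 [sl_af, sl_ef, sl_af, sl_ef] 1 (by decide +kernel) relone_inv_4_s0
theorem rot51 : wG rels [sl_at, sl_dt, sl_at, sl_dt] = 1 :=
  wG_of_rotate rels relW_3 [sl_at, sl_dt, sl_at, sl_dt] 0 (by decide +kernel) relone_3
theorem rot52 : wG rels [sl_ff, sl_af, sl_gt, sl_gt] = 1 :=
  wG_of_rotate rels relWi_21_s0 [sl_ff, sl_af, sl_gt, sl_gt] 2 (by decide +kernel) relone_inv_21_s0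
theorem rot53 : wG rels [sl_ct, sl_dt, sl_ct, sl_dt, sl_ct, sl_dt, sl_ff, sl_af, sl_ct, sl_dt] = 1 :=
  wG_of_rotate rels relWi_22_s0 [sl_ct, sl_dt, sl_ct, sl_dt, sl_ct, sl_dt, sl_ff, sl_af, sl_ct, sl_dt] 2 (by decide +kernel) relone_inv_22_s0
theorem rot54 : wG rels [sl_ft, sl_dt, sl_ft, sl_dt] = 1 :=
  wG_of_rotate rels relW_17 [sl_ft, sl_dt, sl_ft, sl_dt] 1 (by decide +kernel) relone_17
theorem rot55 : wG rels [sl_cf, sl_df, sl_cf, sl_df, sl_cf, sl_df, sl_cf, sl_df, sl_cf, sl_df, sl_cf, sl_df, sl_cf, sl_df, sl_cf, sl_df] = 1 :=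
  wG_of_rotate rels relWi_12_s0 [sl_cf, sl_df, sl_cf, sl_df, sl_cf, sl_df, sl_cf, sl_df, sl_cf, sl_df, sl_cf, sl_df, sl_cf, sl_df, sl_cf, sl_df] 1 (by decide +kernel) relone_inv_12_s0
theorem rot56 : wG rels [sl_dt, sl_ef, sl_gf, sl_et, sl_df, sl_gf, sl_dt, sl_ef, sl_gf, sl_df, sl_gf] = 1 :=
  wG_of_rotate rels relWi_27_s0 [sl_dt, sl_ef, sl_gf, sl_et, sl_df, sl_gf, sl_dt, sl_ef, sl_gf, sl_df, sl_gf] 2 (by decide +kernel) relone_inv_27_s0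
theorem rot57 : wG rels [sl_dt, sl_gt, sl_ct, sl_gf, sl_df, sl_gf, sl_df, sl_ct, sl_dt, sl_gt] = 1 :=
  wG_of_rotate rels relW_23 [sl_dt, sl_gt, sl_ct, sl_gf, sl_df, sl_gf, sl_df, sl_ct, sl_dt, sl_gt] 8 (by decide +kernel) relone_23
theorem rot58 : wG rels [sl_cf, sl_gt, sl_ct, sl_bf, sl_gt, sl_bt, sl_cf, sl_gt, sl_ct, sl_gt, sl_bt] = 1 :=
  wG_of_rotate rels relW_26 [sl_cf, sl_gt, sl_ct, sl_bf, sl_gt, sl_bt, sl_cf, sl_gt, sl_ct, sl_gt, sl_bt] 2 (by decide +kernel) relone_26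
theorem rot59 : wG rels [sl_ct, sl_ct] = 1 :=
  wG_of_rotate rels relW_11 [sl_ct, sl_ct] 0 (by decide +kernel) relone_11
theorem rot60 : wG rels [sl_dt, sl_ft, sl_dt, sl_ft] = 1 :=
  wG_of_rotate rels relW_17 [sl_dt, sl_ft, sl_dt, sl_ft] 0 (by decide +kernel) relone_17
theorem rot61 : wG rels [sl_bf, sl_ff, sl_bf, sl_ff] = 1 :=
  wG_of_rotate rels relWi_10_s0 [sl_bf, sl_ff, sl_bf, sl_ff] 1 (by decide +kernel) relone_inv_10_s0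
theorem rot62 : wG rels [sl_bt, sl_at, sl_bt, sl_at, sl_bt, sl_at] = 1 :=
  wG_of_rotate rels relW_1 [sl_bt, sl_at, sl_bt, sl_at, sl_bt, sl_at] 1 (by decide +kernel) relone_1
theorem rot63 : wG rels [sl_ct, sl_bf, sl_gf, sl_bt, sl_cf, sl_gf, sl_ct, sl_bf, sl_gf, sl_cf, sl_gf] = 1 :=
  wG_of_rotate rels relWi_26_s0 [sl_ct, sl_bf, sl_gf, sl_bt, sl_cf, sl_gf, sl_ct, sl_bf, sl_gf, sl_cf, sl_gf] 2 (by decide +kernel) relone_inv_26_s0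
theorem rot64 : wG rels [sl_ct, sl_bf, sl_gt, sl_bt, sl_cf, sl_gt, sl_ct, sl_gt, sl_bt, sl_cf, sl_gt] = 1 :=
  wG_of_rotate rels relW_26 [sl_ct, sl_bf, sl_gt, sl_bt, sl_cf, sl_gt, sl_ct, sl_gt, sl_bt, sl_cf, sl_gt] 4 (by decide +kernel) relone_26
theorem rot65 : wG rels [sl_gt, sl_ct, sl_bf, sl_gt, sl_bt, sl_cf, sl_gt, sl_ct, sl_gt, sl_bt, sl_cf] = 1 :=
  wG_of_rotate rels relW_26 [sl_gt, sl_ct, sl_bf, sl_gt, sl_bt, sl_cf, sl_gt, sl_ct, sl_gt, sl_bt, sl_cf] 3 (by decide +kernel) relone_26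
theorem rot66 : wG rels [sl_at, sl_ft, sl_at, sl_ft] = 1 :=
  wG_of_rotate rels relW_5 [sl_at, sl_ft, sl_at, sl_ft] 0 (by decide +kernel) relone_5
theorem rot67 : wG rels [sl_at, sl_bt, sl_at, sl_bt, sl_at, sl_bt] = 1 :=
  wG_of_rotate rels relW_1 [sl_at, sl_bt, sl_at, sl_bt, sl_at, sl_bt] 0 (by decide +kernel) relone_1
theorem rot68 : wG rels [sl_af, sl_cf, sl_af, sl_cf] = 1 :=
  wG_of_rotate rels relWi_2_s0 [sl_af, sl_cf, sl_af, sl_cf] 1 (by decide +kernel) relone_inv_2_s0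
theorem rot69 : wG rels [sl_et, sl_ft, sl_et, sl_ft, sl_et, sl_ft] = 1 :=
  wG_of_rotate rels relW_19 [sl_et, sl_ft, sl_et, sl_ft, sl_et, sl_ft] 0 (by decide +kernel) relone_19
theorem rot70 : wG rels [sl_df, sl_ef, sl_df, sl_ef, sl_df, sl_ef] = 1 :=
  wG_of_rotate rels relWi_16_s0 [sl_df, sl_ef, sl_df, sl_ef, sl_df, sl_ef] 1 (by decide +kernel) relone_inv_16_s0
theorem rot71 : wG rels [sl_et, sl_dt, sl_et, sl_dt, sl_et, sl_dt] = 1 :=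
  wG_of_rotate rels relW_16 [sl_et, sl_dt, sl_et, sl_dt, sl_et, sl_dt] 1 (by decide +kernel) relone_16
theorem rot72 : wG rels [sl_ff, sl_ef, sl_ff, sl_ef, sl_ff, sl_ef] = 1 :=
  wG_of_rotate rels relWi_19_s0 [sl_ff, sl_ef, sl_ff, sl_ef, sl_ff, sl_ef] 0 (by decide +kernel) relone_inv_19_s0
theorem rot73 : wG rels [sl_ef, sl_df, sl_ef, sl_df, sl_ef, sl_df] = 1 :=
  wG_of_rotate rels relWi_16_s0 [sl_ef, sl_df, sl_ef, sl_df, sl_ef, sl_df] 0 (by decide +kernel) relone_inv_16_s0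
theorem rot74 : wG rels [sl_et, sl_bt, sl_et, sl_bt] = 1 :=
  wG_of_rotate rels relW_9 [sl_et, sl_bt, sl_et, sl_bt] 1 (by decide +kernel) relone_9
theorem rot75 : wG rels [sl_ft, sl_bt, sl_ft, sl_bt] = 1 :=
  wG_of_rotate rels relW_10 [sl_ft, sl_bt, sl_ft, sl_bt] 1 (by decide +kernel) relone_10
theorem rot76 : wG rels [sl_gf, sl_at, sl_ft, sl_gf] = 1 :=
  wG_of_rotate rels relW_21 [sl_gf, sl_at, sl_ft, sl_gf] 3 (by decide +kernel) relone_21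
theorem rot77 : wG rels [sl_dt, sl_et, sl_dt, sl_et, sl_dt, sl_et] = 1 :=
  wG_of_rotate rels relW_16 [sl_dt, sl_et, sl_dt, sl_et, sl_dt, sl_et] 0 (by decide +kernel) relone_16
theorem rot78 : wG rels [sl_df, sl_ff, sl_df, sl_ff] = 1 :=
  wG_of_rotate rels relWi_17_s0 [sl_df, sl_ff, sl_df, sl_ff] 1 (by decide +kernel) relone_inv_17_s0
theorem rot79 : wG rels [sl_dt, sl_bt, sl_dt, sl_bt] = 1 :=
  wG_of_rotate rels relW_8 [sl_dt, sl_bt, sl_dt, sl_bt] 1 (by decide +kernel) relone_8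
theorem rot80 : wG rels [sl_at, sl_et, sl_at, sl_et] = 1 :=
  wG_of_rotate rels relW_4 [sl_at, sl_et, sl_at, sl_et] 0 (by decide +kernel) relone_4
theorem rot81 : wG rels [sl_bf, sl_af, sl_bf, sl_af, sl_bf, sl_af] = 1 :=
  wG_of_rotate rels relWi_1_s0 [sl_bf, sl_af, sl_bf, sl_af, sl_bf, sl_af] 0 (by decide +kernel) relone_inv_1_s0
theorem rot82 : wG rels [sl_gt, sl_bt, sl_cf, sl_gt, sl_ct, sl_bf, sl_gt, sl_bt, sl_cf, sl_gt, sl_ct] = 1 :=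
  wG_of_rotate rels relW_26 [sl_gt, sl_bt, sl_cf, sl_gt, sl_ct, sl_bf, sl_gt, sl_bt, sl_cf, sl_gt, sl_ct] 0 (by decide +kernel) relone_26
theorem rot83 : wG rels [sl_ct, sl_bt, sl_ct, sl_bt, sl_ct, sl_bt] = 1 :=
  wG_of_rotate rels relW_7 [sl_ct, sl_bt, sl_ct, sl_bt, sl_ct, sl_bt] 1 (by decide +kernel) relone_7
theorem rot84 : wG rels [sl_df, sl_ct, sl_dt, sl_gt, sl_dt, sl_gt, sl_ct, sl_gf, sl_df, sl_gf] = 1 :=
  wG_of_rotate rels relW_23 [sl_df, sl_ct, sl_dt, sl_gt, sl_dt, sl_gt, sl_ct, sl_gf, sl_df, sl_gf] 4 (by decide +kernel) relone_23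
theorem rot85 : wG rels [sl_gf, sl_df, sl_cf, sl_bf, sl_gf, sl_df, sl_cf, sl_bf, sl_gf, sl_df, sl_cf, sl_bf, sl_gf, sl_df, sl_cf, sl_bf, sl_gf, sl_df, sl_cf, sl_bf] = 1 :=
  wG_of_rotate rels relWi_25_s0 [sl_gf, sl_df, sl_cf, sl_bf, sl_gf, sl_df, sl_cf, sl_bf, sl_gf, sl_df, sl_cf, sl_bf, sl_gf, sl_df, sl_cf, sl_bf, sl_gf, sl_df, sl_cf, sl_bf] 0 (by decide +kernel) relone_inv_25_s0
theorem rot86 : wG rels [sl_ft, sl_et, sl_ft, sl_et, sl_ft, sl_et] = 1 :=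
  wG_of_rotate rels relW_19 [sl_ft, sl_et, sl_ft, sl_et, sl_ft, sl_et] 1 (by decide +kernel) relone_19
theorem rot87 : wG rels [sl_et, sl_et] = 1 :=
  wG_of_rotate rels relW_18 [sl_et, sl_et] 0 (by decide +kernel) relone_18
theorem rot88 : wG rels [sl_ef, sl_ef] = 1 :=
  wG_of_rotate rels relWi_18_s0 [sl_ef, sl_ef] 0 (by decide +kernel) relone_inv_18_s0
theorem rot89 : wG rels [sl_cf, sl_bf, sl_gf, sl_df, sl_cf, sl_bf, sl_gf, sl_df, sl_cf, sl_bf, sl_gf, sl_df, sl_cf, sl_bf, sl_gf, sl_df, sl_cf, sl_bf, sl_gf, sl_df] = 1 :=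
  wG_of_rotate rels relWi_25_s0 [sl_cf, sl_bf, sl_gf, sl_df, sl_cf, sl_bf, sl_gf, sl_df, sl_cf, sl_bf, sl_gf, sl_df, sl_cf, sl_bf, sl_gf, sl_df, sl_cf, sl_bf, sl_gf, sl_df] 2 (by decide +kernel) relone_inv_25_s0
theorem rot90 : wG rels [sl_bf, sl_cf, sl_bf, sl_cf, sl_bf, sl_cf] = 1 :=
  wG_of_rotate rels relWi_7_s0 [sl_bf, sl_cf, sl_bf, sl_cf, sl_bf, sl_cf] 1 (by decide +kernel) relone_inv_7_s0
theorem rot91 : wG rels [sl_ct, sl_gt, sl_bt, sl_cf, sl_gt, sl_ct, sl_bf, sl_gt, sl_bt, sl_cf, sl_gt] = 1 :=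
  wG_of_rotate rels relW_26 [sl_ct, sl_gt, sl_bt, sl_cf, sl_gt, sl_ct, sl_bf, sl_gt, sl_bt, sl_cf, sl_gt] 10 (by decide +kernel) relone_26
theorem rot92 : wG rels [sl_bt, sl_cf, sl_gf, sl_ct, sl_bf, sl_gf, sl_cf, sl_gf, sl_ct, sl_bf, sl_gf] = 1 :=
  wG_of_rotate rels relWi_26_s0 [sl_bt, sl_cf, sl_gf, sl_ct, sl_bf, sl_gf, sl_cf, sl_gf, sl_ct, sl_bf, sl_gf] 5 (by decide +kernel) relone_inv_26_s0
theorem rot93 : wG rels [sl_bf, sl_df, sl_bf, sl_df] = 1 :=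
  wG_of_rotate rels relWi_8_s0 [sl_bf, sl_df, sl_bf, sl_df] 1 (by decide +kernel) relone_inv_8_s0
theorem rot94 : wG rels [sl_gt, sl_ct, sl_gf, sl_df, sl_gf, sl_df, sl_ct, sl_dt, sl_gt, sl_dt] = 1 :=
  wG_of_rotate rels relW_23 [sl_gt, sl_ct, sl_gf, sl_df, sl_gf, sl_df, sl_ct, sl_dt, sl_gt, sl_dt] 9 (by decide +kernel) relone_23
theorem rot95 : wG rels [sl_bt, sl_dt, sl_bt, sl_dt] = 1 :=
  wG_of_rotate rels relW_8 [sl_bt, sl_dt, sl_bt, sl_dt] 0 (by decide +kernel) relone_8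
theorem rot96 : wG rels [sl_bf, sl_ef, sl_bf, sl_ef] = 1 :=
  wG_of_rotate rels relWi_9_s0 [sl_bf, sl_ef, sl_bf, sl_ef] 1 (by decide +kernel) relone_inv_9_s0
theorem rot97 : wG rels [sl_cf, sl_bf, sl_cf, sl_bf, sl_cf, sl_bf] = 1 :=
  wG_of_rotate rels relWi_7_s0 [sl_cf, sl_bf, sl_cf, sl_bf, sl_cf, sl_bf] 0 (by decide +kernel) relone_inv_7_s0
theorem rot98 : wG rels [sl_ct, sl_dt, sl_ct, sl_dt, sl_ct, sl_dt, sl_ct, sl_dt, sl_ff, sl_af] = 1 :=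
  wG_of_rotate rels relWi_22_s0 [sl_ct, sl_dt, sl_ct, sl_dt, sl_ct, sl_dt, sl_ct, sl_dt, sl_ff, sl_af] 0 (by decide +kernel) relone_inv_22_s0
theorem rot99 : wG rels [sl_cf, sl_dt, sl_ct, sl_gt, sl_ct, sl_gt, sl_dt, sl_gf, sl_cf, sl_gf] = 1 :=
  wG_of_rotate rels relW_24 [sl_cf, sl_dt, sl_ct, sl_gt, sl_ct, sl_gt, sl_dt, sl_gf, sl_cf, sl_gf] 4 (by decide +kernel) relone_24
theorem rot100 : wG rels [sl_at, sl_at] = 1 :=
  wG_of_rotate rels relW_0 [sl_at, sl_at] 0 (by decide +kernel) relone_0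
theorem rot101 : wG rels [sl_ft, sl_at, sl_ft, sl_at] = 1 :=
  wG_of_rotate rels relW_5 [sl_ft, sl_at, sl_ft, sl_at] 1 (by decide +kernel) relone_5
theorem rot102 : wG rels [sl_cf, sl_at, sl_ft, sl_df, sl_cf, sl_df, sl_cf, sl_df, sl_cf, sl_df] = 1 :=
  wG_of_rotate rels relW_22 [sl_cf, sl_at, sl_ft, sl_df, sl_cf, sl_df, sl_cf, sl_df, sl_cf, sl_df] 9 (by decide +kernel) relone_22
theorem rot103 : wG rels [sl_ff, sl_af, sl_ct, sl_dt, sl_ct, sl_dt, sl_ct, sl_dt, sl_ct, sl_dt] = 1 :=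
  wG_of_rotate rels relWi_22_s0 [sl_ff, sl_af, sl_ct, sl_dt, sl_ct, sl_dt, sl_ct, sl_dt, sl_ct, sl_dt] 8 (by decide +kernel) relone_inv_22_s0
theorem rot104 : wG rels [sl_gf, sl_cf, sl_dt, sl_ct, sl_gt, sl_ct, sl_gt, sl_dt, sl_gf, sl_cf] = 1 :=
  wG_of_rotate rels relW_24 [sl_gf, sl_cf, sl_dt, sl_ct, sl_gt, sl_ct, sl_gt, sl_dt, sl_gf, sl_cf] 3 (by decide +kernel) relone_24
theorem rot105 : wG rels [sl_dt, sl_gt, sl_dt, sl_gt, sl_ct, sl_gf, sl_df, sl_gf, sl_df, sl_ct] = 1 :=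
  wG_of_rotate rels relW_23 [sl_dt, sl_gt, sl_dt, sl_gt, sl_ct, sl_gf, sl_df, sl_gf, sl_df, sl_ct] 6 (by decide +kernel) relone_23
theorem rot106 : wG rels [sl_df, sl_cf, sl_df, sl_cf, sl_df, sl_cf, sl_at, sl_ft, sl_df, sl_cf] = 1 :=
  wG_of_rotate rels relW_22 [sl_df, sl_cf, sl_df, sl_cf, sl_df, sl_cf, sl_at, sl_ft, sl_df, sl_cf] 4 (by decide +kernel) relone_22
theorem rot107 : wG rels [sl_at, sl_ct, sl_at, sl_ct] = 1 :=
  wG_of_rotate rels relW_2 [sl_at, sl_ct, sl_at, sl_ct] 0 (by decide +kernel) relone_2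
theorem rot108 : wG rels [sl_cf, sl_ff, sl_cf, sl_ff] = 1 :=
  wG_of_rotate rels relWi_14_s0 [sl_cf, sl_ff, sl_cf, sl_ff] 1 (by decide +kernel) relone_inv_14_s0
theorem rot109 : wG rels [sl_af, sl_ct, sl_dt, sl_ct, sl_dt, sl_ct, sl_dt, sl_ct, sl_dt, sl_ff] = 1 :=
  wG_of_rotate rels relWi_22_s0 [sl_af, sl_ct, sl_dt, sl_ct, sl_dt, sl_ct, sl_dt, sl_ct, sl_dt, sl_ff] 9 (by decide +kernel) relone_inv_22_s0
theorem rot110 : wG rels [sl_ct, sl_gt, sl_ct, sl_gt, sl_dt, sl_gf, sl_cf, sl_gf, sl_cf, sl_dt] = 1 :=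
  wG_of_rotate rels relW_24 [sl_ct, sl_gt, sl_ct, sl_gt, sl_dt, sl_gf, sl_cf, sl_gf, sl_cf, sl_dt] 6 (by decide +kernel) relone_24
theorem rot111 : wG rels [sl_ct, sl_at, sl_ct, sl_at] = 1 :=
  wG_of_rotate rels relW_2 [sl_ct, sl_at, sl_ct, sl_at] 1 (by decide +kernel) relone_2
theorem rot112 : wG rels [sl_gt, sl_dt, sl_ef, sl_gt, sl_et, sl_df, sl_gt, sl_dt, sl_gt, sl_et, sl_df] = 1 :=
  wG_of_rotate rels relW_27 [sl_gt, sl_dt, sl_ef, sl_gt, sl_et, sl_df, sl_gt, sl_dt, sl_gt, sl_et, sl_df] 3 (by decide +kernel) relone_27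
theorem rot113 : wG rels [sl_dt, sl_gt, sl_dt, sl_gt, sl_cf, sl_gf, sl_df, sl_gf, sl_df, sl_cf] = 1 :=
  wG_of_rotate rels relWi_23_s0 [sl_dt, sl_gt, sl_dt, sl_gt, sl_cf, sl_gf, sl_df, sl_gf, sl_df, sl_cf] 5 (by decide +kernel) relone_inv_23_s0
theorem rot114 : wG rels [sl_ef, sl_gf, sl_et, sl_df, sl_gf, sl_dt, sl_ef, sl_gf, sl_df, sl_gf, sl_dt] = 1 :=
  wG_of_rotate rels relWi_27_s0 [sl_ef, sl_gf, sl_et, sl_df, sl_gf, sl_dt, sl_ef, sl_gf, sl_df, sl_gf, sl_dt] 3 (by decide +kernel) relone_inv_27_s0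
theorem rot115 : wG rels [sl_dt, sl_gt, sl_cf, sl_gf, sl_df, sl_gf, sl_df, sl_cf, sl_dt, sl_gt] = 1 :=
  wG_of_rotate rels relWi_23_s0 [sl_dt, sl_gt, sl_cf, sl_gf, sl_df, sl_gf, sl_df, sl_cf, sl_dt, sl_gt] 7 (by decide +kernel) relone_inv_23_s0
theorem rot116 : wG rels [sl_cf, sl_df, sl_cf, sl_df, sl_cf, sl_at, sl_ft, sl_df, sl_cf, sl_df] = 1 :=
  wG_of_rotate rels relW_22 [sl_cf, sl_df, sl_cf, sl_df, sl_cf, sl_at, sl_ft, sl_df, sl_cf, sl_df] 5 (by decide +kernel) relone_22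
theorem rot117 : wG rels [sl_af, sl_df, sl_af, sl_df] = 1 :=
  wG_of_rotate rels relWi_3_s0 [sl_af, sl_df, sl_af, sl_df] 1 (by decide +kernel) relone_inv_3_s0
theorem rot118 : wG rels [sl_cf, sl_df, sl_cf, sl_df, sl_cf, sl_df, sl_cf, sl_at, sl_ft, sl_df] = 1 :=
  wG_of_rotate rels relW_22 [sl_cf, sl_df, sl_cf, sl_df, sl_cf, sl_df, sl_cf, sl_at, sl_ft, sl_df] 3 (by decide +kernel) relone_22
theorem rot119 : wG rels [sl_bt, sl_et, sl_bt, sl_et] = 1 :=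
  wG_of_rotate rels relW_9 [sl_bt, sl_et, sl_bt, sl_et] 0 (by decide +kernel) relone_9
theorem rot120 : wG rels [sl_dt, sl_ct, sl_dt, sl_ct, sl_dt, sl_ct, sl_dt, sl_ff, sl_af, sl_ct] = 1 :=
  wG_of_rotate rels relWi_22_s0 [sl_dt, sl_ct, sl_dt, sl_ct, sl_dt, sl_ct, sl_dt, sl_ff, sl_af, sl_ct] 1 (by decide +kernel) relone_inv_22_s0
theorem rot121 : wG rels [sl_et, sl_df, sl_gt, sl_dt, sl_ef, sl_gt, sl_et, sl_df, sl_gt, sl_dt, sl_gt] = 1 :=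
  wG_of_rotate rels relW_27 [sl_et, sl_df, sl_gt, sl_dt, sl_ef, sl_gt, sl_et, sl_df, sl_gt, sl_dt, sl_gt] 1 (by decide +kernel) relone_27
theorem rot122 : wG rels [sl_et, sl_df, sl_gf, sl_dt, sl_ef, sl_gf, sl_df, sl_gf, sl_dt, sl_ef, sl_gf] = 1 :=
  wG_of_rotate rels relWi_27_s0 [sl_et, sl_df, sl_gf, sl_dt, sl_ef, sl_gf, sl_df, sl_gf, sl_dt, sl_ef, sl_gf] 5 (by decide +kernel) relone_inv_27_s0
theorem rot123 : wG rels [sl_et, sl_at, sl_et, sl_at] = 1 :=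
  wG_of_rotate rels relW_4 [sl_et, sl_at, sl_et, sl_at] 1 (by decide +kernel) relone_4
theorem rot124 : wG rels [sl_gf, sl_bt, sl_cf, sl_gf, sl_ct, sl_bf, sl_gf, sl_cf, sl_gf, sl_ct, sl_bf] = 1 :=
  wG_of_rotate rels relWi_26_s0 [sl_gf, sl_bt, sl_cf, sl_gf, sl_ct, sl_bf, sl_gf, sl_cf, sl_gf, sl_ct, sl_bf] 4 (by decide +kernel) relone_inv_26_s0
theorem rot125 : wG rels [sl_cf, sl_gf, sl_ct, sl_bf, sl_gf, sl_bt, sl_cf, sl_gf, sl_ct, sl_bf, sl_gf] = 1 :=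
  wG_of_rotate rels relWi_26_s0 [sl_cf, sl_gf, sl_ct, sl_bf, sl_gf, sl_bt, sl_cf, sl_gf, sl_ct, sl_bf, sl_gf] 0 (by decide +kernel) relone_inv_26_s0
theorem rot126 : wG rels [sl_gf, sl_ct, sl_bf, sl_gf, sl_cf, sl_gf, sl_ct, sl_bf, sl_gf, sl_bt, sl_cf] = 1 :=
  wG_of_rotate rels relWi_26_s0 [sl_gf, sl_ct, sl_bf, sl_gf, sl_cf, sl_gf, sl_ct, sl_bf, sl_gf, sl_bt, sl_cf] 7 (by decide +kernel) relone_inv_26_s0
theorem rot127 : wG rels [sl_bt, sl_bt] = 1 :=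
  wG_of_rotate rels relW_6 [sl_bt, sl_bt] 0 (by decide +kernel) relone_6
theorem rot128 : wG rels [sl_bt, sl_ct, sl_bt, sl_ct, sl_bt, sl_ct] = 1 :=
  wG_of_rotate rels relW_7 [sl_bt, sl_ct, sl_bt, sl_ct, sl_bt, sl_ct] 0 (by decide +kernel) relone_7
theorem rot129 : wG rels [sl_gf, sl_ct, sl_bf, sl_gf, sl_bt, sl_cf, sl_gf, sl_ct, sl_bf, sl_gf, sl_cf] = 1 :=
  wG_of_rotate rels relWi_26_s0 [sl_gf, sl_ct, sl_bf, sl_gf, sl_bt, sl_cf, sl_gf, sl_ct, sl_bf, sl_gf, sl_cf] 1 (by decide +kernel) relone_inv_26_s0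
theorem rot130 : wG rels [sl_bt, sl_cf, sl_gt, sl_ct, sl_bf, sl_gt, sl_bt, sl_cf, sl_gt, sl_ct, sl_gt] = 1 :=
  wG_of_rotate rels relW_26 [sl_bt, sl_cf, sl_gt, sl_ct, sl_bf, sl_gt, sl_bt, sl_cf, sl_gt, sl_ct, sl_gt] 1 (by decide +kernel) relone_26
theorem rot131 : wG rels [sl_gt, sl_et, sl_df, sl_gt, sl_dt, sl_gt, sl_et, sl_df, sl_gt, sl_dt, sl_ef] = 1 :=
  wG_of_rotate rels relW_27 [sl_gt, sl_et, sl_df, sl_gt, sl_dt, sl_gt, sl_et, sl_df, sl_gt, sl_dt, sl_ef] 6 (by decide +kernel) relone_27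
theorem rot132 : wG rels [sl_df, sl_gt, sl_dt, sl_gt, sl_et, sl_df, sl_gt, sl_dt, sl_ef, sl_gt, sl_et] = 1 :=
  wG_of_rotate rels relW_27 [sl_df, sl_gt, sl_dt, sl_gt, sl_et, sl_df, sl_gt, sl_dt, sl_ef, sl_gt, sl_et] 8 (by decide +kernel) relone_27
theorem rot133 : wG rels [sl_ct, sl_dt, sl_ff, sl_af, sl_ct, sl_dt, sl_ct, sl_dt, sl_ct, sl_dt] = 1 :=
  wG_of_rotate rels relWi_22_s0 [sl_ct, sl_dt, sl_ff, sl_af, sl_ct, sl_dt, sl_ct, sl_dt, sl_ct, sl_dt] 6 (by decide +kernel) relone_inv_22_s0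
theorem rot134 : wG rels [sl_gf, sl_dt, sl_ef, sl_gf, sl_et, sl_df, sl_gf, sl_dt, sl_ef, sl_gf, sl_df] = 1 :=
  wG_of_rotate rels relWi_27_s0 [sl_gf, sl_dt, sl_ef, sl_gf, sl_et, sl_df, sl_gf, sl_dt, sl_ef, sl_gf, sl_df] 1 (by decide +kernel) relone_inv_27_s0
theorem rot135 : wG rels [sl_df, sl_gf, sl_dt, sl_ef, sl_gf, sl_et, sl_df, sl_gf, sl_dt, sl_ef, sl_gf] = 1 :=
  wG_of_rotate rels relWi_27_s0 [sl_df, sl_gf, sl_dt, sl_ef, sl_gf, sl_et, sl_df, sl_gf, sl_dt, sl_ef, sl_gf] 0 (by decide +kernel) relone_inv_27_s0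
theorem rot136 : wG rels [sl_dt, sl_ef, sl_gt, sl_et, sl_df, sl_gt, sl_dt, sl_gt, sl_et, sl_df, sl_gt] = 1 :=
  wG_of_rotate rels relW_27 [sl_dt, sl_ef, sl_gt, sl_et, sl_df, sl_gt, sl_dt, sl_gt, sl_et, sl_df, sl_gt] 4 (by decide +kernel) relone_27
theorem rot137 : wG rels [sl_gt, sl_et, sl_df, sl_gt, sl_dt, sl_ef, sl_gt, sl_et, sl_df, sl_gt, sl_dt] = 1 :=
  wG_of_rotate rels relW_27 [sl_gt, sl_et, sl_df, sl_gt, sl_dt, sl_ef, sl_gt, sl_et, sl_df, sl_gt, sl_dt] 0 (by decide +kernel) relone_27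
theorem rot138 : wG rels [sl_gf, sl_df, sl_gf, sl_dt, sl_ef, sl_gf, sl_et, sl_df, sl_gf, sl_dt, sl_ef] = 1 :=
  wG_of_rotate rels relWi_27_s0 [sl_gf, sl_df, sl_gf, sl_dt, sl_ef, sl_gf, sl_et, sl_df, sl_gf, sl_dt, sl_ef] 10 (by decide +kernel) relone_inv_27_s0
theorem rot139 : wG rels [sl_gt, sl_dt, sl_gt, sl_et, sl_df, sl_gt, sl_dt, sl_ef, sl_gt, sl_et, sl_df] = 1 :=
  wG_of_rotate rels relW_27 [sl_gt, sl_dt, sl_gt, sl_et, sl_df, sl_gt, sl_dt, sl_ef, sl_gt, sl_et, sl_df] 9 (by decide +kernel) relone_27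
theorem rot140 : wG rels [sl_dt, sl_ct, sl_dt, sl_ct, sl_dt, sl_ff, sl_af, sl_ct, sl_dt, sl_ct] = 1 :=
  wG_of_rotate rels relWi_22_s0 [sl_dt, sl_ct, sl_dt, sl_ct, sl_dt, sl_ff, sl_af, sl_ct, sl_dt, sl_ct] 3 (by decide +kernel) relone_inv_22_s0
theorem rot141 : wG rels [sl_gf, sl_et, sl_df, sl_gf, sl_dt, sl_ef, sl_gf, sl_df, sl_gf, sl_dt, sl_ef] = 1 :=
  wG_of_rotate rels relWi_27_s0 [sl_gf, sl_et, sl_df, sl_gf, sl_dt, sl_ef, sl_gf, sl_df, sl_gf, sl_dt, sl_ef] 4 (by decide +kernel) relone_inv_27_s0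
theorem rot142 : wG rels [sl_ft, sl_df, sl_cf, sl_df, sl_cf, sl_df, sl_cf, sl_df, sl_cf, sl_at] = 1 :=
  wG_of_rotate rels relW_22 [sl_ft, sl_df, sl_cf, sl_df, sl_cf, sl_df, sl_cf, sl_df, sl_cf, sl_at] 1 (by decide +kernel) relone_22
theorem rot143 : wG rels [sl_gf, sl_df, sl_ct, sl_dt, sl_gt, sl_dt, sl_gt, sl_ct, sl_gf, sl_df] = 1 :=
  wG_of_rotate rels relW_23 [sl_gf, sl_df, sl_ct, sl_dt, sl_gt, sl_dt, sl_gt, sl_ct, sl_gf, sl_df] 3 (by decide +kernel) relone_23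
theorem rot144 : wG rels [sl_gf, sl_df, sl_gf, sl_df, sl_ct, sl_dt, sl_gt, sl_dt, sl_gt, sl_ct] = 1 :=
  wG_of_rotate rels relW_23 [sl_gf, sl_df, sl_gf, sl_df, sl_ct, sl_dt, sl_gt, sl_dt, sl_gt, sl_ct] 1 (by decide +kernel) relone_23
theorem rot145 : wG rels [sl_gf, sl_dt, sl_ef, sl_gf, sl_df, sl_gf, sl_dt, sl_ef, sl_gf, sl_et, sl_df] = 1 :=
  wG_of_rotate rels relWi_27_s0 [sl_gf, sl_dt, sl_ef, sl_gf, sl_df, sl_gf, sl_dt, sl_ef, sl_gf, sl_et, sl_df] 7 (by decide +kernel) relone_inv_27_s0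
theorem rot146 : wG rels [sl_gt, sl_df, sl_gf, sl_cf, sl_gf, sl_cf, sl_df, sl_ct, sl_gt, sl_ct] = 1 :=
  wG_of_rotate rels relWi_24_s0 [sl_gt, sl_df, sl_gf, sl_cf, sl_gf, sl_cf, sl_df, sl_ct, sl_gt, sl_ct] 8 (by decide +kernel) relone_inv_24_s0
theorem rot147 : wG rels [sl_gf, sl_cf, sl_gf, sl_cf, sl_dt, sl_ct, sl_gt, sl_ct, sl_gt, sl_dt] = 1 :=
  wG_of_rotate rels relW_24 [sl_gf, sl_cf, sl_gf, sl_cf, sl_dt, sl_ct, sl_gt, sl_ct, sl_gt, sl_dt] 1 (by decide +kernel) relone_24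
theorem rot148 : wG rels [sl_gf, sl_df, sl_gf, sl_df, sl_cf, sl_dt, sl_gt, sl_dt, sl_gt, sl_cf] = 1 :=
  wG_of_rotate rels relWi_23_s0 [sl_gf, sl_df, sl_gf, sl_df, sl_cf, sl_dt, sl_gt, sl_dt, sl_gt, sl_cf] 0 (by decide +kernel) relone_inv_23_s0
theorem rot149 : wG rels [sl_gt, sl_ct, sl_gt, sl_bt, sl_cf, sl_gt, sl_ct, sl_bf, sl_gt, sl_bt, sl_cf] = 1 :=
  wG_of_rotate rels relW_26 [sl_gt, sl_ct, sl_gt, sl_bt, sl_cf, sl_gt, sl_ct, sl_bf, sl_gt, sl_bt, sl_cf] 9 (by decide +kernel) relone_26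
theorem rot150 : wG rels [sl_gt, sl_ct, sl_gt, sl_dt, sl_gf, sl_cf, sl_gf, sl_cf, sl_dt, sl_ct] = 1 :=
  wG_of_rotate rels relW_24 [sl_gt, sl_ct, sl_gt, sl_dt, sl_gf, sl_cf, sl_gf, sl_cf, sl_dt, sl_ct] 7 (by decide +kernel) relone_24
theorem rot151 : wG rels [sl_ct, sl_gt, sl_ct, sl_gt, sl_df, sl_gf, sl_cf, sl_gf, sl_cf, sl_df] = 1 :=
  wG_of_rotate rels relWi_24_s0 [sl_ct, sl_gt, sl_ct, sl_gt, sl_df, sl_gf, sl_cf, sl_gf, sl_cf, sl_df] 5 (by decide +kernel) relone_inv_24_s0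
theorem rot152 : wG rels [sl_ct, sl_gt, sl_dt, sl_gf, sl_cf, sl_gf, sl_cf, sl_dt, sl_ct, sl_gt] = 1 :=
  wG_of_rotate rels relW_24 [sl_ct, sl_gt, sl_dt, sl_gf, sl_cf, sl_gf, sl_cf, sl_dt, sl_ct, sl_gt] 8 (by decide +kernel) relone_24
theorem rot153 : wG rels [sl_df, sl_gf, sl_df, sl_ct, sl_dt, sl_gt, sl_dt, sl_gt, sl_ct, sl_gf] = 1 :=
  wG_of_rotate rels relW_23 [sl_df, sl_gf, sl_df, sl_ct, sl_dt, sl_gt, sl_dt, sl_gt, sl_ct, sl_gf] 2 (by decide +kernel) relone_23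
theorem rot154 : wG rels [sl_gf, sl_df, sl_cf, sl_dt, sl_gt, sl_dt, sl_gt, sl_cf, sl_gf, sl_df] = 1 :=
  wG_of_rotate rels relWi_23_s0 [sl_gf, sl_df, sl_cf, sl_dt, sl_gt, sl_dt, sl_gt, sl_cf, sl_gf, sl_df] 2 (by decide +kernel) relone_inv_23_s0
theorem rot155 : wG rels [sl_df, sl_gf, sl_cf, sl_gf, sl_cf, sl_df, sl_ct, sl_gt, sl_ct, sl_gt] = 1 :=
  wG_of_rotate rels relWi_24_s0 [sl_df, sl_gf, sl_cf, sl_gf, sl_cf, sl_df, sl_ct, sl_gt, sl_ct, sl_gt] 9 (by decide +kernel) relone_inv_24_s0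
theorem rot156 : wG rels [sl_bf, sl_gf, sl_bt, sl_cf, sl_gf, sl_ct, sl_bf, sl_gf, sl_cf, sl_gf, sl_ct] = 1 :=
  wG_of_rotate rels relWi_26_s0 [sl_bf, sl_gf, sl_bt, sl_cf, sl_gf, sl_ct, sl_bf, sl_gf, sl_cf, sl_gf, sl_ct] 3 (by decide +kernel) relone_inv_26_s0
theorem rot157 : wG rels [sl_df, sl_cf, sl_df, sl_cf, sl_df, sl_cf, sl_df, sl_cf, sl_at, sl_ft] = 1 :=
  wG_of_rotate rels relW_22 [sl_df, sl_cf, sl_df, sl_cf, sl_df, sl_cf, sl_df, sl_cf, sl_at, sl_ft] 2 (by decide +kernel) relone_22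
theorem rot158 : wG rels [sl_et, sl_ct, sl_et, sl_ct] = 1 :=
  wG_of_rotate rels relW_13 [sl_et, sl_ct, sl_et, sl_ct] 1 (by decide +kernel) relone_13
theorem rot159 : wG rels [sl_dt, sl_ff, sl_af, sl_ct, sl_dt, sl_ct, sl_dt, sl_ct, sl_dt, sl_ct] = 1 :=
  wG_of_rotate rels relWi_22_s0 [sl_dt, sl_ff, sl_af, sl_ct, sl_dt, sl_ct, sl_dt, sl_ct, sl_dt, sl_ct] 7 (by decide +kernel) relone_inv_22_s0
theorem rot160 : wG rels [sl_cf, sl_gf, sl_ct, sl_bf, sl_gf, sl_cf, sl_gf, sl_ct, sl_bf, sl_gf, sl_bt] = 1 :=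
  wG_of_rotate rels relWi_26_s0 [sl_cf, sl_gf, sl_ct, sl_bf, sl_gf, sl_cf, sl_gf, sl_ct, sl_bf, sl_gf, sl_bt] 6 (by decide +kernel) relone_inv_26_s0
theorem rot161 : wG rels [sl_cf, sl_df, sl_cf, sl_at, sl_ft, sl_df, sl_cf, sl_df, sl_cf, sl_df] = 1 :=
  wG_of_rotate rels relW_22 [sl_cf, sl_df, sl_cf, sl_at, sl_ft, sl_df, sl_cf, sl_df, sl_cf, sl_df] 7 (by decide +kernel) relone_22
theorem rot162 : wG rels [sl_df, sl_ct, sl_gt, sl_ct, sl_gt, sl_df, sl_gf, sl_cf, sl_gf, sl_cf] = 1 :=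
  wG_of_rotate rels relWi_24_s0 [sl_df, sl_ct, sl_gt, sl_ct, sl_gt, sl_df, sl_gf, sl_cf, sl_gf, sl_cf] 4 (by decide +kernel) relone_inv_24_s0
theorem rot163 : wG rels [sl_cf, sl_gt, sl_ct, sl_gt, sl_bt, sl_cf, sl_gt, sl_ct, sl_bf, sl_gt, sl_bt] = 1 :=
  wG_of_rotate rels relW_26 [sl_cf, sl_gt, sl_ct, sl_gt, sl_bt, sl_cf, sl_gt, sl_ct, sl_bf, sl_gt, sl_bt] 8 (by decide +kernel) relone_26
theorem rot164 : wG rels [sl_gt, sl_bt, sl_cf, sl_gt, sl_ct, sl_gt, sl_bt, sl_cf, sl_gt, sl_ct, sl_bf] = 1 :=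
  wG_of_rotate rels relW_26 [sl_gt, sl_bt, sl_cf, sl_gt, sl_ct, sl_gt, sl_bt, sl_cf, sl_gt, sl_ct, sl_bf] 6 (by decide +kernel) relone_26
theorem rot165 : wG rels [sl_bf, sl_gf, sl_cf, sl_gf, sl_ct, sl_bf, sl_gf, sl_bt, sl_cf, sl_gf, sl_ct] = 1 :=
  wG_of_rotate rels relWi_26_s0 [sl_bf, sl_gf, sl_cf, sl_gf, sl_ct, sl_bf, sl_gf, sl_bt, sl_cf, sl_gf, sl_ct] 9 (by decide +kernel) relone_inv_26_s0
theorem rot166 : wG rels [sl_cf, sl_gf, sl_df, sl_gf, sl_df, sl_cf, sl_dt, sl_gt, sl_dt, sl_gt] = 1 :=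
  wG_of_rotate rels relWi_23_s0 [sl_cf, sl_gf, sl_df, sl_gf, sl_df, sl_cf, sl_dt, sl_gt, sl_dt, sl_gt] 9 (by decide +kernel) relone_inv_23_s0
theorem rot167 : wG rels [sl_ef, sl_gf, sl_df, sl_gf, sl_dt, sl_ef, sl_gf, sl_et, sl_df, sl_gf, sl_dt] = 1 :=
  wG_of_rotate rels relWi_27_s0 [sl_ef, sl_gf, sl_df, sl_gf, sl_dt, sl_ef, sl_gf, sl_et, sl_df, sl_gf, sl_dt] 9 (by decide +kernel) relone_inv_27_s0
theorem rot168 : wG rels [sl_df, sl_gt, sl_dt, sl_ef, sl_gt, sl_et, sl_df, sl_gt, sl_dt, sl_gt, sl_et] = 1 :=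
  wG_of_rotate rels relW_27 [sl_df, sl_gt, sl_dt, sl_ef, sl_gt, sl_et, sl_df, sl_gt, sl_dt, sl_gt, sl_et] 2 (by decide +kernel) relone_27
theorem rot169 : wG rels [sl_cf, sl_gf, sl_cf, sl_dt, sl_ct, sl_gt, sl_ct, sl_gt, sl_dt, sl_gf] = 1 :=
  wG_of_rotate rels relW_24 [sl_cf, sl_gf, sl_cf, sl_dt, sl_ct, sl_gt, sl_ct, sl_gt, sl_dt, sl_gf] 2 (by decide +kernel) relone_24
theorem rot170 : wG rels [sl_df, sl_gf, sl_dt, sl_ef, sl_gf, sl_df, sl_gf, sl_dt, sl_ef, sl_gf, sl_et] = 1 :=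
  wG_of_rotate rels relWi_27_s0 [sl_df, sl_gf, sl_dt, sl_ef, sl_gf, sl_df, sl_gf, sl_dt, sl_ef, sl_gf, sl_et] 6 (by decide +kernel) relone_inv_27_s0
theorem rot171 : wG rels [sl_dt, sl_gt, sl_et, sl_df, sl_gt, sl_dt, sl_ef, sl_gt, sl_et, sl_df, sl_gt] = 1 :=
  wG_of_rotate rels relW_27 [sl_dt, sl_gt, sl_et, sl_df, sl_gt, sl_dt, sl_ef, sl_gt, sl_et, sl_df, sl_gt] 10 (by decide +kernel) relone_27
theorem rot172 : wG rels [sl_gf, sl_cf, sl_df, sl_ct, sl_gt, sl_ct, sl_gt, sl_df, sl_gf, sl_cf] = 1 :=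
  wG_of_rotate rels relWi_24_s0 [sl_gf, sl_cf, sl_df, sl_ct, sl_gt, sl_ct, sl_gt, sl_df, sl_gf, sl_cf] 2 (by decide +kernel) relone_inv_24_s0
theorem rot173 : wG rels [sl_dt, sl_ct, sl_dt, sl_ct, sl_dt, sl_ct, sl_dt, sl_ct, sl_dt, sl_ct, sl_dt, sl_ct, sl_dt, sl_ct, sl_dt, sl_ct] = 1 :=
  wG_of_rotate rels relW_12 [sl_dt, sl_ct, sl_dt, sl_ct, sl_dt, sl_ct, sl_dt, sl_ct, sl_dt, sl_ct, sl_dt, sl_ct, sl_dt, sl_ct, sl_dt, sl_ct] 1 (by decide +kernel) relone_12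
theorem rot174 : wG rels [sl_df, sl_cf, sl_dt, sl_gt, sl_dt, sl_gt, sl_cf, sl_gf, sl_df, sl_gf] = 1 :=
  wG_of_rotate rels relWi_23_s0 [sl_df, sl_cf, sl_dt, sl_gt, sl_dt, sl_gt, sl_cf, sl_gf, sl_df, sl_gf] 3 (by decide +kernel) relone_inv_23_s0
theorem rot175 : wG rels [sl_cf, sl_df, sl_ct, sl_gt, sl_ct, sl_gt, sl_df, sl_gf, sl_cf, sl_gf] = 1 :=
  wG_of_rotate rels relWi_24_s0 [sl_cf, sl_df, sl_ct, sl_gt, sl_ct, sl_gt, sl_df, sl_gf, sl_cf, sl_gf] 3 (by decide +kernel) relone_inv_24_s0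
theorem rot176 : wG rels [sl_ct, sl_dt, sl_ct, sl_dt, sl_ct, sl_dt, sl_ct, sl_dt, sl_ct, sl_dt, sl_ct, sl_dt, sl_ct, sl_dt, sl_ct, sl_dt] = 1 :=
  wG_of_rotate rels relW_12 [sl_ct, sl_dt, sl_ct, sl_dt, sl_ct, sl_dt, sl_ct, sl_dt, sl_ct, sl_dt, sl_ct, sl_dt, sl_ct, sl_dt, sl_ct, sl_dt] 0 (by decide +kernel) relone_12
theorem rot177 : wG rels [sl_df, sl_cf, sl_at, sl_ft, sl_df, sl_cf, sl_df, sl_cf, sl_df, sl_cf] = 1 :=
  wG_of_rotate rels relW_22 [sl_df, sl_cf, sl_at, sl_ft, sl_df, sl_cf, sl_df, sl_cf, sl_df, sl_cf] 8 (by decide +kernel) relone_22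
theorem rot178 : wG rels [sl_bt, sl_ct, sl_dt, sl_gt, sl_bt, sl_ct, sl_dt, sl_gt, sl_bt, sl_ct, sl_dt, sl_gt, sl_bt, sl_ct, sl_dt, sl_gt, sl_bt, sl_ct, sl_dt, sl_gt] = 1 :=
  wG_of_rotate rels relW_25 [sl_bt, sl_ct, sl_dt, sl_gt, sl_bt, sl_ct, sl_dt, sl_gt, sl_bt, sl_ct, sl_dt, sl_gt, sl_bt, sl_ct, sl_dt, sl_gt, sl_bt, sl_ct, sl_dt, sl_gt] 0 (by decide +kernel) relone_25
theorem rot179 : wG rels [sl_gf, sl_cf, sl_gf, sl_cf, sl_df, sl_ct, sl_gt, sl_ct, sl_gt, sl_df] = 1 :=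
  wG_of_rotate rels relWi_24_s0 [sl_gf, sl_cf, sl_gf, sl_cf, sl_df, sl_ct, sl_gt, sl_ct, sl_gt, sl_df] 0 (by decide +kernel) relone_inv_24_s0
theorem rot180 : wG rels [sl_gt, sl_cf, sl_gf, sl_df, sl_gf, sl_df, sl_cf, sl_dt, sl_gt, sl_dt] = 1 :=
  wG_of_rotate rels relWi_23_s0 [sl_gt, sl_cf, sl_gf, sl_df, sl_gf, sl_df, sl_cf, sl_dt, sl_gt, sl_dt] 8 (by decide +kernel) relone_inv_23_s0
theorem rot181 : wG rels [sl_gf, sl_cf, sl_gf, sl_ct, sl_bf, sl_gf, sl_bt, sl_cf, sl_gf, sl_ct, sl_bf] = 1 :=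
  wG_of_rotate rels relWi_26_s0 [sl_gf, sl_cf, sl_gf, sl_ct, sl_bf, sl_gf, sl_bt, sl_cf, sl_gf, sl_ct, sl_bf] 10 (by decide +kernel) relone_inv_26_s0
theorem rot182 : wG rels [sl_dt, sl_gt, sl_bt, sl_ct, sl_dt, sl_gt, sl_bt, sl_ct, sl_dt, sl_gt, sl_bt, sl_ct, sl_dt, sl_gt, sl_bt, sl_ct, sl_dt, sl_gt, sl_bt, sl_ct] = 1 :=
  wG_of_rotate rels relW_25 [sl_dt, sl_gt, sl_bt, sl_ct, sl_dt, sl_gt, sl_bt, sl_ct, sl_dt, sl_gt, sl_bt, sl_ct, sl_dt, sl_gt, sl_bt, sl_ct, sl_dt, sl_gt, sl_bt, sl_ct] 2 (by decide +kernel) relone_25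
theorem rot183 : wG rels [sl_df, sl_cf, sl_bf, sl_gf, sl_df, sl_cf, sl_bf, sl_gf, sl_df, sl_cf, sl_bf, sl_gf, sl_df, sl_cf, sl_bf, sl_gf, sl_df, sl_cf, sl_bf, sl_gf] = 1 :=
  wG_of_rotate rels relWi_25_s0 [sl_df, sl_cf, sl_bf, sl_gf, sl_df, sl_cf, sl_bf, sl_gf, sl_df, sl_cf, sl_bf, sl_gf, sl_df, sl_cf, sl_bf, sl_gf, sl_df, sl_cf, sl_bf, sl_gf] 1 (by decide +kernel) relone_inv_25_s0
theorem rot184 : wG rels [sl_bf, sl_gf, sl_df, sl_cf, sl_bf, sl_gf, sl_df, sl_cf, sl_bf, sl_gf, sl_df, sl_cf, sl_bf, sl_gf, sl_df, sl_cf, sl_bf, sl_gf, sl_df, sl_cf] = 1 :=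
  wG_of_rotate rels relWi_25_s0 [sl_bf, sl_gf, sl_df, sl_cf, sl_bf, sl_gf, sl_df, sl_cf, sl_bf, sl_gf, sl_df, sl_cf, sl_bf, sl_gf, sl_df, sl_cf, sl_bf, sl_gf, sl_df, sl_cf] 3 (by decide +kernel) relone_inv_25_s0
theorem rot185 : wG rels [sl_et, sl_df, sl_gt, sl_dt, sl_gt, sl_et, sl_df, sl_gt, sl_dt, sl_ef, sl_gt] = 1 :=
  wG_of_rotate rels relW_27 [sl_et, sl_df, sl_gt, sl_dt, sl_gt, sl_et, sl_df, sl_gt, sl_dt, sl_ef, sl_gt] 7 (by decide +kernel) relone_27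
theorem rot186 : wG rels [sl_ct, sl_gt, sl_df, sl_gf, sl_cf, sl_gf, sl_cf, sl_df, sl_ct, sl_gt] = 1 :=
  wG_of_rotate rels relWi_24_s0 [sl_ct, sl_gt, sl_df, sl_gf, sl_cf, sl_gf, sl_cf, sl_df, sl_ct, sl_gt] 7 (by decide +kernel) relone_inv_24_s0
theorem rot187 : wG rels [sl_gt, sl_ct, sl_gt, sl_df, sl_gf, sl_cf, sl_gf, sl_cf, sl_df, sl_ct] = 1 :=
  wG_of_rotate rels relWi_24_s0 [sl_gt, sl_ct, sl_gt, sl_df, sl_gf, sl_cf, sl_gf, sl_cf, sl_df, sl_ct] 6 (by decide +kernel) relone_inv_24_s0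
theorem rot188 : wG rels [sl_cf, sl_gf, sl_cf, sl_df, sl_ct, sl_gt, sl_ct, sl_gt, sl_df, sl_gf] = 1 :=
  wG_of_rotate rels relWi_24_s0 [sl_cf, sl_gf, sl_cf, sl_df, sl_ct, sl_gt, sl_ct, sl_gt, sl_df, sl_gf] 1 (by decide +kernel) relone_inv_24_s0
theorem rot189 : wG rels [sl_gt, sl_dt, sl_gt, sl_cf, sl_gf, sl_df, sl_gf, sl_df, sl_cf, sl_dt] = 1 :=
  wG_of_rotate rels relWi_23_s0 [sl_gt, sl_dt, sl_gt, sl_cf, sl_gf, sl_df, sl_gf, sl_df, sl_cf, sl_dt] 6 (by decide +kernel) relone_inv_23_s0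
theorem rot190 : wG rels [sl_gt, sl_bt, sl_ct, sl_dt, sl_gt, sl_bt, sl_ct, sl_dt, sl_gt, sl_bt, sl_ct, sl_dt, sl_gt, sl_bt, sl_ct, sl_dt, sl_gt, sl_bt, sl_ct, sl_dt] = 1 :=
  wG_of_rotate rels relW_25 [sl_gt, sl_bt, sl_ct, sl_dt, sl_gt, sl_bt, sl_ct, sl_dt, sl_gt, sl_bt, sl_ct, sl_dt, sl_gt, sl_bt, sl_ct, sl_dt, sl_gt, sl_bt, sl_ct, sl_dt] 3 (by decide +kernel) relone_25
theorem rot191 : wG rels [sl_ct, sl_dt, sl_gt, sl_bt, sl_ct, sl_dt, sl_gt, sl_bt, sl_ct, sl_dt, sl_gt, sl_bt, sl_ct, sl_dt, sl_gt, sl_bt, sl_ct, sl_dt, sl_gt, sl_bt] = 1 :=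
  wG_of_rotate rels relW_25 [sl_ct, sl_dt, sl_gt, sl_bt, sl_ct, sl_dt, sl_gt, sl_bt, sl_ct, sl_dt, sl_gt, sl_bt, sl_ct, sl_dt, sl_gt, sl_bt, sl_ct, sl_dt, sl_gt, sl_bt] 1 (by decide +kernel) relone_25

end

end Cfsg.Agent.Helper28.S1692
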